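import Groth.Statements.S7077
import Mathlib
import Groth.Agent.H4.TwoTerm3
import Groth.Agent.H4.KHom3

set_option autoImplicit false
universe u
attribute [local instance] HasDerivedCategory.standard
open CategoryTheory
open DRing

namespace Groth.Agent.S7077

open DerivedCategory Groth.Agent.H4.TwoTerm Groth.Agent.H4.KHom


variable {R : Type u} [CommRing R]

lemma fwd (K : Dual.D R) (hK : ∀ i : ℤ, i ≠ -1 → i ≠ 0 → Subsingleton (Dual.HD R K i))
    (h1 : Subsingleton (Dual.HD R K (-1))) (h0 : Module.Projective R (Dual.HD R K 0))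
    (M : Type u) [AddCommGroup M] [Module R M] (φ : K ⟶ (Dual.inD R M)⟦(1 : ℤ)⟧) : φ = 0 := by
  haveI : K.IsGE 0 := isGE_of_subsingleton K 0 (fun i hi => by
    by_cases h : i = -1
    · subst h; exact h1
    · exact hK i h (by omega))
  haveI : K.IsLE 0 := isLE_of_subsingleton K 0 (fun i hi => hK i (by omega) (by omega))
  obtain ⟨Y, ⟨e⟩⟩ := exists_iso_singleFunctor_obj_of_isGE_of_isLE K 0
  have eY : (homologyFunctor (ModuleCat.{u} R) 0).obj K ≅ Y :=
    (homologyFunctor (ModuleCat.{u} R) 0).mapIso e ≪≫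
      (singleFunctorCompHomologyFunctorIso (ModuleCat.{u} R) 0).app Y
  haveI : Module.Projective R Y := Module.Projective.of_equiv eY.toLinearEquiv
  let S : Cx R := (HomologicalComplex.single (ModuleCat.{u} R) (ComplexShape.up ℤ) 0).obj Y
  let ι : (singleFunctor (ModuleCat.{u} R) 0).obj Y ≅ Q.obj S :=
    (singleFunctorIsoCompQ (ModuleCat.{u} R) 0).app Y
  haveI : Module.Projective R (S.X 0) := Module.Projective.of_equiv
    (HomologicalComplex.singleObjXSelf (ComplexShape.up ℤ) 0 Y).toLinearEquiv.symm
  obtain ⟨f, hf⟩ := exists_Q_map_eq S (sh (ModuleCat.of R M))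
    (fun i hi => HomologicalComplex.isZero_single_obj_X _ _ _ _ (by omega)) inferInstance
    (fun i hi => sh_isZero _ i (by omega))
    (ι.inv ≫ e.inv ≫ φ ≫ (shIso (ModuleCat.of R M)).hom)
  have hf0 : f = 0 := by
    apply HomologicalComplex.hom_ext
    intro i
    by_cases hi : i = -1
    · subst hi
      exact (HomologicalComplex.isZero_single_obj_X (ComplexShape.up ℤ) 0 Y (-1) (by simp)).eq_of_src _ _
    · exact (sh_isZero _ i hi).eq_of_tgt _ _
  rw [hf0, Functor.map_zero] at hf
  have : φ = e.hom ≫ ι.hom ≫ (ι.inv ≫ e.inv ≫ φ ≫ (shIso (ModuleCat.of R M)).hom) ≫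
      (shIso (ModuleCat.of R M)).inv := by
    simp only [Category.assoc, Iso.hom_inv_id, Category.comp_id, Iso.hom_inv_id_assoc]
  rw [this, ← hf, Limits.zero_comp, Limits.comp_zero, Limits.comp_zero]

/-- (1)⇔(2): let R be a commutative ring and K an object of D(R) whose cohomology modules vanish outside
degrees -1 and 0. Then H^{-1}(K) vanishes and H^0(K) is a projective R-module if and only if
Ext^1_R(K, M) = Hom_{D(R)}(K, M[1]) vanishes for every R-module M. -/
theorem result {R : Type u} [CommRing R] (K : Dual.D R)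
    (hK : ∀ i : ℤ, i ≠ -1 → i ≠ 0 → Subsingleton (Dual.HD R K i)) :
    (Subsingleton (Dual.HD R K (-1)) ∧ Module.Projective R (Dual.HD R K 0)) ↔
      ∀ (M : Type u) [AddCommGroup M] [Module R M], Subsingleton (K ⟶ (Dual.inD R M)⟦(1 : ℤ)⟧) := by
  constructor
  · rintro ⟨h1, h0⟩ M _ _
    exact ⟨fun φ ψ => (fwd K hK h1 h0 M φ).trans (fwd K hK h1 h0 M ψ).symm⟩
  · intro H
    obtain ⟨A, F, δ, hF, ⟨ε⟩⟩ := exists_twoTerm_free K hK
    let E := tt δ
    have hE := tt_vanishes δ
    haveI : Module.Free R (E.X 0) := Module.Free.of_equiv (ttX0 δ).symm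
    have hE0 : Module.Projective R (E.X 0) := inferInstance
    have hE' : ∀ i : ℤ, i < -1 → Limits.IsZero (E.X i) := fun i hi => hE i (Or.inl hi)
    let c := toSh E hE'
    have h2 : Q.map c = 0 := by
      have h1 := (H (E.X (-1))).elim (ε.inv ≫ Q.map c ≫ (shIso (E.X (-1))).inv) 0
      have := congrArg (fun ψ => ε.hom ≫ ψ ≫ (shIso (E.X (-1))).hom) h1
      simp only [Category.assoc, Iso.inv_hom_id, Category.comp_id, Iso.hom_inv_id_assoc,
        Limits.zero_comp, Limits.comp_zero] at this
      exact this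
    obtain ⟨g, hg⟩ := exists_factor_of_Q_map_eq_zero E (fun i hi => hE i (Or.inr hi)) hE0 _ _ h2
    let r : E.X 0 ⟶ E.X (-1) :=
      g ≫ (HomologicalComplex.singleObjXSelf (ComplexShape.up ℤ) (-1) (E.X (-1))).hom
    have hr : E.d (-1) 0 ≫ r = 𝟙 _ := by
      rw [← Category.assoc, ← hg, toSh_f, Iso.inv_hom_id]
    constructor
    · -- H^{-1} vanishes
      have hex : E.ExactAt (-1) := by
        rw [HomologicalComplex.exactAt_iff' E (-2) (-1) 0 (by simp) (by simp),
          ShortComplex.moduleCat_exact_iff]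
        intro x hx
        refine ⟨0, ?_⟩
        have hx' : (E.d (-1) 0).hom x = 0 := hx
        have := congrArg (fun ψ => ψ.hom x) hr
        change r.hom ((E.d (-1) 0).hom x) = x at this
        rw [hx', map_zero] at this
        rw [map_zero]
        exact this
      have hz : Limits.IsZero ((homologyFunctor (ModuleCat.{u} R) (-1)).obj K) :=
        Limits.IsZero.of_iso (hex.isZero_homology)
          ((homologyFunctor (ModuleCat.{u} R) (-1)).mapIso ε.symm ≪≫
            (homologyFunctorFactors (ModuleCat.{u} R) (-1)).app E)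
      exact ModuleCat.subsingleton_of_isZero hz
    · -- H^0 projective
      have hι : IsIso (E.homologyι 0) := E.isIso_homologyι 0 1 (by simp)
        ((hE 1 (Or.inr (by simp))).eq_of_tgt _ _)
      have eo : (homologyFunctor (ModuleCat.{u} R) 0).obj K ≅ E.opcycles 0 :=
        (homologyFunctor (ModuleCat.{u} R) 0).mapIso ε.symm ≪≫
          (homologyFunctorFactors (ModuleCat.{u} R) 0).app E ≪≫ (@asIso _ _ _ _ (E.homologyι 0) hι)
      let i : E.opcycles 0 ⟶ E.X 0 := E.descOpcycles (𝟙 _ - r ≫ E.d (-1) 0) (-1) (by simp) (by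
        rw [Preadditive.comp_sub, Category.comp_id, ← Category.assoc, hr, Category.id_comp, sub_self])
      have hi : i ≫ E.pOpcycles 0 = 𝟙 _ := by
        rw [← cancel_epi (E.pOpcycles 0)]
        simp only [i, HomologicalComplex.p_descOpcycles_assoc, Category.comp_id]
        rw [Preadditive.sub_comp, Category.id_comp, Category.assoc, E.d_pOpcycles, Limits.comp_zero,
          sub_zero]
      haveI : Module.Projective R (E.opcycles 0) :=
        Module.Projective.of_split i.hom (E.pOpcycles 0).hom (by
          have := congrArg ModuleCat.Hom.hom hi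
          simpa using this)
      exact Module.Projective.of_equiv eo.toLinearEquiv.symm


end Groth.Agent.S7077
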