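import Groth.Statements.S6948
import Groth.Agent.H4.LDer4

set_option autoImplicit false
universe u
open CategoryTheory CategoryTheory.Limits
attribute [local instance] HasDerivedCategory.standard
open DRing

namespace Groth.Agent.S6948

open CategoryTheory DRing

attribute [local instance] HasDerivedCategory.standard
open DerivedCategory Groth.Agent.H4.LDer Groth.Agent.H4.DRing1 Groth.Agent.H4.PC Groth.Agent.H4.ResP

/-- Let A → B be a homomorphism of commutative rings such that the derived base change D(A) → D(B)
exists, and let K be an object of D(A) with tor amplitude in [a, b]. Then K ⊗^L_A B has tor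
amplitude in [a, b] as an object of D(B). -/
theorem result {A B : Type u} [CommRing A] [CommRing B] (φ : A →+* B)
    [DRing.HasLBaseChange φ] (K : Dual.D A) (a b : ℤ) (hK : DRing.HasTorAmplitudeIn A a b K) :
    DRing.HasTorAmplitudeIn B a b ((DRing.LBaseChange φ).obj K) := by
  obtain ⟨F, hz, hfl, ⟨e⟩⟩ := hK
  have hF : IsBAFlat b F := ⟨fun i hi => hz i (Or.inr hi), hfl⟩
  refine ⟨(GC (ModuleCat.extendScalars φ)).obj F, ?_, ?_,
    ⟨(isoOfFlat (flatExact_extendScalars φ) hF e).symm⟩⟩
  · intro i hi
    exact (ModuleCat.extendScalars φ).map_isZero (hz i hi)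
  · intro i
    haveI := hfl i
    exact Groth.Agent.H4.ExtS.flat_obj φ (F.X i)


end Groth.Agent.S6948
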