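import Groth.Statements.S7048
import Mathlib
import Groth.Agent.H4.DComp3

set_option autoImplicit false
universe u
attribute [local instance] HasDerivedCategory.standard
open DRing

namespace Groth.Agent.S7048

open Groth.Agent.H4.DComp


lemma pow_smul_mem {A : Type u} [CommRing A] (I : Ideal A) {M : Type u} [AddCommGroup M] [Module A M]
    (f : A) (hf : f ∈ I) (k : ℕ) (z : M) : f ^ k • z ∈ (I ^ k • ⊤ : Submodule A M) :=
  Submodule.smul_mem_smul (Ideal.pow_mem_pow hf k) Submodule.mem_top

/-- For a commutative ring A, an ideal I and an A-module M which is I-adically complete, the object M[0]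
of D(A) is derived complete with respect to I. -/
theorem result {A : Type u} [CommRing A] (I : Ideal A)
    (M : Type u) [AddCommGroup M] [Module A M] [IsAdicComplete I M] :
    DRing.IsDerivedComplete I (Dual.inD A M) := by
  rw [isDerivedComplete_inD_iff]
  intro f hf
  constructor
  · rw [Psi_injective_iff]
    intro x hx
    have h1 : ∀ n, x n = f • x (n + 1) := by
      intro n
      have := congrFun hx n
      simp only [Psi_apply, Pi.zero_apply] at this
      exact sub_eq_zero.1 this
    have h2 : ∀ k n, x n = f ^ k • x (n + k) := by
      intro k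
      induction k with
      | zero => intro n; simp
      | succ k ih =>
        intro n
        rw [ih n, h1 (n + k), smul_smul, pow_succ, add_assoc]
    funext n
    apply IsHausdorff.haus (inferInstance : IsHausdorff I M)
    intro k
    rw [SModEq.sub_mem, sub_zero, h2 k n]
    exact pow_smul_mem I f hf k _
  · intro y
    let s : ℕ → ℕ → M := fun n k => ∑ j ∈ Finset.range k, f ^ j • y (n + j)
    have hs1 : ∀ n k, s n (k + 1) = s n k + f ^ k • y (n + k) := fun n k =>
      Finset.sum_range_succ _ _
    have hs2 : ∀ n k, s n (k + 1) = y n + f • s (n + 1) k := by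
      intro n k
      change ∑ j ∈ Finset.range (k + 1), f ^ j • y (n + j) = _
      rw [Finset.sum_range_succ', pow_zero, one_smul, add_zero, add_comm]
      congr 1
      rw [Finset.smul_sum]
      apply Finset.sum_congr rfl
      intro j _
      rw [smul_smul, pow_succ, mul_comm, add_assoc, add_comm 1 j]
    have hcauchy : ∀ n {k l : ℕ}, k ≤ l → s n k ≡ s n l [SMOD (I ^ k • ⊤ : Submodule A M)] := by
      intro n k l hkl
      induction l, hkl using Nat.le_induction with
      | base => exact SModEq.refl _
      | succ l hkl ih =>
        refine ih.trans ?_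
        rw [SModEq.sub_mem, hs1, sub_add_cancel_left]
        apply Submodule.neg_mem
        exact Submodule.smul_mono_left (Ideal.pow_le_pow_right hkl) (pow_smul_mem I f hf l _)
    have hlim : ∀ n, ∃ L : M, ∀ k, s n k ≡ L [SMOD (I ^ k • ⊤ : Submodule A M)] := fun n =>
      IsPrecomplete.prec (inferInstance : IsPrecomplete I M) (fun {k l} hkl => hcauchy n hkl)
    choose x hx using hlim
    refine ⟨x, ?_⟩
    funext n
    simp only [Psi_apply]
    rw [← sub_eq_zero]
    apply IsHausdorff.haus (inferInstance : IsHausdorff I M)
    intro k
    rw [SModEq.sub_mem, sub_zero]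
    have e1 : x n - s n (k + 1) ∈ (I ^ k • ⊤ : Submodule A M) := by
      have := (hx n (k + 1)).symm
      rw [SModEq.sub_mem] at this
      exact Submodule.smul_mono_left (Ideal.pow_le_pow_right (Nat.le_succ k)) this
    have e2 : f • (x (n + 1) - s (n + 1) k) ∈ (I ^ k • ⊤ : Submodule A M) := by
      have := (hx (n + 1) k).symm
      rw [SModEq.sub_mem] at this
      exact Submodule.smul_mem _ _ this
    have : x n - f • x (n + 1) - y n = (x n - s n (k + 1)) - f • (x (n + 1) - s (n + 1) k) := by
      rw [hs2, smul_sub]
      abel
    rw [this]
    exact Submodule.sub_mem _ e1 e2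


end Groth.Agent.S7048
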