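import Groth.Statements.S7127
import Mathlib
import Groth.Agent.H4.WEt

set_option autoImplicit false
universe u
open EtAlg

namespace Groth.Agent.S7127

open TensorProduct

theorem flat_lmul'_of_surjective {R S : Type u} [CommRing R] [CommRing S] [Algebra R S]
    (h : Function.Surjective (algebraMap R S)) :
    (Algebra.TensorProduct.lmul' R (S := S)).Flat := by
  refine RingHom.Flat.of_bijective ⟨?_, fun s => ⟨s ⊗ₜ 1, by simp⟩⟩
  haveI := Algebra.isEpi_of_surjective_algebraMap R S h
  exact Algebra.IsEpi.injective_lift_mul (R := R) (A := S)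

theorem flat_of_surjective_of_comp {R S N : Type u} [CommRing R] [CommRing S] [CommRing N]
    (ψ : R →+* S) (hψ : Function.Surjective ψ) (g : S →+* N) (hf : (g.comp ψ).Flat) : g.Flat := by
  letI i1 : Algebra R S := ψ.toAlgebra
  letI i2 : Algebra S N := g.toAlgebra
  letI i3 : Algebra R N := (g.comp ψ).toAlgebra
  haveI : IsScalarTower R S N := IsScalarTower.of_algebraMap_eq (fun _ => rfl)
  haveI : Module.Flat R N := hf
  exact Groth.Agent.H4.WEt.main (A := R) (B := S) (N := N) (flat_lmul'_of_surjective hψ)

/-- Let A be a ring and B → C an A-algebra homomorphism between weakly étale A-algebras. Then C is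
weakly étale over B. -/
theorem result (A B C : Type u) [CommRing A] [CommRing B] [CommRing C]
    [Algebra A B] [Algebra A C] [Algebra B C] [IsScalarTower A B C] [Algebra.WeaklyEtale A B]
    [Algebra.WeaklyEtale A C] : Algebra.WeaklyEtale B C := by
  haveI hflat : Module.Flat B C :=
    Groth.Agent.H4.WEt.main (A := A) (B := B) (N := C) (Algebra.WeaklyEtale.flat_lmul' A B)
  refine ⟨hflat, ?_⟩
  let ψ : C ⊗[A] C →ₐ[A] C ⊗[B] C := Algebra.TensorProduct.mapOfCompatibleSMul B A A C C
  have hsurj : Function.Surjective ψ.toRingHom :=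
    Algebra.TensorProduct.mapOfCompatibleSMul_surjective B A A C C
  have hcomp : (Algebra.TensorProduct.lmul' B (S := C)).toRingHom.comp ψ.toRingHom =
      (Algebra.TensorProduct.lmul' A (S := C)).toRingHom := by
    apply RingHom.ext
    intro z
    induction z using TensorProduct.induction_on with
    | zero => simp
    | tmul x y => rfl
    | add a b ha hb => rw [map_add, map_add, ha, hb]
  refine flat_of_surjective_of_comp ψ.toRingHom hsurj _ ?_
  rw [hcomp]
  exact Algebra.WeaklyEtale.flat_lmul' A C


end Groth.Agent.S7127
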