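import Groth.Statements.S7128
import Mathlib
import Groth.Agent.H4.WEt

set_option autoImplicit false
universe u
open EtAlg

namespace Groth.Agent.S7128

open TensorProduct

/-- von Neumann regular (commutative) -/
def VNR (K : Type u) [CommRing K] : Prop := ∀ a : K, ∃ a' : K, a = a * a * a'

theorem vnr_fg_ideal {K : Type u} [CommRing K] (hK : VNR K) (I : Ideal K) (hI : I.FG) :
    ∃ e : K, e * e = e ∧ I = Ideal.span {e} := by
  induction I, hI using Submodule.fg_induction with
  | singleton x =>
    obtain ⟨x', hx'⟩ := hK x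
    refine ⟨x * x', ?_, ?_⟩
    · calc x * x' * (x * x') = (x * x * x') * x' := by ring
        _ = x * x' := by rw [← hx']
    · apply le_antisymm
      · show Ideal.span {x} ≤ Ideal.span {x * x'}
        rw [Ideal.span_singleton_le_span_singleton]
        exact ⟨x, by
          calc x = x * x * x' := hx'
            _ = x * x' * x := by ring⟩
      · show Ideal.span {x * x'} ≤ Ideal.span {x}
        rw [Ideal.span_singleton_le_span_singleton]
        exact ⟨x', rfl⟩
  | sup I₁ I₂ _ _ h₁ h₂ =>
    obtain ⟨e, he, rfl⟩ := h₁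
    obtain ⟨f, hf, rfl⟩ := h₂
    refine ⟨e + f - e * f, ?_, ?_⟩
    · have : (e + f - e * f) * (e + f - e * f) =
          e * e + f * f + (e * e) * (f * f) + 2 * (e * f) - 2 * ((e * e) * f) - 2 * (e * (f * f)) := by
        ring
      rw [this, he, hf]; ring
    · apply le_antisymm
      · refine sup_le ?_ ?_
        · rw [Ideal.span_singleton_le_span_singleton]
          refine ⟨e, ?_⟩
          have : (e + f - e * f) * e = e * e + f * e - (e * e) * f := by ring
          rw [this, he]; ring
        · rw [Ideal.span_singleton_le_span_singleton]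
          refine ⟨f, ?_⟩
          have : (e + f - e * f) * f = e * f + f * f - e * (f * f) := by ring
          rw [this, hf]; ring
      · rw [Ideal.span_le, Set.singleton_subset_iff]
        refine Ideal.sub_mem _ (Ideal.add_mem _ ?_ ?_) ?_
        · exact Ideal.mem_sup_left (Ideal.subset_span rfl)
        · exact Ideal.mem_sup_right (Ideal.subset_span rfl)
        · exact Ideal.mem_sup_left (Ideal.mul_mem_right _ _ (Ideal.subset_span rfl))

theorem vnr_flat {K : Type u} [CommRing K] (hK : VNR K) (M : Type u) [AddCommGroup M]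
    [Module K M] : Module.Flat K M := by
  rw [Module.Flat.iff_rTensor_injective]
  intro I hI
  obtain ⟨e, he, rfl⟩ := vnr_fg_ideal hK I hI
  let r : K →ₗ[K] (Ideal.span {e} : Ideal K) :=
    LinearMap.codRestrict _ (LinearMap.mulRight K e)
      (fun x => Ideal.mul_mem_left _ _ (Ideal.subset_span rfl))
  have hr : r ∘ₗ (Submodule.subtype (Ideal.span {e} : Ideal K)) = LinearMap.id := by
    ext ⟨y, hy⟩
    obtain ⟨c, rfl⟩ := Ideal.mem_span_singleton'.mp hy
    show c * e * e = c * e
    rw [mul_assoc, he]
  have h2 : (LinearMap.rTensor M r) ∘ₗ (LinearMap.rTensor M (Submodule.subtype _)) =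
      LinearMap.id := by
    rw [← LinearMap.rTensor_comp, hr, LinearMap.rTensor_id]
  exact Function.LeftInverse.injective (g := LinearMap.rTensor M r)
    (fun x => LinearMap.congr_fun h2 x)

theorem vnr_pi {ι : Type u} (k : ι → Type u) [∀ i, Field (k i)] : VNR (∀ i, k i) := by
  intro a
  refine ⟨fun i => (a i)⁻¹, ?_⟩
  ext i
  by_cases h : a i = 0
  · simp [h]
  · simp [h]

theorem reduced_of_vnr {K L : Type u} [CommRing K] [CommRing L] [Algebra K L] (hK : VNR K)
    (h : (Algebra.TensorProduct.lmul' K (S := L)).Flat) : IsReduced L := by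
  rw [isReduced_iff_pow_one_lt 2 one_lt_two]
  intro x hx
  let I : Ideal L := Ideal.span {x}
  haveI : Module.Flat K (L ⧸ I) := vnr_flat hK _
  haveI : I.Pure := Groth.Agent.H4.WEt.main (A := K) (B := L) (N := L ⧸ I) h
  obtain ⟨y, hy, hxy⟩ := Ideal.exists_eq_mul_of_pure (I := I) (Ideal.subset_span rfl : x ∈ I)
  obtain ⟨c, rfl⟩ := Ideal.mem_span_singleton'.mp hy
  rw [hxy]
  calc x * (c * x) = c * x ^ 2 := by ring
    _ = 0 := by rw [hx, mul_zero]

/-- A weakly étale algebra over a reduced ring is itself reduced. -/
theorem result (A B : Type u) [CommRing A] [CommRing B] [Algebra A B] [IsReduced A]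
    [Algebra.WeaklyEtale A B] : IsReduced B := by
  let K := ∀ p : PrimeSpectrum A, p.asIdeal.ResidueField
  have hK : VNR K := vnr_pi _
  have hinj : Function.Injective (algebraMap A K) := by
    rw [injective_iff_map_eq_zero]
    intro a ha
    have h1 : ∀ p : PrimeSpectrum A, a ∈ p.asIdeal := fun p => by
      have h0 : algebraMap A p.asIdeal.ResidueField a = 0 := congrFun ha p
      exact (Ideal.algebraMap_residueField_eq_zero).mp h0
    have h2 : a ∈ nilradical A := by
      rw [nilradical_eq_sInf, Ideal.mem_sInf]
      intro p hp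
      exact h1 ⟨p, hp⟩
    exact IsReduced.eq_zero a h2
  haveI : IsReduced (K ⊗[A] B) :=
    reduced_of_vnr hK (Algebra.WeaklyEtale.flat_lmul' K (K ⊗[A] B))
  exact isReduced_of_injective (Algebra.TensorProduct.includeRight : B →ₐ[A] K ⊗[A] B)
    (Algebra.TensorProduct.includeRight_injective hinj)


end Groth.Agent.S7128
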