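import Groth.Statements.S7405
import Mathlib
import Groth.Agent.Lib.Helper1.UnivHomeo
import Groth.Agent.H4.IndEtCrit

set_option autoImplicit false
universe u
open CategoryTheory AlgebraicGeometry
open Mor

namespace Groth.Agent.S7405

open CategoryTheory CategoryTheory.Limits AlgebraicGeometry TensorProduct
open Groth.Agent.H4.IndEtElems Groth.Agent.H4.IndEtCrit


lemma univClosed_SpecMap_iff {R S : CommRingCat.{u}} (φ : R ⟶ S) :
    UniversallyClosed (Spec.map φ) ↔ φ.hom.IsIntegral := by
  rw [← IsIntegralHom.SpecMap_iff]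
  constructor
  · intro h
    exact IsIntegralHom.iff_universallyClosed_and_isAffineHom.mpr ⟨h, inferInstance⟩
  · intro h
    infer_instance

lemma surjective_SpecMap_iff {R S : CommRingCat.{u}} (φ : R ⟶ S) :
    Surjective (Spec.map φ) ↔ Function.Surjective (PrimeSpectrum.comap φ.hom) := by
  rw [surjective_iff]
  rfl

lemma univInj_SpecMap_iff {R S : CommRingCat.{u}} (φ : R ⟶ S) :
    UniversallyInjective (Spec.map φ) ↔
      (letI := φ.hom.toAlgebra; ∀ x : S ⊗[R] S, Algebra.TensorProduct.lmul' R (S := S) x = 0 → IsNilpotent x) := by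
  algebraize [φ.hom]
  have : φ = CommRingCat.ofHom (algebraMap R S) := rfl
  rw [UniversallyInjective.iff_diagonal, this, AlgebraicGeometry.diagonal_SpecMap R S,
    MorphismProperty.cancel_right_of_respectsIso (P := @Surjective), surjective_SpecMap_iff]
  have hsurj : Function.Surjective (Algebra.TensorProduct.lmul' R (S := S)).toRingHom :=
    fun s => ⟨s ⊗ₜ 1, by simp⟩
  rw [← Set.range_eq_univ]
  show Set.range (PrimeSpectrum.comap (Algebra.TensorProduct.lmul' R (S := S)).toRingHom) = Set.univ ↔ _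
  rw [_root_.range_comap_of_surjective _ _ hsurj]
  constructor
  · intro h x hx
    rw [← mem_nilradical, nilradical_eq_sInf, Ideal.mem_sInf]
    intro p hp
    have : (⟨p, hp⟩ : PrimeSpectrum (S ⊗[R] S)) ∈ PrimeSpectrum.zeroLocus
        (RingHom.ker (Algebra.TensorProduct.lmul' R (S := S)).toRingHom : Set (S ⊗[R] S)) := by
      rw [h]; trivial
    exact this hx
  · intro h
    rw [Set.eq_univ_iff_forall]
    intro p x hx
    obtain ⟨n, hn⟩ := h x hx
    exact p.isPrime.mem_of_pow_mem n (by rw [hn]; exact zero_mem _)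



/-- evaluation at a point of Spec R -/
noncomputable def ev (R : CommRingCat.{u}) (x : Spec R) : R →+* (Spec R).residueField x :=
  ((Scheme.ΓSpecIso R).inv ≫ (Spec R).Γevaluation x).hom

lemma ev_eq (R : CommRingCat.{u}) (x : Spec R) (a : R) :
    ev R x a = (Scheme.Spec.residueFieldIso R x).inv (algebraMap R x.asIdeal.ResidueField a) := by
  have h := Scheme.Spec.algebraMap_residueFieldIso_inv R x
  exact (congrArg (fun ψ => ψ.hom a) h).symm

lemma iso_inv_injective (R : CommRingCat.{u}) (x : Spec R) :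
    Function.Injective (Scheme.Spec.residueFieldIso R x).inv := by
  intro a b hab
  have h : (Scheme.Spec.residueFieldIso R x).inv ≫ (Scheme.Spec.residueFieldIso R x).hom = 𝟙 _ := Iso.inv_hom_id _
  have ha := congrArg (fun ψ => ψ.hom a) h
  have hb := congrArg (fun ψ => ψ.hom b) h
  simp only [CommRingCat.hom_comp, RingHom.coe_comp, Function.comp_apply] at ha hb
  have := congrArg (Scheme.Spec.residueFieldIso R x).hom hab
  rw [ha, hb] at this
  exact this

lemma ev_eq_zero_iff (R : CommRingCat.{u}) (x : Spec R) (a : R) :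
    ev R x a = 0 ↔ a ∈ x.asIdeal := by
  rw [ev_eq, ← Ideal.algebraMap_residueField_eq_zero (I := x.asIdeal)]
  constructor
  · intro h
    apply iso_inv_injective R x
    rw [h, map_zero]
  · intro h
    rw [h, map_zero]

lemma ev_exists (R : CommRingCat.{u}) (x : Spec R) (t : (Spec R).residueField x) :
    ∃ a s : R, s ∉ x.asIdeal ∧ t * ev R x s = ev R x a := by
  obtain ⟨a', s', hs', ht⟩ := IsFractionRing.div_surjective (A := R ⧸ x.asIdeal)
    ((Scheme.Spec.residueFieldIso R x).hom t)
  obtain ⟨a, rfl⟩ := Ideal.Quotient.mk_surjective a'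
  obtain ⟨s, rfl⟩ := Ideal.Quotient.mk_surjective s'
  have hs : s ∉ x.asIdeal := by
    intro hs
    have : (Ideal.Quotient.mk x.asIdeal) s = 0 := Ideal.Quotient.eq_zero_iff_mem.mpr hs
    rw [this] at hs'
    exact zero_notMem_nonZeroDivisors hs'
  refine ⟨a, s, hs, ?_⟩
  have h1 : algebraMap (R ⧸ x.asIdeal) x.asIdeal.ResidueField (Ideal.Quotient.mk x.asIdeal a) =
      algebraMap R x.asIdeal.ResidueField a := rfl
  have h2 : algebraMap (R ⧸ x.asIdeal) x.asIdeal.ResidueField (Ideal.Quotient.mk x.asIdeal s) =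
      algebraMap R x.asIdeal.ResidueField s := rfl
  rw [h1, h2] at ht
  have hne : algebraMap R x.asIdeal.ResidueField s ≠ 0 := by
    rw [Ne, Ideal.algebraMap_residueField_eq_zero]; exact hs
  have ht' : (Scheme.Spec.residueFieldIso R x).hom t * algebraMap R x.asIdeal.ResidueField s =
      algebraMap R x.asIdeal.ResidueField a := by
    rw [← ht, div_mul_cancel₀ _ hne]
  have h : (Scheme.Spec.residueFieldIso R x).hom ≫ (Scheme.Spec.residueFieldIso R x).inv = 𝟙 _ := Iso.hom_inv_id _
  have htt := congrArg (fun ψ => ψ.hom t) h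
  simp only [CommRingCat.hom_comp, RingHom.coe_comp, Function.comp_apply] at htt
  have := congrArg (Scheme.Spec.residueFieldIso R x).inv ht'
  rw [map_mul, htt] at this
  rw [ev_eq, ev_eq]
  exact this

lemma ev_naturality {R S : CommRingCat.{u}} (φ : R ⟶ S) (x : Spec S) (a : R) :
    (Spec.map φ).residueFieldMap x (ev R (Spec.map φ x) a) = ev S x (φ a) := by
  have h1 := Scheme.Γevaluation_naturality (Spec.map φ) x
  have h2 := Scheme.ΓSpecIso_inv_naturality φ
  have h3 : ((Scheme.ΓSpecIso R).inv ≫ (Spec R).Γevaluation (Spec.map φ x)) ≫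
      (Spec.map φ).residueFieldMap x = φ ≫ ((Scheme.ΓSpecIso S).inv ≫ (Spec S).Γevaluation x) := by
    rw [Category.assoc, h1, ← Category.assoc, ← h2, Category.assoc]
  exact congrArg (fun ψ => ψ.hom a) h3

lemma resField_surj_iff {R S : CommRingCat.{u}} (φ : R ⟶ S) (x : Spec S) :
    Function.Surjective ((Spec.map φ).residueFieldMap x) ↔
      ∀ b : S, ∃ a s : R, φ s ∉ x.asIdeal ∧ φ s * b - φ a ∈ x.asIdeal := by
  constructor
  · intro h b
    obtain ⟨u, hu⟩ := h (ev S x b)
    obtain ⟨a, s, hs, hus⟩ := ev_exists R (Spec.map φ x) u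
    refine ⟨a, s, hs, ?_⟩
    have := congrArg ((Spec.map φ).residueFieldMap x) hus
    rw [map_mul, hu, ev_naturality, ev_naturality, ← map_mul, ← sub_eq_zero, ← map_sub,
      ev_eq_zero_iff] at this
    rw [mul_comm]
    exact this
  · intro h t
    obtain ⟨b', s', hs', ht⟩ := ev_exists S x t
    obtain ⟨a₁, s₁, hs₁, h₁⟩ := h b'
    obtain ⟨a₂, s₂, hs₂, h₂⟩ := h s'
    rw [← ev_eq_zero_iff, map_sub, sub_eq_zero, map_mul] at h₁ h₂
    have e1 : ev S x (φ s₁) ≠ 0 := by rw [Ne, ev_eq_zero_iff]; exact hs₁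
    have e2 : ev S x (φ s₂) ≠ 0 := by rw [Ne, ev_eq_zero_iff]; exact hs₂
    have e3 : ev S x s' ≠ 0 := by rw [Ne, ev_eq_zero_iff]; exact hs'
    have e4 : ev S x (φ a₂) ≠ 0 := by rw [← h₂]; exact mul_ne_zero e2 e3
    let y := Spec.map φ x
    have n1 : ev R y s₁ ≠ 0 := by
      intro h0; apply e1; rw [← ev_naturality, h0, map_zero]
    have n4 : ev R y a₂ ≠ 0 := by
      intro h0; apply e4; rw [← ev_naturality, h0, map_zero]
    refine ⟨ev R y a₁ * ev R y s₂ / (ev R y s₁ * ev R y a₂), ?_⟩
    rw [map_div₀, map_mul, map_mul, ev_naturality, ev_naturality, ev_naturality, ev_naturality]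
    rw [div_eq_iff (mul_ne_zero e1 e4)]
    have : t * (ev S x (φ s₁) * ev S x (φ a₂)) = t * ev S x s' * (ev S x (φ s₁) * ev S x (φ s₂)) := by
      rw [← h₂]; ring
    rw [this, ht, ← h₁]; ring


section Stage
variable {A B : Type u} [CommRing A] [CommRing B] [Algebra A B]
  {J : Type u} [SmallCategory J] [IsFiltered J]
  (D : J ⥤ Under (CommRingCat.of A)) (c : Cocone D) (hc : IsColimit c)
  (e : c.pt ≅ Under.mk (CommRingCat.ofHom (algebraMap A B)))

include hc e in
lemma stage_integral (h : ∀ j, (D.obj j).hom.hom.IsIntegral) : (algebraMap A B).IsIntegral := by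
  intro b
  obtain ⟨j, y, rfl⟩ := exists_γ_eq D c hc e b
  obtain ⟨p, hp, hpy⟩ := h j y
  refine ⟨p, hp, ?_⟩
  have h1 : algebraMap A B = (γ D c e j).comp (D.obj j).hom.hom := by
    ext a
    exact (γ_algebraMap D c e j a).symm
  rw [h1, ← Polynomial.hom_eval₂, hpy, map_zero]

include hc e in
lemma stage_surj (h : ∀ j, Function.Surjective (PrimeSpectrum.comap (D.obj j).hom.hom)) :
    Function.Surjective (PrimeSpectrum.comap (algebraMap A B)) := by
  intro p
  haveI := p.isPrime
  have key : (p.asIdeal.map (algebraMap A B)).comap (algebraMap A B) = p.asIdeal := by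
    refine le_antisymm ?_ Ideal.le_comap_map
    intro a ha
    rw [Ideal.mem_comap, Ideal.map, Ideal.span, Submodule.mem_span_set'] at ha
    obtain ⟨n, f, g, hfg⟩ := ha
    choose a' ha' ha'' using fun i => (g i).2
    obtain ⟨j, y, hy⟩ := exists_γ_eq_fin D c hc e f
    let z : (D.obj j).right := (D.obj j).hom.hom a - ∑ i, y i * (D.obj j).hom.hom (a' i)
    have hz : γ D c e j z = 0 := by
      simp only [z, map_sub, map_sum, map_mul, hy]
      rw [γ_algebraMap, ← hfg, sub_eq_zero]
      refine Finset.sum_congr rfl fun i _ => ?_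
      rw [γ_algebraMap, ha'', smul_eq_mul]
    obtain ⟨k, fk, hk⟩ := exists_map_eq_zero D c hc e j z hz
    have hmem : (D.obj k).hom.hom a ∈ p.asIdeal.map (D.obj k).hom.hom := by
      have h2 : (D.obj k).hom.hom a = ∑ i, (D.map fk).right (y i) * (D.obj k).hom.hom (a' i) := by
        have := hk
        simp only [z, map_sub, map_sum, map_mul] at this
        rw [D_algebraMap, sub_eq_zero] at this
        rw [this]
        refine Finset.sum_congr rfl fun i _ => ?_
        rw [D_algebraMap]
      rw [h2]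
      exact Ideal.sum_mem _ fun i _ => Ideal.mul_mem_left _ _ (Ideal.mem_map_of_mem _ (ha' i))
    obtain ⟨q, hq⟩ := h k p
    have h3 : (p.asIdeal.map (D.obj k).hom.hom).comap (D.obj k).hom.hom = p.asIdeal :=
      (Ideal.comap_map_eq_self_iff_of_isPrime _).mpr
        ⟨q.asIdeal, q.isPrime, congrArg PrimeSpectrum.asIdeal hq⟩
    rw [← h3]
    exact hmem
  obtain ⟨q, hq, hqp⟩ := (Ideal.comap_map_eq_self_iff_of_isPrime _).mp key
  exact ⟨⟨q, hq⟩, PrimeSpectrum.ext hqp⟩

include hc e in
lemma stage_ui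
    (h : ∀ j, letI := stageAlg D j
      ∀ x : (D.obj j).right ⊗[A] (D.obj j).right,
        Algebra.TensorProduct.lmul' A (S := (D.obj j).right) x = 0 → IsNilpotent x) :
    ∀ x : B ⊗[A] B, Algebra.TensorProduct.lmul' A (S := B) x = 0 → IsNilpotent x := by
  classical
  intro x hx
  obtain ⟨S, hS⟩ := TensorProduct.exists_finset x
  obtain ⟨j, y, hy⟩ := exists_γ_eq_fin D c hc e
    (Sum.elim (fun i : S => i.1.1) (fun i : S => i.1.2))
  have hxS : x = ∑ i : S, i.1.1 ⊗ₜ[A] i.1.2 := by
    rw [hS, ← Finset.sum_coe_sort S]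
  let w : (D.obj j).right := ∑ i : S, y (Sum.inl i) * y (Sum.inr i)
  have hw : γ D c e j w = 0 := by
    simp only [w, map_sum, map_mul, hy, Sum.elim_inl, Sum.elim_inr]
    rw [hxS, map_sum] at hx
    simpa using hx
  obtain ⟨k, fk, hk⟩ := exists_map_eq_zero D c hc e j w hw
  letI := stageAlg D k
  let xk : (D.obj k).right ⊗[A] (D.obj k).right :=
    ∑ i : S, (D.map fk).right (y (Sum.inl i)) ⊗ₜ[A] (D.map fk).right (y (Sum.inr i))
  have hxk : Algebra.TensorProduct.lmul' A (S := (D.obj k).right) xk = 0 := by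
    simp only [xk, map_sum, Algebra.TensorProduct.lmul'_apply_tmul]
    simpa only [w, map_sum, map_mul] using hk
  have hnil := h k xk hxk
  have hmap : Algebra.TensorProduct.map (γₐ D c e k) (γₐ D c e k) xk = x := by
    simp only [xk, map_sum, Algebra.TensorProduct.map_tmul]
    rw [hxS]
    refine Finset.sum_congr rfl fun i _ => ?_
    have h1 : γₐ D c e k ((D.map fk).right (y (Sum.inl i))) = i.1.1 := by
      show γ D c e k _ = _
      rw [γ_map, hy]; rfl
    have h2 : γₐ D c e k ((D.map fk).right (y (Sum.inr i))) = i.1.2 := by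
      show γ D c e k _ = _
      rw [γ_map, hy]; rfl
    rw [h1, h2]
  rw [← hmap]
  exact hnil.map _

include hc e in
lemma stage_resfield
    (h : ∀ j (q : Ideal (D.obj j).right) [q.IsPrime] (b : (D.obj j).right),
      ∃ a s : A, (D.obj j).hom.hom s ∉ q ∧ (D.obj j).hom.hom s * b - (D.obj j).hom.hom a ∈ q) :
    ∀ (q : Ideal B) [q.IsPrime] (b : B),
      ∃ a s : A, algebraMap A B s ∉ q ∧ algebraMap A B s * b - algebraMap A B a ∈ q := by
  intro q _ b
  obtain ⟨j, y, rfl⟩ := exists_γ_eq D c hc e b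
  obtain ⟨a, s, hs, hsa⟩ := h j (q.comap (γ D c e j)) y
  refine ⟨a, s, ?_, ?_⟩
  · rw [Ideal.mem_comap, γ_algebraMap] at hs
    exact hs
  · rw [Ideal.mem_comap, map_sub, map_mul, γ_algebraMap, γ_algebraMap] at hsa
    exact hsa

end Stage


lemma univHomeo_SpecMap_iff {R S : CommRingCat.{u}} (φ : R ⟶ S) :
    FlatMor.IsUnivHomeo (Spec.map φ) ↔ φ.hom.IsIntegral ∧
      (letI := φ.hom.toAlgebra
        ∀ x : S ⊗[R] S, Algebra.TensorProduct.lmul' R (S := S) x = 0 → IsNilpotent x) ∧
      Function.Surjective (PrimeSpectrum.comap φ.hom) := by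
  rw [Groth.Agent.H1.isUnivHomeo_iff_integral, IsIntegralHom.SpecMap_iff,
    univInj_SpecMap_iff, surjective_SpecMap_iff]

/-- Let `A` be a ring and `B` the colimit of a filtered diagram `j ↦ B_j` of `A`-algebras. Each of the
following properties, when it holds for every `Spec B_j → Spec A`, holds for `Spec B → Spec A`:
being a universal homeomorphism; being a universal homeomorphism with trivial residue field
extensions; being universally closed; being both universally closed and universally injective. -/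
theorem result (A : CommRingCat.{u}) {J : Type u} [SmallCategory J]
    [IsFiltered J] (F : J ⥤ Under A) (c : Limits.Cocone F) (hc : Limits.IsColimit c) :
    ((∀ j, FlatMor.IsUnivHomeo (Spec.map (F.obj j).hom)) → FlatMor.IsUnivHomeo (Spec.map c.pt.hom)) ∧
    ((∀ j, FlatMor.IsUnivHomeo (Spec.map (F.obj j).hom) ∧
        ∀ x : Spec (F.obj j).right, Function.Surjective ((Spec.map (F.obj j).hom).residueFieldMap x)) →
      FlatMor.IsUnivHomeo (Spec.map c.pt.hom) ∧
        ∀ x : Spec c.pt.right, Function.Surjective ((Spec.map c.pt.hom).residueFieldMap x)) ∧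
    ((∀ j, UniversallyClosed (Spec.map (F.obj j).hom)) → UniversallyClosed (Spec.map c.pt.hom)) ∧
    ((∀ j, UniversallyClosed (Spec.map (F.obj j).hom) ∧ UniversallyInjective (Spec.map (F.obj j).hom)) →
      UniversallyClosed (Spec.map c.pt.hom) ∧ UniversallyInjective (Spec.map c.pt.hom)) := by
  letI : Algebra A c.pt.right := c.pt.hom.hom.toAlgebra
  let e : c.pt ≅ Under.mk (CommRingCat.ofHom (algebraMap A c.pt.right)) := Iso.refl _
  have hI : (∀ j, (F.obj j).hom.hom.IsIntegral) → c.pt.hom.hom.IsIntegral :=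
    stage_integral F c hc e
  have hS : (∀ j, Function.Surjective (PrimeSpectrum.comap (F.obj j).hom.hom)) →
      Function.Surjective (PrimeSpectrum.comap c.pt.hom.hom) := stage_surj F c hc e
  have hU := stage_ui F c hc e
  have hR := stage_resfield F c hc e
  have hUH : (∀ j, FlatMor.IsUnivHomeo (Spec.map (F.obj j).hom)) →
      FlatMor.IsUnivHomeo (Spec.map c.pt.hom) := by
    intro h
    rw [univHomeo_SpecMap_iff]
    refine ⟨hI fun j => ((univHomeo_SpecMap_iff _).mp (h j)).1,
      hU fun j => ((univHomeo_SpecMap_iff _).mp (h j)).2.1,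
      hS fun j => ((univHomeo_SpecMap_iff _).mp (h j)).2.2⟩
  refine ⟨hUH, ?_, ?_, ?_⟩
  · intro h
    refine ⟨hUH fun j => (h j).1, ?_⟩
    intro x
    rw [resField_surj_iff]
    haveI := x.isPrime
    refine hR ?_ x.asIdeal
    intro j q _ b
    exact (resField_surj_iff (F.obj j).hom ⟨q, inferInstance⟩).mp ((h j).2 _) b
  · intro h
    rw [univClosed_SpecMap_iff]
    exact hI fun j => (univClosed_SpecMap_iff _).mp (h j)
  · intro h
    rw [univClosed_SpecMap_iff, univInj_SpecMap_iff]
    exact ⟨hI fun j => (univClosed_SpecMap_iff _).mp (h j).1,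
      hU fun j => (univInj_SpecMap_iff _).mp (h j).2⟩


end Groth.Agent.S7405
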