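import Groth.Statements.S7427
import Mathlib
import Groth.Agent.H4.UHCrit

set_option autoImplicit false
universe u
open CategoryTheory AlgebraicGeometry
open Mor

namespace Groth.Agent.S7427

open CategoryTheory CategoryTheory.Limits AlgebraicGeometry TensorProduct
open Groth.Agent.H4.UHCrit



/-- Let `A → B` be a ring map with `Spec B → Spec A` dominant. Then some `A`-subalgebra `B' ⊆ B` has
`Spec B' → Spec A` a universal homeomorphism and contains the image of `C → B` whenever `C` is an
`A`-algebra with an `A`-algebra map `C → B` whose structure map gives a universal homeomorphism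
`Spec C → Spec A`. (The test algebras `C` range over the universe of `A` and `B`.) -/
theorem result {A B : Type u} [CommRing A] [CommRing B] [Algebra A B]
    [IsDominant (Spec.map (CommRingCat.ofHom (algebraMap A B)))] :
    ∃ B' : Subalgebra A B, FlatMor.IsUnivHomeo (Spec.map (CommRingCat.ofHom (algebraMap A B'))) ∧
      ∀ (C : Type u) [CommRing C] [Algebra A C] (g : C →ₐ[A] B),
        FlatMor.IsUnivHomeo (Spec.map (CommRingCat.ofHom (algebraMap A C))) → g.range ≤ B' := by
  have hker := ker_le_of_isDominant (A := A) (B := B)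
  let ι := {E : Subalgebra A B // GoodSub E}
  haveI : Nonempty ι := ⟨⟨⊥, goodSub_bot⟩⟩
  let E : ι → Subalgebra A B := fun i => i.1
  have dir : Directed (· ≤ ·) E := fun i j =>
    ⟨⟨i.1 ⊔ j.1, goodSub_sup hker i.2 j.2⟩, le_sup_left, le_sup_right⟩
  refine ⟨⨆ i, E i, (uh_sub_iff hker _).mpr (goodSub_iSup E dir fun i => i.2), ?_⟩
  intro C _ _ g hC
  rw [uh_alg_iff] at hC
  exact le_iSup E ⟨g.range, goodSub_range hC.1 hC.2.1 g⟩


end Groth.Agent.S7427
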