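import Groth.Statements.S7422
import Mathlib
import Groth.Prelude.Def_Flat
import Groth.Prelude.Def_HTop2
import Groth.Agent.H4.AWN

set_option autoImplicit false
universe u
open CategoryTheory AlgebraicGeometry
open HTop

namespace Groth.Agent.S7422

open CategoryTheory CategoryTheory.Limits AlgebraicGeometry TensorProduct


open Groth.Agent.S7405 Groth.Agent.H4.UHCrit Groth.Agent.H4.SemiNormal
  Groth.Agent.H4.SemiNormalTower Groth.Agent.H4.UHTower Groth.Agent.H4.UHTower2 Groth.Agent.H4.AWN

/-- Every ring `A` has an absolute weak normalization: a ring map `A → A^awn` which induces a universal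
homeomorphism on spectra and is final among ring maps out of `A` with this property. -/
theorem result (A : Type u) [CommRing A] :
    ∃ (B : Type u) (_ : CommRing B) (φ : A →+* B), HTop.IsRingAWN φ := by
  obtain ⟨B', hUH, hmax⟩ := Groth.Agent.S7427.result (A := A) (B := Omega A)
  refine ⟨B', inferInstance, algebraMap A B', hUH, ?_⟩
  intro C _ ψ hψ
  algebraize [ψ]
  have hC : UHC A C := (uhc_iff A C).mp hψ
  obtain ⟨g⟩ := exists_algHom_omega C hC
  have hg : g.range ≤ B' := hmax C g hψ
  let χ : C →ₐ[A] B' := g.codRestrict B' (fun c => hg ⟨c, rfl⟩)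
  refine ⟨χ.toRingHom, ?_, ?_⟩
  · exact RingHom.ext fun a => χ.commutes a
  · intro χ' hχ'
    let χ'' : C →ₐ[A] B' := { χ' with commutes' := fun a => congrArg (fun f => f a) hχ' }
    have := algHom_eq_of_uhc_reduced hC χ'' χ
    exact RingHom.ext fun c => congrArg (fun f => f c) this


end Groth.Agent.S7422
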