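import Groth.Statements.S7423
import Mathlib
import Groth.Prelude.Def_Flat
import Groth.Prelude.Def_HTop2
import Groth.Agent.H4.AWN2

set_option autoImplicit false
universe u
open CategoryTheory AlgebraicGeometry
open HTop

namespace Groth.Agent.S7423

open CategoryTheory CategoryTheory.Limits AlgebraicGeometry TensorProduct


open Groth.Agent.S7405 Groth.Agent.H4.UHCrit Groth.Agent.H4.SemiNormal
  Groth.Agent.H4.SemiNormalTower Groth.Agent.H4.UHTower Groth.Agent.H4.UHTower2 Groth.Agent.H4.AWN
  Groth.Agent.H4.AWN2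

/-- Let `φ : A → A^awn` be an absolute weak normalization and `ψ : A → B` a ring map inducing a
universal homeomorphism on spectra. Then `B` is absolutely weakly normal exactly when the induced
map `χ : B → A^awn` with `χ ∘ ψ = φ` is an isomorphism. -/
theorem result {A B W : Type u} [CommRing A] [CommRing B] [CommRing W]
    (φ : A →+* W) (hφ : HTop.IsRingAWN φ) (ψ : A →+* B)
    (hψ : FlatMor.IsUnivHomeo (Spec.map (CommRingCat.ofHom ψ))) (χ : B →+* W) (hχ : χ.comp ψ = φ) :
    Function.Bijective χ ↔ HTop.IsAWNRing B := by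
  have hW := isAWNRing_of_isRingAWN φ hφ
  constructor
  · intro hb
    exact isAWNRing_of_equiv (RingEquiv.ofBijective χ hb).symm hW
  · intro hB
    haveI := isReduced_of_isRingAWN φ hφ
    haveI := isReduced_of_isSeminormalRing hB.1
    subst hχ
    algebraize [ψ, χ, χ.comp ψ]
    have hAB : UHC A B := (uhc_iff A B).mp hψ
    have hAW : UHC A W := (uhc_iff A W).mp hφ.1
    have hBW : UHC B W := uhc_cancel hAB hAW
    have hinj : Function.Injective χ := by
      rw [RingHom.injective_iff_ker_eq_bot, eq_bot_iff]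
      intro b hb
      have hb' : χ b = 0 := hb
      have : IsNilpotent b := by
        rw [nilpotent_iff_mem_prime]
        intro P hP
        obtain ⟨Q, hQ⟩ := hBW.2.1.2 ⟨P, hP⟩
        have : b ∈ (PrimeSpectrum.comap (algebraMap B W) Q).asIdeal := by
          show χ b ∈ Q.asIdeal
          rw [hb']; exact Q.asIdeal.zero_mem
        rw [hQ] at this
        exact this
      exact this.eq_zero
    refine ⟨hinj, ?_⟩
    by_contra hns
    rcases uhc_stepEx hBW hns with ⟨w, hw, ⟨x, hx⟩, ⟨y, hy⟩⟩ | ⟨p, w, hp, hw, ⟨y, hy⟩, ⟨x, hx⟩⟩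
    · have hx' : χ x = w ^ 2 := hx
      have hy' : χ y = w ^ 3 := hy
      have hxy : x ^ 3 = y ^ 2 := hinj (by rw [map_pow, map_pow, hx', hy']; ring)
      obtain ⟨a, ⟨ha2, ha3⟩, -⟩ := hB.1 x y hxy
      apply hw
      refine ⟨a, ?_⟩
      show χ a = w
      exact eq_of_sq_cube (by rw [← map_pow, ← ha2, hx']) (by rw [← map_pow, ← ha3, hy'])
    · have hx' : χ x = w ^ p := hx
      have hy' : χ y = (p : W) * w := hy
      have hxy : (p : B) ^ p * x = y ^ p := hinj (by
        rw [map_mul, map_pow, map_pow, map_natCast, hx', hy']; ring)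
      obtain ⟨a, ⟨ha1, ha2⟩, -⟩ := hB.2 p hp x y hxy
      apply hw
      refine ⟨a, ?_⟩
      show χ a = w
      have h5 : χ ((p : B) * a) = (p : W) * χ a := by rw [map_mul, map_natCast]
      exact eq_of_pow_prime hp (by rw [← map_pow, ← ha1, hx'])
        (by rw [← h5, ← ha2, hy'])


end Groth.Agent.S7423
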