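import Groth.Statements.S7420
import Groth.Agent.H4.Seminormal2

set_option autoImplicit false
universe u
open CategoryTheory AlgebraicGeometry
open HTop

namespace Groth.Agent.S7420


open Groth.Agent.H4.Seminormal

/-- local-on-affines principle for a ring property stable under localization and glueing -/
theorem affine_local (P : ∀ (A : Type u) [CommRing A], Prop)
    (hloc : ∀ (A : Type u) [CommRing A] (f : A) (B : Type u) [CommRing B] [Algebra A B]
      [IsLocalization.Away f B], P A → P B)
    (hglue : ∀ (A : Type u) [CommRing A] (s : Set A), Ideal.span s = ⊤ →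
      ∀ (B : s → Type u) [∀ f, CommRing (B f)] [∀ f, Algebra A (B f)]
        [∀ f : s, IsLocalization.Away (f : A) (B f)], (∀ f, P (B f)) → P A)
    (X : Scheme.{u}) :
    (∀ x : X, ∃ U : X.affineOpens, x ∈ (U : X.Opens) ∧ P Γ(X, U)) ↔
      ∀ U : X.affineOpens, P Γ(X, U) := by
  constructor
  · intro h U
    obtain ⟨U, (hU : IsAffineOpen U)⟩ := U
    let s : Set Γ(X, U) := {f | P Γ(X, X.basicOpen f)}
    have hs : Ideal.span s = ⊤ := by
      rw [← hU.self_le_iSup_basicOpen_iff]
      intro x hx
      obtain ⟨⟨V, (hV : IsAffineOpen V)⟩, hxV, hPV⟩ := h x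
      obtain ⟨f, g, hfg, hxf⟩ := exists_basicOpen_le_affine_inter hU hV x ⟨hx, hxV⟩
      have hPg : P Γ(X, X.basicOpen g) := by
        have := hV.isLocalization_basicOpen g
        exact hloc Γ(X, V) g Γ(X, X.basicOpen g) hPV
      have hPf : P Γ(X, X.basicOpen f) := by rw [hfg]; exact hPg
      rw [TopologicalSpace.Opens.mem_iSup]
      exact ⟨⟨f, hPf⟩, hxf⟩
    have : ∀ f : s, IsLocalization.Away (f : Γ(X, U)) Γ(X, X.basicOpen (f : Γ(X, U))) :=
      fun f => hU.isLocalization_basicOpen _
    exact hglue Γ(X, U) s hs (fun f => Γ(X, X.basicOpen (f : Γ(X, U)))) (fun f => f.2)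
  · intro h x
    obtain ⟨U, hU, hxU, -⟩ := exists_isAffineOpen_mem_and_subset (x := x) (U := ⊤) trivial
    exact ⟨⟨U, hU⟩, hxU, h ⟨U, hU⟩⟩

/-- A scheme `X` is seminormal if and only if `O_X(U)` is seminormal for every affine open `U ⊆ X`; the
same holds with 'seminormal' replaced by 'absolutely weakly normal'. -/
theorem result (X : Scheme.{u}) :
    (HTop.IsSeminormal X ↔ ∀ U : X.affineOpens, HTop.IsSeminormalRing Γ(X, U)) ∧
    (HTop.IsAWN X ↔ ∀ U : X.affineOpens, HTop.IsAWNRing Γ(X, U)) := by
  constructor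
  · exact affine_local (fun A _ => HTop.IsSeminormalRing A)
      (fun A _ f B _ _ _ h => isSeminormalRing_of_isLocalization (Submonoid.powers f) B h)
      (fun A _ s hs B _ _ _ h => isSeminormalRing_of_span_eq_top s hs B h) X
  · exact affine_local (fun A _ => HTop.IsAWNRing A)
      (fun A _ f B _ _ _ h => isAWNRing_of_isLocalization (Submonoid.powers f) B h)
      (fun A _ s hs B _ _ _ h => isAWNRing_of_span_eq_top s hs B h) X


end Groth.Agent.S7420
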