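import Groth.Statements.S4804
import Groth.Agent.Lib.Helper5.Lim.DescendDiagonal
import Groth.Agent.Lib.Helper5.Lim.DescendProps
import Groth.Agent.Lib.Helper5.Lim.DescendConverse

set_option autoImplicit false
universe u
open CategoryTheory AlgebraicGeometry
open Lim8

namespace Groth.Agent.S4804

/-- Let S = lim S_i be a cofiltered limit of schemes with affine transition maps, let f₀ : X₀ ⟶ Y₀ be a
morphism of schemes over a stage S_{i₀}, with Y₀ quasi-compact and f₀ of finite type and
quasi-separated, and let f : X ⟶ Y be the base change of f₀ along S ⟶ S_{i₀} (base changes are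
expressed by pullback squares). Then f is separated if and only if, for some index j over i₀, the
base change f_j : X_j ⟶ Y_j of f₀ along S_j ⟶ S_{i₀} is separated. -/
theorem result {I : Type u} [SmallCategory I] [IsCofiltered I]
    (D : I ⥤ Scheme.{u}) (c : Limits.Cone D) (hc : Limits.IsLimit c)
    [∀ (i j : I) (f : i ⟶ j), IsAffineHom (D.map f)] (i₀ : I)
    {X₀ Y₀ : Scheme.{u}} (f₀ : X₀ ⟶ Y₀) (g₀ : Y₀ ⟶ D.obj i₀) [CompactSpace Y₀]
    [LocallyOfFiniteType f₀] [QuasiCompact f₀] [QuasiSeparated f₀]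
    {X Y : Scheme.{u}} (f : X ⟶ Y) (g : Y ⟶ c.pt) (qY : Y ⟶ Y₀) (qX : X ⟶ X₀)
    (hY : IsPullback qY g g₀ (c.π.app i₀)) (hX : IsPullback qX f f₀ qY) :
    IsSeparated f ↔
      ∃ (j : I) (φ : j ⟶ i₀) (Xj Yj : Scheme.{u}) (fj : Xj ⟶ Yj) (gj : Yj ⟶ D.obj j) (pY : Yj ⟶ Y₀)
        (pX : Xj ⟶ X₀), IsPullback pY gj g₀ (D.map φ) ∧ IsPullback pX fj f₀ pY ∧ IsSeparated fj := by
  constructor
  · intro hsep
    have hcpX : CompactSpace X₀ := QuasiCompact.compactSpace_of_compactSpace f₀
    have hcp : CompactSpace ↥(Limits.pullback f₀ f₀) :=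
      QuasiCompact.compactSpace_of_compactSpace (Limits.pullback.fst f₀ f₀)
    have hΦ : (@LocallyOfFiniteType ⊓ (@QuasiCompact ⊓ @QuasiSeparated) :
        MorphismProperty Scheme.{u}) (Limits.pullback.diagonal f₀) :=
      ⟨inferInstance, inferInstance, inferInstance⟩
    have hf : MorphismProperty.diagonal (@IsClosedImmersion : MorphismProperty Scheme.{u}) f := by
      rw [← AlgebraicGeometry.IsSeparated.isSeparated_eq_diagonal_isClosedImmersion]; exact hsep
    obtain ⟨k, hk⟩ := Groth.Agent.H5.Lim.exists_descend_core_diagonal D c hc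
      Groth.Agent.H5.Lim.affineSystemDescent_isClosedImmersion i₀ f₀ g₀ hΦ
      (Groth.Agent.H5.Lim.descend_in D c f₀ g₀ hY hX hf)
    rw [← AlgebraicGeometry.IsSeparated.isSeparated_eq_diagonal_isClosedImmersion] at hk
    exact Groth.Agent.H5.Lim.descend_out D f₀ g₀ k hk
  · intro h
    exact Groth.Agent.H5.Lim.descend_converse (P := @IsSeparated) D c hY hX h

end Groth.Agent.S4804
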