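import Groth.Statements.S4373
import Groth.Agent.Lib.Lead.QC.QAffAmple

set_option autoImplicit false
universe u
open CategoryTheory CategoryTheory.Limits AlgebraicGeometry
open EGA2

namespace Groth.Agent.S4373

/-- Let X be a quasi-affine scheme and L an invertible O_X-module. Then L is ample. (The published
statement also asserts that L is very ample for the canonical morphism to the spectrum of the global
sections; that part is not stated here.) -/
theorem result (X : Scheme.{u}) [X.IsQuasiAffine] (L : X.Modules)
    (hL : PicF.IsInvertible L) : CohB1.IsAmple L := by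
  refine ⟨hL, inferInstance, fun x => ?_⟩
  obtain ⟨U, e, hxU, he⟩ := (LD.QC.isInvertible_iff_exists_isBasisOver L).mp hL x
  obtain ⟨_, ⟨r, hr, rfl⟩, hxr, hrU⟩ := TopologicalSpace.Opens.isBasis_iff_nbhd.mp
    (Scheme.IsQuasiAffine.isBasis_basicOpen X) hxU
  have he1 := (LD.QC.isBasisOver_one U).tmul he
  obtain ⟨σ, hσ⟩ := LD.QC.exists_section_genLocus_eq_basicOpen (CohB1.tensorPow L (0 + 1))
    (LD.QC.isInvertible_tensorPow hL _) r _ he1 hrU
  refine ⟨0, σ, ?_, ?_⟩
  · rw [hσ]; exact hxr
  · rw [hσ]; exact hr

end Groth.Agent.S4373
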