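import Groth.Statements.S4381
import Groth.Agent.Lib.Lead.QC.RestrictOpen

set_option autoImplicit false
universe u
open CategoryTheory CategoryTheory.Limits AlgebraicGeometry
open EGA2

namespace Groth.Agent.S4381

/-- Let Y be an affine scheme, f : X → Y a quasi-compact morphism and L an O_X-module. Then L is ample
relative to f if and only if L is an ample O_X-module. -/
theorem result {X Y : Scheme.{u}} [IsAffine Y] (f : X ⟶ Y) [QuasiCompact f] (L : X.Modules) :
    RelAmple.IsRelAmple f L ↔ CohB1.IsAmple L := by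
  constructor
  · intro hL
    have hA := hL.2 ⟨⊤, isAffineOpen_top Y⟩
    haveI : CompactSpace (f ⁻¹ᵁ (⊤ : Y.Opens) : Scheme.{u}) := hA.2.1
    apply LD.QC.isAmple_of_restrict_of_opensRange_eq_top (f ⁻¹ᵁ (⊤ : Y.Opens)).ι ?_ L hA
    rw [Scheme.Opens.opensRange_ι]
    rfl
  · intro hL
    haveI : CompactSpace X := hL.2.1
    haveI : X.IsSeparated := LD.QC.isSeparated_of_affine_genLocus L hL.1 hL.2.2
    refine ⟨inferInstance, fun V => ?_⟩
    haveI : CompactSpace (f ⁻¹ᵁ V.1 : Scheme.{u}) :=
      isCompact_iff_compactSpace.mp (QuasiCompact.isCompact_preimage (f := f) _ V.1.2 V.2.isCompact)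
    exact LD.QC.isAmple_restrict (f ⁻¹ᵁ V.1).ι L hL

end Groth.Agent.S4381
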