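import Groth.Statements.S2336
import Groth.Agent.Lib.Lead.QC.QAffAmple

set_option autoImplicit false
universe u
open CategoryTheory CategoryTheory.Limits AlgebraicGeometry
open EGA2

namespace Groth.Agent.S2336

/-- Let X be a quasi-compact separated scheme (the source also allows a prescheme with Noetherian
underlying space). Then X is quasi-affine if and only if O_X is an ample invertible module. -/
theorem result (X : Scheme.{u}) [CompactSpace X] [X.IsSeparated] :
    X.IsQuasiAffine ↔ CohB1.IsAmple (Coh.structureModule X) := by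
  constructor
  · intro h
    refine ⟨LD.QC.isInvertible_unit X, inferInstance, fun x => ?_⟩
    obtain ⟨U, e, hxU, he⟩ := (LD.QC.isInvertible_iff_exists_isBasisOver
      (Coh.structureModule X)).mp (LD.QC.isInvertible_unit X) x
    obtain ⟨_, ⟨r, hr, rfl⟩, hxr, hrU⟩ := TopologicalSpace.Opens.isBasis_iff_nbhd.mp
      (Scheme.IsQuasiAffine.isBasis_basicOpen X) hxU
    have he1 := (LD.QC.isBasisOver_one U).tmul he
    obtain ⟨σ, hσ⟩ := LD.QC.exists_section_genLocus_eq_basicOpen
      (CohB1.tensorPow (Coh.structureModule X) (0 + 1))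
      (LD.QC.isInvertible_tensorPow (LD.QC.isInvertible_unit X) _) r _ he1 hrU
    refine ⟨0, σ, ?_, ?_⟩
    · rw [hσ]; exact hxr
    · rw [hσ]; exact hr
  · rintro ⟨-, -, hA⟩
    apply Scheme.IsQuasiAffine.of_forall_exists_mem_basicOpen
    intro x
    obtain ⟨n, s, hxs, hAff⟩ := hA x
    let s' : LD.QC.unitMod X ⟶ LD.QC.unitMod X := s ≫ (LD.QC.unitPowIso X (n + 1)).hom
    have h1 : CohB1.genLocus _ s' = CohB1.genLocus _ s := LD.QC.genLocus_comp_iso s _
    have h2 : CohB1.genLocus _ s' = X.basicOpen (LD.QC.sectionOfHom s') := by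
      rw [← LD.QC.genLocus_homOfSection_unit, LD.QC.homOfSection_sectionOfHom]
    refine ⟨LD.QC.sectionOfHom s', ?_, ?_⟩
    · rw [← h2, h1]; exact hAff
    · rw [← h2, h1]; exact hxs

end Groth.Agent.S2336
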