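import Groth.Statements.S2337
import Groth.Agent.Lib.Lead.QC.RestrictOpen
import Groth.Agent.S2336

set_option autoImplicit false
universe u
open CategoryTheory CategoryTheory.Limits AlgebraicGeometry
open EGA2

namespace Groth.Agent.S2337

/-- Let f : X → Y be quasi-compact. Then f is quasi-affine (preimages of affine opens are quasi-affine)
if and only if O_X is ample relative to f. -/
theorem result {X Y : Scheme.{u}} (f : X ⟶ Y) [QuasiCompact f] :
    Mor2.IsQuasiAffine f ↔ RelAmple.IsRelAmple f (Coh.structureModule X) := by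
  constructor
  · rintro ⟨hqc, h⟩
    refine ⟨hqc, fun V => ?_⟩
    haveI := h V.1 V.2
    have h1 := (Groth.Agent.S2336.result (f ⁻¹ᵁ V.1 : Scheme.{u})).mp inferInstance
    exact LD.QC.isAmple_of_iso (Scheme.Modules.restrictUnitIso (f ⁻¹ᵁ V.1).ι).symm h1
  · rintro ⟨hqc, h⟩
    refine ⟨hqc, fun V hV => ?_⟩
    have hA := h ⟨V, hV⟩
    have hA' := LD.QC.isAmple_of_iso (Scheme.Modules.restrictUnitIso (f ⁻¹ᵁ V).ι) hA
    haveI : CompactSpace (f ⁻¹ᵁ V : Scheme.{u}) := hA'.2.1
    haveI : Scheme.IsSeparated (f ⁻¹ᵁ V : Scheme.{u}) :=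
      LD.QC.isSeparated_of_affine_genLocus _ hA'.1 hA'.2.2
    exact (Groth.Agent.S2336.result (f ⁻¹ᵁ V : Scheme.{u})).mpr hA'

end Groth.Agent.S2337
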