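import Groth.Statements.S2327
import Groth.Agent.Lib.Lead.QC.AmpleBasis

set_option autoImplicit false
universe u
open CategoryTheory CategoryTheory.Limits AlgebraicGeometry
open EGA2

namespace Groth.Agent.S2327

/-- Let X be a quasi-compact separated scheme, L an invertible module and n > 0. Then L is ample if and
only if L^{⊗n} is ample. -/
theorem result (X : Scheme.{u}) [CompactSpace X] [X.IsSeparated] (L : X.Modules) (hL : PicF.IsInvertible L) (n : ℕ) (hn : 0 < n) :
    CohB1.IsAmple L ↔ CohB1.IsAmple (CohB1.tensorPow L n) := by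
  haveI : L.IsQuasicoherent := LD.QC.qc_of_isInvertible L hL
  obtain ⟨n', rfl⟩ := Nat.exists_eq_succ_of_ne_zero hn.ne'
  constructor
  · rintro ⟨-, -, hA⟩
    refine ⟨LD.QC.isInvertible_tensorPow hL _, inferInstance, fun x => ?_⟩
    obtain ⟨k, s, hxs, hAff⟩ := hA x
    have hidx : LD.QC.powIdx (k + 1) (n' + 1) = LD.QC.powIdx (n' + 1) (k + 1) := by
      rw [LD.QC.powIdx_eq, LD.QC.powIdx_eq, mul_comm]
    let τ : LD.QC.unitMod X ⟶ CohB1.tensorPow (CohB1.tensorPow L (n' + 1)) (k + 1) :=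
      LD.QC.castSec L hidx (LD.QC.secMulPow L s (n' + 1)) ≫ (LD.QC.powPowIso L (n' + 1) (k + 1)).inv
    have hτ : CohB1.genLocus _ τ = CohB1.genLocus _ s := by
      have h1 := LD.QC.genLocus_comp_iso (LD.QC.castSec L hidx (LD.QC.secMulPow L s (n' + 1)))
        (LD.QC.powPowIso L (n' + 1) (k + 1)).symm
      exact h1.trans ((LD.QC.genLocus_castSec L hidx _).trans (LD.QC.genLocus_secMulPow hL s n'))
    refine ⟨k, τ, ?_, ?_⟩
    · rw [hτ]; exact hxs
    · rw [hτ]; exact hAff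
  · rintro ⟨-, -, hA⟩
    refine ⟨hL, inferInstance, fun x => ?_⟩
    obtain ⟨k, s, hxs, hAff⟩ := hA x
    have key : ∃ (k' : ℕ) (t' : Coh.structureModule X ⟶ CohB1.tensorPow L (k' + 1)),
        CohB1.genLocus _ t' = CohB1.genLocus _ s :=
      ⟨LD.QC.powIdx (n' + 1) k + n', s ≫ (LD.QC.powPowIso L (n' + 1) (k + 1)).hom,
        LD.QC.genLocus_comp_iso s _⟩
    obtain ⟨k', t', ht'⟩ := key
    refine ⟨k', t', ?_, ?_⟩
    · rw [ht']; exact hxs
    · rw [ht']; exact hAff

end Groth.Agent.S2327
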