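import Groth.Statements.S8272
import Mathlib.AlgebraicGeometry.ProjectiveSpectrum.Basic
import Mathlib.AlgebraicGeometry.IdealSheaf.Basic

set_option autoImplicit false
universe u
open CategoryTheory CategoryTheory.Limits AlgebraicGeometry Opposite TopologicalSpace
open EGA2

namespace Groth.Agent.S8272

open CategoryTheory AlgebraicGeometry HomogeneousLocalization


section
variable {σ : Type*} {A : Type u} [CommRing A] [SetLike σ A] [AddSubgroupClass σ A]
variable (𝒜 : ℕ → σ) [GradedRing 𝒜]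

theorem awayMap_injective {e : ℕ} {f g : A} (hg : g ∈ 𝒜 e) {x : A} (hx : x = f * g)
    (hnz : g ∈ nonZeroDivisors A) : Function.Injective (awayMap 𝒜 hg hx) := by
  rw [injective_iff_map_eq_zero]
  intro a ha
  obtain ⟨⟨n, a', ⟨b, hb'⟩, i, rfl : _ = b⟩, rfl⟩ := mk_surjective a
  have h1 := congrArg HomogeneousLocalization.val ha
  rw [val_awayMap_mk, val_zero, Localization.mk_eq_mk', IsLocalization.mk'_eq_zero_iff] at h1
  obtain ⟨⟨_, k, rfl⟩, hk⟩ := h1
  apply HomogeneousLocalization.val_injective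
  rw [val_mk, val_zero, Localization.mk_eq_mk', IsLocalization.mk'_eq_zero_iff]
  refine ⟨⟨f ^ k, k, rfl⟩, ?_⟩
  dsimp only at hk ⊢
  have h2 : (f ^ k * (a' : A)) * g ^ (k + i) = 0 := by
    rw [← hk, hx]; ring
  exact (mul_right_mem_nonZeroDivisors_eq_zero_iff (pow_mem hnz (k + i))).1 h2

theorem res_injective {m e : ℕ} {f g : A} (hf : f ∈ 𝒜 m) (hm : 0 < m) (hg : g ∈ 𝒜 e)
    (hnz : g ∈ nonZeroDivisors A) (h : Proj.basicOpen 𝒜 (f * g) ≤ Proj.basicOpen 𝒜 f) :
    Function.Injective ((Proj 𝒜).presheaf.map (homOfLE h).op).hom := by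
  have h1 := Proj.awayMap_awayToSection 𝒜 (f := f) hg (x := f * g) rfl
  have hfg : f * g ∈ 𝒜 (m + e) := SetLike.mul_mem_graded hf hg
  have i1 : IsIso (Proj.awayToSection 𝒜 f) := (Proj.basicOpenIsoAway 𝒜 f hf hm).isIso_hom
  have i2 : IsIso (Proj.awayToSection 𝒜 (f * g)) :=
    (Proj.basicOpenIsoAway 𝒜 (f * g) hfg (by omega)).isIso_hom
  have h2 : (Proj 𝒜).presheaf.map (homOfLE h).op =
      inv (Proj.awayToSection 𝒜 f) ≫ CommRingCat.ofHom (awayMap 𝒜 hg rfl) ≫
        Proj.awayToSection 𝒜 (f * g) := by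
    rw [h1, IsIso.inv_hom_id_assoc]
  rw [h2]
  have j1 : Function.Injective (inv (Proj.awayToSection 𝒜 f)).hom :=
    ((ConcreteCategory.isIso_iff_bijective (inv (Proj.awayToSection 𝒜 f))).1 inferInstance).1
  have j2 : Function.Injective (CommRingCat.ofHom (awayMap 𝒜 hg (rfl : f * g = f * g))).hom :=
    awayMap_injective 𝒜 hg rfl hnz
  have j3 : Function.Injective (Proj.awayToSection 𝒜 (f * g)).hom :=
    ((ConcreteCategory.isIso_iff_bijective _).1 i2).1
  intro a b hab
  simp only [CommRingCat.hom_comp, RingHom.coe_comp, Function.comp_apply] at hab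
  exact j1 (j2 (j3 hab))

end

theorem inj_of_eq {X : Scheme.{u}} {V W W' : X.Opens} (h : W ≤ V) (e : W = W') (h' : W' ≤ V)
    (hinj : Function.Injective (X.presheaf.map (homOfLE h').op).hom) :
    Function.Injective (X.presheaf.map (homOfLE h).op).hom := by
  subst e; exact hinj

/-- Let T be a positively graded ring, Z = Proj T and g ∈ T_d (d > 0) a homogeneous element that is not
a zero divisor in T. Then Z is the smallest closed subscheme of Z containing the open D_+(g);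
equivalently the kernel (ideal sheaf) of the open immersion D_+(g) → Z vanishes. -/
theorem result {R A : Type u} [CommRing R] [CommRing A] [Algebra R A]
    (𝒜 : ℕ → Submodule R A) [GradedAlgebra 𝒜] {d : ℕ} (hd : 0 < d) (g : A) (hg : g ∈ 𝒜 d)
    (hnz : g ∈ nonZeroDivisors A) :
    (Proj.basicOpen 𝒜 g).ι.ker = ⊥ := by
  let Uc : (Σ i : PNat, 𝒜 i) → (Proj 𝒜).affineOpens := fun i =>
    ⟨Proj.basicOpen 𝒜 i.2.1, Proj.isAffineOpen_basicOpen 𝒜 i.2.1 i.2.2 i.1.2⟩
  have hU : ⨆ i, (Uc i).1 = ⊤ := by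
    have := (Proj.affineOpenCover 𝒜).openCover.iSup_opensRange
    rw [← this]
    congr 1
    ext i : 1
    exact (Proj.opensRange_awayι 𝒜 i.2.1 i.2.2 i.1.2).symm
  refine Scheme.IdealSheafData.ext_of_iSup_eq_top Uc hU fun i => ?_
  rw [Scheme.IdealSheafData.ideal_bot, Pi.bot_apply, eq_bot_iff]
  refine ((Proj.basicOpen 𝒜 g).ι.ideal_ker_le (Uc i)).trans ?_
  rw [← eq_bot_iff, ← RingHom.injective_iff_ker_eq_bot, Scheme.Opens.ι_app]
  refine inj_of_eq _ ?_ (Proj.basicOpen_mono 𝒜 _ _ ⟨g, rfl⟩)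
    (res_injective 𝒜 i.2.2 i.1.2 hg hnz _)
  rw [Scheme.Hom.image_preimage_eq_opensRange_inf, Scheme.Opens.opensRange_ι, Proj.basicOpen_mul,
    inf_comm]


end Groth.Agent.S8272
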