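import Groth.Statements.S8295
import Groth.Agent.H4.RelSpecLib
import Groth.Agent.H4.ProjG

set_option autoImplicit false
universe u
open CategoryTheory CategoryTheory.Limits AlgebraicGeometry Opposite TopologicalSpace
open scoped HomogeneousIdeal
noncomputable section
open EGA2

namespace Groth.Agent.S8295

open CategoryTheory CategoryTheory.Limits AlgebraicGeometry TopologicalSpace Opposite
open Groth.Agent.H4 Groth.Agent.H4.RelSpecLib


/-- the augmentation over `U`, with target typed as `Γ(Y, U)`. -/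
def augU {Y : Scheme.{u}} (𝒮 : RelProj.QCGrAlg Y) (aug : 𝒮.toQCAlg ⟶ RelSpec.QCAlg.unit Y)
    (U : Y.Opens) : 𝒮.presheaf.obj (op U) ⟶ Γ(Y, U) := aug.hom.app (op U)

theorem str_aug {Y : Scheme.{u}} (𝒮 : RelProj.QCGrAlg Y) (aug : 𝒮.toQCAlg ⟶ RelSpec.QCAlg.unit Y)
    (U : Y.Opens) : 𝒮.str.app (op U) ≫ augU 𝒮 aug U = 𝟙 _ := by
  have := congrArg (fun t => t.app (op U)) aug.comm
  exact this

theorem aug_nat {Y : Scheme.{u}} (𝒮 : RelProj.QCGrAlg Y) (aug : 𝒮.toQCAlg ⟶ RelSpec.QCAlg.unit Y)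
    (U V : Y.Opens) (h : V ≤ U) :
    𝒮.presheaf.map (homOfLE h).op ≫ augU 𝒮 aug V = augU 𝒮 aug U ≫ Y.presheaf.map (homOfLE h).op :=
  aug.hom.naturality (homOfLE h).op

/-- The vertex section of the affine cone: let 𝒮 be a quasi-coherent positively graded O_Y-algebra with
𝒮_0 = O_Y, aug : 𝒮 → O_Y its augmentation (the algebra homomorphism over O_Y that vanishes on
sections of positive degree) and C = Spec(𝒮) the affine cone. There is exactly one morphism ε : Y →
C which is a section of the structure morphism and which over every affine open U of Y is, on Spec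
O_Y(U), the morphism Spec of aug(U) followed by the chart Spec 𝒮(U) → C; moreover every such ε is a
closed immersion. -/
theorem result {Y : Scheme.{u}} (𝒮 : RelProj.QCGrAlg Y)
    (h0 : RelCone.StrZeroBij 𝒮) (aug : 𝒮.toQCAlg ⟶ RelSpec.QCAlg.unit Y) (haug : RelCone.IsAugmentation 𝒮 aug) :
    (∃! ε : Y ⟶ 𝒮.toQCAlg.spec, RelCone.IsVertex 𝒮 aug ε) ∧
      ∀ ε : Y ⟶ 𝒮.toQCAlg.spec, RelCone.IsVertex 𝒮 aug ε → IsClosedImmersion ε := by
  constructor
  · obtain ⟨ε, hε⟩ := base_exists_desc (S := Y) (Z := 𝒮.toQCAlg.spec)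
      (fun U hU => Spec.map (augU 𝒮 aug U) ≫ 𝒮.toQCAlg.ι U hU) (by
        intro U hU r
        have h1 := 𝒮.toQCAlg.ι_res (U := ⟨U, hU⟩) (V := ⟨Y.basicOpen r, hU.basicOpen r⟩)
          (homOfLE (Scheme.AffineZariskiSite.basicOpen_le ⟨U, hU⟩ r))
        have h2 := aug_nat 𝒮 aug U (Y.basicOpen r) (Y.basicOpen_le r)
        rw [← h1, ← Spec.map_comp_assoc, ← Spec.map_comp_assoc, ← h2])
    have hvert : RelCone.IsVertex 𝒮 aug ε := by
      refine ⟨?_, hε⟩
      refine base_hom_ext _ _ fun U hU => ?_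
      rw [← Category.assoc, hε U hU, Category.assoc, 𝒮.toQCAlg.ι_π, ← Spec.map_comp_assoc,
        str_aug, Spec.map_id, Category.id_comp, Category.comp_id]
    refine ⟨ε, hvert, fun ε' hε' => ?_⟩
    refine base_hom_ext _ _ fun U hU => ?_
    rw [hε'.chart U hU, hε U hU]
    rfl
  · intro ε hε
    refine ProjG.of_isPullback_openCover (P := @IsClosedImmersion) ε 𝒮.toQCAlg.glueData.cover
      (fun U => Spec Γ(Y, U.1)) (fun U => Spec.map (augU 𝒮 aug U.1))
      (fun U => U.2.fromSpec) ?_ ?_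
    · rintro ⟨U, hU⟩
      change IsPullback (Spec.map (augU 𝒮 aug U)) hU.fromSpec (𝒮.toQCAlg.ι U hU) ε
      apply IsOpenImmersion.isPullback
      · exact hε.chart U hU
      · rw [← 𝒮.toQCAlg.π_preimage U hU, ← Scheme.Hom.comp_preimage, hε.comp_π,
          hU.opensRange_fromSpec]
        rfl
    · intro U
      apply IsClosedImmersion.spec_of_surjective
      intro x
      refine ⟨(𝒮.str.app (op U.1)).hom x, ?_⟩
      have := congrArg (fun t => t.hom x) (str_aug 𝒮 aug U.1)
      exact this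


end Groth.Agent.S8295
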