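import Groth.Statements.S8296
import Groth.Agent.H4.RelSpecLib2
import Groth.Agent.S8295

set_option autoImplicit false
universe u
open CategoryTheory CategoryTheory.Limits AlgebraicGeometry Opposite TopologicalSpace
open scoped HomogeneousIdeal
noncomputable section
open EGA2

namespace Groth.Agent.S8296

open CategoryTheory CategoryTheory.Limits AlgebraicGeometry TopologicalSpace Opposite
open Groth.Agent.H4.RelSpecLib


open Groth.Agent.S8295 in
/-- the kernel of the augmentation over an affine open is the irrelevant ideal -/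
theorem ker_aug {Y : Scheme.{u}} (𝒮 : RelProj.QCGrAlg Y)
    (h0 : RelCone.StrZeroBij 𝒮) (aug : 𝒮.toQCAlg ⟶ RelSpec.QCAlg.unit Y) (haug : RelCone.IsAugmentation 𝒮 aug)
    (U : Y.Opens) (hU : IsAffineOpen U) :
    RingHom.ker (augU 𝒮 aug U).hom = (HomogeneousIdeal.irrelevant (𝒮.deg U hU)).toIdeal := by
  classical
  have F1 : ∀ x, x ∈ (HomogeneousIdeal.irrelevant (𝒮.deg U hU)).toIdeal → (augU 𝒮 aug U).hom x = 0 := by
    intro x hx
    have hx0 : GradedRing.proj (𝒮.deg U hU) 0 x = 0 := hx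
    rw [← DirectSum.sum_support_decompose (𝒮.deg U hU) x, map_sum]
    refine Finset.sum_eq_zero fun d _ => ?_
    rcases Nat.eq_zero_or_pos d with rfl | hd
    · have : ((DirectSum.decompose (𝒮.deg U hU) x) 0 : 𝒮.presheaf.obj (op U)) = 0 := hx0
      rw [this, map_zero]
    · obtain ⟨d', rfl⟩ := Nat.exists_eq_succ_of_ne_zero hd.ne'
      exact haug U hU d' _ (SetLike.coe_mem _)
  ext x
  rw [RingHom.mem_ker]
  constructor
  · intro hx
    -- degree zero component
    set x₀ : 𝒮.presheaf.obj (op U) := GradedRing.proj (𝒮.deg U hU) 0 x with hx₀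
    have hx₀mem : x₀ ∈ 𝒮.deg U hU 0 := by
      rw [hx₀, GradedRing.proj_apply]; exact SetLike.coe_mem _
    have h1 : x - x₀ ∈ (HomogeneousIdeal.irrelevant (𝒮.deg U hU)).toIdeal := by
      change GradedRing.proj (𝒮.deg U hU) 0 (x - x₀) = 0
      rw [map_sub, ← hx₀]
      have : GradedRing.proj (𝒮.deg U hU) 0 x₀ = x₀ := by
        rw [GradedRing.proj_apply, DirectSum.decompose_of_mem_same _ hx₀mem]
      rw [this, sub_self]
    have h2 : (augU 𝒮 aug U).hom x₀ = 0 := by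
      have := F1 _ h1
      rw [map_sub, hx, zero_sub, neg_eq_zero] at this
      exact this
    obtain ⟨r, hr⟩ := (h0 U hU).2 ⟨x₀, hx₀mem⟩
    have hr' : (𝒮.str.app (op U)).hom r = x₀ := congrArg Subtype.val hr
    have h3 : (augU 𝒮 aug U).hom ((𝒮.str.app (op U)).hom r) = r :=
      congrArg (fun t => t.hom r) (str_aug 𝒮 aug U)
    rw [hr', h2] at h3
    have hx0 : x₀ = 0 := by rw [← hr', ← h3, map_zero]
    have : x = x - x₀ := by rw [hx0, sub_zero]
    rw [this]; exact h1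
  · exact F1 x

open Groth.Agent.S8295 in
theorem mem_range_iff {Y : Scheme.{u}} (𝒮 : RelProj.QCGrAlg Y)
    (h0 : RelCone.StrZeroBij 𝒮) (aug : 𝒮.toQCAlg ⟶ RelSpec.QCAlg.unit Y) (haug : RelCone.IsAugmentation 𝒮 aug)
    (ε : Y ⟶ 𝒮.toQCAlg.spec) (hε : RelCone.IsVertex 𝒮 aug ε)
    (U : Y.Opens) (hU : IsAffineOpen U) (y : Spec (𝒮.presheaf.obj (op U))) :
    (𝒮.toQCAlg.ι U hU).base y ∈ Set.range ε.base ↔ y ∉ RelCone.vertexCompl (𝒮.deg U hU) := by
  have hsurj : Function.Surjective (augU 𝒮 aug U).hom := fun r =>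
    ⟨(𝒮.str.app (op U)).hom r, congrArg (fun t => t.hom r) (str_aug 𝒮 aug U)⟩
  have hrange : Set.range (Spec.map (augU 𝒮 aug U)).base =
      PrimeSpectrum.zeroLocus ((HomogeneousIdeal.irrelevant (𝒮.deg U hU)).toIdeal : Set _) := by
    rw [← ker_aug 𝒮 h0 aug haug U hU]
    exact _root_.range_comap_of_surjective _ _ hsurj
  have hvc : y ∉ RelCone.vertexCompl (𝒮.deg U hU) ↔
      y ∈ PrimeSpectrum.zeroLocus ((HomogeneousIdeal.irrelevant (𝒮.deg U hU)).toIdeal : Set _) := by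
    exact (Set.notMem_compl_iff (s := PrimeSpectrum.zeroLocus
      ((HomogeneousIdeal.irrelevant (𝒮.deg U hU)).toIdeal : Set _)) (x := (y : PrimeSpectrum _)))
  rw [hvc, ← hrange]
  constructor
  · rintro ⟨s', hs'⟩
    have hs'U : s' ∈ U := by
      have h1 : 𝒮.toQCAlg.π.base (ε.base s') = s' := by
        rw [← Scheme.Hom.comp_apply, hε.comp_π]; rfl
      rw [← h1, hs']
      exact π_ι_mem 𝒮.toQCAlg U hU y
    have : s' ∈ Set.range hU.fromSpec := by rw [hU.range_fromSpec]; exact hs'U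
    obtain ⟨p, rfl⟩ := this
    refine ⟨p, ?_⟩
    apply (𝒮.toQCAlg.ι U hU).isOpenEmbedding.injective
    rw [← hs', ← Scheme.Hom.comp_apply, ← Scheme.Hom.comp_apply]
    exact congrArg (fun f : Spec Γ(Y, U) ⟶ 𝒮.toQCAlg.spec => f.base p) (hε.chart U hU).symm
  · rintro ⟨p, rfl⟩
    refine ⟨hU.fromSpec.base p, ?_⟩
    rw [← Scheme.Hom.comp_apply, ← Scheme.Hom.comp_apply]
    exact congrArg (fun f : Spec Γ(Y, U) ⟶ 𝒮.toQCAlg.spec => f.base p) (hε.chart U hU)

/-- The pointed affine cone: let 𝒮 be a quasi-coherent positively graded O_Y-algebra with 𝒮_0 = O_Y, aug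
its augmentation, C = Spec(𝒮) its affine cone and ε : Y → C the vertex section. Then the open subset
of C which is the union, over the affine opens U of Y, of the chart images of the complements of the
closed sets V(𝒮(U)_+) in Spec 𝒮(U), is exactly the complement of ε(Y); in other words the pointed
affine cone E, defined chart by chart through the irrelevant ideals, is C − ε(Y). -/
theorem result {Y : Scheme.{u}} (𝒮 : RelProj.QCGrAlg Y)
    (h0 : RelCone.StrZeroBij 𝒮) (aug : 𝒮.toQCAlg ⟶ RelSpec.QCAlg.unit Y) (haug : RelCone.IsAugmentation 𝒮 aug)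
    (ε : Y ⟶ 𝒮.toQCAlg.spec) (hε : RelCone.IsVertex 𝒮 aug ε) :
    ((RelCone.pointedCone 𝒮 : 𝒮.toQCAlg.spec.Opens) : Set 𝒮.toQCAlg.spec) = (Set.range ε.base)ᶜ := by
  ext x
  rw [Set.mem_compl_iff, SetLike.mem_coe]
  unfold RelCone.pointedCone
  rw [Opens.mem_iSup]
  constructor
  · rintro ⟨⟨U, hU⟩, y, hy, rfl⟩ hx
    exact ((mem_range_iff 𝒮 h0 aug haug ε hε U hU y).mp hx) hy
  · intro hx
    obtain ⟨U, hU, hxU, -⟩ := Opens.isBasis_iff_nbhd.mp Y.isBasis_affineOpens
      (show 𝒮.toQCAlg.π.base x ∈ (⊤ : Y.Opens) from trivial)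
    obtain ⟨y, rfl⟩ := exists_chart 𝒮.toQCAlg x U hU hxU
    refine ⟨⟨U, hU⟩, y, ?_, rfl⟩
    by_contra hy
    exact hx ((mem_range_iff 𝒮 h0 aug haug ε hε U hU y).mpr hy)


end Groth.Agent.S8296
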