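import Groth.Statements.S8292
import Groth.Agent.H4.RelProjLib
import Groth.Agent.H4.ProjGen

set_option autoImplicit false
universe u
open CategoryTheory CategoryTheory.Limits AlgebraicGeometry Opposite TopologicalSpace
open scoped HomogeneousIdeal
noncomputable section
open EGA2

namespace Groth.Agent.S8292

open CategoryTheory CategoryTheory.Limits AlgebraicGeometry TopologicalSpace Opposite
open Groth.Agent.H4 Groth.Agent.H4.RelProjLib


theorem surjOn_of_gen {A B : Type u} [CommRing A] [CommRing B] (𝒜 : ℕ → AddSubgroup A) [GradedRing 𝒜]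
    (ℬ : ℕ → AddSubgroup B) [GradedRing ℬ] (ψ : 𝒜 →+*ᵍ ℬ)
    (hgen : Subring.closure ((ℬ 0 : Set B) ∪ (ℬ 1 : Set B)) = ⊤)
    (h1 : ∀ s ∈ ℬ 1, ∃ t : A, ψ t = s) (n : ℕ) (hn : 0 < n) : Set.SurjOn ψ (𝒜 n) (ℬ n) := by
  classical
  let ψℤ : A →ₐ[ℤ] B := ψ.toRingHom.toIntAlgHom
  have hI : ProjGen.zs ℬ 1 ≤ Submodule.map ψℤ.toLinearMap (ProjGen.zs 𝒜 1) := by
    intro s hs
    obtain ⟨t0, ht0⟩ := h1 s hs
    refine ⟨((DirectSum.decompose 𝒜 t0 1 : 𝒜 1) : A), SetLike.coe_mem _, ?_⟩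
    change ψ ((DirectSum.decompose 𝒜 t0 1 : 𝒜 1) : A) = s
    rw [GradedRingHom.map_directSumDecompose, ht0, DirectSum.decompose_of_mem_same ℬ hs]
  have h2 : ProjGen.zs ℬ n ≤ Submodule.map ψℤ.toLinearMap (ProjGen.zs 𝒜 n) := by
    refine (ProjGen.zs_le_pow ℬ hgen n hn).trans ?_
    refine (pow_le_pow_left' hI n).trans ?_
    rw [← Submodule.map_pow]
    exact Submodule.map_mono (ProjGen.zs_pow_le 𝒜 n)
  intro s hs
  obtain ⟨t, ht, hts⟩ := h2 hs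
  exact ⟨t, ht, hts⟩

/-- Let 𝒮 be a quasi-coherent positively graded O_Y-algebra generated by 𝒮_1, M a quasi-coherent
O_Y-module and u : M → 𝒮_1 a surjective module map; let ū : Sym(M) → 𝒮 be the graded algebra
homomorphism extending u. Then the morphism Proj(𝒮) → P(M) = Proj(Sym(M)) induced by ū is a closed
immersion. -/
theorem result {Y PT PS : Scheme.{u}} (𝒮 𝒯 : RelProj.QCGrAlg Y)
    (hgen : 𝒮.IsGenDegOne) (M : Y.Modules) (hM : Coh.IsQCoh M)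
    (u : M ⟶ 𝒮.toModule)
    (hu1 : ∀ (U : Y.Opens) (hU : IsAffineOpen U) (x : Γ(M, U)), (u.app U) x ∈ 𝒮.deg U hU 1)
    (husurj : ∀ (U : Y.Opens) (hU : IsAffineOpen U) (s : 𝒮.presheaf.obj (op U)), s ∈ 𝒮.deg U hU 1 →
      ∃ x : Γ(M, U), (u.app U) x = s)
    (j : M ⟶ 𝒯.toModule) (hT : RelProj.IsGrSymAlg M 𝒯 j)
    (ubar : 𝒯.toQCAlg ⟶ 𝒮.toQCAlg) (hubar : RelProj.IsGradedHom ubar)
    (hju : j ≫ RelSpec.QCAlg.Hom.toModuleMap ubar = u)
    (hirr : ∀ (U : Y.Opens) (hU : IsAffineOpen U),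
      (𝒮.deg U hU)₊ ≤ ((𝒯.deg U hU)₊).map (RelProj.gradedHomAt ubar hubar U hU))
    (pT : PT ⟶ Y) (pS : PS ⟶ Y)
    (chartT : ∀ (U : Y.Opens) (hU : IsAffineOpen U), (((pT ⁻¹ᵁ U : PT.Opens) : Scheme.{u}) ≅ Proj (𝒯.deg U hU)))
    (chartS : ∀ (U : Y.Opens) (hU : IsAffineOpen U), (((pS ⁻¹ᵁ U : PS.Opens) : Scheme.{u}) ≅ Proj (𝒮.deg U hU)))
    (hPT : RelProj.IsRelProj 𝒯 pT chartT) (hPS : RelProj.IsRelProj 𝒮 pS chartS)
    (h : PS ⟶ PT) (hh : RelProj.IsRelProjMap ubar hubar hirr chartT chartS h) : IsClosedImmersion h := by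
  have key : ∀ (U : Y.Opens) (hU : IsAffineOpen U), IsClosedImmersion
      ((chartS U hU).hom ≫ Proj.map (RelProj.gradedHomAt ubar hubar U hU) (hirr U hU) ≫
        (chartT U hU).inv) := by
    intro U hU
    have h1 : ∀ s ∈ 𝒮.deg U hU 1, ∃ t : 𝒯.presheaf.obj (op U),
        (RelProj.gradedHomAt ubar hubar U hU) t = s := by
      intro s hs
      obtain ⟨x, hx⟩ := husurj U hU s hs
      refine ⟨(j.app U) x, ?_⟩
      rw [← hx, ← hju]
      rfl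
    have : IsClosedImmersion (Proj.map (RelProj.gradedHomAt ubar hubar U hU) (hirr U hU)) :=
      ProjGen.isClosedImmersion_map_of_surjOn _ _
        (fun n hn => surjOn_of_gen _ _ _ (hgen U hU) h1 n hn)
    infer_instance
  exact of_isPullback_affine (Pr := @IsClosedImmersion) pT h
    (fun U _ => ((pS ⁻¹ᵁ U : PS.Opens) : Scheme.{u})) _ (fun U _ => (pS ⁻¹ᵁ U).ι)
    (fun U hU => isPullback_of_isRelProjMap ubar hubar hirr hPT hPS hh U hU) key


end Groth.Agent.S8292
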