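import Groth.Statements.S4421
import Mathlib
import Groth.Agent.H4.PullGr
import Groth.Agent.H4.ProjBC2
import Groth.Agent.H4.RelProjEx

set_option autoImplicit false
universe u
open CategoryTheory CategoryTheory.Limits AlgebraicGeometry
open EGA2

namespace Groth.Agent.S4421

/-- Let f : X → Y be a projective morphism and g : Y' → Y any morphism. Then the base change X ×_Y Y' →
Y' of f is projective. -/
theorem result {X Y Y' : Scheme.{u}} (f : X ⟶ Y) (hf : RelProj.IsProjective f) (g : Y' ⟶ Y) :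
    RelProj.IsProjective (pullback.snd f g) := by
  obtain ⟨𝒮, P, p, chart, e, hgen, hft, hP, he⟩ := hf
  obtain ⟨P', p', chart', hP'⟩ := Groth.Agent.H4.RelProjEx.main_S8258 (Groth.Agent.H4.PullGr.pbGr g 𝒮)
  obtain ⟨⟨h, hh⟩, hpb⟩ := Groth.Agent.H4.ProjBC2.main_S12141 g 𝒮 (Groth.Agent.H4.PullGr.pbGr g 𝒮)
    (Groth.Agent.H4.PullGr.pbGrHom g 𝒮) (Groth.Agent.H4.PullGr.isQBaseChange_pbGrHom g 𝒮)
    p chart hP p' chart' hP'
  have H : IsPullback h p' p g := hpb h hh
  have H0 : IsPullback (pullback.fst f g) (pullback.snd f g) f g := IsPullback.of_hasPullback f g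
  have H' : IsPullback (pullback.fst f g ≫ e.hom) (pullback.snd f g) p g := by
    refine H0.of_iso (Iso.refl _) e (Iso.refl _) (Iso.refl _) ?_ ?_ ?_ ?_
    · simp
    · simp
    · simp [he]
    · simp
  refine ⟨Groth.Agent.H4.PullGr.pbGr g 𝒮, P', p', chart', H'.isoIsPullback _ _ H,
    Groth.Agent.H4.PullGr.isGenDegOne_pbGr g 𝒮 hgen, Groth.Agent.H4.PullGr.isFTDeg_pbGr g 𝒮 1 hft, hP', ?_⟩
  exact IsPullback.isoIsPullback_hom_snd _ _ H' H

end Groth.Agent.S4421
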