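import Groth.Statements.S9717
import Mathlib
import Groth.Agent.H4.MvGr
import Groth.Agent.H4.ClIm7
import Groth.Agent.S4421

set_option autoImplicit false
universe u
open CategoryTheory AlgebraicGeometry
open Mor

namespace Groth.Agent.S9717

/-- An H-projective morphism f : X ⟶ S (a closed immersion into some projective space P^n_S followed by
the projection) is projective. Here projective means that X is isomorphic over S to the relative
Proj of a quasi-coherent graded O_S-algebra generated by its degree-one part, with that part of
finite type; the published definition uses closed subschemes of a projective bundle P(E) with E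
quasi-coherent of finite type, an equivalent condition. -/
theorem result {X S : Scheme.{u}} (f : X ⟶ S) (hf : RelProj.IsHProjective f) :
    RelProj.IsProjective f := by
  obtain ⟨n, i, hi, hcomp⟩ := hf
  have h0 := Groth.Agent.H4.MvGr.isProjective_toSpec n (ULift.{u} ℤ)
  have h1 : RelProj.IsProjective (CohB1.ProjSpaceOver.toBase n S) :=
    Groth.Agent.S4421.result (CohB1.ProjSpace.toSpec n (ULift.{u} ℤ)) h0
      (specULiftZIsTerminal.from S)
  obtain ⟨𝒮, P, p, chart, e, hgen, hft, hP, hep⟩ := h1
  haveI := hi
  have h2 := Groth.Agent.H4.ClIm7.closed_isProjective 𝒮 hgen hft p chart hP (i ≫ e.hom)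
  rwa [Category.assoc, hep, hcomp] at h2

end Groth.Agent.S9717
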