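import Groth.Statements.S7136
import Mathlib

set_option autoImplicit false
universe u
open CAlg

namespace Groth.Agent.S7136

universe v w

section AR
variable {R : Type u} [CommRing R] [IsNoetherianRing R] (I : Ideal R)

theorem AR {P : Type v} [AddCommGroup P] [Module R P] [Module.Finite R P] (N₀ : Submodule R P) :
    ∃ c : ℕ, ∀ n : ℕ, I ^ (n + c) • (⊤ : Submodule R P) ⊓ N₀ ≤ I ^ n • N₀ := by
  obtain ⟨k, hk⟩ := Ideal.exists_pow_inf_eq_pow_smul I N₀
  refine ⟨k, fun n => ?_⟩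
  rw [hk (n + k) (Nat.le_add_left k n), Nat.add_sub_cancel]
  exact Submodule.smul_mono le_rfl inf_le_right

theorem AR1 {P : Type v} {Q : Type w} [AddCommGroup P] [Module R P] [AddCommGroup Q] [Module R Q]
    [Module.Finite R Q] (f : P →ₗ[R] Q) :
    ∃ c : ℕ, ∀ (n : ℕ) (y : P), f y ∈ I ^ (n + c) • (⊤ : Submodule R Q) →
      ∃ y' ∈ I ^ n • (⊤ : Submodule R P), f y' = f y := by
  obtain ⟨c, hc⟩ := AR I (LinearMap.range f)
  refine ⟨c, fun n y hy => ?_⟩
  have h1 : f y ∈ I ^ n • LinearMap.range f := hc n ⟨hy, LinearMap.mem_range_self f y⟩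
  have h2 : I ^ n • LinearMap.range f = (I ^ n • (⊤ : Submodule R P)).map f := by
    rw [Submodule.map_smul'', Submodule.map_top]
  rw [h2] at h1
  obtain ⟨y', hy', hy'2⟩ := h1
  exact ⟨y', hy', hy'2⟩

/-- AR for an injective map: elements deep in the target are deep in the source -/
theorem AR2 {P : Type v} {Q : Type w} [AddCommGroup P] [Module R P] [AddCommGroup Q] [Module R Q]
    [Module.Finite R Q] (f : P →ₗ[R] Q) (hf : Function.Injective f) :
    ∃ c : ℕ, ∀ (n : ℕ) (y : P), f y ∈ I ^ (n + c) • (⊤ : Submodule R Q) →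
      y ∈ I ^ n • (⊤ : Submodule R P) := by
  obtain ⟨c, hc⟩ := AR1 I f
  refine ⟨c, fun n y hy => ?_⟩
  obtain ⟨y', hy', h⟩ := hc n y hy
  rwa [← hf h]

end AR

theorem pi_mem_smul {R : Type u} [CommRing R] (J : Ideal R) {N : Type v} [AddCommGroup N]
    [Module R N] {ι : Type*} [Fintype ι] [DecidableEq ι] (y : ι → N) :
    y ∈ J • (⊤ : Submodule R (ι → N)) ↔ ∀ i, y i ∈ J • (⊤ : Submodule R N) := by
  constructor
  · intro hy i
    have h2 : (J • (⊤ : Submodule R (ι → N))).map (LinearMap.proj i : (ι → N) →ₗ[R] N) ≤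
        J • (⊤ : Submodule R N) := by
      rw [Submodule.map_smul'']
      exact Submodule.smul_mono le_rfl le_top
    exact h2 (Submodule.mem_map_of_mem hy)
  · intro hy
    have : y = ∑ i, (LinearMap.single R (fun _ : ι => N) i) (y i) := by
      funext j
      simp [Finset.sum_apply, Pi.single_apply]
    rw [this]
    refine Submodule.sum_mem _ (fun i _ => ?_)
    have h2 : (J • (⊤ : Submodule R N)).map (LinearMap.single R (fun _ : ι => N) i) ≤
        J • (⊤ : Submodule R (ι → N)) := by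
      rw [Submodule.map_smul'']
      exact Submodule.smul_mono le_rfl le_top
    exact h2 (Submodule.mem_map_of_mem (hy i))


section Pres
variable {A : Type u} [CommRing A] {M : Type v} [AddCommGroup M] [Module A M] {r s : ℕ}
  (x : Fin r → M) (hx : Submodule.span A (Set.range x) = ⊤) (ρ : Fin s → (Fin r → A))
  (hρ : Submodule.span A (Set.range ρ) = LinearMap.ker (Fintype.linearCombination A x))

include hρ in
theorem rel_of_hom {N : Type w} [AddCommGroup N] [Module A N] (ψ : M →ₗ[A] N) (i : Fin s) :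
    ∑ j, ρ i j • ψ (x j) = 0 := by
  have h1 : ρ i ∈ LinearMap.ker (Fintype.linearCombination A x) := by
    rw [← hρ]; exact Submodule.subset_span ⟨i, rfl⟩
  rw [LinearMap.mem_ker, Fintype.linearCombination_apply] at h1
  simp_rw [← map_smul, ← map_sum]
  rw [h1, map_zero]

include hx hρ in
theorem exists_hom {N : Type w} [AddCommGroup N] [Module A N] (z : Fin r → N)
    (hz : ∀ i, ∑ j, ρ i j • z j = 0) : ∃ φ : M →ₗ[A] N, ∀ j, φ (x j) = z j := by
  classical
  have hπ : Function.Surjective (Fintype.linearCombination A x) := by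
    intro m
    have : m ∈ Submodule.span A (Set.range x) := hx ▸ Submodule.mem_top
    obtain ⟨c, hc⟩ := (Submodule.mem_span_range_iff_exists_fun A).mp this
    exact ⟨c, by rw [Fintype.linearCombination_apply]; exact hc⟩
  have hle : LinearMap.ker (Fintype.linearCombination A x) ≤
      LinearMap.ker (Fintype.linearCombination A z) := by
    rw [← hρ, Submodule.span_le]
    rintro _ ⟨i, rfl⟩
    rw [SetLike.mem_coe, LinearMap.mem_ker, Fintype.linearCombination_apply]
    exact hz i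
  refine ⟨((LinearMap.ker (Fintype.linearCombination A x)).liftQ
    (Fintype.linearCombination A z) hle) ∘ₗ
    ((Fintype.linearCombination A x).quotKerEquivOfSurjective hπ).symm.toLinearMap, ?_⟩
  intro j
  have h1 : ((Fintype.linearCombination A x).quotKerEquivOfSurjective hπ).symm (x j) =
      Submodule.Quotient.mk (Pi.single j 1) := by
    rw [LinearEquiv.symm_apply_eq]
    simp [Fintype.linearCombination_apply, Pi.single_apply]
  rw [LinearMap.comp_apply, LinearEquiv.coe_coe, h1, Submodule.liftQ_apply,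
    Fintype.linearCombination_apply]
  simp [Pi.single_apply]

end Pres


theorem core {A : Type u} [CommRing A] [IsNoetherianRing A] (I : Ideal A) (M N : Type u)
    [AddCommGroup M] [Module A M] [Module.Finite A M] [AddCommGroup N] [Module A N]
    [Module.Finite A N] :
    ∃ c₁ : ℕ, ∀ (n : ℕ) (ψ : M →ₗ[A] N ⧸ (I ^ (n + c₁) • ⊤ : Submodule A N)),
      ∃ φ : M →ₗ[A] N, ∀ (m : M) (y : N),
        (I ^ (n + c₁) • ⊤ : Submodule A N).mkQ y = ψ m → φ m - y ∈ (I ^ n • ⊤ : Submodule A N) := by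
  classical
  obtain ⟨r, x, hx⟩ := Module.Finite.exists_fin (R := A) (M := M)
  have hKfg : (LinearMap.ker (Fintype.linearCombination A x)).FG := IsNoetherian.noetherian _
  obtain ⟨s, ρ, hρ⟩ := Submodule.fg_iff_exists_fin_generating_family.mp hKfg
  let f : (Fin r → N) →ₗ[A] (Fin s → N) :=
    LinearMap.pi (fun i => ∑ j, ρ i j • (LinearMap.proj j : (Fin r → N) →ₗ[A] N))
  have hf : ∀ y i, f y i = ∑ j, ρ i j • y j := by
    intro y i
    simp [f, LinearMap.pi_apply, LinearMap.sum_apply]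
  obtain ⟨c₁, hc₁⟩ := AR1 I f
  refine ⟨c₁, fun n ψ => ?_⟩
  choose y₀ hy₀ using fun j => Submodule.mkQ_surjective (I ^ (n + c₁) • ⊤ : Submodule A N) (ψ (x j))
  have hfy₀ : f y₀ ∈ I ^ (n + c₁) • (⊤ : Submodule A (Fin s → N)) := by
    rw [pi_mem_smul]
    intro i
    rw [hf, ← Submodule.Quotient.mk_eq_zero, ← Submodule.mkQ_apply, map_sum]
    simp_rw [map_smul, hy₀]
    exact rel_of_hom x ρ hρ ψ i
  obtain ⟨y', hy', hfy'⟩ := hc₁ n y₀ hfy₀
  rw [pi_mem_smul] at hy'
  have hz : ∀ i, ∑ j, ρ i j • (y₀ - y') j = 0 := by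
    intro i
    rw [← hf, map_sub, hfy', sub_self]
    rfl
  obtain ⟨φ, hφ⟩ := exists_hom x hx ρ hρ (y₀ - y') hz
  refine ⟨φ, fun m y hy => ?_⟩
  have hm : m ∈ Submodule.span A (Set.range x) := hx ▸ Submodule.mem_top
  obtain ⟨c, rfl⟩ := (Submodule.mem_span_range_iff_exists_fun A).mp hm
  have h1 : y - ∑ j, c j • y₀ j ∈ (I ^ (n + c₁) • ⊤ : Submodule A N) := by
    rw [← Submodule.Quotient.mk_eq_zero, ← Submodule.mkQ_apply, map_sub, hy, map_sum, map_sum]
    simp_rw [map_smul, hy₀]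
    exact sub_self _
  have h1' : y - ∑ j, c j • y₀ j ∈ (I ^ n • ⊤ : Submodule A N) :=
    Submodule.smul_mono_left (Ideal.pow_le_pow_right (Nat.le_add_right n c₁)) h1
  have h2 : φ (∑ j, c j • x j) - y = -(y - ∑ j, c j • y₀ j) - ∑ j, c j • y' j := by
    rw [map_sum]
    simp_rw [map_smul, hφ, Pi.sub_apply, smul_sub, Finset.sum_sub_distrib]
    abel
  rw [h2]
  refine Submodule.sub_mem _ (Submodule.neg_mem _ h1') ?_
  exact Submodule.sum_mem _ (fun j _ => Submodule.smul_mem _ _ (hy' j))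


theorem core2 {A : Type u} [CommRing A] [IsNoetherianRing A] (I : Ideal A) (M N : Type u)
    [AddCommGroup M] [Module A M] [Module.Finite A M] [AddCommGroup N] [Module A N]
    [Module.Finite A N] :
    ∃ c₂ : ℕ, ∀ (n : ℕ) (φ : M →ₗ[A] N), (∀ m, φ m ∈ (I ^ (n + c₂) • ⊤ : Submodule A N)) →
      φ ∈ (I ^ n • ⊤ : Submodule A (M →ₗ[A] N)) := by
  classical
  obtain ⟨r, x, hx⟩ := Module.Finite.exists_fin (R := A) (M := M)
  let ev : (M →ₗ[A] N) →ₗ[A] (Fin r → N) := LinearMap.pi (fun j => LinearMap.applyₗ (x j))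
  have hev : Function.Injective ev := by
    intro φ φ' h
    apply LinearMap.ext_on_range hx
    intro j
    exact congrFun h j
  obtain ⟨c₂, hc₂⟩ := AR2 I ev hev
  refine ⟨c₂, fun n φ hφ => hc₂ n φ ?_⟩
  rw [pi_mem_smul]
  intro j
  exact hφ (x j)

theorem smul_smul_top {A : Type u} [CommRing A] (I : Ideal A) {P : Type v} [AddCommGroup P]
    [Module A P] (a b : ℕ) {r : A} {p : P} (hr : r ∈ I ^ a)
    (hp : p ∈ (I ^ b • ⊤ : Submodule A P)) : r • p ∈ (I ^ (b + a) • ⊤ : Submodule A P) := by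
  have h1 : r • p ∈ I ^ a • (I ^ b • ⊤ : Submodule A P) := Submodule.smul_mem_smul hr hp
  rwa [← Submodule.smul_assoc, smul_eq_mul, ← pow_add, add_comm] at h1

/-- Let A be a Noetherian ring, I an ideal, and M, N finite A-modules; write N_n = N/IⁿN, so that
Hom_A(M/IⁿM, N_n) = Hom_A(M, N_n). Then (1) the inverse system (Hom_A(M, N_n))_n, with transition
maps induced by the projections N_k → N_n, is Mittag-Leffler; (2) there is c ≥ 0 such that for all n
the kernel and the cokernel of Hom_A(M, N)/IⁿHom_A(M, N) → Hom_A(M, N_n) are annihilated by I^c. -/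
theorem result (A : Type u) [CommRing A] [IsNoetherianRing A]
    (I : Ideal A) (M N : Type u) [AddCommGroup M] [Module A M] [Module.Finite A M] [AddCommGroup N] [Module A N]
    [Module.Finite A N] :
    let Nq : ℕ → Submodule A N := fun n => I ^ n • ⊤
    let pr : ∀ n k : ℕ, n ≤ k → (N ⧸ Nq k) →ₗ[A] (N ⧸ Nq n) :=
      fun n k hnk => Submodule.mapQ (Nq k) (Nq n) (LinearMap.id : N →ₗ[A] N) (Submodule.smul_mono_left (Ideal.pow_le_pow_right hnk))
    let red : ∀ n : ℕ, (M →ₗ[A] N) → (M →ₗ[A] N ⧸ Nq n) := fun n φ => (Nq n).mkQ ∘ₗ φ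
    (∀ n : ℕ, ∃ m : ℕ, n ≤ m ∧ ∀ (k : ℕ) (hmk : m ≤ k) (hnm : n ≤ m) (ψ : M →ₗ[A] N ⧸ Nq m),
        ∃ ψ' : M →ₗ[A] N ⧸ Nq k, pr n k (hnm.trans hmk) ∘ₗ ψ' = pr n m hnm ∘ₗ ψ) ∧
    ∃ c : ℕ, ∀ n : ℕ,
      (∀ φ : M →ₗ[A] N, red n φ = 0 → ∀ a ∈ I ^ c, a • φ ∈ (I ^ n • ⊤ : Submodule A (M →ₗ[A] N))) ∧
      (∀ (ψ : M →ₗ[A] N ⧸ Nq n), ∀ a ∈ I ^ c, ∃ φ : M →ₗ[A] N, red n φ = a • ψ) := by
  intro Nq pr red
  obtain ⟨c₁, hc₁⟩ := core I M N
  obtain ⟨c₂, hc₂⟩ := core2 I M N
  refine ⟨?_, c₁ + c₂, fun n => ⟨?_, ?_⟩⟩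
  · intro n
    refine ⟨n + c₁, Nat.le_add_right n c₁, fun k hmk hnm ψ => ?_⟩
    obtain ⟨φ, hφ⟩ := hc₁ n ψ
    refine ⟨(Nq k).mkQ ∘ₗ φ, ?_⟩
    apply LinearMap.ext
    intro m
    obtain ⟨y, hy⟩ := Submodule.mkQ_surjective (Nq (n + c₁)) (ψ m)
    have h1 := hφ m y hy
    simp only [LinearMap.comp_apply, pr]
    rw [← hy]
    simp only [Submodule.mkQ_apply, Submodule.mapQ_apply, LinearMap.id_apply]
    exact (Submodule.Quotient.eq _).mpr h1
  · intro φ hred a ha
    have hφ : ∀ m, φ m ∈ (I ^ n • ⊤ : Submodule A N) := by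
      intro m
      have := LinearMap.congr_fun hred m
      simp only [red, LinearMap.comp_apply, Submodule.mkQ_apply, LinearMap.zero_apply] at this
      exact (Submodule.Quotient.mk_eq_zero _).mp this
    by_cases hn : c₂ ≤ n
    · obtain ⟨n₀, rfl⟩ : ∃ n₀, n = n₀ + c₂ := ⟨n - c₂, by omega⟩
      have h1 := hc₂ n₀ φ hφ
      exact smul_smul_top I c₂ n₀ (Ideal.pow_le_pow_right (Nat.le_add_left c₂ c₁) ha) h1
    · have ha' : a ∈ I ^ n := Ideal.pow_le_pow_right (by omega) ha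
      exact Submodule.smul_mem_smul ha' trivial
  · intro ψ a ha
    by_cases hn : c₁ ≤ n
    · obtain ⟨n₀, rfl⟩ : ∃ n₀, n = n₀ + c₁ := ⟨n - c₁, by omega⟩
      obtain ⟨φ, hφ⟩ := hc₁ n₀ ψ
      refine ⟨a • φ, ?_⟩
      apply LinearMap.ext
      intro m
      obtain ⟨y, hy⟩ := Submodule.mkQ_surjective (Nq (n₀ + c₁)) (ψ m)
      have h1 := hφ m y hy
      show (Nq (n₀ + c₁)).mkQ ((a • φ) m) = (a • ψ) m
      have e1 : a • (Nq (n₀ + c₁)).mkQ y = (Nq (n₀ + c₁)).mkQ (a • y) := (map_smul _ a y).symm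
      rw [LinearMap.smul_apply, LinearMap.smul_apply, ← hy, e1, Submodule.mkQ_apply,
        Submodule.mkQ_apply]
      refine (Submodule.Quotient.eq _).mpr ?_
      rw [← smul_sub]
      exact smul_smul_top I c₁ n₀ (Ideal.pow_le_pow_right (Nat.le_add_right c₁ c₂) ha) h1
    · refine ⟨0, ?_⟩
      have ha' : a ∈ I ^ n := Ideal.pow_le_pow_right (by omega) ha
      apply LinearMap.ext
      intro m
      obtain ⟨y, hy⟩ := Submodule.mkQ_surjective (Nq n) (ψ m)
      show (Nq n).mkQ ((0 : M →ₗ[A] N) m) = (a • ψ) m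
      have e1 : a • (Nq n).mkQ y = (Nq n).mkQ (a • y) := (map_smul _ a y).symm
      rw [LinearMap.zero_apply, map_zero, LinearMap.smul_apply, ← hy, e1,
        Submodule.mkQ_apply]
      symm
      rw [Submodule.Quotient.mk_eq_zero]
      exact Submodule.smul_mem_smul ha' trivial


end Groth.Agent.S7136
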