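import Groth.Statements.S8813
import Groth.Agent.H4.AlgzLib

set_option autoImplicit false
universe u
open CategoryTheory AlgebraicGeometry
open Algz

namespace Groth.Agent.S8813


open Groth.Agent.H4.AlgzLib

/-- the one-step system -/
noncomputable def oneSys {Y : Type u} [TopologicalSpace Y] (Z : Set Y) (y z : Y) (h : y ⤳ z) (hz : z ∈ Z) :
    DSystem Z y 0 where
  v _ := z
  w _ := y
  spec _ := h
  spec_succ i := i.elim0
  start_mem := hz
  last_eq := rfl

theorem oneSys_delta {Y : Type u} [TopologicalSpace Y] (Z : Set Y) (y z : Y) (h : y ⤳ z) (hz : z ∈ Z) :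
    (oneSys Z y z h hz).delta = codimPt y z h := by
  rw [delta_eq]
  have : Finset.univ.sup (term (oneSys Z y z h hz)) = term (oneSys Z y z h hz) (Fin.last 0) := by
    have : (Finset.univ : Finset (Fin (0 + 1))) = {Fin.last 0} := by
      ext j; simp [Fin.eq_zero j]
    rw [this, Finset.sup_singleton]
  rw [this, term_last]
  simp [DSystem.c, oneSys]

theorem deltaZ_le_codimPt {Y : Type u} [TopologicalSpace Y] (Z : Set Y) (y z : Y) (h : y ⤳ z) (hz : z ∈ Z) :
    deltaZ Z y ≤ codimPt y z h := by
  unfold deltaZ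
  exact iInf₂_le_of_le 0 (oneSys Z y z h hz) (oneSys_delta Z y z h hz).le

theorem codimPt_le_ringKrullDim (Y : Scheme.{u}) (y z : Y) (h : y ⤳ z)
    (P : PrimeSpectrum (Y.presheaf.stalk z)) (hP : (Y.fromSpecStalk z).base P = y) :
    ((codimPt y z h : ℕ∞) : WithBot ℕ∞) ≤ ringKrullDim (↥(Y.presheaf.stalk z) ⧸ P.asIdeal) := by
  unfold codimPt
  rw [Order.height_eq_krullDim_Iic, ringKrullDim, ← Order.krullDim_orderDual (α := PrimeSpectrum _)]
  have hemb : Topology.IsEmbedding (Y.fromSpecStalk z).base := Scheme.Hom.isEmbedding _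
  have hmk : Function.Surjective (Ideal.Quotient.mk P.asIdeal) := Ideal.Quotient.mk_surjective
  have hemb2 := PrimeSpectrum.isEmbedding_comap_of_surjective _ (Ideal.Quotient.mk P.asIdeal) hmk
  -- the map on points
  let g : PrimeSpectrum (↥(Y.presheaf.stalk z) ⧸ P.asIdeal) → Y := fun q =>
    (Y.fromSpecStalk z).base (PrimeSpectrum.comap (Ideal.Quotient.mk P.asIdeal) q)
  have hg : Topology.IsEmbedding g := hemb.comp hemb2
  have hgz : ∀ q, g q ⤳ z := fun q => by
    have : g q ∈ Set.range (Y.fromSpecStalk z).base := ⟨_, rfl⟩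
    rw [Scheme.range_fromSpecStalk] at this
    exact this
  have hyg : ∀ q, y ⤳ g q := fun q => by
    rw [← hP]
    have hle : P ≤ PrimeSpectrum.comap (Ideal.Quotient.mk P.asIdeal) q := by
      rw [← PrimeSpectrum.asIdeal_le_asIdeal]
      intro a ha
      change Ideal.Quotient.mk P.asIdeal a ∈ q.asIdeal
      rw [Ideal.Quotient.eq_zero_iff_mem.mpr ha]
      exact zero_mem _
    have hs : @Specializes (Spec (Y.presheaf.stalk z)) _ P
        (PrimeSpectrum.comap (Ideal.Quotient.mk P.asIdeal) q) :=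
      (PrimeSpectrum.le_iff_specializes _ _).mp hle
    exact Specializes.map hs (Y.fromSpecStalk z).continuous
  let f : (PrimeSpectrum (↥(Y.presheaf.stalk z) ⧸ P.asIdeal))ᵒᵈ →
      Set.Iic (⟨Specialization.toEquiv y, Specialization.toEquiv_le_toEquiv.mpr h⟩ :
        Set.Ici (Specialization.toEquiv z)) := fun q =>
    ⟨⟨Specialization.toEquiv (g (OrderDual.ofDual q)),
      Specialization.toEquiv_le_toEquiv.mpr (hgz _)⟩,
      Specialization.toEquiv_le_toEquiv.mpr (hyg _)⟩
  refine Order.krullDim_le_of_strictComono_and_surj f ?_ ?_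
  · intro a b hab
    have h1 : g (OrderDual.ofDual b) ⤳ g (OrderDual.ofDual a) := hab.le
    have h2 : ¬ g (OrderDual.ofDual a) ⤳ g (OrderDual.ofDual b) := fun h' => hab.not_ge h'
    rw [hg.isInducing.specializes_iff, ← PrimeSpectrum.le_iff_specializes] at h1 h2
    exact lt_of_le_not_ge h1 h2
  · rintro ⟨⟨x, hx1⟩, hx2⟩
    have hxz : Specialization.ofEquiv x ⤳ z := hx1
    have hyx : y ⤳ Specialization.ofEquiv x := hx2
    have hmem : Specialization.ofEquiv x ∈ Set.range (Y.fromSpecStalk z).base := by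
      rw [Scheme.range_fromSpecStalk]; exact hxz
    obtain ⟨(q' : PrimeSpectrum (Y.presheaf.stalk z)), hq'⟩ := hmem
    have hPq' : @Specializes (Spec (Y.presheaf.stalk z)) _ P q' :=
      hemb.isInducing.specializes_iff.mp (by rw [hP, hq']; exact hyx)
    have hle : P ≤ q' := (PrimeSpectrum.le_iff_specializes P q').mpr hPq'
    have hq'mem : q' ∈ Set.range (PrimeSpectrum.comap (Ideal.Quotient.mk P.asIdeal)) := by
      rw [_root_.range_comap_of_surjective _ _ hmk, Ideal.mk_ker]
      exact (PrimeSpectrum.mem_zeroLocus q' _).mpr ((PrimeSpectrum.asIdeal_le_asIdeal _ _).mpr hle)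
    obtain ⟨q, hq⟩ := hq'mem
    refine ⟨OrderDual.toDual q, ?_⟩
    apply Subtype.ext
    apply Subtype.ext
    change Specialization.toEquiv (g q) = x
    change Specialization.toEquiv ((Y.fromSpecStalk z).base (PrimeSpectrum.comap _ q)) = x
    rw [hq, hq']
    rfl

/-- Let Y be a Noetherian scheme, Z ⊆ Y a closed subset, y a point of Y and z a point of Z lying in the
closure of y. Then δ_Z(y) is at most the dimension of the local ring at z of the closure of y with
its reduced structure, that is, the Krull dimension of O_{Y,z}/𝔭 where 𝔭 is the prime ideal of the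
local ring O_{Y,z} given by the point of Spec O_{Y,z} that maps to y. -/
theorem result (Y : Scheme.{u}) [IsNoetherian Y] (Z : Set Y) (hZ : IsClosed Z) (y z : Y) (h : y ⤳ z) (hz : z ∈ Z) (P : PrimeSpectrum (Y.presheaf.stalk z)) (hP : (Y.fromSpecStalk z).base P = y) : ((Algz.deltaZ Z y : ℕ∞) : WithBot ℕ∞) ≤ ringKrullDim (↥(Y.presheaf.stalk z) ⧸ P.asIdeal) := by
  refine le_trans ?_ (codimPt_le_ringKrullDim Y y z h P hP)
  exact_mod_cast deltaZ_le_codimPt Z y z h hz


end Groth.Agent.S8813
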