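import Groth.Statements.S8814
import Groth.Agent.H4.AlgzLib2

set_option autoImplicit false
universe u
open CategoryTheory AlgebraicGeometry
open Algz

namespace Groth.Agent.S8814


open Groth.Agent.H4.AlgzLib

theorem dimFun_le_of_system (Y : Scheme.{u}) [IsNoetherian Y] (Z : Set Y) (δ : Y → ℤ)
    (hδ : Cyc.IsDimFun Y δ) (y : Y) (k : ℕ) (S : DSystem Z y k) (n : ℕ) (hS : S.delta ≤ n) :
    δ y ≤ n + δ (S.v 0) := by
  have hδ' : ∀ x y : Y, x ⤳ y → x ≠ y → (∀ z : Y, x ⤳ z → z ⤳ y → z = x ∨ z = y) → δ x = δ y + 1 :=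
    fun x y hxy hne himm => (hδ x y hxy hne).2 himm
  have hc : ∀ j, ∃ m : ℕ, S.c j = m := fun j =>
    ENat.ne_top_iff_exists.mp (codimPt_ne_top Y (S.spec j)) |>.imp fun m hm => hm.symm
  have hb : ∀ j, ∃ m : ℕ, S.b j = m := fun j =>
    ENat.ne_top_iff_exists.mp (codimPt_ne_top Y (S.spec_succ j)) |>.imp fun m hm => hm.symm
  choose cn hcn using hc
  choose bn hbn using hb
  have hcδ : ∀ j, δ (S.w j) = δ (S.v j) + cn j := fun j =>
    codimPt_eq_dimFun δ hδ' (S.spec j) (cn j) (hcn j)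
  have hbδ : ∀ j : Fin k, δ (S.w j.castSucc) = δ (S.v j.succ) + bn j := fun j =>
    codimPt_eq_dimFun δ hδ' (S.spec_succ j) (bn j) (hbn j)
  -- the term at 0
  have hterm : term S 0 = ((∑ j, cn j - ∑ j, bn j : ℕ) : ℕ∞) := by
    unfold term
    have h1 : Finset.univ.filter (fun j : Fin (k + 1) => (0 : Fin (k + 1)) ≤ j) = Finset.univ := by
      ext j; simp
    have h2 : Finset.univ.filter (fun j : Fin k => (0 : Fin (k + 1)).val ≤ j.val) = Finset.univ := by
      ext j; simp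
    rw [h1, h2]
    simp only [hcn, hbn]
    push_cast
    rfl
  have h0 : term S 0 ≤ n := by
    rw [delta_eq] at hS
    calc term S 0 ≤ Finset.univ.sup (term S) := Finset.le_sup (f := term S) (Finset.mem_univ _)
      _ ≤ (k : ℕ∞) + Finset.univ.sup (term S) := le_add_self
      _ ≤ n := hS
  rw [hterm] at h0
  have h0' : ∑ j, cn j - ∑ j, bn j ≤ n := by exact_mod_cast h0
  have h0'' : (∑ j, (cn j : ℤ)) ≤ n + ∑ j, (bn j : ℤ) := by
    have : ∑ j, cn j ≤ n + ∑ j, bn j := by omega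
    exact_mod_cast this
  have e1 : ∑ j, δ (S.w j) = ∑ j, δ (S.v j) + ∑ j, (cn j : ℤ) := by
    rw [← Finset.sum_add_distrib]; exact Finset.sum_congr rfl fun j _ => hcδ j
  have e2 : ∑ j : Fin k, δ (S.w j.castSucc) = ∑ j : Fin k, δ (S.v j.succ) + ∑ j, (bn j : ℤ) := by
    rw [← Finset.sum_add_distrib]; exact Finset.sum_congr rfl fun j _ => hbδ j
  have e3 : ∑ j, δ (S.w j) = ∑ j : Fin k, δ (S.w j.castSucc) + δ (S.w (Fin.last k)) :=
    Fin.sum_univ_castSucc _
  have e4 : ∑ j, δ (S.v j) = δ (S.v 0) + ∑ j : Fin k, δ (S.v j.succ) :=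
    Fin.sum_univ_succ _
  rw [S.last_eq] at e3
  linarith

/-- Let Y be a Noetherian scheme, Z ⊆ Y a closed subset and δ a dimension function on Y. If δ_Z(y) is a
natural number n, then δ(y) ≤ n + δ(z) for some z ∈ Z; in other words δ(y) ≤ δ_Z(y) + δ_max with
δ_max the maximum of δ on Z. -/
theorem result (Y : Scheme.{u}) [IsNoetherian Y] (Z : Set Y) (hZ : IsClosed Z) (δ : Y → ℤ) (hδ : Cyc.IsDimFun Y δ) (y : Y) (n : ℕ) (hn : Algz.deltaZ Z y = n) : ∃ z ∈ Z, δ y ≤ n + δ z := by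
  have hex : ∃ (k : ℕ) (S : DSystem Z y k), S.delta ≤ n := by
    by_contra hcon
    push Not at hcon
    have : ((n : ℕ∞) + 1) ≤ deltaZ Z y := by
      unfold deltaZ
      refine le_iInf₂ fun k S => ?_
      exact Order.add_one_le_of_lt (hcon k S)
    rw [hn] at this
    exact absurd this (by
      rw [not_le]
      exact_mod_cast Nat.lt_succ_self n)
  obtain ⟨k, S, hS⟩ := hex
  exact ⟨S.v 0, S.start_mem, dimFun_le_of_system Y Z δ hδ y k S n hS⟩


end Groth.Agent.S8814
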