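import Groth.Statements.S6960
import Mathlib
import Groth.Agent.H4.FlatFam2
import Groth.Agent.H4.Perf1

set_option autoImplicit false
universe u
open CategoryTheory CategoryTheory.Limits
attribute [local instance] HasDerivedCategory.standard
open DRing

namespace Groth.Agent.S6960


open Groth.Agent.H4.PC Groth.Agent.H4.FlatFam Groth.Agent.H4.BC Groth.Agent.H4.PCDesc

/-- Let R be a commutative ring, f_1, ..., f_r elements generating the unit ideal and K a cochain
complex of R-modules. If for every i the termwise localization K ⊗_R R_(f_i) is a perfect object of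
D(R_(f_i)), then K is a perfect object of D(R). -/
theorem result {R : Type u} [CommRing R] {r : ℕ} (f : Fin r → R)
    (hf : Ideal.span (Set.range f) = ⊤) (K : DRing.Cx R)
    (hK : ∀ i, DRing.IsPerfect (Localization.Away (f i))
      (DRing.toD (((ModuleCat.extendScalars (algebraMap R (Localization.Away (f i)))).mapHomologicalComplex
        (ComplexShape.up ℤ)).obj K))) :
    DRing.IsPerfect R (DRing.toD K) := by
  haveI : ∀ i, DRing.HasLBaseChange (algebraMap R (Localization.Away (f i))) :=
    fun _ => Groth.Agent.H4.KProj.hasLBaseChange _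
  have hJ := jff_of_span_eq_top f hf
  have e := fun i => isoOfFlatMap (algebraMap R (Localization.Away (f i))) (hJ.flat i) K
  have hK' := fun i => (Groth.Agent.H4.Perf.isPerfect_iff _).1 (hK i)
  rw [Groth.Agent.H4.Perf.isPerfect_iff]
  refine ⟨hJ.detects.isPC' (toD K) (fun i =>
    Groth.Agent.H4.DRing1.isPseudoCoherent'_of_iso (e i).symm (hK' i).1), ?_⟩
  -- uniform tor amplitude bounds
  choose a b hab using fun i => (hK' i).2
  obtain ⟨Mb, hMb⟩ := (Set.finite_range b).bddAbove
  obtain ⟨Ma, hMa⟩ := (Set.finite_range a).bddBelow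
  refine ⟨Ma, Mb, hJ.hasTorAmp (toD K) Ma Mb (fun i => ?_)⟩
  exact Groth.Agent.H4.TorAmp.hasTorAmp_of_iso (e i).symm
    (Groth.Agent.H4.TorAmp.hasTorAmp_mono (hMa ⟨i, rfl⟩) (hMb ⟨i, rfl⟩) (hab i))


end Groth.Agent.S6960
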