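import Groth.Statements.S9682
import Mathlib

set_option autoImplicit false
universe u
open CategoryTheory CategoryTheory.Limits AlgebraicGeometry
open Mor

namespace Groth.Agent.S9682

theorem topKrullDim_le_zero_of_t1 (X : Type*) [TopologicalSpace X] [QuasiSober X] [T1Space X] :
    topologicalKrullDim X ≤ 0 := by
  rw [topologicalKrullDim, Order.krullDim_nonpos_iff_forall_isMin]
  intro Z W hWZ
  have hZ := Z.isIrreducible'.isGenericPoint_genericPoint_closure
  rw [Z.isClosed'.closure_eq] at hZ
  have hZ' : (Z : Set X) = {Z.isIrreducible'.genericPoint} := by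
    have := hZ.def
    rw [closure_singleton] at this
    exact this.symm
  obtain ⟨w, hw⟩ := W.isIrreducible'.nonempty
  have hwz : w = Z.isIrreducible'.genericPoint := by
    have : w ∈ (Z : Set X) := hWZ hw
    rw [hZ'] at this
    exact this
  intro z hz
  have : z ∈ (Z : Set X) := hz
  rw [hZ'] at this
  rw [Set.mem_singleton_iff] at this
  rw [this, ← hwz]
  exact hw

theorem eq_of_specializes_generic {X : Type*} [TopologicalSpace X] [T0Space X] {η y : X}
    (hη : closure {η} ∈ irreducibleComponents X) (h : y ⤳ η) : y = η := by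
  have h1 : closure {η} ⊆ closure {y} := by
    rw [specializes_iff_closure_subset] at h; exact h
  have h2 : closure {y} ⊆ closure {η} := hη.2 isIrreducible_singleton.closure h1
  have : y ∈ closure {η} := h2 (subset_closure rfl)
  exact (h.antisymm (specializes_iff_mem_closure.mpr this)).eq

theorem exists_generic_specializes {X : Type*} [TopologicalSpace X] [QuasiSober X] (x : X) :
    ∃ ξ : X, closure {ξ} ∈ irreducibleComponents X ∧ ξ ⤳ x := by
  have h1 : IsIrreducible (irreducibleComponent x) := isIrreducible_irreducibleComponent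
  have h2 : IsClosed (irreducibleComponent x) := isClosed_irreducibleComponent
  obtain ⟨ξ, hξ⟩ := QuasiSober.sober h1 h2
  refine ⟨ξ, ?_, ?_⟩
  · rw [hξ.def]; exact irreducibleComponent_mem_irreducibleComponents x
  · rw [specializes_iff_mem_closure, hξ.def]; exact mem_irreducibleComponent

theorem discrete_of_t1_of_locallyOfFiniteType {F : Scheme.{u}} (K : Type u) [Field K]
    (g : F ⟶ Spec (CommRingCat.of K)) [LocallyOfFiniteType g] [T1Space F] : DiscreteTopology F := by
  have : IsLocallyNoetherian F := LocallyOfFiniteType.isLocallyNoetherian g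
  have : IsLocallyArtinian F := .of_topologicalKrullDim_le_zero (topKrullDim_le_zero_of_t1 F)
  infer_instance

set_option backward.isDefEq.respectTransparency.types false in
theorem eq_of_specializes_of_quasiFiniteAt {X Y : Scheme.{u}} (f : X ⟶ Y) [LocallyOfFiniteType f]
    {x ξ : X} (hfx : f.base x = f.base ξ) (hs : ξ ⤳ x)
    (h : f.QuasiFiniteAt x ∨ f.QuasiFiniteAt ξ) : x = ξ := by
  rcases h with h | h
  · have hop := (Scheme.Hom.quasiFiniteAt_iff_isOpen_singleton_asFiber.mp h)
    let b : f.fiber (f.base x) := (f.fiberHomeo (f.base x)).symm ⟨ξ, hfx.symm⟩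
    have hb : (f.fiberι (f.base x)).base b = ξ := f.fiberι_fiberHomeo_symm _ _
    have ha : (f.fiberι (f.base x)).base (f.asFiber x) = x := f.fiberι_asFiber x
    have hsp : b ⤳ f.asFiber x := by
      rw [← (f.fiberι (f.base x)).isEmbedding.isInducing.specializes_iff]
      show (f.fiberι (f.base x)).base b ⤳ (f.fiberι (f.base x)).base (f.asFiber x)
      rw [hb, ha]; exact hs
    have := hsp.mem_open hop rfl
    rw [Set.mem_singleton_iff] at this
    calc x = (f.fiberι (f.base x)).base (f.asFiber x) := ha.symm
      _ = (f.fiberι (f.base x)).base b := by rw [this]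
      _ = ξ := hb
  · have hcl := h.isClopen_singleton_asFiber.1
    let a : f.fiber (f.base ξ) := (f.fiberHomeo (f.base ξ)).symm ⟨x, hfx⟩
    have ha : (f.fiberι (f.base ξ)).base a = x := f.fiberι_fiberHomeo_symm _ _
    have hb : (f.fiberι (f.base ξ)).base (f.asFiber ξ) = ξ := f.fiberι_asFiber ξ
    have hsp : f.asFiber ξ ⤳ a := by
      rw [← (f.fiberι (f.base ξ)).isEmbedding.isInducing.specializes_iff]
      show (f.fiberι (f.base ξ)).base (f.asFiber ξ) ⤳ (f.fiberι (f.base ξ)).base a
      rw [hb, ha]; exact hs
    have := hsp.mem_closed hcl rfl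
    rw [Set.mem_singleton_iff] at this
    calc x = (f.fiberι (f.base ξ)).base a := ha.symm
      _ = (f.fiberι (f.base ξ)).base (f.asFiber ξ) := by rw [this]
      _ = ξ := hb

set_option backward.isDefEq.respectTransparency.types false in
theorem quasiFiniteAt_of_all_generic {X Y : Scheme.{u}} (f : X ⟶ Y) [LocallyOfFiniteType f] (x : X)
    (h1 : ∀ x' : X, f.base x' = f.base x → closure {x'} ∈ irreducibleComponents ↥X) :
    f.QuasiFiniteAt x := by
  rw [Scheme.Hom.quasiFiniteAt_iff_isOpen_singleton_asFiber]
  have hT1 : T1Space (f.fiber (f.base x)) := by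
    rw [t1Space_iff_specializes_imp_eq]
    intro a b hab
    have h2 : (f.fiberι (f.base x)).base a ⤳ (f.fiberι (f.base x)).base b :=
      hab.map (f.fiberι (f.base x)).continuous
    have hb : f.base ((f.fiberι (f.base x)).base b) = f.base x := by
      have : (f.fiberι (f.base x)).base b ∈ Set.range (f.fiberι (f.base x)).base := ⟨b, rfl⟩
      rw [f.range_fiberι] at this
      exact this
    have := eq_of_specializes_generic (h1 _ hb) h2
    exact (f.fiberι (f.base x)).isEmbedding.injective this
  have : LocallyOfFiniteType (f.fiberToSpecResidueField (f.base x)) :=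
    MorphismProperty.pullback_snd _ _ inferInstance
  have := discrete_of_t1_of_locallyOfFiniteType (Y.residueField (f.base x))
    (f.fiberToSpecResidueField (f.base x))
  exact isOpen_discrete _

/-- Take f : X ⟶ Y locally of finite type and η the generic point of some irreducible component of Y.
Three conditions turn out to coincide: (1) each point of X mapping to η is the generic point of some
irreducible component of X; (2) f is quasi-finite at every point over η; (3) f is quasi-finite at
each point over η that is generic in some irreducible component of X. Stated as (1) iff (2) together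
with (1) iff (3). -/
theorem result {X Y : Scheme.{u}} (f : X ⟶ Y)
    [LocallyOfFiniteType f] (η : Y) (hη : closure {η} ∈ irreducibleComponents ↥Y) :
    ((∀ x : X, f.base x = η → closure {x} ∈ irreducibleComponents ↥X) ↔
      (∀ x : X, f.base x = η → f.QuasiFiniteAt x)) ∧
    ((∀ x : X, f.base x = η → closure {x} ∈ irreducibleComponents ↥X) ↔
      (∀ x : X, f.base x = η → closure {x} ∈ irreducibleComponents ↥X → f.QuasiFiniteAt x)) := by
  have h12 : (∀ x : X, f.base x = η → closure {x} ∈ irreducibleComponents ↥X) →
      (∀ x : X, f.base x = η → f.QuasiFiniteAt x) := by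
    intro h1 x hx
    exact quasiFiniteAt_of_all_generic f x (fun x' hx' => h1 x' (hx'.trans hx))
  have key : ∀ x : X, f.base x = η → ∃ ξ : X, f.base ξ = η ∧ closure {ξ} ∈ irreducibleComponents ↥X ∧
      ξ ⤳ x := by
    intro x hx
    obtain ⟨ξ, hξ, hs⟩ := exists_generic_specializes x
    refine ⟨ξ, ?_, hξ, hs⟩
    have : f.base ξ ⤳ f.base x := hs.map f.continuous
    rw [hx] at this
    exact eq_of_specializes_generic hη this
  refine ⟨⟨h12, ?_⟩, ⟨fun h1 x hx _ => h12 h1 x hx, ?_⟩⟩
  · intro h2 x hx
    obtain ⟨ξ, hξη, hξ, hs⟩ := key x hx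
    have := eq_of_specializes_of_quasiFiniteAt f (hx.trans hξη.symm) hs (Or.inl (h2 x hx))
    rw [this]; exact hξ
  · intro h3 x hx
    obtain ⟨ξ, hξη, hξ, hs⟩ := key x hx
    have := eq_of_specializes_of_quasiFiniteAt f (hx.trans hξη.symm) hs (Or.inr (h3 ξ hξη hξ))
    rw [this]; exact hξ

end Groth.Agent.S9682
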