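import Groth.Statements.S9672
import Groth.Agent.S9682

set_option autoImplicit false
universe u
open CategoryTheory CategoryTheory.Limits AlgebraicGeometry
open Mor

namespace Groth.Agent.S9672

theorem mem_range_comap_of_minimal {C B : Type*} [CommRing C] [CommRing B] (φ : C →+* B)
    (z : PrimeSpectrum C) (hz : ∀ p : PrimeSpectrum C, p.asIdeal ≤ z.asIdeal → p = z)
    (hcl : z ∈ closure (Set.range (PrimeSpectrum.comap φ))) :
    z ∈ Set.range (PrimeSpectrum.comap φ) := by
  rw [PrimeSpectrum.closure_range_comap, PrimeSpectrum.mem_zeroLocus] at hcl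
  have H : z.asIdeal ∈ ((⊥ : Ideal B).comap φ).minimalPrimes := by
    refine ⟨⟨z.2, hcl⟩, ?_⟩
    rintro q ⟨hq, -⟩ hqz
    have := hz ⟨q, hq⟩ hqz
    rw [← this]
  obtain ⟨p', hp', -, hpz⟩ := Ideal.exists_comap_eq_of_mem_minimalPrimes φ z.asIdeal H
  exact ⟨⟨p', hp'⟩, PrimeSpectrum.ext hpz⟩

set_option backward.isDefEq.respectTransparency.types false in
theorem mem_image_of_generic_affine {Y Z : Scheme.{u}} (g : Y ⟶ Z) (z : Z)
    (hz : closure {z} ∈ irreducibleComponents Z) (W : Z.Opens) (hW : IsAffineOpen W) (hzW : z ∈ W)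
    (V : Y.Opens) (hV : IsAffineOpen V) (e : V ≤ g ⁻¹ᵁ W)
    (hcl : z ∈ closure (g.base '' (V : Set Y))) : z ∈ g.base '' (V : Set Y) := by
  have himg : g.base '' (V : Set Y) =
      hW.fromSpec.base '' (Set.range (PrimeSpectrum.comap (g.appLE W V e).hom)) := by
    have h1 : (V : Set Y) = Set.range hV.fromSpec.base := hV.range_fromSpec.symm
    rw [h1, ← Set.range_comp, ← Set.range_comp]
    have h2 : hV.fromSpec ≫ g = Spec.map (g.appLE W V e) ≫ hW.fromSpec :=
      (IsAffineOpen.SpecMap_appLE_fromSpec g hW hV e).symm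
    have h3 : (g.base ∘ hV.fromSpec.base) = (hV.fromSpec ≫ g).base := by
      ext x; simp
    have h4 : (hW.fromSpec.base ∘ (PrimeSpectrum.comap (g.appLE W V e).hom)) =
        (Spec.map (g.appLE W V e) ≫ hW.fromSpec).base := by
      ext x; simp; rfl
    rw [h3, h2, ← h4]
    rfl
  obtain ⟨z', hz'⟩ : ∃ z' : Spec Γ(Z, W), hW.fromSpec.base z' = z := by
    have : z ∈ Set.range hW.fromSpec.base := by rw [hW.range_fromSpec]; exact hzW
    exact this
  have hemb : Topology.IsEmbedding hW.fromSpec.base := hW.fromSpec.isOpenEmbedding.isEmbedding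
  have hcl' : z' ∈ closure (Set.range (PrimeSpectrum.comap (g.appLE W V e).hom)) := by
    have key := hemb.closure_eq_preimage_closure_image
      (Set.range (PrimeSpectrum.comap (g.appLE W V e).hom))
    have h5 : z' ∈ hW.fromSpec.base ⁻¹' closure (hW.fromSpec.base ''
        Set.range (PrimeSpectrum.comap (g.appLE W V e).hom)) := by
      refine Set.mem_preimage.mpr ?_
      rw [hz', ← himg]; exact hcl
    exact (Set.ext_iff.mp key z').mpr h5
  have hmin : ∀ p : PrimeSpectrum Γ(Z, W), p.asIdeal ≤ z'.asIdeal → p = z' := by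
    intro p hp
    have hsp : p ⤳ z' := (PrimeSpectrum.le_iff_specializes p z').mp hp
    have hsp' : hW.fromSpec.base p ⤳ z := by
      rw [← hz']; exact hsp.map hW.fromSpec.continuous
    have := Groth.Agent.S9682.eq_of_specializes_generic hz hsp'
    exact hemb.injective (this.trans hz'.symm)
  obtain ⟨q, hq⟩ := mem_range_comap_of_minimal _ z' hmin hcl'
  rw [himg]
  exact ⟨z', ⟨q, hq⟩, hz'⟩

set_option backward.isDefEq.respectTransparency.types false in
theorem mem_range_of_generic {Y Z : Scheme.{u}} (g : Y ⟶ Z) [QuasiCompact g] [IsDominant g] (z : Z)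
    (hz : closure {z} ∈ irreducibleComponents Z) : z ∈ Set.range g.base := by
  obtain ⟨W, hW, hzW⟩ : ∃ W : Z.Opens, IsAffineOpen W ∧ z ∈ W := by
    obtain ⟨_, ⟨W, hW, rfl⟩, h, -⟩ := Z.isBasis_affineOpens.exists_subset_of_mem_open
      (Set.mem_univ z) isOpen_univ
    exact ⟨W, hW, h⟩
  have hc : IsCompact ((g ⁻¹ᵁ W : Y.Opens) : Set Y) := g.isCompact_preimage hW.isCompact
  obtain ⟨s, hs, hsU0⟩ := (isCompact_iff_finite_and_eq_biUnion_affineOpens).mp hc
  have hsU : ((g ⁻¹ᵁ W : Y.Opens) : Set Y) = ⋃ i ∈ s, ((i : Y.Opens) : Set Y) := by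
    rw [hsU0]; simp
  have h1 : z ∈ closure ((W : Set Z) ∩ Set.range g.base) :=
    g.denseRange.open_subset_closure_inter W.2 hzW
  have h2 : (W : Set Z) ∩ Set.range g.base = ⋃ i ∈ s, g.base '' ((i : Y.Opens) : Set Y) := by
    rw [← Set.image_iUnion₂, ← hsU]
    ext t
    show _ ↔ t ∈ g.base '' (g.base ⁻¹' (W : Set Z))
    simp only [Set.mem_inter_iff, Set.mem_range, Set.mem_image]
    constructor
    · rintro ⟨ht, y, rfl⟩
      exact ⟨y, ht, rfl⟩
    · rintro ⟨y, hy, rfl⟩
      exact ⟨hy, y, rfl⟩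
  rw [h2, hs.closure_biUnion] at h1
  simp only [Set.mem_iUnion] at h1
  obtain ⟨i, hi, hzi⟩ := h1
  have hle : (i : Y.Opens) ≤ g ⁻¹ᵁ W := by
    intro y hy
    have : y ∈ ((g ⁻¹ᵁ W : Y.Opens) : Set Y) := by
      rw [hsU]; exact Set.mem_biUnion hi hy
    exact this
  obtain ⟨y, -, rfl⟩ := mem_image_of_generic_affine g z hz W hW hzW i i.2 hle hzi
  exact ⟨y, rfl⟩

/-- Let f : Y ⟶ X be quasi-compact and quasi-separated, and write X' for the normalization of X relative
to Y. If x' ∈ X' is the generic point of some irreducible component of X', then there is a point y ∈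
Y that is generic in an irreducible component of Y and is sent to x' by the canonical morphism Y ⟶
X'. -/
theorem result {X Y : Scheme.{u}} (f : Y ⟶ X)
    [QuasiCompact f] [QuasiSeparated f] (x' : ↥f.normalization)
    (hx' : closure {x'} ∈ irreducibleComponents ↥f.normalization) :
    ∃ y : Y, closure {y} ∈ irreducibleComponents ↥Y ∧ f.toNormalization.base y = x' := by
  obtain ⟨y, hy⟩ := mem_range_of_generic f.toNormalization x' hx'
  obtain ⟨ξ, hξ, hξy⟩ := Groth.Agent.S9682.exists_generic_specializes y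
  refine ⟨ξ, hξ, ?_⟩
  apply Groth.Agent.S9682.eq_of_specializes_generic hx'
  rw [← hy]
  exact hξy.map f.toNormalization.continuous

end Groth.Agent.S9672
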