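import Groth.Statements.S4368
import Mathlib

set_option autoImplicit false
universe u
open RedSep

namespace Groth.Agent.S4368

open AlgebraicGeometry in
open CategoryTheory in
/-- Let X be a scheme and I a quasi-coherent sheaf of ideals of O_X whose support is all of X, so that
the closed subscheme it defines has underlying space X. Then that closed subscheme is reduced if and
only if I is the nilradical of O_X. In particular the closed subscheme defined by the nilradical is
the unique reduced closed subscheme of X with underlying space X (and, the support condition being
equivalent to I being contained in the nilradical, the smallest one). -/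
theorem result
    (X : Scheme.{u}) (I : X.IdealSheafData) (hI : I.support = ⊤) :
    IsReduced I.subscheme ↔ I = X.nilradical := by
  have hrad : I.radical = X.nilradical := by
    rw [← Scheme.IdealSheafData.vanishingIdeal_support, hI,
      Scheme.IdealSheafData.vanishingIdeal_top]
  have key : AlgebraicGeometry.IsReduced I.subscheme ↔ ∀ U : X.affineOpens, (I.ideal U).IsRadical := by
    constructor
    · intro h U
      rw [Ideal.isRadical_iff_quotient_reduced]
      have h0 : IsOpenImmersion (I.subschemeCover.openCover.f U) :=
        I.subschemeCover.openCover.map_prop U
      have h1 : AlgebraicGeometry.IsReduced (I.subschemeCover.openCover.X U) :=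
        isReduced_of_isOpenImmersion (I.subschemeCover.openCover.f U)
      exact (affine_isReduced_iff (.of (Γ(X, U) ⧸ I.ideal U))).mp h1
    · intro h
      haveI : ∀ U, AlgebraicGeometry.IsReduced (I.subschemeCover.openCover.X U) := fun U => by
        have := (Ideal.isRadical_iff_quotient_reduced _).mp (h U)
        exact (affine_isReduced_iff (.of (Γ(X, (U : X.affineOpens).1) ⧸ I.ideal U))).mpr this
      exact IsReduced.of_openCover (X := I.subscheme) I.subschemeCover.openCover
  rw [key]
  constructor
  · intro h
    rw [← hrad]
    ext U : 2
    rw [Scheme.IdealSheafData.radical_ideal, (h U).radical]
  · rintro h U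
    have : I.ideal U = (I.radical).ideal U := by rw [hrad, ← h]
    rw [this, Scheme.IdealSheafData.radical_ideal]
    exact Ideal.radical_isRadical _

end Groth.Agent.S4368
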