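import Groth.Statements.S16234
import Mathlib
-- import your own Groth.Agent.* helpers here

set_option autoImplicit false
universe u v
open CAlg

namespace Groth.Agent.S16234

/-- For a finitely generated module M over a Noetherian commutative ring A, every prime ideal in the
support of M is a maximal ideal if and only if M has finite length. -/
theorem result (A : Type u) [CommRing A] [IsNoetherianRing A]
    (M : Type v) [AddCommGroup M] [Module A M] [Module.Finite A M] :
    (∀ p ∈ Module.support A M, p.asIdeal.IsMaximal) ↔ IsFiniteLength A M := by
  have hsuppQ : ∀ I : Ideal A, Module.support A (A ⧸ I) = PrimeSpectrum.zeroLocus (I : Set A) := by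
    intro I
    rw [Module.support_of_algebra]
    congr 1
    rw [Ideal.Quotient.algebraMap_eq, Ideal.mk_ker]
  constructor
  · intro h
    rw [isFiniteLength_iff_isNoetherian_isArtinian]
    refine ⟨inferInstance, ?_⟩
    revert h
    induction ‹Module.Finite A M› using IsNoetherianRing.induction_on_isQuotientEquivQuotientPrime with
    | subsingleton N => intro _; infer_instance
    | quotient N p e =>
      intro h
      have hp : p ∈ Module.support A N := by
        rw [e.support_eq, hsuppQ, PrimeSpectrum.mem_zeroLocus]
      have hmax : p.asIdeal.IsMaximal := h p hp
      have : IsSimpleModule A (A ⧸ p.asIdeal) := by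
        rw [isSimpleModule_iff_quot_maximal]
        exact ⟨p.asIdeal, hmax, ⟨LinearEquiv.refl _ _⟩⟩
      have : IsArtinian A (A ⧸ p.asIdeal) := inferInstance
      exact isArtinian_of_injective e.toLinearMap e.injective
    | exact N₁ N₂ N₃ f g hf hg hfg ih₁ ih₃ =>
      intro h
      rw [Module.support_of_exact hfg hf hg] at h
      have h1 := ih₁ (fun p hp => h p (Or.inl hp))
      have h3 := ih₃ (fun p hp => h p (Or.inr hp))
      exact isArtinian_of_range_eq_ker f g hfg.linearMap_ker_eq.symm
  · intro h
    induction h with
    | of_subsingleton =>
      intro p hp
      rw [Module.support_eq_empty] at hp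
      exact hp.elim
    | @of_simple_quotient M' _ _ N hsimple hN ih =>
      intro p hp
      have hex : Function.Exact N.subtype N.mkQ := by
        rw [LinearMap.exact_iff]; simp
      rw [Module.support_of_exact hex N.injective_subtype N.mkQ_surjective] at hp
      rcases hp with hp | hp
      · exact ih p hp
      · obtain ⟨I, hI, ⟨e⟩⟩ := isSimpleModule_iff_quot_maximal.mp hsimple
        rw [e.support_eq, hsuppQ] at hp
        have hle : I ≤ p.asIdeal := hp
        rw [← hI.eq_of_le p.2.ne_top hle]
        exact hI

end Groth.Agent.S16234
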