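import Groth.Statements.S0319
import Groth.Agent.Lib.Helper6.LCDepth
import Groth.Agent.Lib.Helper6.LCExtVanish

set_option autoImplicit false
universe u v
open CategoryTheory
open LocCoh

namespace Groth.Agent.S0319

/-- Part (1): =(2): for a finite module M over a Noetherian ring and an ideal I with IM ≠ M, the I-depth
of M is the least i with Ext^i(R/I, M) nonzero. (Close to Mathlib's Rees criterion; kept at low
weight to pin our depth to Mathlib's Ext.) -/
theorem result (R : Type u) [CommRing R] [IsNoetherianRing R] (I : Ideal R) (M : Type u) [AddCommGroup M] [Module R M] [Module.Finite R M] (hIM : I • (⊤ : Submodule R M) ≠ ⊤) (n : ℕ) : LocCoh.idealDepth I M = n ↔ ((∀ i : ℕ, i < n → Subsingleton (Abelian.Ext (ModuleCat.of R (R ⧸ I)) (ModuleCat.of R M) i)) ∧ Nontrivial (Abelian.Ext (ModuleCat.of R (R ⧸ I)) (ModuleCat.of R M) n)) := by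
  rw [Groth.Agent.H6.LC.idealDepth_eq_iff I M hIM n]
  have hF : ∃ k : ℕ, ∀ a ∈ I ^ k, ∀ x : (ModuleCat.of R (R ⧸ I)), a • x = 0 := by
    refine ⟨1, fun a ha x => ?_⟩
    rw [pow_one] at ha
    obtain ⟨x', rfl⟩ := Ideal.Quotient.mk_surjective x
    change Ideal.Quotient.mk I (a * x') = 0
    exact Ideal.Quotient.eq_zero_iff_mem.mpr (I.mul_mem_right _ ha)
  haveI : Module.Finite R (ModuleCat.of R (R ⧸ I)) :=
    inferInstanceAs (Module.Finite R (R ⧸ I))
  have hsupp0 : Module.support R (R ⧸ I) = PrimeSpectrum.zeroLocus (I : Set R) := by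
    rw [Module.support_eq_zeroLocus, Ideal.annihilator_quotient]
  have hsupp : Module.support R (ModuleCat.of R (R ⧸ I)) = PrimeSpectrum.zeroLocus (I : Set R) :=
    hsupp0
  have h1 := Groth.Agent.H6.LC.ext_vanish_of_lc_vanish I (ModuleCat.of R (R ⧸ I)) hF
  have h2 := Groth.Agent.H6.LC.lc_vanish_of_ext_vanish I (ModuleCat.of R (R ⧸ I)) hsupp
  constructor
  · rintro ⟨hlt, hn⟩
    refine ⟨h1 n (ModuleCat.of R M) hlt, ?_⟩
    by_contra hne
    rw [not_nontrivial_iff_subsingleton] at hne
    have h3 : ∀ i < n + 1, Subsingleton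
        (CategoryTheory.Abelian.Ext (ModuleCat.of R (R ⧸ I)) (ModuleCat.of R M) i) := by
      intro i hi
      rcases Nat.lt_succ_iff_lt_or_eq.mp hi with h | rfl
      · exact h1 n (ModuleCat.of R M) hlt i h
      · exact hne
    have := h2 (n + 1) (ModuleCat.of R M) h3 n (Nat.lt_succ_self n)
    exact not_subsingleton _ this
  · rintro ⟨hlt, hn⟩
    refine ⟨h2 n (ModuleCat.of R M) hlt, ?_⟩
    by_contra hne
    rw [not_nontrivial_iff_subsingleton] at hne
    have h3 : ∀ i < n + 1, Subsingleton ((localCohomology I i).obj (ModuleCat.of R M)) := by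
      intro i hi
      rcases Nat.lt_succ_iff_lt_or_eq.mp hi with h | rfl
      · exact h2 n (ModuleCat.of R M) hlt i h
      · exact hne
    have := h1 (n + 1) (ModuleCat.of R M) h3 n (Nat.lt_succ_self n)
    exact not_subsingleton _ this

end Groth.Agent.S0319
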