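import Groth.Statements.S5765
import Mathlib.RingTheory.KrullDimension.Module
import Mathlib.RingTheory.Support
import Mathlib.RingTheory.Spectrum.Prime.Topology
import Mathlib.RingTheory.Localization.AtPrime.Basic

set_option autoImplicit false
universe u
open EGA41

namespace Groth.Agent.S5765

/-- Let A be a ring, M a finitely generated A-module and p a prime ideal of A. Then dim_{A_p}(M_p) +
dim_A(M/pM) ≤ dim_A(M). -/
theorem result (A : Type u) [CommRing A] (M : Type u)
    [AddCommGroup M] [Module A M] [Module.Finite A M] (p : Ideal A) [p.IsPrime] :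
    Module.supportDim (Localization.AtPrime p) (LocalizedModule p.primeCompl M) +
        Module.supportDim A (M ⧸ (p • (⊤ : Submodule A M))) ≤ Module.supportDim A M := by
  by_cases hp : (⟨p, inferInstance⟩ : PrimeSpectrum A) ∈ Module.support A M
  swap
  · rw [Module.notMem_support_iff] at hp
    have : Module.supportDim (Localization.AtPrime p) (LocalizedModule p.primeCompl M) = ⊥ :=
      Module.supportDim_eq_bot_of_subsingleton _ _
    rw [this, WithBot.bot_add]
    exact bot_le
  let x : Module.support A M := ⟨⟨p, inferInstance⟩, hp⟩
  have hne : Nonempty (Module.support A M) := ⟨x⟩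
  -- (a)
  have ha : Module.supportDim (Localization.AtPrime p) (LocalizedModule p.primeCompl M) ≤
      Order.krullDim (Set.Iic x) := by
    unfold Module.supportDim
    have hmem : ∀ Q : Module.support (Localization.AtPrime p) (LocalizedModule p.primeCompl M),
        PrimeSpectrum.comap (algebraMap A (Localization.AtPrime p)) Q.1 ∈ Module.support A M := by
      rintro ⟨Q, hQ⟩
      rw [Module.mem_support_iff'] at hQ ⊢
      obtain ⟨n, hn⟩ := hQ
      induction n using LocalizedModule.induction_on with
      | h m s =>
        refine ⟨m, ?_⟩
        intro r hr hrm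
        apply hn (algebraMap A _ r) hr
        rw [algebraMap_smul, LocalizedModule.smul'_mk, hrm, LocalizedModule.zero_mk]
    have hle : ∀ Q : Module.support (Localization.AtPrime p) (LocalizedModule p.primeCompl M),
        (⟨_, hmem Q⟩ : Module.support A M) ≤ x := by
      rintro ⟨Q, hQ⟩
      show (PrimeSpectrum.comap (algebraMap A (Localization.AtPrime p)) Q).asIdeal ≤ p
      have h1 : Q.asIdeal ≤ IsLocalRing.maximalIdeal (Localization.AtPrime p) :=
        IsLocalRing.le_maximalIdeal Q.2.ne_top
      have h2 := Ideal.comap_mono (f := algebraMap A (Localization.AtPrime p)) h1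
      have h3 : Ideal.comap (algebraMap A (Localization.AtPrime p))
          (IsLocalRing.maximalIdeal (Localization.AtPrime p)) = p :=
        IsLocalization.AtPrime.under_maximalIdeal (Localization.AtPrime p) p
      rw [h3] at h2
      exact h2
    apply Order.krullDim_le_of_strictMono (fun Q => (⟨⟨_, hmem Q⟩, hle Q⟩ : Set.Iic x))
    intro Q Q' hQQ'
    have hinj := PrimeSpectrum.localization_comap_injective (Localization.AtPrime p) p.primeCompl
    apply lt_of_le_of_ne
    · show (PrimeSpectrum.comap (algebraMap A (Localization.AtPrime p)) Q.1).asIdeal ≤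
        (PrimeSpectrum.comap (algebraMap A (Localization.AtPrime p)) Q'.1).asIdeal
      exact Ideal.comap_mono hQQ'.le
    · intro heq
      apply hQQ'.ne
      have : PrimeSpectrum.comap (algebraMap A (Localization.AtPrime p)) Q.1 =
          PrimeSpectrum.comap (algebraMap A (Localization.AtPrime p)) Q'.1 := by
        have := congrArg (fun z : Set.Iic x => (z.1.1 : PrimeSpectrum A)) heq
        exact this
      exact Subtype.ext (hinj this)
  -- (b)
  have hb : Module.supportDim A (M ⧸ (p • (⊤ : Submodule A M))) ≤ Order.krullDim (Set.Ici x) := by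
    unfold Module.supportDim
    have hmem : ∀ q : Module.support A (M ⧸ (p • (⊤ : Submodule A M))),
        ∃ h : q.1 ∈ Module.support A M, (⟨q.1, h⟩ : Module.support A M) ∈ Set.Ici x := by
      rintro ⟨q, hq⟩
      rw [Module.support_quotient] at hq
      exact ⟨hq.1, hq.2⟩
    apply Order.krullDim_le_of_strictMono
      (fun q => (⟨⟨q.1, (hmem q).1⟩, (hmem q).2⟩ : Set.Ici x))
    intro q q' h
    exact h
  calc _ ≤ Order.krullDim (Set.Iic x) + Order.krullDim (Set.Ici x) := add_le_add ha hb
    _ = ((Order.height x + Order.coheight x : ℕ∞) : WithBot ℕ∞) := by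
      rw [← Order.height_eq_krullDim_Iic, ← Order.coheight_eq_krullDim_Ici, WithBot.coe_add]
    _ ≤ _ := by
      unfold Module.supportDim
      rw [Order.krullDim_eq_iSup_height_add_coheight_of_nonempty, WithBot.coe_le_coe]
      exact le_iSup (fun a : Module.support A M => Order.height a + Order.coheight a) x

end Groth.Agent.S5765
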