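import Groth.Statements.S0342
import Groth.Agent.Lib.Helper1.RegGlobal

set_option autoImplicit false
universe u v
open Goren

namespace Groth.Agent.S0342


/-- Regular local rings have finite injective dimension over themselves, i.e. are Gorenstein. -/
theorem result (A : Type u) [CommRing A] [IsRegularLocalRing A] : LocCoh.IsGorensteinLocalRing A := by
  have hd : ringKrullDim A = ((IsLocalRing.maximalIdeal A).spanFinrank : ℕ) :=
    (IsRegularLocalRing.spanFinrank_maximalIdeal (R := A)).symm
  refine { exists_hasInjectiveDimensionLT := ⟨(IsLocalRing.maximalIdeal A).spanFinrank + 1, ?_⟩ }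
  apply Groth.Agent.H1.Reg.hasInjectiveDimensionLT_of_ext_cyclic
  intro I
  haveI := Groth.Agent.H1.Reg.hasProjectiveDimensionLT_of_isRegularLocalRing A _ hd
    (ModuleCat.of A (A ⧸ I))
  exact CategoryTheory.HasProjectiveDimensionLT.subsingleton (ModuleCat.of A (A ⧸ I)) _ _ le_rfl _

end Groth.Agent.S0342
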