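import Groth.Statements.S4536
import Groth.Agent.Lib.Helper5.CA.AdicFS

set_option autoImplicit false
universe u
open EGA41

namespace Groth.Agent.S4536

/-- Let A carry the 𝔞-adic and B the 𝔟-adic topology, A → B being continuous (a power of 𝔞 maps into 𝔟).
Then B is formally smooth over A if and only if for every n the (A/𝔞ⁿ)-algebra B/𝔞ⁿB, with the adic
topology of the image of 𝔟, is formally smooth over the discrete ring A/𝔞ⁿ. -/
theorem result {A B : Type u} [CommRing A] [CommRing B] [Algebra A B]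
    (𝔞 : Ideal A) (𝔟 : Ideal B) (hAB : ∃ k : ℕ, (𝔞 ^ k).map (algebraMap A B) ≤ 𝔟) :
    EGA41.IsFormallySmoothAdic A 𝔞 B 𝔟 ↔
      ∀ n : ℕ, EGA41.IsFormallySmoothAdic (A ⧸ 𝔞 ^ n) ⊥ (B ⧸ (𝔞 ^ n).map (algebraMap A B))
        (𝔟.map (Ideal.Quotient.mk ((𝔞 ^ n).map (algebraMap A B)))) := by
  constructor
  · intro hB n E _ _ J hJ _ u hu
    letI : Algebra A E := ((algebraMap (A ⧸ 𝔞 ^ n) E).comp (algebraMap A (A ⧸ 𝔞 ^ n))).toAlgebra
    haveI : IsScalarTower A (A ⧸ 𝔞 ^ n) E := IsScalarTower.of_algebraMap_eq (fun _ => rfl)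
    have hEA : ∃ k : ℕ, (𝔞 ^ k).map (algebraMap A E) = ⊥ := by
      refine ⟨n, ?_⟩
      rw [eq_bot_iff, Ideal.map_le_iff_le_comap]
      intro a ha
      rw [Ideal.mem_comap, Ideal.mem_bot]
      show algebraMap (A ⧸ 𝔞 ^ n) E (Ideal.Quotient.mk _ a) = 0
      rw [Ideal.Quotient.eq_zero_iff_mem.mpr ha, map_zero]
    let uA : B →ₐ[A] E ⧸ J :=
      (u.restrictScalars A).comp (Ideal.Quotient.mkₐ A ((𝔞 ^ n).map (algebraMap A B)))
    have huA : ∃ k : ℕ, ∀ x ∈ 𝔟 ^ k, uA x = 0 := by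
      obtain ⟨k, hk⟩ := hu
      refine ⟨k, fun x hx => hk _ ?_⟩
      rw [← Ideal.map_pow]
      exact Ideal.mem_map_of_mem _ hx
    obtain ⟨w, hw⟩ := hB E J hJ hEA uA huA
    have hwker : ∀ b ∈ (𝔞 ^ n).map (algebraMap A B), w b = 0 := by
      intro b hb
      have h1 : (𝔞 ^ n).map (algebraMap A B) ≤ RingHom.ker w.toRingHom := by
        rw [Ideal.map_le_iff_le_comap]
        intro a ha
        rw [Ideal.mem_comap, RingHom.mem_ker]
        show w (algebraMap A B a) = 0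
        rw [w.commutes]
        show algebraMap (A ⧸ 𝔞 ^ n) E (Ideal.Quotient.mk _ a) = 0
        rw [Ideal.Quotient.eq_zero_iff_mem.mpr ha, map_zero]
      exact h1 hb
    let w' : (B ⧸ (𝔞 ^ n).map (algebraMap A B)) →ₐ[A] E := Ideal.Quotient.liftₐ _ w hwker
    let w'' : (B ⧸ (𝔞 ^ n).map (algebraMap A B)) →ₐ[A ⧸ 𝔞 ^ n] E :=
      { w'.toRingHom with
        commutes' := fun y => by
          obtain ⟨a, rfl⟩ := Ideal.Quotient.mk_surjective y
          show w' (Ideal.Quotient.mk _ (algebraMap A B a)) = _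
          show w (algebraMap A B a) = _
          rw [w.commutes]
          rfl }
    refine ⟨w'', ?_⟩
    ext x
    obtain ⟨b, rfl⟩ := Ideal.Quotient.mk_surjective x
    exact congrArg (fun φ => φ b) hw
  · intro h E _ _ J hJ hE u hu
    obtain ⟨n, hn⟩ := hE
    have hker : ∀ a ∈ 𝔞 ^ n, algebraMap A E a = 0 := by
      intro a ha
      have := Ideal.mem_map_of_mem (algebraMap A E) ha
      rw [hn] at this
      exact this
    letI : Algebra (A ⧸ 𝔞 ^ n) E := (Ideal.Quotient.lift (𝔞 ^ n) (algebraMap A E) hker).toAlgebra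
    haveI : IsScalarTower A (A ⧸ 𝔞 ^ n) E := IsScalarTower.of_algebraMap_eq (fun _ => rfl)
    have huker : ∀ b ∈ (𝔞 ^ n).map (algebraMap A B), u b = 0 := by
      intro b hb
      have h1 : (𝔞 ^ n).map (algebraMap A B) ≤ RingHom.ker u.toRingHom := by
        rw [Ideal.map_le_iff_le_comap]
        intro a ha
        rw [Ideal.mem_comap, RingHom.mem_ker]
        show u (algebraMap A B a) = 0
        rw [u.commutes]
        show Ideal.Quotient.mk J (algebraMap A E a) = 0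
        rw [hker a ha, map_zero]
      exact h1 hb
    let u' : (B ⧸ (𝔞 ^ n).map (algebraMap A B)) →ₐ[A] E ⧸ J := Ideal.Quotient.liftₐ _ u huker
    let u'' : (B ⧸ (𝔞 ^ n).map (algebraMap A B)) →ₐ[A ⧸ 𝔞 ^ n] E ⧸ J :=
      { u'.toRingHom with
        commutes' := fun y => by
          obtain ⟨a, rfl⟩ := Ideal.Quotient.mk_surjective y
          show u (algebraMap A B a) = _
          rw [u.commutes]
          rfl }
    have hu'' : ∃ k : ℕ, ∀ x ∈ (𝔟.map (Ideal.Quotient.mk ((𝔞 ^ n).map (algebraMap A B)))) ^ k,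
        u'' x = 0 := by
      obtain ⟨k, hk⟩ := hu
      refine ⟨k, fun x hx => ?_⟩
      rw [← Ideal.map_pow] at hx
      obtain ⟨b, hb, rfl⟩ := (Ideal.mem_map_iff_of_surjective _ Ideal.Quotient.mk_surjective).mp hx
      exact hk b hb
    obtain ⟨v, hv⟩ := h n E J hJ ⟨1, by rw [pow_one, Ideal.map_bot]⟩ u'' hu''
    refine ⟨(v.restrictScalars A).comp (Ideal.Quotient.mkₐ A ((𝔞 ^ n).map (algebraMap A B))), ?_⟩
    ext b
    exact congrArg (fun φ => φ (Ideal.Quotient.mk _ b)) hv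


end Groth.Agent.S4536
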