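import Groth.Statements.S4534
import Groth.Agent.Lib.Helper5.CA.AdicFS

set_option autoImplicit false
universe u
open EGA41

namespace Groth.Agent.S4534

/-- Let A → B → C be continuous homomorphisms of adic rings (A with the 𝔞-adic, B the 𝔟-adic, C the
𝔠-adic topology; continuity: a power of 𝔞 maps into 𝔟 and a power of 𝔟 into 𝔠). If B is formally
smooth over A and C formally smooth over B, then C is formally smooth over A. -/
theorem result {A B C : Type u} [CommRing A] [CommRing B] [CommRing C] [Algebra A B] [Algebra B C]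
    [Algebra A C] [IsScalarTower A B C] (𝔞 : Ideal A) (𝔟 : Ideal B) (𝔠 : Ideal C)
    (hAB : ∃ k : ℕ, (𝔞 ^ k).map (algebraMap A B) ≤ 𝔟) (hBC : ∃ k : ℕ, (𝔟 ^ k).map (algebraMap B C) ≤ 𝔠)
    (hB : EGA41.IsFormallySmoothAdic A 𝔞 B 𝔟) (hC : EGA41.IsFormallySmoothAdic B 𝔟 C 𝔠) :
    EGA41.IsFormallySmoothAdic A 𝔞 C 𝔠 := by
  intro E _ _ J hJ hE u hu
  let uB : B →ₐ[A] E ⧸ J := u.comp (IsScalarTower.toAlgHom A B C)
  have huB : ∃ k : ℕ, ∀ x ∈ 𝔟 ^ k, uB x = 0 := by
    obtain ⟨k, hk⟩ := hu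
    obtain ⟨m, hm⟩ := hBC
    refine ⟨m * k, fun x hx => hk _ ?_⟩
    have h1 : (𝔟 ^ (m * k)).map (algebraMap B C) ≤ 𝔠 ^ k := by
      rw [pow_mul, Ideal.map_pow]
      exact Ideal.pow_right_mono hm k
    exact h1 (Ideal.mem_map_of_mem _ hx)
  obtain ⟨w, hw⟩ := hB E J hJ hE uB huB
  have hwc := Groth.Agent.H5.AdicFS.continuous_of_lift J hJ 𝔟 w (by rw [hw]; exact huB)
  letI : Algebra B E := w.toRingHom.toAlgebra
  haveI : IsScalarTower A B E := IsScalarTower.of_algebraMap_eq (fun a => (w.commutes a).symm)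
  let u' : C →ₐ[B] E ⧸ J :=
    { u.toRingHom with
      commutes' := fun b => by
        show u (algebraMap B C b) = Ideal.Quotient.mk J (w b)
        have := congrArg (fun φ => φ b) hw
        exact this.symm }
  have hE' : ∃ k : ℕ, (𝔟 ^ k).map (algebraMap B E) = ⊥ := by
    obtain ⟨k, hk⟩ := hwc
    refine ⟨k, ?_⟩
    rw [eq_bot_iff, Ideal.map_le_iff_le_comap]
    intro x hx
    exact hk x hx
  obtain ⟨v, hv⟩ := hC E J hJ hE' u' hu
  refine ⟨v.restrictScalars A, ?_⟩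
  ext c
  exact congrArg (fun φ => φ c) hv


end Groth.Agent.S4534
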