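import Groth.Statements.S0542
import Mathlib
import Groth.Agent.Lib.Helper1.CompleteNoeth

set_option autoImplicit false
universe u
open CAlg

namespace Groth.Agent.S0542


/-- If `I` is a finitely generated ideal of a ring `R` and `R/I` is Noetherian, then the `I`-adic
completion of `R` is a Noetherian ring. (The source also states completeness of the completion along
the extended ideal, which Mathlib already has; only Noetherianity is stated here.) -/
theorem result (R : Type u) [CommRing R] (I : Ideal R)
    (hI : I.FG) [IsNoetherianRing (R ⧸ I)] : IsNoetherianRing (AdicCompletion I R) := by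
  let J : Ideal (AdicCompletion I R) := I.map (algebraMap R (AdicCompletion I R))
  haveI : IsAdicComplete J (AdicCompletion I R) := by
    rw [IsAdicComplete.map_algebraMap_iff]
    exact AdicCompletion.isAdicComplete hI
  have hJfg : J.FG := hI.map _
  have hker := AdicCompletion.ker_evalOneₐ_eq_map I hI
  have hsurj : Function.Surjective (AdicCompletion.evalOneₐ I).toRingHom := by
    intro y
    obtain ⟨r, rfl⟩ := Ideal.Quotient.mk_surjective y
    exact ⟨algebraMap R _ r, by simp⟩
  haveI : IsNoetherianRing (AdicCompletion I R ⧸ J) := by
    have e := RingHom.quotientKerEquivOfSurjective hsurj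
    exact isNoetherianRing_of_ringEquiv (R ⧸ I) ((Ideal.quotEquivOfEq hker.symm).trans e).symm
  exact Groth.Agent.H1.CompleteNoeth.isNoetherianRing_of_isAdicComplete J hJfg

end Groth.Agent.S0542
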