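import Groth.Statements.S5784
import Groth.Agent.Lib.Helper1.RegRing

set_option autoImplicit false
universe u
open EGA41

namespace Groth.Agent.S5784

open PowerSeries in
theorem isRegularRing_powerSeries (A : Type u) [CommRing A] [IsRegularRing A] :
    IsRegularRing (PowerSeries A) := by
  have hker : RingHom.ker (constantCoeff (R := A)) = Ideal.span {(X : PowerSeries A)} := by
    ext φ
    rw [RingHom.mem_ker, Ideal.mem_span_singleton, X_dvd_iff]
  haveI : IsRegularRing (PowerSeries A ⧸ Ideal.span {(X : PowerSeries A)}) :=
    IsRegularRing.of_ringEquiv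
      ((RingHom.quotientKerEquivOfSurjective (constantCoeff_surj (R := A))).symm.trans
        (Ideal.quotEquivOfEq hker))
  apply Groth.Agent.H1.Reg.isRegularRing_of_quotient (PowerSeries A) X
  · rw [← Ideal.jacobson_bot, Ideal.mem_jacobson_bot]
    intro y
    rw [isUnit_iff_constantCoeff]
    simp
  · rw [mem_nonZeroDivisors_iff]
    constructor
    · intro φ h
      apply X_mul_cancel
      rw [h, mul_zero]
    · intro φ h
      apply X_mul_cancel
      rw [mul_comm, h, mul_zero]

theorem isRegularRing_mvPowerSeries_fin (A : Type u) [CommRing A] [IsRegularRing A] :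
    ∀ n : ℕ, IsRegularRing (MvPowerSeries (Fin n) A) := by
  intro n
  induction n with
  | zero =>
    exact IsRegularRing.of_ringEquiv (MvPowerSeries.isEmptyEquiv (Fin 0) A).toRingEquiv.symm
  | succ n ih =>
    haveI := ih
    haveI := isRegularRing_powerSeries (MvPowerSeries (Fin n) A)
    exact IsRegularRing.of_ringEquiv (MvPowerSeries.finSuccEquiv A n).toRingEquiv.symm

/-- If A is a regular ring, then the formal power series ring A[[T_1, ..., T_n]] is regular, for every
n. -/
theorem result (A : Type u) [CommRing A] [IsRegularRing A] (n : ℕ) :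
    IsRegularRing (MvPowerSeries (Fin n) A) := by
  exact isRegularRing_mvPowerSeries_fin A n

end Groth.Agent.S5784
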