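import Groth.Statements.S6946
import Mathlib
import Groth.Agent.H4.TorBridge
import Groth.Agent.H4.TorAmp3
import Groth.Agent.H4.PCDesc1

set_option autoImplicit false
universe u
open CategoryTheory CategoryTheory.Limits
attribute [local instance] HasDerivedCategory.standard
open DRing

namespace Groth.Agent.S6946


open MonoidalCategory DerivedCategory Groth.Agent.H4.LDer Groth.Agent.H4.PC Groth.Agent.H4.TV
  Groth.Agent.H4.TorBridge Groth.Agent.H4.TorAmp Groth.Agent.H4.PCDesc

lemma flat_of_hasTorAmp_zero {R : Type u} [CommRing R] (M : ModuleCat.{u} R)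
    (h : HasTorAmplitudeIn R 0 0 ((singleFunctor (ModuleCat.{u} R) 0).obj M)) : Module.Flat R M := by
  obtain ⟨F, hz, hfl, ⟨e⟩⟩ := h
  haveI : F.IsStrictlyGE 0 := by
    rw [CochainComplex.isStrictlyGE_iff]
    intro i hi
    exact hz i (Or.inl hi)
  haveI : F.IsStrictlyLE 0 := by
    rw [CochainComplex.isStrictlyLE_iff]
    intro i hi
    exact hz i (Or.inr hi)
  obtain ⟨N, ⟨eN⟩⟩ := CochainComplex.exists_iso_single F 0
  have eN0 : F.X 0 ≅ N := (HomologicalComplex.eval _ _ 0).mapIso eN ≪≫
    HomologicalComplex.singleObjXSelf (ComplexShape.up ℤ) 0 N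
  have e1 : (singleFunctor (ModuleCat.{u} R) 0).obj N ≅ (singleFunctor (ModuleCat.{u} R) 0).obj M :=
    (singleFunctorIsoCompQ _ 0).app N ≪≫ (Q.mapIso eN).symm ≪≫ e
  have e2 : N ≅ M := (singleFunctor (ModuleCat.{u} R) 0).preimageIso e1
  haveI := hfl 0
  exact Module.Flat.of_linearEquiv (eN0 ≪≫ e2).symm.toLinearEquiv

/-- With the definition of tor dimension: let R be a commutative ring, M an R-module and d a natural
number. Then Tor_p^R(M, N) = 0 for every R-module N and every p > d if and only if M[0] is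
isomorphic in D(R) to a complex of flat modules vanishing outside [-d, 0] (a flat resolution of M of
length d). In particular M has tor dimension 0 (Tor_p^R(M, N) = 0 for every N and every p > 0) if
and only if M is flat. -/
theorem result (R : Type u) [CommRing R] (M : Type u)
    [AddCommGroup M] [Module R M] (d : ℕ) :
    (DRing.HasTorDimLE R d M ↔ DRing.HasTorAmplitudeIn R (-(d : ℤ)) 0 (Dual.inD R M)) ∧
      (DRing.HasTorDimLE R 0 M ↔ Module.Flat R M) := by
  haveI : ∀ M : ModuleCat.{u} R, (Gh (tensorRight M)).HasLeftDerivedFunctor (WA R) :=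
    fun M => Groth.Agent.H4.KProj.hasLeftDerivedFunctor _
  have key : ∀ d : ℕ, DRing.HasTorDimLE R d M ↔
      DRing.HasTorAmplitudeIn R (-(d : ℤ)) 0 (Dual.inD R M) := by
    intro d
    rw [hasTorAmp_iff]
    constructor
    · intro h N j hj
      rcases hj with hj | hj
      · obtain ⟨p, rfl⟩ : ∃ p : ℕ, j = -(p : ℤ) := ⟨(-j).toNat, by
          have := Int.toNat_of_nonneg (show 0 ≤ -j by omega); omega⟩
        rw [HV_single_iff_isZero_tor _ _ p (by omega)]
        haveI := h N p (by omega)
        exact ModuleCat.isZero_of_subsingleton _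
      · haveI := isLE_LG (tensorRight N) (Dual.inD R M) 0
        exact isZero_of_isLE _ 0 j hj
    · intro h N _ _ p hp
      have h1 := h (ModuleCat.of R N) (-(p : ℤ)) (Or.inl (by omega))
      rw [HV_single_iff_isZero_tor _ _ p (by omega)] at h1
      exact ModuleCat.subsingleton_of_isZero h1
  refine ⟨key d, ?_⟩
  constructor
  · intro h
    have h1 := (key 0).1 h
    exact flat_of_hasTorAmp_zero (ModuleCat.of R M) (by simpa using h1)
  · intro h N _ _ p hp
    obtain ⟨q, rfl⟩ : ∃ q, p = q + 1 := ⟨p - 1, by omega⟩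
    exact ModuleCat.subsingleton_of_isZero
      (Groth.Agent.H2.TorBal.isZero_tor_succ_of_flat_left (ModuleCat.of R M) (ModuleCat.of R N) q)


end Groth.Agent.S6946
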