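import Groth.Statements.S6962
import Groth.Agent.H4.RegPerf
import Groth.Agent.H4.Perf1
import Groth.Agent.H4.PC9

set_option autoImplicit false
universe u
open CategoryTheory CategoryTheory.Limits
attribute [local instance] HasDerivedCategory.standard
open DRing

namespace Groth.Agent.S6962

open CategoryTheory CategoryTheory.Limits DerivedCategory DRing Groth.Agent.H4.DRing1 Groth.Agent.H4.RegPerf Groth.Agent.H4.PC Groth.Agent.H4.Perf



/-- Let R be a regular commutative ring, i.e. R is Noetherian and its localization at every prime ideal
is a regular local ring. Then an R-module M is perfect (M[0] is isomorphic in D(R) to a bounded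
complex of finite projective modules) if and only if M is finitely generated. -/
theorem result (R : Type u) [CommRing R] [IsNoetherianRing R]
    (hreg : ∀ p : PrimeSpectrum R, IsRegularLocalRing (Localization.AtPrime p.asIdeal))
    (M : Type u) [AddCommGroup M] [Module R M] :
    DRing.IsPerfectModule R M ↔ Module.Finite R M := by
  haveI : IsRegularRing R := isRegularRing_iff.mpr (fun p hp => hreg ⟨p, hp⟩)
  constructor
  · intro h
    exact (isPC'_module_iff_of_noetherian M).mp (isPC'_of_isPerfect h)
  · intro h
    exact isPerfectModule_of_finite_of_isRegularRing M


end Groth.Agent.S6962
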