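import Groth.Statements.S6945
import Groth.Agent.H4.TorAmp2

set_option autoImplicit false
universe u
open CategoryTheory CategoryTheory.Limits
attribute [local instance] HasDerivedCategory.standard
open DRing

namespace Groth.Agent.S6945

open CategoryTheory DRing MonoidalCategory

attribute [local instance] HasDerivedCategory.standard
open DerivedCategory Groth.Agent.H4.LDer Groth.Agent.H4.DRing1 Groth.Agent.H4.PC Groth.Agent.H4.ResP
  Groth.Agent.H4.TorAmp

/-- With the definition of tor amplitude: let R be a commutative ring, K an object of D(R) and a, b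
integers, and assume the derived tensor product - ⊗^L_R M exists on D(R) for every R-module M. Then
K is isomorphic in D(R) to a complex of flat R-modules vanishing outside [a, b] if and only if H^i(K
⊗^L_R M) = 0 for every R-module M and every integer i outside [a, b]. -/
theorem result (R : Type u) [CommRing R]
    [∀ M : ModuleCat.{u} R, DRing.HasLTensor R M] (K : Dual.D R) (a b : ℤ) :
    DRing.HasTorAmplitudeIn R a b K ↔
      ∀ (M : ModuleCat.{u} R) (i : ℤ), (i < a ∨ b < i) → Subsingleton (Dual.HD R ((DRing.LTensor R M).obj K) i) := by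
  constructor
  · rintro ⟨F, hz, hfl, ⟨e⟩⟩ M i hi
    have hF : IsBAFlat b F := ⟨fun i hi => hz i (Or.inr hi), hfl⟩
    have e' := isoOfFlat (flatExact_tensorRight M) hF e
    have h0 : Limits.IsZero (((GC (tensorRight M)).obj F).X i) := (tensorRight M).map_isZero (hz i hi)
    have h1 := isZero_homology_toD_of_isZero _ i h0
    exact ModuleCat.subsingleton_of_isZero
      (h1.of_iso ((homologyFunctor (ModuleCat.{u} R) i).mapIso e'))
  · intro h
    -- `K` has cohomology in `[a, b]`
    have hK : ∀ i : ℤ, (i < a ∨ b < i) → Limits.IsZero ((homologyFunctor (ModuleCat.{u} R) i).obj K) := by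
      intro i hi
      haveI := h (𝟙_ (ModuleCat.{u} R)) i hi
      have h1 : Limits.IsZero ((homologyFunctor (ModuleCat.{u} R) i).obj
          ((DRing.LTensor R (𝟙_ (ModuleCat.{u} R))).obj K)) := ModuleCat.isZero_of_subsingleton _
      exact h1.of_iso ((homologyFunctor (ModuleCat.{u} R) i).mapIso (LGUnitIso R K).symm)
    haveI : K.IsLE b := by rw [isLE_iff]; exact fun i hi => hK i (Or.inr hi)
    obtain ⟨P, hP, ⟨e⟩⟩ := exists_iso_of_isLE K b
    haveI := hP.isKProjective
    have h1 : ∀ i : ℤ, i < a → P.ExactAt i := by
      intro i hi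
      rw [HomologicalComplex.exactAt_iff_isZero_homology]
      exact ((hK i (Or.inl hi)).of_iso ((homologyFunctor (ModuleCat.{u} R) i).mapIso e)).of_iso
        (homologyToDIso P i).symm
    have h2 : ∀ (M : ModuleCat.{u} R), ((GC (tensorRight M)).obj P).ExactAt (a - 1) := by
      intro M
      haveI := h M (a - 1) (Or.inl (by omega))
      have h3 : Limits.IsZero ((homologyFunctor (ModuleCat.{u} R) (a - 1)).obj
          ((DRing.LTensor R M).obj K)) := ModuleCat.isZero_of_subsingleton _
      rw [HomologicalComplex.exactAt_iff_isZero_homology]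
      exact (h3.of_iso ((homologyFunctor (ModuleCat.{u} R) (a - 1)).mapIso
        (isoOfIso (tensorRight M) P e).symm)).of_iso (homologyToDIso _ (a - 1)).symm
    obtain ⟨E, hE1, hE2, ⟨e'⟩⟩ := hasTorAmp_of_exactAt P a b hP.isBAFlat h1 h2
    exact ⟨E, hE1, hE2, ⟨e' ≪≫ e⟩⟩


end Groth.Agent.S6945
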