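import Groth.Statements.S7018
import Groth.Agent.S6945

set_option autoImplicit false
universe u
open CategoryTheory CategoryTheory.Limits
attribute [local instance] HasDerivedCategory.standard
open DRing

namespace Groth.Agent.S7018

open CategoryTheory CategoryTheory.Limits DRing MonoidalCategory

attribute [local instance] HasDerivedCategory.standard
open DerivedCategory

lemma isZero_of_retract {C D : Type*} [Category C] [Category D] [HasZeroMorphisms D] (Φ : C ⥤ D) {X Y : C}
    (i : X ⟶ Y) (r : Y ⟶ X) (h : i ≫ r = 𝟙 X) (hY : IsZero (Φ.obj Y)) : IsZero (Φ.obj X) := by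
  rw [IsZero.iff_id_eq_zero, ← Φ.map_id, ← h, Φ.map_comp]
  rw [hY.eq_of_tgt (Φ.map i) 0, zero_comp]

/-- Let R be a commutative ring such that the derived tensor product - ⊗^L_R M exists on D(R) for every
R-module M, let a, b be integers and K, L objects of D(R). Tor amplitude in [a, b] of the direct sum
K ⊕ L implies tor amplitude in [a, b] of each summand K and L. -/
theorem result (R : Type u) [CommRing R] [∀ M : ModuleCat.{u} R, DRing.HasLTensor R M]
    (a b : ℤ) (K L : Dual.D R) [HasBinaryBiproduct K L] (h : DRing.HasTorAmplitudeIn R a b (K ⊞ L)) :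
    DRing.HasTorAmplitudeIn R a b K ∧ DRing.HasTorAmplitudeIn R a b L := by
  rw [Groth.Agent.S6945.result] at h ⊢
  rw [Groth.Agent.S6945.result]
  constructor
  · intro M i hi
    have h0 := h M i hi
    have h1 : IsZero ((DRing.LTensor R M ⋙ homologyFunctor (ModuleCat.{u} R) i).obj (K ⊞ L)) :=
      @ModuleCat.isZero_of_subsingleton _ _ _ h0
    exact ModuleCat.subsingleton_of_isZero
      (isZero_of_retract (DRing.LTensor R M ⋙ homologyFunctor (ModuleCat.{u} R) i)
        biprod.inl biprod.fst biprod.inl_fst h1)
  · intro M i hi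
    have h0 := h M i hi
    have h1 : IsZero ((DRing.LTensor R M ⋙ homologyFunctor (ModuleCat.{u} R) i).obj (K ⊞ L)) :=
      @ModuleCat.isZero_of_subsingleton _ _ _ h0
    exact ModuleCat.subsingleton_of_isZero
      (isZero_of_retract (DRing.LTensor R M ⋙ homologyFunctor (ModuleCat.{u} R) i)
        biprod.inr biprod.snd biprod.inr_snd h1)


end Groth.Agent.S7018
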