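import Groth.Statements.S7019
import Groth.Agent.H4.Perf1
import Groth.Agent.S7018

set_option autoImplicit false
universe u
open CategoryTheory CategoryTheory.Limits
attribute [local instance] HasDerivedCategory.standard
open DRing

namespace Groth.Agent.S7019

/-- Let R be a commutative ring such that the derived tensor product - ⊗^L_R M exists on D(R) for every
R-module M, and let K, L be objects of D(R). If K ⊕ L is perfect, then K and L are perfect. -/
theorem result (R : Type u) [CommRing R] [∀ M : ModuleCat.{u} R, DRing.HasLTensor R M]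
    (K L : Dual.D R) [HasBinaryBiproduct K L] (h : DRing.IsPerfect R (K ⊞ L)) :
    DRing.IsPerfect R K ∧ DRing.IsPerfect R L := by
  rw [Groth.Agent.H4.Perf.isPerfect_iff] at h
  obtain ⟨h1, a, b, h2⟩ := h
  have h3 := Groth.Agent.H4.PC.isPC'_of_biprod K L h1
  have h4 := Groth.Agent.S7018.result R a b K L h2
  exact ⟨Groth.Agent.H4.Perf.isPerfect_of_isPC'_of_hasTorAmp h3.1 h4.1,
    Groth.Agent.H4.Perf.isPerfect_of_isPC'_of_hasTorAmp h3.2 h4.2⟩


end Groth.Agent.S7019
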