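import Groth.Statements.S6947
import Mathlib
import Groth.Agent.H4.TorRestr

set_option autoImplicit false
universe u
open CategoryTheory CategoryTheory.Limits
attribute [local instance] HasDerivedCategory.standard
open DRing

namespace Groth.Agent.S6947


open MonoidalCategory DerivedCategory Groth.Agent.H4.LDer Groth.Agent.H4.PC Groth.Agent.H4.TV
  Groth.Agent.H4.TorBridge Groth.Agent.H4.TorAmp Groth.Agent.H4.PCDesc Groth.Agent.H4.BC
  Groth.Agent.H4.RestrPC Groth.Agent.H4.TorRestr

/-- Let A → B be a homomorphism of commutative rings such that B, as an A-module, has tor dimension at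
most d: B[0] is isomorphic in D(A) to a complex of flat A-modules vanishing outside [-d, 0]. Let K
be an object of D(B) with tor amplitude in [a, b] over B. Then K, with scalars restricted to A, has
tor amplitude in [a - d, b] over A. -/
theorem result {A B : Type u} [CommRing A] [CommRing B]
    [Algebra A B] (d : ℕ) (hB : DRing.HasTorAmplitudeIn A (-(d : ℤ)) 0 (Dual.inD A B)) (K : Dual.D B)
    (a b : ℤ) (hK : DRing.HasTorAmplitudeIn B a b K) :
    DRing.HasTorAmplitudeIn A (a - d) b ((DRing.restrictD (algebraMap A B)).obj K) := by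
  haveI : ∀ M : ModuleCat.{u} A, (Gh (tensorRight M)).HasLeftDerivedFunctor (WA A) :=
    fun M => Groth.Agent.H4.KProj.hasLeftDerivedFunctor _
  obtain ⟨F, hz, hfl, ⟨e⟩⟩ := hK
  refine hasTorAmp_of_iso ((restrictToDIso (A := A) F).symm ≪≫
    (restrictD (algebraMap A B)).mapIso e) ?_
  refine hasTorAmp_of_termwise (a - d) b _ a b (fun i hi =>
    (ModuleCat.restrictScalars.{u} (algebraMap A B)).map_isZero (hz i hi)) (fun i => ?_)
  by_cases hi : a ≤ i ∧ i ≤ b
  · haveI := hfl i
    exact hasTorAmp_mono (by omega) (by omega) (hasTorAmp_single_restrict_flat d hB (F.X i))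
  · haveI : Subsingleton ((((ModuleCat.restrictScalars.{u} (algebraMap A B)).mapHomologicalComplex
        (ComplexShape.up ℤ)).obj F).X i) :=
      ModuleCat.subsingleton_of_isZero (M := F.X i) (hz i (by omega))
    exact hasTorAmp_single_of_subsingleton _ _ 0 _


end Groth.Agent.S6947
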