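import Groth.Statements.S7066
import Mathlib
import Groth.Agent.H4.PolyTor
import Groth.Agent.H4.Perf1
import Groth.Agent.H4.PCHom
import Groth.Agent.S6946
import Groth.Agent.S6947
import Groth.Prelude.Def_MoreMor

set_option autoImplicit false
universe u
attribute [local instance] HasDerivedCategory.standard
open MoreMor

namespace Groth.Agent.S7066

open CategoryTheory CategoryTheory.Limits MonoidalCategory DerivedCategory DRing Groth.Agent.H4.LDer Groth.Agent.H4.PC Groth.Agent.H4.TorAmp Groth.Agent.H4.Perf Groth.Agent.H4.PCHom Groth.Agent.H4.PCDesc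


lemma hasTorAmp_single_shrink {A : Type u} [CommRing A] (M : ModuleCat.{u} A) (a b : ℤ)
    (h : HasTorAmplitudeIn A a b ((singleFunctor (ModuleCat.{u} A) 0).obj M)) :
    HasTorAmplitudeIn A (-(((-a).toNat : ℕ) : ℤ)) 0 ((singleFunctor (ModuleCat.{u} A) 0).obj M) := by
  haveI : ∀ M : ModuleCat.{u} A, (Gh (tensorRight M)).HasLeftDerivedFunctor (WA A) :=
    fun M => Groth.Agent.H4.KProj.hasLeftDerivedFunctor _
  rw [hasTorAmp_iff] at h ⊢
  intro N j hj
  rcases hj with hj | hj
  · exact h N j (Or.inl (by have := Int.self_le_toNat (-a); omega))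
  · haveI := isLE_LG (tensorRight N) ((singleFunctor (ModuleCat.{u} A) 0).obj M) 0
    exact isZero_of_isLE _ 0 j hj

/-- restriction of scalars along a scalar tower. -/
noncomputable def towerIso (A P M : Type u) [CommRing A] [CommRing P] [Algebra A P] [AddCommGroup M]
    [iA : Module A M] [Module P M] [IsScalarTower A P M] :
    ModuleCat.of A M ≅ (ModuleCat.restrictScalars.{u} (algebraMap A P)).obj (ModuleCat.of P M) :=
  @LinearEquiv.toModuleIso A _ M M _ _ iA (Module.compHom M (algebraMap A P))
    (@LinearEquiv.mk A A _ _ (RingHom.id A) (RingHom.id A) _ _ M M _ _ iA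
      (Module.compHom M (algebraMap A P))
      (@LinearMap.mk A A _ _ (RingHom.id A) M M _ _ iA (Module.compHom M (algebraMap A P))
        ⟨fun b => b, fun _ _ => rfl⟩ (fun a b => (algebraMap_smul P a b).symm))
      (fun b => b) (fun _ => rfl) (fun _ => rfl))

theorem core {A B : Type u} [CommRing A] [CommRing B] [Algebra A B] (n : ℕ)
    (φ : MvPolynomial (Fin n) A →ₐ[A] B) :
    letI := φ.toRingHom.toAlgebra
    DRing.IsPerfectModule (MvPolynomial (Fin n) A) B ↔
      (DRing.IsPseudoCoherentModule' (MvPolynomial (Fin n) A) B ∧ DRing.HasFiniteTorDim A B) := by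
  letI := φ.toRingHom.toAlgebra
  haveI : IsScalarTower A (MvPolynomial (Fin n) A) B := IsScalarTower.of_algebraMap_eq (fun a => by
    change algebraMap A B a = φ (algebraMap A _ a)
    rw [φ.commutes])
  constructor
  · intro h
    refine ⟨isPC'_of_isPerfect h, ?_⟩
    obtain ⟨a, b, hab⟩ := hasTorAmp_of_isPerfect h
    have hfl : DRing.HasTorAmplitudeIn A (-((0 : ℕ) : ℤ)) 0 (Dual.inD A (MvPolynomial (Fin n) A)) :=
      (Groth.Agent.S6946.result A (MvPolynomial (Fin n) A) 0).1.1
        ((Groth.Agent.S6946.result A (MvPolynomial (Fin n) A) 0).2.2 inferInstance)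
    have h1 := Groth.Agent.S6947.result 0 hfl _ a b hab
    have h2 := hasTorAmp_of_iso (restrictDSingle (algebraMap A (MvPolynomial (Fin n) A))
      (ModuleCat.of (MvPolynomial (Fin n) A) B)) h1
    let i := (towerIso A (MvPolynomial (Fin n) A) B).symm
    have h3 := hasTorAmp_of_iso ((singleFunctor (ModuleCat.{u} A) 0).mapIso i) h2
    have h4 := hasTorAmp_single_shrink _ _ _ h3
    exact ⟨_, (Groth.Agent.S6946.result A B _).1.2 h4⟩
  · rintro ⟨h1, d, h2⟩
    have h3 := Groth.Agent.H4.PolyTor.hasTorDimLE_mvPolynomial n B d h2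
    have h4 := (Groth.Agent.S6946.result (MvPolynomial (Fin n) A) B _).1.1 h3
    exact isPerfect_of_isPC'_of_hasTorAmp h1 h4

/-- A homomorphism of commutative rings A → B is perfect, i.e. pseudo-coherent with B of finite tor
dimension as an A-module, if and only if B is a quotient of a polynomial ring A[x_1, …, x_n] over
which B is a perfect module, i.e. B placed in degree 0 is isomorphic in the derived category of the
polynomial ring to a bounded complex of finite projective modules. -/
theorem result (A B : Type u) [CommRing A] [CommRing B] [Algebra A B] :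
    MoreMor.IsPerfectHom A B ↔
      ∃ (n : ℕ) (φ : MvPolynomial (Fin n) A →ₐ[A] B), Function.Surjective φ ∧
        letI := φ.toRingHom.toAlgebra
        DRing.IsPerfectModule (MvPolynomial (Fin n) A) B := by
  constructor
  · rintro ⟨⟨n, φ, hφ, h1⟩, h2⟩
    exact ⟨n, φ, hφ, (core n φ).2 ⟨h1, h2⟩⟩
  · rintro ⟨n, φ, hφ, h⟩
    have := (core n φ).1 h
    exact ⟨⟨n, φ, hφ, this.1⟩, this.2⟩


end Groth.Agent.S7066
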