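import Groth.Statements.S15821
import Groth.Agent.Lib.Helper2.Kos7

set_option autoImplicit false
universe u
open CategoryTheory
open Koszul

namespace Groth.Agent.S15821

/-- Let A be a commutative ring and f = (f_1, …, f_r) a sequence in A which is regular in the weak sense
(f_1 is a non-zero-divisor of A and each f_i is a non-zero-divisor of A/(f_1, …, f_{i-1}); no
condition A/(f) ≠ 0). Then the Koszul complex K(f) (iterated mapping-cone model, degrees -r, …, 0)
has vanishing cohomology in all nonzero degrees, i.e. f is Koszul-regular, and its cohomology in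
degree 0 is isomorphic as an A-module to A/(f_1, …, f_r) (existence of an A-linear isomorphism):
K(f) is a free resolution of A/(f). -/
theorem result (A : Type u) [CommRing A] (l : List A)
    (hl : RingTheory.Sequence.IsWeaklyRegular A l) :
    LCI.IsKoszulRegularSeq A l ∧
      Nonempty ((Koszul.koszul A l).homology 0 ≅ ModuleCat.of A (A ⧸ Ideal.ofList l)) := by
  have hK : ∀ l : List A, Koszul.koszul A l = CohIII.koszulCx (ModuleCat.of A A) l := by
    intro l
    induction l with
    | nil => rfl
    | cons f l ih =>
      change CochainComplex.mappingCone (f • 𝟙 (Koszul.koszul A l)) =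
        CochainComplex.mappingCone (f • 𝟙 (CohIII.koszulCx (ModuleCat.of A A) l))
      rw [ih]
  have key : ∀ K K' : CochainComplex (ModuleCat.{u} A) ℤ, K = K' →
      ((∀ i : ℤ, i ≠ 0 → Limits.IsZero (K'.homology i)) ∧
        Nonempty (K'.homology 0 ≅ ModuleCat.of A (A ⧸ Ideal.ofList l))) →
      ((∀ i : ℤ, i ≠ 0 → Limits.IsZero (K.homology i)) ∧
        Nonempty (K.homology 0 ≅ ModuleCat.of A (A ⧸ Ideal.ofList l))) := by
    rintro K K' rfl h
    exact h
  refine key _ _ (hK l) ⟨?_, ?_⟩
  · intro i hi
    exact Groth.Agent.H2.Kos.isZero_koszulH_of_isWeaklyRegular l A hl i hi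
  · obtain ⟨e⟩ := Groth.Agent.H2.Kos.nonempty_homology0_equiv_quot A l
    have h1 : (Ideal.ofList l • (⊤ : Submodule A A)) = Ideal.ofList l := by
      simp
    exact ⟨(e ≪≫ₗ Submodule.quotEquivOfEq _ _ h1).toModuleIso⟩

end Groth.Agent.S15821
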