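import Groth.Statements.S2085
import Groth.Agent.Lib.Helper6.SkQuot
import Groth.Agent.Lib.Helper6.CMKit

set_option autoImplicit false
universe u
open CAlg

namespace Groth.Agent.S2085

/-- Let `M` be a finite module over a Noetherian ring `R`. Then every associated prime of `M` is minimal
in the support of `M` (no embedded primes) if and only if `M` satisfies Serre's condition `(S_1)`. -/
theorem result {R M : Type u} [CommRing R] [IsNoetherianRing R] [AddCommGroup M] [Module R M]
    [Module.Finite R M] :
    (∀ p ∈ associatedPrimes R M, p ∈ (Module.annihilator R M).minimalPrimes) ↔ LocCoh.HasSk 1 R M := by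
  rw [H6.Sk.hasSk_iff]
  constructor
  · intro h p hp j hjk hj
    have hj' : j = 0 ∨ j = 1 := by omega
    rcases hj' with rfl | rfl
    · intro i hi
      exact absurd hi (Nat.not_lt_zero _)
    · apply H6.Depth.locDepthGE_one_of_not_mem_associatedPrimes
      intro hass
      have hmin := h p hass
      -- the support of `M_p` is a single point
      have hsub : Subsingleton (Module.support (Localization.AtPrime p)
          (LocalizedModule p.primeCompl M)) := by
        have key : ∀ Q ∈ Module.support (Localization.AtPrime p)
            (LocalizedModule p.primeCompl M),
            Q.asIdeal = IsLocalRing.maximalIdeal (Localization.AtPrime p) := by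
          intro Q hQ
          rw [H6.Sk.mem_support_localizedModule_iff] at hQ
          rw [Module.mem_support_iff_of_finite] at hQ
          have hQp : Ideal.comap (algebraMap R (Localization.AtPrime p)) Q.asIdeal ≤ p := by
            have h1 : Q.asIdeal ≤ IsLocalRing.maximalIdeal (Localization.AtPrime p) :=
              IsLocalRing.le_maximalIdeal Q.2.ne_top
            have h2 := Ideal.comap_mono (f := algebraMap R (Localization.AtPrime p)) h1
            have h3 : Ideal.comap (algebraMap R (Localization.AtPrime p))
                (IsLocalRing.maximalIdeal (Localization.AtPrime p)) = p :=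
              IsLocalization.AtPrime.under_maximalIdeal (Localization.AtPrime p) p
            rw [h3] at h2
            exact h2
          have hpQ : p ≤ Ideal.comap (algebraMap R (Localization.AtPrime p)) Q.asIdeal :=
            hmin.2 ⟨Ideal.IsPrime.comap _, hQ⟩ hQp
          have heq : Ideal.comap (algebraMap R (Localization.AtPrime p)) Q.asIdeal = p :=
            le_antisymm hQp hpQ
          have h4 := IsLocalization.map_under p.primeCompl (Localization.AtPrime p) Q.asIdeal
          rw [Ideal.under_def, heq,
            IsLocalization.AtPrime.map_eq_maximalIdeal p (Localization.AtPrime p)] at h4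
          exact h4.symm
        refine ⟨fun a b => ?_⟩
        apply Subtype.ext
        apply PrimeSpectrum.ext
        rw [key a.1 a.2, key b.1 b.2]
      have hle : Module.supportDim (Localization.AtPrime p)
          (LocalizedModule p.primeCompl M) ≤ 0 := by
        unfold Module.supportDim
        exact Order.krullDim_nonpos_of_subsingleton
      have h1 := hj.trans hle
      have h2 : ((1 : ℕ) : WithBot ℕ∞) = 1 := rfl
      rw [h2] at h1
      exact absurd h1 (by decide)
  · intro h p hass
    haveI hp : p.IsPrime := hass.isPrime
    have hann : Module.annihilator R M ≤ p := H6.CM.annihilator_le_of_mem_associatedPrimes hass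
    obtain ⟨q, hq, hqp⟩ := Ideal.exists_minimalPrimes_le hann
    rcases eq_or_lt_of_le hqp with heq | hlt
    · rw [← heq]; exact hq
    · exfalso
      haveI hqprime : q.IsPrime := hq.1.1
      have hdisj : ∀ (a : Ideal R), a ≤ p → Disjoint (p.primeCompl : Set R) a := by
        intro a ha
        rw [Set.disjoint_left]
        intro x hx hxa
        exact hx (ha hxa)
      have hcq := IsLocalization.under_map_of_isPrime_disjoint p.primeCompl
        (Localization.AtPrime p) hqprime (hdisj q hqp)
      have hcp := IsLocalization.under_map_of_isPrime_disjoint p.primeCompl
        (Localization.AtPrime p) hp (hdisj p le_rfl)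
      have hQprime : (Ideal.map (algebraMap R (Localization.AtPrime p)) q).IsPrime :=
        IsLocalization.isPrime_of_isPrime_disjoint p.primeCompl _ q hqprime (hdisj q hqp)
      have hPprime : (Ideal.map (algebraMap R (Localization.AtPrime p)) p).IsPrime :=
        IsLocalization.isPrime_of_isPrime_disjoint p.primeCompl _ p hp (hdisj p le_rfl)
      let Q : PrimeSpectrum (Localization.AtPrime p) := ⟨_, hQprime⟩
      let P : PrimeSpectrum (Localization.AtPrime p) := ⟨_, hPprime⟩
      have hQs : Q ∈ Module.support (Localization.AtPrime p)
          (LocalizedModule p.primeCompl M) := by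
        rw [H6.Sk.mem_support_localizedModule_iff, Module.mem_support_iff_of_finite]
        show Module.annihilator R M ≤ Ideal.comap _ _
        rw [← Ideal.under_def, hcq]
        exact hq.1.2
      have hPs : P ∈ Module.support (Localization.AtPrime p)
          (LocalizedModule p.primeCompl M) := by
        rw [H6.Sk.mem_support_localizedModule_iff, Module.mem_support_iff_of_finite]
        show Module.annihilator R M ≤ Ideal.comap _ _
        rw [← Ideal.under_def, hcp]
        exact hann
      have hQP : (⟨Q, hQs⟩ : Module.support (Localization.AtPrime p)
          (LocalizedModule p.primeCompl M)) < ⟨P, hPs⟩ := by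
        rw [Subtype.mk_lt_mk]
        rw [← PrimeSpectrum.asIdeal_lt_asIdeal]
        show Ideal.map _ q < Ideal.map _ p
        refine lt_of_le_of_ne (Ideal.map_mono hqp) ?_
        intro heq
        have h5 : q = p := by
          rw [← hcq, heq, hcp]
        exact hlt.ne h5
      have hdim : (1 : WithBot ℕ∞) ≤ Module.supportDim (Localization.AtPrime p)
          (LocalizedModule p.primeCompl M) := by
        unfold Module.supportDim
        rw [Order.one_le_krullDim_iff]
        exact ⟨_, _, hQP⟩
      have h1 := h p 1 le_rfl (by exact_mod_cast hdim)
      exact H6.Depth.not_mem_associatedPrimes_of_locDepthGE M p h1 hass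

end Groth.Agent.S2085
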