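import Groth.Statements.S0602
import Groth.Agent.S2085

set_option autoImplicit false
universe u
open CAlg

namespace Groth.Agent.S0602

/-- A Noetherian ring is reduced exactly when it satisfies the conditions R₀ and S₁. -/
theorem result (R : Type u) [CommRing R] [IsNoetherianRing R] :
    IsReduced R ↔ (LocCoh.HasRk 0 R ∧ LocCoh.HasSk 1 R R) := by
  have hann : Module.annihilator R R = ⊥ := by
    rw [eq_bot_iff]
    intro a ha
    have := Module.mem_annihilator.mp ha (1 : R)
    simpa using this
  rw [← Groth.Agent.S2085.result (R := R) (M := R), hann]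
  constructor
  · intro hred
    constructor
    · intro p hp hht
      have hmin : p ∈ minimalPrimes R := by
        apply Ideal.height_eq_zero_iff.mp
        exact le_antisymm (by simpa using hht) bot_le
      haveI := Ring.KrullDimLE.of_isLocalization p hmin (Localization.AtPrime p)
      haveI : IsNoetherianRing (Localization.AtPrime p) :=
        IsLocalization.isNoetherianRing p.primeCompl _ inferInstance
      have hfield : IsField (Localization.AtPrime p) := Ring.KrullDimLE.isField_of_isReduced
      rw [isRegularLocalRing_iff]
      have hm : IsLocalRing.maximalIdeal (Localization.AtPrime p) = ⊥ :=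
        IsLocalRing.isField_iff_maximalIdeal_eq.mp hfield
      rw [hm, Submodule.spanFinrank_bot, IsLocalization.AtPrime.ringKrullDim_eq_height p,
        Ideal.height_eq_zero_iff.mpr hmin]
      rfl
    · intro p hp
      haveI hprime : p.IsPrime := hp.isPrime
      obtain ⟨-, f, hf⟩ := (isAssociatedPrime_iff_exists_injective_linearMap p R).mp hp
      have hx0 : f 1 ≠ 0 := by
        intro h0
        have h2 : (1 : R ⧸ p) = 0 := hf (h0.trans (map_zero f).symm)
        haveI : Nontrivial (R ⧸ p) := Ideal.Quotient.nontrivial_iff.mpr hprime.ne_top
        exact one_ne_zero h2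
      have hpx : ∀ a ∈ p, a * f 1 = 0 := by
        intro a ha
        have : a • f 1 = 0 := by
          rw [← map_smul]
          have h2 : a • (1 : R ⧸ p) = 0 := by
            rw [Algebra.smul_def, mul_one]
            exact Ideal.Quotient.eq_zero_iff_mem.mpr ha
          rw [h2, map_zero]
        simpa using this
      have hrad : f 1 ∉ sInf (⊥ : Ideal R).minimalPrimes := by
        rw [Ideal.sInf_minimalPrimes]
        intro hmem
        have h1 : (⊥ : Ideal R).radical = nilradical R := rfl
        rw [h1, nilradical_eq_zero] at hmem
        exact hx0 hmem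
      rw [Ideal.mem_sInf] at hrad
      push_neg at hrad
      obtain ⟨q, hq, hxq⟩ := hrad
      have hpq : p ≤ q := by
        intro a ha
        have h1 : a * f 1 ∈ q := by rw [hpx a ha]; exact q.zero_mem
        rcases hq.1.1.mem_or_mem h1 with h | h
        · exact h
        · exact absurd h hxq
      have hqp : q ≤ p := hq.2 ⟨hprime, bot_le⟩ hpq
      rw [le_antisymm hpq hqp]
      exact hq
  · rintro ⟨hR0, hS1⟩
    constructor
    intro x hx
    by_contra hx0
    haveI : Nontrivial (Submodule.span R {x}) := by
      rw [Submodule.nontrivial_iff_ne_bot]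
      intro h
      exact hx0 ((Submodule.span_singleton_eq_bot).mp h)
    obtain ⟨p, hp⟩ := associatedPrimes.nonempty R (Submodule.span R {x})
    haveI hprime : p.IsPrime := hp.isPrime
    obtain ⟨-, f, hf⟩ := (isAssociatedPrime_iff_exists_injective_linearMap p _).mp hp
    have hpR : p ∈ associatedPrimes R R :=
      associatedPrimes.subset_of_injective (Submodule.injective_subtype (Submodule.span R {x})) hp
    have hmin := hS1 p hpR
    have hht : p.height = 0 := Ideal.height_eq_zero_iff.mpr hmin
    have hreg := hR0 p (by rw [hht]; exact bot_le)
    haveI : IsNoetherianRing (Localization.AtPrime p) :=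
      IsLocalization.isNoetherianRing p.primeCompl _ inferInstance
    have h1 := (isRegularLocalRing_iff (Localization.AtPrime p)).mp hreg
    rw [IsLocalization.AtPrime.ringKrullDim_eq_height p, hht] at h1
    have h2 : (IsLocalRing.maximalIdeal (Localization.AtPrime p)).spanFinrank = 0 := by
      exact_mod_cast h1
    have hm : IsLocalRing.maximalIdeal (Localization.AtPrime p) = ⊥ :=
      (Submodule.spanFinrank_eq_zero_iff_eq_bot (IsNoetherian.noetherian _)).mp h2
    -- the nilpotent element `z = f 1`
    obtain ⟨c, hc⟩ := Submodule.mem_span_singleton.mp (f 1).2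
    have hznil : IsNilpotent ((f 1 : Submodule.span R {x}) : R) := by
      rw [← hc, smul_eq_mul]
      exact (Commute.all c x).isNilpotent_mul_left hx
    have hz0 : algebraMap R (Localization.AtPrime p) ((f 1 : Submodule.span R {x}) : R) = 0 := by
      have h3 : IsNilpotent (algebraMap R (Localization.AtPrime p)
          ((f 1 : Submodule.span R {x}) : R)) := hznil.map _
      have h4 : algebraMap R (Localization.AtPrime p) ((f 1 : Submodule.span R {x}) : R) ∈
          IsLocalRing.maximalIdeal (Localization.AtPrime p) := by
        rw [IsLocalRing.mem_maximalIdeal, mem_nonunits_iff]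
        intro hu
        obtain ⟨n, hn⟩ := h3
        have := hu.pow n
        rw [hn] at this
        exact not_isUnit_zero this
      rw [hm] at h4
      exact h4
    obtain ⟨s, hs⟩ := (IsLocalization.map_eq_zero_iff p.primeCompl (Localization.AtPrime p) _).mp hz0
    have h5 : s.1 • f 1 = 0 := by
      apply Subtype.ext
      rw [Submodule.coe_smul, Submodule.coe_zero, smul_eq_mul]
      exact hs
    rw [← map_smul] at h5
    have h6 : s.1 • (1 : R ⧸ p) = 0 := hf (h5.trans (map_zero f).symm)
    rw [Algebra.smul_def, mul_one] at h6
    exact s.2 (Ideal.Quotient.eq_zero_iff_mem.mp h6)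

end Groth.Agent.S0602
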