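import Groth.Statements.S0548
import Groth.Agent.Lib.Helper1.FlatDim
import Groth.Agent.Lib.Helper1.RegLoc
import Groth.Agent.S0543

set_option autoImplicit false
universe u
open CAlg

namespace Groth.Agent.S0548


/-- A Noetherian local ring is regular exactly when its completion at the maximal ideal is a regular
local ring. -/
theorem result (A : Type u) [CommRing A] [IsLocalRing A]
    [IsNoetherianRing A] :
    IsRegularLocalRing A ↔ IsRegularLocalRing (AdicCompletion (IsLocalRing.maximalIdeal A) A) := by
  haveI : IsNoetherianRing (AdicCompletion (IsLocalRing.maximalIdeal A) A) :=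
    Groth.Agent.S0543.result A _
  constructor
  · intro h
    apply IsRegularLocalRing.of_spanFinrank_maximalIdeal_le
    rw [AdicCompletion.spanFinrank_maximalIdeal_eq, IsRegularLocalRing.spanFinrank_maximalIdeal]
    exact Groth.Agent.H1.FlatDim.ringKrullDim_le_of_flat_isLocalHom A _
  · intro h
    exact Groth.Agent.H1.Reg.isRegularLocalRing_of_flat A
      (AdicCompletion (IsLocalRing.maximalIdeal A) A)

end Groth.Agent.S0548
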