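import Groth.Statements.S5779
import Groth.Agent.Lib.Helper1.RegParam
import Groth.Agent.Lib.Helper1.RegPd

set_option autoImplicit false
universe u
open EGA41

namespace Groth.Agent.S5779

open IsLocalRing

theorem withBot_cancel (a : WithBot ℕ∞) (e r : ℕ)
    (h : ((e + r : ℕ) : WithBot ℕ∞) ≤ a + (r : WithBot ℕ∞)) : (e : WithBot ℕ∞) ≤ a := by
  induction a with
  | bot =>
    rw [WithBot.bot_add] at h
    exact absurd h (by simp)
  | coe a =>
    induction a with
    | top => exact le_top
    | coe n =>
      have h' : e + r ≤ n + r := by exact_mod_cast h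
      have : e ≤ n := by omega
      exact_mod_cast this

section
variable (A : Type u) [CommRing A] [IsLocalRing A] [IsNoetherianRing A] (r : ℕ)
  (x : Fin r → IsLocalRing.maximalIdeal A)

theorem span_le_maximalIdeal :
    Ideal.span (Set.range fun i => (x i : A)) ≤ maximalIdeal A := by
  rw [Ideal.span_le]
  rintro _ ⟨i, rfl⟩
  exact (x i).2

theorem span_ne_top : Ideal.span (Set.range fun i => (x i : A)) ≠ ⊤ := by
  intro h
  have := span_le_maximalIdeal A r x
  rw [h] at this
  exact (maximalIdeal.isMaximal A).ne_top (top_le_iff.mp this)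

theorem forward [IsLocalRing (A ⧸ Ideal.span (Set.range fun i => (x i : A)))]
    (hA : IsRegularLocalRing A)
    (hli : LinearIndependent (ResidueField A)
      (fun i => (maximalIdeal A).toCotangent (x i))) :
    ringKrullDim (A ⧸ Ideal.span (Set.range fun i => (x i : A))) + r = ringKrullDim A ∧
      IsRegularLocalRing (A ⧸ Ideal.span (Set.range fun i => (x i : A))) := by
  classical
  obtain ⟨e, y, he, hgen⟩ := Groth.Agent.H1.Reg.exists_extension_generators r x hli
  have hd : ringKrullDim A = ((maximalIdeal A).spanFinrank : ℕ) :=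
    (IsRegularLocalRing.spanFinrank_maximalIdeal (R := A)).symm
  rw [← IsLocalRing.spanFinrank_maximalIdeal_eq_finrank_cotangentSpace] at he
  have hK := Groth.Agent.H1.Reg.spanFinrank_maximalIdeal_quotient_le
    (Ideal.span (Set.range fun i => (x i : A))) (fun i => (x i : A)) (fun j => (y j : A)) rfl hgen
  rw [Fintype.card_fin] at hK
  have hJr : (Ideal.span (Set.range fun i => (x i : A))).spanFinrank ≤ r := by
    refine (Submodule.spanFinrank_span_le_ncard_of_finite (Set.finite_range _)).trans ?_
    rw [← Set.image_univ]
    refine (Set.ncard_image_le Set.finite_univ).trans ?_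
    rw [Set.ncard_univ, Nat.card_eq_fintype_card, Fintype.card_fin]
  have hD := ringKrullDim_le_ringKrullDim_quotient_add_spanFinrank
    (Ideal.span (Set.range fun i => (x i : A))) (by
      rw [ringJacobson_eq_maximalIdeal]
      exact span_le_maximalIdeal A r x)
  have hD' : ((e + r : ℕ) : WithBot ℕ∞) ≤
      ringKrullDim (A ⧸ Ideal.span (Set.range fun i => (x i : A))) + (r : WithBot ℕ∞) := by
    rw [he, ← hd]
    refine hD.trans ?_
    gcongr
  have hge := withBot_cancel _ e r hD'
  have hle : ringKrullDim (A ⧸ Ideal.span (Set.range fun i => (x i : A))) ≤ (e : WithBot ℕ∞) :=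
    (ringKrullDim_le_spanFinrank_maximalIdeal _).trans (by exact_mod_cast hK)
  refine ⟨?_, IsRegularLocalRing.of_spanFinrank_maximalIdeal_le _
    (le_trans (by exact_mod_cast hK) hge)⟩
  rw [le_antisymm hle hge, hd, ← he]
  push_cast
  rfl

theorem backward [IsLocalRing (A ⧸ Ideal.span (Set.range fun i => (x i : A)))]
    (hdim : ringKrullDim (A ⧸ Ideal.span (Set.range fun i => (x i : A))) + r = ringKrullDim A)
    (hreg : IsRegularLocalRing (A ⧸ Ideal.span (Set.range fun i => (x i : A)))) :
    IsRegularLocalRing A ∧ LinearIndependent (ResidueField A)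
      (fun i => (maximalIdeal A).toCotangent (x i)) := by
  classical
  set J := Ideal.span (Set.range fun i => (x i : A)) with hJ
  have hd' : ringKrullDim (A ⧸ J) = ((maximalIdeal (A ⧸ J)).spanFinrank : ℕ) :=
    (IsRegularLocalRing.spanFinrank_maximalIdeal (R := A ⧸ J)).symm
  set e := (maximalIdeal (A ⧸ J)).spanFinrank with he
  obtain ⟨ybar, hybar⟩ := Groth.Agent.H1.Reg.exists_fin_span_eq_maximalIdeal (A ⧸ J) e hd'
  have hsurj : Function.Surjective (Ideal.Quotient.mk J) := Ideal.Quotient.mk_surjective
  have hcomap : (maximalIdeal (A ⧸ J)).comap (Ideal.Quotient.mk J) = maximalIdeal A := by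
    haveI : IsLocalHom (Ideal.Quotient.mk J) := IsLocalHom.of_surjective _ hsurj
    exact IsLocalRing.maximalIdeal_comap (Ideal.Quotient.mk J)
  have hym : ∀ j, Function.surjInv hsurj (ybar j) ∈ maximalIdeal A := by
    intro j
    rw [← hcomap, Ideal.mem_comap, Function.surjInv_eq hsurj, ← hybar]
    exact Ideal.subset_span ⟨j, rfl⟩
  let y : Fin e → maximalIdeal A := fun j => ⟨Function.surjInv hsurj (ybar j), hym j⟩
  have hgen : Ideal.span (Set.range (fun i => (x i : A)) ∪ Set.range (fun j => (y j : A))) =
      maximalIdeal A := by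
    rw [Ideal.span_union, ← hJ]
    have h1 : Ideal.span (Set.range ybar) =
        (Ideal.span (Set.range fun j => (y j : A))).map (Ideal.Quotient.mk J) := by
      rw [Ideal.map_span, ← Set.range_comp]
      congr 2
      funext j
      exact (Function.surjInv_eq hsurj (ybar j)).symm
    have h2 : maximalIdeal A =
        ((Ideal.span (Set.range fun j => (y j : A))).map (Ideal.Quotient.mk J)).comap
          (Ideal.Quotient.mk J) := by
      rw [← h1, hybar, hcomap]
    refine Eq.trans ?_ h2.symm
    rw [Ideal.comap_map_of_surjective _ hsurj, ← RingHom.ker_eq_comap_bot, Ideal.mk_ker,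
      sup_comm]
  have hdimA : ringKrullDim A = ((e + r : ℕ) : WithBot ℕ∞) := by
    rw [← hdim, hd']
    push_cast
    rfl
  have hsf : (maximalIdeal A).spanFinrank ≤ e + r := by
    rw [← hgen]
    refine (Submodule.spanFinrank_span_le_ncard_of_finite
      ((Set.finite_range _).union (Set.finite_range _))).trans ?_
    refine (Set.ncard_union_le _ _).trans ?_
    have h1 : (Set.range fun i => (x i : A)).ncard ≤ r := by
      rw [← Set.image_univ]
      refine (Set.ncard_image_le Set.finite_univ).trans ?_
      rw [Set.ncard_univ, Nat.card_eq_fintype_card, Fintype.card_fin]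
    have h2 : (Set.range fun j => (y j : A)).ncard ≤ e := by
      rw [← Set.image_univ]
      refine (Set.ncard_image_le Set.finite_univ).trans ?_
      rw [Set.ncard_univ, Nat.card_eq_fintype_card, Fintype.card_fin]
    omega
  have hA : IsRegularLocalRing A := by
    apply IsRegularLocalRing.of_spanFinrank_maximalIdeal_le
    rw [hdimA]
    exact_mod_cast hsf
  refine ⟨hA, ?_⟩
  have hsf' : (maximalIdeal A).spanFinrank = e + r := by
    have := IsRegularLocalRing.spanFinrank_maximalIdeal (R := A)
    rw [hdimA] at this
    exact_mod_cast this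
  let v : Fin r ⊕ Fin e → maximalIdeal A := Sum.elim x y
  have hv : Ideal.span (Set.range fun i => (v i : A)) = maximalIdeal A := by
    have hrange : (Set.range fun i => (v i : A)) =
        Set.range (fun i => (x i : A)) ∪ Set.range (fun j => (y j : A)) := by
      ext a
      simp only [Set.mem_range, Sum.exists, Set.mem_union]
      rfl
    rw [hrange, hgen]
  have hcard : Fintype.card (Fin r ⊕ Fin e) =
      Module.finrank (ResidueField A) (CotangentSpace A) := by
    rw [Fintype.card_sum, Fintype.card_fin, Fintype.card_fin,
      ← IsLocalRing.spanFinrank_maximalIdeal_eq_finrank_cotangentSpace, hsf']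
    omega
  have hli := Groth.Agent.H1.Reg.linearIndependent_toCotangent v
    (Groth.Agent.H1.Reg.span_range_eq_top_of_span_eq v hv) hcard
  exact hli.comp Sum.inl Sum.inl_injective

end

/-- Let A be a Noetherian local ring with maximal ideal m and residue field k, (x_i)_{1 ≤ i ≤ r}
elements of m and J = x_1 A + ... + x_r A. Then A is regular with the classes of the x_i in m/m²
linearly independent over k (equivalently: the x_i are part of a regular system of parameters) if
and only if the x_i are part of a system of parameters of A (dim(A/J) = dim(A) - r) and A/J is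
regular. When these conditions hold, J is a prime ideal. -/
theorem result (A : Type u) [CommRing A] [IsLocalRing A]
    [IsNoetherianRing A] (r : ℕ) (x : Fin r → IsLocalRing.maximalIdeal A) :
    ((IsRegularLocalRing A ∧
        LinearIndependent (IsLocalRing.ResidueField A)
          (fun i => (IsLocalRing.maximalIdeal A).toCotangent (x i))) ↔
      (ringKrullDim (A ⧸ Ideal.span (Set.range fun i => (x i : A))) + r = ringKrullDim A ∧
        IsRegularLocalRing (A ⧸ Ideal.span (Set.range fun i => (x i : A))))) ∧
    (IsRegularLocalRing (A ⧸ Ideal.span (Set.range fun i => (x i : A))) →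
      ringKrullDim (A ⧸ Ideal.span (Set.range fun i => (x i : A))) + r = ringKrullDim A →
        (Ideal.span (Set.range fun i => (x i : A))).IsPrime) := by
  haveI : Nontrivial (A ⧸ Ideal.span (Set.range fun i => (x i : A))) :=
    Ideal.Quotient.nontrivial_iff.mpr (span_ne_top A r x)
  haveI : IsLocalRing (A ⧸ Ideal.span (Set.range fun i => (x i : A))) :=
    IsLocalRing.of_surjective' (Ideal.Quotient.mk _) Ideal.Quotient.mk_surjective
  refine ⟨⟨fun h => forward A r x h.1 h.2, fun h => backward A r x h.1 h.2⟩, ?_⟩
  intro hreg _
  haveI := hreg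
  haveI : IsDomain (A ⧸ Ideal.span (Set.range fun i => (x i : A))) :=
    Groth.Agent.H7.Reg.isDomain _
  exact (Ideal.Quotient.isDomain_iff_prime _).mp inferInstance

end Groth.Agent.S5779
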