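import Groth.Statements.S2082
import Groth.Agent.Lib.Helper1.Miracle

set_option autoImplicit false
universe u
open CAlg

namespace Groth.Agent.S2082


/-- Take a local homomorphism `R → S` between Noetherian local rings, where `R` is regular, `S` is
Cohen–Macaulay, and `dim S = dim R + dim (S/𝔪_R S)`. Then `S` is flat over `R`. -/
theorem result {R S : Type u} [CommRing R] [CommRing S] [IsRegularLocalRing R]
    [LocCoh.IsCohenMacaulayLocalRing S] [Algebra R S] [IsLocalHom (algebraMap R S)]
    (hdim : ringKrullDim S = ringKrullDim R +
      ringKrullDim (S ⧸ (IsLocalRing.maximalIdeal R).map (algebraMap R S))) :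
    Module.Flat R S := by
  haveI : IsNoetherianRing S := inferInstance
  haveI : IsLocalRing S := inferInstance
  have hCM : LocCoh.IsCohenMacaulayModule S S :=
    LocCoh.IsCohenMacaulayLocalRing.supportDim_eq_depth
  apply Groth.Agent.H1.Miracle.flat_of_cm (A := R) (B := S) S hCM
  have hIeq : (((IsLocalRing.maximalIdeal R).map (algebraMap R S)) • (⊤ : Submodule S S)) =
      (IsLocalRing.maximalIdeal R).map (algebraMap R S) := by rw [smul_eq_mul, Ideal.mul_top]
  rw [Module.supportDim_self_eq_ringKrullDim, hdim,
    Module.supportDim_eq_of_equiv (Submodule.quotEquivOfEq _ _ hIeq),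
    Module.supportDim_quotient_eq_ringKrullDim]

end Groth.Agent.S2082
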