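import Groth.Statements.S0603
import Groth.Agent.Lib.Helper6.CMCat
import Groth.Agent.S2092

set_option autoImplicit false
universe u
open CAlg

namespace Groth.Agent.S0603

/-- Every Cohen–Macaulay ring (Noetherian with all local rings Cohen–Macaulay) satisfies the universally
catenary chain condition. -/
theorem result (R : Type u) [CommRing R]
    [LocCoh.IsCohenMacaulayRing R] : CAlg.IsUniversallyCatenary R := by
  refine ⟨inferInstance, ?_⟩
  intro S _ _ hS
  obtain ⟨n, f, hf⟩ := Algebra.FiniteType.iff_quotient_mvPolynomial''.mp hS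
  have : LocCoh.IsCohenMacaulayRing (MvPolynomial (Fin n) R) := Groth.Agent.S2092.result n
  have h1 := Groth.Agent.H6.CMCat.isCatenary_of_cm (MvPolynomial (Fin n) R)
  have h2 := Groth.Agent.H5.isCatenary_quotient _ (RingHom.ker f.toRingHom) h1
  exact Groth.Agent.H6.CMCat.isCatenary_of_ringEquiv
    (RingHom.quotientKerEquivOfSurjective (f := f.toRingHom) hf) h2

end Groth.Agent.S0603
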