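import Groth.Statements.S0326
import Groth.Agent.Lib.Helper8.LC.T1
-- import your own Groth.Agent.* helpers here

set_option autoImplicit false
universe u v
open LocCoh

namespace Groth.Agent.S0326

open Groth.Agent.H8.LC CategoryTheory in
theorem aux (R : Type u) [CommRing R] [IsNoetherianRing R] (s : Finset R) :
    ∀ (M : ModuleCat.{u} R) (i : ℕ), s.card < i →
      Limits.IsZero ((localCohomology (Ideal.span (s : Set R)) i).obj M) := by
  classical
  induction s using Finset.induction_on with
  | empty =>
    intro M i hi
    obtain ⟨n, rfl⟩ := Nat.exists_eq_succ_of_ne_zero (Nat.pos_iff_ne_zero.1 hi)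
    apply lc_isZero_of_torsion
    rw [eq_top_iff]
    intro x _
    refine ⟨1, fun r hr => ?_⟩
    simp only [Finset.coe_empty, Ideal.span_empty, pow_one, Ideal.mem_bot] at hr
    rw [hr, zero_smul]
  | insert b s hb ih =>
    intro M i hi
    rw [Finset.card_insert_of_notMem hb] at hi
    obtain ⟨n, rfl⟩ := Nat.exists_eq_succ_of_ne_zero (Nat.pos_iff_ne_zero.1 (Nat.zero_lt_of_lt hi))
    have e : Ideal.span ((insert b s : Finset R) : Set R) =
        Ideal.span (s : Set R) ⊔ Ideal.span {b} := by
      rw [Finset.coe_insert, Ideal.span_insert, sup_comm]
    rw [e]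
    exact T1_isZero_succ _ b M n (ih M n (by omega)) (ih M (n + 1) (by omega))

/-- For a Noetherian ring R and an ideal of R generated by a finite set of r elements, local cohomology
with support in that ideal vanishes in all degrees above r, for every R-module. This is the
Noetherian case of the published statement. -/
theorem result (R : Type u) [CommRing R] [IsNoetherianRing R] (s : Finset R) : LocCoh.CdLE R (Ideal.span (s : Set R)) s.card := by
  intro M _ _ i hi
  exact ModuleCat.subsingleton_of_isZero (aux R s (ModuleCat.of R M) i hi)

end Groth.Agent.S0326
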