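import Groth.Statements.S0733
import Mathlib
import Groth.Agent.H4.IndEtCrit

set_option autoImplicit false
open CategoryTheory CategoryTheory.Limits AlgebraicGeometry Opposite Topology
universe u
open scoped TensorProduct
open ProEtW

namespace Groth.Agent.S0733

open CategoryTheory CategoryTheory.Limits TensorProduct

open Groth.Agent.H4.IndEtCrit

lemma etale_of_iso {R : Type u} [CommRing R] {X Y : Under (CommRingCat.of R)} (i : X ≅ Y)
    (h : letI := Y.hom.hom.toAlgebra; Algebra.Etale R Y.right) :
    letI := X.hom.hom.toAlgebra; Algebra.Etale R X.right := by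
  letI := X.hom.hom.toAlgebra
  letI := Y.hom.hom.toAlgebra
  have h1 : i.hom.right ≫ i.inv.right = 𝟙 _ := by rw [← Under.comp_right, i.hom_inv_id]; rfl
  have h2 : i.inv.right ≫ i.hom.right = 𝟙 _ := by rw [← Under.comp_right, i.inv_hom_id]; rfl
  let eq : Y.right ≃ₐ[R] X.right :=
    { toFun := i.inv.right.hom
      invFun := i.hom.right.hom
      left_inv := fun y => congrArg (fun φ => φ.hom y) h2
      right_inv := fun x => congrArg (fun φ => φ.hom x) h1
      map_mul' := map_mul _
      map_add' := map_add _
      commutes' := fun r => congrArg (fun φ => φ.hom r) (Under.w i.inv) }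
  exact Algebra.Etale.of_equiv eq

noncomputable def pushoutIso (A A' S : Type u) [CommRing A] [CommRing A'] [CommRing S]
    [Algebra A S] [Algebra A A'] :
    (Under.pushout (CommRingCat.ofHom (algebraMap A A'))).obj
        (Under.mk (CommRingCat.ofHom (algebraMap A S))) ≅
      Under.mk (CommRingCat.ofHom (algebraMap A' (A' ⊗[A] S))) := by
  let M : Under (CommRingCat.of A') := Under.mk (CommRingCat.ofHom
    (Algebra.TensorProduct.includeRight.toRingHom : A' →+* S ⊗[A] A'))
  have i1 : M ≅ (Under.pushout (CommRingCat.ofHom (algebraMap A A'))).obj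
        (Under.mk (CommRingCat.ofHom (algebraMap A S))) :=
    Under.isoMk (CommRingCat.isPushout_tensorProduct A S A').isoPushout
      (IsPushout.inr_isoPushout_hom _)
  have i2 : M ≅ Under.mk (CommRingCat.ofHom (algebraMap A' (A' ⊗[A] S))) :=
    Under.isoMk ((Algebra.TensorProduct.comm A S A').toRingEquiv.toCommRingCatIso) (by
      ext x
      show Algebra.TensorProduct.comm A S A' ((1 : S) ⊗ₜ[A] x) = x ⊗ₜ[A] (1 : S)
      simp)
  exact i1.symm ≪≫ i2

/-- If A -> B is ind-etale (a filtered colimit of etale A-algebras) and A -> A' is any ring map, then A'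
-> A' (x)_A B is ind-etale. -/
theorem result (A B A' : Type u) [CommRing A] [CommRing B] [CommRing A']
    [Algebra A B] [Algebra A A'] (h : EtPBC.IsIndEtale A B) :
    EtPBC.IsIndEtale A' (A' ⊗[A] B) := by
  obtain ⟨J, _, _, D, c, hc, het, ⟨e⟩⟩ := h
  let φ : CommRingCat.of A ⟶ CommRingCat.of A' := CommRingCat.ofHom (algebraMap A A')
  let P := Under.pushout φ
  haveI : PreservesColimitsOfSize.{u, u} P := (Under.mapPushoutAdj φ).leftAdjoint_preservesColimits
  refine ⟨J, inferInstance, inferInstance, D ⋙ P, P.mapCocone c, isColimitOfPreserves P hc, ?_,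
    ⟨P.mapIso e ≪≫ pushoutIso A A' B⟩⟩
  intro j
  letI := stageAlg D j
  have iso : (D ⋙ P).obj j ≅
      Under.mk (CommRingCat.ofHom (algebraMap A' (A' ⊗[A] (D.obj j).right))) :=
    pushoutIso A A' (D.obj j).right
  refine etale_of_iso iso ?_
  haveI : Algebra.Etale A (D.obj j).right := het j
  have halg : (Under.mk (CommRingCat.ofHom (algebraMap A' (A' ⊗[A] (D.obj j).right)))).hom.hom.toAlgebra
      = (inferInstance : Algebra A' (A' ⊗[A] (D.obj j).right)) :=
    Algebra.algebra_ext _ _ (fun r => rfl)
  show @Algebra.Etale A' (A' ⊗[A] (D.obj j).right) _ _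
    (Under.mk (CommRingCat.ofHom (algebraMap A' (A' ⊗[A] (D.obj j).right)))).hom.hom.toAlgebra
  rw [halg]
  infer_instance


end Groth.Agent.S0733
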