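import Groth.Statements.S0734
import Mathlib
import Groth.Agent.H4.IndEtTrans

set_option autoImplicit false
open CategoryTheory CategoryTheory.Limits AlgebraicGeometry Opposite Topology
universe u
open ProEtW

namespace Groth.Agent.S0734

open CategoryTheory CategoryTheory.Limits TensorProduct

open Groth.Agent.H4.IndEtCrit Groth.Agent.H4.IndEtDescent Groth.Agent.H4.IndEtTrans

/-- A composite of two ind-etale ring maps is ind-etale. -/
theorem result (A B C : Type u) [CommRing A] [CommRing B] [CommRing C] [Algebra A B]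
    [Algebra B C] [Algebra A C] [IsScalarTower A B C] (hAB : EtPBC.IsIndEtale A B)
    (hBC : EtPBC.IsIndEtale B C) : EtPBC.IsIndEtale A C := by
  have cAB := crit_of_isIndEtale hAB
  have cBC := crit_of_isIndEtale hBC
  apply isIndEtale_of_crit
  constructor
  · intro γ
    obtain ⟨E, _, _, hE, g, ε, hε⟩ := cBC.lift γ
    letI : Algebra A E := Algebra.compHom E (algebraMap A B)
    haveI : IsScalarTower A B E := IsScalarTower.of_algebraMap_eq (fun _ => rfl)
    obtain ⟨F, _, _, hF, k, f, hf⟩ := Crit.liftEtaleOver cAB E ε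
    exact ⟨F, inferInstance, inferInstance, hF, (g.restrictScalars A).comp k, f, by
      rw [AlgHom.comp_apply, hf]; exact hε⟩
  · intro F _ _ _ g f hf
    let G : B ⊗[A] F →ₐ[B] C :=
      Algebra.TensorProduct.lift (Algebra.ofId B C) g (fun _ _ => Commute.all _ _)
    have hG : G (1 ⊗ₜ f) = 0 := by
      rw [Algebra.TensorProduct.lift_tmul, map_one, one_mul, hf]
    obtain ⟨E', _, _, hE', h, g', hg', hh⟩ := cBC.kill (B ⊗[A] F) G (1 ⊗ₜ f) hG
    letI : Algebra A E' := Algebra.compHom E' (algebraMap A B)
    haveI : IsScalarTower A B E' := IsScalarTower.of_algebraMap_eq (fun _ => rfl)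
    have cE' : Crit A E' := Crit.etale_over cAB E'
    let k : F →ₐ[A] E' := (h.restrictScalars A).comp Algebra.TensorProduct.includeRight
    have hk : k f = 0 := hh
    obtain ⟨F', _, _, hF', h', k', hk', hh'⟩ := cE'.kill F k f hk
    refine ⟨F', inferInstance, inferInstance, hF', h', (g'.restrictScalars A).comp k', ?_, hh'⟩
    rw [AlgHom.comp_assoc, hk']
    ext y
    have := congrArg (fun φ => φ (1 ⊗ₜ y)) hg'
    simp only [AlgHom.comp_apply] at this
    show g' (h (1 ⊗ₜ y)) = g y
    rw [this, Algebra.TensorProduct.lift_tmul, map_one, one_mul]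


end Groth.Agent.S0734
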