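import Groth.Statements.S2156
import Mathlib
import Groth.Agent.Lib.Helper1.SmoothFibre
import Groth.Agent.Lib.Helper1.SmoothFibre2
import Groth.Agent.Lib.Helper1.EtNhd

set_option autoImplicit false
universe u
open CategoryTheory AlgebraicGeometry
open Mor

namespace Groth.Agent.S2156

namespace H1.S2156aux
open TensorProduct IsLocalRing Groth.Agent.H1.SmoothFibre Groth.Agent.H1.FibreStalk

/-- Lemma C: transport of `formallySmooth_fiber_iff` along isomorphisms. -/
theorem lemmaC {R₀ S₀ R S K F : Type u} [CommRing R₀] [CommRing S₀] [CommRing R] [CommRing S]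
    [CommRing K] [CommRing F] [IsLocalRing R₀] [IsLocalRing R] [Algebra R S]
    (φ : R₀ →+* S₀) (eR : R₀ ≃+* R) (eS : S₀ ≃+* S)
    (hcomm : (algebraMap R S).comp (eR : R₀ →+* R) = (eS : S₀ →+* S).comp φ)
    (ρ₀ : R₀ →+* K) (hρ₀ : Function.Surjective ρ₀) (hkρ₀ : RingHom.ker ρ₀ = maximalIdeal R₀)
    (π₀ : S₀ →+* F) (hπ₀ : Function.Surjective π₀)
    (hker : RingHom.ker π₀ = (maximalIdeal R₀).map φ)
    (ψ : K →+* F) (hsq : π₀.comp φ = ψ.comp ρ₀) :
    ψ.FormallySmooth ↔ Algebra.FormallySmooth (ResidueField R) (ResidueField R ⊗[R] S) := by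
  have hc : ∀ t, algebraMap R S (eR t) = eS (φ t) := fun t => congr($hcomm t)
  refine formallySmooth_fiber_iff (ρ₀.comp (eR.symm : R →+* R₀))
    (hρ₀.comp eR.symm.surjective) ?_ (π₀.comp (eS.symm : S →+* S₀))
    (hπ₀.comp eS.symm.surjective) ?_ ψ ?_
  · ext t
    rw [RingHom.mem_ker, RingHom.comp_apply, ← RingHom.mem_ker, hkρ₀, mem_maximalIdeal,
      mem_maximalIdeal, mem_nonunits_iff, mem_nonunits_iff]
    exact not_congr (isUnit_map_iff eR.symm t)
  · ext t
    rw [RingHom.mem_ker, RingHom.comp_apply, ← RingHom.mem_ker, hker]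
    have h1 : (maximalIdeal R).map (algebraMap R S) =
        ((maximalIdeal R₀).map φ).map (eS : S₀ →+* S) := by
      rw [Ideal.map_map, ← hcomm, ← Ideal.map_map]
      congr 1
      ext r
      rw [Ideal.map_comap_of_equiv, Ideal.mem_comap]
      rw [mem_maximalIdeal, mem_maximalIdeal, mem_nonunits_iff, mem_nonunits_iff]
      exact (not_congr (isUnit_map_iff eR.symm r)).symm
    rw [h1, Ideal.map_comap_of_equiv, Ideal.mem_comap]
    rfl
  · ext t
    obtain ⟨t₀, rfl⟩ := eR.surjective t
    simp only [RingHom.comp_apply, RingHom.coe_coe, RingEquiv.symm_apply_apply, hc]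
    exact congr($hsq t₀)


set_option backward.isDefEq.respectTransparency.types false in
set_option backward.defeqAttrib.useBackward true in
theorem main {X S : Scheme.{u}} (f : X ⟶ S) [LocallyOfFinitePresentation f] (x : X)
    [LocallyOfFinitePresentation (f.fiberToSpecResidueField (f x))] :
    x ∈ f.smoothLocus ↔
      (f.stalkMap x).hom.Flat ∧ f.asFiber x ∈ (f.fiberToSpecResidueField (f x)).smoothLocus := by
  obtain ⟨_, ⟨U, hU, rfl⟩, hxU, -⟩ :=
    S.isBasis_affineOpens.exists_subset_of_mem_open (Set.mem_univ (f x)) isOpen_univ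
  obtain ⟨_, ⟨V, hV, rfl⟩, hxV, hVU⟩ :=
    X.isBasis_affineOpens.exists_subset_of_mem_open hxU (U.2.preimage f.continuous)
  have hfp := f.finitePresentation_appLE hU hV hVU
  algebraize [(f.appLE U V hVU).hom]
  let p := (hU.primeIdealOf ⟨f x, hVU hxV⟩).asIdeal
  let q := (hV.primeIdealOf ⟨x, hxV⟩).asIdeal
  have hqp : q.LiesOver p :=
    ⟨congr($(IsAffineOpen.comap_primeIdealOf_appLE U hU V hV hVU hxV).1).symm⟩
  let _ := Localization.AtPrime.algebraOfLiesOver p q
  let iso := IsAffineOpen.arrowStalkMapIso f U hU V hV hVU hxV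
  -- flatness transfer
  have hflat_iff : (f.stalkMap x).hom.Flat ↔
      Module.Flat (Localization.AtPrime p) (Localization.AtPrime q) := by
    rw [← RingHom.flat_algebraMap_iff]
    exact RingHom.Flat.respectsIso.arrow_mk_iso_iff iso
  -- fibre transfer
  obtain ⟨ρ₀, hρ₀, hkρ₀, hsq⟩ := exists_toResStalk f x
  let eR : S.presheaf.stalk (f x) ≃+* Localization.AtPrime p :=
    (asIso iso.hom.left).commRingCatIsoToRingEquiv
  let eS : X.presheaf.stalk x ≃+* Localization.AtPrime q :=
    (asIso iso.hom.right).commRingCatIsoToRingEquiv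
  have hcomm : (algebraMap (Localization.AtPrime p) (Localization.AtPrime q)).comp
      (eR : S.presheaf.stalk (f x) →+* Localization.AtPrime p) =
      (eS : X.presheaf.stalk x →+* Localization.AtPrime q).comp (f.stalkMap x).hom := by
    have := iso.hom.w
    ext t
    exact congr(($this).hom t)
  have hfib := lemmaC (f.stalkMap x).hom eR eS hcomm ρ₀ hρ₀ hkρ₀ (toFiberStalk f x)
    (toFiberStalk_surjective f x) (ker_toFiberStalk f x)
    ((f.fiberToSpecResidueField (f x)).stalkMap (f.asFiber x)).hom hsq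
  rw [Scheme.Hom.mem_smoothLocus, Scheme.Hom.mem_smoothLocus, hfib]
  constructor
  · intro h
    have hxW : x ∈ f.smoothLocus := h
    have h1 : Algebra.IsSmoothAt Γ(S, U) q := (formallySmooth_stalkMap_iff U hU V hV hVU hxV).mp h
    have h2 : Algebra.FormallySmooth (Localization.AtPrime p) (Localization.AtPrime q) :=
      Algebra.FormallySmooth.iff_restrictScalars.mp h1
    refine ⟨?_, inferInstance⟩
    -- flatness via the smooth locus
    have hsm : Smooth (f.smoothLocus.ι ≫ f) := by
      rw [← Scheme.Hom.smoothLocus_eq_top_iff, ← Scheme.Hom.preimage_smoothLocus_eq]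
      exact Scheme.Opens.ι_preimage_self _
    have hfl := Flat.stalkMap (f.smoothLocus.ι ≫ f) ⟨x, hxW⟩
    exact Groth.Agent.H1.EtNhd.stalkMap_prop_of_restrict f f.smoothLocus.ι ⟨x, hxW⟩ RingHom.Flat
      RingHom.Flat.respectsIso hfl
  · rintro ⟨hfl, hfs⟩
    rw [hflat_iff] at hfl
    exact (formallySmooth_stalkMap_iff U hU V hV hVU hxV).mpr
      (isSmoothAt_of_flat_of_formallySmooth_fiber p q hfl hfs)

end H1.S2156aux

/-- Let `f : X → S` be locally of finite presentation and `x ∈ X` with image `s`. Then `f` is smooth at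
`x` if and only if `O_{S,s} → O_{X,x}` is flat and the fibre `X_s → Spec κ(s)` is smooth at the
point corresponding to `x`. -/
theorem result {X S : Scheme.{u}} (f : X ⟶ S) [LocallyOfFinitePresentation f] (x : X)
    [LocallyOfFinitePresentation (f.fiberToSpecResidueField (f.base x))] :
    x ∈ f.smoothLocus ↔
      (f.stalkMap x).hom.Flat ∧ f.asFiber x ∈ (f.fiberToSpecResidueField (f.base x)).smoothLocus := by
  exact H1.S2156aux.main f x

end Groth.Agent.S2156
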