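import Groth.Statements.S6891
import Mathlib
import Groth.Agent.H4.Fitting

set_option autoImplicit false
universe u
open Fitt

namespace Groth.Agent.S6891

open Groth.Agent.H4.Fitting

theorem det_smul_eq_zero {R : Type u} [CommRing R] {M : Type u} [AddCommGroup M] [Module R M]
    {ι : Type*} [Fintype ι] [DecidableEq ι] (x : ι → M) (a : Matrix ι ι R)
    (hr : ∀ i, ∑ j, a i j • x j = 0) (j : ι) : a.det • x j = 0 := by
  calc a.det • x j = ∑ l, (a.det • (1 : Matrix ι ι R)) j l • x l := by
        simp [Matrix.smul_apply, Matrix.one_apply, ite_smul, mul_ite]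
    _ = ∑ l, (Matrix.adjugate a * a) j l • x l := by rw [Matrix.adjugate_mul]
    _ = ∑ l, ∑ i, (Matrix.adjugate a j i * a i l) • x l := by
        simp [Matrix.mul_apply, Finset.sum_smul]
    _ = ∑ i, Matrix.adjugate a j i • ∑ l, a i l • x l := by
        rw [Finset.sum_comm]
        simp [Finset.smul_sum, mul_smul]
    _ = 0 := by simp [hr]

theorem fitt_zero_le_ann {R : Type u} [CommRing R] (M : Type u) [AddCommGroup M]
    [Module R M] [Module.Finite R M] : Fitt.ideal R M 0 ≤ Module.annihilator R M := by
  obtain ⟨n, x, hx⟩ := Module.Finite.exists_fin (R := R) (M := M)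
  rw [ideal_eq_G 0 x hx, G_le_iff]
  intro a T hT hr
  have hT' : T = ∅ := by simpa using hT
  subst hT'
  rw [Module.mem_annihilator]
  intro m
  have hm : m ∈ Submodule.span R (Set.range x) := hx ▸ Submodule.mem_top
  induction hm using Submodule.span_induction with
  | mem v hv =>
    obtain ⟨j, rfl⟩ := hv
    exact det_smul_eq_zero x a (fun i => hr i (by simp)) j
  | zero => simp
  | add v w _ _ hv hw => rw [smul_add, hv, hw, add_zero]
  | smul c v _ hv => rw [smul_comm, hv, smul_zero]

/-- Let `M` be a finite `R`-module. Then `Fit_0(M) ⊆ Ann_R(M)`, the closed set `V(Fit_0(M))` equals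
`Supp(M)`, and for an ideal `I` one has `Fit_0(R/I) = I`. -/
theorem result {R : Type u} [CommRing R] (M : Type u) [AddCommGroup M]
    [Module R M] [Module.Finite R M] (I : Ideal R) :
    Fitt.ideal R M 0 ≤ Module.annihilator R M ∧
    PrimeSpectrum.zeroLocus (Fitt.ideal R M 0 : Set R) = Module.support R M ∧
    Fitt.ideal R (R ⧸ I) 0 = I := by
  refine ⟨fitt_zero_le_ann M, ?_, ?_⟩
  · rw [Module.support_eq_zeroLocus]
    apply le_antisymm
    · intro p hp
      rw [PrimeSpectrum.mem_zeroLocus] at hp ⊢
      intro f hf
      obtain ⟨n, x, hx⟩ := Module.Finite.exists_fin (R := R) (M := M)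
      have hfn : f ^ n ∈ Fitt.ideal R M 0 := by
        rw [ideal_eq_G 0 x hx]
        have := det_mem_G (R := R) (k := 0) (x := x) (f • (1 : Matrix (Fin n) (Fin n) R)) ∅
          (by simp) (fun i _ => by
            have hf' : ∀ m : M, f • m = 0 := fun m => Module.mem_annihilator.mp hf m
            simp [Matrix.smul_apply, Matrix.one_apply, mul_smul, hf'])
        simpa [Matrix.det_smul] using this
      exact p.2.mem_of_pow_mem n (hp hfn)
    · exact PrimeSpectrum.zeroLocus_anti_mono (fitt_zero_le_ann M)
  · have hx : Submodule.span R (Set.range (fun _ : Fin 1 => (1 : R ⧸ I))) = ⊤ := by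
      rw [eq_top_iff]
      rintro y -
      obtain ⟨r, rfl⟩ := Ideal.Quotient.mk_surjective y
      have : (Ideal.Quotient.mk I r) = r • (1 : R ⧸ I) := by
        rw [Algebra.smul_def]; simp
      rw [this]
      exact Submodule.smul_mem _ _ (Submodule.subset_span ⟨0, rfl⟩)
    rw [ideal_eq_G 0 _ hx]
    apply le_antisymm
    · rw [G_le_iff]
      intro a T hT hr
      have hT' : T = ∅ := by simpa using hT
      subst hT'
      have := hr 0 (by simp)
      rw [Matrix.det_fin_one]
      simp only [Finset.univ_unique, Fin.default_eq_zero, Finset.sum_singleton] at this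
      rw [Algebra.smul_def, mul_one] at this
      exact Ideal.Quotient.eq_zero_iff_mem.mp this
    · intro r hr
      have := det_mem_G (R := R) (k := 0) (x := fun _ : Fin 1 => (1 : R ⧸ I))
        (Matrix.of fun _ _ => r) ∅ (by simp) (fun i _ => by
          simp only [Finset.univ_unique, Fin.default_eq_zero, Finset.sum_singleton, Matrix.of_apply]
          rw [Algebra.smul_def, mul_one]
          exact Ideal.Quotient.eq_zero_iff_mem.mpr hr)
      simpa [Matrix.det_fin_one] using this


end Groth.Agent.S6891
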