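import Groth.Statements.S6894
import Mathlib
import Groth.Agent.H4.Fitting5

set_option autoImplicit false
universe u
open TensorProduct
open Fitt

namespace Groth.Agent.S6894

open scoped TensorProduct

open Groth.Agent.H4.Fitting

theorem field_case {K : Type u} [Field K] {V : Type u} [AddCommGroup V] [Module K V]
    [Module.Finite K V] (k : ℕ) :
    Fitt.ideal K V k = ⊤ ↔ Module.finrank K V ≤ k := by
  rw [ideal_eq_top_iff_of_isLocalRing]
  constructor
  · rintro ⟨g, hg⟩
    simpa using finrank_le_of_span_eq_top hg
  · intro h
    have hb := (Module.finBasis K V).span_eq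
    have : Fitt.ideal K V k = ⊤ :=
      ideal_eq_top_of_span _ hb (by simpa using h)
    exact (ideal_eq_top_iff_of_isLocalRing k).mp this

theorem part1 {R : Type u} [CommRing R] (M : Type u) [AddCommGroup M] [Module R M]
    [Module.Finite R M] (k : ℕ) (p : Ideal R) [p.IsPrime] :
    (¬ Fitt.ideal R M k ≤ p ↔ Module.finrank p.ResidueField (p.ResidueField ⊗[R] M) ≤ k) := by
  rw [not_le_iff_baseChange_eq_top (M := M) p.ResidueField p ?_ k, field_case]
  rw [IsLocalRing.maximalIdeal_eq_bot]
  exact Ideal.ker_algebraMap_residueField p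

theorem part2 {R : Type u} [CommRing R] (M : Type u) [AddCommGroup M] [Module R M]
    [Module.Finite R M] (k : ℕ) (p : Ideal R) [p.IsPrime] :
    (¬ Fitt.ideal R M k ≤ p ↔
      ∃ g : Fin k → LocalizedModule p.primeCompl M,
        Submodule.span (Localization.AtPrime p) (Set.range g) = ⊤) := by
  rw [not_le_iff_baseChange_eq_top (M := M) (Localization.AtPrime p) p
    (Localization.AtPrime.under_maximalIdeal) k]
  rw [ideal_congr k (IsLocalizedModule.isBaseChange p.primeCompl (Localization.AtPrime p)
    (LocalizedModule.mkLinearMap p.primeCompl M)).equiv]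
  exact ideal_eq_top_iff_of_isLocalRing k

/-- Let `M` be a finite `R`-module, `k ≥ 0` and `𝔭 ⊆ R` a prime. Then each of the following conditions
implies all the others: the Fitting ideal `Fit_k(M)` is not contained in `𝔭`; the fiber `M ⊗_R κ(𝔭)`
has dimension at most `k` over `κ(𝔭)`; some `k` elements span the localization `M_𝔭` over `R_𝔭`; and
for some `f ∉ 𝔭`, the module `M_f` is spanned over `R_f` by `k` elements. -/
theorem result {R : Type u} [CommRing R] (M : Type u) [AddCommGroup M] [Module R M]
    [Module.Finite R M] (k : ℕ) (p : Ideal R) [p.IsPrime] :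
    (¬ Fitt.ideal R M k ≤ p ↔ Module.finrank p.ResidueField (p.ResidueField ⊗[R] M) ≤ k) ∧
    (¬ Fitt.ideal R M k ≤ p ↔
      ∃ g : Fin k → LocalizedModule p.primeCompl M, Submodule.span (Localization.AtPrime p) (Set.range g) = ⊤) ∧
    (¬ Fitt.ideal R M k ≤ p ↔ ∃ f : R, f ∉ p ∧
      ∃ g : Fin k → LocalizedModule (Submonoid.powers f) M,
        Submodule.span (Localization.Away f) (Set.range g) = ⊤) := by
  refine ⟨part1 M k p, part2 M k p, ?_⟩
  constructor
  · intro h
    obtain ⟨n, x, hx⟩ := Module.Finite.exists_fin (R := R) (M := M)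
    rw [ideal_eq_G k x hx, G_le_iff] at h
    push Not at h
    obtain ⟨a, T, hT, hr, hdet⟩ := h
    refine ⟨a.det, hdet, ?_⟩
    let f := a.det
    let mk := LocalizedModule.mkLinearMap (Submonoid.powers f) M
    have hx' : Submodule.span (Localization.Away f) (Set.range (fun i => mk (x i))) = ⊤ := by
      have := span_eq_top_of_isLocalizedModule (Localization.Away f) (Submonoid.powers f) mk
        (v := Set.range x) hx
      rw [← this]
      congr 1
      ext t
      simp
    refine exists_gen_of_isUnit_det (R := Localization.Away f) (fun i => mk (x i)) hx'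
      ((algebraMap R (Localization.Away f)).mapMatrix a) T hT ?_ ?_
    · intro i hi
      have := congrArg mk (hr i hi)
      rw [map_sum, map_zero] at this
      rw [← this]
      refine Finset.sum_congr rfl (fun j _ => ?_)
      rw [map_smul]
      simp [algebraMap_smul]
    · rw [← RingHom.map_det]
      exact IsLocalization.Away.algebraMap_isUnit f
  · rintro ⟨f, hf, g, hg⟩ hle
    have h1 : Fitt.ideal (Localization.Away f) (LocalizedModule (Submonoid.powers f) M) k = ⊤ :=
      ideal_eq_top_of_span g hg (by simp)
    rw [← ideal_congr k (IsLocalizedModule.isBaseChange (Submonoid.powers f) (Localization.Away f)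
      (LocalizedModule.mkLinearMap (Submonoid.powers f) M)).equiv, ideal_baseChange] at h1
    have h2 := (IsLocalization.map_algebraMap_ne_top_iff_disjoint (Submonoid.powers f)
      (Localization.Away f) (Fitt.ideal R M k)).not.mp (by simpa using h1)
    rw [Set.not_disjoint_iff] at h2
    obtain ⟨y, ⟨m, rfl⟩, hy⟩ := h2
    exact hf (‹p.IsPrime›.mem_of_pow_mem m (hle hy))


end Groth.Agent.S6894
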