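import Groth.Statements.S6895
import Mathlib
import Groth.Agent.H4.Fitting6
import Groth.Agent.S6894

set_option autoImplicit false
universe u
open Fitt

namespace Groth.Agent.S6895

open scoped TensorProduct

open Groth.Agent.H4.Fitting

theorem fitt_loc {R : Type u} [CommRing R] (M : Type u) [AddCommGroup M] [Module R M]
    [Module.Finite R M] (f : R) (k : ℕ) :
    Fitt.ideal (Localization.Away f) (LocalizedModule (Submonoid.powers f) M) k =
      (Fitt.ideal R M k).map (algebraMap R (Localization.Away f)) := by
  rw [← ideal_congr k (IsLocalizedModule.isBaseChange (Submonoid.powers f) (Localization.Away f)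
      (LocalizedModule.mkLinearMap (Submonoid.powers f) M)).equiv, ideal_baseChange]

theorem nontrivial_away {R : Type u} [CommRing R] (p : Ideal R) [hp : p.IsPrime] (f : R)
    (hf : f ∉ p) : Nontrivial (Localization.Away f) := by
  have hdisj : Disjoint (Submonoid.powers f : Set R) (p : Set R) := by
    rw [Set.disjoint_left]
    rintro _ ⟨n, rfl⟩ hn
    exact hf (hp.mem_of_pow_mem n hn)
  have := (IsLocalization.map_algebraMap_ne_top_iff_disjoint (Submonoid.powers f)
    (Localization.Away f) p).mpr hdisj
  by_contra hnt
  rw [not_nontrivial_iff_subsingleton] at hnt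
  exact this (Subsingleton.elim _ _)

/-- (1) ⇔ (3): let `M` be a finite `R`-module and `r ≥ 0`. Then `M` is finite locally free of rank `r`
(every prime has a basic open neighbourhood `D(f)` with `M_f` free of rank `r` over `R_f`) if and
only if `Fit_k(M) = 0` for `k < r` and `Fit_k(M) = R` for `k ≥ r`. -/
theorem result {R : Type u} [CommRing R] (M : Type u) [AddCommGroup M] [Module R M]
    [Module.Finite R M] (r : ℕ) :
    (∀ (p : Ideal R) [p.IsPrime], ∃ f : R, f ∉ p ∧
      Module.Free (Localization.Away f) (LocalizedModule (Submonoid.powers f) M) ∧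
        Module.finrank (Localization.Away f) (LocalizedModule (Submonoid.powers f) M) = r) ↔
    ((∀ k, k < r → Fitt.ideal R M k = ⊥) ∧ (∀ k, r ≤ k → Fitt.ideal R M k = ⊤)) := by
  constructor
  · intro h
    refine ⟨fun k hk => ?_, fun k hk => ?_⟩
    · apply ideal_eq_bot_of_locally
      intro p _
      obtain ⟨f, hf, hfree, hrank⟩ := h p
      refine ⟨f, hf, ?_⟩
      haveI : Nontrivial (Localization.Away f) := nontrivial_away p f hf
      rw [← fitt_loc]
      exact ideal_eq_bot_of_basis (Module.finBasisOfFinrankEq _ _ hrank) (by simpa using hk)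
    · by_contra hne
      obtain ⟨m, hm, hle⟩ := Ideal.exists_le_maximal _ hne
      haveI := hm.isPrime
      obtain ⟨f, hf, hfree, hrank⟩ := h m
      haveI : Nontrivial (Localization.Away f) := nontrivial_away m f hf
      have h3 := (Groth.Agent.S6894.result M r m).2.2.mpr
        ⟨f, hf, Module.finBasisOfFinrankEq _ _ hrank, (Module.finBasisOfFinrankEq _ _ hrank).span_eq⟩
      exact h3 ((ideal_mono_index hk).trans hle)
  · rintro ⟨h1, h2⟩ p _
    have h3 : ¬ Fitt.ideal R M r ≤ p := by
      rw [h2 r le_rfl]
      intro h
      exact ‹p.IsPrime›.ne_top (top_le_iff.mp h)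
    obtain ⟨f, hf, g, hg⟩ := (Groth.Agent.S6894.result M r p).2.2.mp h3
    refine ⟨f, hf, ?_⟩
    have hli : LinearIndependent (Localization.Away f) g := by
      refine linearIndependent_of_ideal_eq_bot g hg ?_
      rcases Nat.eq_zero_or_pos r with h0 | h0
      · exact Or.inl h0
      · right
        rw [fitt_loc, h1 (r - 1) (by omega), Ideal.map_bot]
    let b : Module.Basis (Fin r) (Localization.Away f) (LocalizedModule (Submonoid.powers f) M) :=
      Module.Basis.mk hli (by rw [hg])
    haveI : Nontrivial (Localization.Away f) := nontrivial_away p f hf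
    refine ⟨Module.Free.of_basis b, ?_⟩
    rw [Module.finrank_eq_card_basis b, Fintype.card_fin]


end Groth.Agent.S6895
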