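import Groth.Statements.S7071
import Mathlib
import Groth.Agent.H4.RelPC3

set_option autoImplicit false
universe u
attribute [local instance] HasDerivedCategory.standard
open DerCA

namespace Groth.Agent.S7071

open CategoryTheory CategoryTheory.Limits
open DRing

open Groth.Agent.H4.PCHom Groth.Agent.H4.PC Groth.Agent.H4.RelPC DerivedCategory

lemma isPCHom_of_isPCModule' {A B : Type u} [CommRing A] [CommRing B] (f : A →+* B)
    (h : letI := f.toAlgebra
      DRing.IsPseudoCoherentModule' A B) : IsPCHom f := by
  letI := f.toAlgebra
  intro m
  exact isPC_single_of_iso Groth.Agent.H4.RestrPC.ofIsoRestrict (isPC_of_isPC' _ h m)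

/-- Let R → A be a pseudo-coherent homomorphism of commutative rings, m an integer and K an object of
D(A). Then the object K is m-pseudo-coherent as an object of D(A) exactly when, relative to R, it is
m-pseudo-coherent. -/
theorem result (R A : Type u) [CommRing R] [CommRing A]
    [Algebra R A] (hRA : MoreMor.IsPseudoCoherentHom R A) (m : ℤ) (K : Dual.D A) :
    DerCA.IsRelPseudoCoherent R A m K ↔ DRing.IsPseudoCoherent A m K := by
  obtain ⟨n, φ, hφ, h⟩ := hRA
  rw [relPC_iff φ hφ]
  exact (isPCHom_of_isPCModule' φ.toRingHom h).isPC_iff m K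


end Groth.Agent.S7071
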