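import Groth.Statements.S7034
import Groth.Agent.H4.TorAmp4
import Groth.Agent.H4.ProjAmp3

set_option autoImplicit false
universe u
open CategoryTheory CategoryTheory.Limits
attribute [local instance] HasDerivedCategory.standard
open DRing

namespace Groth.Agent.S7034

open CategoryTheory CategoryTheory.Limits DRing MonoidalCategory CategoryTheory.Pretriangulated

attribute [local instance] HasDerivedCategory.standard
open DerivedCategory Groth.Agent.H4.TorAmp

lemma subsingleton_hom_of_hasProjDimLT {R : Type u} [CommRing R] (X Y : ModuleCat.{u} R) (n : ℕ)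
    [HasProjectiveDimensionLT X n] (i : ℕ) (hi : n ≤ i) :
    Subsingleton ((singleFunctor (ModuleCat.{u} R) 0).obj X ⟶
      ((singleFunctor (ModuleCat.{u} R) 0).obj Y)⟦(i : ℤ)⟧) := by
  letI := HasExt.standard (ModuleCat.{u} R)
  haveI := HasProjectiveDimensionLT.subsingleton X n i hi Y
  exact (Abelian.Ext.homEquiv (X := X) (Y := Y) (n := i)).symm.subsingleton

/-- Let R be a commutative ring of global dimension at most d, i.e. every R-module has projective
dimension at most d, such that the derived tensor product - ⊗^L_R M exists on D(R) for every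
R-module M. Then: (1) for every R-module M, M[0] is isomorphic in D(R) to a complex of flat modules
vanishing outside [-d, 0]; (2) every object K of D(R) with H^i(K) = 0 for all i outside [a, b] is
isomorphic in D(R) to a complex of flat modules vanishing outside [a - d, b]. -/
theorem result (R : Type u) [CommRing R] (d : ℕ)
    (hgl : ∀ (M : Type u) [AddCommGroup M] [Module R M], HasProjectiveDimensionLT (ModuleCat.of R M) (d + 1))
    [∀ M : ModuleCat.{u} R, DRing.HasLTensor R M] :
    (∀ (M : Type u) [AddCommGroup M] [Module R M], DRing.HasTorAmplitudeIn R (-(d : ℤ)) 0 (Dual.inD R M)) ∧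
      (∀ (K : Dual.D R) (a b : ℤ), (∀ i : ℤ, (i < a ∨ b < i) → Subsingleton (Dual.HD R K i)) →
        DRing.HasTorAmplitudeIn R (a - d) b K) := by
  have h1 : ∀ (M : Type u) [AddCommGroup M] [Module R M],
      DRing.HasTorAmplitudeIn R (-(d : ℤ)) 0 (Dual.inD R M) := by
    intro M _ _
    haveI := hgl M
    haveI : (Dual.inD R M).IsGE (-(d : ℤ) - 1) :=
      TStructure.t.isGE_of_ge (Dual.inD R M) (-(d : ℤ) - 1) 0 (by omega)
    have hs : ∀ (N : Type u) [AddCommGroup N] [Module R N],
        Subsingleton (Dual.inD R M ⟶ (Dual.inD R N)⟦(-(-(d : ℤ)) + 1 : ℤ)⟧) := by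
      intro N _ _
      have h := subsingleton_hom_of_hasProjDimLT (ModuleCat.of R M) (ModuleCat.of R N) (d + 1) (d + 1) le_rfl
      have e : (-(-(d : ℤ)) + 1 : ℤ) = ((d + 1 : ℕ) : ℤ) := by push_cast; ring
      rw [e]
      exact h
    obtain ⟨P, hP, hproj, ⟨e⟩⟩ := Groth.Agent.H4.ProjAmp.exists_projective_rep (d + 1) (-(d : ℤ)) 0
      (Dual.inD R M) (by push_cast; omega) inferInstance inferInstance hs
    exact ⟨P, hP, fun i => by haveI := hproj i; infer_instance, ⟨e⟩⟩
  refine ⟨h1, ?_⟩
  intro K a b hK
  refine hasTorAmp_of_homology (a - d) b K a b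
    (fun i hi => @ModuleCat.isZero_of_subsingleton _ _ _ (hK i hi)) (fun i => ?_)
  by_cases hi : a ≤ i ∧ i ≤ b
  · exact hasTorAmp_mono (by omega) (by omega) (h1 _)
  · haveI : Subsingleton ((homologyFunctor (ModuleCat.{u} R) i).obj K) := hK i (by omega)
    exact hasTorAmp_single_of_subsingleton _ _ 0 _


end Groth.Agent.S7034
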