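import Groth.Statements.S6893
import Mathlib
import Groth.Agent.H4.FlatBC

set_option autoImplicit false
universe u
open TensorProduct
open CAlg

namespace Groth.Agent.S6893

open scoped TensorProduct
open Groth.Agent.H4.FlatBC



/-- Let `M` be a module over a ring `R` and `I₁, I₂ ⊆ R` ideals. Suppose flatness of `M/I₁M` as an
`R/I₁`-module holds, and likewise `M/I₂M` is a flat `R/I₂`-module; then the quotient `M/(I₁ ∩ I₂)M`
is also flat as a module over `R/(I₁ ∩ I₂)`. -/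
theorem result {R : Type u} [CommRing R] (M : Type u) [AddCommGroup M] [Module R M]
    (I₁ I₂ : Ideal R) [Module.Flat (R ⧸ I₁) ((R ⧸ I₁) ⊗[R] M)] [Module.Flat (R ⧸ I₂) ((R ⧸ I₂) ⊗[R] M)] :
    Module.Flat (R ⧸ (I₁ ⊓ I₂)) ((R ⧸ (I₁ ⊓ I₂)) ⊗[R] M) := by
  rw [flat_baseChange_iff]
  intro J
  -- the two projections
  let p₁ : (R ⧸ (I₁ ⊓ I₂)) →ₐ[R] (R ⧸ I₁) := Ideal.Quotient.factorₐ R inf_le_left
  let p₂ : (R ⧸ (I₁ ⊓ I₂)) →ₐ[R] (R ⧸ I₂) := Ideal.Quotient.factorₐ R inf_le_right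
  have hp₁ : Function.Surjective p₁ := Ideal.Quotient.factor_surjective inf_le_left
  have hp₂ : Function.Surjective p₂ := Ideal.Quotient.factor_surjective inf_le_right
  -- images of J
  let J₁ : Ideal (R ⧸ I₁) := J.map p₁.toRingHom
  -- the R-linear map J → J₁
  let q : J →ₗ[R] J₁ := (p₁.toLinearMap ∘ₗ (J.subtype.restrictScalars R)).codRestrict
    (J₁.restrictScalars R) (fun x => Ideal.mem_map_of_mem p₁.toRingHom x.2)
  have hq : Function.Surjective q := by
    rintro ⟨y, hy⟩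
    obtain ⟨x, hx, rfl⟩ := (Ideal.mem_map_iff_of_surjective p₁.toRingHom hp₁).mp hy
    exact ⟨⟨x, hx⟩, rfl⟩
  -- kernel of q
  let K : Submodule R J := LinearMap.ker q
  -- K maps injectively to R/I₂
  let K₂ : Ideal (R ⧸ I₂) := (Ideal.map p₂.toRingHom (J ⊓ RingHom.ker p₁.toRingHom))
  let r : K →ₗ[R] K₂ := (p₂.toLinearMap ∘ₗ (J.subtype.restrictScalars R) ∘ₗ K.subtype).codRestrict
    (K₂.restrictScalars R) (fun x => by
      refine Ideal.mem_map_of_mem p₂.toRingHom ⟨x.1.2, ?_⟩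
      have : q x.1 = 0 := x.2
      exact congrArg Subtype.val this)
  have hr : Function.Injective r := by
    rw [injective_iff_map_eq_zero]
    intro x hx
    have h1 : p₁ (x.1 : R ⧸ (I₁ ⊓ I₂)) = 0 := by
      have : q x.1 = 0 := x.2
      exact congrArg Subtype.val this
    have h2 : p₂ (x.1 : R ⧸ (I₁ ⊓ I₂)) = 0 := congrArg Subtype.val hx
    obtain ⟨a, ha⟩ := Ideal.Quotient.mk_surjective (x.1 : R ⧸ (I₁ ⊓ I₂))
    have ha1 : a ∈ I₁ := by
      rw [← ha] at h1
      exact Ideal.Quotient.eq_zero_iff_mem.mp h1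
    have ha2 : a ∈ I₂ := by
      rw [← ha] at h2
      exact Ideal.Quotient.eq_zero_iff_mem.mp h2
    have : (x.1 : R ⧸ (I₁ ⊓ I₂)) = 0 := by
      rw [← ha]; exact Ideal.Quotient.eq_zero_iff_mem.mpr ⟨ha1, ha2⟩
    exact Subtype.ext (Subtype.ext this)
  -- flatness consequences
  have hinj₁ : Function.Injective ((J₁.subtype.restrictScalars R).rTensor M) :=
    rTensor_injective_of_flat_baseChange R (R ⧸ I₁) M J₁ (R ⧸ I₁) J₁.subtype Subtype.val_injective
  have hinj₂ : Function.Injective ((K₂.subtype.restrictScalars R).rTensor M) :=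
    rTensor_injective_of_flat_baseChange R (R ⧸ I₂) M K₂ (R ⧸ I₂) K₂.subtype Subtype.val_injective
  have hrs : Function.Surjective r := by
    rintro ⟨y, hy⟩
    obtain ⟨x, ⟨hxJ, hxk⟩, rfl⟩ := (Ideal.mem_map_iff_of_surjective p₂.toRingHom hp₂).mp hy
    have hxK : (⟨x, hxJ⟩ : J) ∈ K := by
      change q ⟨x, hxJ⟩ = 0
      exact Subtype.ext hxk
    exact ⟨⟨⟨x, hxJ⟩, hxK⟩, rfl⟩
  let re : K ≃ₗ[R] K₂ := LinearEquiv.ofBijective r ⟨hr, hrs⟩
  have hrt : Function.Injective (r.rTensor M) := by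
    have : r.rTensor M = (TensorProduct.congr re (LinearEquiv.refl R M)).toLinearMap := by
      ext; rfl
    rw [this]
    exact (TensorProduct.congr re (LinearEquiv.refl R M)).injective
  have hsq₁ : (J₁.subtype.restrictScalars R) ∘ₗ q = p₁.toLinearMap ∘ₗ (J.subtype.restrictScalars R) := by
    ext; rfl
  have hsq₂ : (K₂.subtype.restrictScalars R) ∘ₗ r =
      p₂.toLinearMap ∘ₗ (J.subtype.restrictScalars R) ∘ₗ K.subtype := by
    ext; rfl
  rw [injective_iff_map_eq_zero]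
  intro x hx
  have h1 : q.rTensor M x = 0 := by
    apply hinj₁
    rw [map_zero, ← LinearMap.comp_apply, ← LinearMap.rTensor_comp, hsq₁, LinearMap.rTensor_comp,
      LinearMap.comp_apply, hx, map_zero]
  have hex : Function.Exact (K.subtype.rTensor M) (q.rTensor M) :=
    rTensor_exact M (LinearMap.exact_subtype_ker_map q) hq
  obtain ⟨x', rfl⟩ := (hex x).mp h1
  have h2 : r.rTensor M x' = 0 := by
    apply hinj₂
    rw [map_zero, ← LinearMap.comp_apply, ← LinearMap.rTensor_comp, hsq₂, LinearMap.rTensor_comp,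
      LinearMap.rTensor_comp, LinearMap.comp_apply, LinearMap.comp_apply, hx, map_zero]
  rw [hrt (h2.trans (map_zero _).symm), map_zero]


end Groth.Agent.S6893
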