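import Groth.Statements.S5217
import Groth.Agent.Lib.Helper3.PresheafQuot
import Groth.Agent.Lib.Helper3.ReflectEqRel
import Groth.Agent.S5218
import Mathlib.CategoryTheory.Sites.LeftExact

set_option autoImplicit false
open CategoryTheory CategoryTheory.Limits
universe w v₁ u₁
open ShfCat

namespace Groth.Agent.S5217

/-- In the category of sheaves of sets on a site, every equivalence relation is universally effective
(its quotient sheaf exists, the relation is the kernel pair of the quotient map, and that map is a
universal effective epimorphism). Stated for sheaves valued in `Type w` whenever sheafification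
exists. -/
theorem result {C : Type u₁} [Category.{v₁} C]
    (J : GrothendieckTopology C) [HasSheafify J (Type w)]
    {R X : Sheaf J (Type w)} (p₁ p₂ : R ⟶ X) [IsEquivalenceRelation p₁ p₂] :
    IsUniversallyEffectiveEquivalenceRelation p₁ p₂ := by
  obtain ⟨er⟩ := IsEquivalenceRelation.nonempty_equivalenceRelation (p₁ := p₁) (p₂ := p₂)
  let adj := sheafificationAdjunction J (Type w)
  let er₀ : EquivalenceRelation ((sheafToPresheaf J (Type w)).map p₁)
      ((sheafToPresheaf J (Type w)).map p₂) :=
    Groth.Agent.H3.EquivalenceRelation.mapRightAdjoint adj er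
  let e₀ := Groth.Agent.H3.PshQuot.uEER er₀
  let e := Groth.Agent.H3.EffectiveEquivalenceRelation.ofReflective adj er
    e₀.toEffectiveEquivalenceRelation
  have hepi₀ : Epi e₀.π := by
    have := e₀.universally_effectiveEpi_π (𝟙 _) (𝟙 _) e₀.π IsPullback.of_id_snd
    infer_instance
  have : (presheafToSheaf J (Type w)).IsLeftAdjoint := adj.isLeftAdjoint
  have hepi : Epi e.π := by
    change Epi (inv (adj.counit.app X) ≫ (presheafToSheaf J (Type w)).map e₀.π)
    infer_instance
  exact ⟨⟨{ toEffectiveEquivalenceRelation := e
            universally_effectiveEpi_π := Groth.Agent.S5218.result J e.π }⟩⟩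

end Groth.Agent.S5217
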