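import Groth.Statements.S7490
import Groth.Prelude.Def_QuotSh
import Mathlib.CategoryTheory.Sites.RegularEpi
import Mathlib.AlgebraicGeometry.Pullbacks

set_option autoImplicit false
open CategoryTheory CategoryTheory.Limits AlgebraicGeometry
universe u
open QuotSh

namespace Groth.Agent.S7490


/-- the functor `V ↦ h_V`. -/
noncomputable def F (K : Precoverage Scheme.{u}) (S : Scheme.{u}) : Over S ⥤ Sh K S :=
  yoneda ⋙ (Functor.whiskeringRight (Over S)ᵒᵖ _ _).obj uliftFunctor.{u + 1, u} ⋙
    presheafToSheaf (J K S) (Type (u + 1))

noncomputable instance (K : Precoverage Scheme.{u}) (S : Scheme.{u}) :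
    PreservesLimitsOfShape WalkingCospan (F K S) := by
  unfold F
  infer_instance

theorem F_map (K : Precoverage Scheme.{u}) {S : Scheme.{u}} {V W : Over S} (g : V ⟶ W) :
    (F K S).map g = repMap K g := rfl

/-- Let K be a precoverage on schemes (the topology τ), S a scheme, s, t : R -> U morphisms of schemes
over S (a pre-relation) and q : U -> M a morphism over S such that (1) q coequalizes s and t, (2)
the induced map of τ-sheaves h_U -> h_M is an epimorphism, and (3) the map h_R -> h_(U x_M U)
induced by (t, s) is an epimorphism of τ-sheaves. Then M, through q, represents the quotient sheaf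
U/R: the canonical map from the coequalizer of h_s, h_t to h_M is an isomorphism. (The published
statement takes τ to be the Zariski, étale, fppf, smooth or syntomic topology; this row allows the
topology generated by any precoverage K.) -/
theorem result (K : Precoverage Scheme.{u}) {S : Scheme.{u}} {R U M : Over S} (s t : R ⟶ U) (q : U ⟶ M) (w : s ≫ q = t ≫ q) (w' : t.left ≫ q.left = s.left ≫ q.left) (h₂ : Epi (QuotSh.repMap K q)) (h₃ : Epi (QuotSh.repMap K (Over.homMk (pullback.lift t.left s.left w') (((Category.assoc _ _ _).symm.trans (congrArg (fun k => k ≫ U.hom) (pullback.lift_fst t.left s.left w'))).trans (Over.w t)) : R ⟶ Over.mk (pullback.fst q.left q.left ≫ U.hom)))) : QuotSh.IsQuotient K s t q := by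
  refine ⟨w, ?_⟩
  let P : Over S := Over.mk (pullback.fst q.left q.left ≫ U.hom)
  let a : P ⟶ U := Over.homMk (pullback.fst _ _) rfl
  let b : P ⟶ U := Over.homMk (pullback.snd q.left q.left) (by
    change pullback.snd q.left q.left ≫ U.hom = pullback.fst q.left q.left ≫ U.hom
    rw [← Over.w q, pullback.condition_assoc])
  let e : R ⟶ P := Over.homMk (pullback.lift t.left s.left w') (((Category.assoc _ _ _).symm.trans (congrArg (fun k => k ≫ U.hom) (pullback.lift_fst t.left s.left w'))).trans (Over.w t))
  have hea : e ≫ a = t := by
    ext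
    exact pullback.lift_fst _ _ _
  have heb : e ≫ b = s := by
    ext
    exact pullback.lift_snd _ _ _
  have hpb : IsPullback a b q q := by
    refine IsPullback.of_map (Over.forget S) ?_ ?_
    · ext
      simp [a, b, pullback.condition]
    · exact IsPullback.of_hasPullback q.left q.left
  have hF : IsPullback ((F K S).map a) ((F K S).map b) ((F K S).map q) ((F K S).map q) :=
    hpb.map (F K S)
  haveI : Epi ((F K S).map q) := h₂
  haveI : Epi ((F K S).map e) := h₃
  haveI : EffectiveEpi ((F K S).map q) :=
    (isRegularEpi_iff_effectiveEpi _).1 (IsRegularEpiCategory.regularEpiOfEpi _)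
  have hc := isColimitCoforkOfEffectiveEpi ((F K S).map q) hF.cone hF.isLimit
  have w'' : (F K S).map s ≫ (F K S).map q = (F K S).map t ≫ (F K S).map q := by
    rw [← Functor.map_comp, ← Functor.map_comp, w]
  have hcol : IsColimit (Cofork.ofπ ((F K S).map q) w'') := by
    refine Cofork.IsColimit.mk' _ fun c => ?_
    have h1 : (F K S).map a ≫ c.π = (F K S).map b ≫ c.π := by
      rw [← cancel_epi ((F K S).map e), ← Functor.map_comp_assoc, ← Functor.map_comp_assoc,
        hea, heb]
      exact c.condition.symm
    refine ⟨Cofork.IsColimit.desc hc c.π h1, Cofork.IsColimit.π_desc' hc c.π h1, ?_⟩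
    intro m hm
    apply Cofork.IsColimit.hom_ext hc
    exact hm.trans (Cofork.IsColimit.π_desc' hc c.π h1).symm
  have : quotDesc K q w =
      ((coequalizerIsCoequalizer (repMap K s) (repMap K t)).coconePointUniqueUpToIso hcol).hom := by
    apply coequalizer.hom_ext
    have h2 := (coequalizerIsCoequalizer (repMap K s) (repMap K t)).comp_coconePointUniqueUpToIso_hom
      hcol WalkingParallelPair.one
    simp only [quotDesc, coequalizer.π_desc]
    exact h2.symm
  rw [this]
  exact Iso.isIso_hom _


end Groth.Agent.S7490
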