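import Groth.Statements.S4380
import Groth.Agent.Lib.Lead.QC.LocalBase2

set_option autoImplicit false
universe u
open CategoryTheory CategoryTheory.Limits AlgebraicGeometry
open EGA2

namespace Groth.Agent.S4380

/-- Let f : X → Y be a quasi-compact morphism, L an O_X-module and (U_i) a cover of Y by open subsets.
Then L is ample relative to f if and only if, for every i, the restriction of L to f⁻¹(U_i) is ample
relative to the restriction f⁻¹(U_i) → U_i of f. -/
theorem result {X Y : Scheme.{u}} (f : X ⟶ Y) [QuasiCompact f] (L : X.Modules)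
    {ι : Type u} (U : ι → Y.Opens) (hU : ⨆ i, U i = ⊤) :
    RelAmple.IsRelAmple f L ↔ ∀ i, RelAmple.IsRelAmple (f ∣_ (U i)) (L.restrict (f ⁻¹ᵁ (U i)).ι) := by
  constructor
  · intro hL i
    refine ⟨inferInstance, fun W => ?_⟩
    rw [LD.QC.isAmple_restrict_restrict_iff' _ _ L (f ⁻¹ᵁ ((U i).ι ''ᵁ W.1))]
    · exact hL.2 ⟨(U i).ι ''ᵁ W.1, W.2.image_of_isOpenImmersion (U i).ι⟩
    · rw [Scheme.Opens.opensRange_ι, image_morphismRestrict_preimage]
  · intro H
    refine ⟨inferInstance, fun V => ?_⟩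
    apply LD.QC.isAmple_preimage_of_basicOpen_cover f L V.1 V.2
    intro v hv
    have hv' : v ∈ (⨆ i, U i : Y.Opens) := by rw [hU]; trivial
    obtain ⟨i, hi⟩ := TopologicalSpace.Opens.mem_iSup.mp hv'
    obtain ⟨h, hle, hvh⟩ := V.2.exists_basicOpen_le (V := U i) ⟨v, hi⟩ hv
    refine ⟨h, hvh, ?_⟩
    have hle' : Y.basicOpen h ≤ U i := hle
    have haff : IsAffineOpen (Y.basicOpen h) := V.2.basicOpen h
    have himg : (U i).ι ''ᵁ ((U i).ι ⁻¹ᵁ Y.basicOpen h) = Y.basicOpen h := by
      rw [Scheme.Hom.image_preimage_eq_opensRange_inf, Scheme.Opens.opensRange_ι]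
      exact inf_eq_right.mpr hle'
    have hW : IsAffineOpen ((U i).ι ⁻¹ᵁ Y.basicOpen h) := by
      rw [← Scheme.Hom.isAffineOpen_iff_of_isOpenImmersion (U i).ι, himg]
      exact haff
    have h1 := (H i).2 ⟨_, hW⟩
    rw [LD.QC.isAmple_restrict_restrict_iff' _ _ L (f ⁻¹ᵁ Y.basicOpen h)] at h1
    · exact h1
    · rw [Scheme.Opens.opensRange_ι, image_morphismRestrict_preimage, himg]

end Groth.Agent.S4380
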