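import Groth.Statements.S8260
import Mathlib.AlgebraicGeometry.ProjectiveSpectrum.Proper

set_option autoImplicit false
universe u
open CategoryTheory CategoryTheory.Limits AlgebraicGeometry Opposite TopologicalSpace
open scoped HomogeneousIdeal
open EGA2

namespace Groth.Agent.S8260

open CategoryTheory CategoryTheory.Limits AlgebraicGeometry TopologicalSpace Opposite


theorem restrict_eq {Y P : Scheme.{u}} (𝒮 : RelProj.QCGrAlg Y) (p : P ⟶ Y)
    (chart : ∀ (U : Y.Opens) (hU : IsAffineOpen U), (((p ⁻¹ᵁ U : P.Opens) : Scheme.{u}) ≅ Proj (𝒮.deg U hU)))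
    (hP : RelProj.IsRelProj 𝒮 p chart) (U : Y.Opens) (hU : IsAffineOpen U) :
    p ∣_ U = (chart U hU).hom ≫ Proj.toSpecZero (𝒮.deg U hU) ≫ Spec.map (𝒮.strZero U hU) ≫
      hU.isoSpec.inv := by
  have h1 := hP.chart_over U hU
  rw [← morphismRestrict_ι, ← hU.isoSpec_inv_ι] at h1
  simp only [← Category.assoc] at h1
  have h2 := (cancel_mono U.ι).1 h1
  rw [← h2]
  simp only [Category.assoc]

set_option backward.isDefEq.respectTransparency false in
theorem main' {Y P : Scheme.{u}} (𝒮 : RelProj.QCGrAlg Y)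
    (hft : ∀ (U : Y.Opens) (hU : IsAffineOpen U), (𝒮.str.app (op U)).hom.FiniteType)
    (p : P ⟶ Y)
    (chart : ∀ (U : Y.Opens) (hU : IsAffineOpen U), (((p ⁻¹ᵁ U : P.Opens) : Scheme.{u}) ≅ Proj (𝒮.deg U hU)))
    (hP : RelProj.IsRelProj 𝒮 p chart) : LocallyOfFiniteType p ∧ QuasiCompact p := by
  have key : ∀ (U : Y.Opens) (hU : IsAffineOpen U),
      LocallyOfFiniteType (p ∣_ U) ∧ QuasiCompact (p ∣_ U) := by
    intro U hU
    rw [restrict_eq 𝒮 p chart hP U hU]
    -- str = algebraMap ∘ strZero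
    have hcomp : (𝒮.str.app (op U)).hom =
        (algebraMap (𝒮.deg U hU 0) (𝒮.presheaf.obj (op U))).comp (𝒮.strZero U hU).hom := by
      ext r; rfl
    have h1 : (algebraMap (𝒮.deg U hU 0) (𝒮.presheaf.obj (op U))).FiniteType := by
      have := hft U hU
      rw [hcomp] at this
      exact RingHom.FiniteType.of_comp_finiteType this
    have : Algebra.FiniteType (𝒮.deg U hU 0) (𝒮.presheaf.obj (op U)) := h1
    have h2 : (𝒮.strZero U hU).hom.FiniteType := by
      have h3 : (𝒮.strZero U hU).hom =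
          (GradedRing.projZeroRingHom' (𝒮.deg U hU)).comp (𝒮.str.app (op U)).hom := by
        ext r
        simp only [RingHom.comp_apply]
        have : ((𝒮.str.app (op U)).hom r) = (((𝒮.strZero U hU).hom r : 𝒮.deg U hU 0) : 𝒮.presheaf.obj (op U)) := rfl
        rw [this, GradedRing.projZeroRingHom'_apply_coe]
      rw [h3]
      refine RingHom.FiniteType.comp (RingHom.FiniteType.of_surjective _ ?_) (hft U hU)
      intro a
      exact ⟨a, GradedRing.projZeroRingHom'_apply_coe _ a⟩
    have : LocallyOfFiniteType (Spec.map (𝒮.strZero U hU)) :=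
      (HasRingHomProperty.Spec_iff (P := @LocallyOfFiniteType)).2 h2
    exact ⟨inferInstance, inferInstance⟩
  constructor
  · rw [IsZariskiLocalAtTarget.iff_of_iSup_eq_top (P := @LocallyOfFiniteType) _ (iSup_affineOpens_eq_top Y)]
    exact fun U => (key U.1 U.2).1
  · rw [IsZariskiLocalAtTarget.iff_of_iSup_eq_top (P := @QuasiCompact) _ (iSup_affineOpens_eq_top Y)]
    exact fun U => (key U.1 U.2).2

/-- If the quasi-coherent positively graded O_Y-algebra 𝒮 is of finite type (over every affine open U of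
Y the ring 𝒮(U) is a finitely generated O_Y(U)-algebra), then its relative homogeneous spectrum
Proj(𝒮) is of finite type over Y. -/
theorem result {Y P : Scheme.{u}} (𝒮 : RelProj.QCGrAlg Y)
    (hft : ∀ (U : Y.Opens) (hU : IsAffineOpen U), (𝒮.str.app (op U)).hom.FiniteType)
    (p : P ⟶ Y)
    (chart : ∀ (U : Y.Opens) (hU : IsAffineOpen U), (((p ⁻¹ᵁ U : P.Opens) : Scheme.{u}) ≅ Proj (𝒮.deg U hU)))
    (hP : RelProj.IsRelProj 𝒮 p chart) : LocallyOfFiniteType p ∧ QuasiCompact p := by
  exact main' 𝒮 hft p chart hP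


end Groth.Agent.S8260
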