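import Groth.Statements.S4419
import Mathlib
import Groth.Agent.S12478
import Groth.Agent.S12486
import Groth.Agent.S5729
import Groth.Agent.S8259
import Groth.Agent.Lib.Lead.QC.AmpleFamily
import Groth.Agent.Lib.Lead.QC.TensorPow

set_option autoImplicit false
universe u
open CategoryTheory CategoryTheory.Limits AlgebraicGeometry
open EGA2

namespace Groth.Agent.S4419

/-- Let Y be a scheme which is either quasi-compact and separated or has a Noetherian underlying space,
and f : X → Y a morphism which is quasi-projective and proper. Then f is projective. -/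
theorem result {X Y : Scheme.{u}}
    (hY : (CompactSpace Y ∧ Y.IsSeparated) ∨ TopologicalSpace.NoetherianSpace Y) (f : X ⟶ Y)
    (hq : RelProj.IsQuasiProjective f) [IsProper f] : RelProj.IsProjective f := by
  obtain ⟨hlft, hqc, L, hL⟩ := hq
  haveI := hlft
  haveI := hqc
  haveI : CompactSpace Y := by
    rcases hY with ⟨h, -⟩ | h
    · exact h
    · exact inferInstance
  have hinv : PicF.IsInvertible L := Groth.Agent.LD.QC.isInvertible_of_isRelAmple f L hL
  obtain ⟨n₀, -, hva⟩ := Groth.Agent.S12478.result f L hinv hL
  have hva' := hva n₀ le_rfl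
  have hinvn : PicF.IsInvertible (CohB1.tensorPow L n₀) :=
    Groth.Agent.LD.QC.isInvertible_tensorPow hinv n₀
  obtain ⟨E, 𝒯, j, P, p, chart, O1, lam, i, hE, hft, hj, hP, -, hi, hip, -⟩ :=
    Groth.Agent.S12486.result hY f (CohB1.tensorPow L n₀) hinvn hva'
  haveI : IsSeparated p := Groth.Agent.S8259.result 𝒯 p chart hP
  haveI : IsProper (i ≫ p) := by rw [hip]; infer_instance
  haveI : IsProper i := IsProper.of_comp i p
  haveI := hi
  have hcl : IsClosed (Set.range i) := by
    rw [← Set.image_univ]
    exact i.isClosedMap _ isClosed_univ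
  exact (Groth.Agent.S5729.result f).mpr
    ⟨E, 𝒯, j, P, p, chart, i, hE, hft, hj, hP, IsClosedImmersion.of_isPreimmersion i hcl, hip⟩

end Groth.Agent.S4419
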