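import Groth.Statements.S4434
import Groth.Agent.H4.DVRInt

set_option autoImplicit false
universe u
open EGA2

namespace Groth.Agent.S4434

open Polynomial Algebra
open Groth.Agent.H4.DVRInt



/-- Let A be a Noetherian domain with field of fractions K and L a finitely generated field extension of
K. The integral closure of A in L is the intersection of the discrete valuation subrings of L (with
fraction field L) containing the image of A: an element of L is integral over A exactly when it
belongs to all of them. -/
theorem result (A : Type u) [CommRing A] [IsDomain A] [IsNoetherianRing A]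
    (K : Type u) [Field K] [Algebra A K] [IsFractionRing A K]
    (L : Type u) [Field L] [Algebra K L] [Algebra A L] [IsScalarTower A K L] (hfg : (⊤ : IntermediateField K L).FG) (x : L) :
    IsIntegral A x ↔ ∀ R : ValuationSubring L, IsDiscreteValuationRing R → (∀ a : A, algebraMap A L a ∈ R) → x ∈ R := by
  constructor
  · intro hx R hR hA
    -- valuation rings are integrally closed
    have hint : IsIntegral R x := by
      obtain ⟨p, hp, hpx⟩ := hx
      refine ⟨p.map ((algebraMap A L).codRestrict R.toSubring hA), hp.map _, ?_⟩
      rw [eval₂_map]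
      exact hpx
    obtain ⟨y, hy⟩ := (IsIntegrallyClosed.isIntegral_iff (R := R) (K := L)).mp hint
    rw [← hy]
    exact y.2
  · intro H
    by_contra hx
    have hx0 : x ≠ 0 := by
      rintro rfl
      exact hx isIntegral_zero
    obtain ⟨s, hs⟩ := hfg
    let E := Algebra.adjoin A {x⁻¹}
    let sE : E := ⟨x⁻¹, subset_adjoin rfl⟩
    have hspan : Ideal.span {sE} ≠ ⊤ := fun h => hx (isIntegral_of_span_inv_eq_top x hx0 h)
    obtain ⟨m, hm, hle⟩ := Ideal.exists_le_maximal _ hspan
    haveI : Algebra.FiniteType A E := Algebra.FiniteType.adjoin_of_finite (Set.finite_singleton _)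
    haveI : IsNoetherianRing E := Algebra.FiniteType.isNoetherianRing A E
    let ψ : E →+* L := E.val.toRingHom
    have hψ : Function.Injective ψ := Subtype.val_injective
    have hsm : sE ∈ m := hle (Ideal.subset_span rfl)
    have hs0 : sE ≠ 0 := by
      intro h
      have : x⁻¹ = 0 := congrArg Subtype.val h
      exact inv_ne_zero hx0 this
    have hlt : RingHom.ker ψ < m := by
      rw [(RingHom.injective_iff_ker_eq_bot ψ).mp hψ, bot_lt_iff_ne_bot]
      rintro rfl
      exact hs0 hsm
    have hs' : Subfield.closure (Set.range ψ ∪ s) = ⊤ := by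
      rw [_root_.eq_top_iff, ← closure_eq_top A K L s hs]
      apply Subfield.closure_mono
      apply Set.union_subset_union_left
      rintro _ ⟨a, rfl⟩
      exact ⟨algebraMap A E a, rfl⟩
    haveI := hm.isPrime
    obtain ⟨B, hB, hmem, hcomap⟩ :=
      Groth.Agent.H8.KA.exists_dvr_valuationSubring_of_lt ψ m hlt s hs'
    have hxB : x ∈ B := H B hB (fun a => hmem (algebraMap A E a))
    have h1 : sE ∈ (IsLocalRing.maximalIdeal B).comap (ψ.codRestrict B.toSubring hmem) := by
      rw [hcomap]; exact hsm
    rw [Ideal.mem_comap, IsLocalRing.mem_maximalIdeal, mem_nonunits_iff] at h1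
    apply h1
    refine isUnit_iff_exists_inv.mpr ⟨⟨x, hxB⟩, ?_⟩
    apply Subtype.ext
    exact inv_mul_cancel₀ hx0


end Groth.Agent.S4434
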