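import Groth.Statements.S0386
import Groth.Agent.Lib.Helper1.LimFlat4

set_option autoImplicit false
universe u
open FlatMor

namespace Groth.Agent.S0386

section S0386helpers

open AlgebraicGeometry CategoryTheory

lemma flat_stalkMap_comp_iff_right {X Y Z : Scheme.{u}} (f : X ⟶ Y) (g : Y ⟶ Z) (x : X)
    [IsIso (f.stalkMap x)] :
    ((f ≫ g).stalkMap x).hom.Flat ↔ (g.stalkMap (f x)).hom.Flat := by
  rw [Scheme.Hom.stalkMap_comp]
  exact RingHom.Flat.respectsIso.cancel_right_isIso (g.stalkMap (f x)) (f.stalkMap x)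

lemma flat_stalkMap_comp_iff_left {X Y Z : Scheme.{u}} (f : X ⟶ Y) (g : Y ⟶ Z) (x : X)
    [IsIso (g.stalkMap (f x))] :
    ((f ≫ g).stalkMap x).hom.Flat ↔ (f.stalkMap x).hom.Flat := by
  rw [Scheme.Hom.stalkMap_comp]
  exact RingHom.Flat.respectsIso.cancel_left_isIso (g.stalkMap (f x)) (f.stalkMap x)

lemma flat_stalkMap_congr {X Y : Scheme.{u}} (f g : X ⟶ Y) (e : f = g) (x : X) :
    (f.stalkMap x).hom.Flat ↔ (g.stalkMap x).hom.Flat := by
  subst e
  exact Iff.rfl

/-- flatness of the local homomorphism of localizations in module terms -/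
lemma localRingHom_flat_iff {A B : Type u} [CommRing A] [CommRing B] [Algebra A B] (q : Ideal B)
    [q.IsPrime] :
    (Localization.localRingHom (q.comap (algebraMap A B)) q (algebraMap A B) rfl).Flat ↔
      Module.Flat A (LocalizedModule q.primeCompl B) := by
  let p := q.comap (algebraMap A B)
  let φ := Localization.localRingHom p q (algebraMap A B) rfl
  letI : Algebra (Localization.AtPrime p) (Localization.AtPrime q) := φ.toAlgebra
  haveI : IsScalarTower A (Localization.AtPrime p) (Localization.AtPrime q) :=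
    IsScalarTower.of_algebraMap_eq fun a => by
      change _ = φ _
      rw [Localization.localRingHom_to_map, ← IsScalarTower.algebraMap_apply]
  have h1 : φ.Flat ↔ Module.Flat A (Localization.AtPrime q) :=
    Module.flat_iff_of_isLocalization (Localization.AtPrime p) p.primeCompl
      (Localization.AtPrime q)
  exact h1

end S0386helpers

open AlgebraicGeometry CategoryTheory Limits in
/-- Openness of the flat locus: for a morphism f : X ⟶ S locally of finite presentation, the set of
points x of X at which the local ring O_{X,x} is flat over O_{S,f(x)} is open in X. (The published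
statement also treats the flat locus of a finitely presented quasi-coherent module; stated here for
the structure sheaf.) -/
theorem result {X S : Scheme.{u}} (f : X ⟶ S) [LocallyOfFinitePresentation f] :
    IsOpen {x : X | (f.stalkMap x).hom.Flat} := by
  rw [isOpen_iff_forall_mem_open]
  intro x₀ hx₀
  obtain ⟨W, hW, hsW⟩ : ∃ W : S.Opens, IsAffineOpen W ∧ f.base x₀ ∈ W := by
    obtain ⟨_, ⟨W, hW, rfl⟩, h, -⟩ := S.isBasis_affineOpens.exists_subset_of_mem_open
      (Set.mem_univ (f.base x₀)) isOpen_univ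
    exact ⟨W, hW, h⟩
  obtain ⟨V, hV, hxV, hVW⟩ : ∃ V : X.Opens, IsAffineOpen V ∧ x₀ ∈ V ∧ V ≤ f ⁻¹ᵁ W := by
    have h0 : x₀ ∈ f ⁻¹ᵁ W := hsW
    obtain ⟨_, ⟨V, hV, rfl⟩, h, h'⟩ := X.isBasis_affineOpens.exists_subset_of_mem_open
      h0 (f ⁻¹ᵁ W).2
    exact ⟨V, hV, h, h'⟩
  have hfp : (f.appLE W V hVW).hom.FinitePresentation := f.finitePresentation_appLE hW hV hVW
  algebraize [(f.appLE W V hVW).hom]
  have key : ∀ z : PrimeSpectrum Γ(X, V), (f.stalkMap (hV.fromSpec.base z)).hom.Flat ↔
      Module.Flat Γ(S, W) (LocalizedModule z.asIdeal.primeCompl Γ(X, V)) := by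
    intro z
    haveI := hV.isOpenImmersion_fromSpec
    haveI := hW.isOpenImmersion_fromSpec
    obtain ⟨z', hz'⟩ : ∃ z' : Spec Γ(X, V), z' = z := ⟨z, rfl⟩
    subst hz'
    haveI h1 : IsIso (hV.fromSpec.stalkMap z') := inferInstance
    haveI h2 : IsIso (hW.fromSpec.stalkMap ((Spec.map (f.appLE W V hVW)) z')) := inferInstance
    rw [← flat_stalkMap_comp_iff_right hV.fromSpec f z',
      ← flat_stalkMap_congr _ _ (IsAffineOpen.SpecMap_appLE_fromSpec f hW hV hVW) z',
      flat_stalkMap_comp_iff_left (Spec.map (f.appLE W V hVW)) hW.fromSpec z',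
      RingHom.Flat.respectsIso.arrow_mk_iso_iff (Scheme.arrowStalkMapSpecIso (f.appLE W V hVW) z')]
    haveI : (PrimeSpectrum.asIdeal (R := Γ(X, V)) z').IsPrime :=
      PrimeSpectrum.isPrime (R := Γ(X, V)) z'
    exact localRingHom_flat_iff (A := Γ(S, W)) (B := Γ(X, V)) (PrimeSpectrum.asIdeal z')
  have hopen := Groth.Agent.H1.LimFlat.isOpen_flatLocus_of_finitePresentation (R := Γ(S, W))
    (S := Γ(X, V)) (M := Γ(X, V))
  refine ⟨hV.fromSpec.base '' {z : PrimeSpectrum Γ(X, V) |
    Module.Flat Γ(S, W) (LocalizedModule z.asIdeal.primeCompl Γ(X, V))}, ?_, ?_, ?_⟩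
  · rintro _ ⟨z, hz, rfl⟩
    exact (key z).mpr hz
  · exact hV.fromSpec.isOpenEmbedding.isOpenMap _ hopen
  · obtain ⟨z₀, hz₀⟩ : x₀ ∈ Set.range hV.fromSpec.base := by
      rw [hV.range_fromSpec]; exact hxV
    refine ⟨z₀, (key z₀).mp ?_, hz₀⟩
    rw [hz₀]
    exact hx₀

end Groth.Agent.S0386
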