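import Groth.Statements.S1386
import Mathlib
import Groth.Agent.Lib.Helper1.CritFib2
import Groth.Agent.S0386

set_option autoImplicit false
universe u
open FlatMor

namespace Groth.Agent.S1386

namespace Aux
open AlgebraicGeometry CategoryTheory Limits

theorem flat_of_comp_flat_of_flat {R S S' : Type u} [CommRing R] [CommRing S] [CommRing S']
    [IsLocalRing S] [IsLocalRing S'] (φ : R →+* S) (ψ : S →+* S') [IsLocalHom ψ]
    (h1 : ψ.Flat) (h2 : (ψ.comp φ).Flat) : φ.Flat := by
  letI := φ.toAlgebra
  letI := ψ.toAlgebra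
  letI := (ψ.comp φ).toAlgebra
  haveI : IsScalarTower R S S' := IsScalarTower.of_algebraMap_eq fun _ => rfl
  haveI : Module.Flat S S' := h1
  haveI : Module.Flat R S' := h2
  haveI : IsLocalHom (algebraMap S S') := ‹IsLocalHom ψ›
  haveI : Module.FaithfullyFlat S S' := Module.FaithfullyFlat.of_flat_of_isLocalHom
  exact Groth.Agent.H1.flat_of_flat_of_faithfullyFlat_module R S S'

theorem setOf_eq {X Y S : Scheme.{u}} (f : X ⟶ Y) (g : Y ⟶ S) :
    {x : ↑X | (g.stalkMap (f x)).hom.Flat ∧ (f.stalkMap x).hom.Flat} =
      {x : ↑X | (f.stalkMap x).hom.Flat} ∩ {x : ↑X | ((f ≫ g).stalkMap x).hom.Flat} := by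
  ext x
  simp only [Set.mem_ofPred_eq, Set.mem_inter_iff]
  constructor
  · rintro ⟨h1, h2⟩
    refine ⟨h2, ?_⟩
    rw [Scheme.Hom.stalkMap_comp]
    exact RingHom.Flat.comp h1 h2
  · rintro ⟨h1, h2⟩
    refine ⟨?_, h1⟩
    rw [Scheme.Hom.stalkMap_comp] at h2
    exact flat_of_comp_flat_of_flat (g.stalkMap (f x)).hom (f.stalkMap x).hom h1 h2

end Aux

open AlgebraicGeometry CategoryTheory Limits in
/-- Fibrewise flatness criterion (critère de platitude par fibres), for the structure sheaf: let f : X →
Y and g : Y → S be morphisms of schemes with X locally of finite presentation over S (via g ∘ f) and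
Y locally of finite type over S. For a point x of X with images y = f(x) and s = g(y) the following
are equivalent: (1) X → S is flat at x and the induced morphism of fibres X_s → Y_s is flat at x;
(2) Y → S is flat at y and f is flat at x. Moreover the set of points x at which (2) holds is open
in X. The published statement treats a finitely presented quasi-coherent O_X-module; here the module
is O_X. -/
theorem result {X Y S : Scheme.{u}} (f : X ⟶ Y) (g : Y ⟶ S) [LocallyOfFinitePresentation (f ≫ g)] [LocallyOfFiniteType g] :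
    (∀ x : X, ((f ≫ g).stalkMap x).hom.Flat ∧ ((MoreMor.fiberMap f g (g (f x))).stalkMap ((f ≫ g).asFiber x)).hom.Flat ↔
        (g.stalkMap (f x)).hom.Flat ∧ (f.stalkMap x).hom.Flat) ∧
      IsOpen {x : ↑X | (g.stalkMap (f x)).hom.Flat ∧ (f.stalkMap x).hom.Flat} := by
  refine ⟨fun x => Groth.Agent.H1.CritFib.crit_stalk_iff f g x, ?_⟩
  haveI : LocallyOfFinitePresentation f :=
    Groth.Agent.H1.CritFib.locallyOfFinitePresentation_of_comp f g
  rw [Aux.setOf_eq]
  exact (Groth.Agent.S0386.result f).inter (Groth.Agent.S0386.result (f ≫ g))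

end Groth.Agent.S1386
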