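import Groth.Statements.S0114
import Mathlib
import Groth.Agent.Lib.Helper1.FFSource

set_option autoImplicit false
open CategoryTheory CategoryTheory.Limits AlgebraicGeometry Opposite
universe u
open EtBase

namespace Groth.Agent.S0114

namespace H1.S0114aux

open AlgebraicGeometry CategoryTheory

/-- all affine case -/
theorem lfp_of_affine {X Y S : Scheme.{u}} [IsAffine X] [IsAffine Y] [IsAffine S]
    (g : X ⟶ Y) (q : Y ⟶ S) [Surjective g] [Flat g]
    [LocallyOfFinitePresentation g] [LocallyOfFinitePresentation (g ≫ q)] :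
    LocallyOfFinitePresentation q := by
  rw [HasRingHomProperty.iff_of_isAffine (P := @LocallyOfFinitePresentation)]
  have h1 : (g ≫ q).appTop.hom.FinitePresentation :=
    HasRingHomProperty.appTop (P := @LocallyOfFinitePresentation) _ inferInstance
  have h2 : g.appTop.hom.FinitePresentation :=
    HasRingHomProperty.appTop (P := @LocallyOfFinitePresentation) _ inferInstance
  have h3 : g.appTop.hom.FaithfullyFlat := by
    rw [RingHom.FaithfullyFlat.iff_flat_and_comap_surjective]
    refine ⟨Scheme.Hom.flat_appTop g, ?_⟩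
    have hs : Surjective (Spec.map g.appTop) :=
      (MorphismProperty.arrow_mk_iso_iff @Surjective (arrowIsoSpecΓOfIsAffine g)).mp
        inferInstance
    exact hs.surj
  rw [Scheme.Hom.comp_appTop, CommRingCat.hom_comp] at h1
  generalize q.appTop.hom = φ at h1 ⊢
  generalize g.appTop.hom = ψ at h1 h2 h3
  letI := φ.toAlgebra
  letI := ψ.toAlgebra
  letI := (ψ.comp φ).toAlgebra
  haveI : IsScalarTower Γ(S, ⊤) Γ(Y, ⊤) Γ(X, ⊤) := IsScalarTower.of_algebraMap_eq (fun _ => rfl)
  haveI : Algebra.FinitePresentation Γ(S, ⊤) Γ(X, ⊤) := h1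
  haveI : Algebra.FinitePresentation Γ(Y, ⊤) Γ(X, ⊤) := h2
  haveI : Module.FaithfullyFlat Γ(Y, ⊤) Γ(X, ⊤) := h3
  exact Groth.Agent.H1.FFSource.finitePresentation_of_faithfullyFlat
    (R := Γ(S, ⊤)) (A := Γ(Y, ⊤)) (B := Γ(X, ⊤))

set_option backward.isDefEq.respectTransparency.types false in
/-- affine targets, arbitrary source -/
theorem lfp_of_affine_target {X Y S : Scheme.{u}} [IsAffine Y] [IsAffine S]
    (f : X ⟶ Y) (q : Y ⟶ S) [Surjective f] [Flat f]
    [LocallyOfFinitePresentation f] [LocallyOfFinitePresentation (f ≫ q)] :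
    LocallyOfFinitePresentation q := by
  classical
  let 𝒰 := X.affineCover
  have hopen : ∀ i, IsOpen (Set.range (𝒰.f i ≫ f).base) := fun i =>
    (𝒰.f i ≫ f).isOpenMap.isOpen_range
  have hcov : (Set.univ : Set Y) ⊆ ⋃ i, Set.range (𝒰.f i ≫ f).base := by
    intro y _
    obtain ⟨x, rfl⟩ := f.surjective y
    obtain ⟨i, z, rfl⟩ := 𝒰.exists_eq x
    exact Set.mem_iUnion.mpr ⟨i, z, rfl⟩
  obtain ⟨t, ht⟩ := isCompact_univ.elim_finite_subcover _ hopen hcov
  let p : (∐ fun i : t => 𝒰.X i.1) ⟶ X := Limits.Sigma.desc fun i : t => 𝒰.f i.1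
  haveI : LocallyOfFinitePresentation p :=
    IsZariskiLocalAtSource.sigmaDesc (fun _ => inferInstance)
  haveI : Flat p := inferInstance
  haveI : Surjective (p ≫ f) := by
    constructor
    intro y
    obtain ⟨i, hi, z, rfl⟩ : ∃ i ∈ t, y ∈ Set.range (𝒰.f i ≫ f).base := by
      simpa using ht (Set.mem_univ y)
    refine ⟨(Limits.Sigma.ι (fun i : t => 𝒰.X i.1) ⟨i, hi⟩).base z, ?_⟩
    rw [← Scheme.Hom.comp_apply, ← Category.assoc, Limits.Sigma.ι_desc]
  haveI : LocallyOfFinitePresentation ((p ≫ f) ≫ q) := by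
    rw [Category.assoc]; infer_instance
  exact lfp_of_affine (p ≫ f) q

set_option backward.isDefEq.respectTransparency.types false in
theorem main {X Y S : Scheme.{u}} (f : X ⟶ Y) (q : Y ⟶ S) [Surjective f] [Flat f]
    [LocallyOfFinitePresentation f] [LocallyOfFinitePresentation (f ≫ q)] :
    LocallyOfFinitePresentation q := by
  rw [IsZariskiLocalAtTarget.iff_of_iSup_eq_top (P := @LocallyOfFinitePresentation) _
    (iSup_affineOpens_eq_top S)]
  intro U
  rw [IsZariskiLocalAtSource.iff_of_iSup_eq_top (P := @LocallyOfFinitePresentation) _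
    (iSup_affineOpens_eq_top _)]
  intro V
  haveI : IsAffine (U.1 : Scheme) := U.2
  haveI : IsAffine (V.1 : Scheme) := V.2
  -- restriction of `f`
  let f' := f ∣_ (q ⁻¹ᵁ U.1)
  have hcomp : f' ≫ (q ∣_ U.1) = (f ≫ q) ∣_ U.1 := (morphismRestrict_comp f q U.1).symm
  haveI : Surjective f' := IsZariskiLocalAtTarget.restrict ‹_› _
  haveI : Surjective (f' ∣_ V.1) := IsZariskiLocalAtTarget.restrict ‹_› _
  have h1 : LocallyOfFinitePresentation ((f ≫ q) ∣_ U.1) :=
    IsZariskiLocalAtTarget.restrict ‹_› _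
  have e : (f' ∣_ V.1) ≫ (V.1.ι ≫ q ∣_ U.1) = (f' ⁻¹ᵁ V.1).ι ≫ ((f ≫ q) ∣_ U.1) := by
    rw [← Category.assoc, morphismRestrict_ι, Category.assoc, hcomp]
  haveI : LocallyOfFinitePresentation ((f' ∣_ V.1) ≫ (V.1.ι ≫ q ∣_ U.1)) := by
    rw [e]
    have h2 : LocallyOfFinitePresentation (f' ⁻¹ᵁ V.1).ι := inferInstance
    exact MorphismProperty.comp_mem (W := @LocallyOfFinitePresentation) _ _ h2 h1
  exact lfp_of_affine_target (f' ∣_ V.1) (V.1.ι ≫ q ∣_ U.1)

end H1.S0114aux

/-- Local finite presentation descends along an fppf cover of the source: if f is surjective, flat and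
locally of finite presentation and f ≫ q is locally of finite presentation, then so is q. -/
theorem result {X Y S : Scheme.{u}} (f : X ⟶ Y) (q : Y ⟶ S) [Surjective f] [Flat f]
    [LocallyOfFinitePresentation f] [LocallyOfFinitePresentation (f ≫ q)] :
    LocallyOfFinitePresentation q := by
  exact H1.S0114aux.main f q

end Groth.Agent.S0114
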