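import Groth.Statements.S2188
import Groth.Agent.Lib.Helper1.Vasc3

set_option autoImplicit false
universe u
open CategoryTheory
open LCI

namespace Groth.Agent.S2188

/-- Vasconcelos' theorem in the form of a free direct summand of the conormal module. -/
theorem vasconcelos {R : Type u} [CommRing R]
    [IsNoetherianRing R] [IsLocalRing R] (I : Ideal R) (hI : I ≠ ⊤) (n : ℕ)
    (hpd : HasProjectiveDimensionLT (ModuleCat.of R I) n)
    (F G : Submodule (R ⧸ I) I.Cotangent) (hFG : IsCompl F G) (r : ℕ)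
    (e : F ≃ₗ[R ⧸ I] (Fin r → R ⧸ I)) :
    ∃ (x : Fin r → R) (hx : ∀ i, x i ∈ I), RingTheory.Sequence.IsRegular R (List.ofFn x) ∧
      Submodule.span (R ⧸ I) (Set.range fun i => I.toCotangent ⟨x i, hx i⟩) = F := by
  classical
  let φ : I →ₗ[R] (Fin r → R ⧸ I) :=
    ((e.toLinearMap.comp (Submodule.projectionOnto F G hFG)).restrictScalars R).comp I.toCotangent
  let f : Fin r → F := fun i => e.symm (Pi.single i 1)
  have hlift : ∀ i, ∃ y : I, I.toCotangent y = (f i : I.Cotangent) :=
    fun i => I.toCotangent_surjective _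
  choose x₀ hx₀ using hlift
  have hφ : ∀ i, φ (x₀ i) = Pi.single i 1 := by
    intro i
    show e (Submodule.projectionOnto F G hFG (I.toCotangent (x₀ i))) = _
    rw [hx₀, Submodule.projectionOnto_apply_left]
    exact LinearEquiv.apply_symm_apply e _
  have H1 : ∀ a ∈ I, ∀ q : R ⧸ I, a • q = 0 := by
    intro a ha q
    obtain ⟨q, rfl⟩ := Ideal.Quotient.mk_surjective q
    rw [Algebra.smul_def, Ideal.Quotient.algebraMap_eq, ← map_mul, Ideal.Quotient.eq_zero_iff_mem]
    exact Ideal.mul_mem_right _ _ ha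
  have H2 : ∀ s : R, s • (1 : R ⧸ I) = 0 → s ∈ I := by
    intro s hs
    rw [Algebra.smul_def, mul_one, Ideal.Quotient.algebraMap_eq,
      Ideal.Quotient.eq_zero_iff_mem] at hs
    exact hs
  have H3 : ∀ q : R ⧸ I, ∃ c : R, q = c • (1 : R ⧸ I) := by
    intro q
    obtain ⟨c, rfl⟩ := Ideal.Quotient.mk_surjective q
    exact ⟨c, by rw [Algebra.smul_def, mul_one, Ideal.Quotient.algebraMap_eq]⟩
  obtain ⟨x, hxsq, hxreg⟩ := Groth.Agent.H1.Vasc.exists_isRegular r R I hI n hpd (R ⧸ I) 1
    H1 H2 H3 φ x₀ hφ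
  have hxI : ∀ i, x i ∈ I := by
    intro i
    have h1 : x i = (x i - x₀ i) + x₀ i := by ring
    rw [h1]
    exact I.add_mem (Ideal.pow_le_self two_ne_zero (hxsq i)) (x₀ i).2
  refine ⟨x, hxI, hxreg, ?_⟩
  have hcot : (fun i => I.toCotangent ⟨x i, hxI i⟩) = fun i => (f i : I.Cotangent) := by
    funext i
    rw [← hx₀, Ideal.toCotangent_eq]
    exact hxsq i
  rw [hcot]
  have h2 : (⊤ : Submodule (R ⧸ I) F) = Submodule.span (R ⧸ I) (Set.range f) := by
    have h3 := (Pi.basisFun (R ⧸ I) (Fin r)).span_eq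
    have h4 := congrArg (Submodule.map e.symm.toLinearMap) h3
    rw [Submodule.map_top, LinearEquiv.range, Submodule.map_span, ← Set.range_comp] at h4
    rw [← h4]
    congr 2
    funext i
    simp [f, Pi.basisFun_apply]
  have h5 := congrArg (Submodule.map F.subtype) h2
  rw [Submodule.map_top, Submodule.range_subtype, Submodule.map_span, ← Set.range_comp] at h5
  exact h5.symm

/-- Let R be a Noetherian local ring and I an ideal of finite projective dimension as an R-module. If F
is a direct summand of I/I^2 which is free of rank r over R/I, then there is a regular sequence x_1,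
..., x_r of R inside I whose classes in I/I^2 generate F. -/
theorem result {R : Type u} [CommRing R]
    [IsNoetherianRing R] [IsLocalRing R] (I : Ideal R) (hI : I ≠ ⊤) (n : ℕ)
    (hpd : HasProjectiveDimensionLT (ModuleCat.of R I) n)
    (F G : Submodule (R ⧸ I) I.Cotangent) (hFG : IsCompl F G) (r : ℕ)
    (e : F ≃ₗ[R ⧸ I] (Fin r → R ⧸ I)) :
    ∃ (x : Fin r → R) (hx : ∀ i, x i ∈ I), RingTheory.Sequence.IsRegular R (List.ofFn x) ∧
      Submodule.span (R ⧸ I) (Set.range fun i => I.toCotangent ⟨x i, hx i⟩) = F := by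
  exact vasconcelos I hI n hpd F G hFG r e

end Groth.Agent.S2188
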