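import Groth.Statements.S2189
import Groth.Agent.S2188
import Groth.Agent.Lib.Helper1.RegSpread
import Groth.Agent.Lib.Helper1.LCILoc

set_option autoImplicit false
universe u
open CategoryTheory
open LCI

namespace Groth.Agent.S2189

namespace Groth.Agent.S2189

open RingTheory.Sequence

/-- Nakayama: elements of `I` whose classes generate `I/I²` generate `I` (local Noetherian). -/
theorem span_eq_of_span_toCotangent_eq_top {R : Type u} [CommRing R] [IsLocalRing R]
    [IsNoetherianRing R] (I : Ideal R) (hI : I ≠ ⊤) {ι : Type*} (x : ι → R)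
    (hx : ∀ i, x i ∈ I)
    (h : Submodule.span (R ⧸ I) (Set.range fun i => I.toCotangent ⟨x i, hx i⟩) = ⊤) :
    Ideal.span (Set.range x) = I := by
  have hJI : Ideal.span (Set.range x) ≤ I := by
    rw [Ideal.span_le]
    rintro _ ⟨i, rfl⟩
    exact hx i
  apply le_antisymm hJI
  apply Submodule.le_of_le_smul_of_le_jacobson_bot (I := I) (IsNoetherian.noetherian I)
  · rw [IsLocalRing.jacobson_eq_maximalIdeal ⊥ bot_ne_top]
    exact IsLocalRing.le_maximalIdeal hI
  · intro y hy
    have h1 : I.toCotangent ⟨y, hy⟩ ∈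
        Submodule.span (R ⧸ I) (Set.range fun i => I.toCotangent ⟨x i, hx i⟩) := by
      rw [h]; trivial
    rw [← Submodule.restrictScalars_mem R, Submodule.restrictScalars_span R (R ⧸ I)
      Ideal.Quotient.mk_surjective] at h1
    have h2 : (Set.range fun i => I.toCotangent ⟨x i, hx i⟩) =
        I.toCotangent '' (Set.range fun i => (⟨x i, hx i⟩ : I)) := by
      rw [← Set.range_comp]
      rfl
    rw [h2, ← Submodule.map_span] at h1
    obtain ⟨z, hz, hzy⟩ := h1
    have h3 : ((z : R) - y) ∈ I ^ 2 :=
      (Ideal.toCotangent_eq (I := I) (x := z) (y := ⟨y, hy⟩)).mp hzy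
    have h4 : (z : R) ∈ Ideal.span (Set.range x) := by
      have : Submodule.map I.subtype (Submodule.span R (Set.range fun i => (⟨x i, hx i⟩ : I))) ≤
          Ideal.span (Set.range x) := by
        rw [Submodule.map_span, Submodule.span_le]
        rintro _ ⟨_, ⟨i, rfl⟩, rfl⟩
        exact Ideal.subset_span ⟨i, rfl⟩
      exact this (Submodule.mem_map_of_mem hz)
    have h5 : y = (z : R) - ((z : R) - y) := by ring
    rw [h5]
    refine Submodule.sub_mem _ (Submodule.mem_sup_left h4) (Submodule.mem_sup_right ?_)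
    rw [smul_eq_mul, ← pow_two]
    exact h3

/-- Local form of Vasconcelos' theorem. -/
theorem exists_isRegular_local {R : Type u} [CommRing R] [IsNoetherianRing R] [IsLocalRing R]
    (I : Ideal R) (hI : I ≠ ⊤) (n : ℕ)
    (hpd : HasProjectiveDimensionLT (ModuleCat.of R I) n)
    [Module.Projective (R ⧸ I) I.Cotangent] :
    ∃ (r : ℕ) (x : Fin r → R), (∀ i, x i ∈ I) ∧ IsRegular R (List.ofFn x) ∧
      Ideal.span (Set.range x) = I := by
  haveI : Nontrivial (R ⧸ I) := Ideal.Quotient.nontrivial_iff.mpr hI
  haveI : Module.Finite R I.Cotangent := Module.Finite.of_surjective _ I.toCotangent_surjective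
  haveI : Module.Finite (R ⧸ I) I.Cotangent := Module.Finite.of_restrictScalars_finite R _ _
  haveI : IsLocalRing (R ⧸ I) :=
    IsLocalRing.of_surjective' (Ideal.Quotient.mk I) Ideal.Quotient.mk_surjective
  haveI : Module.Free (R ⧸ I) I.Cotangent := Module.free_of_flat_of_isLocalRing
  let b := Module.finBasis (R ⧸ I) I.Cotangent
  let e : (⊤ : Submodule (R ⧸ I) I.Cotangent) ≃ₗ[R ⧸ I]
      (Fin (Module.finrank (R ⧸ I) I.Cotangent) → R ⧸ I) :=
    Submodule.topEquiv.trans b.equivFun
  obtain ⟨x, hx, hreg, hspan⟩ := Groth.Agent.S2188.vasconcelos I hI n hpd ⊤ ⊥ isCompl_top_bot _ e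
  exact ⟨_, x, hx, hreg, span_eq_of_span_toCotangent_eq_top I hI x hx hspan⟩

theorem main {R : Type u} [CommRing R]
    [IsNoetherianRing R] (I : Ideal R) (n : ℕ)
    (hpd : HasProjectiveDimensionLT (ModuleCat.of R I) n)
    [Module.Projective (R ⧸ I) I.Cotangent] (p : Ideal R) [p.IsPrime] (hIp : I ≤ p) :
    ∃ g : R, g ∉ p ∧ ∃ rs : List (Localization.Away g),
      RingTheory.Sequence.IsRegular (Localization.Away g) rs ∧
        Ideal.ofList rs = I.map (algebraMap R (Localization.Away g)) := by
  classical
  set Rp := Localization.AtPrime p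
  set f := algebraMap R Rp with hf
  set Ip := I.map f with hIpdef
  have hIptop : Ip ≠ ⊤ := by
    rw [hIpdef, IsLocalization.map_algebraMap_ne_top_iff_disjoint p.primeCompl, Set.disjoint_left]
    intro a ha haI
    exact ha (hIp haI)
  have hpd' := Groth.Agent.H1.LCILoc.hasProjectiveDimensionLT_map p I n hpd
  haveI : Module.Projective (Rp ⧸ Ip) Ip.Cotangent :=
    Groth.Agent.H1.LCILoc.projective_cotangent_map p.primeCompl Rp I
  obtain ⟨r, x, hxI, hreg, hspan⟩ := exists_isRegular_local Ip hIptop (n + 1) hpd'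
  have hlift : ∀ i, ∃ q : I × p.primeCompl, x i * f q.2 = f q.1 := fun i =>
    (IsLocalization.mem_map_algebraMap_iff p.primeCompl Rp).mp (hxI i)
  choose q hq using hlift
  let as : List R := List.ofFn fun i => ((q i).1 : R)
  have has : ∀ a ∈ as, a ∈ I := by
    intro a ha
    rw [List.mem_ofFn] at ha
    obtain ⟨i, rfl⟩ := ha
    exact (q i).1.2
  have hmap : as.map f = List.ofFn fun i => f (q i).1 := by
    rw [List.map_ofFn]; rfl
  have hlen : (List.ofFn x).length = (as.map f).length := by
    rw [hmap, List.length_ofFn, List.length_ofFn]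
  have hunit : ∀ i (h : i < (List.ofFn x).length),
      ∃ c, IsUnit c ∧ (as.map f)[i]'(hlen ▸ h) = (List.ofFn x)[i] * c := by
    intro i h
    have hi : i < r := by rwa [List.length_ofFn] at h
    refine ⟨f (q ⟨i, hi⟩).2, IsLocalization.map_units Rp _, ?_⟩
    simp only [hmap, List.getElem_ofFn]
    exact (hq ⟨i, hi⟩).symm
  have hreg' : IsRegular Rp (as.map f) :=
    Groth.Agent.H1.Spread.isRegular_of_unit_mul _ _ hlen hunit hreg
  have hgen : Ideal.ofList (as.map f) = Ip := by
    rw [Groth.Agent.H1.Spread.ofList_eq_of_unit_mul _ _ hlen hunit, ← hspan]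
    show Ideal.span {a | a ∈ List.ofFn x} = Ideal.span (Set.range x)
    congr 1
    ext a
    simp [List.mem_ofFn]
  obtain ⟨g, hg, hregg, hgeng⟩ := Groth.Agent.H1.Spread.exists_away_isRegular p Rp I hIp as has
    hreg'.toIsWeaklyRegular hgen
  exact ⟨g, hg, _, hregg, hgeng⟩

end Groth.Agent.S2189

/-- Let R be a Noetherian ring and I an ideal which has finite projective dimension as an R-module and
whose conormal module I/I^2 is finite locally free (projective) over R/I. Then I is a regular ideal:
for every prime p containing I there is g outside p such that the extension of I to R_g is generated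
by a regular sequence of R_g. -/
theorem result {R : Type u} [CommRing R]
    [IsNoetherianRing R] (I : Ideal R) (n : ℕ)
    (hpd : HasProjectiveDimensionLT (ModuleCat.of R I) n)
    [Module.Projective (R ⧸ I) I.Cotangent] (p : Ideal R) [p.IsPrime] (hIp : I ≤ p) :
    ∃ g : R, g ∉ p ∧ ∃ rs : List (Localization.Away g),
      RingTheory.Sequence.IsRegular (Localization.Away g) rs ∧
        Ideal.ofList rs = I.map (algebraMap R (Localization.Away g)) := by
  exact Groth.Agent.S2189.main I n hpd p hIp

end Groth.Agent.S2189
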