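import Groth.Statements.S9139
import Mathlib.RingTheory.Noetherian.Nilpotent
import Mathlib.RingTheory.Finiteness.Basic
import Mathlib.RingTheory.Ideal.Operations
import Mathlib.RingTheory.Adjoin.FG

set_option autoImplicit false
universe u
open CAlg

namespace Groth.Agent.S9139


/-- An element of `I • ⊤` lies in `I₀ • ⊤` for a finitely generated `I₀ ≤ I`. -/
theorem exists_fg_le_of_mem_smul_top {R M : Type*} [CommRing R] [AddCommGroup M] [Module R M]
    (I : Ideal R) (x : M) (hx : x ∈ I • (⊤ : Submodule R M)) :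
    ∃ I₀ : Ideal R, I₀.FG ∧ I₀ ≤ I ∧ x ∈ I₀ • (⊤ : Submodule R M) := by
  refine Submodule.smul_induction_on hx ?_ ?_
  · intro r hr n _
    refine ⟨Ideal.span {r}, ⟨{r}, by simp⟩, ?_, ?_⟩
    · rw [Ideal.span_le]; simpa using hr
    · exact Submodule.smul_mem_smul (Ideal.subset_span rfl) trivial
  · rintro x y ⟨I₁, h1, h1', h1''⟩ ⟨I₂, h2, h2', h2''⟩
    refine ⟨I₁ ⊔ I₂, Submodule.FG.sup h1 h2, sup_le h1' h2', ?_⟩
    exact Submodule.add_mem _ (Submodule.smul_mono_left le_sup_left h1'')
      (Submodule.smul_mono_left le_sup_right h2'')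

/-- If `I` is nilpotent and `I • ⊤ = ⊤` then the module is trivial. -/
theorem top_eq_bot_of_smul_top_eq_top {R M : Type*} [CommRing R] [AddCommGroup M] [Module R M]
    (I : Ideal R) (hI : IsNilpotent I) (h : I • (⊤ : Submodule R M) = ⊤) :
    (⊤ : Submodule R M) = ⊥ := by
  obtain ⟨n, hn⟩ := hI
  have key : ∀ k : ℕ, I ^ k • (⊤ : Submodule R M) = ⊤ := by
    intro k
    induction k with
    | zero => simp
    | succ k ih => rw [pow_succ, Submodule.mul_smul, h, ih]
  have := key n
  rw [hn] at this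
  rw [← this]
  simp

/-- Let I be a locally nilpotent ideal of a ring R (every element of I is nilpotent) and S → S' a map of
R-algebras with S' of finite type over R. If S → S'/IS' is surjective then so is S → S'. -/
theorem result (R S S' : Type u) [CommRing R] [CommRing S]
    [CommRing S'] [Algebra R S] [Algebra R S'] [Algebra.FiniteType R S'] (I : Ideal R)
    (hI : ∀ x ∈ I, IsNilpotent x) (f : S →ₐ[R] S')
    (hf : Function.Surjective ((Ideal.Quotient.mk (I.map (algebraMap R S'))).comp f.toRingHom)) :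
    Function.Surjective f := by
  classical
  obtain ⟨t, ht⟩ := (Algebra.FiniteType.out : (⊤ : Subalgebra R S').FG)
  -- for every generator choose a preimage modulo `I S'`
  have h1 : ∀ x : S', ∃ s : S, x - f s ∈ I • (⊤ : Submodule R S') := by
    intro x
    obtain ⟨s, hs⟩ := hf (Ideal.Quotient.mk _ x)
    refine ⟨s, ?_⟩
    rw [Ideal.smul_top_eq_map]
    have : (Ideal.Quotient.mk (I.map (algebraMap R S'))) (f s) = Ideal.Quotient.mk _ x := hs
    rw [Ideal.Quotient.eq] at this
    have h2 : x - f s = -(f s - x) := by ring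
    rw [h2]
    exact (Submodule.neg_mem_iff _).mpr this
  -- a finitely generated subideal of `I` that works for all generators
  have h2 : ∃ I₀ : Ideal R, I₀.FG ∧ I₀ ≤ I ∧ ∀ x ∈ t, ∃ s : S, x - f s ∈ I₀ • (⊤ : Submodule R S') := by
    clear ht
    induction t using Finset.induction_on with
    | empty => exact ⟨⊥, Submodule.fg_bot, bot_le, by simp⟩
    | insert a t _ ih =>
      obtain ⟨I₁, hfg1, hle1, h1'⟩ := ih
      obtain ⟨s, hs⟩ := h1 a
      obtain ⟨I₂, hfg2, hle2, h2'⟩ := exists_fg_le_of_mem_smul_top I _ hs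
      refine ⟨I₁ ⊔ I₂, Submodule.FG.sup hfg1 hfg2, sup_le hle1 hle2, ?_⟩
      intro x hx
      rw [Finset.mem_insert] at hx
      rcases hx with rfl | hx
      · exact ⟨s, Submodule.smul_mono_left le_sup_right h2'⟩
      · obtain ⟨s', hs'⟩ := h1' x hx
        exact ⟨s', Submodule.smul_mono_left le_sup_left hs'⟩
  obtain ⟨I₀, hfg, hle, hgen⟩ := h2
  have hnil : IsNilpotent I₀ := by
    rw [hfg.isNilpotent_iff_le_nilradical]
    intro x hx
    exact hI x (hle hx)
  -- surjectivity modulo `I₀ S'`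
  let J₀ : Ideal S' := I₀.map (algebraMap R S')
  let g : S →ₐ[R] S' ⧸ J₀ := (Ideal.Quotient.mkₐ R J₀).comp f
  have hg : Function.Surjective g := by
    rw [← AlgHom.range_eq_top]
    have hmap : Subalgebra.map (Ideal.Quotient.mkₐ R J₀) ⊤ = ⊤ := by
      rw [Algebra.map_top]
      exact (AlgHom.range_eq_top _).mpr (Ideal.Quotient.mkₐ_surjective R J₀)
    rw [eq_top_iff, ← hmap, ← ht, AlgHom.map_adjoin, Algebra.adjoin_le_iff]
    rintro _ ⟨x, hx, rfl⟩
    obtain ⟨s, hs⟩ := hgen x hx
    refine ⟨s, ?_⟩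
    change Ideal.Quotient.mk J₀ (f s) = Ideal.Quotient.mk J₀ x
    rw [Ideal.Quotient.eq]
    rw [Ideal.smul_top_eq_map] at hs
    have h2 : f s - x = -(x - f s) := by ring
    rw [h2]
    exact (Submodule.neg_mem_iff _).mpr hs
  have h3 : ∀ x : S', ∃ s : S, x - f s ∈ I₀ • (⊤ : Submodule R S') := by
    intro x
    obtain ⟨s, hs⟩ := hg (Ideal.Quotient.mk J₀ x)
    refine ⟨s, ?_⟩
    rw [Ideal.smul_top_eq_map]
    have : Ideal.Quotient.mk J₀ (f s) = Ideal.Quotient.mk J₀ x := hs
    rw [Ideal.Quotient.eq] at this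
    have h2 : x - f s = -(f s - x) := by ring
    rw [h2]
    exact (Submodule.neg_mem_iff _).mpr this
  -- now work in the quotient module `S' / range f`
  let M : Submodule R S' := LinearMap.range f.toLinearMap
  have h4 : I₀ • (⊤ : Submodule R (S' ⧸ M)) = ⊤ := by
    rw [eq_top_iff]
    rintro y -
    obtain ⟨x, rfl⟩ := M.mkQ_surjective y
    obtain ⟨s, hs⟩ := h3 x
    have h5 : M.mkQ x = M.mkQ (x - f s) := by
      rw [map_sub]
      have : M.mkQ (f s) = 0 := by
        rw [Submodule.mkQ_apply, Submodule.Quotient.mk_eq_zero]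
        exact ⟨s, rfl⟩
      rw [this, sub_zero]
    rw [h5]
    have h6 : M.mkQ (x - f s) ∈ Submodule.map M.mkQ (I₀ • (⊤ : Submodule R S')) :=
      Submodule.mem_map_of_mem hs
    rw [Submodule.map_smul''] at h6
    exact Submodule.smul_mono le_rfl le_top h6
  have h5 := top_eq_bot_of_smul_top_eq_top I₀ hnil h4
  intro y
  have h6 : M.mkQ y ∈ (⊤ : Submodule R (S' ⧸ M)) := trivial
  rw [h5, Submodule.mem_bot, Submodule.mkQ_apply, Submodule.Quotient.mk_eq_zero] at h6
  obtain ⟨s, hs⟩ := h6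
  exact ⟨s, hs⟩

end Groth.Agent.S9139
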