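import Groth.Statements.S9140
import Groth.Agent.S9139
import Mathlib.RingTheory.Flat.Equalizer
import Mathlib.RingTheory.FinitePresentation
import Mathlib.LinearAlgebra.TensorProduct.Quotient

set_option autoImplicit false
universe u
open CAlg

namespace Groth.Agent.S9140


open TensorProduct in
/-- If `P` is flat and `f : N → P` is surjective, then `ker f ∩ I N = I (ker f)`. -/
theorem mem_smul_top_ker_of_flat {R N P : Type*} [CommRing R] [AddCommGroup N] [Module R N]
    [AddCommGroup P] [Module R P] [Module.Flat R P] (f : N →ₗ[R] P) (hf : Function.Surjective f)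
    (I : Ideal R) (k : LinearMap.ker f) (hk : (k : N) ∈ I • (⊤ : Submodule R N)) :
    k ∈ I • (⊤ : Submodule R (LinearMap.ker f)) := by
  have inj := LinearMap.lTensor_injective_of_exact_of_flat f hf (LinearMap.ker f).subtype
    (LinearMap.ker f).subtype_injective (LinearMap.exact_subtype_ker_map f) (R ⧸ I)
  have h1 : (1 : R ⧸ I) ⊗ₜ[R] (k : N) = 0 := by
    apply (TensorProduct.quotTensorEquivQuotSMul N I).injective
    rw [TensorProduct.quotTensorEquivQuotSMul_mk_one_tmul, map_zero, Submodule.Quotient.mk_eq_zero]
    exact hk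
  have h2 : (1 : R ⧸ I) ⊗ₜ[R] k = 0 := by
    apply inj
    rw [map_zero, LinearMap.lTensor_tmul]
    exact h1
  have h3 := congrArg (TensorProduct.quotTensorEquivQuotSMul (LinearMap.ker f) I) h2
  rw [TensorProduct.quotTensorEquivQuotSMul_mk_one_tmul, map_zero, Submodule.Quotient.mk_eq_zero] at h3
  exact h3

/-- kernel of a surjection from a finite type algebra onto a finitely presented one is f.g. -/
theorem ker_fg_of_finiteType {R A B : Type*} [CommRing R] [CommRing A] [CommRing B] [Algebra R A]
    [Algebra R B] [Algebra.FiniteType R A] [Algebra.FinitePresentation R B] (f : A →ₐ[R] B)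
    (hf : Function.Surjective f) : (RingHom.ker f.toRingHom).FG := by
  obtain ⟨n, g, hg⟩ := Algebra.FiniteType.iff_quotient_mvPolynomial''.mp (inferInstance : Algebra.FiniteType R A)
  have h1 := (Algebra.FinitePresentation.ker_fg_of_mvPolynomial (f.comp g) (hf.comp hg)).map g.toRingHom
  convert h1
  simp_rw [RingHom.ker_eq_comap_bot, AlgHom.toRingHom_eq_coe, AlgHom.comp_toRingHom]
  rw [← Ideal.comap_comap, Ideal.map_comap_of_surjective (g : MvPolynomial (Fin n) R →+* A) hg]

/-- Let I be a locally nilpotent ideal of a ring R and S → S' a map of R-algebras with S of finite type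
over R and S' of finite presentation and flat over R. If the induced map S/IS → S'/IS' is bijective
(stated as: S → S'/IS' is surjective with kernel IS), then S → S' is bijective. -/
theorem result (R S S' : Type u)
    [CommRing R] [CommRing S] [CommRing S'] [Algebra R S] [Algebra R S'] [Algebra.FiniteType R S]
    [Algebra.FinitePresentation R S'] [Module.Flat R S'] (I : Ideal R) (hI : ∀ x ∈ I, IsNilpotent x)
    (f : S →ₐ[R] S')
    (hsurj : Function.Surjective ((Ideal.Quotient.mk (I.map (algebraMap R S'))).comp f.toRingHom))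
    (hker : ∀ s : S, f s ∈ I.map (algebraMap R S') → s ∈ I.map (algebraMap R S)) :
    Function.Bijective f := by
  classical
  have hsurjf : Function.Surjective f := Groth.Agent.S9139.result R S S' I hI f hsurj
  refine ⟨?_, hsurjf⟩
  -- the kernel, as an ideal of `S`
  set K : Ideal S := RingHom.ker f.toRingHom with hK
  have hKfg : K.FG := ker_fg_of_finiteType f hsurjf
  -- every element of the kernel is in `I • ker`
  have h1 : ∀ k : LinearMap.ker f.toLinearMap, k ∈ I • (⊤ : Submodule R (LinearMap.ker f.toLinearMap)) := by
    intro k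
    apply mem_smul_top_ker_of_flat f.toLinearMap hsurjf I k
    rw [Ideal.smul_top_eq_map]
    apply hker
    have : f (k : S) = 0 := k.2
    rw [this]
    exact Submodule.zero_mem _
  -- a finitely generated subideal
  obtain ⟨t, ht⟩ := hKfg
  have h2 : ∃ I₀ : Ideal R, I₀.FG ∧ I₀ ≤ I ∧ ∀ x ∈ t, x ∈ (I₀.map (algebraMap R S)) * K := by
    have hsub : ∀ x ∈ t, x ∈ K := fun x hx => by rw [← ht]; exact Ideal.subset_span hx
    clear ht
    induction t using Finset.induction_on with
    | empty => exact ⟨⊥, Submodule.fg_bot, bot_le, by simp⟩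
    | insert a t _ ih =>
      obtain ⟨I₁, hfg1, hle1, h1'⟩ := ih (fun x hx => hsub x (Finset.mem_insert_of_mem hx))
      have ha : a ∈ K := hsub a (Finset.mem_insert_self a t)
      have ha' : f.toLinearMap a = 0 := ha
      obtain ⟨I₂, hfg2, hle2, h2'⟩ := Groth.Agent.S9139.exists_fg_le_of_mem_smul_top I _ (h1 ⟨a, ha'⟩)
      refine ⟨I₁ ⊔ I₂, Submodule.FG.sup hfg1 hfg2, sup_le hle1 hle2, ?_⟩
      intro x hx
      rw [Finset.mem_insert] at hx
      rcases hx with rfl | hx
      · -- transfer membership to the ideal product
        have h3 : ∀ y ∈ I₂ • (⊤ : Submodule R (LinearMap.ker f.toLinearMap)),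
            (y : S) ∈ (I₂.map (algebraMap R S)) * K := by
          intro y hy
          refine Submodule.smul_induction_on hy ?_ ?_
          · intro r hr n _
            have : ((r • n : LinearMap.ker f.toLinearMap) : S) = algebraMap R S r * (n : S) := by
              rw [Submodule.coe_smul, Algebra.smul_def]
            rw [this]
            exact Ideal.mul_mem_mul (Ideal.mem_map_of_mem _ hr) n.2
          · intro y z hy hz
            rw [Submodule.coe_add]
            exact Ideal.add_mem _ hy hz
        exact Ideal.mul_mono_left (Ideal.map_mono le_sup_right) (h3 _ h2')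
      · exact Ideal.mul_mono_left (Ideal.map_mono le_sup_left) (h1' x hx)
  obtain ⟨I₀, hfg, hle, hgen⟩ := h2
  have hnil : IsNilpotent I₀ := by
    rw [hfg.isNilpotent_iff_le_nilradical]
    intro x hx
    exact hI x (hle hx)
  obtain ⟨n, hn⟩ := hnil
  set J : Ideal S := I₀.map (algebraMap R S) with hJ
  have hKJ : K ≤ J * K := by
    rw [← ht, Ideal.span_le]
    intro x hx
    rw [ht]
    exact hgen x hx
  have hJn : J ^ n = ⊥ := by
    rw [hJ, ← Ideal.map_pow, hn, Ideal.zero_eq_bot, Ideal.map_bot]
  have key : ∀ m : ℕ, K ≤ J ^ m * K := by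
    intro m
    induction m with
    | zero => simp
    | succ m ih =>
      calc K ≤ J ^ m * K := ih
        _ ≤ J ^ m * (J * K) := Ideal.mul_mono_right hKJ
        _ = J ^ (m + 1) * K := by rw [pow_succ, mul_assoc]
  have hK0 : K = ⊥ := by
    have := key n
    rw [hJn, Ideal.bot_mul] at this
    exact le_bot_iff.mp this
  rw [injective_iff_map_eq_zero]
  intro a ha
  have : a ∈ K := ha
  rw [hK0] at this
  exact this

end Groth.Agent.S9140
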