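import Groth.Statements.S6964
import Mathlib
import Groth.Agent.H4.ProjAmp3

set_option autoImplicit false
universe u
open CategoryTheory CategoryTheory.Limits
attribute [local instance] HasDerivedCategory.standard
open DRing

namespace Groth.Agent.S6964

open DerivedCategory Groth.Agent.H4.TwoTerm Groth.Agent.H4.ProjAmp



/-- Let R be a commutative ring, K an object of D(R) and a, b integers. These four conditions are
equivalent: (1) the projective amplitude of K lies in [a, b], meaning K is isomorphic in D(R) to a
complex of projective R-modules vanishing outside [a, b]; (2) Hom(K, N[i]) = 0 in D(R) for every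
R-module N and every integer i outside [-b, -a]; (3) H^n(K) = 0 for all n > b and Hom(K, N[i]) = 0
for every R-module N and every i > -a; (4) H^n(K) = 0 for all n outside [a - 1, b] and Hom(K, N[-a +
1]) = 0 for every R-module N. -/
theorem result (R : Type u) [CommRing R] (K : Dual.D R) (a b : ℤ) :
    [∃ P : DRing.Cx R, DRing.VanishesOutside P a b ∧ (∀ i : ℤ, Module.Projective R (P.X i)) ∧
        Nonempty (DRing.toD P ≅ K),
      ∀ (N : Type u) [AddCommGroup N] [Module R N] (i : ℤ), (i < -b ∨ -a < i) →
        Subsingleton (DRing.ExtD R K (Dual.inD R N) i),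
      (∀ n : ℤ, b < n → Subsingleton (Dual.HD R K n)) ∧
        ∀ (N : Type u) [AddCommGroup N] [Module R N] (i : ℤ), -a < i → Subsingleton (DRing.ExtD R K (Dual.inD R N) i),
      (∀ n : ℤ, (n < a - 1 ∨ b < n) → Subsingleton (Dual.HD R K n)) ∧
        ∀ (N : Type u) [AddCommGroup N] [Module R N], Subsingleton (DRing.ExtD R K (Dual.inD R N) (-a + 1))].TFAE := by
  tfae_have 1 → 2 := by
    rintro ⟨P, hP, hproj, ⟨ε⟩⟩ N _ _ i hi
    exact ext_subsingleton_of_rep P a b hP hproj K ε (ModuleCat.of R N) i hi
  tfae_have 2 → 3 := by
    intro h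
    refine ⟨fun n hn => ?_, fun N _ _ i hi => h N i (Or.inr hi)⟩
    exact ModuleCat.subsingleton_of_isZero (isZero_homology_of_ext_vanishing K (-n) n (by simp)
      (fun N _ _ => h N (-n) (Or.inl (by omega))))
  tfae_have 3 → 4 := by
    rintro ⟨h1, h2⟩
    refine ⟨fun n hn => ?_, fun N _ _ => h2 N (-a + 1) (by omega)⟩
    rcases hn with hn | hn
    · exact ModuleCat.subsingleton_of_isZero (isZero_homology_of_ext_vanishing K (-n) n (by simp)
        (fun N _ _ => h2 N (-n) (by omega)))
    · exact h1 n hn
  tfae_have 4 → 1 := by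
    rintro ⟨h1, h2⟩
    exact exists_projective_rep (b - a + 1).toNat a b K (by
        have := Int.self_le_toNat (b - a + 1)
        omega)
      (isGE_of_subsingleton K (a - 1) (fun i hi => h1 i (Or.inl hi)))
      (isLE_of_subsingleton K b (fun i hi => h1 i (Or.inr hi))) h2
  tfae_finish


end Groth.Agent.S6964
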