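import Groth.Statements.S7004
import Mathlib
import Groth.Agent.H4.ProjAmp4

set_option autoImplicit false
universe u
open CategoryTheory CategoryTheory.Limits
attribute [local instance] HasDerivedCategory.standard
open DRing

namespace Groth.Agent.S7004

open DerivedCategory Groth.Agent.H4.TwoTerm Groth.Agent.H4.ProjAmp



/-- Let R be a commutative ring, a an integer and K an object of D(R) whose cohomology vanishes in large
degrees, such that Hom(K, M[-a]) = 0 in D(R) for every R-module M. Then K ≅ τ_(≤ a-1) K ⊕ τ_(≥ a+1)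
K by an isomorphism carrying τ_(≤ a-1) K → K to the first inclusion and K → τ_(≥ a+1) K to the
second projection, and τ_(≥ a+1) K is isomorphic in D(R) to a complex of projective modules
vanishing outside [a+1, b] for some integer b. (The published statement also asserts that the
decomposition is unique; that part is not restated.) -/
theorem result (R : Type u) [CommRing R] (a : ℤ) (K : Dual.D R)
    (hKb : ∃ b : ℤ, ∀ i : ℤ, b < i → Subsingleton (Dual.HD R K i))
    (h : ∀ (M : Type u) [AddCommGroup M] [Module R M],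
      Subsingleton (K ⟶ (shiftFunctor (Dual.D R) (-a)).obj (Dual.inD R M)))
    [HasBinaryBiproduct (((DerivedCategory.TStructure.t : Triangulated.TStructure (Dual.D R)).truncLT a).obj K) (((DerivedCategory.TStructure.t : Triangulated.TStructure (Dual.D R)).truncGE (a + 1)).obj K)] :
    (∃ e : K ≅ ((DerivedCategory.TStructure.t : Triangulated.TStructure (Dual.D R)).truncLT a).obj K ⊞ ((DerivedCategory.TStructure.t : Triangulated.TStructure (Dual.D R)).truncGE (a + 1)).obj K,
      ((DerivedCategory.TStructure.t : Triangulated.TStructure (Dual.D R)).truncLTι a).app K ≫ e.hom = biprod.inl ∧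
        e.hom ≫ biprod.snd = ((DerivedCategory.TStructure.t : Triangulated.TStructure (Dual.D R)).truncGEπ (a + 1)).app K) ∧
      ∃ (P : DRing.Cx R) (b : ℤ), DRing.VanishesOutside P (a + 1) b ∧ (∀ i : ℤ, Module.Projective R (P.X i)) ∧
        Nonempty (DRing.toD P ≅ ((DerivedCategory.TStructure.t : Triangulated.TStructure (Dual.D R)).truncGE (a + 1)).obj K) := by
  obtain ⟨b₀, hb₀⟩ := hKb
  haveI : K.IsLE b₀ := isLE_of_subsingleton K b₀ hb₀
  have hHa : IsZero ((homologyFunctor (ModuleCat.{u} R) a).obj K) :=
    isZero_homology_of_ext_vanishing K (-a) a (by simp) h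
  obtain ⟨P, hP, hproj, ⟨ε⟩⟩ := exists_rep_truncGE a b₀ K (by
    intro M _ _
    refine ⟨fun φ ψ => ?_⟩
    have H : ∀ ξ : ((tR R).truncGE (a + 1)).obj K ⟶ (Dual.inD R M)⟦(-a : ℤ)⟧, ξ = 0 :=
      fun ξ => eq_zero_of_truncGEπ_comp a K _ ξ ((h M).elim _ _)
    exact (H φ).trans (H ψ).symm)
  exact ⟨split_LT_GE_succ a K hHa P b₀ hP hproj ε, P, b₀, hP, hproj, ⟨ε⟩⟩


end Groth.Agent.S7004
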