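import Groth.Statements.S7069
import Groth.Agent.H4.RegGlDim
import Groth.Agent.H4.PC9
import Groth.Prelude.Def_MoreMor

set_option autoImplicit false
universe u
attribute [local instance] HasDerivedCategory.standard
open MoreMor

namespace Groth.Agent.S7069

open CategoryTheory CategoryTheory.Limits DRing Groth.Agent.H4.RegGlDim Groth.Agent.H4.PC



/-- A finite type homomorphism of commutative rings A → B, where A is a regular ring of finite Krull
dimension, is perfect: pseudo-coherent with B of finite tor dimension as an A-module. -/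
theorem result (A B : Type u) [CommRing A] [CommRing B] [Algebra A B]
    [IsRegularRing A] (hdim : ringKrullDim A < ⊤) [Algebra.FiniteType A B] : MoreMor.IsPerfectHom A B := by
  constructor
  · have hft : Algebra.FiniteType A B := inferInstance
    obtain ⟨n, φ, hφ⟩ := Algebra.FiniteType.iff_quotient_mvPolynomial''.mp hft
    refine ⟨n, φ, hφ, ?_⟩
    letI := φ.toRingHom.toAlgebra
    rw [isPC'_module_iff_of_noetherian]
    exact Module.Finite.of_surjective (Algebra.linearMap (MvPolynomial (Fin n) A) B) hφ
  · have hne : ringKrullDim A ≠ ⊤ := hdim.ne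
    by_cases hbot : ringKrullDim A = ⊥
    · refine ⟨0, hasTorDimLE_of_isRegularRing 0 (by rw [hbot]; exact bot_le) B⟩
    · obtain ⟨d, hd⟩ : ∃ d : ℕ, ringKrullDim A = d := by
        obtain ⟨x, hx⟩ := WithBot.ne_bot_iff_exists.mp hbot
        have hx' : x ≠ ⊤ := by
          rintro rfl
          exact hne hx.symm
        obtain ⟨d, hd⟩ := ENat.ne_top_iff_exists.mp hx'
        exact ⟨d, by rw [← hx, ← hd]; rfl⟩
      exact ⟨d, hasTorDimLE_of_isRegularRing d hd.le B⟩


end Groth.Agent.S7069
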