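import Groth.Statements.S7070
import Mathlib
import Groth.Agent.H4.KosPerf2
import Groth.Agent.S7066
import Groth.Prelude.Def_MoreMor

set_option autoImplicit false
universe u
attribute [local instance] HasDerivedCategory.standard
open MoreMor

namespace Groth.Agent.S7070

open CategoryTheory CategoryTheory.Limits DerivedCategory DRing Groth.Agent.H4.DRing1 Groth.Agent.H4.PC Groth.Agent.H4.KosPerf Groth.Agent.H4.KosPerf2



/-- A local complete intersection homomorphism of commutative rings A → B (finite type, with some
polynomial presentation whose kernel is a Koszul-regular ideal) is perfect: pseudo-coherent with B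
of finite tor dimension over A. -/
theorem result (A B : Type u) [CommRing A] [CommRing B] [Algebra A B]
    (h : LCI.IsLCI A B) : MoreMor.IsPerfectHom A B := by
  obtain ⟨-, n, f, hf, hI⟩ := h
  rw [Groth.Agent.S7066.result]
  refine ⟨n, f, hf, ?_⟩
  letI := f.toRingHom.toAlgebra
  have h1 := isPerfectModule_quotient_of_isKoszulRegularIdeal _ hI
  let e₂ : (MvPolynomial (Fin n) A ⧸ RingHom.ker f.toRingHom) ≃ₐ[A] B :=
    Ideal.quotientKerAlgEquivOfSurjective hf
  let e₃ : (MvPolynomial (Fin n) A ⧸ RingHom.ker f.toRingHom) ≃ₗ[MvPolynomial (Fin n) A] B :=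
    { e₂.toLinearEquiv.toAddEquiv with
      map_smul' := fun p x => by
        obtain ⟨y, rfl⟩ := Ideal.Quotient.mk_surjective x
        change e₂ (p • Ideal.Quotient.mk _ y) = f p * e₂ (Ideal.Quotient.mk _ y)
        rw [Algebra.smul_def, Ideal.Quotient.algebraMap_eq, map_mul]
        rfl }
  exact isPerfect_of_iso ((DerivedCategory.singleFunctor _ 0).mapIso e₃.toModuleIso) h1


end Groth.Agent.S7070
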