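import Groth.Statements.S8663
import Groth.Agent.Lib.Helper8.LCIHom.KAt2
import Groth.Agent.S7070
-- import your own Groth.Agent.* helpers here

set_option autoImplicit false
universe u
open CategoryTheory CategoryTheory.Limits AlgebraicGeometry
open Synt

namespace Groth.Agent.S8663

/-- Let f : X ⟶ Y be a local complete intersection morphism in the factorisation sense (around each
point of X, f is locally of finite type and factors as a Koszul-regular immersion followed by a
smooth morphism). Then f is a perfect morphism: for all affine opens U ⊆ f⁻¹(V), the ring map O_Y(V)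
→ O_X(U) is pseudo-coherent and of finite tor-dimension. -/
theorem result {X Y : Scheme.{u}} (f : X ⟶ Y) (hf : ∀ x : X, Synt.IsKoszulAt f x) :
    MoreMor.IsPerfectMor f := by
  have h1 := Groth.Agent.H8.LCIHom.lcip_of_forall_isKoszulAt f hf
  have h2 := (Groth.Agent.H8.LCIHom.lcip_iff_forall f).1 h1
  intro U V hU hV hUV
  letI := (f.appLE V U hUV).hom.toAlgebra
  exact Groth.Agent.S7070.result _ _ (h2 U V hU hV hUV)

end Groth.Agent.S8663
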