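import Groth.Statements.S0418
import Mathlib
import Groth.Prelude.Def_Flat
import Groth.Agent.H4.UHPow2

set_option autoImplicit false
universe u
open FlatMor

namespace Groth.Agent.S0418

open CategoryTheory CategoryTheory.Limits AlgebraicGeometry TensorProduct


open Groth.Agent.S7405 Groth.Agent.H4.UHCrit Groth.Agent.H4.UHTower Groth.Agent.H4.UHPow
  Groth.Agent.H4.UHPow2

open AlgebraicGeometry in
/-- For a prime number p and a ring map A → B that becomes an isomorphism after inverting p, Spec B →
Spec A is a universal homeomorphism if and only if the kernel consists of nilpotents and every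
element of B has some p-power multiple and p-power power in the image. -/
theorem result {A B : Type u} [CommRing A] [CommRing B] (φ : A →+* B) (p : ℕ) (hp : p.Prime)
    (h : Function.Bijective (Localization.awayMap φ (p : A))) :
    FlatMor.IsUnivHomeo (Spec.map (CommRingCat.ofHom φ)) ↔
      (∀ a ∈ RingHom.ker φ, IsNilpotent a) ∧ ∀ b : B, ∃ n : ℕ, (p ^ n : B) * b ∈ φ.range ∧ b ^ (p ^ n) ∈ φ.range := by
  letI := φ.toAlgebra
  have hφ : algebraMap A B = φ := rfl
  change FlatMor.IsUnivHomeo (Spec.map (CommRingCat.ofHom (algebraMap A B))) ↔ _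
  rw [uhc_iff]
  constructor
  · intro hU
    constructor
    · intro a ha
      rw [nilpotent_iff_mem_prime]
      intro P hP
      obtain ⟨Q, hQ⟩ := hU.2.1.2 ⟨P, hP⟩
      have : a ∈ (PrimeSpectrum.comap (algebraMap A B) Q).asIdeal := by
        show φ a ∈ Q.asIdeal
        rw [ha]; exact Q.asIdeal.zero_mem
      rw [hQ] at this
      exact this
    · have hmul : ∀ b : B, ∃ (a : A) (m : ℕ), algebraMap A B a = (p : B) ^ m * b := by
        intro b
        obtain ⟨a, m, ha⟩ := Localization.awayMap_surjective_iff.mp h.2 b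
        exact ⟨a, m, by rw [hφ, ha, map_natCast]⟩
      have htop := pSub_eq_top hp hU hmul
      intro b
      have hb : b ∈ (pSub A p hp : Subalgebra A B) := by rw [htop]; trivial
      obtain ⟨n, h1, h2⟩ := hb
      refine ⟨n, ?_, h2⟩
      have : (p ^ n : B) = ((p ^ n : ℕ) : B) := by push_cast; rfl
      rw [this]; exact h1
  · rintro ⟨hker, hpow⟩
    have hint : (algebraMap A B).IsIntegral := by
      intro b
      obtain ⟨n, -, a, ha⟩ := hpow b
      exact IsIntegral.of_pow (pow_pos hp.pos n) (ha ▸ isIntegral_algebraMap)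
    have hker' : RingHom.ker (algebraMap A B) ≤ nilradical A := fun a ha =>
      mem_nilradical.mpr (hker a ha)
    refine ⟨hint, ⟨?_, surj_of_integral_of_ker hint hker'⟩, ?_⟩
    · have half : ∀ (Q₁ Q₂ : PrimeSpectrum B),
          PrimeSpectrum.comap (algebraMap A B) Q₁ = PrimeSpectrum.comap (algebraMap A B) Q₂ →
          Q₁.asIdeal ≤ Q₂.asIdeal := by
        intro Q₁ Q₂ h12 x hx
        obtain ⟨n, -, r, hr⟩ := hpow x
        have h1 : r ∈ (PrimeSpectrum.comap (algebraMap A B) Q₁).asIdeal := by
          show φ r ∈ Q₁.asIdeal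
          rw [hr]
          exact Q₁.asIdeal.pow_mem_of_mem hx _ (pow_pos hp.pos n)
        rw [h12] at h1
        have h2 : x ^ p ^ n ∈ Q₂.asIdeal := by rw [← hr]; exact h1
        exact Q₂.isPrime.mem_of_pow_mem _ h2
      intro Q₁ Q₂ h12
      exact PrimeSpectrum.ext (le_antisymm (half _ _ h12) (half _ _ h12.symm))
    · intro Q _ b
      obtain ⟨n, ⟨a₁, ha₁⟩, ⟨a₂, ha₂⟩⟩ := hpow b
      by_cases hpQ : (p : B) ∈ Q
      · refine ⟨p, n, Or.inr ⟨hp, hpQ⟩, a₂, 1, ?_, ?_⟩
        · rw [map_one]
          exact fun h => ‹Q.IsPrime›.ne_top (Q.eq_top_of_isUnit_mem h isUnit_one)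
        · rw [map_one, one_mul, hφ, ha₂, sub_self]
          exact Q.zero_mem
      · refine ⟨1, 0, Or.inl rfl, a₁, (p ^ n : ℕ), ?_, ?_⟩
        · rw [map_natCast]
          push_cast
          exact fun h => hpQ (‹Q.IsPrime›.mem_of_pow_mem _ h)
        · rw [map_natCast, hφ, ha₁]
          push_cast
          simp


end Groth.Agent.S0418
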