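import Groth.Statements.S6985
import Mathlib
import Groth.Agent.H4.RelPC4

set_option autoImplicit false
universe u
open CategoryTheory CategoryTheory.Limits
attribute [local instance] HasDerivedCategory.standard
open DerCA

namespace Groth.Agent.S6985

open DRing

open Groth.Agent.H4.PCHom Groth.Agent.H4.PC Groth.Agent.H4.RelPC DerivedCategory

/-- Let R be a commutative ring and A → B a homomorphism of finite type R-algebras such that A, as an
A-module, is pseudo-coherent relative to R. Let K be an object of D(B) and m an integer. Then K is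
m-pseudo-coherent relative to A if and only if K is m-pseudo-coherent relative to R; and K is
pseudo-coherent relative to A if and only if it is pseudo-coherent relative to R. -/
theorem result {R A B : Type u} [CommRing R] [CommRing A]
    [CommRing B] [Algebra R A] [Algebra A B] [Algebra R B] [IsScalarTower R A B] [Algebra.FiniteType R A]
    [Algebra.FiniteType R B] [Algebra.FiniteType A B] (hA : DerCA.IsRelPseudoCoherentModuleAll R A A)
    (K : Dual.D B) (m : ℤ) :
    (DerCA.IsRelPseudoCoherent A B m K ↔ DerCA.IsRelPseudoCoherent R B m K) ∧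
      (DerCA.IsRelPseudoCoherentAll A B K ↔ DerCA.IsRelPseudoCoherentAll R B K) := by
  obtain ⟨n, α, hα⟩ := exists_pres (R := R) (A := A)
  obtain ⟨k, β, hβ⟩ := exists_pres (R := A) (A := B)
  have hαPC : IsPCHom (α : MvPolynomial (Fin n) R →+* A) :=
    fun j => (relPC_single_iff α hα (ModuleCat.of A A) j).1 (hA j)
  have hg := isPCHom_map _ hαPC (Fin k)
  let e : MvPolynomial (Fin (k + n)) R ≃ₐ[R] MvPolynomial (Fin k) (MvPolynomial (Fin n) R) :=
    (MvPolynomial.renameEquiv R finSumFinEquiv.symm).trans (MvPolynomial.sumAlgEquiv R (Fin k) (Fin n))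
  let ψ : MvPolynomial (Fin k) (MvPolynomial (Fin n) R) →ₐ[R] B :=
    (β.restrictScalars R).comp (MvPolynomial.mapAlgHom α)
  have hψ : Function.Surjective ψ := by
    refine hβ.comp ?_
    exact MvPolynomial.map_surjective _ hα
  have key : ∀ j : ℤ, DerCA.IsRelPseudoCoherent A B j K ↔ DerCA.IsRelPseudoCoherent R B j K := by
    intro j
    rw [relPC_iff_of_equiv e ψ hψ, relPC_iff β hβ, ← hg.isPC_iff j]
    exact ⟨isPC_of_iso (restrictDComp _ _ K).symm, isPC_of_iso (restrictDComp _ _ K)⟩
  exact ⟨key m, forall_congr' key⟩


end Groth.Agent.S6985
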