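import Groth.Statements.S6992
import Mathlib
import Groth.Agent.H4.RelFP

set_option autoImplicit false
universe u
open CAlg

namespace Groth.Agent.S6992

open Groth.Agent.H4.RelFP

/-- Let R be a commutative ring, A → B a finite homomorphism of finite type R-algebras, M a B-module,
and α : R[x_1, ..., x_n] → A, β : R[y_1, ..., y_k] → B surjective R-algebra homomorphisms. Then M is
finitely presented as an R[x_1, ..., x_n]-module through α and A → B (M is finitely presented
relative to R as an A-module) if and only if M is finitely presented as an R[y_1, ..., y_k]-module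
through β (M is finitely presented relative to R as a B-module). -/
theorem result {R A B : Type u} [CommRing R] [CommRing A] [CommRing B]
    [Algebra R A] [Algebra A B] [Algebra R B] [IsScalarTower R A B] [Algebra.FiniteType R A]
    [Algebra.FiniteType R B] [Module.Finite A B] (M : Type u) [AddCommGroup M] [Module B M] [Module A M]
    [IsScalarTower A B M] {n k : ℕ} (α : MvPolynomial (Fin n) R →ₐ[R] A) (hα : Function.Surjective α)
    (β : MvPolynomial (Fin k) R →ₐ[R] B) (hβ : Function.Surjective β) :
    @Module.FinitePresentation (MvPolynomial (Fin n) R) M _ _ (Module.compHom M α.toRingHom) ↔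
      @Module.FinitePresentation (MvPolynomial (Fin k) R) M _ _ (Module.compHom M β.toRingHom) := by
  classical
  -- notation
  let P := MvPolynomial (Fin n) R
  let Q := MvPolynomial (Fin k) R
  let aP : P →+* B := (algebraMap A B).comp α.toRingHom
  -- step 0: rewrite the LHS module structure as compHom through `B`
  have h0 : (Module.compHom M α.toRingHom : Module P M) = Module.compHom M aP := by
    apply Module.ext'
    intro r m
    change (α r) • m = (algebraMap A B (α r)) • m
    rw [algebraMap_smul]
  rw [h0]
  -- `B` is finite over `P`
  have haPfin : aP.Finite :=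
    RingHom.Finite.comp (RingHom.finite_algebraMap.2 inferInstance) (RingHom.Finite.of_surjective _ hα)
  letI : Algebra P B := aP.toAlgebra
  haveI : Module.Finite P B := haPfin
  obtain ⟨C, _, _, hCfin, hCfree, hCfp, ψ, hψ⟩ := Module.Finite.exists_free_surjective P B
  have haP : aP = ψ.toRingHom.comp (algebraMap P C) := by
    ext p
    · simp only [RingHom.coe_comp, Function.comp_apply]
      exact (ψ.commutes _).symm
    · simp only [RingHom.coe_comp, Function.comp_apply]
      exact (ψ.commutes _).symm
  -- step 1: P ↔ C
  have h1 := fp_compHom_iff (M := M) (algebraMap P C) ψ.toRingHom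
    (RingHom.finite_algebraMap.2 hCfin) (RingHom.finitePresentation_algebraMap.2 hCfp)
  rw [← haP] at h1
  rw [h1]
  -- the ring T = P[y]
  let T := MvPolynomial (Fin k) P
  choose c hc using fun j : Fin k => hψ (β (MvPolynomial.X j))
  let φC : T →ₐ[P] C := MvPolynomial.aeval c
  have hφCfin : φC.toRingHom.Finite := by
    apply RingHom.Finite.of_comp_finite (f := algebraMap P T)
    have : φC.toRingHom.comp (algebraMap P T) = algebraMap P C := by
      ext p
      · simp [φC]
      · simp [φC]
    rw [this]
    exact RingHom.finite_algebraMap.2 hCfin
  have hφCfp : φC.toRingHom.FinitePresentation := by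
    apply RingHom.FinitePresentation.of_comp_finiteType (algebraMap P T)
    · have : φC.toRingHom.comp (algebraMap P T) = algebraMap P C := by
        ext p
        · simp [φC]
        · simp [φC]
      rw [this]
      exact RingHom.finitePresentation_algebraMap.2 hCfp
    · exact RingHom.finiteType_algebraMap.2 inferInstance
  -- step 2: T ↔ C
  have h2 := fp_compHom_iff (M := M) φC.toRingHom ψ.toRingHom hφCfin hφCfp
  rw [← h2]
  -- the map T → Q
  choose q hq using fun i : Fin n => hβ (algebraMap A B (α (MvPolynomial.X i)))
  let qmap : P →ₐ[R] Q := MvPolynomial.aeval q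
  let φQ : T →+* Q := MvPolynomial.eval₂Hom qmap.toRingHom MvPolynomial.X
  have hφQsurj : Function.Surjective φQ := by
    intro z
    refine ⟨MvPolynomial.map (algebraMap R P) z, ?_⟩
    simp only [φQ]
    rw [MvPolynomial.coe_eval₂Hom, MvPolynomial.eval₂_map]
    have : qmap.toRingHom.comp (algebraMap R P) = MvPolynomial.C := by
      refine RingHom.ext fun r => ?_
      simp only [RingHom.coe_comp, Function.comp_apply]
      change qmap (algebraMap R P r) = _
      rw [AlgHom.commutes]; rfl
    rw [this, MvPolynomial.eval₂_eta]
  have hφQfin : φQ.Finite := RingHom.Finite.of_surjective _ hφQsurj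
  have hφQfp : φQ.FinitePresentation := by
    apply RingHom.FinitePresentation.of_comp_finiteType ((algebraMap P T).comp (algebraMap R P))
    · have : φQ.comp ((algebraMap P T).comp (algebraMap R P)) = algebraMap R Q := by
        refine RingHom.ext fun r => ?_
        simp only [RingHom.coe_comp, Function.comp_apply]
        have e1 : (algebraMap P T) (algebraMap R P r) = MvPolynomial.C (algebraMap R P r) := rfl
        rw [e1]
        change MvPolynomial.eval₂Hom qmap.toRingHom MvPolynomial.X (MvPolynomial.C (algebraMap R P r)) = _
        rw [MvPolynomial.coe_eval₂Hom, MvPolynomial.eval₂_C]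
        change qmap (algebraMap R P r) = _
        rw [AlgHom.commutes]
      rw [this]
      exact RingHom.finitePresentation_algebraMap.2 inferInstance
    · exact RingHom.FiniteType.comp (RingHom.finiteType_algebraMap.2 inferInstance)
        (RingHom.finiteType_algebraMap.2 inferInstance)
  have h3 := fp_compHom_iff (M := M) φQ β.toRingHom hφQfin hφQfp
  rw [← h3]
  apply fp_compHom_congr
  -- equality of ring homs T → B
  have hβq : β.toRingHom.comp qmap.toRingHom = aP := by
    have : (β.comp qmap) = ((IsScalarTower.toAlgHom R A B).comp α) := by
      apply MvPolynomial.algHom_ext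
      intro i
      simp [qmap, hq]
    exact congrArg AlgHom.toRingHom this
  apply MvPolynomial.ringHom_ext
  · intro p
    have e1 : (ψ.toRingHom.comp φC.toRingHom) (MvPolynomial.C p) = aP p := by
      rw [haP]
      change ψ (MvPolynomial.aeval c (MvPolynomial.C p)) = ψ (algebraMap P C p)
      rw [MvPolynomial.aeval_C]
    have e2 : (β.toRingHom.comp φQ) (MvPolynomial.C p) = aP p := by
      rw [← hβq]
      change β (MvPolynomial.eval₂Hom qmap.toRingHom MvPolynomial.X (MvPolynomial.C p)) = β (qmap p)
      rw [MvPolynomial.coe_eval₂Hom, MvPolynomial.eval₂_C]; rfl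
    rw [e1, e2]
  · intro j
    change ψ (MvPolynomial.aeval c (MvPolynomial.X j)) = β (MvPolynomial.eval₂Hom qmap.toRingHom MvPolynomial.X (MvPolynomial.X j))
    rw [MvPolynomial.aeval_X, hc, MvPolynomial.coe_eval₂Hom, MvPolynomial.eval₂_X]


end Groth.Agent.S6992
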