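import Groth.Statements.S8261
import Groth.Agent.H4.ProjFT
import Groth.Agent.S8260

set_option autoImplicit false
universe u
open CategoryTheory CategoryTheory.Limits AlgebraicGeometry Opposite TopologicalSpace
open scoped HomogeneousIdeal
open EGA2

namespace Groth.Agent.S8261

open CategoryTheory CategoryTheory.Limits AlgebraicGeometry TopologicalSpace Opposite
open Groth.Agent.H4


set_option backward.isDefEq.respectTransparency false in
theorem main' {Y P : Scheme.{u}} (𝒮 : RelProj.QCGrAlg Y)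
    (hgen : 𝒮.IsGenDegOne) (hft : 𝒮.IsFTDeg 1) (p : P ⟶ Y)
    (chart : ∀ (U : Y.Opens) (hU : IsAffineOpen U), (((p ⁻¹ᵁ U : P.Opens) : Scheme.{u}) ≅ Proj (𝒮.deg U hU)))
    (hP : RelProj.IsRelProj 𝒮 p chart) : LocallyOfFiniteType p ∧ QuasiCompact p := by
  have key : ∀ (U : Y.Opens) (hU : IsAffineOpen U),
      LocallyOfFiniteType (p ∣_ U) ∧ QuasiCompact (p ∣_ U) := by
    intro U hU
    rw [Groth.Agent.S8260.restrict_eq 𝒮 p chart hP U hU]
    obtain ⟨T, hTsub, hTspan⟩ := hft U hU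
    have hT : ∀ t ∈ T, t ∈ 𝒮.deg U hU 1 := fun t ht => hTsub ht
    have h1 : LocallyOfFiniteType (Proj.toSpecZero (𝒮.deg U hU) ≫
        Spec.map (CommRingCat.ofHom (𝒮.strZero U hU).hom)) :=
      ProjFT.locallyOfFiniteType (𝒮.deg U hU) (𝒮.strZero U hU).hom T hT hTspan (hgen U hU)
    have h2 : QuasiCompact (Proj.toSpecZero (𝒮.deg U hU) ≫
        Spec.map (CommRingCat.ofHom (𝒮.strZero U hU).hom)) :=
      ProjFT.quasiCompact (𝒮.deg U hU) (𝒮.strZero U hU).hom T hT hTspan (hgen U hU)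
    rw [CommRingCat.ofHom_hom] at h1 h2
    have e : (chart U hU).hom ≫ Proj.toSpecZero (𝒮.deg U hU) ≫ Spec.map (𝒮.strZero U hU) ≫
        hU.isoSpec.inv = (chart U hU).hom ≫ (Proj.toSpecZero (𝒮.deg U hU) ≫
          Spec.map (𝒮.strZero U hU)) ≫ hU.isoSpec.inv := by
      simp only [Category.assoc]
    rw [e]
    exact ⟨inferInstance, inferInstance⟩
  constructor
  · rw [IsZariskiLocalAtTarget.iff_of_iSup_eq_top (P := @LocallyOfFiniteType) _ (iSup_affineOpens_eq_top Y)]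
    exact fun U => (key U.1 U.2).1
  · rw [IsZariskiLocalAtTarget.iff_of_iSup_eq_top (P := @QuasiCompact) _ (iSup_affineOpens_eq_top Y)]
    exact fun U => (key U.1 U.2).2

/-- Let 𝒮 be a quasi-coherent positively graded O_Y-algebra generated by 𝒮_1 with 𝒮_1 of finite type
over O_Y. Then Proj(𝒮) is of finite type over Y. -/
theorem result {Y P : Scheme.{u}} (𝒮 : RelProj.QCGrAlg Y)
    (hgen : 𝒮.IsGenDegOne) (hft : 𝒮.IsFTDeg 1) (p : P ⟶ Y)
    (chart : ∀ (U : Y.Opens) (hU : IsAffineOpen U), (((p ⁻¹ᵁ U : P.Opens) : Scheme.{u}) ≅ Proj (𝒮.deg U hU)))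
    (hP : RelProj.IsRelProj 𝒮 p chart) : LocallyOfFiniteType p ∧ QuasiCompact p := by
  exact main' 𝒮 hgen hft p chart hP


end Groth.Agent.S8261
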