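import Groth.Statements.S7147
import Mathlib

set_option autoImplicit false
universe u
open CAlg

namespace Groth.Agent.S7147

open Submodule Matrix

section
variable (R : Type u) [CommRing R] (M : Type u) [AddCommGroup M] [Module R M] (x : Ideal R)

/-- elements all of whose linear forms land in `x` -/
def W0 : Submodule R M where
  carrier := {m : M | ∀ φ : M →ₗ[R] R, φ m ∈ x}
  add_mem' := by
    intro a b ha hb φ
    rw [map_add]
    exact x.add_mem (ha φ) (hb φ)
  zero_mem' := by
    intro φ
    rw [map_zero]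
    exact x.zero_mem
  smul_mem' := by
    intro c a ha φ
    rw [map_smul]
    exact x.mul_mem_left c (ha φ)

theorem smul_top_le_W0 : (x • ⊤ : Submodule R M) ≤ W0 R M x := by
  rw [Submodule.smul_le]
  intro a ha m _ φ
  rw [map_smul, smul_eq_mul]
  exact x.mul_mem_right _ ha

/-- membership in `Bx` -/
theorem mem_Bx_iff (m : M) :
    (x • ⊤ : Submodule R M).mkQ m ∈ Submodule.span (R ⧸ x)
      ((x • ⊤ : Submodule R M).mkQ '' {m : M | ∀ φ : M →ₗ[R] R, φ m ∈ x}) ↔ m ∈ W0 R M x := by
  have h1 : (Submodule.span (R ⧸ x)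
      ((x • ⊤ : Submodule R M).mkQ '' {m : M | ∀ φ : M →ₗ[R] R, φ m ∈ x})).restrictScalars R =
      (W0 R M x).map (x • ⊤ : Submodule R M).mkQ := by
    rw [Submodule.restrictScalars_span R (R ⧸ x) Ideal.Quotient.mk_surjective, ← Submodule.map_span]
    congr 1
    exact Submodule.span_eq (W0 R M x)
  constructor
  · intro h
    have h2 : (x • ⊤ : Submodule R M).mkQ m ∈ (W0 R M x).map (x • ⊤ : Submodule R M).mkQ := by
      rw [← h1]; exact h
    obtain ⟨w, hw, hwm⟩ := h2
    have : m - w ∈ (x • ⊤ : Submodule R M) := by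
      rw [← Submodule.ker_mkQ (x • ⊤ : Submodule R M), LinearMap.mem_ker, map_sub, hwm, sub_self]
    have := (W0 R M x).add_mem (smul_top_le_W0 R M x this) hw
    rwa [sub_add_cancel] at this
  · intro h
    exact Submodule.subset_span ⟨m, h, rfl⟩

end


section
variable {R : Type u} [CommRing R] {M : Type u} [AddCommGroup M] [Module R M]

/-- (2) ⇒ dual forms -/
theorem exists_forms (x : Ideal R) [x.IsMaximal] (r : ℕ) (s : Fin r → M)
    (hli : LinearIndependent (R ⧸ x) (fun i =>
      (Submodule.span (R ⧸ x)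
        ((x • ⊤ : Submodule R M).mkQ '' {m : M | ∀ φ : M →ₗ[R] R, φ m ∈ x})).mkQ
        ((x • ⊤ : Submodule R M).mkQ (s i)))) (j : Fin r) :
    ∃ φ : M →ₗ[R] R, ∀ i, Ideal.Quotient.mk x (φ (s i)) = if i = j then 1 else 0 := by
  classical
  letI : Field (R ⧸ x) := Ideal.Quotient.field x
  let Θ : (M →ₗ[R] R) →ₗ[R] (Fin r → R ⧸ x) :=
    LinearMap.pi (fun i => (Submodule.mkQ x) ∘ₗ (LinearMap.applyₗ (s i)))
  have hΘ : ∀ φ i, Θ φ i = Ideal.Quotient.mk x (φ (s i)) := fun φ i => rfl
  let Wr : Submodule (R ⧸ x) (Fin r → R ⧸ x) := Submodule.span (R ⧸ x) (Set.range Θ)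
  have hWr : Wr = ⊤ := by
    by_contra hne
    obtain ⟨l, hl0, hl⟩ := Submodule.exists_le_ker_of_lt_top Wr (lt_top_iff_ne_top.mpr hne)
    apply hl0
    -- coefficients
    let c : Fin r → R ⧸ x := fun i => l (fun j => if i = j then 1 else 0)
    have hlc : ∀ y : Fin r → R ⧸ x, l y = ∑ i, y i * c i := by
      intro y
      rw [LinearMap.pi_apply_eq_sum_univ l y]
      rfl
    choose a ha using fun i => Ideal.Quotient.mk_surjective (c i)
    have hmem : (∑ i, a i • s i) ∈ W0 R M x := by
      intro φ
      have h1 : l (Θ φ) = 0 := hl (Submodule.subset_span ⟨φ, rfl⟩)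
      rw [hlc] at h1
      rw [← Ideal.Quotient.eq_zero_iff_mem, map_sum, map_sum]
      rw [← h1]
      refine Finset.sum_congr rfl (fun i _ => ?_)
      rw [map_smul, smul_eq_mul, map_mul, ha i, hΘ, mul_comm]
    have h2 := (mem_Bx_iff R M x _).mpr hmem
    have h3 : ∑ i, c i • ((Submodule.span (R ⧸ x)
        ((x • ⊤ : Submodule R M).mkQ '' {m : M | ∀ φ : M →ₗ[R] R, φ m ∈ x})).mkQ
        ((x • ⊤ : Submodule R M).mkQ (s i))) = 0 := by
      have h4 : (Submodule.span (R ⧸ x)
        ((x • ⊤ : Submodule R M).mkQ '' {m : M | ∀ φ : M →ₗ[R] R, φ m ∈ x})).mkQ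
        ((x • ⊤ : Submodule R M).mkQ (∑ i, a i • s i)) = 0 :=
        (Submodule.Quotient.mk_eq_zero _).mpr h2
      rw [← h4, map_sum, map_sum]
      refine Finset.sum_congr rfl (fun i _ => ?_)
      rw [← ha i]
      rfl
    have hc := (Fintype.linearIndependent_iff.mp hli) c h3
    apply LinearMap.ext
    intro y
    rw [hlc]
    simp [hc]
  have h5 : Pi.single j (1 : R ⧸ x) ∈ Wr.restrictScalars R := by
    rw [Submodule.restrictScalars_mem, hWr]; trivial
  rw [Submodule.restrictScalars_span R (R ⧸ x) Ideal.Quotient.mk_surjective] at h5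
  have h6 : Submodule.span R (Set.range Θ) = LinearMap.range Θ := by
    have : (Set.range Θ) = ((LinearMap.range Θ : Submodule R _) : Set _) := rfl
    rw [this, Submodule.span_eq]
  rw [h6] at h5
  obtain ⟨φ, hφ⟩ := h5
  refine ⟨φ, fun i => ?_⟩
  rw [← hΘ, hφ, Pi.single_apply]

end


section
variable {R : Type u} [CommRing R] {M : Type u} [AddCommGroup M] [Module R M]

theorem exists_retraction (r : ℕ) (s : Fin r → M) (φ : Fin r → (M →ₗ[R] R)) (f : R)
    (hf : f = (Matrix.of fun j i => φ j (s i)).det) :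
    ∃ g : LocalizedModule (Submonoid.powers f) M →ₗ[Localization.Away f] (Fin r → Localization.Away f),
        g ∘ₗ Fintype.linearCombination (Localization.Away f)
            (fun i => LocalizedModule.mkLinearMap (Submonoid.powers f) M (s i)) = LinearMap.id := by
  classical
  let S := Submonoid.powers f
  let Rf := Localization.Away f
  let A : Matrix (Fin r) (Fin r) R := Matrix.of fun j i => φ j (s i)
  let Af : Matrix (Fin r) (Fin r) Rf := A.map (algebraMap R Rf)
  have hdet : IsUnit Af.det := by
    have hfA : A.det = f := hf.symm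
    have : Af.det = algebraMap R Rf f :=
      ((RingHom.map_det (algebraMap R Rf) A).symm).trans (congrArg (algebraMap R Rf) hfA)
    rw [this]
    exact IsLocalization.Away.algebraMap_isUnit f
  let G' : M →ₗ[R] (Fin r → Rf) := LinearMap.pi (fun j => (Algebra.linearMap R Rf) ∘ₗ φ j)
  haveI : IsLocalizedModule S (LinearMap.id : (Fin r → Rf) →ₗ[R] (Fin r → Rf)) :=
    isLocalizedModule_id S (Fin r → Rf) Rf
  have hunits : ∀ t : S, IsUnit (algebraMap R (Module.End R (Fin r → Rf)) t) :=
    fun t => IsLocalizedModule.map_units (LinearMap.id : (Fin r → Rf) →ₗ[R] (Fin r → Rf)) t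
  let Gf : LocalizedModule S M →ₗ[R] (Fin r → Rf) := LocalizedModule.lift S G' hunits
  let gR : LocalizedModule S M →ₗ[R] (Fin r → Rf) :=
    ((Matrix.toLin' Af⁻¹).restrictScalars R) ∘ₗ Gf
  refine ⟨gR.extendScalarsOfIsLocalization S Rf, ?_⟩
  apply LinearMap.pi_ext'
  intro i
  apply LinearMap.ext_ring
  simp only [LinearMap.comp_apply, LinearMap.id_apply, LinearMap.coe_single,
    Fintype.linearCombination_apply_single, one_smul,
    LinearMap.extendScalarsOfIsLocalization_apply']
  have h1 : Gf (LocalizedModule.mkLinearMap S M (s i)) = G' (s i) := by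
    simp only [Gf, LocalizedModule.mkLinearMap_apply]
    exact LocalizedModule.lift_mk_one S G' hunits (s i)
  have h2 : G' (s i) = Af *ᵥ Pi.single i 1 := by
    rw [Matrix.mulVec_single_one]
    funext j
    rfl
  show (Matrix.toLin' Af⁻¹) (Gf (LocalizedModule.mkLinearMap S M (s i))) = _
  rw [h1, h2, Matrix.toLin'_apply, Matrix.mulVec_mulVec, Matrix.nonsing_inv_mul _ hdet,
    Matrix.one_mulVec]

end


section
variable {R : Type u} [CommRing R] {M : Type u} [AddCommGroup M] [Module R M]

theorem indep_of_retraction [Module.FinitePresentation R M] (x : Ideal R) [x.IsMaximal]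
    (r : ℕ) (s : Fin r → M) (f : R) (hfx : f ∉ x)
    (g : LocalizedModule (Submonoid.powers f) M →ₗ[Localization.Away f] (Fin r → Localization.Away f))
    (hg : g ∘ₗ Fintype.linearCombination (Localization.Away f)
            (fun i => LocalizedModule.mkLinearMap (Submonoid.powers f) M (s i)) = LinearMap.id) :
    LinearIndependent (R ⧸ x) (fun i =>
      (Submodule.span (R ⧸ x)
        ((x • ⊤ : Submodule R M).mkQ '' {m : M | ∀ φ : M →ₗ[R] R, φ m ∈ x})).mkQ
        ((x • ⊤ : Submodule R M).mkQ (s i))) := by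
  classical
  haveI := Ideal.IsMaximal.isPrime ‹x.IsMaximal›
  let S := Submonoid.powers f
  let Rf := Localization.Away f
  have hSx : ∀ t : S, (t : R) ∉ x := by
    rintro ⟨t, n, rfl⟩ h
    exact hfx (Ideal.IsPrime.mem_of_pow_mem ‹x.IsPrime› n h)
  have hgs : ∀ i j, g (LocalizedModule.mkLinearMap S M (s i)) j = if j = i then 1 else 0 := by
    intro i j
    have := LinearMap.congr_fun hg (Pi.single i 1)
    simp only [LinearMap.comp_apply, LinearMap.id_apply,
      Fintype.linearCombination_apply_single, one_smul] at this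
    rw [this, Pi.single_apply]
  -- the components of g lift to forms on M
  let gj : Fin r → (M →ₗ[R] Rf) := fun j =>
    ((LinearMap.proj j : (Fin r → Rf) →ₗ[Rf] Rf).restrictScalars R) ∘ₗ
      (g.restrictScalars R) ∘ₗ (LocalizedModule.mkLinearMap S M)
  have hlift : ∀ j, ∃ (φ : M →ₗ[R] R) (t : S), (Algebra.linearMap R Rf) ∘ₗ φ = t • gj j :=
    fun j => Module.FinitePresentation.exists_lift_of_isLocalizedModule S
      (Algebra.linearMap R Rf) (gj j)
  choose φ t hφt using hlift
  rw [Fintype.linearIndependent_iff]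
  intro c hc j
  choose a ha using fun i => Ideal.Quotient.mk_surjective (c i)
  have h1 : (Submodule.span (R ⧸ x)
        ((x • ⊤ : Submodule R M).mkQ '' {m : M | ∀ φ : M →ₗ[R] R, φ m ∈ x})).mkQ
        ((x • ⊤ : Submodule R M).mkQ (∑ i, a i • s i)) = 0 := by
    rw [← hc, map_sum, map_sum]
    refine Finset.sum_congr rfl (fun i _ => ?_)
    rw [← ha i]
    rfl
  have h2 : (∑ i, a i • s i) ∈ W0 R M x :=
    (mem_Bx_iff R M x _).mp ((Submodule.Quotient.mk_eq_zero _).mp h1)
  have h3 : φ j (∑ i, a i • s i) ∈ x := h2 (φ j)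
  have h4 : algebraMap R Rf (φ j (∑ i, a i • s i)) = algebraMap R Rf ((t j : R) * a j) := by
    have := LinearMap.congr_fun (hφt j) (∑ i, a i • s i)
    simp only [LinearMap.comp_apply, Algebra.linearMap_apply, LinearMap.smul_apply] at this
    rw [this]
    simp only [gj, LinearMap.comp_apply, LinearMap.restrictScalars_apply, LinearMap.proj_apply,
      map_sum, map_smul, Finset.sum_apply, Pi.smul_apply, hgs]
    simp [Submonoid.smul_def, Algebra.smul_def]
  obtain ⟨u, hu⟩ := (IsLocalization.eq_iff_exists S Rf).mp h4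
  have h5 : (u : R) * ((t j : R) * a j) ∈ x := by
    rw [← hu]
    exact x.mul_mem_left _ h3
  have h6 : a j ∈ x := by
    rcases Ideal.IsPrime.mem_or_mem ‹x.IsPrime› h5 with h | h
    · exact absurd h (hSx u)
    · rcases Ideal.IsPrime.mem_or_mem ‹x.IsPrime› h with h | h
      · exact absurd h (hSx (t j))
      · exact h
  rw [← ha j]
  exact Ideal.Quotient.eq_zero_iff_mem.mpr h6

end

/-- Let R be a ring, M a finitely presented R-module and x a maximal ideal of R with residue field κ(x);
write M(x) = M/xM and let B(x) ⊆ M(x) be the orthogonal of the image of Hom_R(M, R) in the dual of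
M(x), i.e. the classes of those m in M with φ(m) in x for every linear form φ on M, and V(x) =
M(x)/B(x). For s_1, ..., s_r in M the following are equivalent: (1) there is f in R, f not in x,
such that the map R_f^r → M_f given by the s_i is the inclusion of a direct summand; (2) the images
of s_1, ..., s_r in V(x) are linearly independent over κ(x). -/
theorem result (R : Type u) [CommRing R] (M : Type u)
    [AddCommGroup M] [Module R M] [Module.FinitePresentation R M] (x : Ideal R) [x.IsMaximal]
    (r : ℕ) (s : Fin r → M) :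
    let Mx := M ⧸ (x • ⊤ : Submodule R M)
    let Bx : Submodule (R ⧸ x) Mx :=
      Submodule.span (R ⧸ x) ((x • ⊤ : Submodule R M).mkQ '' {m : M | ∀ φ : M →ₗ[R] R, φ m ∈ x})
    (∃ f : R, f ∉ x ∧
      ∃ g : LocalizedModule (Submonoid.powers f) M →ₗ[Localization.Away f] (Fin r → Localization.Away f),
        g ∘ₗ Fintype.linearCombination (Localization.Away f)
            (fun i => LocalizedModule.mkLinearMap (Submonoid.powers f) M (s i)) = LinearMap.id) ↔
    LinearIndependent (R ⧸ x) (fun i => Bx.mkQ ((x • ⊤ : Submodule R M).mkQ (s i))) := by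
  classical
  intro Mx Bx
  constructor
  · rintro ⟨f, hfx, g, hg⟩
    exact indep_of_retraction x r s f hfx g hg
  · intro hli
    choose φ hφ using exists_forms x r s hli
    refine ⟨(Matrix.of fun j i => φ j (s i)).det, ?_, exists_retraction r s φ _ rfl⟩
    intro hmem
    have h1 : Ideal.Quotient.mk x (Matrix.of fun j i => φ j (s i)).det = 1 := by
      rw [RingHom.map_det]
      have : (Ideal.Quotient.mk x).mapMatrix (Matrix.of fun j i => φ j (s i)) = 1 := by
        ext j i
        simp only [RingHom.mapMatrix_apply, Matrix.map_apply, Matrix.of_apply, hφ j i,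
          Matrix.one_apply]
        by_cases h : i = j
        · simp [h]
        · simp [h, Ne.symm h]
      rw [this, Matrix.det_one]
    rw [Ideal.Quotient.eq_zero_iff_mem.mpr hmem] at h1
    haveI : Nontrivial (R ⧸ x) := Ideal.Quotient.nontrivial_iff.mpr (Ideal.IsMaximal.ne_top ‹_›)
    exact zero_ne_one h1


end Groth.Agent.S7147
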