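import Groth.Statements.S2331
import Groth.Agent.Lib.Lead.QC.CompAmple
import Groth.Agent.Lib.Lead.QC.PullRel
import Groth.Agent.S4380
import Groth.Agent.S4381

set_option autoImplicit false
universe u
open CategoryTheory CategoryTheory.Limits AlgebraicGeometry
open EGA2

namespace Groth.Agent.S2331

/-- Let Z be quasi-compact, f : X → Y and g : Y → Z quasi-compact morphisms, L an O_X-module ample
relative to f and K an O_Y-module ample relative to g. Then there is n₀ > 0 such that L ⊗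
f^*(K^{⊗n}) is ample relative to g ∘ f for every n ≥ n₀. -/
theorem result {X Y Z : Scheme.{u}} [CompactSpace Z] (f : X ⟶ Y) (g : Y ⟶ Z)
    [QuasiCompact f] [QuasiCompact g] (L : X.Modules) (K : Y.Modules)
    (hL : RelAmple.IsRelAmple f L) (hK : RelAmple.IsRelAmple g K) :
    ∃ n₀ : ℕ, 0 < n₀ ∧ ∀ n, n₀ ≤ n →
      RelAmple.IsRelAmple (f ≫ g) (CohB1.tensorMod L ((Scheme.Modules.pullback f).obj (CohB1.tensorPow K n))) := by
  classical
  -- finite affine cover of Z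
  have hWex : ∀ z : Z, ∃ W : Z.Opens, IsAffineOpen W ∧ z ∈ W := fun z => by
    obtain ⟨W, hW, hzW, -⟩ :=
      exists_isAffineOpen_mem_and_subset (X := Z) (x := z) (U := ⊤) trivial
    exact ⟨W, hW, hzW⟩
  choose W hW hzW using hWex
  obtain ⟨F, hF⟩ := isCompact_univ.elim_finite_subcover
    (fun z : Z => (W z : Set Z)) (fun z => (W z).2)
    (fun z _ => Set.mem_iUnion.mpr ⟨z, hzW z⟩)
  -- the bound over each member of the cover
  have hB : ∀ z : Z, ∃ n₀ : ℕ, ∀ j, n₀ ≤ j → CohB1.IsAmple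
      (CohB1.tensorMod (L.restrict (f ⁻¹ᵁ (g ⁻¹ᵁ W z)).ι)
        ((Scheme.Modules.pullback (f ∣_ (g ⁻¹ᵁ W z))).obj
          (CohB1.tensorPow (K.restrict (g ⁻¹ᵁ W z).ι) j))) := fun z =>
    LD.QC.exists_isAmple_twist_pullback (f ∣_ (g ⁻¹ᵁ W z)) (K.restrict (g ⁻¹ᵁ W z).ι)
      (hK.2 ⟨W z, hW z⟩) (L.restrict (f ⁻¹ᵁ (g ⁻¹ᵁ W z)).ι)
      (LD.QC.isRelAmple_morphismRestrict f L hL (g ⁻¹ᵁ W z))
  choose n₀ hn₀ using hB
  refine ⟨F.sup n₀ + 1, Nat.succ_pos _, fun j hj => ?_⟩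
  let N := CohB1.tensorMod L ((Scheme.Modules.pullback f).obj (CohB1.tensorPow K j))
  change RelAmple.IsRelAmple (f ≫ g) N
  have hcov : ⨆ i : {z : Z // z ∈ F}, W i.1 = ⊤ := by
    rw [eq_top_iff]
    intro z _
    obtain ⟨z', hz'F, hz'⟩ := Set.mem_iUnion₂.mp (hF (Set.mem_univ z))
    exact TopologicalSpace.Opens.mem_iSup.mpr ⟨⟨z', hz'F⟩, hz'⟩
  rw [Groth.Agent.S4380.result (f ≫ g) N (fun i : {z : Z // z ∈ F} => W i.1) hcov]
  rintro ⟨z, hzF⟩
  change RelAmple.IsRelAmple ((f ≫ g) ∣_ W z) (N.restrict ((f ≫ g) ⁻¹ᵁ W z).ι)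
  haveI : IsAffine (W z : Z.Opens).toScheme := hW z
  rw [Groth.Agent.S4381.result]
  have hjz : n₀ z ≤ j := (Finset.le_sup (f := n₀) hzF).trans ((Nat.le_succ _).trans hj)
  have hamp := hn₀ z j hjz
  let U := g ⁻¹ᵁ W z
  let ιX := (f ⁻¹ᵁ U).ι
  let e : N.restrict ιX ≅ CohB1.tensorMod (L.restrict ιX)
      ((Scheme.Modules.pullback (f ∣_ U)).obj (CohB1.tensorPow (K.restrict U.ι) j)) :=
    (asIso (LD.QC.restrictTensorHom ιX L
      ((Scheme.Modules.pullback f).obj (CohB1.tensorPow K j)))).symm ≪≫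
    LD.QC.tensorIso' (Iso.refl _)
      (LD.QC.pullbackMorphismRestrictIso f U (CohB1.tensorPow K j) ≪≫
        (Scheme.Modules.pullback (f ∣_ U)).mapIso (LD.QC.restrictTensorPowIso U.ι K j).symm)
  exact LD.QC.isAmple_of_iso e.symm hamp

end Groth.Agent.S2331
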