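import Groth.Statements.S9561
import Mathlib
import Groth.Agent.Lib.Helper1.EtNhd
import Groth.Agent.Lib.Helper1.Adic

set_option autoImplicit false
universe u
open EtLocal

namespace Groth.Agent.S9561

namespace H1.S9561aux
open IsLocalRing

section
variable (A B : Type u) [CommRing A] [CommRing B]
    [IsLocalRing A] [IsLocalRing B] [IsNoetherianRing A] [IsNoetherianRing B] [Algebra A B]
    [IsLocalHom (algebraMap A B)]
    (ψ : AdicCompletion (maximalIdeal A) A →+* AdicCompletion (maximalIdeal B) B)
    (hψ : ψ.comp (algebraMap A (AdicCompletion (maximalIdeal A) A)) =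
      (algebraMap B (AdicCompletion (maximalIdeal B) B)).comp (algebraMap A B))

include hψ

theorem map_psi_maximalIdeal :
    (maximalIdeal (AdicCompletion (maximalIdeal A) A)).map ψ =
      (((maximalIdeal A).map (algebraMap A B)).map
        (algebraMap B (AdicCompletion (maximalIdeal B) B))) := by
  rw [AdicCompletion.maximalIdeal_eq_map, Ideal.map_map, hψ, ← Ideal.map_map]

theorem isLocalHom_psi : IsLocalHom ψ := by
  refine ((local_hom_TFAE ψ).out 0 2 rfl rfl).mpr ?_
  rw [map_psi_maximalIdeal A B ψ hψ, AdicCompletion.maximalIdeal_eq_map (R := B)]
  exact Ideal.map_mono (((local_hom_TFAE (algebraMap A B)).out 0 2 rfl rfl).mp inferInstance)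

/-- compatibility of residue field maps -/
theorem residue_square :
    letI := ψ.toAlgebra
    haveI : IsLocalHom (algebraMap (AdicCompletion (maximalIdeal A) A)
      (AdicCompletion (maximalIdeal B) B)) := isLocalHom_psi A B ψ hψ
    (algebraMap (ResidueField (AdicCompletion (maximalIdeal A) A))
      (ResidueField (AdicCompletion (maximalIdeal B) B))).comp
        (ResidueField.map (algebraMap A (AdicCompletion (maximalIdeal A) A))) =
      (ResidueField.map (algebraMap B (AdicCompletion (maximalIdeal B) B))).comp
        (algebraMap (ResidueField A) (ResidueField B)) := by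
  letI := ψ.toAlgebra
  haveI : IsLocalHom (algebraMap (AdicCompletion (maximalIdeal A) A)
      (AdicCompletion (maximalIdeal B) B)) := isLocalHom_psi A B ψ hψ
  ext x
  obtain ⟨x, rfl⟩ := residue_surjective x
  simp only [RingHom.comp_apply, ResidueField.map_residue]
  rw [← ResidueField.algebraMap_eq A, ← IsScalarTower.algebraMap_apply A (ResidueField A) (ResidueField B),
    IsScalarTower.algebraMap_apply A B (ResidueField B), ResidueField.algebraMap_eq,
    ResidueField.map_residue]
  rw [← ResidueField.algebraMap_eq (AdicCompletion (maximalIdeal A) A),
    ← IsScalarTower.algebraMap_apply, IsScalarTower.algebraMap_apply _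
      (AdicCompletion (maximalIdeal B) B) (ResidueField (AdicCompletion (maximalIdeal B) B)),
    ResidueField.algebraMap_eq]
  congr 1
  exact congr($hψ x)

theorem main61 [Algebra.EssFiniteType A B] :
    ((maximalIdeal A).map (algebraMap A B) = maximalIdeal B ∧
        Module.Finite (ResidueField A) (ResidueField B) ∧
        Algebra.IsSeparable (ResidueField A) (ResidueField B)) ↔
      (ψ.FiniteType ∧ ψ.FormallyUnramified) := by
  letI := ψ.toAlgebra
  haveI hloc : IsLocalHom (algebraMap (AdicCompletion (maximalIdeal A) A)
      (AdicCompletion (maximalIdeal B) B)) := isLocalHom_psi A B ψ hψ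
  let eA : ResidueField A ≃+* ResidueField (AdicCompletion (maximalIdeal A) A) :=
    RingEquiv.ofBijective _ (AdicCompletion.residueField_map_bijective A)
  let eB : ResidueField B ≃+* ResidueField (AdicCompletion (maximalIdeal B) B) :=
    RingEquiv.ofBijective _ (AdicCompletion.residueField_map_bijective B)
  have hsq : (algebraMap (ResidueField (AdicCompletion (maximalIdeal A) A))
      (ResidueField (AdicCompletion (maximalIdeal B) B))).comp (eA : ResidueField A →+* _) =
      (eB : ResidueField B →+* _).comp (algebraMap (ResidueField A) (ResidueField B)) :=
    residue_square A B ψ hψ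
  have hsep := Algebra.IsSeparable.iff_of_equiv_equiv eA eB hsq
  have hmap : (maximalIdeal (AdicCompletion (maximalIdeal A) A)).map
      (algebraMap (AdicCompletion (maximalIdeal A) A) (AdicCompletion (maximalIdeal B) B)) =
        maximalIdeal (AdicCompletion (maximalIdeal B) B) ↔
      (maximalIdeal A).map (algebraMap A B) = maximalIdeal B := by
    rw [show algebraMap (AdicCompletion (maximalIdeal A) A) (AdicCompletion (maximalIdeal B) B) = ψ
      from rfl, map_psi_maximalIdeal A B ψ hψ, AdicCompletion.maximalIdeal_eq_map (R := B)]
    haveI : Module.FaithfullyFlat B (AdicCompletion (maximalIdeal B) B) :=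
      Module.FaithfullyFlat.of_flat_of_isLocalHom
    constructor
    · intro h
      have := congrArg (Ideal.comap (algebraMap B (AdicCompletion (maximalIdeal B) B))) h
      rwa [Ideal.comap_map_eq_self_of_faithfullyFlat,
        Ideal.comap_map_eq_self_of_faithfullyFlat] at this
    · intro h; rw [h]
  constructor
  · rintro ⟨h1, h2, h3⟩
    have hm := hmap.mpr h1
    haveI : IsHausdorff (maximalIdeal (AdicCompletion (maximalIdeal A) A))
        (AdicCompletion (maximalIdeal B) B) := by
      rw [← IsHausdorff.map_algebraMap_iff (S := AdicCompletion (maximalIdeal B) B), hm]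
      infer_instance
    haveI : Module.Finite (ResidueField (AdicCompletion (maximalIdeal A) A))
        (ResidueField (AdicCompletion (maximalIdeal B) B)) :=
      Module.Finite.of_equiv_equiv eA eB hsq
    haveI : Module.Finite (AdicCompletion (maximalIdeal A) A)
        (ResidueField (AdicCompletion (maximalIdeal B) B)) :=
      Module.Finite.trans (ResidueField (AdicCompletion (maximalIdeal A) A)) _
    have hq : Module.Finite (AdicCompletion (maximalIdeal A) A)
        (AdicCompletion (maximalIdeal B) B ⧸
          (maximalIdeal (AdicCompletion (maximalIdeal A) A) •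
            (⊤ : Submodule (AdicCompletion (maximalIdeal A) A)
              (AdicCompletion (maximalIdeal B) B)))) := by
      rw [Ideal.smul_top_eq_map, hm]
      haveI : Module.Finite (AdicCompletion (maximalIdeal A) A)
          (AdicCompletion (maximalIdeal B) B ⧸ maximalIdeal (AdicCompletion (maximalIdeal B) B)) :=
        inferInstanceAs (Module.Finite (AdicCompletion (maximalIdeal A) A)
          (ResidueField (AdicCompletion (maximalIdeal B) B)))
      exact Module.Finite.equiv (Submodule.Quotient.restrictScalarsEquiv
        (AdicCompletion (maximalIdeal A) A)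
        (maximalIdeal (AdicCompletion (maximalIdeal B) B))).symm
    have hfin : Module.Finite (AdicCompletion (maximalIdeal A) A)
        (AdicCompletion (maximalIdeal B) B) :=
      Groth.Agent.H1.module_finite_of_isHausdorff_of_quotient_finite
        (maximalIdeal (AdicCompletion (maximalIdeal A) A)) _ hq
    refine ⟨?_, ?_⟩
    · have : ψ.Finite := hfin
      exact this.finiteType
    · change Algebra.FormallyUnramified _ _
      rw [Algebra.FormallyUnramified.iff_map_maximalIdeal_eq]
      exact ⟨hsep.mp h3, hm⟩
  · rintro ⟨hft, hunr⟩
    haveI : Algebra.FiniteType (AdicCompletion (maximalIdeal A) A)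
      (AdicCompletion (maximalIdeal B) B) := hft
    haveI : Algebra.FormallyUnramified (AdicCompletion (maximalIdeal A) A)
      (AdicCompletion (maximalIdeal B) B) := hunr
    obtain ⟨s1, s2⟩ := (Algebra.FormallyUnramified.iff_map_maximalIdeal_eq
      (R := AdicCompletion (maximalIdeal A) A) (S := AdicCompletion (maximalIdeal B) B)).mp hunr
    have hA : Algebra.FormallyUnramified A B :=
      Algebra.FormallyUnramified.iff_map_maximalIdeal_eq.mpr ⟨hsep.mpr s1, hmap.mp s2⟩
    exact (Groth.Agent.H1.EtNhd.formallyUnramified_iff A B).mp hA

end

end H1.S9561aux

/-- Let A → B be a local homomorphism of Noetherian local rings with B essentially of finite type over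
A, and let ψ be the induced map between the completions of A and B at their maximal ideals (a ring
map of the completions whose composite with A → A^ is A → B → B^; such a map is unique). Then A → B
is an unramified homomorphism of local rings, i.e. m_A B = m_B and the residue field of B is a
finite separable extension of that of A, if and only if ψ is an unramified ring map (of finite type
and formally unramified). (The published statement lists a third equivalent condition, that ψ is
itself an unramified homomorphism of local rings; this row keeps the two outer ones.) -/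
theorem result (A B : Type u) [CommRing A] [CommRing B]
    [IsLocalRing A] [IsLocalRing B] [IsNoetherianRing A] [IsNoetherianRing B] [Algebra A B]
    [IsLocalHom (algebraMap A B)] [Algebra.EssFiniteType A B]
    (ψ : AdicCompletion (IsLocalRing.maximalIdeal A) A →+* AdicCompletion (IsLocalRing.maximalIdeal B) B)
    (hψ : ψ.comp (algebraMap A (AdicCompletion (IsLocalRing.maximalIdeal A) A)) =
      (algebraMap B (AdicCompletion (IsLocalRing.maximalIdeal B) B)).comp (algebraMap A B)) :
    ((IsLocalRing.maximalIdeal A).map (algebraMap A B) = IsLocalRing.maximalIdeal B ∧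
        Module.Finite (IsLocalRing.ResidueField A) (IsLocalRing.ResidueField B) ∧
        Algebra.IsSeparable (IsLocalRing.ResidueField A) (IsLocalRing.ResidueField B)) ↔
      (ψ.FiniteType ∧ ψ.FormallyUnramified) := by
  exact H1.S9561aux.main61 A B ψ hψ

end Groth.Agent.S9561
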