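import Groth.Statements.S9562
import Mathlib
import Groth.Agent.S9561
import Groth.Agent.S0543
import Groth.Agent.Lib.Helper1.ComplFlat
import Groth.Agent.Lib.Helper1.ComplFlat2
import Groth.Agent.Lib.Helper1.FlatSource
import Groth.Agent.Lib.Helper1.Adic

set_option autoImplicit false
universe u
open EtLocal

namespace Groth.Agent.S9562

namespace H1.S9562aux
open IsLocalRing Groth.Agent.S9561.H1.S9561aux Groth.Agent.H1

section
variable (A B : Type u) [CommRing A] [CommRing B]
    [IsLocalRing A] [IsLocalRing B] [IsNoetherianRing A] [IsNoetherianRing B] [Algebra A B]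
    [IsLocalHom (algebraMap A B)]
    (ψ : AdicCompletion (maximalIdeal A) A →+* AdicCompletion (maximalIdeal B) B)
    (hψ : ψ.comp (algebraMap A (AdicCompletion (maximalIdeal A) A)) =
      (algebraMap B (AdicCompletion (maximalIdeal B) B)).comp (algebraMap A B))

include hψ

theorem flat_completion [Module.Flat A B]
    (h1 : (maximalIdeal A).map (algebraMap A B) = maximalIdeal B) :
    letI := ψ.toAlgebra
    Module.Flat (AdicCompletion (maximalIdeal A) A) (AdicCompletion (maximalIdeal B) B) := by
  letI := ψ.toAlgebra
  haveI : IsNoetherianRing (AdicCompletion (maximalIdeal A) A) := Groth.Agent.S0543.result A _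
  haveI : IsScalarTower A B (AdicCompletion (maximalIdeal B) B) :=
    IsScalarTower.of_algebraMap_eq (fun a => by rw [AdicCompletion.algebraMap_apply]; rfl)
  haveI : IsScalarTower A (AdicCompletion (maximalIdeal A) A) (AdicCompletion (maximalIdeal B) B) :=
    IsScalarTower.of_algebraMap_eq (fun a => by
      rw [IsScalarTower.algebraMap_apply A B (AdicCompletion (maximalIdeal B) B)]
      exact (congr($hψ a)).symm)
  haveI : Module.Flat A (AdicCompletion (maximalIdeal B) B) :=
    Module.Flat.trans A B (AdicCompletion (maximalIdeal B) B)
  set I' : Ideal (AdicCompletion (maximalIdeal A) A) :=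
    (maximalIdeal A).map (algebraMap A (AdicCompletion (maximalIdeal A) A)) with hI'
  have hI'map : I'.map (algebraMap (AdicCompletion (maximalIdeal A) A)
      (AdicCompletion (maximalIdeal B) B)) = maximalIdeal (AdicCompletion (maximalIdeal B) B) := by
    rw [hI', Ideal.map_map]
    change Ideal.map (ψ.comp _) _ = _
    rw [hψ, ← Ideal.map_map, h1, AdicCompletion.maximalIdeal_eq_map]
  haveI : IsHausdorff I' (AdicCompletion (maximalIdeal B) B) := by
    rw [← IsHausdorff.map_algebraMap_iff (S := AdicCompletion (maximalIdeal B) B), hI'map]
    infer_instance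
  haveI : IsPrecomplete I' (AdicCompletion (maximalIdeal B) B) := by
    rw [← IsPrecomplete.map_algebraMap_iff (S := AdicCompletion (maximalIdeal B) B), hI'map]
    infer_instance
  refine ComplFlat.flat_of_flat_quotients I' fun m => ?_
  haveI := ComplFlat.flat_quotient_of_flat (R := A) (AdicCompletion (maximalIdeal B) B)
    (maximalIdeal A ^ m)
  have hfg : (maximalIdeal A).FG := (isNoetherianRing_iff_ideal_fg A).mp inferInstance _
  have heq : ((I' ^ m • (⊤ : Submodule (AdicCompletion (maximalIdeal A) A)
      (AdicCompletion (maximalIdeal B) B))).restrictScalars A) =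
      (maximalIdeal A ^ m) • (⊤ : Submodule A (AdicCompletion (maximalIdeal B) B)) := by
    rw [hI', ← Ideal.map_pow, Ideal.smul_restrictScalars, Submodule.restrictScalars_top]
  let e : (AdicCompletion (maximalIdeal B) B ⧸ (I' ^ m • (⊤ : Submodule
      (AdicCompletion (maximalIdeal A) A) (AdicCompletion (maximalIdeal B) B)))) ≃ₗ[A]
      (AdicCompletion (maximalIdeal B) B ⧸ ((maximalIdeal A ^ m) • (⊤ : Submodule A
        (AdicCompletion (maximalIdeal B) B)))) :=
    (Submodule.Quotient.restrictScalarsEquiv A _).symm ≪≫ₗ Submodule.quotEquivOfEq _ _ heq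
  refine ComplFlat.flat_of_ringEquiv_semilinear (ComplFlat.ringQuotEquiv (maximalIdeal A) hfg m)
    e.toAddEquiv ?_
  intro b p
  obtain ⟨a, rfl⟩ := Ideal.Quotient.mk_surjective b
  obtain ⟨x, rfl⟩ := Submodule.Quotient.mk_surjective _ p
  rw [ComplFlat.ringQuotEquiv_mk]
  obtain ⟨r, hr⟩ := Ideal.Quotient.mk_surjective (AdicCompletion.evalₐ (maximalIdeal A) m a)
  rw [← hr]
  change (Submodule.Quotient.mk (a • x) : _ ⧸ ((maximalIdeal A ^ m) • (⊤ : Submodule A
        (AdicCompletion (maximalIdeal B) B)))) = Submodule.Quotient.mk (r • x)
  rw [Submodule.Quotient.eq, ← heq]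
  change a • x - r • x ∈ (I' ^ m • (⊤ : Submodule (AdicCompletion (maximalIdeal A) A)
      (AdicCompletion (maximalIdeal B) B)))
  rw [← algebraMap_smul (AdicCompletion (maximalIdeal A) A) r x, ← sub_smul]
  refine Submodule.smul_mem_smul ?_ Submodule.mem_top
  rw [← ComplFlat.evalₐ_eq_zero_iff (maximalIdeal A) hfg, map_sub, sub_eq_zero, ← hr]
  simp

theorem towers :
    letI := ψ.toAlgebra
    IsScalarTower A B (AdicCompletion (maximalIdeal B) B) ∧
    IsScalarTower A (AdicCompletion (maximalIdeal A) A) (AdicCompletion (maximalIdeal B) B) := by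
  letI := ψ.toAlgebra
  have h1 : IsScalarTower A B (AdicCompletion (maximalIdeal B) B) :=
    IsScalarTower.of_algebraMap_eq (fun a => by rw [AdicCompletion.algebraMap_apply]; rfl)
  refine ⟨h1, ?_⟩
  exact IsScalarTower.of_algebraMap_eq (fun a => by
      rw [IsScalarTower.algebraMap_apply A B (AdicCompletion (maximalIdeal B) B)]
      exact (congr($hψ a)).symm)

theorem finite_completion
    (h1 : (maximalIdeal A).map (algebraMap A B) = maximalIdeal B)
    [Module.Finite (ResidueField A) (ResidueField B)] :
    letI := ψ.toAlgebra
    Module.Finite (AdicCompletion (maximalIdeal A) A) (AdicCompletion (maximalIdeal B) B) := by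
  letI := ψ.toAlgebra
  haveI hloc : IsLocalHom (algebraMap (AdicCompletion (maximalIdeal A) A)
      (AdicCompletion (maximalIdeal B) B)) := isLocalHom_psi A B ψ hψ
  let eA : ResidueField A ≃+* ResidueField (AdicCompletion (maximalIdeal A) A) :=
    RingEquiv.ofBijective _ (AdicCompletion.residueField_map_bijective A)
  let eB : ResidueField B ≃+* ResidueField (AdicCompletion (maximalIdeal B) B) :=
    RingEquiv.ofBijective _ (AdicCompletion.residueField_map_bijective B)
  have hsq : (algebraMap (ResidueField (AdicCompletion (maximalIdeal A) A))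
      (ResidueField (AdicCompletion (maximalIdeal B) B))).comp (eA : ResidueField A →+* _) =
      (eB : ResidueField B →+* _).comp (algebraMap (ResidueField A) (ResidueField B)) :=
    residue_square A B ψ hψ
  have hm : (maximalIdeal (AdicCompletion (maximalIdeal A) A)).map
      (algebraMap (AdicCompletion (maximalIdeal A) A) (AdicCompletion (maximalIdeal B) B)) =
        maximalIdeal (AdicCompletion (maximalIdeal B) B) := by
    rw [show algebraMap (AdicCompletion (maximalIdeal A) A) (AdicCompletion (maximalIdeal B) B) = ψ
      from rfl, map_psi_maximalIdeal A B ψ hψ, AdicCompletion.maximalIdeal_eq_map (R := B), h1]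
  haveI : IsHausdorff (maximalIdeal (AdicCompletion (maximalIdeal A) A))
      (AdicCompletion (maximalIdeal B) B) := by
    rw [← IsHausdorff.map_algebraMap_iff (S := AdicCompletion (maximalIdeal B) B), hm]
    infer_instance
  haveI : Module.Finite (ResidueField (AdicCompletion (maximalIdeal A) A))
      (ResidueField (AdicCompletion (maximalIdeal B) B)) :=
    Module.Finite.of_equiv_equiv eA eB hsq
  haveI : Module.Finite (AdicCompletion (maximalIdeal A) A)
      (ResidueField (AdicCompletion (maximalIdeal B) B)) :=
    Module.Finite.trans (ResidueField (AdicCompletion (maximalIdeal A) A)) _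
  have hq : Module.Finite (AdicCompletion (maximalIdeal A) A)
      (AdicCompletion (maximalIdeal B) B ⧸
        (maximalIdeal (AdicCompletion (maximalIdeal A) A) •
          (⊤ : Submodule (AdicCompletion (maximalIdeal A) A)
            (AdicCompletion (maximalIdeal B) B)))) := by
    rw [Ideal.smul_top_eq_map, hm]
    haveI : Module.Finite (AdicCompletion (maximalIdeal A) A)
        (AdicCompletion (maximalIdeal B) B ⧸ maximalIdeal (AdicCompletion (maximalIdeal B) B)) :=
      inferInstanceAs (Module.Finite (AdicCompletion (maximalIdeal A) A)
        (ResidueField (AdicCompletion (maximalIdeal B) B)))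
    exact Module.Finite.equiv (Submodule.Quotient.restrictScalarsEquiv
      (AdicCompletion (maximalIdeal A) A)
      (maximalIdeal (AdicCompletion (maximalIdeal B) B))).symm
  exact Groth.Agent.H1.module_finite_of_isHausdorff_of_quotient_finite
      (maximalIdeal (AdicCompletion (maximalIdeal A) A)) _ hq

theorem main62 [Algebra.EssFiniteType A B] :
    ((Module.Flat A B ∧ (maximalIdeal A).map (algebraMap A B) = maximalIdeal B ∧
        Module.Finite (ResidueField A) (ResidueField B) ∧
        Algebra.IsSeparable (ResidueField A) (ResidueField B)) ↔ ψ.Etale) ∧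
      (ψ.Etale →
        letI := ψ.toAlgebra
        ∃ n : ℕ, 0 < n ∧
          Nonempty ((Fin n → AdicCompletion (maximalIdeal A) A) ≃ₗ[AdicCompletion (maximalIdeal A) A]
            AdicCompletion (maximalIdeal B) B)) := by
  letI := ψ.toAlgebra
  haveI : IsNoetherianRing (AdicCompletion (maximalIdeal A) A) := Groth.Agent.S0543.result A _
  obtain ⟨t1, t2⟩ := towers A B ψ hψ
  have h61 := main61 A B ψ hψ
  have key : ψ.Etale → (Module.Flat A B ∧ (maximalIdeal A).map (algebraMap A B) = maximalIdeal B ∧
        Module.Finite (ResidueField A) (ResidueField B) ∧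
        Algebra.IsSeparable (ResidueField A) (ResidueField B)) ∧
        Module.Finite (AdicCompletion (maximalIdeal A) A) (AdicCompletion (maximalIdeal B) B) ∧
        Module.Flat (AdicCompletion (maximalIdeal A) A) (AdicCompletion (maximalIdeal B) B) := by
    intro het
    haveI het' : Algebra.Etale (AdicCompletion (maximalIdeal A) A)
      (AdicCompletion (maximalIdeal B) B) := het
    have hft : ψ.FiniteType := by
      change Algebra.FiniteType _ _
      infer_instance
    have hfu : ψ.FormallyUnramified := by
      change Algebra.FormallyUnramified _ _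
      infer_instance
    obtain ⟨h1, h2, h3⟩ := h61.mpr ⟨hft, hfu⟩
    haveI hflat : Module.Flat (AdicCompletion (maximalIdeal A) A)
      (AdicCompletion (maximalIdeal B) B) := inferInstance
    haveI : Module.Flat A (AdicCompletion (maximalIdeal B) B) :=
      Module.Flat.trans A (AdicCompletion (maximalIdeal A) A) (AdicCompletion (maximalIdeal B) B)
    haveI : Module.FaithfullyFlat B (AdicCompletion (maximalIdeal B) B) :=
      Module.FaithfullyFlat.of_flat_of_isLocalHom
    have hAB : Module.Flat A B :=
      flat_of_flat_of_faithfullyFlat A B (AdicCompletion (maximalIdeal B) B)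
    refine ⟨⟨hAB, h1, h2, h3⟩, ?_, hflat⟩
    exact finite_completion A B ψ hψ h1
  refine ⟨⟨?_, fun h => (key h).1⟩, ?_⟩
  · rintro ⟨h0, h1, h2, h3⟩
    haveI hfin : Module.Finite (AdicCompletion (maximalIdeal A) A)
      (AdicCompletion (maximalIdeal B) B) := finite_completion A B ψ hψ h1
    haveI hflat : Module.Flat (AdicCompletion (maximalIdeal A) A)
      (AdicCompletion (maximalIdeal B) B) := flat_completion A B ψ hψ h1
    haveI : Algebra.FormallyUnramified (AdicCompletion (maximalIdeal A) A)
      (AdicCompletion (maximalIdeal B) B) := (h61.mp ⟨h1, h2, h3⟩).2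
    haveI : Algebra.FinitePresentation (AdicCompletion (maximalIdeal A) A)
      (AdicCompletion (maximalIdeal B) B) := Algebra.FinitePresentation.of_finiteType.mp inferInstance
    exact Algebra.Etale.of_formallyUnramified_of_flat
  · intro het
    obtain ⟨-, hfin, hflat⟩ := key het
    haveI := hfin
    haveI := hflat
    haveI : Module.Free (AdicCompletion (maximalIdeal A) A) (AdicCompletion (maximalIdeal B) B) :=
      Module.free_of_flat_of_isLocalRing
    let b := Module.finBasis (AdicCompletion (maximalIdeal A) A) (AdicCompletion (maximalIdeal B) B)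
    refine ⟨_, ?_, ⟨b.equivFun.symm⟩⟩
    exact (Module.finrank_pos_iff_of_free _ _).mpr inferInstance

end

end H1.S9562aux

/-- Let A → B be a local homomorphism of Noetherian local rings with B essentially of finite type over
A, and let ψ be the induced map between the completions of A and B at their maximal ideals (a ring
map of the completions whose composite with A → A^ is A → B → B^; such a map is unique). Then A → B
is an étale homomorphism of local rings, i.e. B is flat over A, m_A B = m_B and the residue field of
B is a finite separable extension of that of A, if and only if ψ is an étale ring map; moreover in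
that case the completion of B is, through ψ, a free module of finite positive rank over the
completion of A. (The published statement lists a third equivalent condition, that ψ is itself an
étale homomorphism of local rings; this row keeps the two outer ones.) -/
theorem result (A B : Type u) [CommRing A] [CommRing B]
    [IsLocalRing A] [IsLocalRing B] [IsNoetherianRing A] [IsNoetherianRing B] [Algebra A B]
    [IsLocalHom (algebraMap A B)] [Algebra.EssFiniteType A B]
    (ψ : AdicCompletion (IsLocalRing.maximalIdeal A) A →+* AdicCompletion (IsLocalRing.maximalIdeal B) B)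
    (hψ : ψ.comp (algebraMap A (AdicCompletion (IsLocalRing.maximalIdeal A) A)) =
      (algebraMap B (AdicCompletion (IsLocalRing.maximalIdeal B) B)).comp (algebraMap A B)) :
    ((Module.Flat A B ∧ (IsLocalRing.maximalIdeal A).map (algebraMap A B) = IsLocalRing.maximalIdeal B ∧
        Module.Finite (IsLocalRing.ResidueField A) (IsLocalRing.ResidueField B) ∧
        Algebra.IsSeparable (IsLocalRing.ResidueField A) (IsLocalRing.ResidueField B)) ↔ ψ.Etale) ∧
      (ψ.Etale →
        letI := ψ.toAlgebra
        ∃ n : ℕ, 0 < n ∧
          Nonempty ((Fin n → AdicCompletion (IsLocalRing.maximalIdeal A) A) ≃ₗ[AdicCompletion (IsLocalRing.maximalIdeal A) A]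
            AdicCompletion (IsLocalRing.maximalIdeal B) B)) := by
  exact H1.S9562aux.main62 A B ψ hψ

end Groth.Agent.S9562
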