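import Groth.Statements.S9873
import Groth.Agent.Lib.Helper5.Descent.SepLQFDescent
import Groth.Agent.Lib.Helper5.AlgSp.CatLemmas
import Groth.Agent.Lib.Helper5.AlgSp.Cover
import Groth.Agent.Lib.Helper5.AlgSp.ProdSp

set_option autoImplicit false
universe u
open CategoryTheory CategoryTheory.Limits AlgebraicGeometry
open AlgSp

namespace Groth.Agent.S9873

/-- Let `X` be an algebraic space over `S`, `F` an fppf sheaf of sets over `S`, and `f : X ⟶ F` a map of
sheaves which is representable by schemes, etale and surjective (in the representable sense). Then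
`F` is an algebraic space over `S`; in particular an fppf sheaf receiving a representable etale
surjective map from a scheme is an algebraic space. -/
theorem result (S : Scheme.{u}) (X : AlgSp.Space S) (F : AlgSp.Sp S)
    (f : X.obj ⟶ F) (he : AlgSp.RepWith @Etale f) (hs : AlgSp.RepWith @Surjective f) :
    AlgSp.IsAlgSpace F := by
  open Groth.Agent.H5 Groth.Agent.H5.AlgSp Groth.Agent.H5.Descent in
  obtain ⟨U, p, hp1, hp2⟩ := X.property.atlas
  have ha1 : RepWith @Etale (p ≫ f) := (RepWith @Etale).comp_mem _ _ hp1 he
  have ha2 : RepWith @Surjective (p ≫ f) := (RepWith @Surjective).comp_mem _ _ hp2 hs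
  refine ⟨?_, U, p ≫ f, ha1, ha2⟩
  set a := p ≫ f with ha
  have hflat : RepWith @Flat a := repWith_mono etale_le_flat ha1
  have hlfp : RepWith @LocallyOfFinitePresentation a := repWith_mono etale_le_lfp ha1
  -- the fibre product `h_U ×_F h_U = h_R`
  have sq := ha1.rep.isPullback a
  set R := ha1.rep.pullback a
  obtain ⟨p0, hp0⟩ := (yon S).map_surjective (ha1.rep.fst a)
  set q0 := ha1.rep.snd a
  rw [← hp0] at sq
  have hq0 : Etale p0.left := by
    have := ha1.property _ _ _ sq.flip
    exact this
  have sqd := Cat.isPullback_diag_of_isPullback sq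
  have hlift : prod.lift ((yon S).map p0) ((yon S).map q0) =
      (yon S).map (prod.lift p0 q0) ≫ prodComparison (yon S) U U := by
    simp only [prodComparison, prod.comp_lift, ← Functor.map_comp, prod.lift_fst, prod.lift_snd]
  have hmono : Mono (prod.lift p0 q0) := by
    have h1 : Mono (prod.lift ((yon S).map p0) ((yon S).map q0)) := by
      refine ⟨fun {Z} φ ψ h => ?_⟩
      apply sq.hom_ext
      · have := congrArg (· ≫ prod.fst) h
        simpa only [Category.assoc, prod.lift_fst] using this
      · have := congrArg (· ≫ prod.snd) h
        simpa only [Category.assoc, prod.lift_snd] using this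
    rw [hlift] at h1
    have h2 : Mono ((yon S).map (prod.lift p0 q0)) := mono_of_mono _ (prodComparison (yon S) U U)
    exact (yon S).mono_of_mono_map h2
  have hmonoL : Mono (prod.lift p0 q0).left := inferInstance
  have hfst : (prod.lift p0 q0).left ≫ (prod.fst : U ⨯ U ⟶ U).left = p0.left := by
    rw [← Over.comp_left, prod.lift_fst]
  have hLFT : LocallyOfFiniteType (prod.lift p0 q0).left := by
    have : LocallyOfFiniteType ((prod.lift p0 q0).left ≫ (prod.fst : U ⨯ U ⟶ U).left) := by
      rw [hfst]; infer_instance
    exact locallyOfFiniteType_of_comp _ (prod.fst : U ⨯ U ⟶ U).left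
  have hSep : IsSeparated (prod.lift p0 q0).left := inferInstance
  have hLQF : LocallyQuasiFinite (prod.lift p0 q0).left := inferInstance
  have key : ∀ (P : MorphismProperty Scheme.{u}) [P.IsStableUnderBaseChange],
      P (prod.lift p0 q0).left → RepWith P (prod.lift ((yon S).map p0) ((yon S).map q0)) := by
    intro P _ h
    have : P.RespectsIso := MorphismProperty.IsStableUnderBaseChange.respectsIso
    rw [hlift]
    exact MorphismProperty.RespectsIso.postcomp _ _ _ ((repWith_yon_map_iff P _).2 h)
  have : MorphismProperty.IsMultiplicative @LocallyOfFinitePresentation :=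
    { id_mem := fun X => (inferInstance : LocallyOfFinitePresentation (𝟙 X)) }
  exact representable_of_baseChange_sepLQF (repWith_prod_map hflat hflat)
    (repWith_prod_map hlfp hlfp)
    (repWith_prod_map ha2 ha2) sqd (key @IsSeparated hSep) (key @LocallyQuasiFinite hLQF)
    (key @LocallyOfFiniteType hLFT)

end Groth.Agent.S9873
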