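import Groth.Statements.S19474
import Groth.Agent.Lib.Helper1.RegCompl
import Groth.Agent.Lib.Helper1.RegFlat
import Groth.Agent.Lib.Helper1.FlatDim
import Groth.Agent.Lib.Helper1.RegLoc

set_option autoImplicit false
universe u
open CAlg

namespace Groth.Agent.S19474

namespace Groth.Agent.S19474

open IsLocalRing

variable (A : Type u) [CommRing A] [IsLocalRing A] [IsNoetherianRing A] (I : Ideal A)

theorem nontrivial_adicCompletion (hI : I ≠ ⊤) : Nontrivial (AdicCompletion I A) := by
  -- the quotient map to `A ⧸ I` is a ring hom to a nontrivial ring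
  haveI : Nontrivial (A ⧸ I) := Ideal.Quotient.nontrivial_iff.mpr hI
  let f : AdicCompletion I A →+* A ⧸ I ^ 1 := (AdicCompletion.evalₐ I 1).toRingHom
  haveI : Nontrivial (A ⧸ I ^ 1) := by
    apply Ideal.Quotient.nontrivial_iff.mpr
    rw [pow_one]
    exact hI
  exact f.domain_nontrivial

theorem unique_maximal (n : Ideal (AdicCompletion I A)) [hn : n.IsMaximal] :
    n = (maximalIdeal A).map (algebraMap A (AdicCompletion I A)) := by
  obtain ⟨m, hm, -, hnm⟩ := Groth.Agent.H1.Reg.exists_maximal_map_eq_of_adicCompletion A I n
  rw [hnm, IsLocalRing.eq_maximalIdeal hm]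

theorem isLocalRing_adicCompletion (hI : I ≠ ⊤) : IsLocalRing (AdicCompletion I A) := by
  haveI := nontrivial_adicCompletion A I hI
  obtain ⟨n, hn⟩ := Ideal.exists_maximal (AdicCompletion I A)
  apply IsLocalRing.of_unique_max_ideal
  refine ⟨n, hn, ?_⟩
  intro n' hn'
  haveI := hn'
  rw [unique_maximal A I n', unique_maximal A I n]

theorem main (hI : I ≠ ⊤) :
    ringKrullDim (AdicCompletion I A) = ringKrullDim A ∧
      (IsRegularLocalRing A ↔ IsRegularLocalRing (AdicCompletion I A)) := by
  haveI := nontrivial_adicCompletion A I hI
  haveI hloc := isLocalRing_adicCompletion A I hI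
  haveI : IsNoetherianRing (AdicCompletion I A) := Groth.Agent.S0543.result A I
  have hmax : (maximalIdeal A).map (algebraMap A (AdicCompletion I A)) =
      maximalIdeal (AdicCompletion I A) :=
    (unique_maximal A I (maximalIdeal (AdicCompletion I A))).symm
  haveI : IsLocalHom (algebraMap A (AdicCompletion I A)) :=
    ((IsLocalRing.local_hom_TFAE (algebraMap A (AdicCompletion I A))).out 0 2 rfl rfl).mpr hmax.le
  refine ⟨?_, ?_, ?_⟩
  · rw [Groth.Agent.H1.FlatDim.ringKrullDim_eq_add_fiber_of_flat A (AdicCompletion I A)]
    have h0 : ringKrullDim (AdicCompletion I A ⧸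
        (maximalIdeal A).map (algebraMap A (AdicCompletion I A))) = 0 := by
      rw [hmax]
      exact ringKrullDim_eq_zero_of_isField
        ((Ideal.Quotient.maximal_ideal_iff_isField_quotient _).mp (maximalIdeal.isMaximal _))
    rw [h0, add_zero]
  · intro hA
    exact Groth.Agent.H1.RegFlat.isRegularLocalRing_of_flat_of_map_eq A (AdicCompletion I A) hmax
  · intro hB
    exact Groth.Agent.H1.Reg.isRegularLocalRing_of_flat A (AdicCompletion I A)

end Groth.Agent.S19474

/-- Let A be a Noetherian local ring and I an ideal of A different from A. Then the I-adic completion of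
A has the same Krull dimension as A, and A is a regular local ring if and only if the I-adic
completion of A is a regular local ring (in particular the completion is then local and Noetherian).
The case where I is the maximal ideal is the classical one; here I is any proper ideal. -/
theorem result (A : Type u) [CommRing A]
    [IsLocalRing A] [IsNoetherianRing A] (I : Ideal A) (hI : I ≠ ⊤) :
    ringKrullDim (AdicCompletion I A) = ringKrullDim A ∧
      (IsRegularLocalRing A ↔ IsRegularLocalRing (AdicCompletion I A)) := by
  exact Groth.Agent.S19474.main A I hI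

end Groth.Agent.S19474
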