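import Groth.Statements.S10887
import Mathlib
import Groth.Agent.Lib.Helper3.AG.FibreDim

set_option autoImplicit false
universe u
open CategoryTheory AlgebraicGeometry
open FlatMor

namespace Groth.Agent.S10887

open AlgebraicGeometry CategoryTheory

theorem isDedekindDomain_of_regular_dim_le_one (A : Type*) [CommRing A] [IsDomain A]
    [IsRegularLocalRing A] (h : ringKrullDim A ≤ 1) : IsDedekindDomain A := by
  by_cases hf : IsField A
  · letI := hf.toField
    infer_instance
  · have h1 : (IsLocalRing.maximalIdeal A).spanFinrank ≤ 1 := by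
      have := IsRegularLocalRing.spanFinrank_maximalIdeal (R := A)
      rw [← this] at h
      exact_mod_cast h
    have hfg : (IsLocalRing.maximalIdeal A).FG := IsNoetherian.noetherian _
    obtain ⟨s, hs1, hs2⟩ := Submodule.FG.exists_span_finset_card_eq_spanFinrank hfg
    have hpr : (IsLocalRing.maximalIdeal A).IsPrincipal := by
      rw [← hs1] at h1
      rcases Nat.le_one_iff_eq_zero_or_eq_one.mp h1 with h0 | h1'
      · rw [Finset.card_eq_zero] at h0
        subst h0
        refine ⟨0, ?_⟩
        rw [← hs2]; simp
      · obtain ⟨a, rfl⟩ := Finset.card_eq_one.mp h1'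
        refine ⟨a, ?_⟩
        rw [← hs2]; simp
    exact ((IsDiscreteValuationRing.TFAE A hf).out 4 2).mp hpr

theorem comap_minimalPrime_eq_bot {X Y : Scheme.{u}} [IsIntegral Y] (f : X ⟶ Y)
    (hdom : ∀ Z ∈ irreducibleComponents (X : Type u), Dense (f.base '' Z)) (x : X)
    (p : Ideal (X.presheaf.stalk x)) (hp : p ∈ minimalPrimes (X.presheaf.stalk x)) :
    p.comap (f.stalkMap x).hom = ⊥ := by
  haveI : p.IsPrime := hp.1.1
  let P : Spec (X.presheaf.stalk x) := ⟨p, hp.1.1⟩
  set ξ := X.fromSpecStalk x P with hξ
  have hemb := (X.fromSpecStalk x).isEmbedding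
  have hξx : ξ ⤳ x := by
    have : ξ ∈ Set.range (X.fromSpecStalk x) := ⟨P, rfl⟩
    rw [Scheme.range_fromSpecStalk] at this
    exact this
  -- ξ is maximal
  have hmax : ∀ ξ' : X, ξ' ⤳ ξ → ξ' = ξ := by
    intro ξ' h
    have h' : ξ' ∈ Set.range (X.fromSpecStalk x) := by
      rw [Scheme.range_fromSpecStalk]; exact h.trans hξx
    obtain ⟨P', rfl⟩ := h'
    have hs0 : P' ⤳ P := hemb.isInducing.specializes_iff.mp h
    have hs : P'.asIdeal ≤ P.asIdeal :=
      (PrimeSpectrum.le_iff_specializes (R := X.presheaf.stalk x) P' P).mpr hs0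
    have : P'.asIdeal = p := by
      refine le_antisymm hs ?_
      exact hp.2 ⟨P'.isPrime, bot_le⟩ hs
    have hPP : P' = P := PrimeSpectrum.ext this
    rw [hPP]
  have hcomp : closure {ξ} ∈ irreducibleComponents (X : Type u) := by
    refine ⟨isIrreducible_singleton.closure, fun S hS hle => ?_⟩
    have hSc := hS.closure
    obtain ⟨η, hη⟩ := QuasiSober.sober hSc isClosed_closure
    have h1 : η ⤳ ξ := by
      rw [specializes_iff_mem_closure, hη]
      exact subset_closure (hle (subset_closure rfl))
    have := hmax η h1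
    subst this
    have hη' : closure {X.fromSpecStalk x P} = closure S := hη
    rw [hη']
    exact subset_closure
  have hgen : ∀ y' : Y, f.base ξ ⤳ y' := by
    intro y'
    have hd := hdom _ hcomp
    have : f.base '' closure {ξ} ⊆ closure {f.base ξ} := by
      refine (image_closure_subset_closure_image f.continuous).trans ?_
      simp
    have h2 : closure {f.base ξ} = Set.univ := by
      rw [Set.eq_univ_iff_forall]
      intro z
      have hz : z ∈ closure (f.base '' closure {ξ}) := by rw [hd.closure_eq]; trivial
      exact closure_minimal this isClosed_closure hz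
    rw [specializes_iff_mem_closure, h2]; trivial
  let Q : Spec (Y.presheaf.stalk (f.base x)) := Spec.map (f.stalkMap x) P
  have hQ : Y.fromSpecStalk (f.base x) Q = f.base ξ := by
    have := Scheme.SpecMap_stalkMap_fromSpecStalk f (x := x)
    have h2 := congrArg (fun g => g.base P) this
    exact h2
  let B0 : Spec (Y.presheaf.stalk (f.base x)) := ⟨⊥, Ideal.isPrime_bot⟩
  have hB0Q : B0 ⤳ Q := by
    refine (PrimeSpectrum.le_iff_specializes (R := Y.presheaf.stalk (f.base x)) B0 Q).mp ?_
    change (⊥ : Ideal _) ≤ Q.asIdeal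
    exact bot_le
  have hembY := (Y.fromSpecStalk (f.base x)).isEmbedding
  have h3 : Y.fromSpecStalk (f.base x) Q ⤳ Y.fromSpecStalk (f.base x) B0 := by
    rw [hQ]; exact hgen _
  have h4 : Q ⤳ B0 := hembY.isInducing.specializes_iff.mp h3
  have h5 : Q.asIdeal ≤ ⊥ :=
    (PrimeSpectrum.le_iff_specializes (R := Y.presheaf.stalk (f.base x)) Q B0).mpr h4
  have h6 : Q.asIdeal = p.comap (f.stalkMap x).hom := rfl
  rw [← h6]
  exact le_bot_iff.mp h5

/-- (i) ⇔ (iii): let Y be a Dedekind scheme — an integral Noetherian scheme of dimension at most one all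
of whose local rings are regular — and f : X → Y a morphism of schemes with X reduced. Then f is
flat if and only if every irreducible component of X dominates Y. (Without reducedness only the
forward implication holds.) -/
theorem result {X Y : Scheme.{u}} [IsIntegral Y]
    [IsNoetherian Y] (hreg : ∀ y : Y, IsRegularLocalRing (Y.presheaf.stalk y)) (hdim : topologicalKrullDim Y ≤ 1)
    (f : X ⟶ Y) [IsReduced X] :
    Flat f ↔ ∀ Z ∈ irreducibleComponents (X : Type u), Dense (f.base '' Z) := by
  constructor
  · intro hf Z hZ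
    have hgm := Flat.generalizingMap f
    have hZc : IsClosed Z := isClosed_of_mem_irreducibleComponents Z hZ
    obtain ⟨ξ, hξ⟩ := QuasiSober.sober hZ.1 hZc
    have h1 : genericPoint Y ⤳ f.base ξ := genericPoint_specializes _
    obtain ⟨ξ', hξ', hfξ'⟩ := hgm h1
    have hsub : Z ⊆ closure {ξ'} := by
      have hξZ : closure {ξ} = Z := hξ
      rw [← hξZ]
      exact closure_minimal (by simpa using hξ'.mem_closure) isClosed_closure
    have := hZ.2 isIrreducible_singleton.closure hsub
    have hmem : ξ' ∈ Z := this (subset_closure rfl)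
    have : genericPoint Y ∈ f.base '' Z := ⟨ξ', hmem, hfξ'⟩
    rw [dense_iff_closure_eq, Set.eq_univ_iff_forall]
    intro y
    have hy : genericPoint Y ⤳ y := genericPoint_specializes _
    rw [specializes_iff_mem_closure] at hy
    exact closure_mono (Set.singleton_subset_iff.mpr this) hy
  · intro hdom
    refine Flat.of_stalkMap f fun x => ?_
    haveI := hreg (f.base x)
    have hd1 : ringKrullDim (Y.presheaf.stalk (f.base x)) ≤ 1 := by
      exact (Groth.Agent.H3.FibreDim.stalk_dim_le Y (f.base x)).trans hdim
    haveI := isDedekindDomain_of_regular_dim_le_one _ hd1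
    letI := (f.stalkMap x).hom.toAlgebra
    change Module.Flat (Y.presheaf.stalk (f.base x)) (X.presheaf.stalk x)
    rw [IsDedekindDomain.flat_iff_torsion_eq_bot, Submodule.eq_bot_iff]
    intro b hb
    rw [Submodule.mem_torsion_iff] at hb
    obtain ⟨a, hab⟩ := hb
    have ha : (a : Y.presheaf.stalk (f.base x)) ≠ 0 := nonZeroDivisors.coe_ne_zero a
    have hab' : (f.stalkMap x).hom a * b = 0 := hab
    have hnil : b ∈ nilradical (X.presheaf.stalk x) := by
      rw [nilradical, ← Ideal.sInf_minimalPrimes, Submodule.mem_sInf]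
      intro p hp
      have hp' : p ∈ minimalPrimes (X.presheaf.stalk x) := hp
      have hc := comap_minimalPrime_eq_bot f hdom x p hp'
      haveI hpp : Ideal.IsPrime p := hp.1.1
      have : (f.stalkMap x).hom a * b ∈ p := by rw [hab']; exact p.zero_mem
      rcases Ideal.IsPrime.mem_or_mem hpp this with h | h
      · exfalso
        have : (a : Y.presheaf.stalk (f.base x)) ∈ Ideal.comap (f.stalkMap x).hom p := h
        rw [hc] at this
        exact ha this
      · exact h
    rw [nilradical_eq_zero] at hnil
    exact hnil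

end Groth.Agent.S10887
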