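import Groth.Statements.S10880
import Mathlib
import Groth.Agent.S10887
import Groth.Agent.Lib.Helper1.RelDim
import Groth.Agent.Lib.Helper1.FibreStalk

set_option autoImplicit false
universe u
open CategoryTheory AlgebraicGeometry
open FlatMor

namespace Groth.Agent.S10880

open AlgebraicGeometry CategoryTheory

/-- ring-level core: Noetherian local `B`, `t ∈ m_B` avoiding all minimal primes, `B/t` reduced:
the `t`-power torsion predicate closed under division by `t` forces zero. -/
theorem eq_zero_of_tor {B : Type*} [CommRing B] [IsLocalRing B] [IsNoetherianRing B]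
    (t : B) (ht : t ∈ IsLocalRing.maximalIdeal B) (Tor : B → Prop)
    (hstep : ∀ b, Tor b → ∃ b', Tor b' ∧ b = t * b') (b : B) (hb : Tor b) : b = 0 := by
  have key : ∀ n : ℕ, ∀ b, Tor b → b ∈ (IsLocalRing.maximalIdeal B) ^ n := by
    intro n
    induction n with
    | zero => intro b _; simp
    | succ n ih =>
      intro b hb
      obtain ⟨b', hb', rfl⟩ := hstep b hb
      rw [pow_succ']
      exact Ideal.mul_mem_mul ht (ih b' hb')
  have h0 : b ∈ ⨅ n : ℕ, (IsLocalRing.maximalIdeal B) ^ n := by
    rw [Submodule.mem_iInf]; intro n; exact key n b hb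
  rw [Ideal.iInf_pow_eq_bot_of_isLocalRing _ (IsLocalRing.maximalIdeal.isMaximal B).ne_top] at h0
  exact h0

/-- Let R be a discrete valuation ring and X a locally Noetherian scheme over Spec R whose
scheme-theoretic special fibre is reduced and such that every maximal point of the special fibre
lies in the closure of the generic fibre, i.e. the generic fibre is dense in X. Then X is flat over
R. -/
theorem result (R : Type u) [CommRing R] [IsDomain R]
    [IsDiscreteValuationRing R] {X : Scheme.{u}} (f : X ⟶ Spec (CommRingCat.of R)) [IsLocallyNoetherian X]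
    (hred : IsReduced (f.fiber (IsLocalRing.closedPoint R)))
    (hdense : Dense (f.base ⁻¹' {genericPoint (Spec (CommRingCat.of R))})) : Flat f := by
  have hdom : ∀ Z ∈ irreducibleComponents (X : Type u), Dense (f.base '' Z) := by
    intro Z hZ
    obtain ⟨o, ho, hoZ⟩ := Groth.Agent.H1.RelDim.exists_open_subset_irreducibleComponent Z hZ
    obtain ⟨z, hzo, hz⟩ := hdense.inter_open_nonempty o o.isOpen ho
    have hz' : f.base z = genericPoint (Spec (CommRingCat.of R)) := hz
    have : genericPoint (Spec (CommRingCat.of R)) ∈ f.base '' Z := ⟨z, hoZ hzo, hz'⟩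
    rw [dense_iff_closure_eq, Set.eq_univ_iff_forall]
    intro y
    have hy : genericPoint (Spec (CommRingCat.of R)) ⤳ y := genericPoint_specializes _
    rw [specializes_iff_mem_closure] at hy
    exact closure_mono (Set.singleton_subset_iff.mpr this) hy
  refine Flat.of_stalkMap f fun x => ?_
  set y := f.base x with hy
  let A := (Spec (CommRingCat.of R)).presheaf.stalk y
  let B := X.presheaf.stalk x
  let _k : Algebra R A := StructureSheaf.stalkAlgebra R y
  haveI hloc : IsLocalization.AtPrime A y.asIdeal := StructureSheaf.IsLocalization.to_stalk R y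
  haveI : IsDedekindDomain A := IsLocalization.AtPrime.isDedekindDomain R y.asIdeal A
  have hinj : Function.Injective (algebraMap R A) :=
    IsLocalization.injective A y.asIdeal.primeCompl_le_nonZeroDivisors
  letI := (f.stalkMap x).hom.toAlgebra
  change Module.Flat A B
  haveI : IsNoetherianRing B := inferInstanceAs (IsNoetherianRing (X.presheaf.stalk x))
  rw [IsDedekindDomain.flat_iff_torsion_eq_bot, Submodule.eq_bot_iff]
  intro b hb
  rw [Submodule.mem_torsion_iff] at hb
  obtain ⟨a, hab⟩ := hb
  have ha : (a : A) ≠ 0 := nonZeroDivisors.coe_ne_zero a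
  have hab' : (f.stalkMap x).hom a * b = 0 := hab
  -- write a = r / s
  obtain ⟨⟨r, s⟩, hrs⟩ := IsLocalization.mk'_surjective y.asIdeal.primeCompl (a : A)
  have hr : algebraMap R A r = (a : A) * algebraMap R A s := by
    rw [← hrs]; simp
  have hr0 : r ≠ 0 := by
    rintro rfl
    rw [map_zero] at hr
    have hs : IsUnit (algebraMap R A s) := IsLocalization.map_units A s
    rcases mul_eq_zero.mp hr.symm with h | h
    · exact ha h
    · exact hs.ne_zero h
  let ψ : R →+* B := (f.stalkMap x).hom.comp (algebraMap R A)
  have hψr : ψ r * b = 0 := by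
    change (f.stalkMap x).hom (algebraMap R A r) * b = 0
    rw [hr, map_mul, mul_comm ((f.stalkMap x).hom a), mul_assoc, hab', mul_zero]
  by_cases hyc : y = IsLocalRing.closedPoint R
  · -- closed point: use reducedness of the fibre
    obtain ⟨π, hπ⟩ := IsDiscreteValuationRing.exists_irreducible R
    have hπ0 : π ≠ 0 := hπ.ne_zero
    have hmR : IsLocalRing.maximalIdeal R = Ideal.span {π} := hπ.maximalIdeal_eq
    have hyI : y.asIdeal = IsLocalRing.maximalIdeal R := by rw [hyc]; rfl
    have hmA : IsLocalRing.maximalIdeal A = Ideal.span {algebraMap R A π} := by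
      rw [← IsLocalization.AtPrime.map_eq_maximalIdeal y.asIdeal A, hyI, hmR, Ideal.map_span,
        Set.image_singleton]
    set t : B := ψ π with ht
    have hJ : (IsLocalRing.maximalIdeal A).map (f.stalkMap x).hom = Ideal.span {t} := by
      rw [hmA, Ideal.map_span, Set.image_singleton]; rfl
    have htm : t ∈ IsLocalRing.maximalIdeal B := by
      have h1 : algebraMap R A π ∈ IsLocalRing.maximalIdeal A := by
        rw [hmA]; exact Ideal.mem_span_singleton_self _
      have : IsLocalHom (f.stalkMap x).hom := inferInstance
      rw [IsLocalRing.mem_maximalIdeal, mem_nonunits_iff] at h1 ⊢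
      intro hu
      exact h1 (isUnit_of_map_unit (f.stalkMap x).hom _ hu)
    have hredy : IsReduced (f.fiber y) := by rw [hyc]; exact hred
    haveI : _root_.IsReduced ((f.fiber y).presheaf.stalk (f.asFiber x)) := inferInstance
    have hredQ : _root_.IsReduced (B ⧸ (IsLocalRing.maximalIdeal A).map (f.stalkMap x).hom) :=
      isReduced_of_injective (Groth.Agent.H1.FibreStalk.fiberStalkEquiv f x).toRingHom
        (Groth.Agent.H1.FibreStalk.fiberStalkEquiv f x).injective
    refine eq_zero_of_tor t htm (fun b => ∃ r : R, r ≠ 0 ∧ ψ r * b = 0) ?_ b ⟨r, hr0, hψr⟩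
    rintro b ⟨r, hr0, hrb⟩
    have hnil : b ∈ nilradical B := by
      rw [nilradical, ← Ideal.sInf_minimalPrimes, Submodule.mem_sInf]
      intro p hp
      have hp' : p ∈ minimalPrimes (X.presheaf.stalk x) := hp
      have hc := Groth.Agent.S10887.comap_minimalPrime_eq_bot f hdom x p hp'
      haveI hpp : Ideal.IsPrime p := hp.1.1
      have : ψ r * b ∈ p := by rw [hrb]; exact p.zero_mem
      rcases Ideal.IsPrime.mem_or_mem hpp this with h | h
      · exfalso
        have : algebraMap R A r ∈ Ideal.comap (f.stalkMap x).hom p := h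
        rw [hc] at this
        have h0 : algebraMap R A r = 0 := this
        rw [← map_zero (algebraMap R A)] at h0
        exact hr0 (hinj h0)
      · exact h
    have hbJ : b ∈ (IsLocalRing.maximalIdeal A).map (f.stalkMap x).hom := by
      rw [← Ideal.Quotient.eq_zero_iff_mem]
      have : IsNilpotent (Ideal.Quotient.mk ((IsLocalRing.maximalIdeal A).map (f.stalkMap x).hom) b) :=
        (mem_nilradical.mp hnil).map _
      exact this.eq_zero
    rw [hJ, Ideal.mem_span_singleton'] at hbJ
    obtain ⟨b', hb'⟩ := hbJ
    refine ⟨b', ⟨r * π, mul_ne_zero hr0 hπ0, ?_⟩, by rw [← hb', mul_comm]⟩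
    rw [map_mul, mul_assoc, ← ht, mul_comm t b', hb', hrb]
  · -- generic point: `a` is a unit
    have hyI : y.asIdeal = ⊥ := by
      by_contra hne
      have hmax : y.asIdeal.IsMaximal := Ideal.IsPrime.isMaximal y.isPrime hne
      have := IsLocalRing.eq_maximalIdeal hmax
      exact hyc (PrimeSpectrum.ext this)
    have hru : IsUnit (algebraMap R A r) := by
      refine IsLocalization.map_units A (⟨r, ?_⟩ : y.asIdeal.primeCompl)
      change r ∉ y.asIdeal
      rw [hyI]; exact hr0
    have : IsUnit (ψ r) := hru.map (f.stalkMap x).hom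
    exact (this.mul_right_eq_zero).mp hψr

end Groth.Agent.S10880
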