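import Groth.Statements.S0576
import Groth.Agent.Lib.Helper8.Japanese.AUK5
import Groth.Agent.Lib.Helper8.OneDim.Compl
-- import your own Groth.Agent.* helpers here

set_option autoImplicit false
universe u
open CAlg

namespace Groth.Agent.S0576

/-- A local domain which is a Nagata ring is analytically unramified, i.e. its completion at the maximal
ideal is reduced. -/
theorem result (R : Type u) [CommRing R] [IsDomain R]
    [IsLocalRing R] (hR : CAlg.IsNagata R) :
    IsReduced (AdicCompletion (IsLocalRing.maximalIdeal R) R) := by
  open Groth.Agent.H8 Groth.Agent.H8.Jap IsLocalRing TensorProduct in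
    haveI := hR.1
    have hfg : (maximalIdeal R).FG := IsNoetherian.noetherian _
    haveI : IsNoetherianRing (AdicCompletion (maximalIdeal R) R) :=
      OneDim.isNoetherianRing_adicCompletion R
    have hmax : maximalIdeal (AdicCompletion (maximalIdeal R) R) =
        (maximalIdeal R).map (algebraMap R (AdicCompletion (maximalIdeal R) R)) :=
      AdicCompletion.maximalIdeal_eq_map_of_fg hfg
    have h := AUK.isReduced_tensor R (AdicCompletion (maximalIdeal R) R) hR
      (by rw [← hmax, IsLocalRing.jacobson_eq_maximalIdeal ⊥ bot_ne_top])
      (fun t => by rw [← hmax]; exact OneDim.exists_sub_mem_maximalIdeal_adicCompletion R t) R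
    exact isReduced_of_injective
      (Algebra.TensorProduct.lid R (AdicCompletion (maximalIdeal R) R)).symm.toRingEquiv
      (RingEquiv.injective _)

end Groth.Agent.S0576
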