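import Groth.Statements.S1381
import Mathlib
import Groth.Agent.Lib.Helper1.CritFib2

set_option autoImplicit false
universe u
open FlatMor

namespace Groth.Agent.S1381

namespace Aux
open AlgebraicGeometry CategoryTheory Limits

theorem isIso_residueFieldMap_of_isClosedImmersion {S S' : Scheme.{u}} (i : S ⟶ S')
    [IsClosedImmersion i] (s : S) : IsIso (i.residueFieldMap s) := by
  have hsurj : Function.Surjective (i.residueFieldMap s).hom := by
    intro z
    obtain ⟨a, rfl⟩ := S.residue_surjective s z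
    obtain ⟨a', rfl⟩ := i.stalkMap_surjective s a
    refine ⟨S'.residue (i s) a', ?_⟩
    have := Scheme.residue_residueFieldMap i s
    exact congrArg (fun φ => φ.hom a') this
  have hinj : Function.Injective (i.residueFieldMap s).hom := RingHom.injective _
  exact (ConcreteCategory.isIso_iff_bijective _).mpr ⟨hinj, hsurj⟩

theorem exists_lift_fromSpecResidueField {S S' : Scheme.{u}} (i : S ⟶ S') [IsClosedImmersion i]
    (s : S) : ∃ σ : Spec (S'.residueField (i s)) ⟶ S, σ ≫ i = S'.fromSpecResidueField (i s) := by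
  haveI := isIso_residueFieldMap_of_isClosedImmersion i s
  refine ⟨Spec.map (inv (i.residueFieldMap s)) ≫ S.fromSpecResidueField s, ?_⟩
  rw [Category.assoc, ← Scheme.Hom.SpecMap_residueFieldMap_fromSpecResidueField,
    ← Spec.map_comp_assoc, IsIso.hom_inv_id, Spec.map_id, Category.id_comp]

theorem flat_fiberMap {X X' Y Y' S S' : Scheme.{u}} (iX : X ⟶ X') (iY : Y ⟶ Y') (iS : S ⟶ S')
    (f : X ⟶ Y) (f' : X' ⟶ Y') (g : Y ⟶ S) (g' : Y' ⟶ S')
    (hS : MoreMor.IsThickening iS) (hcX : IsPullback iX (f ≫ g) (f' ≫ g') iS)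
    (hcY : IsPullback iY g g' iS) (w : iX ≫ f' = f ≫ iY) [Flat f] (s' : S') :
    Flat (MoreMor.fiberMap f' g' s') := by
  haveI := hS.1
  obtain ⟨s, rfl⟩ := hS.2.surj s'
  obtain ⟨σ, hσ⟩ := exists_lift_fromSpecResidueField iS s
  set σ' := S'.fromSpecResidueField (iS s) with hσ'
  set p₁ := (f' ≫ g').fiberι (iS s) with hp₁
  set p₂ := (f' ≫ g').fiberToSpecResidueField (iS s) with hp₂
  set q₁ := g'.fiberι (iS s) with hq₁
  set q₂ := g'.fiberToSpecResidueField (iS s) with hq₂
  set φ := MoreMor.fiberMap f' g' (iS s) with hφ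
  have hφ₁ : φ ≫ q₁ = p₁ ≫ f' := Groth.Agent.H1.CritFib.fiberMap_fiberι f' g' (iS s)
  have hφ₂ : φ ≫ q₂ = p₂ := by
    dsimp only [φ, q₂, p₂, MoreMor.fiberMap, Scheme.Hom.fiberToSpecResidueField]
    exact pullback.lift_snd _ _ _
  have P1 : IsPullback p₁ p₂ (f' ≫ g') σ' := IsPullback.of_hasPullback _ _
  have Q1 : IsPullback q₁ q₂ g' σ' := IsPullback.of_hasPullback _ _
  let a : (f' ≫ g').fiber (iS s) ⟶ X := hcX.lift p₁ (p₂ ≫ σ) (by rw [P1.w, Category.assoc, hσ])
  have ha₁ : a ≫ iX = p₁ := hcX.lift_fst _ _ _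
  have ha₂ : a ≫ f ≫ g = p₂ ≫ σ := hcX.lift_snd _ _ _
  let b : g'.fiber (iS s) ⟶ Y := hcY.lift q₁ (q₂ ≫ σ) (by rw [Q1.w, Category.assoc, hσ])
  have hb₁ : b ≫ iY = q₁ := hcY.lift_fst _ _ _
  have hb₂ : b ≫ g = q₂ ≫ σ := hcY.lift_snd _ _ _
  have hsq : φ ≫ b = a ≫ f := by
    apply hcY.hom_ext
    · rw [Category.assoc, hb₁, hφ₁, Category.assoc, ← w, ← Category.assoc, ha₁]
    · rw [Category.assoc, hb₂, ← Category.assoc, hφ₂, Category.assoc, ha₂]
  have PA : IsPullback a p₂ (f ≫ g) σ := by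
    refine IsPullback.of_right ?_ ha₂ hcX
    rw [ha₁, hσ]
    exact P1
  have PB : IsPullback b q₂ g σ := by
    refine IsPullback.of_right ?_ hb₂ hcY
    rw [hb₁, hσ]
    exact Q1
  have PC : IsPullback φ a b f := by
    refine IsPullback.of_right ?_ hsq PB.flip
    rw [hφ₂]
    exact PA.flip
  exact MorphismProperty.of_isPullback (P := @Flat) PC.flip inferInstance

end Aux

open AlgebraicGeometry CategoryTheory Limits in
/-- Let S ⟶ S' be an arbitrary thickening, let X' ⟶ Y' be a morphism of schemes over S' with X' flat and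
locally of finite presentation over S' and Y' locally of finite type over S', and let X ⟶ Y be its
base change to S. Then X ⟶ Y is flat if and only if X' ⟶ Y' is. -/
theorem result {X X' Y Y' S S' : Scheme.{u}} (iX : X ⟶ X') (iY : Y ⟶ Y') (iS : S ⟶ S')
    (f : X ⟶ Y) (f' : X' ⟶ Y') (g : Y ⟶ S) (g' : Y' ⟶ S')
    (hS : MoreMor.IsThickening iS) (hcX : IsPullback iX (f ≫ g) (f' ≫ g') iS) (hcY : IsPullback iY g g' iS)
    (w : iX ≫ f' = f ≫ iY) [Flat (f' ≫ g')] [LocallyOfFinitePresentation (f' ≫ g')] [LocallyOfFiniteType g'] :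
    Flat f ↔ Flat f' := by
  constructor
  · intro hf
    haveI := hf
    refine Flat.of_stalkMap f' fun x' => ?_
    have h1 := (Groth.Agent.H1.CritFib.crit_stalk_iff f' g' x').mp
      ⟨Flat.stalkMap (f' ≫ g') x', by
        haveI := Aux.flat_fiberMap iX iY iS f f' g g' hS hcX hcY w (g' (f' x'))
        exact Flat.stalkMap _ _⟩
    exact h1.2
  · intro hf'
    haveI := hf'
    have PD : IsPullback f iX iY f' :=
      IsPullback.of_right hcX.flip w.symm hcY.flip
    exact MorphismProperty.of_isPullback (P := @Flat) PD.flip inferInstance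

end Groth.Agent.S1381
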