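import Groth.Statements.S1312
import Groth.Agent.Lib.Helper1.Thickening

set_option autoImplicit false
universe u
open FlatMor

namespace Groth.Agent.S1312

open AlgebraicGeometry CategoryTheory Limits in
/-- Let Y ⟶ Y' be a thickening, let X be the base change to Y of a scheme X' over Y', and assume both X
⟶ Y and X' ⟶ Y' are locally of finite type. Then X ⟶ Y is locally quasi-finite if and only if X' ⟶
Y' is. -/
theorem result {X X' Y Y' : Scheme.{u}} (iX : X ⟶ X') (iY : Y ⟶ Y') (f : X ⟶ Y) (f' : X' ⟶ Y')
    (hY : MoreMor.IsThickening iY) (hc : IsPullback iX f f' iY) [LocallyOfFiniteType f] [LocallyOfFiniteType f'] :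
    LocallyQuasiFinite f ↔ LocallyQuasiFinite f' := by
  have hX : MoreMor.IsThickening iX := H1.IsThickening.of_isPullback hc.flip hY
  constructor
  · intro hf
    rw [locallyQuasiFinite_iff_isDiscrete_preimage_singleton] at hf ⊢
    intro y'
    have := hY.2
    have := hY.1
    have := hX.2
    obtain ⟨y, rfl⟩ := iY.surjective y'
    have h2 : f' ⁻¹' {iY y} = iX '' (f ⁻¹' {y}) := by
      ext x'
      obtain ⟨x, rfl⟩ := iX.surjective x'
      have e : f' (iX x) = iY (f x) := by
        rw [← Scheme.Hom.comp_apply, hc.w, Scheme.Hom.comp_apply]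
      simp only [Set.mem_preimage, Set.mem_singleton_iff, e, Set.mem_image]
      constructor
      · intro h
        exact ⟨x, iY.isClosedEmbedding.injective h, rfl⟩
      · rintro ⟨x₂, hx₂, h⟩
        have : IsClosedImmersion iX := hX.1
        rw [← iX.isClosedEmbedding.injective h, hx₂]
    rw [h2]
    have : IsClosedImmersion iX := hX.1
    exact (hf y).image iX.isClosedEmbedding.isInducing
  · intro hf
    exact MorphismProperty.of_isPullback hc hf

end Groth.Agent.S1312
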