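import Groth.Statements.S3578
import Groth.Agent.Lib.Helper1.ProjBasic

set_option autoImplicit false
universe u
open EGA2

namespace Groth.Agent.S3578

/-- Via the correspondence between closed subsets of Proj S and radical graded ideals of S_+: let S be a
graded ring and Z a closed subset of Proj S, with J = S_+ ∩ (vanishing ideal of Z). Then Z is
irreducible if and only if J is a prime ideal of the ring-without-unit S_+: J ≠ S_+ and a product of
two elements of S_+ lies in J only if one factor does. -/
theorem result {R A : Type u} [CommRing R] [CommRing A] [Algebra R A] (𝒜 : ℕ → Submodule R A) [GradedAlgebra 𝒜]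
    (Z : Set (ProjectiveSpectrum 𝒜)) (hZ : IsClosed Z) :
    IsIrreducible Z ↔
      (¬ (HomogeneousIdeal.irrelevant 𝒜).toIdeal ≤ (ProjectiveSpectrum.vanishingIdeal Z).toIdeal ∧
        ∀ f ∈ (HomogeneousIdeal.irrelevant 𝒜).toIdeal, ∀ g ∈ (HomogeneousIdeal.irrelevant 𝒜).toIdeal,
          f * g ∈ (ProjectiveSpectrum.vanishingIdeal Z).toIdeal →
            f ∈ (ProjectiveSpectrum.vanishingIdeal Z).toIdeal ∨ g ∈ (ProjectiveSpectrum.vanishingIdeal Z).toIdeal) := by
  have hmem : ∀ f : A, f ∈ (ProjectiveSpectrum.vanishingIdeal Z).toIdeal ↔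
      ∀ x ∈ Z, f ∈ x.asHomogeneousIdeal := fun f => by
    exact ProjectiveSpectrum.mem_vanishingIdeal Z f
  constructor
  · rintro ⟨⟨x, hx⟩, hpre⟩
    refine ⟨fun hle => x.not_irrelevant_le fun f hf => (hmem f).mp (hle hf) x hx, ?_⟩
    intro f hf g hg hfg
    have hsub : Z ⊆ ProjectiveSpectrum.zeroLocus 𝒜 {f} ∪ ProjectiveSpectrum.zeroLocus 𝒜 {g} := by
      intro y hy
      have := (hmem _).mp hfg y hy
      rcases y.isPrime.mem_or_mem this with h | h
      · left; intro a ha; rw [Set.mem_singleton_iff] at ha; subst ha; exact h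
      · right; intro a ha; rw [Set.mem_singleton_iff] at ha; subst ha; exact h
    rcases (isPreirreducible_iff_isClosed_union_isClosed.mp hpre) _ _
      (ProjectiveSpectrum.isClosed_zeroLocus 𝒜 _) (ProjectiveSpectrum.isClosed_zeroLocus 𝒜 _) hsub with h | h
    · left
      rw [hmem]
      intro y hy
      exact h hy (Set.mem_singleton f)
    · right
      rw [hmem]
      intro y hy
      exact h hy (Set.mem_singleton g)
  · rintro ⟨hne, hprime⟩
    refine ⟨?_, ?_⟩
    · by_contra hemp
      rw [Set.not_nonempty_iff_eq_empty] at hemp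
      apply hne
      intro f _
      rw [hmem]
      intro x hx
      rw [hemp] at hx
      exact absurd hx (Set.notMem_empty x)
    · rw [isPreirreducible_iff_isClosed_union_isClosed]
      intro Z₁ Z₂ hZ₁ hZ₂ hsub
      by_contra hcon
      push Not at hcon
      obtain ⟨h1, h2⟩ := hcon
      obtain ⟨s₁, rfl⟩ := (ProjectiveSpectrum.isClosed_iff_zeroLocus _ _).mp hZ₁
      obtain ⟨s₂, rfl⟩ := (ProjectiveSpectrum.isClosed_iff_zeroLocus _ _).mp hZ₂
      rw [Set.not_subset] at h1 h2
      obtain ⟨x, hxZ, hx⟩ := h1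
      obtain ⟨y, hyZ, hy⟩ := h2
      rw [ProjectiveSpectrum.mem_zeroLocus, Set.not_subset] at hx hy
      obtain ⟨a, ha, hax⟩ := hx
      obtain ⟨b, hb, hby⟩ := hy
      obtain ⟨c, hc, hcx⟩ := Set.not_subset.mp x.not_irrelevant_le
      obtain ⟨d, hd, hdy⟩ := Set.not_subset.mp y.not_irrelevant_le
      have hca : c * a ∈ (HomogeneousIdeal.irrelevant 𝒜).toIdeal := Ideal.mul_mem_right _ _ hc
      have hdb : d * b ∈ (HomogeneousIdeal.irrelevant 𝒜).toIdeal := Ideal.mul_mem_right _ _ hd
      have hprod : (c * a) * (d * b) ∈ (ProjectiveSpectrum.vanishingIdeal Z).toIdeal := by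
        rw [hmem]
        intro z hz
        rcases hsub hz with h | h
        · have : a ∈ z.asHomogeneousIdeal.toIdeal := h ha
          have h3 := Ideal.mul_mem_left z.asHomogeneousIdeal.toIdeal c this
          exact Ideal.mul_mem_right _ _ h3
        · have : b ∈ z.asHomogeneousIdeal.toIdeal := h hb
          have h3 := Ideal.mul_mem_left z.asHomogeneousIdeal.toIdeal d this
          exact Ideal.mul_mem_left _ _ h3
      rcases hprime _ hca _ hdb hprod with h | h
      · have := (hmem _).mp h x hxZ
        rcases x.isPrime.mem_or_mem this with h' | h'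
        · exact hcx h'
        · exact hax h'
      · have := (hmem _).mp h y hyZ
        rcases y.isPrime.mem_or_mem this with h' | h'
        · exact hdy h'
        · exact hby h'

end Groth.Agent.S3578
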