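import Groth.Statements.S3557
import Groth.Agent.Lib.Helper1.ProjBasic
import Groth.Agent.S3578
import Groth.Agent.S3556

set_option autoImplicit false
universe u
open CategoryTheory CategoryTheory.Limits AlgebraicGeometry
open EGA2

namespace Groth.Agent.S3557

/-- Let S be a graded ring which is essentially reduced (S_+ contains no nonzero nilpotent). Then Proj S
is an integral scheme if and only if S is essentially integral, i.e. S_+ is nonzero and the product
of two nonzero elements of S_+ is nonzero. -/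
theorem result {R A : Type u} [CommRing R] [CommRing A] [Algebra R A] (𝒜 : ℕ → Submodule R A) [GradedAlgebra 𝒜]
    (hred : ∀ f ∈ (HomogeneousIdeal.irrelevant 𝒜).toIdeal, IsNilpotent f → f = 0) :
    AlgebraicGeometry.IsIntegral (Proj 𝒜) ↔
      ((∃ f ∈ (HomogeneousIdeal.irrelevant 𝒜).toIdeal, f ≠ 0) ∧
        ∀ f ∈ (HomogeneousIdeal.irrelevant 𝒜).toIdeal, ∀ g ∈ (HomogeneousIdeal.irrelevant 𝒜).toIdeal,
          f * g = 0 → f = 0 ∨ g = 0) := by
  have hIrr := Groth.Agent.S3578.result 𝒜 (Set.univ : Set (ProjectiveSpectrum 𝒜)) isClosed_univ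
  -- elements of S₊ vanishing everywhere are zero
  have hvan : ∀ f ∈ (HomogeneousIdeal.irrelevant 𝒜).toIdeal,
      (f ∈ (ProjectiveSpectrum.vanishingIdeal (Set.univ : Set (ProjectiveSpectrum 𝒜))).toIdeal ↔ f = 0) := by
    intro f hf
    constructor
    · intro h
      apply hred f hf
      by_contra hn
      obtain ⟨x, hx⟩ := Groth.Agent.H1.PB.exists_relevant_prime_of_not_nilpotent 𝒜 f hf hn
      exact hx ((ProjectiveSpectrum.mem_vanishingIdeal _ f).mp h x (Set.mem_univ x))
    · rintro rfl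
      exact zero_mem _
  have hredP : AlgebraicGeometry.IsReduced (Proj 𝒜) := Groth.Agent.S3556.result 𝒜 hred
  rw [isIntegral_iff_irreducibleSpace_and_isReduced]
  have hsp : IrreducibleSpace (Proj 𝒜) ↔ IsIrreducible (Set.univ : Set (ProjectiveSpectrum 𝒜)) :=
    irreducibleSpace_def _
  rw [hsp, hIrr]
  constructor
  · rintro ⟨⟨h1, h2⟩, -⟩
    refine ⟨?_, ?_⟩
    · obtain ⟨f, hf, hfn⟩ := Set.not_subset.mp h1
      exact ⟨f, hf, fun h0 => hfn ((hvan f hf).mpr h0)⟩
    · intro f hf g hg hfg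
      have := h2 f hf g hg (hfg ▸ zero_mem _)
      exact this.imp (hvan f hf).mp (hvan g hg).mp
  · rintro ⟨⟨f, hf, hf0⟩, h2⟩
    refine ⟨⟨?_, ?_⟩, hredP⟩
    · intro hle
      exact hf0 ((hvan f hf).mp (hle hf))
    · intro f hf g hg hfg
      have hfg0 := (hvan (f * g) (Ideal.mul_mem_right _ _ hf)).mp hfg
      exact (h2 f hf g hg hfg0).imp (hvan f hf).mpr (hvan g hg).mpr

end Groth.Agent.S3557
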