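import Groth.Statements.S9250
import Groth.Agent.Lib.Helper1.RegFlat

set_option autoImplicit false
universe u
open CAlg

namespace Groth.Agent.S9250

/-- Let R → S be a regular ring map with S Noetherian and R regular. Then S is regular. -/
theorem result (R S : Type u) [CommRing R] [CommRing S] [Algebra R S]
    [IsRegularRing R] [IsNoetherianRing S] (h : CAlg.IsRegularHom R S) : IsRegularRing S := by
  obtain ⟨hflat, hfib⟩ := h
  rw [isRegularRing_iff]
  intro q hq
  set p : Ideal R := q.comap (algebraMap R S) with hp
  haveI : p.IsPrime := Ideal.comap_isPrime _ _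
  obtain ⟨hN, hG⟩ := hfib p
  haveI : IsRegularRing (p.Fiber S) := by
    have h1 := hG p.ResidueField inferInstance
    have e' : TensorProduct p.ResidueField p.ResidueField (p.Fiber S) ≃+* p.Fiber S :=
      (Algebra.TensorProduct.lid p.ResidueField (p.Fiber S)).toRingEquiv
    exact IsRegularRing.of_ringEquiv (R := TensorProduct p.ResidueField p.ResidueField (p.Fiber S)) e'
  let q' := PrimeSpectrum.preimageEquivFiber R S ⟨p, inferInstance⟩ ⟨⟨q, hq⟩, rfl⟩
  have hq' : q'.asIdeal.comap (Algebra.TensorProduct.includeRight (R := R) (A := p.ResidueField) (B := S)) = q := by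
    have := (PrimeSpectrum.preimageEquivFiber R S ⟨p, inferInstance⟩).left_inv ⟨⟨q, hq⟩, rfl⟩
    exact congrArg (fun x => x.1.asIdeal) this
  haveI := Groth.Agent.H1.RegFlat.isRegularLocalRing_of_fiber R S p q'.asIdeal
  exact Groth.Agent.H1.RegFlat.isRegularLocalRing_congr _ q hq'

end Groth.Agent.S9250
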