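import Groth.Statements.S4941
-- import your own Groth.Agent.* helpers here

set_option autoImplicit false
open CategoryTheory AlgebraicGeometry
universe u v w
open EGA43

namespace Groth.Agent.S4941

open CategoryTheory.Limits in
/-- Let v : Y₁ ⟶ Y be a surjective morphism of schemes whose underlying map is closed, f : X ⟶ Y a
morphism and x a point of X. If the base change f₁ : X ×_Y Y₁ ⟶ Y₁ is open at every point of X ×_Y
Y₁ lying over x, then f is open at x. -/
theorem result {X Y Y₁ : Scheme.{u}} (v : Y₁ ⟶ Y)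
    (hv : IsClosedMap v.base) [Surjective v] (f : X ⟶ Y) (x : X)
    (h : ∀ x₁ : ↥(pullback f v), (pullback.fst f v).base x₁ = x → EGA43.IsOpenAt (pullback.snd f v).base x₁) :
    EGA43.IsOpenAt f.base x := by
  intro U hU
  obtain ⟨O, hOU, hO, hxO⟩ := mem_nhds_iff.mp hU
  -- the open set `p⁻¹ O` in the pullback
  set p := pullback.fst f v with hp
  set f₁ := pullback.snd f v with hf₁
  have hcomm : ∀ z : ↥(pullback f v), f (p z) = v (f₁ z) := by
    intro z
    have := congrArg (fun φ : pullback f v ⟶ Y => φ z) (pullback.condition (f := f) (g := v))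
    simpa [Scheme.Hom.comp_apply] using this
  -- `N` = interior of `v⁻¹ (f '' O)`
  set N : Set Y₁ := interior (v ⁻¹' (f '' O)) with hN
  have hfib : v ⁻¹' {f x} ⊆ N := by
    intro y₁ hy₁
    obtain ⟨x₁, hx₁, hy₁'⟩ := Scheme.Pullback.exists_preimage_pullback (f := f) (g := v) x y₁
      (by simpa using hy₁.symm)
    have hopen := h x₁ hx₁ (p ⁻¹' O) ((hO.preimage p.continuous).mem_nhds (by
      show p x₁ ∈ O
      rw [hx₁]; exact hxO))
    have hy₁'' : f₁.base x₁ = y₁ := hy₁'
    rw [hy₁''] at hopen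
    rw [hN, mem_interior_iff_mem_nhds]
    refine Filter.mem_of_superset hopen ?_
    rintro _ ⟨z, hz, rfl⟩
    exact ⟨p z, hz, hcomm z⟩
  have hcl : IsClosed (v '' Nᶜ) := hv _ isOpen_interior.isClosed_compl
  have hy : f x ∉ v '' Nᶜ := by
    rintro ⟨y₁, hy₁N, hy₁⟩
    exact hy₁N (hfib hy₁)
  refine Filter.mem_of_superset (hcl.isOpen_compl.mem_nhds hy) ?_
  intro z hz
  obtain ⟨y₁, rfl⟩ := v.surjective z
  have hy₁N : y₁ ∈ N := by
    by_contra hcon
    exact hz ⟨y₁, hcon, rfl⟩
  have := interior_subset hy₁N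
  exact Set.image_mono hOU this

end Groth.Agent.S4941
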