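import Groth.Statements.S4942
import Groth.Agent.Lib.Helper3.UnivOpenAt
import Groth.Agent.S4941
-- import your own Groth.Agent.* helpers here

set_option autoImplicit false
open CategoryTheory AlgebraicGeometry
universe u v w
open EGA43

namespace Groth.Agent.S4942

open CategoryTheory.Limits in
/-- Let v : Y₁ ⟶ Y be a universally closed surjective morphism of schemes, f : X ⟶ Y a morphism and x a
point of X. If the base change f₁ : X ×_Y Y₁ ⟶ Y₁ is universally open at every point of X ×_Y Y₁
lying over x, then f is universally open at x. -/
theorem result {X Y Y₁ : Scheme.{u}} (v : Y₁ ⟶ Y)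
    [UniversallyClosed v] [Surjective v] (f : X ⟶ Y) (x : X)
    (h : ∀ x₁ : ↥(pullback f v), (pullback.fst f v).base x₁ = x → EGA43.IsUnivOpenAt (pullback.snd f v) x₁) :
    EGA43.IsUnivOpenAt f x := by
  intro Y' g x' hx'
  have hv' : UniversallyClosed (pullback.snd v g) :=
    MorphismProperty.pullback_snd _ _ inferInstance
  refine Groth.Agent.S4941.result (pullback.snd v g) (pullback.snd v g).isClosedMap
    (pullback.snd f g) x' ?_
  intro x₁' hx₁'
  -- the map `a : X' ×_{Y'} Y₁' ⟶ X ×_Y Y₁`
  let a : pullback (pullback.snd f g) (pullback.snd v g) ⟶ pullback f v :=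
    pullback.lift
      (pullback.fst (pullback.snd f g) (pullback.snd v g) ≫ pullback.fst f g)
      (pullback.snd (pullback.snd f g) (pullback.snd v g) ≫ pullback.fst v g)
      (by
        rw [Category.assoc, Category.assoc, pullback.condition (f := f) (g := g),
          pullback.condition (f := v) (g := g), ← Category.assoc, ← Category.assoc,
          pullback.condition])
  have ha1 : a ≫ pullback.fst f v =
      pullback.fst (pullback.snd f g) (pullback.snd v g) ≫ pullback.fst f g :=
    pullback.lift_fst _ _ _
  have ha2 : a ≫ pullback.snd f v =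
      pullback.snd (pullback.snd f g) (pullback.snd v g) ≫ pullback.fst v g :=
    pullback.lift_snd _ _ _
  have sqbig : IsPullback (a ≫ pullback.fst f v)
      (pullback.snd (pullback.snd f g) (pullback.snd v g)) f (pullback.fst v g ≫ v) := by
    rw [ha1, pullback.condition (f := v) (g := g)]
    exact (IsPullback.of_hasPullback (pullback.snd f g) (pullback.snd v g)).paste_horiz
      (IsPullback.of_hasPullback f g)
  have sq : IsPullback a (pullback.snd (pullback.snd f g) (pullback.snd v g))
      (pullback.snd f v) (pullback.fst v g) :=
    IsPullback.of_right sqbig ha2 (IsPullback.of_hasPullback f v)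
  have hax : (pullback.fst f v).base (a.base x₁') = x := by
    have e1 : (pullback.fst f v) (a x₁') = (a ≫ pullback.fst f v) x₁' :=
      (Scheme.Hom.comp_apply _ _ _).symm
    show (pullback.fst f v) (a x₁') = x
    rw [e1, ha1, Scheme.Hom.comp_apply]
    exact (congrArg (pullback.fst f g) hx₁').trans hx'
  exact Groth.Agent.H3.isOpenAt_snd_of_isPullback (h _ hax) sq x₁' rfl

end Groth.Agent.S4942
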