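import Groth.Statements.S4929
import Groth.Agent.Lib.Helper3.UnivOpenAt
-- import your own Groth.Agent.* helpers here

set_option autoImplicit false
open CategoryTheory AlgebraicGeometry
universe u v w
open EGA43

namespace Groth.Agent.S4929


open CategoryTheory.Limits in
/-- Openness at a point can be tested on a finite cover by closed immersions. -/
theorem isOpenAt_of_finite_closed_cover {X Y : Scheme.{u}} (f : X ⟶ Y) (x : X) {ι : Type w}
    [Finite ι] (T : ι → Scheme.{u}) (g : ∀ i, T i ⟶ Y) [∀ i, IsClosedImmersion (g i)]
    (hcov : ⋃ i, Set.range (g i).base = Set.univ)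
    (h : ∀ i, ∀ x' : ↥(pullback f (g i)), (pullback.fst f (g i)).base x' = x →
      EGA43.IsOpenAt (pullback.snd f (g i)).base x') :
    EGA43.IsOpenAt f.base x := by
  classical
  intro U hU
  obtain ⟨O, hOU, hO, hxO⟩ := mem_nhds_iff.mp hU
  have hN : ∀ i, ∃ N ∈ nhds (f.base x), N ∩ Set.range (g i).base ⊆ f.base '' O := by
    intro i
    by_cases hi : f.base x ∈ Set.range (g i).base
    · obtain ⟨t, ht⟩ := hi
      obtain ⟨x', hx'1, hx'2⟩ := Scheme.Pullback.exists_preimage_pullback (f := f) (g := g i) x t
        ht.symm
      have h1 := h i x' hx'1 ((pullback.fst f (g i)).base ⁻¹' O)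
        ((hO.preimage (pullback.fst f (g i)).continuous).mem_nhds (by
          show (pullback.fst f (g i)).base x' ∈ O
          rw [hx'1]; exact hxO))
      have hx'2' : (pullback.snd f (g i)).base x' = t := hx'2
      rw [hx'2'] at h1
      have h2 : (g i).base ⁻¹' (f.base '' O) ∈ nhds t := by
        refine Filter.mem_of_superset h1 ?_
        rintro _ ⟨z, hz, rfl⟩
        refine ⟨(pullback.fst f (g i)).base z, hz, ?_⟩
        have := congrArg (fun φ : pullback f (g i) ⟶ Y => φ z) (pullback.condition (f := f) (g := g i))
        simpa [Scheme.Hom.comp_apply] using this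
      rw [(g i).isClosedEmbedding.isInducing.nhds_eq_comap, Filter.mem_comap] at h2
      obtain ⟨N, hN, hNs⟩ := h2
      refine ⟨N, ht ▸ hN, ?_⟩
      rintro _ ⟨hzN, t', rfl⟩
      exact hNs hzN
    · refine ⟨(Set.range (g i).base)ᶜ,
        (g i).isClosedEmbedding.isClosed_range.isOpen_compl.mem_nhds hi, ?_⟩
      rintro z ⟨hz1, hz2⟩
      exact absurd hz2 hz1
  choose N hN1 hN2 using hN
  have hM : ⋂ i, N i ∈ nhds (f.base x) := Filter.iInter_mem.mpr hN1
  refine Filter.mem_of_superset hM ?_
  intro z hz
  obtain ⟨i, hzi⟩ : ∃ i, z ∈ Set.range (g i).base := by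
    have : z ∈ ⋃ i, Set.range (g i).base := by rw [hcov]; trivial
    exact Set.mem_iUnion.mp this
  exact Set.image_mono hOU (hN2 i ⟨Set.mem_iInter.mp hz i, hzi⟩)

open CategoryTheory.Limits in
/-- Let f : X ⟶ Y be a morphism of schemes, x a point of X, and (Y_i ⟶ Y) a finite family of closed
immersions whose images cover Y. If for every i the base change X ×_Y Y_i ⟶ Y_i is universally open
at every point lying over x, then f is universally open at x. -/
theorem result {X Y : Scheme.{u}} (f : X ⟶ Y) (x : X) {ι : Type w}
    [Finite ι] (T : ι → Scheme.{u}) (g : ∀ i, T i ⟶ Y) [∀ i, IsClosedImmersion (g i)]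
    (hcov : ⋃ i, Set.range (g i).base = Set.univ)
    (h : ∀ i, ∀ x' : ↥(pullback f (g i)), (pullback.fst f (g i)).base x' = x →
      EGA43.IsUnivOpenAt (pullback.snd f (g i)) x') :
    EGA43.IsUnivOpenAt f x := by
  intro Y' k x' hx'
  have hcl : ∀ i, IsClosedImmersion (pullback.snd (g i) k) := fun i =>
    MorphismProperty.pullback_snd _ _ inferInstance
  refine isOpenAt_of_finite_closed_cover (pullback.snd f k) x' (fun i => pullback (g i) k)
    (fun i => pullback.snd (g i) k) ?_ ?_
  · rw [Set.eq_univ_iff_forall]
    intro y'
    obtain ⟨i, hi⟩ : ∃ i, k.base y' ∈ Set.range (g i).base := by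
      have : k.base y' ∈ ⋃ i, Set.range (g i).base := by rw [hcov]; trivial
      exact Set.mem_iUnion.mp this
    refine Set.mem_iUnion.mpr ⟨i, ?_⟩
    have := Scheme.Pullback.range_snd (f := g i) (g := k)
    have h2 : y' ∈ Set.range (pullback.snd (g i) k) := by rw [this]; exact hi
    exact h2
  · intro i x₁' hx₁'
    let v := g i
    let a : pullback (pullback.snd f k) (pullback.snd v k) ⟶ pullback f v :=
      pullback.lift
        (pullback.fst (pullback.snd f k) (pullback.snd v k) ≫ pullback.fst f k)
        (pullback.snd (pullback.snd f k) (pullback.snd v k) ≫ pullback.fst v k)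
        (by
          rw [Category.assoc, Category.assoc, pullback.condition (f := f) (g := k),
            pullback.condition (f := v) (g := k), ← Category.assoc, ← Category.assoc,
            pullback.condition])
    have ha1 : a ≫ pullback.fst f v =
        pullback.fst (pullback.snd f k) (pullback.snd v k) ≫ pullback.fst f k :=
      pullback.lift_fst _ _ _
    have ha2 : a ≫ pullback.snd f v =
        pullback.snd (pullback.snd f k) (pullback.snd v k) ≫ pullback.fst v k :=
      pullback.lift_snd _ _ _
    have sqbig : IsPullback (a ≫ pullback.fst f v)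
        (pullback.snd (pullback.snd f k) (pullback.snd v k)) f (pullback.fst v k ≫ v) := by
      rw [ha1, pullback.condition (f := v) (g := k)]
      exact (IsPullback.of_hasPullback (pullback.snd f k) (pullback.snd v k)).paste_horiz
        (IsPullback.of_hasPullback f k)
    have sq : IsPullback a (pullback.snd (pullback.snd f k) (pullback.snd v k))
        (pullback.snd f v) (pullback.fst v k) :=
      IsPullback.of_right sqbig ha2 (IsPullback.of_hasPullback f v)
    have hax : (pullback.fst f v).base (a.base x₁') = x := by
      have e1 : (pullback.fst f v) (a x₁') = (a ≫ pullback.fst f v) x₁' :=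
        (Scheme.Hom.comp_apply _ _ _).symm
      show (pullback.fst f v) (a x₁') = x
      rw [e1, ha1, Scheme.Hom.comp_apply]
      exact (congrArg (pullback.fst f k) hx₁').trans hx'
    exact Groth.Agent.H3.isOpenAt_snd_of_isPullback (h i _ hax) sq x₁' rfl

end Groth.Agent.S4929
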