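import Groth.Statements.S1640
import Groth.Agent.Lib.Helper8.SemiLocalVal
-- import your own Groth.Agent.* helpers here

set_option autoImplicit false
universe u
open Variety

namespace Groth.Agent.S1640

open Function IsDedekindDomain Groth.Agent.H8

/-- Let K be a field, A ⊆ K a subring with fraction field K, and B_1, …, B_r ⊆ K Noetherian
one-dimensional subrings with finitely many maximal ideals and fraction field K, such that for each
i the subring generated by A and B_i is all of K. Then some nonzero x ∈ A has x⁻¹ lying in B_i and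
in the Jacobson radical of B_i for every i. -/
theorem result (K : Type u) [Field K] (A : Subring K) [IsFractionRing A K]
    (r : ℕ) (B : Fin r → Subring K) [∀ i, IsNoetherianRing (B i)] [∀ i, IsFractionRing (B i) K]
    (hdim : ∀ i, ringKrullDim (B i) = 1) (hsl : ∀ i, Finite (MaximalSpectrum (B i)))
    (hgen : ∀ i, A ⊔ B i = ⊤) :
    ∃ x : K, x ∈ A ∧ x ≠ 0 ∧ ∀ i, ∃ hx : x⁻¹ ∈ B i, (⟨x⁻¹, hx⟩ : B i) ∈ (⊥ : Ideal (B i)).jacobson := by
  classical
  haveI hK1 : ∀ i, Ring.KrullDimLE 1 (B i) := fun i =>
    Ring.krullDimLE_iff.mpr (by rw [hdim i]; rfl)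
  have hnf : ∀ i, ¬ IsField (B i) := fun i h => by
    have := ringKrullDim_eq_zero_of_isField h
    rw [hdim i] at this
    exact one_ne_zero this
  haveI hD : ∀ i, IsDedekindDomain (integralClosure (B i) K) := fun i =>
    SL1.isDedekindDomain_integralClosure (B i) K
  haveI hF : ∀ i, IsFractionRing (integralClosure (B i) K) K := fun i =>
    integralClosure.isFractionRing_of_finite_extension K K
  haveI hfinM : ∀ i, Finite (MaximalSpectrum (integralClosure (B i) K)) := fun i =>
    SL1.finite_maximalSpectrum_integralClosure (B i) K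
  haveI hfinH : ∀ i, Finite (HeightOneSpectrum (integralClosure (B i) K)) := fun i =>
    Finite.of_injective (fun v : HeightOneSpectrum (integralClosure (B i) K) =>
      (⟨v.asIdeal, v.isMaximal⟩ : MaximalSpectrum (integralClosure (B i) K)))
      (fun v w h => HeightOneSpectrum.ext (congrArg MaximalSpectrum.asIdeal h))
  let ι := Σ i : Fin r, HeightOneSpectrum (integralClosure (B i) K)
  haveI : Finite ι := inferInstance
  haveI : Fintype ι := Fintype.ofFinite ι
  let w : ι → Valuation K (WithZero (Multiplicative ℤ)) := fun j => j.2.valuation K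
  have hex : ∀ j ∈ (Finset.univ : Finset ι), ∃ a ∈ A, 1 < w j a := by
    rintro ⟨i, v⟩ -
    by_contra hcon
    push Not at hcon
    have hA : A ≤ (v.valuation K).valuationSubring.toSubring := fun a ha => hcon a ha
    have hBi : B i ≤ (v.valuation K).valuationSubring.toSubring := fun b hb => by
      have := v.valuation_le_one (K := K) (⟨b, isIntegral_algebraMap (x := (⟨b, hb⟩ : B i))⟩ :
        integralClosure (B i) K)
      exact this
    have htop : (⊤ : Subring K) ≤ (v.valuation K).valuationSubring.toSubring := by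
      rw [← hgen i]; exact sup_le hA hBi
    obtain ⟨π, hπ⟩ := v.valuation_exists_uniformizer K
    have h1 : v.valuation K π⁻¹ ≤ 1 := htop (Subring.mem_top _)
    rw [map_inv₀, hπ] at h1
    have h2 : (1 : WithZero (Multiplicative ℤ)) < (WithZero.exp (-1 : ℤ))⁻¹ := by
      rw [← WithZero.exp_neg, neg_neg, ← WithZero.exp_zero, WithZero.exp_lt_exp]
      exact zero_lt_one
    exact absurd h1 (not_le.2 h2)
  obtain ⟨x, hxA, hx0, hx⟩ := SL1.exists_forall_one_lt_valuation w A Finset.univ hex
  have hx' : ∀ i (v : HeightOneSpectrum (integralClosure (B i) K)), 1 < v.valuation K x :=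
    fun i v => hx ⟨i, v⟩ (Finset.mem_univ _)
  choose m hm0 hm using fun i => SL1.exists_pos_pow_mem_range (hnf i) x (hx' i)
  let n := ∏ i, m i
  refine ⟨x ^ n, A.pow_mem hxA n, pow_ne_zero n hx0, fun i => ?_⟩
  have hdvd : m i ∣ n := Finset.dvd_prod_of_mem m (Finset.mem_univ i)
  obtain ⟨k, hk⟩ := hdvd
  have hkpos : 0 < k := by
    rcases Nat.eq_zero_or_pos k with h | h
    · exfalso
      have hn0 : n ≠ 0 := Finset.prod_ne_zero_iff.2 fun i _ => (hm0 i).ne'
      rw [hk, h, mul_zero] at hn0
      exact hn0 rfl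
    · exact h
  obtain ⟨b, hb, hbJ⟩ := hm i k hkpos
  have hbx : (b : K) = (x ^ n)⁻¹ := by
    have : algebraMap (B i) K b = (b : K) := rfl
    rw [← this, hb, hk, inv_pow]
  refine ⟨hbx ▸ b.2, ?_⟩
  convert hbJ
  exact hbx.symm

end Groth.Agent.S1640
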