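import Groth.Statements.S0032
import Groth.Agent.Lib.Lead.QCQS.Main
import Groth.Agent.Lib.Lead.Top.LerayTop
import Groth.Agent.Lib.Lead.QCQS.ExtIso

set_option autoImplicit false
universe u
open Coherent

namespace Groth.Agent.S0032

open AlgebraicGeometry CategoryTheory Opposite in
/-- Let f : X → S be quasi-compact and quasi-separated with S affine, and F quasi-coherent on X. Then
H^q(X, F) is isomorphic to the global sections of R^q f_* F (higher direct image of the underlying
abelian sheaf), for every q. -/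
theorem result {X S : Scheme.{u}} (f : X ⟶ S)
    [QuasiCompact f] [QuasiSeparated f] [IsAffine S] (M : X.Modules) [Coh.IsQCoh M] (q : ℕ) :
    Nonempty (Coh.HH X M q ≃+ ↑(((Coh.RpushAb f q).obj (Coh.toAb M)).obj.obj (op ⊤))) := by
  haveI := LD.QCQS.hasInjRes X
  apply LD.TopLeray.nonempty_H_addEquiv f.base (Coh.toAb M) ?_ q
  intro p q'
  obtain ⟨e⟩ := LD.RP.nonempty_toAb_Rpush_iso f M q'
  haveI hqc : ((Coh.Rpush f q').obj M).IsQuasicoherent := LD.QCQS.qc_Rpush f M q'
  have h1 : Subsingleton (CategoryTheory.Abelian.Ext (LD.SC.ZU (LD.SC.JX S) ⊤)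
      (Coh.toAb ((Coh.Rpush f q').obj M)) (p + 1)) :=
    LD.SC.subsingleton_ext_of_isAffineOpen ((Coh.Rpush f q').obj M) p ⊤ (AlgebraicGeometry.isAffineOpen_top S)
  have h2 : Subsingleton (CategoryTheory.Sheaf.H (Coh.toAb ((Coh.Rpush f q').obj M)) (p + 1)) :=
    LD.SC.subsingleton_H_of_subsingleton_ext (T := (⊤ : S.Opens)) CategoryTheory.Limits.isTerminalTop _ _ h1
  exact LD.QCQS.subsingleton_H_of_iso e (p + 1) h2

end Groth.Agent.S0032
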