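import Groth.Statements.S19434
import Groth.Agent.Lib.Helper2.HypCohB

set_option autoImplicit false
universe u
open Coherent

namespace Groth.Agent.S19434

open CategoryTheory CategoryTheory.Limits AlgebraicGeometry in
/-- Let F be a field, d ≥ 1, k ≥ 1, P = P^{d+1}_F, and X ⊆ P a hypersurface of degree k: a closed
subscheme (ideal sheaf I) whose ideal sheaf is isomorphic, as an O_P-module, to O_P(-k) —
equivalently X is cut out by one nonzero form q of degree k, with homogeneous coordinate ring A =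
F[x_0, …, x_{d+1}]/(q), whose degree-m piece has dimension a(m) = C(m+d+1, d+1) - C(m-k+d+1, d+1) (a
binomial coefficient with a negative upper entry read as 0). For an integer n let O_X(n) denote the
O_P-module O_X ⊗ O_P(n). Then H^p(P, O_X(n)) vanishes for every p different from 0 and d, H^0(P,
O_X(n)) is a finite-dimensional F-vector space of dimension a(n), and H^d(P, O_X(n)) is
finite-dimensional of dimension a(k-2-d-n). Only the vanishing, the finiteness and the dimensions
are stated here; the identifications of H^0(P, O_X(n)) with A_n and of H^d(P, O_X(n)) with the dual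
of A_{k-2-d-n} are not. -/
theorem result (F : Type u) [Field F] (d k : ℕ)
    (hd : 1 ≤ d) (hk : 1 ≤ k) (I : (CohB1.ProjSpace (d + 1) F).IdealSheafData)
    (hI : Nonempty (ClSub.idealMod I ≅ Twist.twistProjSpace (d + 1) F (-(k : ℤ)))) (n : ℤ) :
    (∀ p : ℕ, p ≠ 0 → p ≠ d →
      Subsingleton (Coh.HH (CohB1.ProjSpace (d + 1) F)
        (CohB1.tensorMod (ClSub.quotMod I) (Twist.twistProjSpace (d + 1) F n)) p)) ∧
    (Module.Finite F (Coh.HH (CohB1.ProjSpace (d + 1) F)
        (CohB1.tensorMod (ClSub.quotMod I) (Twist.twistProjSpace (d + 1) F n)) 0) ∧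
      Module.finrank F (Coh.HH (CohB1.ProjSpace (d + 1) F)
        (CohB1.tensorMod (ClSub.quotMod I) (Twist.twistProjSpace (d + 1) F n)) 0) =
        (Nat.choose (n + ((d : ℤ) + 1)).toNat (d + 1) - Nat.choose (n - (k : ℤ) + ((d : ℤ) + 1)).toNat (d + 1))) ∧
    (Module.Finite F (Coh.HH (CohB1.ProjSpace (d + 1) F)
        (CohB1.tensorMod (ClSub.quotMod I) (Twist.twistProjSpace (d + 1) F n)) d) ∧
      Module.finrank F (Coh.HH (CohB1.ProjSpace (d + 1) F)
        (CohB1.tensorMod (ClSub.quotMod I) (Twist.twistProjSpace (d + 1) F n)) d) =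
        (Nat.choose (((k : ℤ) - 2 - (d : ℤ) - n) + ((d : ℤ) + 1)).toNat (d + 1) - Nat.choose (((k : ℤ) - 2 - (d : ℤ) - n) - (k : ℤ) + ((d : ℤ) + 1)).toNat (d + 1))) := by
  have hvan : ∀ (t : ℤ) (q : ℕ), q ≠ 0 → q ≠ d + 1 →
      Subsingleton (Coh.HH (CohB1.ProjSpace (d + 1) F) (Twist.twistProjSpace (d + 1) F t) q) :=
    fun t q h0 h1 => Groth.Agent.H2.HypCoh.subsingleton_mid_twist F d t q h0 h1
  refine ⟨?_, ?_, ?_⟩
  · intro p hp0 hpd
    by_cases hp : d < p
    · exact Groth.Agent.H2.HypCoh.hyp_top F d I k hI n p hp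
    · exact Groth.Agent.H2.HypCoh.hyp_vanish F d I k hI n p (hvan n p hp0 (by omega))
        (hvan (n - (k : ℤ)) (p + 1) (by omega) (by omega))
  · obtain ⟨hfin, hrk⟩ := Groth.Agent.H2.HypCoh.hyp_les F d I k hI n 0 (Or.inl rfl)
      (Or.inr (hvan n (0 + 1) (by omega) (by omega)))
    refine ⟨hfin, ?_⟩
    rw [Groth.Agent.H2.HypCoh.finrank_mid_twist F d n (0 + 1) (by omega) (by omega),
      Groth.Agent.H2.HypCoh.finrank_mid_twist F d (n - (k : ℤ)) (0 + 1) (by omega) (by omega),
      Groth.Agent.H2.HypCoh.finrank_H0_twist F d n,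
      Groth.Agent.H2.HypCoh.finrank_H0_twist F d (n - (k : ℤ))] at hrk
    omega
  · obtain ⟨hfin, hrk⟩ := Groth.Agent.H2.HypCoh.hyp_les F d I k hI n d
      (Or.inr (hvan (n - (k : ℤ)) d (by omega) (by omega)))
      (Or.inl (Groth.Agent.H2.HypCoh.hyp_top F d I k hI n (d + 1) (by omega)))
    refine ⟨hfin, ?_⟩
    rw [Groth.Agent.H2.HypCoh.finrank_mid_twist F d n d (by omega) (by omega),
      Groth.Agent.H2.HypCoh.finrank_mid_twist F d (n - (k : ℤ)) d (by omega) (by omega),
      Groth.Agent.H2.HypCoh.finrank_Htop_twist F d n,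
      Groth.Agent.H2.HypCoh.finrank_Htop_twist F d (n - (k : ℤ))] at hrk
    have e1 : ((k : ℤ) - 2 - (d : ℤ) - n) + ((d : ℤ) + 1) = -(n - (k : ℤ)) - 1 := by ring
    have e2 : ((k : ℤ) - 2 - (d : ℤ) - n) - (k : ℤ) + ((d : ℤ) + 1) = -n - 1 := by ring
    rw [e1, e2]
    omega

end Groth.Agent.S19434
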