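import Groth.Statements.S9819
import Groth.Agent.Lib.Lead.QC.SubExt

set_option autoImplicit false
universe u
open CategoryTheory CategoryTheory.Limits AlgebraicGeometry TopologicalSpace Opposite
open Props

namespace Groth.Agent.S9819

/-- On a quasi-compact quasi-separated scheme, every local section of a quasi-coherent module over an
affine open lies in some quasi-coherent submodule of finite type; hence the module is the directed
union of its quasi-coherent submodules of finite type. -/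
theorem result {X : Scheme.{u}} [CompactSpace X]
    [QuasiSeparatedSpace X] (F : X.Modules) [Coh.IsQCoh F] (U : X.affineOpens)
    (s : F.val.obj (op (U : X.Opens))) :
    ∃ (G : X.Modules) (i : G ⟶ F), Mono i ∧ Coh.IsQCoh G ∧ CohB1.IsFT G ∧
      ∃ g : G.val.obj (op (U : X.Opens)), (i.val.app (op (U : X.Opens))).hom g = s := by
  classical
  haveI hF : F.IsQuasicoherent := ‹Coh.IsQCoh F›
  have hU : IsAffineOpen (U : X.Opens) := U.2
  let s' : Γ(F, (U : X.Opens)) := s
  let N₁ : Submodule Γ(X, (U : X.Opens)) Γ(F, (U : X.Opens)) := Submodule.span _ {s'}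
  have hN₁ : N₁.FG := ⟨{s'}, by simp [N₁]⟩
  let G₀ : X.Modules := Groth.Agent.LD.QC.subGen F hU N₁
  let ι₀ : G₀ ⟶ F := Groth.Agent.LD.QC.subGenι F hU N₁
  haveI hG₀ : G₀.IsQuasicoherent := Groth.Agent.LD.QC.subGen_qc F hU N₁
  have hfinU : Module.Finite Γ(X, (U : X.Opens)) Γ(G₀, (U : X.Opens)) :=
    Groth.Agent.LD.QC.subGen_finite F hU N₁ hN₁
  have hfin : ∀ W : X.Opens, IsAffineOpen W → W ≤ (U : X.Opens) →
      Module.Finite Γ(X, W) Γ(G₀, W) := by
    intro W hW hWU
    apply Groth.Agent.LD.QC.finite_sections_of_locally G₀ hW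
    intro x _
    exact ⟨U, hU, hWU ‹x ∈ W›, hfinU⟩
  obtain ⟨G, u, hu, hG, hFT, hbij⟩ :=
    Groth.Agent.LD.QC.exists_sub_finiteType G₀ (U : X.Opens) hU.isCompact hfin
  refine ⟨G, u ≫ ι₀, mono_comp _ _, hG, hFT, ?_⟩
  obtain ⟨t, ht⟩ := (Groth.Agent.LD.QC.mem_range_subGenι_iff F hU N₁ s').mpr
    (Submodule.subset_span rfl)
  obtain ⟨g, hg⟩ := (hbij (U : X.Opens) le_rfl).2 t
  refine ⟨g, ?_⟩
  change ι₀.app (U : X.Opens) (u.app (U : X.Opens) g) = s'
  rw [hg]
  exact ht

end Groth.Agent.S9819
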