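import Groth.Statements.S0096
import Mathlib
import Groth.Agent.Lib.Helper1.EtLocSep2

set_option autoImplicit false
open CategoryTheory CategoryTheory.Limits AlgebraicGeometry Opposite
universe u
open EtBase

namespace Groth.Agent.S0096

namespace H1.S0096aux

open Groth.Agent.H1

set_option backward.isDefEq.respectTransparency false in
theorem main {X S : Scheme.{u}} (f : X ⟶ S) [IsFinite f] [FormallyUnramified f] (s : S) :
    ∃ (U : Scheme.{u}) (g : U ⟶ S) (_ : AlgebraicGeometry.Etale g) (u : U) (_ : g.base u = s)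
      (n : ℕ) (V : Fin n → Scheme.{u}) (c : ∀ j, V j ⟶ U) (_ : ∀ j, IsClosedImmersion (c j))
      (e : (∐ V) ≅ pullback f g), ∀ j, Sigma.ι V j ≫ e.hom ≫ pullback.snd f g = c j := by
  -- the fibre over s
  have hfib : (f ⁻¹' {s}).Finite := f.finite_preimage_singleton s
  let I := {y : X // f y = s}
  haveI : Finite I := hfib.to_subtype
  let m := Nat.card I
  let e0 : I ≃ Fin m := Finite.equivFin I
  let x : Fin m → X := fun i => (e0.symm i).1
  have hinj : Function.Injective x := fun i i' h => e0.symm.injective (Subtype.ext h)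
  have hs : ∀ i, f (x i) = s := fun i => (e0.symm i).2
  let W : X.Opens := ⊤
  have hxW : ∀ i, x i ∈ W := fun i => trivial
  haveI : IsIso W.ι := by
    have : W.ι = X.topIso.hom := rfl
    rw [this]; infer_instance
  haveI : IsFinite W.ι := inferInstance
  haveI : IsFinite (W.ι ≫ f) := inferInstance
  haveI : LocallyOfFiniteType (W.ι ≫ f) := inferInstance
  haveI : FormallyUnramified (W.ι ≫ f) :=
    MorphismProperty.comp_mem _ _ _ inferInstance inferInstance
  obtain ⟨U, g, u, hg, hgu, n, Wc, V, h1, h2, h3, h4, h5, h6⟩ :=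
    EtLocSep2.sep_main' (Q := @IsClosedImmersion)
      (fun ψ V hψ => by haveI := hψ; infer_instance) f s x hinj hs W hxW
      (by
        intro U g V u v hfin hv huniq hres
        haveI := hfin
        haveI : FormallyUnramified (pullback.snd (W.ι ≫ f) g) :=
          MorphismProperty.pullback_snd (P := @FormallyUnramified) _ _ inferInstance
        haveI : FormallyUnramified (V.ι ≫ pullback.snd (W.ι ≫ f) g) :=
          MorphismProperty.comp_mem _ _ _ inferInstance inferInstance
        exact SchemeCI.exists_isClosedImmersion _ u v hv huniq hres)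
  have hWc : ∀ w : ↑(pullback f g), w ∉ Wc := by
    intro w
    refine h6 ?_ ?_ w trivial
    · intro U g
      haveI : IsFinite (pullback.snd (W.ι ≫ f) g) := inferInstance
      exact (pullback.snd (W.ι ≫ f) g).isClosedMap
    · intro y _ hy
      refine ⟨e0 ⟨y, hy⟩, ?_⟩
      simp [x]
  let V' : Fin n → Scheme.{u} := fun k => (V k : Scheme.{u})
  let α : ∀ k, V' k ⟶ pullback f g := fun k => (V k).ι
  haveI : ∀ k, IsOpenImmersion (α k) := fun k => inferInstanceAs (IsOpenImmersion (V k).ι)
  haveI : IsOpenImmersion (Sigma.desc α) := by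
    refine isOpenImmersion_sigmaDesc _ _ (fun k k' hne => ?_)
    change Disjoint (Set.range (V k).ι) (Set.range (V k').ι)
    rw [Scheme.Opens.range_ι, Scheme.Opens.range_ι]
    have := h3 k k' hne
    rw [Set.disjoint_iff]
    intro z ⟨hz1, hz2⟩
    have hz : z ∈ (V k ⊓ V k' : (pullback f g).Opens) := ⟨hz1, hz2⟩
    rw [disjoint_iff.mp this] at hz
    exact hz
  haveI : IsIso (Sigma.desc α) := by
    rw [isIso_iff_isOpenImmersion_and_surjective]
    refine ⟨inferInstance, ⟨fun w => ?_⟩⟩
    have hw : w ∈ Wc ⊔ ⨆ k, V k := by rw [h1]; trivial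
    rcases hw with hw | hw
    · exact (hWc w hw).elim
    · obtain ⟨k, hk⟩ := TopologicalSpace.Opens.mem_iSup.mp hw
      let w' : ↥(V' k) := ⟨w, hk⟩
      refine ⟨Sigma.ι V' k w', ?_⟩
      rw [← Scheme.Hom.comp_apply, Sigma.ι_desc]
      rfl
  refine ⟨U, g, hg, u, hgu, n, V', fun k => (V k).ι ≫ pullback.snd f g, fun k => (h4 k).1,
    asIso (Sigma.desc α), fun j => ?_⟩
  rw [asIso_hom, Sigma.ι_desc_assoc]

end H1.S0096aux

/-- A finite unramified morphism becomes, after base change to a suitable étale neighbourhood of any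
point of the base, a finite disjoint union of closed immersions. -/
theorem result {X S : Scheme.{u}} (f : X ⟶ S) [IsFinite f] [FormallyUnramified f] (s : S) :
    ∃ (U : Scheme.{u}) (g : U ⟶ S) (_ : AlgebraicGeometry.Etale g) (u : U) (_ : g.base u = s)
      (n : ℕ) (V : Fin n → Scheme.{u}) (c : ∀ j, V j ⟶ U) (_ : ∀ j, IsClosedImmersion (c j))
      (e : (∐ V) ≅ pullback f g), ∀ j, Sigma.ι V j ≫ e.hom ≫ pullback.snd f g = c j := by
  exact H1.S0096aux.main f s

end Groth.Agent.S0096
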