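import Groth.Statements.S5172
import Groth.Agent.Lib.Helper6.LDLoc8

set_option autoImplicit false
universe u
open LocCoh

namespace Groth.Agent.S5172

/-- Let A be a Noetherian ring which is a quotient of a regular ring, I an ideal, M a finite A-module
and n ≥ 0; c(p) = codim(V(p) ∩ V(I), V(p)). Then depth M_p > n − c(p) for all primes p ⊉ I if and
only if depth M_p ≥ n for all primes p ⊉ I with c(p) = 1. -/
theorem result (R : Type u) [CommRing R] [IsRegularRing R] (A : Type u) [CommRing A] [IsNoetherianRing A] (π : R →+* A) (hπ : Function.Surjective π) (I : Ideal A) (M : Type u) [AddCommGroup M] [Module A M] [Module.Finite A M] (n : ℕ) : (∀ p : PrimeSpectrum A, ¬ I ≤ p.asIdeal → (n : ℕ∞) < LocCoh.depth (Localization.AtPrime p.asIdeal) (LocalizedModule p.asIdeal.primeCompl M) + SGA2.relCodim I p) ↔ (∀ p : PrimeSpectrum A, ¬ I ≤ p.asIdeal → SGA2.relCodim I p = 1 → (n : ℕ∞) ≤ LocCoh.depth (Localization.AtPrime p.asIdeal) (LocalizedModule p.asIdeal.primeCompl M)) := by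
  letI : Algebra R A := π.toAlgebra
  letI : Module R M := Module.compHom M π
  haveI : IsScalarTower R A M :=
    ⟨fun r a m => by change (π r * a) • m = π r • (a • m); rw [mul_smul]⟩
  have hπ' : Function.Surjective (algebraMap R A) := hπ
  have inst1 : ∀ p : PrimeSpectrum A, IsNoetherianRing (Localization.AtPrime p.asIdeal) :=
    fun p => IsLocalization.isNoetherianRing p.asIdeal.primeCompl _ inferInstance
  have inst2 : ∀ p : PrimeSpectrum A, Module.Finite (Localization.AtPrime p.asIdeal)
      (LocalizedModule p.asIdeal.primeCompl M) :=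
    fun p => Module.Finite.of_isLocalizedModule p.asIdeal.primeCompl
      (LocalizedModule.mkLinearMap p.asIdeal.primeCompl M)
  constructor
  · intro H p hp hc
    haveI := inst1 p
    haveI := inst2 p
    have h1 := H p hp
    rw [hc] at h1
    generalize LocCoh.depth (Localization.AtPrime p.asIdeal)
      (LocalizedModule p.asIdeal.primeCompl M) = D at h1 ⊢
    induction D using ENat.recTopCoe with
    | top => exact le_top
    | coe D =>
      have h3 : n < D + 1 := by exact_mod_cast h1
      exact_mod_cast (by omega : n ≤ D)
  · intro H1 p hp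
    haveI := inst1 p
    haveI := inst2 p
    induction hc : SGA2.relCodim I p using ENat.recTopCoe with
    | top => simp
    | coe c =>
      rw [Groth.Agent.H6.LDL.lt_depth_add_iff (LocalizedModule p.asIdeal.primeCompl M) c n]
      intro j hj
      refine Groth.Agent.H6.LDL.codim_reduction hπ' M I (j + c) ?_ p hp c j hc rfl
      intro p' hp' hc' j' hj'
      haveI := inst1 p'
      haveI := inst2 p'
      have h1 := H1 p' hp' hc'
      have h2 : (n : ℕ∞) < LocCoh.depth (Localization.AtPrime p'.asIdeal)
          (LocalizedModule p'.asIdeal.primeCompl M) + (1 : ℕ) := by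
        generalize LocCoh.depth (Localization.AtPrime p'.asIdeal)
          (LocalizedModule p'.asIdeal.primeCompl M) = D at h1 ⊢
        induction D using ENat.recTopCoe with
        | top => simp
        | coe D =>
          have h3 : n ≤ D := by exact_mod_cast h1
          exact_mod_cast (by omega : n < D + 1)
      exact (Groth.Agent.H6.LDL.lt_depth_add_iff (LocalizedModule p'.asIdeal.primeCompl M) 1 n).mp h2 j' (by omega)

end Groth.Agent.S5172
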