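import Groth.Statements.S6587
import Mathlib

set_option autoImplicit false
universe v u
open CategoryTheory CategoryTheory.Limits Opposite
open CohDer

namespace Groth.Agent.S6587


open CategoryTheory.Pretriangulated in
/-- Let D be a triangulated category and let X_n → Y_n → Z_n → X_n⟦1⟧ be an inverse system of
distinguished triangles of D indexed by ℕ (levelwise maps f, g, h of inverse systems, each level
distinguished). If the inverse system (Z_n) is pro-zero, then the levelwise map f : (X_n) → (Y_n) is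
a pro-isomorphism. -/
theorem result {D : Type u} [Category.{v} D] [Preadditive D] [HasZeroObject D] [HasShift D ℤ]
    [∀ n : ℤ, (shiftFunctor D n).Additive] [Pretriangulated D] [IsTriangulated D]
    (X Y Z : ARSys.PS D) (f : X ⟶ Y) (g : Y ⟶ Z) (h : Z ⟶ X ⋙ shiftFunctor D (1 : ℤ))
    (hT : ∀ n : ℕ, Triangle.mk (f.app (op n)) (g.app (op n)) (h.app (op n)) ∈ distinguishedTriangles)
    (hZ : DerCA.IsProZero Z) :
    DerCA.IsProIso f := by
  intro n
  obtain ⟨m1, h1, hz1⟩ := hZ n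
  obtain ⟨m2, h2, hz2⟩ := hZ m1
  have h12 : n ≤ m2 := h1.trans h2
  -- factor trY(m2→m1) through f_m1
  have hg0 : ARSys.tr Y h2 ≫ g.app (op m1) = 0 := by
    have := g.naturality (homOfLE h2).op
    change ARSys.tr Y h2 ≫ g.app (op m1) = g.app (op m2) ≫ ARSys.tr Z h2 at this
    rw [this, hz2, comp_zero]
  obtain ⟨b2, hb2⟩ : ∃ b2 : Y.obj (op m2) ⟶ X.obj (op m1), ARSys.tr Y h2 = b2 ≫ f.app (op m1) :=
    Triangle.coyoneda_exact₂ _ (hT m1) (ARSys.tr Y h2) hg0
  -- the defect
  have hfn : ∀ {a b : ℕ} (hab : a ≤ b), ARSys.tr X hab ≫ f.app (op a) = f.app (op b) ≫ ARSys.tr Y hab :=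
    fun hab => f.naturality (homOfLE hab).op
  have hd : (f.app (op m2) ≫ b2 - ARSys.tr X h2) ≫ f.app (op m1) = 0 := by
    rw [Preadditive.sub_comp, Category.assoc, ← hb2, hfn h2, sub_self]
  have hd' : (shiftFunctor D (1 : ℤ)).map (f.app (op m2) ≫ b2 - ARSys.tr X h2) ≫
      (shiftFunctor D (1 : ℤ)).map (f.app (op m1)) = 0 := by
    rw [← Functor.map_comp, hd, Functor.map_zero]
  obtain ⟨e, he⟩ : ∃ e : (shiftFunctor D (1 : ℤ)).obj (X.obj (op m2)) ⟶ Z.obj (op m1),
      (shiftFunctor D (1 : ℤ)).map (f.app (op m2) ≫ b2 - ARSys.tr X h2) = e ≫ h.app (op m1) :=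
    Triangle.coyoneda_exact₁ _ (hT m1) _ hd'
  have hkill : (f.app (op m2) ≫ b2 - ARSys.tr X h2) ≫ ARSys.tr X h1 = 0 := by
    apply (shiftFunctor D (1 : ℤ)).map_injective
    rw [Functor.map_comp, he, Functor.map_zero, Category.assoc]
    have := h.naturality (homOfLE h1).op
    change ARSys.tr Z h1 ≫ h.app (op n) = h.app (op m1) ≫ (shiftFunctor D (1 : ℤ)).map (ARSys.tr X h1) at this
    rw [← this, hz1, zero_comp, comp_zero]
  have htrX : ARSys.tr X h2 ≫ ARSys.tr X h1 = ARSys.tr X h12 := by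
    simp only [ARSys.tr, ← X.map_comp]; rfl
  have htrY : ARSys.tr Y h2 ≫ ARSys.tr Y h1 = ARSys.tr Y h12 := by
    simp only [ARSys.tr, ← Y.map_comp]; rfl
  refine ⟨m2, h12, b2 ≫ ARSys.tr X h1, ?_, ?_⟩
  · rw [Preadditive.sub_comp, sub_eq_zero, Category.assoc, htrX] at hkill
    exact hkill
  · rw [Category.assoc, hfn h1, ← Category.assoc, ← hb2, htrY]

end Groth.Agent.S6587
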