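import Groth.Statements.S12482
import Groth.Agent.Lib.Helper2.QuasiReg

set_option autoImplicit false
universe u
open Dual

namespace Groth.Agent.S12482

/-- Let `A` be a commutative ring, `x_1, …, x_p` a sequence of elements of `A` such that each `x_i` is a
non-zero-divisor on `A/(x_1, …, x_{i-1})`, and `J` the ideal generated by the `x_i`. Then `J/J²` is
a free `(A/J)`-module with basis the classes of the `x_i`: there is a basis of `J/J²` over `A/J`,
indexed by `1, …, p`, whose `i`-th vector is the class of `x_i`. (The other assertions of the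
published statement, on the Koszul complex and on Ext and Tor against `A/J`, are stated separately.) -/
theorem result (A : Type u) [CommRing A] (p : ℕ) (x : Fin p → A)
    (hreg : RingTheory.Sequence.IsWeaklyRegular A (List.ofFn x)) :
    ∃ b : Module.Basis (Fin p) (A ⧸ Ideal.span (Set.range x)) (Ideal.span (Set.range x)).Cotangent,
      ∀ i, b i = (Ideal.span (Set.range x)).toCotangent ⟨x i, Ideal.subset_span (Set.mem_range_self i)⟩ := by
  classical
  set J : Ideal A := Ideal.span (Set.range x) with hJ
  let v : Fin p → J.Cotangent := fun i =>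
    J.toCotangent ⟨x i, Ideal.subset_span (Set.mem_range_self i)⟩
  have hsmul : ∀ (c : A) (w : J.Cotangent), (Ideal.Quotient.mk J c) • w = c • w := by
    intro c w
    rw [← Ideal.Quotient.algebraMap_eq, algebraMap_smul]
  have hli : LinearIndependent (A ⧸ J) v := by
    rw [Fintype.linearIndependent_iff]
    intro g hg i
    choose c hc using fun i => Ideal.Quotient.mk_surjective (g i)
    have h1 : ∑ i, g i • v i = J.toCotangent
        (∑ i, c i • (⟨x i, Ideal.subset_span (Set.mem_range_self i)⟩ : J)) := by
      rw [map_sum]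
      refine Finset.sum_congr rfl (fun i _ => ?_)
      rw [← hc i, hsmul, map_smul]
    rw [h1, Ideal.toCotangent_eq_zero] at hg
    have h2 : ((∑ i, c i • (⟨x i, Ideal.subset_span (Set.mem_range_self i)⟩ : J) : J) : A) =
        ∑ i, c i * x i := by
      rw [Submodule.coe_sum]
      rfl
    rw [h2] at hg
    have h3 := Groth.Agent.H2.QuasiReg.coeff_mem_of_sum_mem_sq x hreg c hg i
    rw [← hc i]
    exact Ideal.Quotient.eq_zero_iff_mem.mpr h3
  have hsp : ⊤ ≤ Submodule.span (A ⧸ J) (Set.range v) := by
    intro w _
    obtain ⟨⟨y, hy⟩, rfl⟩ := J.toCotangent_surjective w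
    obtain ⟨c, hcy⟩ := Ideal.mem_span_range_iff_exists_fun.mp hy
    have h1 : (⟨y, hy⟩ : J) = ∑ i, c i • (⟨x i, Ideal.subset_span (Set.mem_range_self i)⟩ : J) := by
      apply Subtype.ext
      rw [Submodule.coe_sum]
      exact hcy.symm
    rw [h1, map_sum]
    refine Submodule.sum_mem _ (fun i _ => ?_)
    rw [map_smul, ← hsmul]
    exact Submodule.smul_mem _ _ (Submodule.subset_span (Set.mem_range_self i))
  refine ⟨Module.Basis.mk hli hsp, fun i => ?_⟩
  rw [Module.Basis.mk_apply]

end Groth.Agent.S12482
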