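import Groth.Statements.S1305
import Mathlib
import Groth.Agent.Lib.Helper1.ThickAff6

set_option autoImplicit false
universe u
open FlatMor

namespace Groth.Agent.S1305

namespace Aux
open Polynomial in
lemma isIntegral_of_square {B' B C' C : Type*} [CommRing B'] [CommRing B] [CommRing C'] [CommRing C]
    (φ' : B' →+* C') (β : B' →+* B) (φ : B →+* C) (γ : C' →+* C)
    (hcomm : γ.comp φ' = φ.comp β) (hβ : Function.Surjective β)
    (hγ : RingHom.ker γ ≤ nilradical C') (hφ : φ.IsIntegral) : φ'.IsIntegral := by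
  intro c'
  obtain ⟨p, hp, hpc⟩ := hφ (γ c')
  obtain ⟨p', hp'map, -, hp'monic⟩ := Polynomial.lifts_and_natDegree_eq_and_monic
    ((Polynomial.mem_lifts _).mpr (Polynomial.map_surjective β hβ p)) hp
  have hz : γ (p'.eval₂ φ' c') = 0 := by
    rw [Polynomial.hom_eval₂, hcomm, ← Polynomial.eval₂_map, hp'map]
    exact hpc
  obtain ⟨N, hN⟩ := hγ ((RingHom.mem_ker).mpr hz)
  exact ⟨p' ^ N, hp'monic.pow N, by rw [Polynomial.eval₂_pow]; exact hN⟩
end Aux

open AlgebraicGeometry CategoryTheory Limits in
/-- For a morphism of thickenings, that is a commutative square whose horizontal maps are thickenings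
(closed immersions that are surjective on points), the morphism between the thin schemes is integral
if and only if the morphism between the thick ones is. -/
theorem result {X X' S S' : Scheme.{u}} (iX : X ⟶ X') (iS : S ⟶ S') (f : X ⟶ S) (f' : X' ⟶ S')
    (hX : MoreMor.IsThickening iX) (hS : MoreMor.IsThickening iS) (w : iX ≫ f' = f ≫ iS) :
    IsIntegralHom f ↔ IsIntegralHom f' := by
  haveI := hX.1
  haveI := hS.1
  constructor
  · intro hf
    haveI : IsAffineHom f' :=
      (Groth.Agent.H1.ThickAff.isAffineHom_iff_of_thickening iX iS f f' hX.2.surj w).mp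
        inferInstance
    refine ⟨fun U hU => ?_⟩
    have hcongr := Scheme.Hom.congr_app w U
    have hopen : (iX ≫ f') ⁻¹ᵁ U = (f ≫ iS) ⁻¹ᵁ U := by rw [w]
    refine Aux.isIntegral_of_square (f'.app U).hom (iS.app U).hom
      ((X.presheaf.map (eqToHom hopen).op).hom.comp (f.app (iS ⁻¹ᵁ U)).hom)
      (iX.app (f' ⁻¹ᵁ U)).hom ?_ (iS.app_surjective U hU) ?_ ?_
    · have h1 : ((iX ≫ f').app U).hom = (iX.app (f' ⁻¹ᵁ U)).hom.comp (f'.app U).hom := by
        rw [Scheme.Hom.comp_app]; rfl
      have h2 : ((f ≫ iS).app U).hom = (f.app (iS ⁻¹ᵁ U)).hom.comp (iS.app U).hom := by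
        rw [Scheme.Hom.comp_app]; rfl
      refine h1.symm.trans ?_
      rw [hcongr, CommRingCat.hom_comp, h2, RingHom.comp_assoc]
      rfl
    · have hq : IsAffineOpen (f' ⁻¹ᵁ U) := hU.preimage f'
      have := Groth.Agent.H1.ThickAff.ker_le_nilradical_of_surjective iX hX.2.surj ⟨_, hq⟩
      rwa [Scheme.Hom.ker_apply] at this
    · refine RingHom.IsIntegral.trans _ _ (f.isIntegral_app _ (hU.preimage iS)) ?_
      exact RingHom.isIntegral_of_surjective _
        (ConcreteCategory.bijective_of_isIso (X.presheaf.map (eqToHom hopen).op)).2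
  · intro hf'
    haveI : IsIntegralHom (f ≫ iS) := by rw [← w]; infer_instance
    exact IsIntegralHom.of_comp f iS

end Groth.Agent.S1305
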