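import Groth.Statements.S5602
import Groth.Agent.Lib.Helper3.PCohAux

set_option autoImplicit false
universe w v u
open CategoryTheory CategoryTheory.Limits
open PCoh

namespace Groth.Agent.S5602

/-- Let C be an abelian category and C₀ a class of objects, closed under isomorphisms and quasi-stable
under kernels of epimorphisms. If E is strictly n-pseudo-coherent (bounded above, terms in C₀ from
degree n on) and H^i(E) = 0 for i > n, then H^n(E) is of C₀-finite type. -/
theorem result {C : Type u} [Category.{v} C] [Abelian C]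
    (P : ObjectProperty C) [P.IsClosedUnderIsomorphisms] (hqs : PCoh.IsQuasiStableUnderKernels P)
    (n : ℤ) (E : CochainComplex C ℤ) (hE : PCoh.IsStrictPC P n E)
    (hac : ∀ i : ℤ, n < i → IsZero (E.homology i)) :
    PCoh.IsOfFiniteType P (E.homology n) := by
  obtain ⟨⟨b, hb⟩, hP⟩ := hE
  have hex : ∀ i : ℕ, (H3.PCohAux.aug E n).ExactAt i := by
    intro i
    match i with
    | 0 => exact H3.PCohAux.aug_exactAt_zero E n
    | 1 => exact H3.PCohAux.aug_exactAt_one E n
    | (j + 2) =>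
      refine H3.PCohAux.aug_exactAt_succ_succ E n j (hac _ ?_)
      push_cast; omega
  have hbd : ∃ N : ℕ, ∀ i : ℕ, N < i → IsZero ((H3.PCohAux.aug E n).X i) := by
    refine ⟨(b - n).toNat + 1, fun i hi => ?_⟩
    obtain ⟨j, rfl⟩ : ∃ j, i = j + 1 := ⟨i - 1, by omega⟩
    exact hb (n + (j : ℤ)) (by omega)
  have hPK : ∀ i : ℕ, 1 ≤ i → P ((H3.PCohAux.aug E n).X i) := by
    intro i hi
    obtain ⟨j, rfl⟩ : ∃ j, i = j + 1 := ⟨i - 1, by omega⟩
    exact hP (n + (j : ℤ)) (by omega)
  obtain ⟨E₀, π, hE₀, hπ⟩ := hqs (H3.PCohAux.aug E n) hex hbd hPK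
  have h0 : n + ((0 : ℕ) : ℤ) = n := by simp
  have key : PCoh.IsOfFiniteType P (E.homology (n + ((0 : ℕ) : ℤ))) := by
    change E₀ ⟶ E.cycles (n + ((0 : ℕ) : ℤ)) at π
    haveI : Epi π := hπ
    exact ⟨E₀, π ≫ E.homologyπ _, hE₀, epi_comp _ _⟩
  rwa [h0] at key

end Groth.Agent.S5602
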