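import Groth.Statements.S9437
import Groth.Agent.Lib.Helper1.FlatMinimal
import Groth.Agent.Lib.Helper1.RegFlat
import Groth.Agent.Lib.Helper6.CMKit
import Groth.Agent.S2062

set_option autoImplicit false
universe u
open CAlg

namespace Groth.Agent.S9437

namespace Groth.Agent.S9437

open IsLocalRing TensorProduct

/-- `A_p` as the localized module of `A`. -/
noncomputable def locEquiv (A : Type u) [CommRing A] (p : Ideal A) [p.IsPrime] :
    LocalizedModule p.primeCompl A ≃ₗ[Localization.AtPrime p] Localization.AtPrime p :=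
  LinearEquiv.extendScalarsOfIsLocalization p.primeCompl (Localization.AtPrime p)
    (IsLocalizedModule.linearEquiv p.primeCompl (LocalizedModule.mkLinearMap p.primeCompl A)
      (Algebra.linearMap A (Localization.AtPrime p)))

theorem depth_fiber_eq_zero {T : Type u} [CommRing T] [IsLocalRing T] [IsNoetherianRing T]
    (J : Ideal T) (hJ : J ≠ ⊤) (hdim : ringKrullDim (T ⧸ J) = 0) :
    LocCoh.depth T (T ⧸ (J • ⊤ : Submodule T T)) = 0 := by
  have hJeq : (J • ⊤ : Submodule T T) = J := by rw [smul_eq_mul, Ideal.mul_top]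
  have he : LocCoh.depth T (T ⧸ (J • ⊤ : Submodule T T)) = LocCoh.depth T (T ⧸ J) :=
    Groth.Agent.H6.CM.idealDepth_eq_of_linearEquiv _ (Submodule.quotEquivOfEq _ _ hJeq)
  rw [he]
  haveI : Nontrivial (T ⧸ J) := Ideal.Quotient.nontrivial_iff.mpr hJ
  obtain ⟨P, hP⟩ := associatedPrimes.nonempty T (T ⧸ J)
  have h1 := Groth.Agent.H6.CM.depth_le_ringKrullDim_quotient (T ⧸ J) P hP
  have hJP : J ≤ P := by
    have := Groth.Agent.H6.CM.annihilator_le_of_mem_associatedPrimes hP
    rwa [Ideal.annihilator_quotient] at this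
  have h2 : ringKrullDim (T ⧸ P) ≤ ringKrullDim (T ⧸ J) :=
    ringKrullDim_le_of_surjective (Ideal.Quotient.factor hJP) (Ideal.Quotient.factor_surjective hJP)
  rw [hdim] at h2
  have h3 := h1.trans h2
  have h4 : ((LocCoh.depth T (T ⧸ J) : ℕ∞) : WithBot ℕ∞) ≤ ((0 : ℕ∞) : WithBot ℕ∞) := by
    exact_mod_cast h3
  have h5 : LocCoh.depth T (T ⧸ J) ≤ 0 := by exact_mod_cast h4
  exact le_antisymm h5 zero_le

theorem main (k : ℕ) (R : Type u) [CommRing R] (S : Type u) [CommRing S]
    [Algebra R S] [Module.FaithfullyFlat R S] [IsNoetherianRing S] (hS : LocCoh.HasSk k S S) :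
    IsNoetherianRing R ∧ LocCoh.HasSk k R R := by
  haveI hR : IsNoetherianRing R := Groth.Agent.H1.RegFlat.isNoetherianRing_of_faithfullyFlat R S
  refine ⟨hR, ?_⟩
  intro p _
  obtain ⟨q, hq, hover, hqmin, hht⟩ := Groth.Agent.H1.FlatMinimal.exists_liesOver_minimal R S p
  haveI := hq
  haveI := hover
  have hSq := hS q
  set Rp := Localization.AtPrime p
  set Sq := Localization.AtPrime q
  letI := Localization.AtPrime.algebraOfLiesOver p q
  haveI : IsLocalHom (algebraMap Rp Sq) := by
    rw [RingHom.algebraMap_toAlgebra]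
    exact Localization.isLocalHom_localRingHom p q (algebraMap R S) Ideal.LiesOver.over
  -- translate to the rings themselves
  rw [Module.supportDim_eq_of_equiv (locEquiv S q), Module.supportDim_self_eq_ringKrullDim,
    show LocCoh.depth Sq (LocalizedModule q.primeCompl S) = LocCoh.depth Sq Sq from
      Groth.Agent.H6.CM.idealDepth_eq_of_linearEquiv _ (locEquiv S q)] at hSq
  rw [Module.supportDim_eq_of_equiv (locEquiv R p), Module.supportDim_self_eq_ringKrullDim,
    show LocCoh.depth Rp (LocalizedModule p.primeCompl R) = LocCoh.depth Rp Rp from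
      Groth.Agent.H6.CM.idealDepth_eq_of_linearEquiv _ (locEquiv R p)]
  -- dimensions agree
  have hdim : ringKrullDim Sq = ringKrullDim Rp := by
    rw [IsLocalization.AtPrime.ringKrullDim_eq_height q Sq,
      IsLocalization.AtPrime.ringKrullDim_eq_height p Rp, hht]
  -- depths agree
  have hfib : (maximalIdeal Rp).map (algebraMap Rp Sq) =
      (p.map (algebraMap R S)).map (algebraMap S Sq) := by
    rw [← Localization.AtPrime.map_eq_maximalIdeal, Ideal.map_map, Ideal.map_map,
      ← IsScalarTower.algebraMap_eq, ← IsScalarTower.algebraMap_eq]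
  have hfib0 : ringKrullDim (Sq ⧸ (maximalIdeal Rp).map (algebraMap Rp Sq)) = 0 := by
    rw [hfib]
    exact Groth.Agent.H1.FlatMinimal.ringKrullDim_quotient_map_eq_zero _ q hqmin
  have hJtop : (maximalIdeal Rp).map (algebraMap Rp Sq) ≠ ⊤ := by
    intro h
    have h1 : (maximalIdeal Rp).map (algebraMap Rp Sq) ≤ maximalIdeal Sq :=
      ((IsLocalRing.local_hom_TFAE (algebraMap Rp Sq)).out 0 2 rfl rfl).mp inferInstance
    rw [h] at h1
    exact (maximalIdeal.isMaximal Sq).ne_top (top_le_iff.mp h1)
  have hdepth : LocCoh.depth Sq Sq = LocCoh.depth Rp Rp := by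
    have h1 := Groth.Agent.S2062.result (R := Rp) (S := Sq) (M := Rp) (N := Sq)
    rw [depth_fiber_eq_zero _ hJtop hfib0, add_zero] at h1
    rw [← h1]
    exact (Groth.Agent.H6.CM.idealDepth_eq_of_linearEquiv _
      (TensorProduct.AlgebraTensorModule.rid Rp Sq Sq)).symm
  rw [hdim, hdepth] at hSq
  exact hSq

end Groth.Agent.S9437

/-- Serre's condition (S_k) descends along faithfully flat ring maps: if S is faithfully flat over R,
Noetherian and (S_k), then R is Noetherian and (S_k). -/
theorem result (k : ℕ) (R : Type u) [CommRing R] (S : Type u) [CommRing S]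
    [Algebra R S] [Module.FaithfullyFlat R S] [IsNoetherianRing S] (hS : LocCoh.HasSk k S S) :
    IsNoetherianRing R ∧ LocCoh.HasSk k R R := by
  exact Groth.Agent.S9437.main k R S hS

end Groth.Agent.S9437
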