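import Groth.Statements.S0002
import Groth.Agent.Lib.Lead.PF.Assembly
import Groth.Agent.Lib.Helper1.ProjTw
import Groth.Agent.Lib.Helper2.LerayLin
import Groth.Agent.Lib.Helper5.ChowStalk

set_option autoImplicit false
universe u
open Coh

namespace Groth.Agent.S0002

open CategoryTheory AlgebraicGeometry in
/-- projective space commutes with base change, with the twisting sheaves (helper1). -/
theorem bcHyp (A : Type u) [CommRing A] : Groth.Agent.LD.PF.BCHyp A := fun N B _ φ =>
  ⟨{ bc := Groth.Agent.H1.ProjTw.projBC N φ
     isPullback := Groth.Agent.H1.ProjTw.isPullback_projBC N φ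
     twistIso := fun n => Groth.Agent.H1.ProjTw.projBCTwistIso N φ n }⟩

open CategoryTheory AlgebraicGeometry in
/-- the linear degenerate Leray isomorphism (helper2). -/
theorem lerayHyp (A : Type u) [CommRing A] : Groth.Agent.LD.PF.LerayHyp A :=
  fun _ _ _ _ π _ G h n => Groth.Agent.H2.nonempty_HH_pushforward_linearEquiv A π G h n

open CategoryTheory AlgebraicGeometry in
/-- generic stalk and support of the dévissage sheaf (helper5). -/
theorem stalkHyp : Groth.Agent.LD.PF.StalkHyp.{u} :=
  fun _ _ _ i _ _ π X₀ hX₀ hπ L hL hG =>
    ⟨Groth.Agent.H5.isSimpleModule_stalk_push_push i π X₀ hX₀ hπ L hL hG,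
      Groth.Agent.H5.support_push_push i π X₀ hX₀ hπ L hL hG⟩

open CategoryTheory AlgebraicGeometry in
/-- Finiteness of coherent cohomology over an affine base: if A is a Noetherian ring, X is a scheme
proper over Spec A and M is a coherent O_X-module, then each H^n(X, M) is a finite A-module.
(`Coh.IsCoh` is quasi-coherent of finite type, which is coherent here since X is locally
Noetherian.) -/
theorem result (A : Type u) [CommRing A] [IsNoetherianRing A] (X : Scheme.{u})
    [X.Over (Spec (CommRingCat.of A))] [IsProper (X ↘ Spec (CommRingCat.of A))]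
    (M : X.Modules) (hM : Coh.IsCoh M) (n : ℕ) : Module.Finite A (Coh.HH X M n) :=
  Groth.Agent.LD.PF.finite_HH_of_isProper A (bcHyp A) (lerayHyp A) stalkHyp X M hM n

end Groth.Agent.S0002
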