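import Groth.Statements.S0831
import Groth.Agent.Lib.Helper2.GXMainA
import Groth.Agent.Lib.Helper2.GXCovA

set_option autoImplicit false
universe u
open Formal2

namespace Groth.Agent.S0831

open CategoryTheory CategoryTheory.Limits AlgebraicGeometry Opposite in
/-- For the ideal sheaf J·O_Y of an ideal J of a base ring A (position n of a system holds the quotient
by J^(n+1)). Let Y be a Noetherian scheme over Spec A, K a quasi-coherent ideal sheaf on Y, and f :
X → Y a proper morphism over Spec A which restricts to an isomorphism over the complement of the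
support of K. Let (G_n) be a coherent formal module for J on Y, F a coherent O_X-module, and suppose
the pulled-back system (f^* G_n) is isomorphic to (F/J^nF). Then there is a map of systems (G_n) →
(f_*F/J^n f_*F) whose componentwise kernels and cokernels are annihilated by a fixed power of K. -/
theorem result (A : Type u) [CommRing A] (J : Ideal A) (X Y : Scheme.{u})
    [X.Over (Spec (CommRingCat.of A))] [Y.Over (Spec (CommRingCat.of A))] [IsNoetherian Y]
    (f : X ⟶ Y) [IsProper f] (hf : f ≫ (Y ↘ Spec (CommRingCat.of A)) = X ↘ Spec (CommRingCat.of A))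
    (K : Y.IdealSheafData) (hV : IsIso (f ∣_ K.support.compl))
    (G : ℕᵒᵖ ⥤ Y.Modules) (hG : Formal.IsCohFormal J G) (F : X.Modules) (hF : Coh.IsCoh F)
    (β : (G ⋙ Scheme.Modules.pullback f) ≅ Formal.completion J F) :
    ∃ α : G ⟶ Formal.completion J ((Scheme.Modules.pushforward f).obj F),
      Formal2.KerCokerKilledByPow K α := by
  obtain ⟨c, hc⟩ := Groth.Agent.H2.GX.exists_cmap J f hf F
  obtain ⟨α, hα⟩ := Groth.Agent.H2.GX.exists_alpha J f hf G hG F hF β c hc
  refine ⟨α, ?_⟩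
  obtain ⟨𝒰, h𝒰fin, h𝒰aff, h𝒰cov⟩ := Groth.Agent.LD.FF.exists_finite_affine_cover Y
  have hex : ∀ W : Y.Opens, ∃ T : ℕ, ∀ hW : IsAffineOpen W, ∀ (n : ℕ),
      ∀ κ₀ ∈ (K.ideal ⟨W, hW⟩) ^ T,
      (∀ x : Γ(G.obj (op n), W), (α.app (op n)).app W x = 0 → κ₀ • x = 0) ∧
      ∀ y : Γ((Formal.completion J ((Scheme.Modules.pushforward f).obj F)).obj (op n), W),
        ∃ z : Γ(G.obj (op n), W), (α.app (op n)).app W z = κ₀ • y := by
    intro W
    by_cases hW : IsAffineOpen W
    · obtain ⟨T, hT⟩ := Groth.Agent.H2.GX.exists_bound_affine J f hf K hV G hG F hF β c hc α hα W hW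
      exact ⟨T, fun _ => hT⟩
    · exact ⟨0, fun h => absurd h hW⟩
  choose Tf hTf using hex
  refine ⟨h𝒰fin.toFinset.sup Tf, fun n => ?_⟩
  have hH : Coh.IsCoh ((Scheme.Modules.pushforward f).obj F) :=
    Groth.Agent.H2.GX.isCoh_pushforward_proper f F hF
  apply Groth.Agent.H2.GX.killedByIdeal_kernel_cokernel (K ^ (h𝒰fin.toFinset.sup Tf + 1))
    (hG.1 n).1 (Groth.Agent.H2.FormalEq.isCoh_modPow J (n + 1) hH).1 (α.app (op n))
  intro x
  obtain ⟨W, hW, hx⟩ := h𝒰cov x
  refine ⟨W, h𝒰aff W hW, hx, fun κ hκ => ?_⟩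
  have hle : Tf W ≤ h𝒰fin.toFinset.sup Tf + 1 :=
    (Finset.le_sup (h𝒰fin.mem_toFinset.2 hW)).trans (Nat.le_succ _)
  have hκ' : κ ∈ (K.ideal ⟨W, h𝒰aff W hW⟩) ^ (h𝒰fin.toFinset.sup Tf + 1) := hκ
  exact hTf W (h𝒰aff W hW) n κ (Ideal.pow_le_pow_right hle hκ')

end Groth.Agent.S0831
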