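import Groth.Statements.S1833
import Mathlib
import Groth.Agent.Lib.Helper1.MultDev

set_option autoImplicit false
universe u v
open Pointwise
open CycAlg

namespace Groth.Agent.S1833

open Groth.Agent.H1.MultDev Groth.Agent.H1.Herbrand Groth.Agent.H1.SemiLocLen

theorem lt_closedPoint {R : Type u} [CommRing R] [IsLocalRing R] (q : PrimeSpectrum R)
    (hq : q ≠ IsLocalRing.closedPoint R) : q < IsLocalRing.closedPoint R :=
  lt_of_le_of_ne (IsLocalRing.le_maximalIdeal q.isPrime.ne_top) hq

/-- Let R be Noetherian local, M a finite R-module whose support has dimension at most 1, and x an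
element with M/xM supported in dimension ≤ 0. Then length(M/xM) = length(ker(x : M → M)) + Σ_q
ord_{R/q}(x) · length_{R_q}(M_q), the sum running over the primes q of the support other than the
maximal ideal (stated in ℕ∞; all terms are finite under the hypotheses). -/
theorem result (R : Type u) [CommRing R] [IsNoetherianRing R] [IsLocalRing R] (M : Type u) [AddCommGroup M] [Module R M] [Module.Finite R M] (x : R) (h1 : Module.supportDim R M ≤ 1) (h0 : Module.supportDim R (M ⧸ x • (⊤ : Submodule R M)) ≤ 0) : Module.length R (M ⧸ x • (⊤ : Submodule R M)) = Module.length R (LinearMap.ker (LinearMap.lsmul R M x)) + ∑ᶠ (p : PrimeSpectrum R) (_ : p ∈ Module.support R M ∧ p.asIdeal ≠ IsLocalRing.maximalIdeal R), Ring.ord (R ⧸ p.asIdeal) (Ideal.Quotient.mk p.asIdeal x) * Module.length (Localization.AtPrime p.asIdeal) (LocalizedModule p.asIdeal.primeCompl M) := by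
  set T := Module.support R M with hT
  -- closed point in support when nonempty
  have hcl : ∀ p ∈ T, IsLocalRing.closedPoint R ∈ T := by
    intro p hp
    haveI : Nontrivial M := by
      rw [← Module.nonempty_support_iff (R := R)]
      exact ⟨p, hp⟩
    exact IsLocalRing.closedPoint_mem_support R M
  have hA : ∀ p ∈ T, x ∈ p.asIdeal → p = IsLocalRing.closedPoint R := by
    intro p hp hxp
    by_contra hne
    have hpq : p ∈ Module.support R (QuotSMulTop x M) := by
      rw [Module.support_quotSMulTop]
      exact ⟨hp, by rw [PrimeSpectrum.mem_zeroLocus, Set.singleton_subset_iff]; exact hxp⟩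
    haveI : Nontrivial (QuotSMulTop x M) := by
      rw [← Module.nonempty_support_iff (R := R)]
      exact ⟨p, hpq⟩
    have hcq : IsLocalRing.closedPoint R ∈ Module.support R (QuotSMulTop x M) :=
      IsLocalRing.closedPoint_mem_support R _
    have : (0 : WithBot ℕ∞) < Module.supportDim R (QuotSMulTop x M) := by
      unfold Module.supportDim
      rw [Order.krullDim_pos_iff]
      exact ⟨⟨p, hpq⟩, ⟨_, hcq⟩, lt_closedPoint p hne⟩
    exact absurd h0 (not_le.mpr this)
  have hB : ∀ p ∈ T, ∀ q ∈ T, p < q → q = IsLocalRing.closedPoint R := by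
    intro p hp q hq hpq
    by_contra hne
    have hqm := lt_closedPoint q hne
    let c : LTSeries (Module.support R M) :=
      ((RelSeries.singleton _ (⟨_, hcl p hp⟩ : Module.support R M)).cons
        (⟨q, hq⟩ : Module.support R M) (by exact hqm)).cons (⟨p, hp⟩ : Module.support R M)
        (by exact hpq)
    have hlen : c.length = 2 := by simp [c]
    have := Order.LTSeries.length_le_krullDim c
    rw [hlen] at this
    have h2 : ((2 : ℕ) : WithBot ℕ∞) ≤ 1 := this.trans h1
    exact absurd h2 (by decide)
  -- finiteness of the index set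
  have hfinT : {p : PrimeSpectrum R | p ∈ T ∧ p ≠ IsLocalRing.closedPoint R}.Finite := by
    have hfm := Ideal.finite_minimalPrimes_of_isNoetherianRing R (Module.annihilator R M)
    refine Set.Finite.subset (hfm.preimage (f := PrimeSpectrum.asIdeal)
      (fun a _ b _ hab => PrimeSpectrum.ext hab)) ?_
    rintro p ⟨hp, hpm⟩
    refine ⟨⟨p.isPrime, (Module.mem_support_iff_of_finite.mp hp)⟩, ?_⟩
    rintro I ⟨hI, hIann⟩ hIp
    let q : PrimeSpectrum R := ⟨I, hI⟩
    have hq : q ∈ T := Module.mem_support_iff_of_finite.mpr hIann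
    by_contra hnle
    have hlt : q < p := lt_of_le_of_ne hIp (fun h => hnle (by rw [← h]))
    exact hpm (hB q hq p hp hlt)
  let s : Finset (PrimeSpectrum R) := hfinT.toFinset
  have hs : ∀ p, p ∈ s ↔ p ∈ T ∧ p ≠ IsLocalRing.closedPoint R := fun p => by
    simp [s]
  obtain ⟨⟨f1, f2⟩, hne, he⟩ := concl_of_support x T hA hB s hs M (le_refl _)
  rw [length_perH_mulx_zero] at f1
  rw [length_perH_zero_mulx] at f2
  unfold CycAlg.herbrand at he
  rw [length_perH_mulx_zero, length_perH_zero_mulx] at he
  have hsumeq : (∑ᶠ (p : PrimeSpectrum R) (_ : p ∈ Module.support R M ∧ p.asIdeal ≠ IsLocalRing.maximalIdeal R), Ring.ord (R ⧸ p.asIdeal) (Ideal.Quotient.mk p.asIdeal x) * Module.length (Localization.AtPrime p.asIdeal) (LocalizedModule p.asIdeal.primeCompl M)) = ∑ p ∈ s, term x p M := by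
    rw [← finsum_mem_coe_finset]
    apply finsum_congr
    intro p
    have hiff : (p ∈ Module.support R M ∧ p.asIdeal ≠ IsLocalRing.maximalIdeal R) ↔ p ∈ (s : Set (PrimeSpectrum R)) := by
      rw [Finset.mem_coe, hs]
      refine and_congr Iff.rfl (not_congr ?_)
      constructor
      · intro h; exact PrimeSpectrum.ext h
      · intro h; rw [h]; rfl
    classical
    rw [finsum_eq_if, finsum_eq_if]
    by_cases hp : p ∈ (s : Set (PrimeSpectrum R))
    · rw [if_pos (hiff.mpr hp), if_pos hp]; rfl
    · rw [if_neg (fun h => hp (hiff.mp h)), if_neg hp]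
  rw [hsumeq]
  change Module.length R (M ⧸ x • (⊤ : Submodule R M)) = Module.length R (LinearMap.ker (mulx x M)) + _
  generalize Module.length R (M ⧸ x • (⊤ : Submodule R M)) = a at *
  generalize Module.length R (LinearMap.ker (mulx x M)) = b at *
  generalize ∑ p ∈ s, term x p M = c at *
  lift a to ℕ using f2.ne
  lift b to ℕ using f1.ne
  lift c to ℕ using hne
  simp only [ENat.toNat_natCast] at he
  have : a = b + c := by omega
  rw [this]; push_cast; rfl

end Groth.Agent.S1833
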