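import Groth.Statements.S14347
import Mathlib
import Groth.Agent.H4.Fitting8
import Groth.Agent.H4.Fitting5

set_option autoImplicit false
universe u
open QuotLF

namespace Groth.Agent.S14347

open Groth.Agent.H4.Fitting

variable {R : Type u} [CommRing R] {m n : ℕ}

theorem sigma_apply (σ : (Fin m → R) →ₗ[R] (Fin n → R)) (v : Fin m → R) (i : Fin n) :
    σ v i = ∑ j, v j * σ (Pi.single j 1) i := by
  conv_lhs => rw [pi_eq_sum_univ' v, map_sum]
  rw [Finset.sum_apply]
  refine Finset.sum_congr rfl (fun j _ => ?_)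
  rw [map_smul, Pi.smul_apply, smul_eq_mul]

theorem span_mkQ_single (N : Submodule R (Fin n → R)) :
    Submodule.span R (Set.range (fun i : Fin n => N.mkQ (Pi.single i 1))) = ⊤ := by
  have h1 : Submodule.span R (Set.range (fun j : Fin n => (Pi.single j 1 : Fin n → R))) = ⊤ :=
    span_single_eq_top
  have : Set.range (fun i : Fin n => N.mkQ (Pi.single i 1)) =
      N.mkQ '' Set.range (fun j : Fin n => (Pi.single j 1 : Fin n → R)) := by
    rw [← Set.range_comp]; rfl
  rw [this, ← Submodule.map_span, h1, Submodule.map_top, Submodule.range_mkQ]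

theorem rel_mkQ_single (N : Submodule R (Fin n → R)) :
    rel (R := R) (fun i : Fin n => N.mkQ (Pi.single i 1)) = N := by
  ext z
  rw [mem_rel]
  have : ∑ i, z i • N.mkQ (Pi.single i 1) = N.mkQ z := by
    simp_rw [← map_smul, ← map_sum]
    congr 1
    ext k
    simp [Finset.sum_apply, Pi.single_apply]
  rw [this, Submodule.mkQ_apply, Submodule.Quotient.mk_eq_zero]

theorem range_eq_span (σ : (Fin m → R) →ₗ[R] (Fin n → R)) :
    Submodule.span R (Set.range (fun j : Fin m => σ (Pi.single j 1))) = LinearMap.range σ := by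
  have h1 : Submodule.span R (Set.range (fun j : Fin m => (Pi.single j 1 : Fin m → R))) = ⊤ :=
    span_single_eq_top
  have : Set.range (fun j : Fin m => σ (Pi.single j 1)) =
      σ '' Set.range (fun j : Fin m => (Pi.single j 1 : Fin m → R)) := by
    rw [← Set.range_comp]; rfl
  rw [this, ← Submodule.map_span, h1, Submodule.map_top]

/-- the ideal of `r × r` minors of the matrix of `σ` -/
def minors (σ : (Fin m → R) →ₗ[R] (Fin n → R)) (r : ℕ) : Ideal R :=
  Ideal.span {d | ∃ (c : Fin r → Fin m) (e : Fin r → Fin n),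
    d = (Matrix.of fun a b => σ (Pi.single (c b) 1) (e a)).det}

theorem fitt_coker (σ : (Fin m → R) →ₗ[R] (Fin n → R)) (l : ℕ) :
    Fitt.ideal R ((Fin n → R) ⧸ LinearMap.range σ) l = minors σ (n - l) := by
  rw [ideal_eq_Mi l _ (span_mkQ_single (LinearMap.range σ)),
    Mi_eq_of_span _ (fun j : Fin m => σ (Pi.single j 1))
      ((range_eq_span σ).trans (rel_mkQ_single _).symm)]
  rfl

theorem map_symm_range_dualMap (σ : (Fin m → R) →ₗ[R] (Fin n → R)) :
    Submodule.span R (Set.range (fun i : Fin n => (fun j : Fin m => σ (Pi.single j 1) i))) =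
      (LinearMap.range σ.dualMap).map (dotProductEquiv R (Fin m)).symm.toLinearMap := by
  apply le_antisymm
  · refine Submodule.span_le.mpr ?_
    rintro _ ⟨i, rfl⟩
    refine ⟨σ.dualMap (LinearMap.proj i), ⟨_, rfl⟩, ?_⟩
    ext j
    simp [dotProductEquiv]
  · rintro _ ⟨_, ⟨φ, rfl⟩, rfl⟩
    have : (dotProductEquiv R (Fin m)).symm.toLinearMap (σ.dualMap φ) =
        ∑ i, φ (Pi.single i 1) • (fun j : Fin m => σ (Pi.single j 1) i) := by
      ext j
      simp only [LinearEquiv.coe_coe, dotProductEquiv_symm_apply, LinearMap.dualMap_apply,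
        Finset.sum_apply, Pi.smul_apply, smul_eq_mul]
      conv_lhs => rw [pi_eq_sum_univ' (σ (LinearMap.single R (fun _ => R) j 1)), map_sum]
      refine Finset.sum_congr rfl (fun i _ => ?_)
      rw [map_smul, smul_eq_mul, mul_comm]
      rfl
    rw [this]
    exact Submodule.sum_mem _ (fun i _ => Submodule.smul_mem _ _ (Submodule.subset_span ⟨i, rfl⟩))

theorem fitt_coker_dual (σ : (Fin m → R) →ₗ[R] (Fin n → R)) (l : ℕ) :
    Fitt.ideal R (Module.Dual R (Fin m → R) ⧸ LinearMap.range σ.dualMap) l = minors σ (m - l) := by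
  let N' : Submodule R (Fin m → R) :=
    (LinearMap.range σ.dualMap).map (dotProductEquiv R (Fin m)).symm.toLinearMap
  have e : (Module.Dual R (Fin m → R) ⧸ LinearMap.range σ.dualMap) ≃ₗ[R] ((Fin m → R) ⧸ N') :=
    Submodule.Quotient.equiv _ _ (dotProductEquiv R (Fin m)).symm rfl
  rw [ideal_congr l e, ideal_eq_Mi l _ (span_mkQ_single N'),
    Mi_eq_of_span _ (fun i : Fin n => (fun j : Fin m => σ (Pi.single j 1) i))
      ((map_symm_range_dualMap σ).trans (rel_mkQ_single _).symm)]
  unfold minors
  apply le_antisymm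
  · refine Ideal.span_le.mpr ?_
    rintro d ⟨c, e, rfl⟩
    refine Ideal.subset_span ⟨e, c, ?_⟩
    rw [← Matrix.det_transpose]
    rfl
  · refine Ideal.span_le.mpr ?_
    rintro d ⟨c, e, rfl⟩
    refine Ideal.subset_span ⟨e, c, ?_⟩
    rw [← Matrix.det_transpose]
    rfl

theorem minors_eq_bot (σ : (Fin m → R) →ₗ[R] (Fin n → R)) (r : ℕ) (hr : m < r) :
    minors σ r = ⊥ := by
  rw [eq_bot_iff]
  refine Ideal.span_le.mpr ?_
  rintro d ⟨c, e, rfl⟩
  have : ¬ Function.Injective c := by
    intro hc
    have := Fintype.card_le_of_injective c hc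
    simp at this
    omega
  have : ∃ a a', a ≠ a' ∧ c a = c a' := by
    by_contra h
    push Not at h
    exact this (fun a a' haa => by_contra fun hne => h a a' hne haa)
  obtain ⟨a, a', hne, haa⟩ := this
  rw [SetLike.mem_coe, Ideal.mem_bot]
  refine Matrix.det_zero_of_column_eq hne ?_
  intro k
  simp [haa]

/-- Let R be a commutative ring and σ : R^m → R^n an injective linear map with cokernel M, so that M has
a length-one resolution by finite free modules and rank δ = n − m; let K be the cokernel of the dual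
map (R^n)^∨ → (R^m)^∨, which is the module Ext¹_R(M, R). Then the Fitting ideals satisfy Fit_{δ +
j}(M) = Fit_j(K) for all j ≥ 0, and Fit_i(M) = 0 for i < δ (the degeneracy loci of M and of K agree
after the shift by δ). -/
theorem result (R : Type u) [CommRing R] (m n : ℕ)
    (σ : (Fin m → R) →ₗ[R] (Fin n → R)) (hσ : Function.Injective σ) :
    (∀ j : ℕ, Fitt.ideal R ((Fin n → R) ⧸ LinearMap.range σ) (n - m + j) =
        Fitt.ideal R (Module.Dual R (Fin m → R) ⧸ LinearMap.range σ.dualMap) j) ∧
      ∀ i : ℕ, i < n - m → Fitt.ideal R ((Fin n → R) ⧸ LinearMap.range σ) i = ⊥ := by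
  rcases subsingleton_or_nontrivial R with h | h
  · exact ⟨fun j => Subsingleton.elim _ _, fun i _ => Subsingleton.elim _ _⟩
  have hmn : m ≤ n := le_of_fin_injective R σ hσ
  refine ⟨fun j => ?_, fun i hi => ?_⟩
  · rw [fitt_coker, fitt_coker_dual]
    congr 1
    omega
  · rw [fitt_coker]
    exact minors_eq_bot σ _ (by omega)


end Groth.Agent.S14347
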