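import Groth.Statements.S6611
import Mathlib.Algebra.Homology.ModelCategory.Lifting
import Mathlib.Algebra.Homology.HomotopyCategory.KInjective
import Mathlib.Algebra.Homology.HomologySequenceLemmas

set_option autoImplicit false
universe v u
open CategoryTheory CategoryTheory.Limits
open CohDer ZeroObject

namespace Groth.Agent.S6611

/-- Let A be an abelian category, α : K ⟶ L a quasi-isomorphism of cochain complexes which is injective
in every degree, I a bounded below complex of injective objects and γ : K ⟶ I a morphism. Then there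
is a morphism β : L ⟶ I with α ≫ β = γ. -/
theorem result {A : Type u} [Category.{v} A] [Abelian A]
    (K L I : CochainComplex A ℤ) (α : K ⟶ L) [QuasiIso α] (hα : ∀ n : ℤ, Mono (α.f n))
    (a : ℤ) [I.IsStrictlyGE a] (hI : ∀ n : ℤ, Injective (I.X n)) (γ : K ⟶ I) :
    ∃ β : L ⟶ I, α ≫ β = γ := by
  have : ∀ n : ℤ, Injective (I.X n) := hI
  have : ∀ n : ℤ, Mono (α.f n) := hα
  have : I.IsKInjective := CochainComplex.isKInjective_of_injective I a
  have sq : CommSq γ α (0 : I ⟶ (0 : CochainComplex A ℤ)) (0 : L ⟶ (0 : CochainComplex A ℤ)) :=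
    ⟨by rw [comp_zero, comp_zero]⟩
  have hl : ∀ n : ℤ, ∃ l : L.X n ⟶ I.X n, α.f n ≫ l = γ.f n := fun n =>
    ⟨Injective.factorThru (γ.f n) (α.f n), Injective.comp_factorThru _ _⟩
  choose l hl using hl
  have hsq : ∀ n, (sq.map (HomologicalComplex.eval _ _ n)).LiftStruct := fun n =>
    { l := l n
      fac_left := hl n
      fac_right := by
        apply IsZero.eq_of_tgt
        exact ((HomologicalComplex.eval A (ComplexShape.up ℤ) n).map_isZero (isZero_zero _)) }
  have hQ := cokernelIsCokernel α
  have hK := KernelFork.IsLimit.ofId (0 : I ⟶ (0 : CochainComplex A ℤ)) rfl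
  have hαmono : Mono α := HomologicalComplex.mono_of_mono_f α hα
  have hacyc : (cokernel α).Acyclic := by
    have : (ShortComplex.mk _ _ (cokernel.condition α)).ShortExact :=
      { exact := ShortComplex.exact_cokernel α }
    exact this.acyclic_X₃ (by dsimp; infer_instance)
  obtain ⟨β, hβ⟩ := CochainComplex.IsKInjective.eq_δ_of_cocycle
    (CochainComplex.Lifting.cocycle₁ sq hsq hQ hK (hπ := cokernel.condition α) (hι := comp_zero)) hacyc 0 (by simp)
  have := CochainComplex.Lifting.hasLift sq hsq hQ hK (hπ := cokernel.condition α) (hι := comp_zero) β hβ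
  exact ⟨sq.lift, sq.fac_left⟩

end Groth.Agent.S6611
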