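import Groth.Statements.S7115
import Mathlib

set_option autoImplicit false
universe u
open CAlg

namespace Groth.Agent.S7115


theorem exists_extend {R : Type u} [CommRing R] [IsNoetherianRing R] (I J : Ideal R) (j : ℕ)
    (hJ : (j : ℕ∞) ≤ J.height) :
    ∀ t : ℕ, ((j + t : ℕ) : ℕ∞) ≤ I.height → ∃ g : Fin t → R, (∀ i, g i ∈ I) ∧
      ((j + t : ℕ) : ℕ∞) ≤ (J ⊔ Ideal.span (Set.range g)).height := by
  intro t
  induction t with
  | zero =>
    intro _
    refine ⟨Fin.elim0, fun i => i.elim0, ?_⟩
    have : Set.range (Fin.elim0 : Fin 0 → R) = ∅ := Set.range_eq_empty _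
    rw [this, Ideal.span_empty, sup_bot_eq]
    simpa using hJ
  | succ t ih =>
    intro hI
    have hI' : ((j + t : ℕ) : ℕ∞) ≤ I.height := by
      refine le_trans ?_ hI
      exact_mod_cast Nat.le_succ _
    obtain ⟨g, hg, h₃⟩ := ih hI'
    set J' := J ⊔ Ideal.span (Set.range g) with hJ'
    let S := { K | K ∈ J'.minimalPrimes ∧ Ideal.height K = ((j + t : ℕ) : ℕ∞) }
    have hS : Set.Finite S := Set.Finite.subset J'.finite_minimalPrimes_of_isNoetherianRing
      (fun _ h => h.1)
    have : ¬(I : Set R) ⊆ ⋃ K ∈ hS.toFinset, (K : Set R) := by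
      refine (Ideal.subset_union_prime ⊥ ⊥ ?_).not.mpr ?_
      · rintro K hK - -
        rw [Set.Finite.mem_toFinset] at hK
        exact hK.1.isPrime
      · push Not
        intro K hK e
        have := hI.trans (Ideal.height_mono e)
        rw [Set.Finite.mem_toFinset] at hK
        rw [hK.2, ← not_lt] at this
        norm_cast at this
        omega
    simp_rw [Set.not_subset, Set.mem_iUnion, not_exists, Set.Finite.mem_toFinset] at this
    obtain ⟨x, hx₁, hx₂⟩ := this
    refine ⟨Fin.snoc g x, ?_, ?_⟩
    · intro i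
      refine Fin.lastCases ?_ (fun i => ?_) i
      · simpa using hx₁
      · simpa using hg i
    · have hrange : Ideal.span (Set.range (Fin.snoc g x : Fin (t+1) → R)) =
          Ideal.span (Set.range g) ⊔ Ideal.span {x} := by
        rw [← Ideal.span_union]
        congr 1
        ext y
        simp only [Set.mem_range, Set.union_singleton, Set.mem_insert_iff]
        constructor
        · rintro ⟨i, rfl⟩
          refine Fin.lastCases ?_ (fun i => ?_) i
          · left; simp
          · right; exact ⟨i, by simp⟩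
        · rintro (rfl | ⟨i, rfl⟩)
          · exact ⟨Fin.last t, by simp⟩
          · exact ⟨i.castSucc, by simp⟩
      rw [hrange, ← sup_assoc, ← hJ', Ideal.height_eq_inf_minimalPrimes]
      refine le_iInf₂ (fun p hp ↦ ?_)
      have := hp.isPrime
      by_cases h : p.height = ⊤
      · exact le_of_le_of_eq le_top h.symm
      have : p.FiniteHeight := ⟨Or.inr h⟩
      have := Ideal.height_mono (le_sup_left.trans hp.le)
      suffices h : ((j + t : ℕ) : ℕ∞) ≠ p.height by
        have h5 := Order.add_one_le_of_lt (lt_of_le_of_ne (h₃.trans this) h)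
        refine le_trans ?_ h5
        push_cast
        rw [add_assoc]
      intro e
      apply hx₂ p
      · refine ⟨Ideal.mem_minimalPrimes_of_height_le (le_sup_left.trans hp.le)
          (e.symm.trans_le h₃), e.symm⟩
      · apply hp.le <| Ideal.mem_sup_right <| Ideal.mem_span_singleton_self x


theorem height_maximalIdeal {R : Type u} [CommRing R] [IsLocalRing R] (d : ℕ)
    (hd : ringKrullDim R = d) : (IsLocalRing.maximalIdeal R).height = d := by
  have h := IsLocalRing.maximalIdeal_height_eq_ringKrullDim (R := R)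
  rw [hd] at h
  exact_mod_cast h

/-- an ideal of height `≥ dim R` in a local ring has radical containing the maximal ideal -/
theorem le_radical_of_height {R : Type u} [CommRing R] [IsNoetherianRing R] [IsLocalRing R]
    (d : ℕ) (hd : ringKrullDim R = d) (K : Ideal R) (hK : (d : ℕ∞) ≤ K.height) :
    IsLocalRing.maximalIdeal R ≤ K.radical := by
  rw [← Ideal.sInf_minimalPrimes]
  refine le_sInf (fun p hp => ?_)
  haveI := hp.1.1
  have h1 : (d : ℕ∞) ≤ p.height := by
    rw [Ideal.height_eq_inf_minimalPrimes] at hK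
    exact hK.trans (iInf₂_le p hp)
  have hle : p ≤ IsLocalRing.maximalIdeal R := IsLocalRing.le_maximalIdeal hp.1.1.ne_top
  by_contra hne
  have hlt : p < IsLocalRing.maximalIdeal R := lt_of_le_of_ne hle (fun h => hne h.ge)
  have h2 := Ideal.height_add_one_le_of_lt_of_isPrime hlt
  rw [height_maximalIdeal d hd] at h2
  have h3 : (d : ℕ∞) + 1 ≤ d := (add_le_add_left h1 1).trans h2
  have h4 : ((d + 1 : ℕ) : ℕ∞) ≤ (d : ℕ) := by exact_mod_cast h3
  have h5 : d + 1 ≤ d := by exact_mod_cast h4
  omega

/-- Let R be a Noetherian local ring of Krull dimension d > 1 with maximal ideal m, let f be an element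
of m contained in no minimal prime, and let k be a natural number. Then there are elements g_1, ...,
g_{d-1} of m lying in m^k such that f, g_1, ..., g_{d-1} form a system of parameters: these d
elements of m generate an ideal whose radical is m. -/
theorem result (R : Type u) [CommRing R] [IsNoetherianRing R] [IsLocalRing R]
    (d : ℕ) (hd : ringKrullDim R = d) (h1 : 1 < d) (f : R) (hf : f ∈ IsLocalRing.maximalIdeal R)
    (hmin : ∀ p ∈ minimalPrimes R, f ∉ p) (k : ℕ) :
    ∃ g : Fin (d - 1) → R, (∀ i, g i ∈ IsLocalRing.maximalIdeal R ^ k) ∧ (∀ i, g i ∈ IsLocalRing.maximalIdeal R) ∧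
      IsLocalRing.maximalIdeal R ≤ (Ideal.span (insert f (Set.range g))).radical := by
  set m := IsLocalRing.maximalIdeal R with hm
  have hmh : m.height = d := height_maximalIdeal d hd
  -- `J = (f)` has height at least one
  have hJ : ((1 : ℕ) : ℕ∞) ≤ (Ideal.span {f}).height := by
    rw [Ideal.height_eq_inf_minimalPrimes]
    refine le_iInf₂ (fun p hp => ?_)
    haveI := hp.1.1
    rw [Nat.cast_one, Order.one_le_iff_ne_zero]
    intro h0
    rw [Ideal.height_eq_zero_iff] at h0
    exact hmin p h0 (hp.1.2 (Ideal.mem_span_singleton_self f))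
  -- `I = m ^ (k+1)` has height `d`
  have hI : ((1 + (d - 1) : ℕ) : ℕ∞) ≤ (m ^ (k + 1)).height := by
    have : 1 + (d - 1) = d := by omega
    rw [this, Ideal.height_eq_inf_minimalPrimes]
    refine le_iInf₂ (fun p hp => ?_)
    haveI := hp.1.1
    rw [← hmh]
    exact Ideal.height_mono (Ideal.IsPrime.le_of_pow_le hp.1.2)
  obtain ⟨g, hg, hht⟩ := exists_extend (m ^ (k + 1)) (Ideal.span {f}) 1 hJ (d - 1) hI
  refine ⟨g, fun i => Ideal.pow_le_pow_right (Nat.le_succ k) (hg i),
    fun i => Ideal.pow_le_self (Nat.succ_ne_zero k) (hg i), ?_⟩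
  have hd' : 1 + (d - 1) = d := by omega
  rw [hd'] at hht
  rw [Ideal.span_insert]
  exact le_radical_of_height d hd _ hht


end Groth.Agent.S7115
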