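import Groth.Statements.S7116
import Mathlib
import Groth.Agent.S7115

set_option autoImplicit false
universe u
open CAlg

namespace Groth.Agent.S7116

open Groth.Agent.S7115

theorem perturb {R : Type u} [CommRing R] [IsNoetherianRing R] [IsLocalRing R] {n : ℕ}
    (f h : R) (g : Fin n → R)
    (hh : h ∈ IsLocalRing.maximalIdeal R * Ideal.span (insert f (Set.range g))) :
    Ideal.span (insert (f + h) (Set.range g)) = Ideal.span (insert f (Set.range g)) := by
  have hfQ : f ∈ Ideal.span (insert f (Set.range g)) := Ideal.subset_span (Set.mem_insert _ _)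
  have hgQ : ∀ i, g i ∈ Ideal.span (insert f (Set.range g)) :=
    fun i => Ideal.subset_span (Set.mem_insert_of_mem _ ⟨i, rfl⟩)
  have hhQ : h ∈ Ideal.span (insert f (Set.range g)) := Ideal.mul_le_right hh
  apply le_antisymm
  · rw [Ideal.span_le]
    rintro x (rfl | ⟨i, rfl⟩)
    · exact Ideal.add_mem _ hfQ hhQ
    · exact hgQ i
  · have hle : Ideal.span (insert f (Set.range g)) ≤
        Ideal.span (insert (f + h) (Set.range g)) ⊔
          IsLocalRing.maximalIdeal R • Ideal.span (insert f (Set.range g)) := by
      rw [Ideal.span_le]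
      rintro x (hx | ⟨i, rfl⟩)
      · have h1 : (f + h) - h ∈ Ideal.span (insert (f + h) (Set.range g)) ⊔
            IsLocalRing.maximalIdeal R • Ideal.span (insert f (Set.range g)) :=
          Submodule.sub_mem _
            (Submodule.mem_sup_left (Ideal.subset_span (Set.mem_insert _ _)))
            (Submodule.mem_sup_right hh)
        rw [add_sub_cancel_right] at h1
        rw [hx]
        exact h1
      · exact Submodule.mem_sup_left (Ideal.subset_span (Set.mem_insert_of_mem _ ⟨i, rfl⟩))
    exact Submodule.le_of_le_smul_of_le_jacobson_bot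
      (IsNoetherian.noetherian (Ideal.span (insert f (Set.range g))))
      (by rw [IsLocalRing.jacobson_eq_maximalIdeal ⊥ bot_ne_top]) hle

/-- Let R be a Noetherian local ring of Krull dimension d with maximal ideal m and let f be an element
of m contained in no minimal prime. Then there are g_1, ..., g_{d-1} in m and a natural number N
such that f, g_1, ..., g_{d-1} is a system of parameters (these d elements of m generate an ideal
with radical m) and, for every h in m^N, the elements f + h, g_1, ..., g_{d-1} again form a system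
of parameters and the lengths of R/(f, g_1, ..., g_{d-1}) and R/(f + h, g_1, ..., g_{d-1}) agree. -/
theorem result (R : Type u) [CommRing R] [IsNoetherianRing R] [IsLocalRing R]
    (d : ℕ) (hd : ringKrullDim R = d) (f : R) (hf : f ∈ IsLocalRing.maximalIdeal R)
    (hmin : ∀ p ∈ minimalPrimes R, f ∉ p) :
    ∃ (g : Fin (d - 1) → R) (N : ℕ), (∀ i, g i ∈ IsLocalRing.maximalIdeal R) ∧
      IsLocalRing.maximalIdeal R ≤ (Ideal.span (insert f (Set.range g))).radical ∧
      ∀ h ∈ IsLocalRing.maximalIdeal R ^ N,
        IsLocalRing.maximalIdeal R ≤ (Ideal.span (insert (f + h) (Set.range g))).radical ∧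
        Module.length R (R ⧸ Ideal.span (insert f (Set.range g))) =
          Module.length R (R ⧸ Ideal.span (insert (f + h) (Set.range g))) := by
  set m := IsLocalRing.maximalIdeal R with hm
  have hmh : m.height = d := height_maximalIdeal d hd
  have hd1 : 1 ≤ d := by
    by_contra hlt
    have hd0 : d = 0 := by omega
    rw [hd0] at hmh
    have : m.height = 0 := by exact_mod_cast hmh
    rw [Ideal.height_eq_zero_iff] at this
    exact hmin m this hf
  have hJ : ((1 : ℕ) : ℕ∞) ≤ (Ideal.span {f}).height := by
    rw [Ideal.height_eq_inf_minimalPrimes]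
    refine le_iInf₂ (fun p hp => ?_)
    haveI := hp.1.1
    rw [Nat.cast_one, Order.one_le_iff_ne_zero]
    intro h0
    rw [Ideal.height_eq_zero_iff] at h0
    exact hmin p h0 (hp.1.2 (Ideal.mem_span_singleton_self f))
  have hd' : 1 + (d - 1) = d := by omega
  have hI : ((1 + (d - 1) : ℕ) : ℕ∞) ≤ m.height := by
    rw [hd', hmh]
  obtain ⟨g, hg, hht⟩ := exists_extend m (Ideal.span {f}) 1 hJ (d - 1) hI
  rw [hd'] at hht
  have hrad : m ≤ (Ideal.span (insert f (Set.range g))).radical := by
    rw [Ideal.span_insert]
    exact le_radical_of_height d hd _ hht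
  obtain ⟨N₀, hN₀⟩ := Ideal.exists_pow_le_of_le_radical_of_fg hrad
    (IsNoetherian.noetherian m)
  refine ⟨g, N₀ + 1, hg, hrad, ?_⟩
  intro h hh
  have hhmQ : h ∈ m * Ideal.span (insert f (Set.range g)) := by
    rw [pow_succ'] at hh
    exact Ideal.mul_mono_right hN₀ hh
  have heq := perturb f h g hhmQ
  have key : ∀ Q' : Ideal R, Q' = Ideal.span (insert f (Set.range g)) → (m ≤ Q'.radical ∧
      Module.length R (R ⧸ Ideal.span (insert f (Set.range g))) = Module.length R (R ⧸ Q')) := by
    rintro _ rfl
    exact ⟨hrad, rfl⟩
  exact key _ heq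


end Groth.Agent.S7116
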