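import Groth.Statements.S7117
import Mathlib
import Groth.Agent.Lib.Helper1.EMult1
import Groth.Agent.Lib.Helper1.Serre8
import Groth.Agent.Lib.Helper1.HS9
import Groth.Agent.S8154

set_option autoImplicit false
universe u
open CAlg

namespace Groth.Agent.S7117

namespace Groth.Agent.S7117.Aux

open Groth.Agent.Lib.Helper1.HS Groth.Agent.Lib.Helper1.Serre Groth.Agent.Lib.Helper1.EMult Polynomial

section SES
variable {A : Type u} [CommRing A] {M : Type u} [AddCommGroup M] [Module A M]

lemma ses_inj {P Q : Submodule A M} (h : P ≤ Q) :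
    Function.Injective (Submodule.mapQ (P.submoduleOf Q) P Q.subtype le_rfl) := by
  rw [← LinearMap.ker_eq_bot, Submodule.mapQ, Submodule.ker_liftQ, LinearMap.ker_comp,
    Submodule.ker_mkQ]
  show Submodule.map (P.submoduleOf Q).mkQ (Submodule.comap Q.subtype P) = ⊥
  rw [Submodule.submoduleOf]
  simp

lemma ses_surj {P Q : Submodule A M} (h : P ≤ Q) :
    Function.Surjective (Submodule.mapQ P Q LinearMap.id h) := by
  intro x
  obtain ⟨x, rfl⟩ := Submodule.mkQ_surjective _ x
  exact ⟨P.mkQ x, by simp⟩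

lemma ses_exact {P Q : Submodule A M} (h : P ≤ Q) :
    LinearMap.range (Submodule.mapQ (P.submoduleOf Q) P Q.subtype le_rfl) =
      LinearMap.ker (Submodule.mapQ P Q LinearMap.id h) := by
  symm
  rw [Submodule.mapQ, Submodule.ker_liftQ, Submodule.mapQ, Submodule.range_liftQ,
    LinearMap.ker_comp, Submodule.ker_mkQ, LinearMap.range_comp, Submodule.range_subtype]
  simp

end SES

variable (R : Type u) [CommRing R] [IsNoetherianRing R] [IsLocalRing R]
  (d : ℕ) (g : Fin d → R)

/-- normalized multiplicity -/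
noncomputable def e (M : Type u) [AddCommGroup M] [Module R M] : ℚ :=
  (d.factorial : ℚ) * (hsPoly (Ideal.span (Set.range g)) M).coeff d

variable {R d g}

lemma isFiniteLength_quot (hsop : IsLocalRing.maximalIdeal R ≤ (Ideal.span (Set.range g)).radical) :
    IsFiniteLength R (R ⧸ Ideal.span (Set.range g)) := by
  refine isFiniteLength_quotient_of_pow_le _ ?_
  exact Ideal.exists_pow_le_of_le_radical_of_fg hsop (IsNoetherian.noetherian _)

lemma e_nonneg (hR : IsFiniteLength R (R ⧸ Ideal.span (Set.range g)))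
    (M : Type u) [AddCommGroup M] [Module R M] [Module.Finite R M] : 0 ≤ e R d g M := by
  have hM := isFiniteLength_quotient_smul_top hR M
  unfold e
  refine mul_nonneg (by positivity) ?_
  obtain ⟨n₁, h₁⟩ := isHSPoly_hsPoly hM
  refine coeff_nonneg_of_eventually_nonneg _ d (natDegree_hsPoly_le_of_span g rfl hM)
    ⟨n₁, fun n hn => ?_⟩
  rw [← h₁ n hn]
  positivity

lemma e_additive (hR : IsFiniteLength R (R ⧸ Ideal.span (Set.range g)))
    {M' M M'' : Type u} [AddCommGroup M'] [Module R M'] [AddCommGroup M] [Module R M]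
    [AddCommGroup M''] [Module R M''] [Module.Finite R M] [Module.Finite R M'] [Module.Finite R M'']
    (f : M' →ₗ[R] M) (h : M →ₗ[R] M'')
    (hf : Function.Injective f) (hh : Function.Surjective h)
    (hfh : LinearMap.range f = LinearMap.ker h) :
    e R d g M = e R d g M' + e R d g M'' := by
  have hM := isFiniteLength_quotient_smul_top hR M
  have hM' := isFiniteLength_quotient_smul_top hR M'
  have hM'' := isFiniteLength_quotient_smul_top hR M''
  unfold e
  rw [coeff_hsPoly_additive f h hf hh hfh hM hM' hM'' d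
    (natDegree_hsPoly_le_of_span g rfl hM) (natDegree_hsPoly_le_of_span g rfl hM')
    (natDegree_hsPoly_le_of_span g rfl hM'')]
  ring

lemma one_le_e (hg : ∀ i, g i ∈ IsLocalRing.maximalIdeal R)
    (hR : IsFiniteLength R (R ⧸ Ideal.span (Set.range g)))
    (M : Type u) [AddCommGroup M] [Module R M] [Module.Finite R M]
    (hdim : Module.supportDim R M = (d : WithBot ℕ∞)) : 1 ≤ e R d g M := by
  have hM := isFiniteLength_quotient_smul_top hR M
  have h1 := Groth.Agent.S8154.result R d g hg M hM hdim
  have h2 := kchi_eq R d g M hM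
  unfold e
  rw [← h2]
  have : (1 : ℤ) ≤ kchi R (List.ofFn g) M := h1
  exact_mod_cast this

lemma e_le (hR : IsFiniteLength R (R ⧸ Ideal.span (Set.range g)))
    (M : Type u) [AddCommGroup M] [Module R M] [Module.Finite R M] :
    e R d g M ≤ (chi (Ideal.span (Set.range g)) M 1 : ℚ) :=
  factorial_mul_coeff_hsPoly_le _ g rfl M (isFiniteLength_quotient_smul_top hR M)

lemma not_inf_le (T : Finset (Ideal R)) (hT : ∀ p ∈ T, p ∈ minimalPrimes R) (q : Ideal R)
    (hq : q ∈ minimalPrimes R) (hqT : q ∉ T) : ¬ T.inf id ≤ q := by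
  intro hIq
  have hqp : q.IsPrime := hq.1.1
  obtain ⟨p, hp, hpq⟩ := (Ideal.IsPrime.inf_le' hqp).1 hIq
  have : p = q := le_antisymm hpq (hq.2 ⟨(hT p hp).1.1, bot_le⟩ hpq)
  exact hqT (this ▸ hp)

lemma supportDim_piece (T : Finset (Ideal R)) (hT : ∀ p ∈ T, p ∈ minimalPrimes R) (q : Ideal R)
    (hq : q ∈ minimalPrimes R) (hqT : q ∉ T) (hqd : ringKrullDim (R ⧸ q) = d) :
    Module.supportDim R (↥(T.inf id) ⧸ (T.inf id ⊓ q).submoduleOf (T.inf id)) = (d : WithBot ℕ∞) := by
  set J : Ideal R := T.inf id with hJ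
  have hqp : q.IsPrime := hq.1.1
  have hann : Module.annihilator R (↥J ⧸ (J ⊓ q).submoduleOf J) = q := by
    ext a
    rw [Module.mem_annihilator]
    constructor
    · intro ha
      obtain ⟨y, hyJ, hyq⟩ := Set.not_subset.1 (not_inf_le T hT q hq hqT)
      have h1 := ha (Submodule.Quotient.mk ⟨y, hyJ⟩)
      rw [← Submodule.Quotient.mk_smul, Submodule.Quotient.mk_eq_zero] at h1
      have h2 : a * y ∈ J ⊓ q := h1
      rcases hqp.mem_or_mem h2.2 with h | h
      · exact h
      · exact absurd h hyq
    · intro ha y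
      obtain ⟨⟨y, hy⟩, rfl⟩ := Submodule.mkQ_surjective _ y
      rw [Submodule.mkQ_apply, ← Submodule.Quotient.mk_smul, Submodule.Quotient.mk_eq_zero]
      show a * y ∈ J ⊓ q
      exact ⟨J.mul_mem_left _ hy, q.mul_mem_right _ ha⟩
  rw [Module.supportDim_eq_ringKrullDim_quotient_annihilator, hann, hqd]

lemma main (hg : ∀ i, g i ∈ IsLocalRing.maximalIdeal R)
    (hR : IsFiniteLength R (R ⧸ Ideal.span (Set.range g)))
    (T : Finset (Ideal R)) (hT : ∀ p ∈ T, p ∈ minimalPrimes R ∧ ringKrullDim (R ⧸ p) = d) :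
    (T.card : ℚ) ≤ e R d g (R ⧸ T.inf id) := by
  classical
  induction T using Finset.induction_on with
  | empty =>
    simp only [Finset.card_empty, Nat.cast_zero]
    exact e_nonneg hR _
  | insert q T hqT ih =>
    have hT' : ∀ p ∈ T, p ∈ minimalPrimes R ∧ ringKrullDim (R ⧸ p) = d :=
      fun p hp => hT p (Finset.mem_insert_of_mem hp)
    have hq := hT q (Finset.mem_insert_self q T)
    have h2 := ih hT'
    rw [Finset.card_insert_of_notMem hqT, Finset.inf_insert, id, inf_comm]
    set J : Ideal R := T.inf id with hJ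
    have hle : J ⊓ q ≤ J := inf_le_left
    have hadd := e_additive (g := g) hR
      (Submodule.mapQ ((J ⊓ q).submoduleOf J) (J ⊓ q) J.subtype le_rfl)
      (Submodule.mapQ (J ⊓ q) J LinearMap.id hle) (ses_inj hle) (ses_surj hle) (ses_exact hle)
    rw [hadd]
    have h3 := one_le_e hg hR _ (supportDim_piece T (fun p hp => (hT' p hp).1) q hq.1 hqT hq.2)
    push_cast
    linarith

end Groth.Agent.S7117.Aux

/-- Let R be a Noetherian local ring of Krull dimension d with maximal ideal m, and suppose g_1, ...,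
g_d in m form a system of parameters (they generate an ideal with radical m). Then the number of
minimal prime ideals p of R with R/p of Krull dimension d is at most the length of R/(g_1, ...,
g_d). -/
theorem result (R : Type u) [CommRing R] [IsNoetherianRing R] [IsLocalRing R]
    (d : ℕ) (hd : ringKrullDim R = d) (g : Fin d → R) (hg : ∀ i, g i ∈ IsLocalRing.maximalIdeal R)
    (hsop : IsLocalRing.maximalIdeal R ≤ (Ideal.span (Set.range g)).radical) :
    (Set.ncard {p : Ideal R | p ∈ minimalPrimes R ∧ ringKrullDim (R ⧸ p) = d} : ℕ∞) ≤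
      Module.length R (R ⧸ Ideal.span (Set.range g)) := by
  open Groth.Agent.S7117.Aux Groth.Agent.Lib.Helper1.HS in
  have hR := isFiniteLength_quot (g := g) hsop
  have hfin : {p : Ideal R | p ∈ minimalPrimes R ∧ ringKrullDim (R ⧸ p) = d}.Finite :=
    (minimalPrimes.finite_of_isNoetherianRing R).subset (fun p hp => hp.1)
  rw [Set.ncard_eq_toFinset_card _ hfin]
  have h1 := main hg hR hfin.toFinset (fun p hp => by simpa using hp)
  set J : Ideal R := hfin.toFinset.inf id with hJ
  -- e(R/J) ≤ e(R)
  have hadd := e_additive (g := g) hR J.subtype J.mkQ (Submodule.subtype_injective _)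
    (Submodule.mkQ_surjective _) (by rw [Submodule.range_subtype, Submodule.ker_mkQ])
  have h2 := e_nonneg (g := g) hR J
  have h3 := e_le (g := g) hR R
  have h4 : (hfin.toFinset.card : ℚ) ≤ (chi (Ideal.span (Set.range g)) R 1 : ℚ) := by linarith
  have h5 : hfin.toFinset.card ≤ chi (Ideal.span (Set.range g)) R 1 := by exact_mod_cast h4
  rw [length_ring_quot]
  have h6 := chi_cast (isFiniteLength_quotient_smul_top hR R) 1
  rw [pow_one] at h6
  rw [← h6]
  exact_mod_cast h5

end Groth.Agent.S7117
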