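import Groth.Statements.S6315
import Groth.Agent.Lib.Helper2.TorBalLin

set_option autoImplicit false
universe u
open CategoryTheory
open CAlg

namespace Groth.Agent.S6315

/-- Let R be a Noetherian ring and M, N finite R-modules. Then Tor_pᴿ(M, N) is a finite R-module for all
p. -/
theorem result (R : Type u) [CommRing R] [IsNoetherianRing R] (M N : Type u) [AddCommGroup M] [Module R M] [AddCommGroup N] [Module R N] [Module.Finite R M] [Module.Finite R N] (p : ℕ) : Module.Finite R (((CategoryTheory.Tor (ModuleCat.{u} R) p).obj (ModuleCat.of R M)).obj (ModuleCat.of R N)) := by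
  have key : ∀ (p : ℕ) (N : Type u) [AddCommGroup N] [Module R N] [Module.Finite R N],
      Module.Finite R (((CategoryTheory.Tor (ModuleCat.{u} R) p).obj (ModuleCat.of R M)).obj
        (ModuleCat.of R N)) := by
    intro p
    induction p with
    | zero =>
      intro N _ _ _
      let e := (Functor.leftDerivedZeroIsoSelf
        (MonoidalCategory.tensorLeft (ModuleCat.of R M))).app (ModuleCat.of R N)
      haveI : Module.Finite R ↑((MonoidalCategory.tensorLeft (ModuleCat.of R M)).obj
          (ModuleCat.of R N)) := inferInstanceAs (Module.Finite R (TensorProduct R M N))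
      exact Module.Finite.equiv e.toLinearEquiv.symm
    | succ p ih =>
      intro N _ _ _
      obtain ⟨n, f, hf⟩ := Module.Finite.exists_fin' R N
      let K := LinearMap.ker f
      haveI : Module.Finite R K := Module.Finite.of_injective K.subtype K.injective_subtype
      have hex : Function.Exact K.subtype f := LinearMap.exact_subtype_ker_map f
      let T := Groth.Agent.H2.TorBal.scOfLinearMaps K.subtype f hex
      have hT : T.ShortExact :=
        Groth.Agent.H2.TorBal.scOfLinearMaps_shortExact _ _ K.injective_subtype hex hf
      haveI : Module.Flat R (ModuleCat.of R (Fin n → R)) :=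
        inferInstanceAs (Module.Flat R (Fin n → R))
      obtain ⟨g, hg⟩ := Groth.Agent.H2.TorBal.exists_mono_tor_shift_right T hT
        (ModuleCat.of R M) p
        (Groth.Agent.H2.TorBal.isZero_tor_succ_of_flat_right _ (ModuleCat.of R (Fin n → R)) p)
      haveI h1 : Module.Finite R ↑(Groth.Agent.H2.TorBal.torObj p (ModuleCat.of R M) T.X₁) := ih K
      haveI : IsNoetherian R ↑(Groth.Agent.H2.TorBal.torObj p (ModuleCat.of R M) T.X₁) :=
        isNoetherian_of_isNoetherianRing_of_finite R _
      exact Module.Finite.of_injective g.hom ((ModuleCat.mono_iff_injective g).1 hg)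
  exact key p N

end Groth.Agent.S6315
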