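import Groth.Statements.S9752
import Groth.Agent.Lib.Helper8.Brnch.EtaleCountSch

set_option autoImplicit false
universe u
open Brnch

namespace Groth.Agent.S9752

open AlgebraicGeometry CategoryTheory Limits in
/-- For a point x of a scheme X, the branch count of X at x (in ℕ∞) is the least upper bound, taken over
all elementary étale neighbourhoods (U, u) → (X, x) (g : U ⟶ X étale with g u = x and trivial
residue field extension), of how many irreducible components of U contain u. -/
theorem result (X : Scheme.{u}) (x : X) :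
    Brnch.numBranchesAt X x = ⨆ (U : Scheme.{u}) (g : U ⟶ X) (u : U) (_ : Hens2.IsEtaleNbhd g u x),
      {Z : Set ↑U | Z ∈ irreducibleComponents ↑U ∧ u ∈ Z}.encard := by
  apply le_antisymm
  · rw [← ENat.forall_natCast_le_iff_le]
    intro n hn
    obtain ⟨V, hV, hxV⟩ : ∃ V : X.Opens, IsAffineOpen V ∧ x ∈ V := by
      obtain ⟨_, ⟨V, hV, rfl⟩, hxV, -⟩ :=
        X.isBasis_affineOpens.exists_subset_of_mem_open (Set.mem_univ x) isOpen_univ
      exact ⟨V, hV, hxV⟩
    let p := (hV.primeIdealOf ⟨x, hxV⟩).asIdeal
    let _ := X.presheaf.algebra_section_stalk ⟨x, hxV⟩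
    have h1 : IsLocalization.AtPrime (X.presheaf.stalk x) p := hV.isLocalization_stalk ⟨x, hxV⟩
    obtain ⟨C, _, _, _, q', _, hq', hres, hle⟩ :=
      Groth.Agent.H8.Brnch.exists_etale_le_encard_of_le_numBranches Γ(X, V) p
        (X.presheaf.stalk x) n hn
    let U : Scheme.{u} := Spec (CommRingCat.of C)
    let g : U ⟶ X := Spec.map (CommRingCat.ofHom (algebraMap Γ(X, V) C)) ≫ hV.fromSpec
    have hf : Etale (Spec.map (CommRingCat.ofHom (algebraMap Γ(X, V) C))) := by
      rw [HasRingHomProperty.Spec_iff (P := @Etale)]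
      exact (RingHom.etale_algebraMap).mpr inferInstance
    have hg : Etale g := inferInstance
    let u : U := ⟨q', inferInstance⟩
    have hgu : g u = x := by
      show hV.fromSpec ((Spec.map (CommRingCat.ofHom (algebraMap Γ(X, V) C))) u) = x
      have : (Spec.map (CommRingCat.ofHom (algebraMap Γ(X, V) C))) u = hV.primeIdealOf ⟨x, hxV⟩ := by
        apply PrimeSpectrum.ext
        exact hq'
      rw [this]
      exact hV.fromSpec_primeIdealOf ⟨x, hxV⟩
    have hres' : Groth.Agent.H8.Hens.EH.ResTriv Γ(X, V) C (q'.comap (algebraMap Γ(X, V) C)) q' := by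
      rw [hq']; exact hres
    have hs1 := Groth.Agent.H8.Hens.EH.surjective_residueFieldMap_SpecMap Γ(X, V) C q' hres'
    have hsurj : Function.Surjective (g.residueFieldMap u) := by
      have hcomp := Scheme.residueFieldMap_comp
        (Spec.map (CommRingCat.ofHom (algebraMap Γ(X, V) C))) hV.fromSpec u
      show Function.Surjective ((Spec.map (CommRingCat.ofHom (algebraMap Γ(X, V) C)) ≫
        hV.fromSpec).residueFieldMap u)
      rw [hcomp]
      have hiso : Function.Surjective (hV.fromSpec.residueFieldMap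
          ((Spec.map (CommRingCat.ofHom (algebraMap Γ(X, V) C))) u)) :=
        (ConcreteCategory.bijective_of_isIso _).2
      intro z
      obtain ⟨y, hy⟩ := hs1 z
      obtain ⟨w, hw⟩ := hiso y
      refine ⟨w, ?_⟩
      exact (congrArg (fun t => (Scheme.Hom.residueFieldMap
        (Spec.map (CommRingCat.ofHom (algebraMap Γ(X, V) C))) u) t) hw).trans hy
    have hN : Hens2.IsEtaleNbhd g u x :=
      ⟨hg, hgu, ⟨(g.residueFieldMap u).hom.injective, hsurj⟩⟩
    refine le_trans hle (le_trans (Groth.Agent.H8.Brnch.encard_minimalPrimes_le_components C q') ?_)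
    exact le_iSup_of_le U (le_iSup_of_le g (le_iSup_of_le u (le_iSup_of_le hN le_rfl)))
  · refine iSup_le fun U => iSup_le fun g => iSup_le fun u => iSup_le fun h => ?_
    obtain ⟨hg, hgu, hbij⟩ := h
    subst hgu
    rw [Groth.Agent.H8.Brnch.encard_components_eq]
    have := Groth.Agent.H8.Brnch.numBranchesAt_eq_of_etaleNbhd g u hbij.2
    show _ ≤ Brnch.numBranchesAt X (g u)
    rw [← this]
    exact Groth.Agent.H8.Brnch.card_minimalPrimes_le_numBranches _

end Groth.Agent.S9752
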