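import Groth.Statements.S9781
import Groth.Agent.Lib.Helper8.Brnch.Components
import Groth.Agent.Lib.Helper8.Hens.EtaleNbhdSch

set_option autoImplicit false
open CategoryTheory AlgebraicGeometry
universe u

namespace Groth.Agent.S9781

open Groth.Agent.H8 Groth.Agent.H8.Hens in
theorem result (X : Scheme.{u}) (x : X) :
    CAlg2.IsUnibranch ↑(X.presheaf.stalk x) ↔ ∀ (U : Scheme.{u}) (g : U ⟶ X) (u : U), Hens2.IsEtaleNbhd g u x →
      {Z : Set ↑U | Z ∈ irreducibleComponents ↑U ∧ u ∈ Z}.encard = 1 := by
  constructor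
  · intro h U g u hN
    obtain ⟨hg, hgu, hbij⟩ := hN
    subst hgu
    have h1 := (EH.isUnibranch_stalk_iff_of_etaleNbhd g u hbij.2).mpr h
    rw [Brnch.encard_components_eq_one_iff]
    exact (Ideal.Quotient.isDomain_iff_prime _).mp h1.1
  · intro H
    obtain ⟨V, hV, hxV⟩ : ∃ V : X.Opens, IsAffineOpen V ∧ x ∈ V := by
      obtain ⟨_, ⟨V, hV, rfl⟩, hxV, -⟩ :=
        X.isBasis_affineOpens.exists_subset_of_mem_open (Set.mem_univ x) isOpen_univ
      exact ⟨V, hV, hxV⟩
    let p := (hV.primeIdealOf ⟨x, hxV⟩).asIdeal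
    let _ := X.presheaf.algebra_section_stalk ⟨x, hxV⟩
    have h1 : IsLocalization.AtPrime (X.presheaf.stalk x) p := hV.isLocalization_stalk ⟨x, hxV⟩
    apply EH.isUnibranch_of_forall_etale Γ(X, V) p (X.presheaf.stalk x)
    intro C _ _ _ q' _ hq' hres
    let U : Scheme.{u} := Spec (CommRingCat.of C)
    let g : U ⟶ X := Spec.map (CommRingCat.ofHom (algebraMap Γ(X, V) C)) ≫ hV.fromSpec
    have hf : Etale (Spec.map (CommRingCat.ofHom (algebraMap Γ(X, V) C))) := by
      rw [HasRingHomProperty.Spec_iff (P := @Etale)]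
      exact (RingHom.etale_algebraMap).mpr inferInstance
    have hg : Etale g := inferInstance
    let u : U := ⟨q', inferInstance⟩
    have hgu : g u = x := by
      show hV.fromSpec ((Spec.map (CommRingCat.ofHom (algebraMap Γ(X, V) C))) u) = x
      have : (Spec.map (CommRingCat.ofHom (algebraMap Γ(X, V) C))) u = hV.primeIdealOf ⟨x, hxV⟩ := by
        apply PrimeSpectrum.ext
        exact hq'
      rw [this]
      exact hV.fromSpec_primeIdealOf ⟨x, hxV⟩
    have hres' : EH.ResTriv Γ(X, V) C (q'.comap (algebraMap Γ(X, V) C)) q' := by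
      rw [hq']; exact hres
    have hs1 := EH.surjective_residueFieldMap_SpecMap Γ(X, V) C q' hres'
    have hsurj : Function.Surjective (g.residueFieldMap u) := by
      have hcomp := Scheme.residueFieldMap_comp
        (Spec.map (CommRingCat.ofHom (algebraMap Γ(X, V) C))) hV.fromSpec u
      show Function.Surjective ((Spec.map (CommRingCat.ofHom (algebraMap Γ(X, V) C)) ≫
        hV.fromSpec).residueFieldMap u)
      rw [hcomp]
      have hiso : Function.Surjective (hV.fromSpec.residueFieldMap
          ((Spec.map (CommRingCat.ofHom (algebraMap Γ(X, V) C))) u)) :=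
        (ConcreteCategory.bijective_of_isIso _).2
      intro z
      obtain ⟨y, hy⟩ := hs1 z
      obtain ⟨w, hw⟩ := hiso y
      refine ⟨w, ?_⟩
      exact (congrArg (fun t => (Scheme.Hom.residueFieldMap
        (Spec.map (CommRingCat.ofHom (algebraMap Γ(X, V) C))) u) t) hw).trans hy
    have hN : Hens2.IsEtaleNbhd g u x :=
      ⟨hg, hgu, ⟨(g.residueFieldMap u).hom.injective, hsurj⟩⟩
    have h2 := H U g u hN
    rw [Brnch.encard_components_eq_one_iff] at h2
    let k : Algebra C (U.presheaf.stalk u) := StructureSheaf.stalkAlgebra C u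
    have h3 : IsLocalization.AtPrime (U.presheaf.stalk u) q' :=
      StructureSheaf.IsLocalization.to_stalk C u
    let e : U.presheaf.stalk u ≃ₐ[C] Localization.AtPrime q' :=
      IsLocalization.algEquiv q'.primeCompl _ _
    exact Brnch.isPrime_nilradical_of_ringEquiv e.toRingEquiv h2

end Groth.Agent.S9781
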