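import Groth.Statements.S9294
import Groth.Agent.Lib.Helper3.CA.RegHomComp

set_option autoImplicit false
universe u
open CAlg

namespace Groth.Agent.S9294

/-- If A → B and B → C are regular ring maps and every fibre ring of the composite A → C is Noetherian,
the composite is regular. -/
theorem result (A B C : Type u) [CommRing A] [CommRing B] [CommRing C]
    [Algebra A B] [Algebra B C] [Algebra A C] [IsScalarTower A B C]
    (hAB : CAlg.IsRegularHom A B) (hBC : CAlg.IsRegularHom B C)
    (hN : ∀ (p : Ideal A) [p.IsPrime], IsNoetherianRing (p.Fiber C)) :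
    CAlg.IsRegularHom A C := by
  obtain ⟨hf1, h1⟩ := hAB
  obtain ⟨hf2, h2⟩ := hBC
  refine ⟨Module.Flat.trans A B C, fun p _ => ⟨hN p, fun k' _ _ hfin => ?_⟩⟩
  exact Groth.Agent.H3.RegHomBC.geomRegFibres_comp A B C (fun p _ K _ _ hK => (h1 p).2 K hK)
    (fun q _ => (h2 q).1) (fun q _ K _ _ hK => (h2 q).2 K hK) hN p k' hfin

end Groth.Agent.S9294
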