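import Groth.Statements.S0499
import Groth.Agent.Lib.Helper8.Hens.HenselianFinite
-- import your own Groth.Agent.* helpers here

set_option autoImplicit false
universe u
open Hensel

namespace Groth.Agent.S0499

/-- An algebra over a henselian local ring that is finitely generated as a module is isomorphic, as a
ring, to a finite product of local rings. -/
theorem result (R : Type u) [CommRing R]
    [HenselianLocalRing R] (S : Type u) [CommRing S] [Algebra R S] [Module.Finite R S] :
    ∃ (ι : Type u) (_ : Fintype ι) (A : ι → Type u) (_ : ∀ i, CommRing (A i)),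
      (∀ i, IsLocalRing (A i)) ∧ Nonempty (S ≃+* (∀ i, A i)) := by
  classical
  obtain ⟨n, ε, hε, hloc⟩ :=
    Groth.Agent.H8.Hens.exists_completeOrthogonalIdempotents_of_finite R S
  have hε' : CompleteOrthogonalIdempotents (ε ∘ (Equiv.ulift : ULift.{u} (Fin n) ≃ Fin n)) :=
    (CompleteOrthogonalIdempotents.equiv Equiv.ulift).mpr hε
  refine ⟨ULift.{u} (Fin n), inferInstance,
    fun i => S ⧸ Ideal.span {1 - ε i.down}, fun i => inferInstance, fun i => hloc i.down,
    ⟨RingEquiv.ofBijective _ hε'.bijective_pi⟩⟩

end Groth.Agent.S0499
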