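import Groth.Statements.S3830
import Mathlib

set_option autoImplicit false
universe u
open Unram17

namespace Groth.Agent.S3830

section
open Polynomial

/-- core contradiction: a flat `A[X₁..X_{m+1}]`-algebra `T` cannot be quasi-finite over `A` at a prime. -/
theorem no_qf_of_flat_mvPolynomial_succ (A : Type u) [CommRing A] (m : ℕ) (T : Type u) [CommRing T]
    [Algebra A T] [Algebra (MvPolynomial (Fin (m + 1)) A) T]
    [IsScalarTower A (MvPolynomial (Fin (m + 1)) A) T]
    [Module.Flat (MvPolynomial (Fin (m + 1)) A) T]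
    (q' : Ideal T) [q'.IsPrime] [Algebra.QuasiFiniteAt A q'] : False := by
  let P := MvPolynomial (Fin (m + 1)) A
  let R' := MvPolynomial (Fin m) A
  let e : P ≃ₐ[A] R'[X] := MvPolynomial.finSuccEquiv A m
  let g : R'[X] →+* T := (algebraMap P T).comp e.symm.toAlgHom.toRingHom
  letI : Algebra R' T := (g.comp Polynomial.C).toAlgebra
  let f' : R'[X] →ₐ[R'] T := { toRingHom := g, commutes' := fun _ => rfl }
  haveI : IsScalarTower A R' T := by
    refine IsScalarTower.of_algebraMap_eq fun a => ?_
    change algebraMap A T a = algebraMap P T (e.symm (Polynomial.C (algebraMap A R' a)))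
    have : (Polynomial.C (algebraMap A R' a) : R'[X]) = algebraMap A R'[X] a := rfl
    rw [this, e.symm.commutes, ← IsScalarTower.algebraMap_apply]
  haveI : Algebra.QuasiFiniteAt R' q' :=
    Algebra.QuasiFinite.of_restrictScalars (R := A) (S := R') (T := Localization.AtPrime q')
  have hlt := Polynomial.map_under_lt_comap_of_weaklyQuasiFiniteAt f' q'
  set p := q'.under R' with hp
  -- primes of P
  let Q : Ideal P := q'.under P
  let Q₀ : Ideal P := Ideal.comap e.toAlgHom.toRingHom (p.map Polynomial.C)
  have hQ₀Q : Q₀ ≤ Q := by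
    intro x hx
    have h1 : e x ∈ p.map Polynomial.C := hx
    have h2 := hlt.le h1
    rw [Ideal.mem_comap] at h2
    change algebraMap P T (e.symm (e x)) ∈ q' at h2
    rwa [e.symm_apply_apply] at h2
  obtain ⟨y, hyq, hyp⟩ := SetLike.exists_of_lt hlt
  have hne : Q₀ ≠ Q := by
    intro heq
    apply hyp
    have h1 : e.symm y ∈ Q := by
      change algebraMap P T (e.symm y) ∈ q'
      exact hyq
    rw [← heq] at h1
    have h2 : e (e.symm y) ∈ p.map Polynomial.C := h1
    rwa [e.apply_symm_apply] at h2
  haveI : q'.LiesOver Q := ⟨rfl⟩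
  obtain ⟨q₀, hq₀le, hq₀prime, hq₀over⟩ :=
    Ideal.exists_ideal_le_liesOver_of_le (p := Q₀) (q := Q) q' hQ₀Q
  have hq₀ne : q₀ ≠ q' := by
    intro h
    apply hne
    rw [hq₀over.over, h]
  have hunder : q₀.under R' = q'.under R' := by
    ext r
    change g (Polynomial.C r) ∈ q₀ ↔ r ∈ p
    have h1 : g (Polynomial.C r) ∈ q₀ ↔ e.symm (Polynomial.C r) ∈ Q₀ := by
      rw [hq₀over.over]; rfl
    rw [h1]
    change e (e.symm (Polynomial.C r)) ∈ p.map Polynomial.C ↔ _
    rw [e.apply_symm_apply, Ideal.mem_map_C_iff]
    constructor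
    · intro h
      have := h 0
      simpa using this
    · intro h n
      rw [Polynomial.coeff_C]
      split_ifs
      · exact h
      · exact zero_mem _
  exact hq₀ne (Algebra.QuasiFiniteAt.eq_of_le_of_under_eq (R := R') hq₀le hunder)
end

/-- b) implies a) (affine pointwise form): let B be an A-algebra of finite presentation and q a prime of
B. If B is smooth over A at q and quasi-finite over A at q, then B is étale over A at q. -/
theorem result (A B : Type u) [CommRing A] [CommRing B] [Algebra A B]
    [Algebra.FinitePresentation A B] (q : Ideal B) [q.IsPrime] [Algebra.QuasiFiniteAt A q]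
    (h : Algebra.IsSmoothAt A q) : Algebra.IsEtaleAt A q := by
  haveI := h
  obtain ⟨f, hfq, n, alg, htower, hstd⟩ :=
    Algebra.IsSmoothAt.exists_isStandardEtale_mvPolynomial (R := A) (S := B) (p := q)
  change (⟨q, inferInstance⟩ : PrimeSpectrum B) ∈ Algebra.etaleLocus A B
  suffices Algebra.Etale A (Localization.Away f) from
    (Algebra.basicOpen_subset_etaleLocus_iff_etale (R := A) (f := f)).mpr this hfq
  -- the prime of B_f
  have hdisj : Disjoint (Submonoid.powers f : Set B) q :=
    (Ideal.disjoint_powers_iff_notMem_of_isPrime _).mpr hfq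
  haveI hq'prime : (Ideal.map (algebraMap B (Localization.Away f)) q).IsPrime :=
    IsLocalization.isPrime_of_isPrime_disjoint (.powers f) _ _ ‹_› hdisj
  haveI : (Ideal.map (algebraMap B (Localization.Away f)) q).LiesOver q :=
    ⟨(IsLocalization.under_map_of_isPrime_disjoint (.powers f) _ ‹_› hdisj).symm⟩
  haveI : Algebra.QuasiFiniteAt A (Ideal.map (algebraMap B (Localization.Away f)) q) :=
    Algebra.QuasiFiniteAt.of_surjectiveOnStalks_of_liesOver q
      (RingHom.surjectiveOnStalks_of_isLocalization (.powers f) _) _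
  cases n with
  | zero =>
    haveI : Algebra.Etale A (MvPolynomial (Fin 0) A) :=
      Algebra.Etale.of_equiv (MvPolynomial.isEmptyAlgEquiv A (Fin 0)).symm
    exact Algebra.Etale.comp A (MvPolynomial (Fin 0) A) (Localization.Away f)
  | succ m =>
    exact (no_qf_of_flat_mvPolynomial_succ A m (Localization.Away f)
      (Ideal.map (algebraMap B (Localization.Away f)) q)).elim

end Groth.Agent.S3830
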