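import Groth.Statements.S0115
import Groth.Agent.S2805
import Groth.Agent.Lib.Helper3.SmSrc.FppfSrc

set_option autoImplicit false
open CategoryTheory CategoryTheory.Limits AlgebraicGeometry Opposite
universe u
open EtBase

namespace Groth.Agent.S0115

/-- Smoothness descends along fppf coverings: if f : X ⟶ Y is surjective, flat and locally of finite
presentation and q : Y ⟶ S is a morphism such that f ≫ q is smooth, then q is smooth. -/
theorem result {X Y S : Scheme.{u}} (f : X ⟶ Y) (q : Y ⟶ S) [Surjective f] [Flat f]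
    [LocallyOfFinitePresentation f] [Smooth (f ≫ q)] : Smooth q := by
  have hq : LocallyOfFinitePresentation q :=
    Groth.Agent.H3.FppfSrc.locallyOfFinitePresentation_of_family (fun _ : Unit => X)
      (fun _ => f) q (fun y => ⟨(), f.surjective y⟩) (fun _ => inferInstance)
  have key : ∀ y : Y, ∃ V : Y.Opens, y ∈ V ∧ Smooth (V.ι ≫ q) := by
    intro y
    obtain ⟨x, rfl⟩ := f.surjective y
    have hh : ∃ U : X.Opens, x ∈ U ∧ Smooth (U.ι ≫ (f ≫ q)) :=
      ⟨⊤, trivial, inferInstance⟩
    exact Groth.Agent.S2805.result q (f ≫ q) f rfl x (Flat.stalkMap f x) hh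
  choose V hyV hV using key
  refine IsZariskiLocalAtSource.of_iSup_eq_top (P := @Smooth) V ?_ hV
  rw [eq_top_iff]
  rintro y -
  simp only [TopologicalSpace.Opens.mem_iSup]
  exact ⟨y, hyV y⟩

end Groth.Agent.S0115
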