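import Groth.Statements.S2324
import Groth.Agent.Lib.Lead.QC.AmpleFinite2

set_option autoImplicit false
universe u
open CategoryTheory CategoryTheory.Limits AlgebraicGeometry
open EGA2

namespace Groth.Agent.S2324

/-- Let X be a quasi-compact separated scheme, L an ample invertible O_X-module, Z a finite set of
points of X and U an open subset containing Z. Then for some n > 0 and some global section s of
L^{⊗n}, the open X_s where s generates is affine, contains Z and is contained in U. -/
theorem result (X : Scheme.{u}) [CompactSpace X] [X.IsSeparated] (L : X.Modules) (hL : CohB1.IsAmple L)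
    (Z : Set X) (hZ : Z.Finite) (U : X.Opens) (hZU : Z ⊆ U) :
    ∃ (n : ℕ) (s : Coh.structureModule X ⟶ CohB1.tensorPow L (n + 1)),
      Z ⊆ CohB1.genLocus _ s ∧ (CohB1.genLocus _ s : Set X) ⊆ U ∧ IsAffineOpen (CohB1.genLocus _ s) := by
  classical
  obtain ⟨n, s, h1, h2, h3⟩ := LD.QC.exists_affine_genLocus_finset L hL _ hZ.toFinset rfl U
    (fun z hz => hZU (hZ.mem_toFinset.mp hz))
  exact ⟨n, s, fun z hz => h1 z (hZ.mem_toFinset.mpr hz), h2, h3⟩

end Groth.Agent.S2324
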