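import Groth.Statements.S1402
import Groth.Agent.Lib.Helper1.IndQuasiAffine
import Mathlib.AlgebraicGeometry.ZariskisMainTheorem

set_option autoImplicit false
universe u
open FlatMor

namespace Groth.Agent.S1402

open AlgebraicGeometry CategoryTheory Limits in
/-- A separated, locally quasi-finite morphism is ind-quasi-affine. -/
theorem result {X Y : Scheme.{u}} (f : X ⟶ Y) [IsSeparated f] [LocallyQuasiFinite f] [LocallyOfFiniteType f] :
    MoreMor.IsIndQuasiAffineHom f := by
  rw [Groth.Agent.H1.isIndQuasiAffineHom_iff]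
  intro W j _ _ V hV hr
  have hr' : Set.range (j ≫ f) ⊆ Set.range V.ι := by
    rw [Scheme.Opens.range_ι]; exact hr
  let φ : W ⟶ (V : Scheme.{u}) := IsOpenImmersion.lift V.ι (j ≫ f) hr'
  have hφ : φ ≫ V.ι = j ≫ f := IsOpenImmersion.lift_fac _ _ _
  have : IsAffine (V : Scheme.{u}) := hV
  have h1 : IsSeparated (φ ≫ V.ι) := by rw [hφ]; infer_instance
  have h2 : LocallyQuasiFinite (φ ≫ V.ι) := by rw [hφ]; infer_instance
  have h3 : LocallyOfFiniteType (φ ≫ V.ι) := by rw [hφ]; infer_instance
  have : IsSeparated φ := IsSeparated.of_comp φ V.ι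
  have : LocallyQuasiFinite φ := LocallyQuasiFinite.of_comp φ V.ι
  have : LocallyOfFiniteType φ := locallyOfFiniteType_of_comp φ V.ι
  have : QuasiCompact φ := inferInstance
  have : IsOpenImmersion φ.toNormalization := inferInstance
  have : IsAffineHom φ.fromNormalization := inferInstance
  have : IsAffine φ.normalization := isAffine_of_isAffineHom φ.fromNormalization
  have := Groth.Agent.H1.isQuasiAffine_of_isAffine φ.normalization
  exact Scheme.IsQuasiAffine.of_isImmersion φ.toNormalization

end Groth.Agent.S1402
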