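import Groth.Statements.S5621
import Groth.Agent.Lib.Helper3.PerfAux

set_option autoImplicit false
universe w v u
open CategoryTheory CategoryTheory.Limits
open PCoh

namespace Groth.Agent.S5621

/-- Let C be an abelian category and C₀ a strictly full additive subcategory, liftable and stable under
kernels of epimorphisms. Let a ≤ b and let F be a complex with F^i = 0 for i outside [a, b], of
perfect amplitude in [a, b] (isomorphic in D(C) to a strictly perfect complex vanishing outside [a,
b]), and with F^i in C₀ for i > a. Then F^a lies in C₀. -/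
theorem result {C : Type u} [Category.{v} C] [Abelian C] [HasDerivedCategory.{w} C]
    (P : ObjectProperty C) [P.IsClosedUnderIsomorphisms] [P.ContainsZero] (hsum : ∀ X Y : C, P X → P Y → P (X ⨯ Y))
    (hlift : ∀ (E F : C) (u : E ⟶ F), Epi u → P F → IsSplitEpi u)
    (hst : ∀ (E F : C) (u : E ⟶ F), Epi u → P E → P F → P (kernel u))
    (a b : ℤ) (hab : a ≤ b) (F : CochainComplex C ℤ)
    (hvan : ∀ i : ℤ, i < a ∨ b < i → IsZero (F.X i)) (hP : ∀ i : ℤ, a < i → P (F.X i))
    (hamp : (∃ E : CochainComplex C ℤ, (∀ i : ℤ, P (E.X i)) ∧ (∀ i : ℤ, i < a ∨ b < i → IsZero (E.X i)) ∧ Nonempty (DerivedCategory.Q.obj E ≅ DerivedCategory.Q.obj F))) :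
    P (F.X a) := by
  obtain ⟨E, hPE, hzE, ⟨e⟩⟩ := hamp
  haveI : E.IsKProjective := H3.PerfAux.isKProjective_of_bounded P hlift E b
    (fun i hi => hzE i (Or.inr hi)) hPE
  obtain ⟨f, hf⟩ := H3.PerfAux.exists_map_of_isKProjective E F e.hom
  haveI : QuasiIso f := by
    rw [← DerivedCategory.isIso_Q_map_iff_quasiIso, hf]; infer_instance
  set K := CochainComplex.mappingCone f with hK
  have hac : ∀ i : ℤ, IsZero (K.homology i) := fun i =>
    H3.PerfAux.mappingCone_acyclic_of_quasiIso f i
  have hKz : ∀ i : ℤ, b < i → IsZero (K.X i) := fun i hi =>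
    H3.PerfAux.mappingCone_X_isZero f i (hzE _ (Or.inr (by omega))) (hvan _ (Or.inr hi))
  have hKP : ∀ i : ℤ, a + 1 ≤ i → P (K.X i) := fun i hi =>
    H3.PerfAux.mappingCone_X_prop P hsum f i (hPE _) (hP i (by omega))
  -- cycles in degree a+1
  have hZ1 : P (K.cycles (a + 1)) :=
    H3.PerfAux.cycles_prop P hst K b hKz (a + 1) hKP (a - 1) (fun i _ => hac i) (a + 1) le_rfl (by omega)
  -- degree a - 1
  have hKm1 : P (K.X (a - 1)) := by
    refine H3.PerfAux.mappingCone_X_prop P hsum f (a - 1) (hPE _) ?_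
    exact P.prop_of_isZero (hvan _ (Or.inl (by omega)))
  have hKm2 : IsZero (K.X (a - 2)) :=
    H3.PerfAux.mappingCone_X_isZero f (a - 2) (hzE _ (Or.inl (by omega))) (hvan _ (Or.inl (by omega)))
  have hZm1 : IsZero (K.cycles (a - 1)) := by
    haveI := H3.PerfAux.epi_toCycles_of_isZero_homology K (a - 2) (a - 1) (by omega) (hac _)
    rw [IsZero.iff_id_eq_zero, ← cancel_epi (K.toCycles (a - 2) (a - 1))]
    exact hKm2.eq_of_src _ _
  have hZ0 : P (K.cycles a) := by
    haveI := H3.PerfAux.epi_toCycles_of_isZero_homology K (a - 1) a (by omega) (hac _)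
    haveI : Mono (K.toCycles (a - 1) a) := by
      refine Preadditive.mono_of_kernel_zero ?_
      exact (IsZero.of_iso hZm1 (H3.PerfAux.kernelToCyclesIso K (a - 1) a (by omega))).eq_of_src _ _
    haveI : IsIso (K.toCycles (a - 1) a) := isIso_of_mono_of_epi _
    exact P.prop_of_iso (asIso (K.toCycles (a - 1) a)) hKm1
  -- degree a
  have hKa : P (K.X a) := by
    have hepi := H3.PerfAux.epi_toCycles_of_isZero_homology K a (a + 1) rfl (hac _)
    haveI := hlift _ _ (K.toCycles a (a + 1)) hepi hZ1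
    refine H3.PerfAux.prop_of_splitEpi P hsum (K.toCycles a (a + 1)) ?_ hZ1
    exact P.prop_of_iso (H3.PerfAux.kernelToCyclesIso K a (a + 1) rfl).symm hZ0
  have e2 : K.X a ≅ E.X (a + 1) ⊞ F.X a :=
    HomologicalComplex.homotopyCofiber.XIsoBiprod f a (a + 1) rfl
  exact H3.PerfAux.prop_snd_of_biprod P hst (P.prop_of_iso e2 hKa) (hPE _)

end Groth.Agent.S5621
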