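import Groth.Statements.S5002
import Mathlib.RingTheory.Finiteness.NilpotentKer
-- import your own Groth.Agent.* helpers here

set_option autoImplicit false
universe u
open PP16

namespace Groth.Agent.S5002
open scoped TensorProduct

/-- Suppose A is a commutative ring and B is a finite-type A-algebra. For each n, the ring of principal
parts of order n of B over A is then finitely generated as a B-module, where B acts via the first
factor. -/
theorem result (n : ℕ) (A B : Type u) [CommRing A] [CommRing B] [Algebra A B]
    [Algebra.FiniteType A B] : Module.Finite B (PP16.P n A B) := by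
  classical
  have hle : (KaehlerDifferential.ideal A B) ^ (n + 1) ≤
      RingHom.ker (Algebra.TensorProduct.lmul'' A : B ⊗[A] B →ₐ[B] B) := by
    refine (Ideal.pow_le_self (Nat.succ_ne_zero n)).trans ?_
    intro x hx
    exact hx
  let f : PP16.P n A B →ₐ[B] B :=
    Ideal.Quotient.liftₐ _ (Algebra.TensorProduct.lmul'' A : B ⊗[A] B →ₐ[B] B) (fun a ha => hle ha)
  have hf₁ : Function.Surjective f := by
    intro b
    refine ⟨Ideal.Quotient.mk _ (b ⊗ₜ[A] 1), ?_⟩
    show (Algebra.TensorProduct.lmul'' A : B ⊗[A] B →ₐ[B] B) (b ⊗ₜ[A] 1) = b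
    simp [Algebra.TensorProduct.lmul'']
  have hker : RingHom.ker f = (KaehlerDifferential.ideal A B).map
      (Ideal.Quotient.mk ((KaehlerDifferential.ideal A B) ^ (n + 1))) := by
    ext x
    obtain ⟨y, rfl⟩ := Ideal.Quotient.mk_surjective x
    rw [RingHom.mem_ker, Ideal.mem_map_iff_of_surjective _ Ideal.Quotient.mk_surjective]
    constructor
    · intro hy
      exact ⟨y, hy, rfl⟩
    · rintro ⟨z, hz, hzy⟩
      have : f (Ideal.Quotient.mk _ y) = f (Ideal.Quotient.mk _ z) := by rw [hzy]
      rw [this]
      exact hz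
  have hf₃ : (RingHom.ker f).FG := by
    rw [hker]
    exact (KaehlerDifferential.ideal_fg A B).map _
  have hf₂ : RingHom.ker f ≤ nilradical (PP16.P n A B) := by
    rw [hker]
    intro x hx
    refine ⟨n + 1, ?_⟩
    have h1 : x ^ (n + 1) ∈ ((KaehlerDifferential.ideal A B).map
        (Ideal.Quotient.mk ((KaehlerDifferential.ideal A B) ^ (n + 1)))) ^ (n + 1) :=
      Ideal.pow_mem_pow hx _
    rw [← Ideal.map_pow, Ideal.map_quotient_self] at h1
    exact h1
  exact Module.finite_of_surjective_of_ker_le_nilradical f hf₁ hf₂ hf₃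

end Groth.Agent.S5002
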