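import Groth.Statements.S5826
import Groth.Agent.Lib.Helper3.TopModAux
open Groth.Agent.H3.TopModAux

set_option autoImplicit false
universe u v w
open EGA41

namespace Groth.Agent.S5826

/-- Let A be a topological ring, M, N topological A-modules with the topologies deduced from that of A,
u : M → N a continuous linear map. Then u is formally left invertible if and only if, for every open
ideal J of A, the induced map M/JM → N/JN is left invertible, i.e. some linear map N → M/JM composes
with u to the projection M → M/JM. -/
theorem result {A : Type u} {M : Type v} {N : Type w}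
    [CommRing A] [TopologicalSpace A] [AddCommGroup M] [Module A M] [TopologicalSpace M] [AddCommGroup N]
    [Module A N] [TopologicalSpace N] (hM : TopMod.IsDeduced A M) (hN : TopMod.IsDeduced A N)
    (u : M →L[A] N) :
    TopMod.IsFormallyLeftInvertible u ↔
      ∀ J : Ideal A, IsOpen (J : Set A) →
        ∃ w : N →ₗ[A] M ⧸ (J • ⊤ : Submodule A M), ∀ x : M, w (u x) = Submodule.Quotient.mk x := by
  constructor
  · intro h J hJ
    let _ : TopologicalSpace (M ⧸ (J • ⊤ : Submodule A M)) := ⊥
    have : DiscreteTopology (M ⧸ (J • ⊤ : Submodule A M)) := ⟨rfl⟩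
    have hc : Continuous (Submodule.mkQ (J • ⊤ : Submodule A M)) :=
      continuous_of_le_ker hM _ J hJ (by rw [Submodule.ker_mkQ])
    obtain ⟨w, hw⟩ := h (M ⧸ (J • ⊤ : Submodule A M)) ⟨Submodule.mkQ _, hc⟩
    exact ⟨w.toLinearMap, fun x => hw x⟩
  · intro h E _ _ _ _ v
    -- kernel of v is a neighbourhood of 0
    have hker : (LinearMap.ker v.toLinearMap : Set M) ∈ nhds (0 : M) := by
      have : IsOpen (v ⁻¹' {0}) := (isOpen_discrete _).preimage v.continuous
      exact this.mem_nhds (by simp)
    obtain ⟨J, hJ, hJle⟩ := hM.2.mem_iff.mp hker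
    obtain ⟨w, hw⟩ := h J hJ
    let vbar : (M ⧸ (J • ⊤ : Submodule A M)) →ₗ[A] E := Submodule.liftQ _ v.toLinearMap hJle
    let w' : N →ₗ[A] E := vbar.comp w
    have hw'ker : (J • ⊤ : Submodule A N) ≤ LinearMap.ker w' := by
      rw [Submodule.smul_le]
      intro a ha n _
      rw [LinearMap.mem_ker, map_smul]
      show a • vbar (w n) = 0
      rw [← map_smul]
      obtain ⟨m, hm⟩ := Submodule.Quotient.mk_surjective _ (w n)
      rw [← hm, ← Submodule.Quotient.mk_smul]
      have : a • m ∈ (J • ⊤ : Submodule A M) := Submodule.smul_mem_smul ha trivial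
      rw [(Submodule.Quotient.mk_eq_zero _).mpr this, map_zero]
    have hc : Continuous w' := continuous_of_le_ker hN w' J hJ hw'ker
    refine ⟨⟨w', hc⟩, ?_⟩
    intro x
    show vbar (w (u x)) = v x
    rw [hw]
    rfl

end Groth.Agent.S5826
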