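import Groth.Statements.S0598
import Groth.Agent.Lib.Helper5.CD.K9
import Groth.Agent.Lib.Helper3.CA.GRingGeneric
import Groth.Agent.Lib.Helper6.CompleteNoeth

set_option autoImplicit false
universe u
open CAlg

namespace Groth.Agent.S0598



/-- A Noetherian local ring complete with respect to its maximal ideal is a G-ring. -/
theorem result (R : Type u) [CommRing R] [IsLocalRing R] [IsNoetherianRing R]
    [IsAdicComplete (IsLocalRing.maximalIdeal R) R] : CAlg.IsGRing R := by
  rw [Groth.Agent.H3.GRingGeneric.main R]
  intro q hq P hP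
  haveI : IsAdicComplete (IsLocalRing.maximalIdeal (R ⧸ q)) (R ⧸ q) :=
    Groth.Agent.H6.isAdicComplete_quotient q
  exact Groth.Agent.H5.GRC.isGeometricallyRegular_formalFibre_complete_domain (R ⧸ q) P

end Groth.Agent.S0598
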