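import Groth.Statements.S9406
import Groth.Agent.Lib.Helper1.RegLoc

set_option autoImplicit false
universe u
open CAlg

namespace Groth.Agent.S9406

/-- Regularity descends along faithfully flat ring maps: whenever S is a faithfully flat R-algebra whose
underlying ring is regular, the base ring R is regular as well. -/
theorem result (R : Type u) [CommRing R] (S : Type u) [CommRing S]
    [Algebra R S] [Module.FaithfullyFlat R S] [IsRegularRing S] : IsRegularRing R := by
  haveI : IsNoetherianRing R := by
    rw [isNoetherianRing_iff, isNoetherian_iff']
    have hS : WellFoundedGT (Ideal S) := (isNoetherian_iff' (R := S) (M := S)).mp inferInstance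
    have hmono : StrictMono (Ideal.map (algebraMap R S)) := by
      intro I J hIJ
      refine lt_of_le_of_ne (Ideal.map_mono hIJ.le) ?_
      intro h
      exact hIJ.ne (Ideal.map_injective_of_faithfullyFlat (B := S) h)
    exact ⟨hmono.wellFoundedGT.wf⟩
  rw [isRegularRing_iff]
  intro p hp
  obtain ⟨q, hq, hqp⟩ := Ideal.exists_isPrime_liesOver_of_faithfullyFlat (B := S) p
  letI := Localization.AtPrime.algebraOfLiesOver p q
  haveI : IsLocalHom (algebraMap (Localization.AtPrime p) (Localization.AtPrime q)) := by
    rw [RingHom.algebraMap_toAlgebra]
    exact Localization.isLocalHom_localRingHom p q (algebraMap R S) Ideal.LiesOver.over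
  exact Groth.Agent.H1.Reg.isRegularLocalRing_of_flat (Localization.AtPrime p) (Localization.AtPrime q)

end Groth.Agent.S9406
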