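import Groth.Statements.S2027
import Groth.Agent.Lib.Helper5.Des.W6

set_option autoImplicit false
universe u
open Smoothing

namespace Groth.Agent.S2027



/-- Let `R` be Noetherian, `Λ` an `R`-algebra, `π ∈ R` with the annihilators of `π` and `π²` in `Λ`
equal, and `A → Λ` an `R`-algebra map with `A` finitely presented. Suppose `π` is strictly standard
in `A` over `R` and there is an `R`-algebra map `A → R/π⁴R` compatible with the maps to `Λ/π⁴Λ`.
Then `A → Λ` factors through a finitely presented `R`-algebra `B` such that every `r ∈ R` which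
multiplies the annihilator of `π²` into the annihilator of `π` maps into the singular ideal of `B`
over `R`. -/
theorem result {R Λ A : Type u} [CommRing R] [IsNoetherianRing R] [CommRing Λ]
    [Algebra R Λ] (π : R) (hΛ : ∀ x : Λ, π ^ 2 • x = 0 → π • x = 0) [CommRing A] [Algebra R A]
    [Algebra.FinitePresentation R A] (φ : A →ₐ[R] Λ)
    (hπ : Smoothing.IsStrictlyStandard R A (algebraMap R A π))
    (ρ : A →ₐ[R] R ⧸ Ideal.span {π ^ 4})
    (hρ : ∀ (a : A) (r : R), Ideal.Quotient.mk (Ideal.span {π ^ 4}) r = ρ a →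
      algebraMap R Λ r - φ a ∈ Ideal.span {algebraMap R Λ (π ^ 4)}) :
    ∃ (B : Type u) (_ : CommRing B) (_ : Algebra R B), Algebra.FinitePresentation R B ∧
      ∃ (α : A →ₐ[R] B) (β : B →ₐ[R] Λ), β.comp α = φ ∧
        ∀ r : R, (∀ x : R, π ^ 2 * x = 0 → π * (r * x) = 0) →
          algebraMap R B r ∈ Smoothing.singularIdeal R B := by
  classical
  obtain ⟨P, hspan, hkill⟩ := hπ
  choose r hr using fun i => Ideal.Quotient.mk_surjective (ρ (P.hom (MvPolynomial.X i)))
  have hρeval : ∀ q, ρ (P.hom q) =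
      Ideal.Quotient.mk (Ideal.span {π ^ 4}) (MvPolynomial.eval r q) := by
    intro q
    have : ρ.comp P.hom =
        (Ideal.Quotient.mkₐ R (Ideal.span {π ^ 4})).comp (MvPolynomial.aeval r) := by
      apply MvPolynomial.algHom_ext
      intro i
      simp only [AlgHom.comp_apply, MvPolynomial.aeval_X]
      exact (hr i).symm
    have h := congrArg (fun ψ => ψ q) this
    simp only [AlgHom.comp_apply] at h
    rw [h, MvPolynomial.aeval_eq_eval]
    rfl
  have hr' : ∀ q, P.hom q = 0 → MvPolynomial.eval r q ∈ Ideal.span {π ^ 4} := by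
    intro q hq
    rw [← Ideal.Quotient.eq_zero_iff_mem, ← hρeval, hq, map_zero]
  obtain ⟨S, t, b, AI, hb, hMS, hAI, hkt⟩ :=
    Groth.Agent.H5.Des.exists_data π P hspan hkill r hr'
  let D : Groth.Agent.H5.Des.Data R :=
    ⟨P.n, P.m, P.c, P.hcm, P.rel, π, r, S, 1 - π ^ 3 * t, t, rfl, b, hb, hMS, AI, hAI, hkt⟩
  have hlamex : ∀ i, ∃ l : Λ,
      φ (P.hom (MvPolynomial.X i)) = algebraMap R Λ (r i) + π ^ 4 • l := by
    intro i
    have := hρ (P.hom (MvPolynomial.X i)) (r i) (hr i)
    obtain ⟨l, hl⟩ := Ideal.mem_span_singleton'.mp this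
    refine ⟨-l, ?_⟩
    rw [Algebra.smul_def, mul_neg, mul_comm, hl]; ring
  choose lam hlam using hlamex
  have hker : ∀ q, P.hom q = 0 ↔ q ∈ Ideal.span (Set.range P.rel) := fun q => by
    rw [← P.ker_eq]; rfl
  exact Groth.Agent.H5.Des.final_of_data D P.hom P.surj hker φ hΛ lam hlam

end Groth.Agent.S2027
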