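import Groth.Statements.S3709
import Mathlib
import Groth.Agent.Lib.Helper1.EtSections2
import Groth.Agent.Lib.Helper1.Subtr8

set_option autoImplicit false
universe u
open SGA1

namespace Groth.Agent.S3709

open AlgebraicGeometry CategoryTheory CategoryTheory.Limits in
/-- A universally submersive morphism is a descent morphism for etale schemes (exactness of Hom_S(X, Y)
-> Hom_S'(X', Y') => Hom_S''(X'', Y'')): let g : S' -> S be universally submersive, X and Y schemes
over S with Y etale over S, X' and Y' their base changes along g, and f' : X' -> Y' an S'-morphism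
whose two pullbacks to S'' = S' x_S S' coincide (equivalently: the two composites X'' -> X' -> Y' ->
Y along the two projections agree). Then there is exactly one S-morphism u : X -> Y whose base
change is f'. -/
theorem result {S S' X Y : Scheme.{u}} (g : S' ⟶ S) (hg : SGA1.UnivSubmersive g)
    (p : X ⟶ S) (q : Y ⟶ S) [Etale q]
    (f' : pullback p g ⟶ pullback q g) (hf' : f' ≫ pullback.snd q g = pullback.snd p g)
    (hcoc : pullback.map p (pullback.fst g g ≫ g) p g (𝟙 X) (pullback.fst g g) (𝟙 S)
        ((Category.comp_id _).trans (Category.id_comp _).symm) (Category.comp_id _) ≫ f' ≫ pullback.fst q g =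
      pullback.map p (pullback.fst g g ≫ g) p g (𝟙 X) (pullback.snd g g) (𝟙 S)
        ((Category.comp_id _).trans (Category.id_comp _).symm) ((Category.comp_id _).trans pullback.condition) ≫
        f' ≫ pullback.fst q g) :
    ∃! u : X ⟶ Y, u ≫ q = p ∧ f' ≫ pullback.fst q g = pullback.fst p g ≫ u := by
  let π : pullback p q ⟶ X := pullback.fst p q
  let gL : pullback p g ⟶ X := pullback.fst p g
  have hgL : SGA1.UnivSubmersive gL :=
    Groth.Agent.Lib.Helper1.Subtr8.univSubmersive_of_isPullback hg (IsPullback.of_hasPullback p g)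
  have hgLq : Topology.IsQuotientMap gL := hgL (𝟙 _) (𝟙 _) gL IsPullback.of_id_snd
  haveI : Surjective gL := ⟨hgLq.surjective⟩
  have hq : Topology.IsQuotientMap (pullback.fst π gL) :=
    hgL (pullback.snd π gL) π (pullback.fst π gL) (IsPullback.of_hasPullback π gL)
  let σ₀ : pullback p g ⟶ Y := f' ≫ pullback.fst q g
  have hσ₀ : σ₀ ≫ q = gL ≫ p := by
    change (f' ≫ pullback.fst q g) ≫ q = pullback.fst p g ≫ p
    rw [Category.assoc, pullback.condition, ← Category.assoc, hf', pullback.condition]
  let σ : pullback p g ⟶ pullback p q := pullback.lift gL σ₀ hσ₀.symm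
  have hσ : σ ≫ π = gL := pullback.lift_fst _ _ _
  have hσ2 : σ ≫ pullback.snd p q = σ₀ := pullback.lift_snd _ _ _
  have hconst₀ : ∀ (T : Scheme.{u}) (a b : T ⟶ pullback p g), a ≫ gL = b ≫ gL → a ≫ σ₀ = b ≫ σ₀ := by
    intro T a b hab
    have h1 : (a ≫ pullback.snd p g) ≫ g = (b ≫ pullback.snd p g) ≫ g := by
      rw [Category.assoc, Category.assoc, ← pullback.condition, ← Category.assoc, ← Category.assoc]
      exact congrArg (· ≫ p) hab
    let w₀ : T ⟶ pullback g g := pullback.lift (a ≫ pullback.snd p g) (b ≫ pullback.snd p g) h1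
    let w : T ⟶ pullback p (pullback.fst g g ≫ g) := pullback.lift (a ≫ gL) w₀ (by
      rw [← Category.assoc, pullback.lift_fst, Category.assoc, Category.assoc, pullback.condition])
    have e1 : w ≫ pullback.map p (pullback.fst g g ≫ g) p g (𝟙 X) (pullback.fst g g) (𝟙 S)
        ((Category.comp_id _).trans (Category.id_comp _).symm) (Category.comp_id _) = a := by
      apply pullback.hom_ext
      · rw [Category.assoc, pullback.lift_fst, ← Category.assoc, pullback.lift_fst, Category.comp_id]
      · rw [Category.assoc, pullback.lift_snd, ← Category.assoc, pullback.lift_snd,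
          pullback.lift_fst]
    have e2 : w ≫ pullback.map p (pullback.fst g g ≫ g) p g (𝟙 X) (pullback.snd g g) (𝟙 S)
        ((Category.comp_id _).trans (Category.id_comp _).symm)
        ((Category.comp_id _).trans pullback.condition) = b := by
      apply pullback.hom_ext
      · rw [Category.assoc, pullback.lift_fst, ← Category.assoc, pullback.lift_fst, Category.comp_id]
        exact hab
      · rw [Category.assoc, pullback.lift_snd, ← Category.assoc, pullback.lift_snd,
          pullback.lift_snd]
    have := congrArg (w ≫ ·) hcoc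
    simp only [← Category.assoc] at this
    rw [e1, e2] at this
    simpa only [Category.assoc] using this
  have hconst : ∀ (K : Type u) [Field K] (a b : Spec (CommRingCat.of K) ⟶ pullback p g),
      a ≫ gL = b ≫ gL → a ≫ σ = b ≫ σ := by
    intro K _ a b hab
    apply pullback.hom_ext
    · rw [Category.assoc, Category.assoc]
      change a ≫ σ ≫ π = b ≫ σ ≫ π
      rw [hσ, hab]
    · rw [Category.assoc, Category.assoc, hσ2]
      exact hconst₀ _ a b hab
  obtain ⟨s, hs1, hs2⟩ := Groth.Agent.H1.EtSections.exists_section_of_constant_on_fibres π gL hq σ hσ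
    hconst
  refine ⟨s ≫ pullback.snd p q, ⟨?_, ?_⟩, ?_⟩
  · rw [Category.assoc, ← pullback.condition, ← Category.assoc]
    change (s ≫ π) ≫ p = p
    rw [hs1, Category.id_comp]
  · change σ₀ = gL ≫ s ≫ pullback.snd p q
    rw [← Category.assoc, hs2, hσ2]
  · rintro u ⟨hu1, hu2⟩
    refine Groth.Agent.H1.EtSections.eq_of_comp_eq_of_surjective q gL u (s ≫ pullback.snd p q) ?_ ?_
    · rw [hu1, Category.assoc, ← pullback.condition, ← Category.assoc]
      change p = (s ≫ π) ≫ p
      rw [hs1, Category.id_comp]
    · change gL ≫ u = gL ≫ s ≫ pullback.snd p q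
      rw [← hu2, ← Category.assoc, hs2, hσ2]

end Groth.Agent.S3709
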