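import Groth.Statements.S9200

set_option autoImplicit false
universe u
open CategoryTheory AlgebraicGeometry
open Lim

namespace Groth.Agent.S9200

/-- Let S be a scheme and X = lim X_i a cofiltered limit of S-schemes X_i (a diagram with a compatible
family of structure maps to S) with affine transition morphisms, every X_i quasi-compact and
quasi-separated; the structure map X → S is the composite X → X_{i₀} → S for any index i₀. Assume S
is quasi-compact and quasi-separated. If X → S is affine, then X_i → S is affine for all i beyond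
some index i₁. -/
theorem result {I : Type u} [SmallCategory I] [IsCofiltered I] (S : Scheme.{u}) [CompactSpace S] [QuasiSeparatedSpace S]
    (D : I ⥤ Scheme.{u}) (t : D ⟶ (Functor.const I).obj S) (c : Limits.Cone D) (hc : Limits.IsLimit c)
    [∀ (i j : I) (a : i ⟶ j), IsAffineHom (D.map a)]
    [∀ i, CompactSpace (D.obj i)] [∀ i, QuasiSeparatedSpace (D.obj i)] (i₀ : I)
    [IsAffineHom (c.π.app i₀ ≫ t.app i₀)] :
    ∃ i₁ : I, ∀ (i : I) (_ : i ⟶ i₁), IsAffineHom (t.app i) := by
  classical
  have hD : ∀ {i j : I} (a : i ⟶ j), IsAffineHom (D.map a) := fun a => inferInstance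
  have hnat : ∀ {i j : I} (a : i ⟶ j), D.map a ≫ t.app j = t.app i := by
    intro i j a
    have := t.naturality a
    simpa using this
  have key : ∀ V : S.Opens, IsAffineOpen V →
      ∃ iV : I, ∀ (i : I) (_ : i ⟶ iV), IsAffineOpen (t.app i ⁻¹ᵁ V) := by
    intro V hV
    set U := t.app i₀ ⁻¹ᵁ V with hU
    have hqc : QuasiCompact (t.app i₀) := quasiCompact_of_compactSpace (Y := S) (t.app i₀)
    have hUc : IsCompact (U : Set (D.obj i₀)) :=
      QuasiCompact.isCompact_preimage (f := t.app i₀) _ V.2 hV.isCompact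
    have h1 (j : Over i₀) : CompactSpace ((opensDiagram D i₀ U).obj j) :=
      isCompact_iff_compactSpace.mp (QuasiCompact.isCompact_preimage _ U.2 hUc)
    have h2 (j : Over i₀) : QuasiSeparatedSpace ((opensDiagram D i₀ U).obj j) :=
      (isQuasiSeparated_iff_quasiSeparatedSpace _ (D.map _ ⁻¹ᵁ _).2).mp
        (.of_quasiSeparatedSpace _)
    have h3 : IsAffine (opensCone D c i₀ U).pt := by
      change IsAffineOpen (c.π.app i₀ ⁻¹ᵁ U)
      rw [hU, ← Scheme.Hom.comp_preimage]
      exact hV.preimage _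
    obtain ⟨j, hj⟩ := Scheme.exists_isAffine_of_isLimit _ _ (isLimitOpensCone D c hc i₀ U)
    refine ⟨j.left, fun i f => ?_⟩
    have e : t.app i ⁻¹ᵁ V = D.map f ⁻¹ᵁ (D.map j.hom ⁻¹ᵁ U) := by
      rw [hU, ← Scheme.Hom.comp_preimage, ← Scheme.Hom.comp_preimage, Category.assoc, hnat, hnat]
    rw [e]
    exact IsAffineOpen.preimage hj (D.map f)
  obtain ⟨s, hs⟩ := isCompact_univ.elim_finite_subcover
    (fun V : S.affineOpens => ((V : S.Opens) : Set S)) (fun V => V.1.2) (by
      intro x _
      obtain ⟨_, ⟨V, hV : IsAffineOpen V, rfl⟩, hxV, -⟩ :=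
        S.isBasis_affineOpens.exists_subset_of_mem_open (Set.mem_univ x) isOpen_univ
      exact Set.mem_iUnion.mpr ⟨⟨V, hV⟩, hxV⟩)
  choose iV hiV using fun V : S.affineOpens => key V.1 V.2
  obtain ⟨i₁, hi₁⟩ := IsCofiltered.inf_objs_exists (s.image iV)
  refine ⟨i₁, fun i f => ?_⟩
  apply isAffineHom_of_forall_exists_isAffineOpen
  intro x
  obtain ⟨V, hVs, hxV⟩ : ∃ V ∈ s, x ∈ ((V : S.Opens) : Set S) := by
    have := hs (Set.mem_univ x)
    simpa using this
  have g : i₁ ⟶ iV V := (hi₁ (Finset.mem_image_of_mem iV hVs)).some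
  exact ⟨V.1, hxV, V.2, hiV V i (f ≫ g)⟩

end Groth.Agent.S9200
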