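import Groth.Statements.S0594
import Groth.Agent.S9200
import Groth.Agent.Lib.Helper5.Lim.ClosedImmStructure

set_option autoImplicit false
universe u
open CategoryTheory AlgebraicGeometry
open Lim

namespace Groth.Agent.S0594

/-- Over a quasi-compact quasi-separated base `S`, let `X` be the limit of a cofiltered system of
quasi-compact quasi-separated `S`-schemes, locally of finite type over `S`, whose transition
morphisms are closed immersions. If `X → S` is a closed immersion then so is `Xᵢ → S` for some index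
`i`. -/
theorem result {I : Type u} [SmallCategory I] [IsCofiltered I]
    (S : Scheme.{u}) [CompactSpace S] [QuasiSeparatedSpace S]
    (D : I ⥤ Scheme.{u}) (t : D ⟶ (Functor.const I).obj S) (c : Limits.Cone D)
    (hc : Limits.IsLimit c) [∀ (i j : I) (f : i ⟶ j), IsClosedImmersion (D.map f)]
    [∀ i, CompactSpace (D.obj i)] [∀ i, QuasiSeparatedSpace (D.obj i)]
    [∀ i, LocallyOfFiniteType (t.app i)] (i₀ : I) [IsClosedImmersion (c.π.app i₀ ≫ t.app i₀)] :
    ∃ i : I, IsClosedImmersion (t.app i) := by
  classical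
  have hD : ∀ {i j : I} (a : i ⟶ j), IsClosedImmersion (D.map a) := fun a => inferInstance
  have hnat : ∀ {i j : I} (a : i ⟶ j), D.map a ≫ t.app j = t.app i := by
    intro i j a
    have := t.naturality a
    simpa using this
  have hind : ∀ i j : I, c.π.app i ≫ t.app i = c.π.app j ≫ t.app j := by
    intro i j
    have h1 : c.π.app i ≫ t.app i = c.π.app (IsCofiltered.min i j) ≫ t.app _ := by
      rw [← c.w (IsCofiltered.minToLeft i j), Category.assoc, hnat]
    have h2 : c.π.app j ≫ t.app j = c.π.app (IsCofiltered.min i j) ≫ t.app _ := by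
      rw [← c.w (IsCofiltered.minToRight i j), Category.assoc, hnat]
    rw [h1, h2]
  obtain ⟨i₁, hi₁⟩ := Groth.Agent.S9200.result S D t c hc i₀
  have haff : IsAffineHom (t.app i₁) := hi₁ i₁ (𝟙 _)
  have hcl₁ : IsClosedImmersion (c.π.app i₁ ≫ t.app i₁) := by
    rw [hind i₁ i₀]; infer_instance
  have key : ∀ V : S.Opens, IsAffineOpen V → ∃ j : Over i₁, ∀ (j' : Over i₁) (_ : j' ⟶ j),
      IsClosedImmersion (t.app j'.left ∣_ V) := by
    intro V hV
    set U := t.app i₁ ⁻¹ᵁ V with hU
    have hUaff : IsAffineOpen U := hV.preimage (t.app i₁)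
    have hA : ∀ j : Over i₁, IsAffine ((opensDiagram D i₁ U).obj j) := fun j =>
      hUaff.preimage (D.map j.hom)
    have hle : ∀ k : Over i₁, D.map k.hom ⁻¹ᵁ U = t.app k.left ⁻¹ᵁ V := by
      intro k
      rw [hU, ← Scheme.Hom.comp_preimage, hnat]
    let tV : opensDiagram D i₁ U ⟶ (Functor.const (Over i₁)).obj V.toScheme :=
      { app k := (t.app k.left).resLE V (D.map k.hom ⁻¹ᵁ U) (hle k).le
        naturality := by
          intro k₁ k₂ f
          simp only [opensDiagram_map, Functor.const_obj_map, Category.comp_id,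
            Functor.const_obj_obj]
          erw [Scheme.Hom.resLE_comp_resLE]
          simp only [hnat] }
    have : IsAffine V.toScheme := hV
    have hmap : ∀ {j k : Over i₁} (φ : j ⟶ k),
        IsClosedImmersion ((opensDiagram D i₁ U).map φ) := by
      intro j k φ
      have h1 : IsClosedImmersion (D.map φ.left ∣_ (D.map k.hom ⁻¹ᵁ U)) := inferInstance
      rw [← Scheme.Hom.resLE_eq_morphismRestrict] at h1
      refine (Scheme.Hom.resLE_congr _ _ rfl ?_ @IsClosedImmersion).mp h1
      rw [← Scheme.Hom.comp_preimage, ← D.map_comp, Over.w φ]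
    obtain ⟨j, a, hj⟩ := Groth.Agent.H5.Lim.exists_isClosedImmersion_structure_of_isAffine
      (opensDiagram D i₁ U) (opensCone D c i₁ U) (isLimitOpensCone D c hc i₁ U) hmap V.toScheme tV
      (Over.mk (𝟙 i₁)) (IsZariskiLocalAtSource.resLE _ inferInstance) (by
        have h1 : IsClosedImmersion ((c.π.app i₁ ≫ t.app i₁) ∣_ V) := inferInstance
        rw [← Scheme.Hom.resLE_eq_morphismRestrict] at h1
        simp only [opensCone_π_app, tV]
        erw [Scheme.Hom.resLE_comp_resLE]
        refine (Scheme.Hom.resLE_congr _ _ rfl ?_ @IsClosedImmersion).mp h1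
        rw [Scheme.Hom.comp_preimage])
    refine ⟨j, fun j' φ => ?_⟩
    have h1 : IsClosedImmersion (tV.app j') := hj j' φ
    rw [← Scheme.Hom.resLE_eq_morphismRestrict]
    exact (Scheme.Hom.resLE_congr _ _ rfl (hle j') @IsClosedImmersion).mp h1
  obtain ⟨s, hs⟩ := isCompact_univ.elim_finite_subcover
    (fun V : S.affineOpens => ((V : S.Opens) : Set S)) (fun V => V.1.2) (by
      intro x _
      obtain ⟨_, ⟨V, hV : IsAffineOpen V, rfl⟩, hxV, -⟩ :=
        S.isBasis_affineOpens.exists_subset_of_mem_open (Set.mem_univ x) isOpen_univ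
      exact Set.mem_iUnion.mpr ⟨⟨V, hV⟩, hxV⟩)
  choose jV hjV using fun V : S.affineOpens => key V.1 V.2
  obtain ⟨j, hj⟩ := IsCofiltered.inf_objs_exists (s.image jV)
  refine ⟨j.left, ?_⟩
  rw [IsZariskiLocalAtTarget.iff_of_iSup_eq_top (P := @IsClosedImmersion)
    (fun V : s => (V.1 : S.Opens))]
  · intro V
    exact hjV V.1 j (hj (Finset.mem_image_of_mem jV V.2)).some
  · rw [eq_top_iff]
    intro x _
    have := hs (Set.mem_univ x)
    simp only [Set.mem_iUnion] at this
    obtain ⟨V, hVs, hxV⟩ := this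
    exact TopologicalSpace.Opens.mem_iSup.mpr ⟨⟨V, hVs⟩, hxV⟩

end Groth.Agent.S0594
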