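import Groth.Statements.S5057
import Mathlib.AlgebraicGeometry.IdealSheaf.Functorial
-- import your own Groth.Agent.* helpers here

set_option autoImplicit false
open CategoryTheory CategoryTheory.Limits AlgebraicGeometry
universe u
open Hensel

namespace Groth.Agent.S5057

/-- Let i : S₀ ⟶ S be a closed immersion such that for every finite morphism g : S' ⟶ S every
open-closed subset of S' ×_S S₀ is the inverse image under the first projection of exactly one
open-closed subset of S'. Then for every finite morphism g : S' ⟶ S, every open subset of S'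
containing the image of S' ×_S S₀ is all of S'. -/
theorem result {S S₀ : Scheme.{u}} (i : S₀ ⟶ S) [IsClosedImmersion i]
    (ha : ∀ (S' : Scheme.{u}) (g : S' ⟶ S), IsFinite g →
      ∀ V : Set ↥(pullback g i), IsClopen V → ∃! U : Set ↥S', IsClopen U ∧ (pullback.fst g i).base ⁻¹' U = V)
    {S' : Scheme.{u}} (g : S' ⟶ S) [IsFinite g] (U : Set ↥S') (hU : IsOpen U)
    (hU₀ : Set.range (pullback.fst g i).base ⊆ U) : U = Set.univ := by
  classical
  let Zc : TopologicalSpace.Closeds S' := ⟨Uᶜ, hU.isClosed_compl⟩
  let I := Scheme.IdealSheafData.vanishingIdeal Zc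
  have hrange : Set.range I.subschemeι = Uᶜ := by
    rw [I.range_subschemeι]
    exact Scheme.IdealSheafData.coe_support_vanishingIdeal Zc
  have : IsFinite (I.subschemeι ≫ g) := inferInstance
  have hempty : IsEmpty ↥(pullback (I.subschemeι ≫ g) i) := by
    constructor
    intro z
    let m : pullback (I.subschemeι ≫ g) i ⟶ pullback g i :=
      pullback.map (I.subschemeι ≫ g) i g i I.subschemeι (𝟙 _) (𝟙 _) (by simp) (by simp)
    have hm : m ≫ pullback.fst g i = pullback.fst (I.subschemeι ≫ g) i ≫ I.subschemeι := by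
      exact pullback.lift_fst _ _ _
    have h0 : (pullback.fst g i) (m z) = I.subschemeι ((pullback.fst (I.subschemeι ≫ g) i) z) := by
      rw [← Scheme.Hom.comp_apply, ← Scheme.Hom.comp_apply, hm]
    have h1 : I.subschemeι ((pullback.fst (I.subschemeι ≫ g) i) z) ∈ U := by
      rw [← h0]; exact hU₀ ⟨_, rfl⟩
    have h2 : I.subschemeι ((pullback.fst (I.subschemeι ≫ g) i) z) ∈ Uᶜ := by
      rw [← hrange]; exact ⟨_, rfl⟩
    exact h2 h1
  obtain ⟨W, hW, huniq⟩ := ha I.subscheme (I.subschemeι ≫ g) inferInstance ∅ isClopen_empty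
  have e1 := huniq ∅ ⟨isClopen_empty, Set.eq_empty_of_isEmpty _⟩
  have e2 := huniq Set.univ ⟨isClopen_univ, Set.eq_empty_of_isEmpty _⟩
  have h3 : (∅ : Set ↥I.subscheme) = Set.univ := e1.trans e2.symm
  have h4 : Uᶜ = ∅ := by
    rw [← hrange]
    ext y
    simp only [Set.mem_range, Set.mem_empty_iff_false, iff_false]
    rintro ⟨z, -⟩
    have : z ∈ (∅ : Set ↥I.subscheme) := h3 ▸ Set.mem_univ z
    exact this
  exact Set.compl_empty_iff.mp h4

end Groth.Agent.S5057
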