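import Groth.Statements.S14765
import Mathlib
import Groth.Agent.Lib.Helper1.Subtr2

set_option autoImplicit false
universe u
open CategoryTheory CategoryTheory.Limits AlgebraicGeometry
open Subtr

namespace Groth.Agent.S14765

open Groth.Agent.Lib.Helper1.Subtr1 Groth.Agent.Lib.Helper1.Subtr2 Groth.Agent.Lib.Helper1.ValLift
  Groth.Agent.H2.ProConsLib IsLocalRing HTop

/-- Let V be a valuation ring and f : X ⟶ Spec V any morphism of schemes. The following are equivalent:
(a) after every base change, every ordered pair of points of the target (a point and a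
specialization of it) lifts to an ordered pair of points of the source; (b) every ordered pair of
points of Spec V lifts to an ordered pair of points of X; (c) every point of Spec V is the image of
a point of X lying in the closure of the generic fibre; (d) the pair formed by the closed point and
the generic point of Spec V lifts to points x, x' of X with x a specialization of x'; (e) there are
a valuation ring W and a morphism Spec W ⟶ X whose composite with f is surjective; (f) there is a
closed subscheme Z of X such that Z ⟶ Spec V is flat and surjective. (The published list also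
contains subtrusiveness and universal subtrusiveness, which add submersiveness for the constructible
topology, and the lifting of arbitrary chains of points; this row omits those items and keeps the
lifting property alone in (a).) -/
theorem result (V : Type u) [CommRing V] [IsDomain V] [ValuationRing V]
    {X : Scheme.{u}} (f : X ⟶ Spec (CommRingCat.of V)) :
    List.TFAE [
      Subtr.UnivSSubtrusive f,
      Subtr.IsSSubtrusive f,
      ∀ y : Spec (CommRingCat.of V), ∃ x : X,
        x ∈ closure (f ⁻¹' {(⟨⊥, Ideal.isPrime_bot⟩ : PrimeSpectrum V)}) ∧ f x = y,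
      ∃ x x' : X, x' ⤳ x ∧ f x = IsLocalRing.closedPoint V ∧
        f x' = (⟨⊥, Ideal.isPrime_bot⟩ : PrimeSpectrum V),
      ∃ (W : Type u) (_ : CommRing W) (_ : IsDomain W) (_ : ValuationRing W)
        (g : Spec (CommRingCat.of W) ⟶ X), Surjective (g ≫ f),
      ∃ (Z : Scheme.{u}) (i : Z ⟶ X), IsClosedImmersion i ∧ Flat (i ≫ f) ∧ Surjective (i ≫ f)] := by
  have hdV : IsDomain (CommRingCat.of V) := inferInstanceAs (IsDomain V)
  have hvV : ValuationRing (CommRingCat.of V) := inferInstanceAs (ValuationRing V)
  tfae_have 1 → 2 := fun h => UnivSSubtrusive.isSSubtrusive h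
  tfae_have 2 → 3 := by
    intro h y
    obtain ⟨x, x', hx, h1, h2⟩ := h (bot_specializes (V := CommRingCat.of V) y)
    refine ⟨x, ?_, h1⟩
    have : x ∈ closure {x'} := specializes_iff_mem_closure.1 hx
    have hsub : ({x'} : Set X) ⊆ f ⁻¹' {(⟨⊥, Ideal.isPrime_bot⟩ : PrimeSpectrum V)} := by
      rintro _ rfl
      exact h2
    exact closure_mono hsub this
  tfae_have 3 → 4 := by
    intro h
    obtain ⟨x, hx, hfx⟩ := h (closedPoint V)
    have hpro : ProCons.IsProConstructible
        (f.base ⁻¹' {(⟨⊥, Ideal.isPrime_bot⟩ : PrimeSpectrum V)}) :=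
      isProConstructible_preimage f (isProConstructible_singleton (X := Spec (CommRingCat.of V)) _)
    obtain ⟨x', hx', hsp⟩ := exists_specializes_of_mem_closure hpro hx
    exact ⟨x, x', hsp, hfx, hx'⟩
  tfae_have 4 → 5 := by
    rintro ⟨x, x', hsp, hx, hx'⟩
    obtain ⟨W, hd, hv, φ, hφ, q, hq, -⟩ := exists_extVal_lift (V := CommRingCat.of V) f hsp
      (by rw [hx']) hx
    refine ⟨W, inferInstance, hd, hv, q, ⟨?_⟩⟩
    rw [hq]
    exact comap_surjective_of_isExtVal φ hφ
  tfae_have 5 → 6 := by
    rintro ⟨W, _, _, _, g, ⟨hs⟩⟩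
    let ξ : Spec (CommRingCat.of W) := (⟨⊥, Ideal.isPrime_bot⟩ : PrimeSpectrum W)
    let η : Spec (CommRingCat.of V) := (⟨⊥, Ideal.isPrime_bot⟩ : PrimeSpectrum V)
    have hdW : IsDomain (CommRingCat.of W) := inferInstanceAs (IsDomain W)
    have hξ : ∀ w : Spec (CommRingCat.of W), ξ ⤳ w := fun w => bot_specializes (V := CommRingCat.of W) w
    have hη : (g ≫ f) ξ = η := by
      obtain ⟨w, hw⟩ := hs η
      have h1 : (g ≫ f) ξ ⤳ η := hw ▸ (hξ w).map (g ≫ f).continuous
      exact eq_bot_of_specializes_bot h1
    obtain ⟨Z, i, hi, hint, hrange, hgen⟩ := exists_integral_closure (g ξ)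
    refine ⟨Z, i, hi, ?_, ⟨?_⟩⟩
    · apply flat_of_isIntegral (V := CommRingCat.of V)
      rw [Scheme.Hom.comp_apply, hgen, ← Scheme.Hom.comp_apply, hη]
    · intro y
      obtain ⟨w, hw⟩ := hs y
      have hmem : g w ∈ closure {g ξ} := specializes_iff_mem_closure.1 ((hξ w).map g.continuous)
      rw [← hrange] at hmem
      obtain ⟨z, hz⟩ := hmem
      refine ⟨z, ?_⟩
      rw [Scheme.Hom.comp_apply, hz, ← Scheme.Hom.comp_apply, hw]
  tfae_have 6 → 1 := by
    rintro ⟨Z, i, hi, hflat, ⟨hs⟩⟩
    exact univSSubtrusive_of_valLift (ValLift.of_comp (valLift_of_flat_of_surjective (i ≫ f) hs))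
  tfae_finish

end Groth.Agent.S14765
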