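import Groth.Statements.S7658
import Mathlib
import Groth.Agent.Lib.Helper2.ImageReduced

set_option autoImplicit false
universe u
open CategoryTheory CategoryTheory.Limits AlgebraicGeometry
open Variety

namespace Groth.Agent.S7658


section Top
variable {R X : Type*} [TopologicalSpace R] [TopologicalSpace X]

lemma closure_image_mem_irreducibleComponents {j : R → X} (hj : Topology.IsOpenEmbedding j) (ξ : R)
    (hξ : closure ({ξ} : Set R) ∈ irreducibleComponents R) :
    closure ({j ξ} : Set X) ∈ irreducibleComponents X := by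
  refine ⟨isIrreducible_singleton.closure, ?_⟩
  intro Z hZ hle
  -- replace Z by its closure
  have hZ' : IsIrreducible (closure Z) := hZ.closure
  have hξZ : j ξ ∈ closure Z := subset_closure (hle (subset_closure rfl))
  have hpre : IsIrreducible (j ⁻¹' closure Z) :=
    ⟨⟨ξ, hξZ⟩, hZ'.2.preimage hj⟩
  have hcl : IsClosed (j ⁻¹' closure Z) := isClosed_closure.preimage hj.continuous
  have h1 : closure ({ξ} : Set R) ⊆ j ⁻¹' closure Z :=
    closure_minimal (Set.singleton_subset_iff.mpr hξZ) hcl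
  have h2 : j ⁻¹' closure Z ⊆ closure ({ξ} : Set R) := hξ.2 hpre h1
  have h3 : closure Z ⊆ closure (closure Z ∩ Set.range j) :=
    subset_closure_inter_of_isPreirreducible_of_isOpen hZ'.2 hj.isOpen_range ⟨j ξ, hξZ, ξ, rfl⟩
  have h4 : closure Z ∩ Set.range j ⊆ closure ({j ξ} : Set X) := by
    rintro _ ⟨hz, w, rfl⟩
    have hw : w ∈ closure ({ξ} : Set R) := h2 hz
    have := image_closure_subset_closure_image hj.continuous (s := {ξ}) ⟨w, hw, rfl⟩
    simpa using this
  calc Z ⊆ closure Z := subset_closure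
    _ ⊆ closure (closure Z ∩ Set.range j) := h3
    _ ⊆ closure (closure ({j ξ} : Set X)) := closure_mono h4
    _ = closure ({j ξ} : Set X) := closure_closure

lemma dense_genericPoints [QuasiSober R] :
    Dense {ξ : R | closure ({ξ} : Set R) ∈ irreducibleComponents R} := by
  intro z
  obtain ⟨ξ, hξ⟩ := QuasiSober.sober (isIrreducible_irreducibleComponent (x := z))
    isClosed_irreducibleComponent
  have h1 : closure ({ξ} : Set R) = irreducibleComponent z := hξ
  have h2 : ξ ∈ {ξ : R | closure ({ξ} : Set R) ∈ irreducibleComponents R} := by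
    change closure ({ξ} : Set R) ∈ irreducibleComponents R
    rw [h1]
    exact irreducibleComponent_mem_irreducibleComponents z
  have h3 : z ∈ closure ({ξ} : Set R) := by rw [h1]; exact mem_irreducibleComponent
  exact closure_mono (Set.singleton_subset_iff.mpr h2) h3

end Top

section Sch
variable {X Y : Scheme.{u}} (f : X ⟶ Y)

/-- the reduction of a scheme -/
noncomputable abbrev red (V : Scheme.{u}) : Scheme.{u} := V.nilradical.subscheme

instance (V : Scheme.{u}) : IsReduced (red V) := by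
  apply Groth.Agent.H2.isReduced_subscheme_of_isRadical
  intro U
  rw [Scheme.nilradical, Scheme.IdealSheafData.radical_ideal]
  exact Ideal.radical_isRadical _

lemma redι_surjective (V : Scheme.{u}) : Function.Surjective V.nilradical.subschemeι := by
  rw [← Set.range_eq_univ, Scheme.IdealSheafData.range_subschemeι, Scheme.support_nilradical]
  rfl

/-- two sections of a separated local isomorphism that agree on maximal points are equal
on the reduction -/
theorem red_comp_eq [IsSeparated f]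
    (hloc : ∀ x : X, ∃ U : X.Opens, x ∈ U ∧ IsOpenImmersion (U.ι ≫ f))
    {V : Scheme.{u}} (s₁ s₂ : V ⟶ X) (h12 : s₁ ≫ f = s₂ ≫ f)
    (hpt : ∀ ξ : red V, closure ({ξ} : Set (red V)) ∈ irreducibleComponents (red V) →
      s₁.base (V.nilradical.subschemeι.base ξ) = s₂.base (V.nilradical.subschemeι.base ξ)) :
    V.nilradical.subschemeι ≫ s₁ = V.nilradical.subschemeι ≫ s₂ := by
  apply ext_of_fromSpecResidueField_eq _ _ f
    {ξ : red V | closure ({ξ} : Set (red V)) ∈ irreducibleComponents (red V)} dense_genericPoints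
  · intro ξ hξ
    have hx := hpt ξ hξ
    obtain ⟨U, hxU, hU⟩ := hloc (s₁.base (V.nilradical.subschemeι.base ξ))
    have hr1 : Set.range ((red V).fromSpecResidueField ξ ≫ V.nilradical.subschemeι ≫ s₁).base ⊆
        Set.range U.ι.base := by
      rintro _ ⟨p, rfl⟩
      rw [Scheme.Opens.range_ι]
      change ((red V).fromSpecResidueField ξ ≫ V.nilradical.subschemeι ≫ s₁).base p ∈ U
      rw [Scheme.Hom.comp_apply, Scheme.fromSpecResidueField_apply]
      exact hxU
    have hr2 : Set.range ((red V).fromSpecResidueField ξ ≫ V.nilradical.subschemeι ≫ s₂).base ⊆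
        Set.range U.ι.base := by
      rintro _ ⟨p, rfl⟩
      rw [Scheme.Opens.range_ι]
      change ((red V).fromSpecResidueField ξ ≫ V.nilradical.subschemeι ≫ s₂).base p ∈ U
      rw [Scheme.Hom.comp_apply, Scheme.fromSpecResidueField_apply]
      change s₂.base (V.nilradical.subschemeι.base ξ) ∈ U
      rw [← hx]
      exact hxU
    obtain ⟨ψ1, e1⟩ : ∃ ψ, ψ ≫ U.ι =
        (red V).fromSpecResidueField ξ ≫ V.nilradical.subschemeι ≫ s₁ :=
      ⟨_, IsOpenImmersion.lift_fac U.ι _ hr1⟩
    obtain ⟨ψ2, e2⟩ : ∃ ψ, ψ ≫ U.ι =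
        (red V).fromSpecResidueField ξ ≫ V.nilradical.subschemeι ≫ s₂ :=
      ⟨_, IsOpenImmersion.lift_fac U.ι _ hr2⟩
    have e3 : ψ1 = ψ2 := by
      rw [← cancel_mono (U.ι ≫ f), ← Category.assoc, ← Category.assoc, e1, e2]
      simp only [Category.assoc, h12]
    have e4 : (red V).fromSpecResidueField ξ ≫ V.nilradical.subschemeι ≫ s₁ =
        (red V).fromSpecResidueField ξ ≫ V.nilradical.subschemeι ≫ s₂ := by
      rw [← e1, ← e2, e3]
    exact e4
  · simp only [Category.assoc, h12]

lemma redι_isOpenEmbedding (V : Scheme.{u}) :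
    Topology.IsOpenEmbedding V.nilradical.subschemeι.base := by
  have h1 : Topology.IsClosedEmbedding V.nilradical.subschemeι.base :=
    V.nilradical.subschemeι.isClosedEmbedding
  have h2 : IsHomeomorph V.nilradical.subschemeι.base :=
    isHomeomorph_iff_isEmbedding_surjective.mpr ⟨h1.isEmbedding, redι_surjective V⟩
  exact h2.isOpenEmbedding

end Sch

/-- A separated morphism of schemes f : X → Y such that X has an open covering on whose members f
restricts to open immersions, and such that no two distinct generic points of irreducible components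
of X have the same image under f, is an open immersion. -/
theorem result {X Y : Scheme.{u}}
    (f : X ⟶ Y) [IsSeparated f]
    (hloc : ∀ x : X, ∃ U : X.Opens, x ∈ U ∧ IsOpenImmersion (U.ι ≫ f))
    (hinj : ∀ ξ ξ' : X, closure ({ξ} : Set X) ∈ irreducibleComponents (X : Type u) → closure ({ξ'} : Set X) ∈ irreducibleComponents (X : Type u) →
      f.base ξ = f.base ξ' → ξ = ξ') :
    IsOpenImmersion f := by
  apply IsOpenImmersion.of_forall_source_exists f ?_ (fun x => by
    obtain ⟨U, hxU, hU⟩ := hloc x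
    exact ⟨U.toScheme, U.ι, inferInstance, by simpa using hxU, hU⟩)
  intro x1 x2 h12
  obtain ⟨U1, hx1, hU1⟩ := hloc x1
  obtain ⟨U2, hx2, hU2⟩ := hloc x2
  let V : Y.Opens := (U1.ι ≫ f).opensRange ⊓ (U2.ι ≫ f).opensRange
  have hV1 : Set.range V.ι.base ⊆ Set.range (U1.ι ≫ f).base := by
    rw [Scheme.Opens.range_ι]; exact fun y hy => hy.1
  have hV2 : Set.range V.ι.base ⊆ Set.range (U2.ι ≫ f).base := by
    rw [Scheme.Opens.range_ι]; exact fun y hy => hy.2
  obtain ⟨σ1, hσ1⟩ : ∃ σ : V.toScheme ⟶ U1.toScheme, σ ≫ (U1.ι ≫ f) = V.ι :=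
    ⟨_, IsOpenImmersion.lift_fac _ _ hV1⟩
  obtain ⟨σ2, hσ2⟩ : ∃ σ : V.toScheme ⟶ U2.toScheme, σ ≫ (U2.ι ≫ f) = V.ι :=
    ⟨_, IsOpenImmersion.lift_fac _ _ hV2⟩
  haveI : IsOpenImmersion σ1 := by
    haveI : IsOpenImmersion (σ1 ≫ (U1.ι ≫ f)) := by rw [hσ1]; infer_instance
    exact IsOpenImmersion.of_comp σ1 (U1.ι ≫ f)
  haveI : IsOpenImmersion σ2 := by
    haveI : IsOpenImmersion (σ2 ≫ (U2.ι ≫ f)) := by rw [hσ2]; infer_instance
    exact IsOpenImmersion.of_comp σ2 (U2.ι ≫ f)
  have hs1 : (σ1 ≫ U1.ι) ≫ f = V.ι := by rw [Category.assoc]; exact hσ1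
  have hs2 : (σ2 ≫ U2.ι) ≫ f = V.ι := by rw [Category.assoc]; exact hσ2
  have hyV : f.base x1 ∈ V := ⟨⟨⟨x1, hx1⟩, rfl⟩, ⟨⟨x2, hx2⟩, h12.symm⟩⟩
  let v : V.toScheme := ⟨f.base x1, hyV⟩
  have hsv1 : (σ1 ≫ U1.ι).base v = x1 := by
    have h1 : (U1.ι ≫ f).base (σ1.base v) = (U1.ι ≫ f).base ⟨x1, hx1⟩ := by
      rw [← Scheme.Hom.comp_apply, hσ1]; rfl
    have h2 := (U1.ι ≫ f).isOpenEmbedding.injective h1
    rw [Scheme.Hom.comp_apply, h2]; rfl
  have hsv2 : (σ2 ≫ U2.ι).base v = x2 := by
    have h1 : (U2.ι ≫ f).base (σ2.base v) = (U2.ι ≫ f).base ⟨x2, hx2⟩ := by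
      rw [← Scheme.Hom.comp_apply, hσ2]; exact h12
    have h2 := (U2.ι ≫ f).isOpenEmbedding.injective h1
    rw [Scheme.Hom.comp_apply, h2]; rfl
  have hemb1 : Topology.IsOpenEmbedding
      (fun z : red V.toScheme => (σ1 ≫ U1.ι).base (V.toScheme.nilradical.subschemeι.base z)) :=
    (σ1 ≫ U1.ι).isOpenEmbedding.comp (redι_isOpenEmbedding V.toScheme)
  have hemb2 : Topology.IsOpenEmbedding
      (fun z : red V.toScheme => (σ2 ≫ U2.ι).base (V.toScheme.nilradical.subschemeι.base z)) :=
    (σ2 ≫ U2.ι).isOpenEmbedding.comp (redι_isOpenEmbedding V.toScheme)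
  have key := red_comp_eq f hloc (σ1 ≫ U1.ι) (σ2 ≫ U2.ι) (hs1.trans hs2.symm) (fun ξ hξ =>
    hinj _ _ (closure_image_mem_irreducibleComponents hemb1 ξ hξ)
      (closure_image_mem_irreducibleComponents hemb2 ξ hξ) (by
        have e1 : f.base ((σ1 ≫ U1.ι).base (V.toScheme.nilradical.subschemeι.base ξ)) =
            V.ι.base (V.toScheme.nilradical.subschemeι.base ξ) := by
          rw [← Scheme.Hom.comp_apply, hs1]
        have e2 : f.base ((σ2 ≫ U2.ι).base (V.toScheme.nilradical.subschemeι.base ξ)) =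
            V.ι.base (V.toScheme.nilradical.subschemeι.base ξ) := by
          rw [← Scheme.Hom.comp_apply, hs2]
        exact e1.trans e2.symm))
  obtain ⟨w, hw⟩ := redι_surjective V.toScheme v
  have h3 : (V.toScheme.nilradical.subschemeι ≫ (σ1 ≫ U1.ι)).base w =
      (V.toScheme.nilradical.subschemeι ≫ (σ2 ≫ U2.ι)).base w := by rw [key]
  rw [Scheme.Hom.comp_apply, Scheme.Hom.comp_apply (V.toScheme.nilradical.subschemeι), hw] at h3
  rw [← hsv1, ← hsv2]
  exact h3


end Groth.Agent.S7658
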