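import Groth.Statements.S7478
import Mathlib
import Groth.Agent.Lib.Helper1.ValLift

set_option autoImplicit false
universe w u
open HTop

namespace Groth.Agent.S7478

namespace Aux
open CategoryTheory CategoryTheory.Limits AlgebraicGeometry

theorem exists_preimage_of_isPullback {P X Y S : Scheme.{u}} {fst : P ⟶ X} {snd : P ⟶ Y}
    {f : X ⟶ S} {g : Y ⟶ S} (h : IsPullback fst snd f g) (x : X) (y : Y) (hxy : f x = g y) :
    ∃ z : P, fst z = x ∧ snd z = y := by
  obtain ⟨z, hz1, hz2⟩ := Scheme.Pullback.exists_preimage_pullback (f := f) (g := g) x y hxy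
  refine ⟨h.isoPullback.inv z, ?_, ?_⟩
  · rw [← Scheme.Hom.comp_apply, h.isoPullback_inv_fst, hz1]
  · rw [← Scheme.Hom.comp_apply, h.isoPullback_inv_snd, hz2]

end Aux

open CategoryTheory CategoryTheory.Limits AlgebraicGeometry in
/-- The base change of a standard ph covering along a morphism of affine schemes T' -> T is a standard
ph covering of T'. -/
theorem result {T T' : Scheme.{u}} [IsAffine T'] (g : T' ⟶ T) (E : PreZeroHypercover.{w} T) (hE : HTop.IsStandardPh E) : HTop.IsStandardPh (E.pullback₁ g) := by
  have hT := hE.isAffine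
  obtain ⟨U, f, ι, hf, hs, hι, hfac, hcov⟩ := hE.exists_proper
  refine ⟨inferInstance, hE.finite_index, ?_, ?_⟩
  · intro j
    have := hE.isAffine_obj j
    exact inferInstanceAs (IsAffine (pullback g (E.f j)))
  · let ι' : ∀ j, pullback g (E.f j) ⟶ pullback g f := fun j =>
      pullback.lift (pullback.fst g (E.f j)) (pullback.snd g (E.f j) ≫ ι j) (by
        rw [Category.assoc, hfac j, pullback.condition])
    have hι'fst : ∀ j, ι' j ≫ pullback.fst g f = pullback.fst g (E.f j) := fun j =>
      pullback.lift_fst _ _ _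
    have hι'snd : ∀ j, ι' j ≫ pullback.snd g f = pullback.snd g (E.f j) ≫ ι j := fun j =>
      pullback.lift_snd _ _ _
    -- the square is a pullback
    have hpb : ∀ j, IsPullback (ι' j) (pullback.snd g (E.f j)) (pullback.snd g f) (ι j) := by
      intro j
      have hbig : IsPullback (pullback.fst g (E.f j)) (pullback.snd g (E.f j)) g (ι j ≫ f) := by
        rw [hfac j]; exact IsPullback.of_hasPullback g (E.f j)
      have hright : IsPullback (pullback.fst g f) (pullback.snd g f) g f :=
        IsPullback.of_hasPullback g f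
      have := IsPullback.of_bot (h₁₁ := pullback.snd g (E.f j)) (v₁₁ := ι' j) (v₁₂ := ι j)
        (h₂₁ := pullback.snd g f) (v₂₁ := pullback.fst g f) (v₂₂ := f) (h₃₁ := g)
        (by rw [hι'fst j]; exact hbig.flip) (hι'snd j).symm hright.flip
      exact this.flip
    refine ⟨pullback g f, pullback.fst g f, ι', inferInstance, inferInstance, ?_, hι'fst, ?_⟩
    · intro j
      have := hι j
      exact MorphismProperty.of_isPullback (P := @IsOpenImmersion) (hpb j).flip (hι j)
    · intro x
      obtain ⟨j, a, ha⟩ := hcov (pullback.snd g f x)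
      obtain ⟨z, hz1, hz2⟩ := Aux.exists_preimage_of_isPullback (hpb j) x a ha.symm
      exact ⟨j, z, hz1⟩

end Groth.Agent.S7478
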