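import Groth.Statements.S4407
import Groth.Agent.Lib.Lead.QC.GlobGen
import Groth.Agent.Lib.Lead.QC.EpiLocal
import Groth.Agent.Lib.Lead.QC.Extend

set_option autoImplicit false
universe u
open CategoryTheory CategoryTheory.Limits AlgebraicGeometry
open EGA2

namespace Groth.Agent.S4407

/-- (a) ⇒ (e): let X be a quasi-affine scheme. Then every quasi-coherent O_X-module is generated by its
global sections (it is a quotient of a free O_X-module on some index set). -/
theorem result (X : Scheme.{u}) [X.IsQuasiAffine] (F : X.Modules)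
    (hF : Coh.IsQCoh F) : Curv2.IsGloballyGenerated F := by
  classical
  haveI : F.IsQuasicoherent := hF
  let K : Type u := Γ(F, ⊤)
  let FK : X.Modules := SheafOfModules.free (R := X.ringCatSheaf) K
  let p : FK ⟶ F :=
    Cofan.IsColimit.desc (SheafOfModules.isColimitFreeCofan (R := X.ringCatSheaf) K)
      (fun t : K => LD.QC.homOfSection F t)
  refine ⟨K, p, ?_⟩
  apply LD.QC.epi_of_local_lift
  intro W s x hxW
  obtain ⟨_, ⟨_, ⟨r, hr, rfl⟩, rfl⟩, hxr, hrW⟩ :=
    (Scheme.IsQuasiAffine.isBasis_basicOpen X).exists_subset_of_mem_open hxW W.2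
  have hrW' : X.basicOpen r ≤ W := hrW
  obtain ⟨n, t, ht⟩ := LD.QC.compact_qs_surj F (U := ⊤) isCompact_univ isQuasiSeparated_univ r
    (F.presheaf.map (homOfLE hrW').op s)
  have hu : IsUnit (X.presheaf.map (homOfLE (X.basicOpen_le r)).op r) :=
    RingedSpace.isUnit_res_basicOpen _ r
  obtain ⟨v, hv⟩ := hu
  let σ : LD.QC.unitMod X ⟶ FK :=
    SheafOfModules.ιFree (R := X.ringCatSheaf) t
  have hσ : σ ≫ p = LD.QC.homOfSection F t :=
    Cofan.IsColimit.fac (SheafOfModules.isColimitFreeCofan (R := X.ringCatSheaf) K)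
      (fun t : K => LD.QC.homOfSection F t) t
  refine ⟨X.basicOpen r, hrW', hxr,
    ((↑(v⁻¹) : Γ(X, X.basicOpen r)) ^ n) • (σ.app (X.basicOpen r) (1 : Γ(X, X.basicOpen r))), ?_⟩
  rw [Scheme.Modules.Hom.app_smul]
  have h1 : p.app (X.basicOpen r) (σ.app (X.basicOpen r) (1 : Γ(X, X.basicOpen r))) =
      F.presheaf.map (homOfLE (le_top : X.basicOpen r ≤ ⊤)).op t := by
    have : p.app (X.basicOpen r) (σ.app (X.basicOpen r) (1 : Γ(X, X.basicOpen r))) =
        SecTwist.val (σ ≫ p) (X.basicOpen r) := rfl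
    rw [this, hσ, LD.QC.val_homOfSection]
  rw [h1]
  have h2 : F.presheaf.map (homOfLE (le_top : X.basicOpen r ≤ ⊤)).op t =
      (X.presheaf.map (homOfLE (X.basicOpen_le r)).op r) ^ n •
        F.presheaf.map (homOfLE hrW').op s := ht
  rw [h2, smul_smul, ← mul_pow, ← hv, Units.inv_mul, one_pow, one_smul]

end Groth.Agent.S4407
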