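import Groth.Statements.S4409
import Groth.Agent.Lib.Lead.QC.CounitEpi2
import Groth.Agent.S2337
import Groth.Agent.S9691
import Groth.Agent.S4407

set_option autoImplicit false
universe u
open CategoryTheory CategoryTheory.Limits AlgebraicGeometry
open EGA2

namespace Groth.Agent.S4409

/-- (a) ⇔ (d): let f : X → Y be a quasi-compact morphism. Then f is quasi-affine (the preimage of every
affine open of Y is a quasi-affine scheme) if and only if f is separated and, for every
quasi-coherent O_X-module F, the canonical morphism f^*(f_*(F)) → F (counit of the adjunction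
between f^* and f_*) is an epimorphism. -/
theorem result {X Y : Scheme.{u}} (f : X ⟶ Y) [QuasiCompact f] :
    Mor2.IsQuasiAffine f ↔ (IsSeparated f ∧ ∀ F : X.Modules, Coh.IsQCoh F →
      Epi ((Scheme.Modules.pullbackPushforwardAdjunction f).counit.app F)) := by
  constructor
  · intro hqa
    have hA : RelAmple.IsRelAmple f (Coh.structureModule X) := (Groth.Agent.S2337.result f).mp hqa
    haveI : IsSeparated f := Groth.Agent.S9691.result f _ hA
    refine ⟨inferInstance, fun F hF => ?_⟩
    haveI : F.IsQuasicoherent := hF
    apply LD.QC.epi_counit_of_local_epi_free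
    intro x
    obtain ⟨V, hV, hxV, -⟩ := exists_isAffineOpen_mem_and_subset (x := f x) (U := ⊤) trivial
    refine ⟨V, hxV, ?_⟩
    haveI := hqa.2 V hV
    exact Groth.Agent.S4407.result _ (F.restrict (f ⁻¹ᵁ V).ι) inferInstance
  · rintro ⟨hsep, h⟩
    haveI := hsep
    apply (Groth.Agent.S2337.result f).mpr
    apply LD.QC.isRelAmple_of_counit_epi f _ (LD.QC.isInvertible_unit X)
    intro I
    exact ⟨1, one_pos, h _ inferInstance⟩

end Groth.Agent.S4409
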