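import Groth.Statements.S7473
import Mathlib
import Groth.Agent.Lib.Helper1.ValLift

set_option autoImplicit false
universe u
open HTop

namespace Groth.Agent.S7473

open CategoryTheory CategoryTheory.Limits AlgebraicGeometry in
/-- An fpqc covering of a scheme T is a V covering. (Here an fpqc covering is a family in Mathlib's fpqc
precoverage: flat, jointly surjective, and every affine open of T is the union of the images of
finitely many quasi-compact opens of the members. The further clauses for fppf, syntomic, smooth,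
étale and Zariski coverings follow because those coverings are fpqc coverings; the clause for ph
coverings is the standard ph statement applied over each affine open.) -/
theorem result {T : Scheme.{u}} : ∀ 𝒰 : Scheme.Cover Scheme.fpqcPrecoverage T, HTop.IsVCover 𝒰.toPreZeroHypercover := by
  intro 𝒰
  rintro ⟨U, (hU : IsAffineOpen U)⟩
  have hqc : QuasiCompactCover 𝒰.toPreZeroHypercover := by
    rw [← Scheme.presieve₀_mem_qcPrecoverage_iff]
    exact 𝒰.mem₀.1
  have hflat : ∀ i, Flat (𝒰.f i) := fun i => 𝒰.forgetQc.map_prop i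
  obtain ⟨n, a, V, hV, hcov⟩ :=
    QuasiCompactCover.exists_isAffineOpen_of_isCompact 𝒰.toPreZeroHypercover hU.isCompact
  have hrange : ∀ i : Fin n, Set.range ((V i).ι ≫ 𝒰.f (a i)) ⊆ Set.range U.ι := by
    intro i
    rintro _ ⟨x, rfl⟩
    rw [Scheme.Opens.range_ι]
    have : (𝒰.f (a i)) ((V i).ι x) ∈ ⋃ i, 𝒰.f (a i) '' (V i) :=
      Set.mem_iUnion.mpr ⟨i, (V i).ι x, x.2, rfl⟩
    rw [hcov] at this
    exact this
  let F : PreZeroHypercover.{0} (U : Scheme.{u}) :=
    { I₀ := Fin n
      X := fun i => (V i : Scheme.{u})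
      f := fun i => IsOpenImmersion.lift U.ι ((V i).ι ≫ 𝒰.f (a i)) (hrange i) }
  have hFf : ∀ i : Fin n, F.f i ≫ U.ι = (V i).ι ≫ 𝒰.f (a i) := fun i =>
    IsOpenImmersion.lift_fac _ _ _
  refine ⟨F, ⟨hU, inferInstanceAs (Finite (Fin n)), fun i => hV i, ?_⟩, ?_⟩
  · apply Groth.Agent.Lib.Helper1.ValLift.hasValLift_of_flat_surjective
    · intro i
      have h1 : Flat ((V i).ι ≫ 𝒰.f (a i)) := by
        have := hflat (a i)
        infer_instance
      apply MorphismProperty.of_postcomp (W := @Flat) (W' := @IsOpenImmersion) (F.f i) U.ι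
        inferInstance
      rw [hFf i]
      exact h1
    · intro t
      have ht : U.ι t ∈ (U : Set T) := by
        have := Set.mem_range_self (f := U.ι) t
        rwa [Scheme.Opens.range_ι] at this
      rw [← hcov] at ht
      obtain ⟨i, x, hx, hxt⟩ := Set.mem_iUnion.mp ht
      refine ⟨i, ⟨x, hx⟩, ?_⟩
      apply U.ι.isOpenEmbedding.injective
      rw [← Scheme.Hom.comp_apply, hFf i]
      exact hxt
  · intro i
    exact ⟨a i, (V i).ι, (hFf i).symm⟩

end Groth.Agent.S7473
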