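import Groth.Statements.S18638
import Groth.Agent.Lib.Helper6.GrCanLoc
import Groth.Agent.Lib.Helper6.GrDim
import Groth.Agent.Lib.Helper6.GrMaxHull
import Groth.Agent.Lib.Helper6.GrLCCompare
import Groth.Agent.Lib.Helper6.GrInjDim
import Groth.Agent.Lib.Helper6.CanInj
import Groth.Agent.Lib.Helper6.CanGor
import Groth.Agent.Lib.Helper6.GrCanGor
import Groth.Agent.Lib.Helper6.GrArtinian
import Groth.Agent.Lib.Helper6.GorGlobal

set_option autoImplicit false
universe u
open GrLC

namespace Groth.Agent.S18638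

/-- Let R be a graded ring defined over a field which is Cohen–Macaulay, and K_R its canonical module.
Then R is Gorenstein exactly when K_R is isomorphic to a degree shift R(a) of R for some integer a,
that is, there is a bijective R-linear map R → K_R homogeneous of some fixed degree. Here 'graded
ring defined over a field' means R = ⊕_{n ≥ 0} R_n is Noetherian with R_0 a field (so R is finitely
generated over R_0), m = R_+ is its unique graded maximal ideal and n = dim R; the canonical module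
K_R (the graded dual of H^n_m(R)) is represented by a finitely generated graded module C together
with a homogeneous isomorphism from Hom_R(C, E) onto H^n_m(R), where E is a *injective envelope of
R/m and H^n_m(R) is computed from a *injective resolution of R in the graded category; by graded
Matlis duality this says exactly that C ≅ K_R as graded modules. -/
theorem result (R : Type u) [CommRing R] [LocCoh.IsCohenMacaulayRing R] (𝒜 : ℤ → AddSubgroup R) [GradedRing 𝒜] (hpos : ∀ n : ℤ, n < 0 → 𝒜 n = ⊥) (h0 : IsField (GrLC.deg0 𝒜)) (m : HomogeneousIdeal 𝒜) (hm : GrLC.IsStarLocal 𝒜 m) (hmsp : m.toIdeal = Ideal.span (⋃ n ∈ Set.Ioi (0 : ℤ), (𝒜 n : Set R))) (n : ℕ) (hn : ringKrullDim R = n) (I : GrLC.StarInjRes 𝒜 𝒜) (E' : Type u) [AddCommGroup E'] [Module R E'] (𝓔 : ℤ → AddSubgroup E') [DirectSum.Decomposition 𝓔] [SetLike.GradedSMul 𝒜 𝓔] (e : (R ⧸ m.toIdeal) →ₗ[R] E') (he : GrLC.IsStarInjHull 𝒜 (GrLC.quotGr 𝒜 m) 𝓔 e) (C : Type u) [AddCommGroup C] [Module R C] (𝒞 : ℤ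 → AddSubgroup C) [DirectSum.Decomposition 𝒞] [SetLike.GradedSMul 𝒜 𝒞] (hC : GrLC.IsStarCanonical 𝒜 𝒞 𝓔 m n I) : LocCoh.IsGorensteinRing R ↔ ∃ (a : ℤ) (f : R →ₗ[R] C), Function.Bijective f ∧ GrLC.IsGrHomDeg 𝒜 𝒞 f a := by
  haveI hmax : m.toIdeal.IsMaximal := Groth.Agent.H6.Gr.isMaximal_of_isCoatom hpos m hm.1
  have hf₀ := Groth.Agent.H6.Gr.isInjectiveHull_of_starInjHull_maximal 𝒜 m 𝓔 he
  obtain ⟨hfin, φ, -⟩ := hC
  obtain ⟨ψ⟩ := Groth.Agent.H6.Gr.nonempty_H_equiv 𝒜 𝒜 I m n
  have hht := Groth.Agent.H6.Gr.height_irrelevant 𝒜 hpos h0 m.toIdeal hmsp n hn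
  haveI : LocCoh.IsCohenMacaulayLocalRing (Localization.AtPrime m.toIdeal) :=
    LocCoh.IsCohenMacaulayRing.isCohenMacaulayLocalRing_localization m.toIdeal
  have hnA : ringKrullDim (Localization.AtPrime m.toIdeal) = (n : WithBot ℕ∞) := by
    rw [IsLocalization.AtPrime.ringKrullDim_eq_height m.toIdeal (Localization.AtPrime m.toIdeal), hht]
    rfl
  obtain ⟨f, hf⟩ := Groth.Agent.H6.CanLoc.exists_hull_loc m.toIdeal e hf₀
  obtain ⟨eK⟩ := Groth.Agent.H6.CanLoc.nonempty_eK m.toIdeal C n (φ.trans ψ)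
  haveI : Module.Finite (Localization.AtPrime m.toIdeal) (LocalizedModule m.toIdeal.primeCompl C) :=
    Module.Finite.of_isLocalizedModule m.toIdeal.primeCompl
      (LocalizedModule.mkLinearMap m.toIdeal.primeCompl C)
  have hiff := Groth.Agent.H6.Can.gorenstein_iff_can_equiv_self n hnA _ _ f hf eK
  constructor
  · intro hG
    have hGloc : LocCoh.IsGorensteinLocalRing (Localization.AtPrime m.toIdeal) :=
      hG.isGorensteinLocalRing_localization m.toIdeal
    obtain ⟨eq⟩ := hiff.mp hGloc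
    exact Groth.Agent.H6.Gr.exists_equiv_shift 𝒜 hpos h0 m.toIdeal hmsp 𝒞 eq
  · rintro ⟨a, g, hg, -⟩
    obtain ⟨h1, -, -, -⟩ := Groth.Agent.H6.Can.can_injdim_cm n hnA _ _ f hf eK
    haveI := Groth.Agent.H6.GrInjDim.hasInjectiveDimensionLT_of_star 𝒜 𝒞 m.toIdeal
      (fun P hP hne => Groth.Agent.H6.Gr.le_irrelevant 𝒜 hpos h0 m.toIdeal hmsp P hP hne) n h1
    have h2 : CategoryTheory.HasInjectiveDimensionLT (ModuleCat.of R R) (n + 2) :=
      CategoryTheory.hasInjectiveDimensionLT_of_iso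
        (LinearEquiv.ofBijective g hg).toModuleIso.symm (n + 2)
    exact (Groth.Agent.H6.Bass.finite_injdim_self_iff.mp ⟨n + 2, h2⟩).1

end Groth.Agent.S18638
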