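import Groth.Statements.S14271
import Mathlib

set_option autoImplicit false
universe u
open FlatPur

namespace Groth.Agent.S14271

open IsLocalRing in
/-- For a nonzero element `a` of a ring there is a prime `p` such that `a` stays nonzero in the
localization at `p` while no element of the maximal ideal of that localization is regular. -/
theorem exists_prime_not_regular (R : Type u) [CommRing R] (a : R) (ha : a ≠ 0) :
    ∃ (p : Ideal R) (_ : p.IsPrime), (∀ s : R, s ∉ p → s * a ≠ 0) ∧
      ∀ (A : Type u) [CommRing A] [Algebra R A] [IsLocalization.AtPrime A p] [IsLocalRing A]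
        (t : A), t ∈ maximalIdeal A → ¬ IsSMulRegular A t := by
  let I : Ideal R := Submodule.annihilator (Ideal.span {a})
  have hI : ∀ r, r ∈ I ↔ r * a = 0 := fun r => by
    simp only [I]
    rw [Ideal.span, Submodule.mem_annihilator_span_singleton, smul_eq_mul]
  have hI1 : I ≠ ⊤ := by
    intro h
    have : (1 : R) ∈ I := h ▸ Submodule.mem_top
    rw [hI, one_mul] at this
    exact ha this
  obtain ⟨⟨p, hp⟩⟩ := Ideal.nonempty_minimalPrimes hI1
  haveI hpp : p.IsPrime := hp.1.1
  have hs : ∀ s : R, s ∉ p → s * a ≠ 0 := fun s hsp h => hsp (hp.1.2 ((hI s).mpr h))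
  refine ⟨p, hpp, hs, ?_⟩
  intro A _ _ _ _ t ht hreg
  have hrad := IsLocalization.AtPrime.radical_map_of_mem_minimalPrimes A p I hp
  rw [IsLocalization.AtPrime.map_eq_maximalIdeal p A] at hrad
  rw [← hrad] at ht
  obtain ⟨n, hn⟩ := ht
  have hle : I.map (algebraMap R A) ≤ Submodule.annihilator (Ideal.span {algebraMap R A a}) := by
    rw [Ideal.map_le_iff_le_comap]
    intro r hr
    rw [Ideal.mem_comap, Ideal.span, Submodule.mem_annihilator_span_singleton, smul_eq_mul,
      ← map_mul, (hI r).mp hr, map_zero]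
  have h1 := hle hn
  rw [Ideal.span, Submodule.mem_annihilator_span_singleton, smul_eq_mul] at h1
  have hreg' : IsSMulRegular A (t ^ n) := hreg.pow n
  have h2 : algebraMap R A a = 0 := by
    apply hreg'
    change t ^ n • (algebraMap R A a) = t ^ n • (0 : A)
    rw [smul_eq_mul, h1, smul_zero]
  obtain ⟨s, hs'⟩ := (IsLocalization.map_eq_zero_iff p.primeCompl A a).mp h2
  exact hs s.1 s.2 hs'

open AlgebraicGeometry CategoryTheory CategoryTheory.Limits in
/-- A quasi-compact open with a regular element in the maximal ideal of each local ring outside it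
is scheme-theoretically dense. -/
theorem isSchemeTheoreticallyDominant_ι_of_regular (X : Scheme.{u}) (U : X.Opens)
    [QuasiCompact U.ι]
    (hZ : ∀ z : X, z ∉ U → ∃ a ∈ IsLocalRing.maximalIdeal (X.presheaf.stalk z),
      IsSMulRegular (X.presheaf.stalk z) a) : IsSchemeTheoreticallyDominant U.ι := by
  rw [isSchemeTheoreticallyDominant_iff]
  ext W : 2
  rw [Scheme.Hom.ker_apply]
  simp only [Scheme.IdealSheafData.ideal_bot, Pi.bot_apply]
  rw [eq_bot_iff]
  intro a ha
  rw [RingHom.mem_ker] at ha
  rw [Ideal.mem_bot]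
  by_contra hane
  obtain ⟨p, hpp, hs, hA⟩ := exists_prime_not_regular Γ(X, W.1) a hane
  have hW := W.2
  let y : PrimeSpectrum Γ(X, W.1) := ⟨p, hpp⟩
  have hz : hW.fromSpec y ∈ W.1 := (hW.isoSpec.inv _).2
  letI := TopCat.Presheaf.algebra_section_stalk X.presheaf ⟨hW.fromSpec y, hz⟩
  haveI hloc : IsLocalization.AtPrime (X.presheaf.stalk (hW.fromSpec y)) p :=
    hW.isLocalization_stalk' y hz
  by_cases hzU : hW.fromSpec y ∈ U
  · -- germ of `a` vanishes
    have h0 : algebraMap Γ(X, W.1) (X.presheaf.stalk (hW.fromSpec y)) a = 0 := by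
      change X.presheaf.germ W.1 (hW.fromSpec y) hz a = 0
      have hmem : hW.fromSpec y ∈ U.ι ''ᵁ U.ι ⁻¹ᵁ W.1 := by
        refine ⟨⟨hW.fromSpec y, hzU⟩, hz, rfl⟩
      rw [← TopCat.Presheaf.germ_res_apply X.presheaf
        (homOfLE (x := U.ι ''ᵁ U.ι ⁻¹ᵁ W.1) (Set.image_preimage_subset _ _)) _ hmem a]
      rw [Scheme.Opens.ι_app] at ha
      erw [ha, map_zero]
    obtain ⟨s, hs'⟩ := (IsLocalization.map_eq_zero_iff p.primeCompl _ a).mp h0
    exact hs s.1 s.2 hs'
  · obtain ⟨t, ht, hreg⟩ := hZ _ hzU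
    exact hA (X.presheaf.stalk (hW.fromSpec y)) t ht hreg

open AlgebraicGeometry CategoryTheory CategoryTheory.Limits in
/-- Let X be a scheme and U an open subscheme whose inclusion is quasi-compact, such that for every
point z of X outside U the maximal ideal of O_{X,z} contains an element that is regular (a
nonzerodivisor) on that local ring. Then for every separated X-scheme Y the restriction map from
X-sections of Y to U-sections of Y is injective: two sections of Y -> X that agree on U are equal. -/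
theorem result (X : Scheme.{u}) (U : X.Opens) [QuasiCompact U.ι]
    (hZ : ∀ z : X, z ∉ U → ∃ a ∈ IsLocalRing.maximalIdeal (X.presheaf.stalk z), IsSMulRegular (X.presheaf.stalk z) a)
    (Y : Scheme.{u}) (f : Y ⟶ X) [IsSeparated f] (s₁ s₂ : X ⟶ Y) (h₁ : s₁ ≫ f = 𝟙 X) (h₂ : s₂ ≫ f = 𝟙 X)
    (hU : U.ι ≫ s₁ = U.ι ≫ s₂) : s₁ = s₂ := by
  haveI := isSchemeTheoreticallyDominant_ι_of_regular X U hZ
  let X' : Over X := Over.mk (s₁ ≫ f)
  let Y' : Over X := Over.mk f
  let U' : Over X := Over.mk (U.ι ≫ s₁ ≫ f)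
  let f' : X' ⟶ Y' := Over.homMk s₁
  let g' : X' ⟶ Y' := Over.homMk s₂ (by simp [X', Y', h₁, h₂])
  let ι' : U' ⟶ X' := Over.homMk U.ι
  have : IsSeparated Y'.hom := ‹_›
  let e := (equalizer.ι f' g').left
  have hι : ι' ≫ f' = ι' ≫ g' := by ext1; exact hU
  let l := (equalizer.lift ι' hι).left
  have hle : l ≫ e = U.ι := by
    change (equalizer.lift ι' hι).left ≫ (equalizer.ι f' g').left = U.ι
    rw [← Over.comp_left, equalizer.lift_ι]
    rfl
  have hker : e.ker = ⊥ := by
    have := l.le_ker_comp e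
    rw [hle, U.ι.ker_eq_bot] at this
    exact le_bot_iff.mp this
  haveI : IsClosedImmersion e := inferInstance
  haveI : IsIso e.toImage := inferInstance
  haveI : IsIso e.imageι := (Scheme.isIso_subschemeι_iff_eq_bot _).mpr hker
  haveI : IsIso e := by rw [← e.toImage_imageι]; infer_instance
  rw [← cancel_epi e]
  exact congr($(equalizer.condition f' g').left)

end Groth.Agent.S14271
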