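import Groth.Statements.S0266
import Mathlib
import Groth.Agent.Lib.Helper1.Gal6

set_option autoImplicit false
universe u v w
open Pi1

namespace Groth.Agent.S0266


open CategoryTheory CategoryTheory.Limits in
/-- Transported along the equivalence of a Galois category with finite continuous G-sets : on a Galois
category in Mathlib's sense, every functor to finite sets that preserves finite limits and finite
colimits is isomorphic to the fibre functor. In particular two fibre functors are isomorphic. -/
theorem result {C : Type u} [Category.{v} C] [GaloisCategory C]
    (F : C ⥤ FintypeCat.{w}) [PreGaloisCategory.FiberFunctor F] (F' : C ⥤ FintypeCat.{w})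
    [PreservesFiniteLimits F'] [PreservesFiniteColimits F'] : Nonempty (F' ≅ F) := by
  refine Groth.Agent.Lib.Helper1.Gal.nonempty_iso_of_preserves F F' (fun X hX => ?_)
  by_contra hni
  have hne : Nonempty (F.obj X) :=
    (PreGaloisCategory.not_initial_iff_fiber_nonempty F X).1 (fun h => hni ⟨h⟩)
  have hepi : Epi (terminal.from X) := by
    have hsurj : Function.Surjective (F.map (terminal.from X)) := by
      intro t
      obtain ⟨z⟩ := hne
      exact ⟨z, (Groth.Agent.Lib.Helper1.Gal.subsingleton_fiber_of_isTerminal F
        terminalIsTerminal).elim _ _⟩
    have : Epi (F.map (terminal.from X)) := ConcreteCategory.epi_of_surjective _ hsurj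
    exact F.epi_of_epi_map this
  have hepi2 : Epi (F'.map (terminal.from X)) := inferInstance
  have hsurj2 : Function.Surjective (F'.map (terminal.from X)) :=
    surjective_of_epi (FintypeCat.incl.map (F'.map (terminal.from X)))
  have hT : IsTerminal (F'.obj (⊤_ C)) := IsTerminal.isTerminalObj F' _ terminalIsTerminal
  obtain ⟨t⟩ := Groth.Agent.Lib.Helper1.Gal.nonempty_of_isTerminal hT
  obtain ⟨z, -⟩ := hsurj2 t
  exact hX.elim z

end Groth.Agent.S0266
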