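import Groth.Statements.S8925


set_option autoImplicit false
universe u
open InjHull

namespace Groth.Agent.S8925

/-- If S is a flat R-algebra and E is an injective S-module, then E, viewed as an R-module by
restriction of scalars, is an injective R-module. -/
theorem result (R S : Type u) [CommRing R] [CommRing S] [Algebra R S] [Module.Flat R S] (E : Type u) [AddCommGroup E] [Module S E] [Module R E] [IsScalarTower R S E] [Module.Injective S E] : Module.Injective R E := by
  refine ⟨fun X Y _ _ _ _ f hf g => ?_⟩
  -- base change to `S`
  have hinj : Function.Injective (f.baseChange S) :=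
    Module.Flat.lTensor_preserves_injective_linearMap f hf
  let g' : TensorProduct R S X →ₗ[S] E := LinearMap.liftBaseChange S g
  obtain ⟨h', hh'⟩ := Module.Injective.extension_property S E _ _ (f.baseChange S) hinj g'
  refine ⟨(h'.restrictScalars R) ∘ₗ (TensorProduct.mk R S Y 1), fun x => ?_⟩
  have := LinearMap.congr_fun hh' ((1 : S) ⊗ₜ[R] x)
  simp only [LinearMap.coe_comp, Function.comp_apply, LinearMap.baseChange_tmul] at this
  simp only [LinearMap.coe_comp, Function.comp_apply, LinearMap.coe_restrictScalars,
    TensorProduct.mk_apply]
  rw [this]
  simp [g']

end Groth.Agent.S8925
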