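import Groth.Statements.S11180
import Mathlib
import Groth.Agent.S0543

set_option autoImplicit false
universe u
open scoped TensorProduct
open CAlg

namespace Groth.Agent.S11180

/-- Let A be a Noetherian ring and M an A-module. If an element m of M is such that 1 ⊗ m = 0 in B ⊗_A M
for every A-algebra B which is a complete Noetherian local ring, flat over A, then m = 0.
(Equivalently the natural map from M to the limit of the modules B ⊗_A M over all such B is
injective.) -/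
theorem result (A : Type u) [CommRing A] [IsNoetherianRing A] (M : Type u) [AddCommGroup M] [Module A M] (m : M) (h : ∀ (B : Type u) [CommRing B] [Algebra A B] [IsNoetherianRing B] [IsLocalRing B], IsAdicComplete (IsLocalRing.maximalIdeal B) B → Module.Flat A B → (1 : B) ⊗ₜ[A] m = 0) : m = 0 := by
  by_contra hm
  -- annihilator of m
  let φ : A →ₗ[A] M := LinearMap.toSpanSingleton A M m
  let J : Ideal A := LinearMap.ker φ
  have hJ : J ≠ ⊤ := by
    intro hJ
    apply hm
    have : (1 : A) ∈ J := by rw [hJ]; trivial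
    have h1 : φ 1 = 0 := this
    simpa [φ] using h1
  obtain ⟨𝔪, h𝔪, hJ𝔪⟩ := Ideal.exists_le_maximal J hJ
  haveI := h𝔪
  have hfg : 𝔪.FG := IsNoetherian.noetherian 𝔪
  let B := AdicCompletion 𝔪 A
  let MB : Ideal B := 𝔪.map (algebraMap A B)
  haveI hMBmax : MB.IsMaximal := AdicCompletion.isMaximal_map_of_le 𝔪 𝔪 le_rfl hfg
  haveI hMBcomp : IsAdicComplete MB B := AdicCompletion.isAdicComplete_self 𝔪 hfg
  haveI hloc : IsLocalRing B := isLocalRing_of_isAdicComplete_maximal MB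
  have hmax : IsLocalRing.maximalIdeal B = MB := (IsLocalRing.eq_maximalIdeal hMBmax).symm
  have hcomp : IsAdicComplete (IsLocalRing.maximalIdeal B) B := by rw [hmax]; exact hMBcomp
  haveI : IsNoetherianRing B := Groth.Agent.S0543.result A 𝔪
  haveI hflat : Module.Flat A B := AdicCompletion.flat_of_isNoetherian 𝔪
  have h0 := h B hcomp hflat
  -- ψ : A/J → M injective
  let ψ : (A ⧸ J) →ₗ[A] M := Submodule.liftQ J φ le_rfl
  have hψ : Function.Injective ψ := by
    rw [← LinearMap.ker_eq_bot]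
    exact Submodule.ker_liftQ_eq_bot _ _ _ le_rfl
  have hinj : Function.Injective (ψ.lTensor B) :=
    Module.Flat.lTensor_preserves_injective_linearMap ψ hψ
  have h1 : (ψ.lTensor B) ((1 : B) ⊗ₜ[A] (Submodule.Quotient.mk 1 : A ⧸ J)) = (1 : B) ⊗ₜ[A] m := by
    rw [LinearMap.lTensor_tmul]
    congr 1
    show φ 1 = m
    simp [φ]
  have h2 : (1 : B) ⊗ₜ[A] (Submodule.Quotient.mk 1 : A ⧸ J) = 0 := by
    apply hinj
    rw [h1, h0, map_zero]
  -- map to A/𝔪
  let ev : B →ₗ[A] (A ⧸ 𝔪) := (AdicCompletion.evalOneₐ 𝔪).toLinearMap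
  let fac : (A ⧸ J) →ₗ[A] (A ⧸ 𝔪) := Submodule.mapQ J 𝔪 LinearMap.id hJ𝔪
  let ℓ : B ⊗[A] (A ⧸ J) →ₗ[A] (A ⧸ 𝔪) := (LinearMap.mul' A (A ⧸ 𝔪)) ∘ₗ TensorProduct.map ev fac
  have h3 : ℓ ((1 : B) ⊗ₜ[A] (Submodule.Quotient.mk 1 : A ⧸ J)) = 1 := by
    simp only [ℓ, LinearMap.comp_apply, TensorProduct.map_tmul, LinearMap.mul'_apply]
    have e1 : ev 1 = 1 := map_one (AdicCompletion.evalOneₐ 𝔪)
    have e2 : fac (Submodule.Quotient.mk 1) = 1 := rfl
    rw [e1, e2, mul_one]
  rw [h2, map_zero] at h3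
  haveI : Nontrivial (A ⧸ 𝔪) := Ideal.Quotient.nontrivial_iff.2 h𝔪.ne_top
  exact zero_ne_one h3

end Groth.Agent.S11180
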