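import Groth.Statements.S0333
import Groth.Agent.Lib.Helper6.LCCd

set_option autoImplicit false
universe u v
open LocCoh

namespace Groth.Agent.S0333

/-- Over a Noetherian ring of dimension d, if H^d_I(M) = 0 for one finite module M whose support
contains every minimal prime p with dim R/p = d, then H^i_I vanishes in degrees ≥ d on all modules. -/
theorem result (R : Type u) [CommRing R] [IsNoetherianRing R] (I : Ideal R) (d : ℕ) (hd : ringKrullDim R = d) (M : Type u) [AddCommGroup M] [Module R M] [Module.Finite R M] (hsupp : ∀ p ∈ minimalPrimes R, ringKrullDim (R ⧸ p) = d → ∀ hp : p.IsPrime, (⟨p, hp⟩ : PrimeSpectrum R) ∈ Module.support R M) (hvan : Subsingleton (LocCoh.H I d M)) (N : Type u) [AddCommGroup N] [Module R N] (i : ℕ) (hi : d ≤ i) : Subsingleton (LocCoh.H I i N) := by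
  rcases Nat.lt_or_ge d i with hlt | hge
  · exact Groth.Agent.S0325.result R I d hd.le N i hlt
  · have hid : i = d := le_antisymm hge hi
    subst hid
    apply Groth.Agent.H6.LC.subsingleton_top_of_support I i hd M ?_ hvan N
    intro p hp hdim
    obtain ⟨p₀, hp₀, hle⟩ := Ideal.exists_minimalPrimes_le (I := (⊥ : Ideal R)) (J := p) bot_le
    haveI := hp₀.1.1
    have h1 : ringKrullDim (R ⧸ p) ≤ ringKrullDim (R ⧸ p₀) :=
      ringKrullDim_le_of_surjective (Ideal.Quotient.factor hle) (Ideal.Quotient.factor_surjective hle)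
    have h2 : ringKrullDim (R ⧸ p₀) ≤ ringKrullDim R := ringKrullDim_quotient_le p₀
    have h3 : ringKrullDim (R ⧸ p₀) = (i : WithBot ℕ∞) :=
      le_antisymm (hd ▸ h2) (hdim ▸ h1)
    have h4 := hsupp p₀ hp₀ h3 hp₀.1.1
    exact (Module.mem_support_iff_of_finite.mp h4).trans hle

end Groth.Agent.S0333
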