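import Groth.Statements.S1736
import Groth.Agent.Lib.Helper6.LCCd
import Groth.Agent.S11682
import Groth.Agent.S11614

set_option autoImplicit false
universe u
open LocCoh

namespace Groth.Agent.S1736

/-- Let A be a Noetherian ring of finite dimension d and I ⊆ I' ideals with I' contained in the Jacobson
radical of A. If cd(A, I') < d, i.e. H^i_{I'}(M) = 0 for all A-modules M and all i ≥ d, then also
cd(A, I) < d: H^i_I(M) = 0 for all A-modules M and all i ≥ d. -/
theorem result (A : Type u) [CommRing A] [IsNoetherianRing A] (d : ℕ) (hd : ringKrullDim A = d) (I I' : Ideal A) (hII' : I ≤ I') (hJ : I' ≤ (⊥ : Ideal A).jacobson) (h : ∀ (M : Type u) [AddCommGroup M] [Module A M] (i : ℕ), d ≤ i → Subsingleton (LocCoh.H I' i M)) (M : Type u) [AddCommGroup M] [Module A M] (i : ℕ) (hi : d ≤ i) : Subsingleton (LocCoh.H I i M) := by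
  classical
  -- the step: removing one generator lying in the Jacobson radical
  have step : ∀ (a : Ideal A) (b : A), b ∈ (⊥ : Ideal A).jacobson →
      Subsingleton (LocCoh.H (a ⊔ Ideal.span {b}) d A) → Subsingleton (LocCoh.H a d A) := by
    intro a b hb hab
    obtain ⟨hex, -, -⟩ := Groth.Agent.S11682.result A a b A d
    -- vanishing for the localization
    have hloc : Subsingleton (LocCoh.H a d (LocalizedModule (Submonoid.powers b) A)) := by
      obtain ⟨φ, -⟩ := Groth.Agent.S11614.result A (Localization (Submonoid.powers b)) a
        (LocalizedModule (Submonoid.powers b) A) d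
      suffices hs : Subsingleton (LocCoh.H (Ideal.map (algebraMap A
          (Localization (Submonoid.powers b))) a) d (LocalizedModule (Submonoid.powers b) A)) from
        φ.symm.toEquiv.subsingleton
      apply Groth.Agent.H6.LC.subsingleton_of_supportDim_lt
      exact lt_of_le_of_lt (Module.supportDim_le_ringKrullDim _ _)
        (Groth.Agent.H6.Dim.ringKrullDim_localization_powers_lt d hd b hb)
    refine ⟨fun x y => ?_⟩
    have h0 : ∀ z : LocCoh.H a d A, z = 0 := by
      intro z
      obtain ⟨w, rfl⟩ := (hex z).mp (Subsingleton.elim (h := hloc) _ _)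
      rw [Subsingleton.elim (h := hab) w 0, map_zero]
    rw [h0 x, h0 y]
  -- induction on a finite generating set
  have key : ∀ s : Finset A, (∀ x ∈ s, x ∈ (⊥ : Ideal A).jacobson) → ∀ a : Ideal A,
      Subsingleton (LocCoh.H (a ⊔ Ideal.span (s : Set A)) d A) → Subsingleton (LocCoh.H a d A) := by
    intro s
    induction s using Finset.induction_on with
    | empty =>
      intro _ a h
      have e : a ⊔ Ideal.span ((∅ : Finset A) : Set A) = a := by simp
      rw [e] at h
      exact h
    | insert b s hbs ih =>
      intro hs a h
      have e : a ⊔ Ideal.span ((insert b s : Finset A) : Set A) =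
          (a ⊔ Ideal.span {b}) ⊔ Ideal.span (s : Set A) := by
        rw [Finset.coe_insert, Ideal.span_insert, sup_assoc]
      rw [e] at h
      have h1 := ih (fun x hx => hs x (Finset.mem_insert_of_mem hx)) _ h
      exact step a b (hs b (Finset.mem_insert_self b s)) h1
  rcases Nat.lt_or_ge d i with hlt | hge
  · exact Groth.Agent.S0325.result A I d hd.le M i hlt
  · have hid : i = d := le_antisymm hge hi
    subst hid
    obtain ⟨s, hs⟩ := (isNoetherianRing_iff_ideal_fg A).mp inferInstance I'
    have hI : Subsingleton (LocCoh.H I i A) := by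
      apply key s (fun x hx => hJ (hs ▸ Ideal.subset_span hx)) I
      have e : I ⊔ Ideal.span (s : Set A) = I' := by rw [hs]; exact sup_eq_right.mpr hII'
      rw [e]
      exact h A i le_rfl
    apply Groth.Agent.H6.LC.subsingleton_top_of_support I i hd A ?_ hI M
    intro p _ _
    rw [Module.annihilator_eq_bot.mpr inferInstance]
    exact bot_le

end Groth.Agent.S1736
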