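import Groth.Statements.S0328
import Groth.Agent.Lib.Helper6.LCNonvanish
import Groth.Agent.S11614

set_option autoImplicit false
universe u v
open LocCoh

namespace Groth.Agent.S0328

/-- In a Noetherian local ring, if a prime p and a proper ideal I together have radical the maximal
ideal and dim R/p = d ≥ 1, then local cohomology with support in I does not vanish in all degrees ≥
d. -/
theorem result (R : Type u) [CommRing R] [IsLocalRing R] [IsNoetherianRing R] (I : Ideal R) (hI : I ≠ ⊤) (p : Ideal R) [p.IsPrime] (hpI : (p ⊔ I).radical = IsLocalRing.maximalIdeal R) (d : ℕ) (hd : ringKrullDim (R ⧸ p) = d) (hd1 : 1 ≤ d) : ¬ LocCoh.CdLE R I (d - 1) := by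
  intro hcd
  have hvan : Subsingleton (LocCoh.H I d (R ⧸ p)) := hcd (R ⧸ p) d (by omega)
  let R' := R ⧸ p
  let π : R →+* R' := Ideal.Quotient.mk p
  have hπ : Function.Surjective π := Ideal.Quotient.mk_surjective
  haveI : IsLocalRing R' := IsLocalRing.of_surjective' π hπ
  obtain ⟨φ, -⟩ := Groth.Agent.S11614.result R R' I R' d
  have hvan' : Subsingleton (LocCoh.H (Ideal.map (algebraMap R R') I) d R') :=
    φ.toEquiv.subsingleton
  -- the radical of the extension of `I` is the maximal ideal
  have hker : RingHom.ker π ≤ p ⊔ I := by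
    rw [Ideal.mk_ker]
    exact le_sup_left
  have hmapJ : (p ⊔ I).map π = I.map π := by
    rw [Ideal.map_sup, Ideal.map_quotient_self, bot_sup_eq]
  have hmax : (IsLocalRing.maximalIdeal R).map π = IsLocalRing.maximalIdeal R' := by
    rcases Ideal.map_eq_top_or_isMaximal_of_surjective π hπ
      (IsLocalRing.maximalIdeal.isMaximal R) with h | h
    · exfalso
      have h1 : (1 : R') ∈ (IsLocalRing.maximalIdeal R).map π := by rw [h]; exact Submodule.mem_top
      rw [Ideal.mem_map_iff_of_surjective π hπ] at h1
      obtain ⟨x, hx, hx1⟩ := h1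
      have h2 : x - 1 ∈ p := by
        rw [← Ideal.Quotient.eq_zero_iff_mem (I := p), map_sub, map_one]
        exact sub_eq_zero.mpr hx1
      have h3 : p ≤ IsLocalRing.maximalIdeal R := IsLocalRing.le_maximalIdeal (Ideal.IsPrime.ne_top ‹_›)
      have h4 : (1 : R) ∈ IsLocalRing.maximalIdeal R := by
        have := (IsLocalRing.maximalIdeal R).sub_mem hx (h3 h2)
        rwa [sub_sub_cancel] at this
      exact (IsLocalRing.maximalIdeal.isMaximal R).ne_top ((Ideal.eq_top_iff_one _).mpr h4)
    · exact IsLocalRing.eq_maximalIdeal h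
  have hrad : (I.map (algebraMap R R')).radical = (IsLocalRing.maximalIdeal R').radical := by
    change (I.map π).radical = _
    rw [← hmapJ, ← Ideal.map_radical_of_surjective hπ hker, hpI, hmax,
      Ideal.IsPrime.radical (IsLocalRing.maximalIdeal.isMaximal R').isPrime]
  have e := (localCohomology.isoOfSameRadical hrad d).app (ModuleCat.of R' R')
  have hvan'' : Subsingleton (LocCoh.H (IsLocalRing.maximalIdeal R') d R') :=
    e.toLinearEquiv.symm.toEquiv.subsingleton
  have hnon : Nontrivial (LocCoh.H (IsLocalRing.maximalIdeal R') d R') := by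
    apply Groth.Agent.H6.LC.nontrivial_H_of_supportDim_eq d R'
    rw [Module.supportDim_self_eq_ringKrullDim]
    exact hd
  exact not_subsingleton _ hvan''

end Groth.Agent.S0328
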