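import Groth.Statements.S0379
import Groth.Agent.Lib.Helper8.LC.Flat
-- import your own Groth.Agent.* helpers here

set_option autoImplicit false
universe u v
open LocCoh

namespace Groth.Agent.S0379

/-- For a homomorphism of Noetherian rings A → B, if local cohomology with support in I vanishes above
degree d on all A-modules then local cohomology with support in IB vanishes above degree d on all
B-modules; if B is faithfully flat over A the converse holds too. -/
theorem result (A : Type u) [CommRing A] [IsNoetherianRing A] (B : Type u) [CommRing B] [IsNoetherianRing B] [Algebra A B] (I : Ideal A) (d : ℕ) : (LocCoh.CdLE A I d → LocCoh.CdLE B (I.map (algebraMap A B)) d) ∧ (Module.FaithfullyFlat A B → LocCoh.CdLE B (I.map (algebraMap A B)) d → LocCoh.CdLE A I d) := by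
  constructor
  · intro hA N _ _ i hi
    letI : Module A N := Module.compHom N (algebraMap A B)
    have h1 : Subsingleton ((localCohomology I i).obj
        ((Groth.Agent.H8.LC.resF (R := A) B).obj (ModuleCat.of B N))) := hA N i hi
    let e := ((Groth.Agent.H8.LC.baseIndepIso B I i).app (ModuleCat.of B N)).toLinearEquiv
    exact @Equiv.subsingleton _ _ e.toEquiv h1
  · intro hff hB M _ _ i hi
    have hflat : Module.Flat A B := inferInstance
    have h1 : Subsingleton (LocCoh.H (I.map (algebraMap A B)) i (TensorProduct A B M)) :=
      hB (TensorProduct A B M) i hi
    let e := ((Groth.Agent.H8.LC.flatBaseChangeIso B I i).app (ModuleCat.of A M)).toLinearEquiv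
    have h2 : Subsingleton (TensorProduct A B (LocCoh.H I i M)) :=
      @Equiv.subsingleton _ _ e.toEquiv h1
    exact Module.FaithfullyFlat.lTensor_reflects_triviality A B _

end Groth.Agent.S0379
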