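import Groth.Statements.S0561
import Groth.Agent.Lib.Helper1.RegPd
import Groth.Agent.Lib.Helper6.DimLemmas

set_option autoImplicit false
universe u
open CAlg

namespace Groth.Agent.S0561

open IsLocalRing in
theorem exists_finset_maximalIdeal_eq_sup (A : Type u)
    [CommRing A] [IsLocalRing A] [IsNoetherianRing A] (p : Ideal A)
    [IsLocalRing (A ⧸ p)] :
    ∃ t : Finset A, t.card ≤ (maximalIdeal (A ⧸ p)).spanFinrank ∧
      maximalIdeal A = Ideal.span (t : Set A) ⊔ p := by
  classical
  have hfg : (IsLocalRing.maximalIdeal (A ⧸ p)).FG := IsNoetherian.noetherian _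
  obtain ⟨s, hs, hspan⟩ := Submodule.FG.exists_span_finset_card_eq_spanFinrank hfg
  have hsurj : Function.Surjective (Ideal.Quotient.mk p) := Ideal.Quotient.mk_surjective
  let t : Finset A := s.image (Function.surjInv hsurj)
  have hmap : (Ideal.span (t : Set A)).map (Ideal.Quotient.mk p) =
      IsLocalRing.maximalIdeal (A ⧸ p) := by
    rw [Ideal.map_span, ← hspan]
    congr 1
    ext y
    simp only [t, Finset.coe_image, Set.mem_image, Finset.mem_coe, exists_exists_and_eq_and]
    constructor
    · rintro ⟨a, ha, rfl⟩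
      rwa [Function.surjInv_eq hsurj]
    · intro hy
      exact ⟨y, hy, Function.surjInv_eq hsurj y⟩
  refine ⟨t, hs ▸ Finset.card_image_le, ?_⟩
  have h1 : (IsLocalRing.maximalIdeal (A ⧸ p)).comap (Ideal.Quotient.mk p) =
      IsLocalRing.maximalIdeal A := by
    haveI : IsLocalHom (Ideal.Quotient.mk p) := IsLocalHom.of_surjective _ hsurj
    exact IsLocalRing.maximalIdeal_comap (Ideal.Quotient.mk p)
  rw [← h1, ← hmap, Ideal.comap_map_of_surjective _ hsurj, ← RingHom.ker_eq_comap_bot,
    Ideal.mk_ker]

open IsLocalRing in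
theorem eq_bot_of_le_sq (R : Type u) [CommRing R] [IsRegularLocalRing R] (I : Ideal R)
    [IsRegularLocalRing (R ⧸ I)] (hI : I ≤ maximalIdeal R ^ 2) : I = ⊥ := by
  classical
  have hd : ringKrullDim R = ((maximalIdeal R).spanFinrank : ℕ) :=
    (IsRegularLocalRing.spanFinrank_maximalIdeal (R := R)).symm
  obtain ⟨t, ht, hm⟩ := exists_finset_maximalIdeal_eq_sup R I
  have hle : maximalIdeal R ≤ Ideal.span (t : Set R) := by
    apply Submodule.le_of_le_smul_of_le_jacobson_bot (I := maximalIdeal R)
      (IsNoetherian.noetherian _)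
    · rw [IsLocalRing.jacobson_eq_maximalIdeal _ bot_ne_top]
    · rw [Ideal.smul_eq_mul, ← pow_two]
      conv_lhs => rw [hm]
      exact sup_le_sup_left hI _
  have hm' : maximalIdeal R = Ideal.span (t : Set R) := by
    apply le_antisymm hle
    rw [hm]
    exact le_sup_left
  have h1 : (maximalIdeal R).spanFinrank ≤ t.card := by
    conv_lhs => rw [hm']
    have := Submodule.spanFinrank_span_le_ncard_of_finite (R := R) t.finite_toSet
    rwa [Set.ncard_coe_finset] at this
  have h2 : ringKrullDim (R ⧸ I) = ((maximalIdeal R).spanFinrank : ℕ) := by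
    apply le_antisymm
    · rw [← hd]
      exact ringKrullDim_quotient_le I
    · rw [← IsRegularLocalRing.spanFinrank_maximalIdeal (R := R ⧸ I)]
      exact_mod_cast h1.trans ht
  haveI : IsDomain R := Groth.Agent.H7.Reg.isDomain R
  haveI : IsDomain (R ⧸ I) := Groth.Agent.H7.Reg.isDomain (R ⧸ I)
  haveI : I.IsPrime := (Ideal.Quotient.isDomain_iff_prime I).mp inferInstance
  have h3 := Groth.Agent.H6.Dim.mem_minimalPrimes_of_ringKrullDim_quotient_eq _ hd I h2
  rw [IsDomain.minimalPrimes_eq_singleton_bot] at h3
  exact h3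

theorem sup_ker_eq_of_map_eq {R S : Type*} [CommRing R] [CommRing S] (f : R →+* S)
    (hf : Function.Surjective f) (J K : Ideal R) (h : J.map f = K.map f) :
    J ⊔ RingHom.ker f = K ⊔ RingHom.ker f := by
  rw [RingHom.ker_eq_comap_bot, ← Ideal.comap_map_of_surjective f hf,
    ← Ideal.comap_map_of_surjective f hf, h]

open IsLocalRing in
theorem main : ∀ (d : ℕ) (R : Type u) [CommRing R] [IsRegularLocalRing R]
    (_ : ringKrullDim R = d) (I : Ideal R) [IsRegularLocalRing (R ⧸ I)],
    ∃ (c e : ℕ) (y : Fin c → R) (z : Fin e → R), c + e = d ∧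
      Ideal.span (Set.range y ∪ Set.range z) = maximalIdeal R ∧ I = Ideal.span (Set.range y) := by
  intro d
  induction d with
  | zero =>
    intro R _ _ hd I _
    have hsf : (maximalIdeal R).spanFinrank = 0 :=
      Groth.Agent.H7.Reg.spanFinrank_eq_of_dim 0 hd
    have hm : maximalIdeal R = ⊥ :=
      (Submodule.spanFinrank_eq_zero_iff_eq_bot (IsNoetherian.noetherian _)).mp hsf
    have hI : I = ⊥ := by
      apply eq_bot_of_le_sq
      have : I ≤ maximalIdeal R := IsLocalRing.le_maximalIdeal (by
        intro h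
        have : Nontrivial (R ⧸ I) := inferInstance
        exact (Ideal.Quotient.nontrivial_iff.mp this) h)
      rw [hm] at this
      rw [eq_bot_iff.mpr this]
      exact bot_le
    refine ⟨0, 0, Fin.elim0, Fin.elim0, rfl, ?_, ?_⟩
    · rw [hm]; simp
    · rw [hI]; simp
  | succ d ih =>
    intro R _ _ hd I _
    have hIm : I ≤ maximalIdeal R := IsLocalRing.le_maximalIdeal (by
      intro h
      have : Nontrivial (R ⧸ I) := inferInstance
      exact (Ideal.Quotient.nontrivial_iff.mp this) h)
    by_cases hI : I ≤ maximalIdeal R ^ 2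
    · have hI0 : I = ⊥ := eq_bot_of_le_sq R I hI
      obtain ⟨z, hz⟩ := Groth.Agent.H1.Reg.exists_fin_span_eq_maximalIdeal R (d + 1) hd
      refine ⟨0, d + 1, Fin.elim0, z, by omega, ?_, ?_⟩
      · rw [← hz]; simp
      · rw [hI0]; simp
    · obtain ⟨x, hxI, hx2⟩ := Set.not_subset.mp hI
      have hxm : x ∈ maximalIdeal R := hIm hxI
      obtain ⟨hreg, hdim⟩ := Groth.Agent.H7.Reg.quotient_regular x hxm hx2 d hd
      have hle : Ideal.span ({x} : Set R) ≤ I := by
        rw [Ideal.span_le, Set.singleton_subset_iff]; exact hxI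
      let f := Ideal.Quotient.mk (Ideal.span ({x} : Set R))
      have hf : Function.Surjective f := Ideal.Quotient.mk_surjective
      have hker : RingHom.ker f = Ideal.span ({x} : Set R) := Ideal.mk_ker
      haveI : IsRegularLocalRing ((R ⧸ Ideal.span ({x} : Set R)) ⧸ I.map f) :=
        IsRegularLocalRing.of_ringEquiv (DoubleQuot.quotQuotEquivQuotOfLE hle).symm
      obtain ⟨c, e, y, z, hce, hyz, hy⟩ := ih (R ⧸ Ideal.span ({x} : Set R)) hdim (I.map f)
      let g := Function.surjInv hf
      have hfg : ∀ a, f (g a) = a := Function.surjInv_eq hf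
      have himg : ∀ {n : ℕ} (w : Fin n → R ⧸ Ideal.span ({x} : Set R)),
          f '' Set.range (g ∘ w) = Set.range w := by
        intro n w
        rw [← Set.range_comp]
        congr 1
        ext i
        exact hfg _
      refine ⟨c + 1, e, Fin.cons x (g ∘ y), g ∘ z, by omega, ?_, ?_⟩
      · rw [Fin.range_cons, Set.insert_union, Ideal.span_insert, sup_comm]
        have h1 : maximalIdeal R ⊔ Ideal.span ({x} : Set R) = maximalIdeal R := by
          rw [sup_eq_left, Ideal.span_le, Set.singleton_subset_iff]; exact hxm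
        have key : Ideal.span (Set.range (g ∘ y) ∪ Set.range (g ∘ z)) ⊔ RingHom.ker f =
            maximalIdeal R ⊔ RingHom.ker f := by
          apply sup_ker_eq_of_map_eq f hf
          rw [Ideal.map_span, Set.image_union, himg, himg, hyz]
          have h2 : (maximalIdeal (R ⧸ Ideal.span ({x} : Set R))).comap f = maximalIdeal R := by
            haveI : IsLocalHom f := IsLocalHom.of_surjective _ hf
            exact IsLocalRing.maximalIdeal_comap f
          rw [← h2, Ideal.map_comap_of_surjective f hf]
        rw [hker] at key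
        rw [key, h1]
      · rw [Fin.range_cons, Ideal.span_insert, sup_comm]
        have h1 : I ⊔ Ideal.span ({x} : Set R) = I := by
          rw [sup_eq_left]; exact hle
        have key : Ideal.span (Set.range (g ∘ y)) ⊔ RingHom.ker f = I ⊔ RingHom.ker f := by
          apply sup_ker_eq_of_map_eq f hf
          rw [Ideal.map_span, himg, ← hy]
        rw [hker] at key
        rw [key, h1]

/-- Let `R` be a regular local ring of dimension `d` and `I` an ideal with `R/I` a regular local ring.
Then there are elements `x₁, …, x_d` generating the maximal ideal such that `I` is generated by `x₁,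
…, x_c` for some `c ≤ d`. -/
theorem result (R : Type u) [CommRing R]
    [IsRegularLocalRing R] (d : ℕ) (hd : ringKrullDim R = d) (I : Ideal R)
    [IsRegularLocalRing (R ⧸ I)] :
    ∃ (x : Fin d → R) (c : ℕ) (hc : c ≤ d), Ideal.span (Set.range x) = IsLocalRing.maximalIdeal R ∧
      I = Ideal.span (Set.range (fun i : Fin c => x (Fin.castLE hc i))) := by
  obtain ⟨c, e, y, z, hce, hyz, hy⟩ := main d R hd I
  subst hce
  refine ⟨Fin.append y z, c, Nat.le_add_right c e, ?_, ?_⟩
  · rw [← hyz]
    congr 1
    ext a
    simp only [Set.mem_range, Set.mem_union]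
    constructor
    · rintro ⟨i, rfl⟩
      refine Fin.addCases (fun j => ?_) (fun j => ?_) i
      · left; exact ⟨j, (Fin.append_left y z j).symm⟩
      · right; exact ⟨j, (Fin.append_right y z j).symm⟩
    · rintro (⟨j, rfl⟩ | ⟨j, rfl⟩)
      · exact ⟨Fin.castAdd e j, Fin.append_left y z j⟩
      · exact ⟨Fin.natAdd c j, Fin.append_right y z j⟩
  · rw [hy]
    congr 2
    ext i
    exact (Fin.append_left y z i).symm

end Groth.Agent.S0561
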