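import Groth.Statements.S9442
import Groth.Agent.Lib.Helper5.CA.NG20
import Groth.Agent.Lib.Helper5.CA.FSField

set_option autoImplicit false
universe u
open CAlg

namespace Groth.Agent.S9442

/-- For a finite type algebra S over a field k and a prime q of S with κ(q) separable over k, S is
smooth over k at q if and only if S_q is a regular local ring. -/
theorem result (k : Type u) [Field k]
    (S : Type u) [CommRing S] [Algebra k S] [Algebra.FiniteType k S] (q : Ideal S) [q.IsPrime]
    [Algebra.IsGeometricallyReduced k q.ResidueField] :
    Algebra.IsSmoothAt k q ↔ IsRegularLocalRing (Localization.AtPrime q) := by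
  have : IsNoetherianRing S := Algebra.FiniteType.isNoetherianRing k S
  have : IsNoetherianRing (Localization.AtPrime q) :=
    IsLocalization.isNoetherianRing q.primeCompl _ inferInstance
  have : Algebra.FormallySmooth k k := Algebra.FormallySmooth.inst
  have h1 := (H5.NG.tfae4578 (k₀ := k) (k := k) (C := S) q).out 0 1
  have : Algebra.IsGeometricallyReduced k (IsLocalRing.ResidueField (Localization.AtPrime q)) :=
    ‹Algebra.IsGeometricallyReduced k q.ResidueField›
  have h2 := (Groth.Agent.H5.FSField.tfae k (Localization.AtPrime q)).out 0 3
  exact h1.trans h2

end Groth.Agent.S9442
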