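import Groth.Statements.S12450


set_option autoImplicit false
universe u
open CategoryTheory CategoryTheory.Limits
open ModSite

namespace Groth.Agent.S12450

/-- For a small ringed site (C, O) the forgetful functor Mod(O) → Ab(C) commutes with colimits, i.e.
preserves all small colimits. (Existence of limits and colimits in Mod(O) and commutation of the
forgetful functor with limits hold by construction; exactness of filtered colimits is a separate
statement.) -/
theorem result {C : Type u} [SmallCategory C] {J : GrothendieckTopology C}
    (O : Sheaf J CommRingCat.{u}) :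
    PreservesColimitsOfSize.{u, u} (SheafOfModules.toSheaf.{u} (ModSite.ringSh O) : ModSite.Mod O ⥤ Sheaf J AddCommGrpCat.{u}) := by
  refine ⟨fun {K} _ => ⟨fun {F} => ?_⟩⟩
  let R := ModSite.ringSh O
  let L := PresheafOfModules.sheafification.{u} (𝟙 R.obj)
  have e : F ≅ (F ⋙ SheafOfModules.forget R) ⋙ L :=
    Functor.isoWhiskerLeft F
      (asIso (PresheafOfModules.sheafificationAdjunction (𝟙 R.obj)).counit).symm
  haveI : PreservesColimit ((F ⋙ SheafOfModules.forget R) ⋙ L) (SheafOfModules.toSheaf.{u} R) := by
    have hd := colimit.isColimit (F ⋙ SheafOfModules.forget R)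
    apply preservesColimit_of_preserves_colimit_cocone (isColimitOfPreserves L hd)
    haveI : PreservesColimit (F ⋙ SheafOfModules.forget R) (L ⋙ SheafOfModules.toSheaf.{u} R) := by
      change PreservesColimit _ (PresheafOfModules.toPresheaf _ ⋙ presheafToSheaf J AddCommGrpCat)
      infer_instance
    exact isColimitOfPreserves (L ⋙ SheafOfModules.toSheaf.{u} R) hd
  exact preservesColimit_of_iso_diagram _ e.symm

end Groth.Agent.S12450
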