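import Groth.Statements.S0549
import Groth.Agent.S19474
import Groth.Agent.Lib.Helper1.ComplDepth

set_option autoImplicit false
universe u
open CAlg

namespace Groth.Agent.S0549

namespace Groth.Agent.S0549

/-- A Noetherian local ring is a DVR iff it is regular of dimension one. -/
theorem dvr_iff_regular_dim_one (R : Type u) [CommRing R] [IsLocalRing R] [IsNoetherianRing R] :
    (∃ _ : IsDomain R, IsDiscreteValuationRing R) ↔
      (IsRegularLocalRing R ∧ ringKrullDim R = 1) := by
  constructor
  · rintro ⟨hdom, hdvr⟩
    exact ⟨inferInstance, IsDiscreteValuationRing.ringKrullDim_eq_one R⟩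
  · rintro ⟨hreg, hdim⟩
    have hdom : IsDomain R := Groth.Agent.H7.Reg.isDomain R
    refine ⟨hdom, ?_⟩
    have hnf : ¬ IsField R := by
      intro hf
      rw [ringKrullDim_eq_zero_of_isField hf] at hdim
      exact zero_ne_one hdim
    have h1 : Module.finrank (IsLocalRing.ResidueField R) (IsLocalRing.CotangentSpace R) ≤ 1 := by
      have h2 := (IsRegularLocalRing.iff_finrank_cotangentSpace R).mp hreg
      rw [hdim] at h2
      have h3 : Module.finrank (IsLocalRing.ResidueField R) (IsLocalRing.CotangentSpace R) = 1 := by
        exact_mod_cast h2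
      exact h3.le
    have hP : IsPrincipalIdealRing R :=
      ((tfae_of_isNoetherianRing_of_isLocalRing_of_isDomain (R := R)).out 5 0).mp h1
    exact { not_a_field' := fun h => hnf (IsLocalRing.isField_iff_maximalIdeal_eq.mpr h) }

end Groth.Agent.S0549

/-- A Noetherian local ring is a discrete valuation ring exactly when its completion at the maximal
ideal is a discrete valuation ring. -/
theorem result (A : Type u) [CommRing A] [IsLocalRing A]
    [IsNoetherianRing A] :
    (∃ _ : IsDomain A, IsDiscreteValuationRing A) ↔
      ∃ _ : IsDomain (AdicCompletion (IsLocalRing.maximalIdeal A) A),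
        IsDiscreteValuationRing (AdicCompletion (IsLocalRing.maximalIdeal A) A) := by
  haveI : IsLocalRing (AdicCompletion (IsLocalRing.maximalIdeal A) A) :=
    Groth.Agent.H1.ComplDepth.isLocalRing_adicCompletion A _
      (Ideal.IsPrime.ne_top inferInstance)
  haveI : IsNoetherianRing (AdicCompletion (IsLocalRing.maximalIdeal A) A) :=
    Groth.Agent.S0543.result A _
  obtain ⟨h1, h2⟩ := Groth.Agent.S19474.result A (IsLocalRing.maximalIdeal A)
    (Ideal.IsPrime.ne_top inferInstance)
  rw [Groth.Agent.S0549.dvr_iff_regular_dim_one, Groth.Agent.S0549.dvr_iff_regular_dim_one, h1, h2]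

end Groth.Agent.S0549
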