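import Groth.Statements.S1988
import Groth.Agent.Lib.Helper8.ASK.SolTower
-- import your own Groth.Agent.* helpers here

set_option autoImplicit false
universe u
open EtAlg

namespace Groth.Agent.S1988

/-- Let A -> B -> C be extensions of discrete valuation rings (local injective maps) with fraction
fields K ⊂ L ⊂ M₀ and K₁/K a finite extension. (The solution predicates mention only B, C and the
fields: in them the bottom ring is recovered as B ∩ K, which the hypotheses on A force to be A.) If
K₁ is a weak solution (resp. a solution) for A -> C then it is a weak solution (resp. a solution)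
for A -> B. -/
theorem result (A B C K L M₀ K₁ : Type u) [CommRing A] [IsDomain A] [IsDiscreteValuationRing A]
    [CommRing B] [IsDomain B] [IsDiscreteValuationRing B] [Algebra A B] [IsLocalHom (algebraMap A B)]
    (hinjA : Function.Injective (algebraMap A B))
    [CommRing C] [IsDomain C] [IsDiscreteValuationRing C] [Algebra B C] [IsLocalHom (algebraMap B C)]
    (hinj : Function.Injective (algebraMap B C))
    [Field K] [Field L] [Field M₀] [Field K₁] [Algebra K L] [Algebra K M₀] [Algebra L M₀] [IsScalarTower K L M₀]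
    [Algebra K K₁] [FiniteDimensional K K₁] [Algebra A K] [IsFractionRing A K]
    [Algebra B L] [IsFractionRing B L] [Algebra A L] [IsScalarTower A K L] [IsScalarTower A B L]
    [Algebra C M₀] [IsFractionRing C M₀] [Algebra B M₀]
    [IsScalarTower B C M₀] [IsScalarTower B L M₀] :
    (EtRam.IsWeakSolution C K M₀ K₁ → EtRam.IsWeakSolution B K L K₁) ∧
    (EtRam.IsSolution C K M₀ K₁ → EtRam.IsSolution B K L K₁) := by
  have key : ∀ (P : ∀ (M : Type u) [Field M], ValuationSubring M → (K₁ →+* M) → Prop),
      (∀ (M M' : Type u) [Field M] [Field M'] (W' : ValuationSubring M') (ι : M →+* M')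
          (j₁ : K₁ →+* M), P M' W' (ι.comp j₁) → P M (W'.comap ι) j₁) →
      EtRam.ForallLocalExt C K M₀ K₁ P → EtRam.ForallLocalExt B K L K₁ P := by
    intro P hP hsol M _ _ _ _ _ _ hgen W hW
    obtain ⟨M', instF, ι, ι₀, W', hcompat, rfl, hdomC, hgenM'⟩ :=
      Groth.Agent.H8.RI.exists_compositum_extension (B := B) (C := C) (L := L) (M₀ := M₀) (M := M)
        hinj W hW
    letI : Algebra M₀ M' := ι₀.toAlgebra
    letI : Algebra K M' := (ι₀.comp (algebraMap K M₀)).toAlgebra
    letI : Algebra K₁ M' := (ι.comp (algebraMap K₁ M)).toAlgebra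
    haveI : IsScalarTower K M₀ M' := IsScalarTower.of_algebraMap_eq (fun _ => rfl)
    haveI : IsScalarTower K K₁ M' := IsScalarTower.of_algebraMap_eq (fun x => by
      show ι₀ (algebraMap K M₀ x) = ι (algebraMap K₁ M (algebraMap K K₁ x))
      rw [← IsScalarTower.algebraMap_apply K K₁ M, IsScalarTower.algebraMap_apply K L M, hcompat,
        ← IsScalarTower.algebraMap_apply K L M₀])
    have hgen' : Algebra.adjoin M₀ (Set.range (algebraMap K₁ M')) = ⊤ :=
      Groth.Agent.H8.RI.adjoin_eq_top_of_tower (K := K) (L := L) ι (fun k => rfl) hcompat hgen hgenM'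
    exact hP M M' W' ι (algebraMap K₁ M) (hsol M' hgen' W' hdomC)
  refine ⟨key _ ?_, key _ ?_⟩
  · intro M M' _ _ W' ι j₁ h
    exact Groth.Agent.H8.RI.wu_comap W' ι j₁ h
  · intro M M' _ _ W' ι j₁ h
    exact ⟨Groth.Agent.H8.RI.wu_comap W' ι j₁ h.1, Groth.Agent.H8.RI.geomRed_comap W' ι j₁ h.2⟩

end Groth.Agent.S1988
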