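import Groth.Statements.S5813
import Groth.Agent.Lib.Helper3.ExalAux
open Groth.Agent.H3.ExalAux
attribute [local instance] Exal.opModule Exal.isCentralScalar_opModule

set_option autoImplicit false
universe u
open EGA41

namespace Groth.Agent.S5813

/-- Injectivity, commutative form. Let J be an ideal of the commutative ring B, C = B ⧸ J, M a C-module.
Two B-extensions of C by M whose induced linear maps J/J² → M (obtained from the restriction to J of
the structure map B → E) coincide are equivalent. -/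
theorem result {B : Type u} [CommRing B] (J : Ideal B)
    {M : Type u} [AddCommGroup M] [Module (B ⧸ J) M] [Module B M] [IsScalarTower B (B ⧸ J) M]
    (X Y : Exal.Ext B (B ⧸ J) M) (h : X.conormalMap J = Y.conormalMap J) :
    Nonempty (X.Equiv Y) := by
  have hsurj : Function.Surjective (algebraMap B (B ⧸ J)) := Ideal.Quotient.mk_surjective
  have hi2k : ∀ (Z : Exal.Ext B (B ⧸ J) M) (j : J), Z.incl (Z.idealToKer J j) = algebraMap B Z.E j :=
    fun Z j => Z.incl_kerLift _ (Z.proj_algebraMap_eq_zero J j)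
  have hcon : ∀ (Z : Exal.Ext B (B ⧸ J) M) (j : J), Z.conormalMap J (J.toCotangent j) = Z.idealToKer J j :=
    fun Z j => rfl
  have hXY : ∀ j : J, X.idealToKer J j = Y.idealToKer J j := by
    intro j
    rw [← hcon, ← hcon, h]
  -- kernel characterization
  have hker : ∀ (Z : Exal.Ext B (B ⧸ J) M) (t : TrivSqZeroExt B M),
      psi Z t = 0 ↔ ∃ hj : t.fst ∈ J, Z.idealToKer J ⟨t.fst, hj⟩ + t.snd = 0 := by
    intro Z t
    constructor
    · intro ht
      have h1 : Z.proj (psi Z t) = 0 := by rw [ht, map_zero]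
      rw [proj_psi, Ideal.Quotient.algebraMap_eq, Ideal.Quotient.eq_zero_iff_mem] at h1
      refine ⟨h1, ?_⟩
      apply Z.isExtension.incl_injective
      rw [map_add, hi2k, map_zero]
      exact ht
    · rintro ⟨hj, h2⟩
      rw [psi_apply]
      have := hi2k Z ⟨t.fst, hj⟩
      simp only at this
      rw [← this, ← map_add, h2, map_zero]
  have hkerXY : ∀ t : TrivSqZeroExt B M, psi X t = 0 ↔ psi Y t = 0 := by
    intro t
    rw [hker X, hker Y]
    constructor
    · rintro ⟨hj, h2⟩; exact ⟨hj, by rw [← hXY]; exact h2⟩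
    · rintro ⟨hj, h2⟩; exact ⟨hj, by rw [hXY]; exact h2⟩
  have hsX := psi_surjective X hsurj
  have hsY := psi_surjective Y hsurj
  let e1 : X.E →+* Y.E := (psi X).liftOfSurjective hsX ⟨psi Y, fun t ht => by
    rw [RingHom.mem_ker] at ht ⊢; exact (hkerXY t).mp ht⟩
  let e2 : Y.E →+* X.E := (psi Y).liftOfSurjective hsY ⟨psi X, fun t ht => by
    rw [RingHom.mem_ker] at ht ⊢; exact (hkerXY t).mpr ht⟩
  have he1 : ∀ t, e1 (psi X t) = psi Y t := fun t =>
    RingHom.liftOfSurjective_comp_apply (psi X) hsX _ t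
  have he2 : ∀ t, e2 (psi Y t) = psi X t := fun t =>
    RingHom.liftOfSurjective_comp_apply (psi Y) hsY _ t
  have h12 : ∀ x, e2 (e1 x) = x := by
    intro x
    obtain ⟨t, rfl⟩ := hsX x
    rw [he1, he2]
  have h21 : ∀ y, e1 (e2 y) = y := by
    intro y
    obtain ⟨t, rfl⟩ := hsY y
    rw [he2, he1]
  have hpsi_inl : ∀ (Z : Exal.Ext B (B ⧸ J) M) (b : B), psi Z (TrivSqZeroExt.inl b) = algebraMap B Z.E b := by
    intro Z b
    rw [psi_apply, TrivSqZeroExt.fst_inl, TrivSqZeroExt.snd_inl, map_zero, add_zero]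
  have hpsi_inr : ∀ (Z : Exal.Ext B (B ⧸ J) M) (m : M), psi Z (TrivSqZeroExt.inr m) = Z.incl m := by
    intro Z m
    rw [psi_apply, TrivSqZeroExt.fst_inr, TrivSqZeroExt.snd_inr, map_zero, zero_add]
  let e : X.E ≃ₐ[B] Y.E :=
    AlgEquiv.ofRingEquiv (f := RingEquiv.ofRingHom e1 e2 (RingHom.ext h21) (RingHom.ext h12)) (by
      intro b
      show e1 (algebraMap B X.E b) = algebraMap B Y.E b
      rw [← hpsi_inl, he1, hpsi_inl])
  refine ⟨{ toAlgEquiv := e, proj_apply := ?_, apply_incl := ?_ }⟩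
  · intro x
    obtain ⟨t, rfl⟩ := hsX x
    show Y.proj (e1 (psi X t)) = _
    rw [he1, proj_psi, proj_psi]
  · intro m
    show e1 (X.incl m) = Y.incl m
    rw [← hpsi_inr, he1, hpsi_inr]

end Groth.Agent.S5813
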