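import Groth.Statements.S5814
import Groth.Agent.Lib.Helper3.ExalAux
open Groth.Agent.H3.ExalAux
attribute [local instance] Exal.opModule Exal.isCentralScalar_opModule

set_option autoImplicit false
universe u
open EGA41

namespace Groth.Agent.S5814

/-- Surjectivity, commutative form. Let J be an ideal of the commutative ring B, C = B ⧸ J, M a
C-module. Every linear map w : J/J² → M arises from a B-extension of C by M: there is an extension
whose induced map J/J² → M is w. Together with the injectivity statement this is the canonical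
bijection between Hom_C(J/J², M) and the classes of B-extensions of C by M. -/
theorem result {B : Type u} [CommRing B] (J : Ideal B)
    {M : Type u} [AddCommGroup M] [Module (B ⧸ J) M] [Module B M] [IsScalarTower B (B ⧸ J) M]
    (w : J.Cotangent →ₗ[B] M) :
    ∃ X : Exal.Ext B (B ⧸ J) M, X.conormalMap J = w := by
  have hJM : ∀ (j : B), j ∈ J → ∀ m : M, j • m = 0 := by
    intro j hj m
    rw [← IsScalarTower.algebraMap_smul (B ⧸ J) j m, Ideal.Quotient.algebraMap_eq,
      Ideal.Quotient.eq_zero_iff_mem.mpr hj, zero_smul]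
  let W : J →ₗ[B] M := w.comp J.toCotangent
  let φ : J →+ TrivSqZeroExt B M :=
    { toFun := fun j => TrivSqZeroExt.inl (j : B) - TrivSqZeroExt.inr (W j)
      map_zero' := by
        rw [map_zero, Submodule.coe_zero, TrivSqZeroExt.inl_zero, TrivSqZeroExt.inr_zero, sub_zero]
      map_add' := fun j j' => by
        rw [map_add, Submodule.coe_add, TrivSqZeroExt.inl_add, TrivSqZeroExt.inr_add]
        abel }
  have hφ : ∀ j, φ j = TrivSqZeroExt.inl (j : B) - TrivSqZeroExt.inr (W j) := fun j => rfl
  have hφ1 : ∀ j, (φ j).fst = j := by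
    intro j
    rw [hφ, TrivSqZeroExt.fst_sub, TrivSqZeroExt.fst_inl, TrivSqZeroExt.fst_inr, sub_zero]
  have hφ2 : ∀ j, (φ j).snd = - W j := by
    intro j
    rw [hφ, TrivSqZeroExt.snd_sub, TrivSqZeroExt.snd_inl, TrivSqZeroExt.snd_inr, zero_sub]
  let K : Ideal (TrivSqZeroExt B M) :=
    { carrier := Set.range φ
      add_mem' := by
        rintro _ _ ⟨j, rfl⟩ ⟨j', rfl⟩
        exact ⟨j + j', map_add φ j j'⟩
      zero_mem' := ⟨0, map_zero φ⟩
      smul_mem' := by
        rintro c _ ⟨j, rfl⟩
        refine ⟨c.fst • j, ?_⟩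
        apply TrivSqZeroExt.ext
        · rw [hφ1, smul_eq_mul, TrivSqZeroExt.fst_mul, hφ1]; rfl
        · rw [hφ2, smul_eq_mul, TrivSqZeroExt.snd_mul, hφ1, hφ2, op_smul_eq_smul, hJM j j.2, add_zero,
            map_smul, smul_neg] }
  have hK : ∀ t : TrivSqZeroExt B M, t ∈ K ↔ ∃ j : J, φ j = t := fun t => Iff.rfl
  let mkK : TrivSqZeroExt B M →+* (TrivSqZeroExt B M ⧸ K) := Ideal.Quotient.mk K
  let algE : Algebra B (TrivSqZeroExt B M ⧸ K) := (mkK.comp (TrivSqZeroExt.inlHom B M)).toAlgebra
  have halg : ∀ b : B, @algebraMap B (TrivSqZeroExt B M ⧸ K) _ _ algE b = mkK (TrivSqZeroExt.inl b) :=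
    fun b => rfl
  let p0 : (TrivSqZeroExt B M ⧸ K) →+* (B ⧸ J) :=
    Ideal.Quotient.lift K ((Ideal.Quotient.mk J).comp (TrivSqZeroExt.fstHom B B M : TrivSqZeroExt B M →+* B))
      (by
        intro t ht
        obtain ⟨j, rfl⟩ := (hK t).mp ht
        show Ideal.Quotient.mk J (φ j).fst = 0
        rw [hφ1]
        exact Ideal.Quotient.eq_zero_iff_mem.mpr j.2)
  have hp0 : ∀ t, p0 (mkK t) = Ideal.Quotient.mk J t.fst := fun t => rfl
  have hinr_mem : ∀ m : M, (TrivSqZeroExt.inr m : TrivSqZeroExt B M) ∈ K → m = 0 := by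
    intro m hm
    obtain ⟨j, hj⟩ := (hK _).mp hm
    have h1 := congrArg TrivSqZeroExt.fst hj
    have h2 := congrArg TrivSqZeroExt.snd hj
    rw [hφ1, TrivSqZeroExt.fst_inr] at h1
    rw [hφ2, TrivSqZeroExt.snd_inr] at h2
    have : j = 0 := Subtype.ext h1
    rw [this, map_zero, neg_zero] at h2
    exact h2.symm
  let X : Exal.Ext B (B ⧸ J) M :=
    { E := TrivSqZeroExt B M ⧸ K
      commRing := inferInstance
      algebra := algE
      proj :=
        { toFun := p0
          map_one' := map_one p0
          map_mul' := map_mul p0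
          map_zero' := map_zero p0
          map_add' := map_add p0
          commutes' := fun b => by
            rw [halg, hp0, TrivSqZeroExt.fst_inl]; rfl }
      incl := (mkK : TrivSqZeroExt B M →+ _).comp (TrivSqZeroExt.inrHom B M).toAddMonoidHom
      isExtension :=
        { proj_surjective := fun c => by
            obtain ⟨b, rfl⟩ := Ideal.Quotient.mk_surjective c
            exact ⟨mkK (TrivSqZeroExt.inl b), by
              show p0 (mkK (TrivSqZeroExt.inl b)) = _
              rw [hp0, TrivSqZeroExt.fst_inl]⟩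
          incl_injective := by
            rw [injective_iff_map_eq_zero]
            intro m hm
            have h1 : mkK (TrivSqZeroExt.inr m) = 0 := hm
            rw [Ideal.Quotient.eq_zero_iff_mem] at h1
            exact hinr_mem m h1
          exact := fun x => by
            obtain ⟨t, rfl⟩ := Ideal.Quotient.mk_surjective x
            show p0 (mkK t) = 0 ↔ _
            rw [hp0, Ideal.Quotient.eq_zero_iff_mem]
            constructor
            · intro hj
              refine ⟨t.snd + W ⟨t.fst, hj⟩, ?_⟩
              show mkK (TrivSqZeroExt.inr _) = mkK t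
              rw [eq_comm, Ideal.Quotient.eq, hK]
              refine ⟨⟨t.fst, hj⟩, ?_⟩
              apply TrivSqZeroExt.ext
              · rw [hφ1, TrivSqZeroExt.fst_sub, TrivSqZeroExt.fst_inr, sub_zero]
              · rw [hφ2, TrivSqZeroExt.snd_sub, TrivSqZeroExt.snd_inr]
                abel
            · rintro ⟨z, hz⟩
              have h1 : mkK (TrivSqZeroExt.inr z) = mkK t := hz
              have h2 := congrArg p0 h1
              rw [hp0, hp0, TrivSqZeroExt.fst_inr, map_zero] at h2
              exact Ideal.Quotient.eq_zero_iff_mem.mp h2.symm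
          mul_incl := fun x z => by
            obtain ⟨t, rfl⟩ := Ideal.Quotient.mk_surjective x
            show mkK t * mkK (TrivSqZeroExt.inr z) = mkK (TrivSqZeroExt.inr (p0 (mkK t) • z))
            rw [← map_mul, hp0]
            congr 1
            apply TrivSqZeroExt.ext
            · rw [TrivSqZeroExt.fst_mul, TrivSqZeroExt.fst_inr, TrivSqZeroExt.fst_inr, mul_zero]
            · rw [TrivSqZeroExt.snd_mul, TrivSqZeroExt.fst_inr, TrivSqZeroExt.snd_inr, TrivSqZeroExt.snd_inr,
                MulOpposite.op_zero, zero_smul, add_zero]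
              exact (IsScalarTower.algebraMap_smul (B ⧸ J) t.fst z).symm } }
  refine ⟨X, ?_⟩
  apply LinearMap.ext
  intro c
  obtain ⟨j, rfl⟩ := J.toCotangent_surjective c
  show X.idealToKer J j = w (J.toCotangent j)
  apply X.isExtension.incl_injective
  have h1 : X.incl (X.idealToKer J j) = algebraMap B X.E j := X.incl_kerLift _ (X.proj_algebraMap_eq_zero J j)
  rw [h1]
  show mkK (TrivSqZeroExt.inl (j : B)) = mkK (TrivSqZeroExt.inr (w (J.toCotangent j)))
  rw [Ideal.Quotient.eq, hK]
  exact ⟨j, rfl⟩

end Groth.Agent.S5814
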