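import Groth.Statements.S0294
import Mathlib

set_option autoImplicit false
universe u
open Pi1

namespace Groth.Agent.S0294

open AlgebraicGeometry CategoryTheory CategoryTheory.Limits in
/-- For a finite étale cover Y of a scheme X and a point ξ : Spec Ω → X with values in a field Ω, the
fibre of Y over ξ (the set of Ω-valued points of Y lying over ξ) is finite. -/
theorem result {X : Scheme.{u}} {Ω : Type u} [Field Ω] (ξ : Spec (CommRingCat.of Ω) ⟶ X) (Y : FEt.Cat X) :
    Finite (FEt.fiberObj ξ Y) := by
  have hYfin : IsFinite Y.hom := Y.prop.1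
  let P := pullback Y.hom ξ
  let g : P ⟶ Spec (CommRingCat.of Ω) := pullback.snd Y.hom ξ
  have hg : IsFinite g := MorphismProperty.pullback_snd (P := @IsFinite) _ _ hYfin
  have hPaff : IsAffine P := isAffine_of_isAffineHom g
  let iso := Scheme.ΓSpecIso (CommRingCat.of Ω)
  let B := Γ(P, ⊤)
  let φ : Ω →+* B := (iso.inv ≫ g.appTop).hom
  letI : Algebra Ω B := φ.toAlgebra
  have hfin : Module.Finite Ω B := by
    have h1 : (g.appTop).hom.Finite := IsFinite.finite_app g ⊤ (isAffineOpen_top _)
    have h2 : (iso.inv).hom.Finite :=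
      RingHom.Finite.of_surjective _ ((ConcreteCategory.bijective_of_isIso iso.inv).2)
    have h3 : φ.Finite := by
      have := RingHom.Finite.comp h1 h2
      simpa [φ] using this
    exact h3
  -- the injection
  let F : FEt.fiberObj ξ Y → (B →ₐ[Ω] Ω) := fun s =>
    let t : Spec (CommRingCat.of Ω) ⟶ P := pullback.lift s.1 (𝟙 _) (by rw [s.2, Category.id_comp])
    { toRingHom := (t.appTop ≫ iso.hom).hom
      commutes' := by
        intro r
        have ht : t ≫ g = 𝟙 _ := pullback.lift_snd _ _ _
        have h1 : iso.inv ≫ g.appTop ≫ t.appTop ≫ iso.hom = 𝟙 _ := by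
          rw [← Category.assoc g.appTop, ← Scheme.Hom.comp_appTop, ht]
          simp
        have := congrArg (fun f => f.hom r) h1
        simpa [φ, RingHom.algebraMap_toAlgebra] using this }
  apply Finite.of_injective F
  intro s s' hss
  let t : Spec (CommRingCat.of Ω) ⟶ P := pullback.lift s.1 (𝟙 _) (by rw [s.2, Category.id_comp])
  let t' : Spec (CommRingCat.of Ω) ⟶ P := pullback.lift s'.1 (𝟙 _) (by rw [s'.2, Category.id_comp])
  have h1 : (t.appTop ≫ iso.hom).hom = (t'.appTop ≫ iso.hom).hom := by
    have := congrArg (fun f : B →ₐ[Ω] Ω => f.toRingHom) hss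
    exact this
  have h2 : t.appTop ≫ iso.hom = t'.appTop ≫ iso.hom := CommRingCat.hom_ext h1
  have h3 : t.appTop = t'.appTop := by
    rwa [cancel_mono] at h2
  have h4 : t = t' := ext_of_isAffine h3
  apply Subtype.ext
  have e1 : t ≫ pullback.fst _ _ = s.1 := pullback.lift_fst _ _ _
  have e2 : t' ≫ pullback.fst _ _ = s'.1 := pullback.lift_fst _ _ _
  rw [← e1, ← e2, h4]

end Groth.Agent.S0294
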