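import Groth.Statements.S12285
import Groth.Agent.Lib.Helper6.NineC
import Groth.Agent.Lib.Helper6.NineT

set_option autoImplicit false
universe u w m
open scoped TensorProduct
open DefT

namespace Groth.Agent.S12285

/-- Let A → B → C be ring homomorphisms and M a C-module. Compute T^i(C/B, M), T^i(C/A, M) and T^i(B/A,
M) from the choice-free presentations (every element a variable, every kernel element a relation),
and let T^i(C/B, M) → T^i(C/A, M) and T^i(C/A, M) → T^i(B/A, M) be the maps induced by the morphisms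
of presentations given by A → B over the identity of C and by B → C over the identity of A. Then
T^0(C/B, M) → T^0(C/A, M) is injective, the sequences T^i(C/B, M) → T^i(C/A, M) → T^i(B/A, M) are
exact for i = 0, 1, 2, and there are additive connecting maps δ₀ : T^0(B/A, M) → T^1(C/B, M) and δ₁
: T^1(B/A, M) → T^2(C/B, M) making the nine-term sequence 0 → T^0(C/B) → T^0(C/A) → T^0(B/A) →
T^1(C/B) → T^1(C/A) → T^1(B/A) → T^2(C/B) → T^2(C/A) → T^2(B/A) exact. (The connecting maps are
asserted to exist with this exactness only, and only as additive maps; the published statement is an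
exact sequence of C-modules, with C-linear connecting maps.) -/
theorem result
    (A B C : Type u) [CommRing A] [CommRing B] [CommRing C] [Algebra A B] [Algebra B C] [Algebra A C]
    [IsScalarTower A B C] (M : Type u) [AddCommGroup M] [Module C M] [Module B M] [IsScalarTower B C M] :
    Function.Injective ((CotT.canonHom A C B C).T0pull M) ∧
    Function.Exact ((CotT.canonHom A C B C).T0pull M) ((CotT.canonHom A B A C).T0pull M) ∧
    Function.Exact ((CotT.canonHom A C B C).T1pull M) ((CotT.canonHom A B A C).T1pull M) ∧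
    Function.Exact ((CotT.canonHom A C B C).T2pull M) ((CotT.canonHom A B A C).T2pull M) ∧
    ∃ (δ₀ : CotT.T0 (CotT.canon A B) M →+ CotT.T1 (CotT.canon B C) M)
      (δ₁ : CotT.T1 (CotT.canon A B) M →+ CotT.T2 (CotT.canon B C) M),
      Function.Exact ((CotT.canonHom A B A C).T0pull M) δ₀ ∧ Function.Exact δ₀ ((CotT.canonHom A C B C).T1pull M) ∧
      Function.Exact ((CotT.canonHom A B A C).T1pull M) δ₁ ∧ Function.Exact δ₁ ((CotT.canonHom A C B C).T2pull M) := by
  exact Groth.Agent.H6.NineT.transfer
    ((Groth.Agent.H6.NineW.uHom (CotT.canon A B) (CotT.canon B C)).T0pull M)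
    ((Groth.Agent.H6.NineW.uHom (CotT.canon A B) (CotT.canon B C)).T1pull M)
    ((Groth.Agent.H6.NineW.uHom (CotT.canon A B) (CotT.canon B C)).T2pull M)
    ((Groth.Agent.H6.NineW.vHom (CotT.canon A B) (CotT.canon B C)).T0pull M)
    ((Groth.Agent.H6.NineW.vHom (CotT.canon A B) (CotT.canon B C)).T1pull M)
    ((Groth.Agent.H6.NineW.vHom (CotT.canon A B) (CotT.canon B C)).T2pull M)
    ((CotT.canonHom A C B C).T0pull M) ((CotT.canonHom A C B C).T1pull M) ((CotT.canonHom A C B C).T2pull M)
    ((CotT.canonHom A B A C).T0pull M) ((CotT.canonHom A B A C).T1pull M) ((CotT.canonHom A B A C).T2pull M)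
    ((Groth.Agent.H6.NineC.βHom A B C).T0pull M) ((Groth.Agent.H6.NineC.βHom A B C).T1pull M)
    ((Groth.Agent.H6.NineC.βHom A B C).T2pull M)
    (Groth.Agent.H6.NineC.β_bij0 A B C M) (Groth.Agent.H6.NineC.β_bij1 A B C M)
    (Groth.Agent.H6.NineC.β_bij2 A B C M)
    (map_zero _) (map_zero _)
    (Groth.Agent.H6.NineC.u_T0 A B C M) (Groth.Agent.H6.NineC.u_T1 A B C M) (Groth.Agent.H6.NineC.u_T2 A B C M)
    (Groth.Agent.H6.NineC.h_T0 A B C M) (Groth.Agent.H6.NineC.h_T1 A B C M) (Groth.Agent.H6.NineC.h_T2 A B C M)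
    (Groth.Agent.H6.NineW.nine_comp (CotT.canon A B) (CotT.canon B C) M)

end Groth.Agent.S12285
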