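import Groth.Statements.S0800
import Groth.Agent.Lib.Lead.SC.PushNat
import Groth.Agent.Lib.Lead.Colim.Top

set_option autoImplicit false
universe u
open Coherent

namespace Groth.Agent.S0800

open CategoryTheory CategoryTheory.Limits AlgebraicGeometry in
/-- Let f : X → S be quasi-compact and quasi-separated. Then for every p the higher direct image functor
R^p f_* on abelian sheaves (on the underlying spaces) preserves filtered colimits. -/
theorem result {X S : Scheme.{u}} (f : X ⟶ S) [QuasiCompact f]
    [QuasiSeparated f] (p : ℕ) (J : Type u) [SmallCategory J] [IsFiltered J] :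
    PreservesColimitsOfShape J (Coh.RpushAb f p) := by
  refine ⟨fun {F} => ?_⟩
  refine LD.SC.preservesColimit_rightDerived_pushS (Opens.grothendieckTopology X)
    (Opens.grothendieckTopology S) (TopologicalSpace.Opens.map f.base) F p ?_
  intro V
  have hB := S.isBasis_affineOpens
  rw [TopologicalSpace.Opens.isBasis_iff_nbhd] at hB
  refine ⟨{W : TopologicalSpace.Opens S // IsAffineOpen W ∧ W ≤ V}, fun k => k.1, fun k => homOfLE k.2.2, ?_,
    fun k => ?_⟩
  · intro x hx
    obtain ⟨W, hW, hxW, hWV⟩ := hB hx
    exact ⟨W, homOfLE hWV,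
      Sieve.ofArrows_mk _ _ (⟨W, hW, hWV⟩ : {W : TopologicalSpace.Opens S // IsAffineOpen W ∧ W ≤ V}), hxW⟩
  · exact LD.Colim.preservesColimit_H_of_qcqs ((TopologicalSpace.Opens.map f.base).obj k.1)
      (f.isCompact_preimage k.2.1.isCompact) (f.isQuasiSeparated_preimage k.2.1.isQuasiSeparated)
      p F

end Groth.Agent.S0800
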