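import Groth.Statements.S6593
import Mathlib.Tactic.Abel

set_option autoImplicit false
universe w v u
open CategoryTheory CategoryTheory.Limits
open CohDer CategoryTheory.Pretriangulated

namespace Groth.Agent.S6593

open CategoryTheory.Pretriangulated in
/-- Let D be a pretriangulated category and (X_i → Y_i → Z_i → X_i⟦1⟧)_{i ∈ I} a family of distinguished
triangles. If the direct sums ⨁ X_i, ⨁ Y_i, ⨁ Z_i exist, then ⨁ X_i → ⨁ Y_i → ⨁ Z_i → (⨁ X_i)⟦1⟧ is
a distinguished triangle (the last map is induced by the composites Z_i → X_i⟦1⟧ → (⨁ X_i)⟦1⟧). -/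
theorem result {D : Type u} [Category.{v} D] [Preadditive D] [HasZeroObject D] [HasShift D ℤ]
    [∀ n : ℤ, (shiftFunctor D n).Additive] [Pretriangulated D]
    {J : Type w} (T : J → Triangle D) (hT : ∀ j, T j ∈ distinguishedTriangles)
    [HasCoproduct (fun j => (T j).obj₁)] [HasCoproduct (fun j => (T j).obj₂)] [HasCoproduct (fun j => (T j).obj₃)] :
    Triangle.mk (Limits.Sigma.map (fun j => (T j).mor₁)) (Limits.Sigma.map (fun j => (T j).mor₂))
      (Sigma.desc (fun j => (T j).mor₃ ≫ (shiftFunctor D (1 : ℤ)).map (Sigma.ι (fun j => (T j).obj₁) j))) ∈ distinguishedTriangles := by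
  -- shifted coproduct cofans
  have hc1 : IsColimit (Cofan.mk ((shiftFunctor D (1 : ℤ)).obj (∐ fun j => (T j).obj₁))
      (fun j => (shiftFunctor D (1 : ℤ)).map (Sigma.ι (fun j => (T j).obj₁) j)) :
        Cofan (fun j => (shiftFunctor D (1 : ℤ)).obj ((T j).obj₁))) :=
    isColimitCofanMkObjOfIsColimit (shiftFunctor D (1 : ℤ)) _ _ (coproductIsCoproduct _)
  have hc2 : IsColimit (Cofan.mk ((shiftFunctor D (1 : ℤ)).obj (∐ fun j => (T j).obj₂))
      (fun j => (shiftFunctor D (1 : ℤ)).map (Sigma.ι (fun j => (T j).obj₂) j)) :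
        Cofan (fun j => (shiftFunctor D (1 : ℤ)).obj ((T j).obj₂))) :=
    isColimitCofanMkObjOfIsColimit (shiftFunctor D (1 : ℤ)) _ _ (coproductIsCoproduct _)
  obtain ⟨Z', g', h', hT'⟩ := distinguished_cocone_triangle (Limits.Sigma.map (fun j => (T j).mor₁))
  have hc : ∀ j, ∃ c : (T j).obj₃ ⟶ Z', (T j).mor₂ ≫ c = Sigma.ι (fun j => (T j).obj₂) j ≫ g' ∧
      (T j).mor₃ ≫ (shiftFunctor D (1 : ℤ)).map (Sigma.ι (fun j => (T j).obj₁) j) = c ≫ h' := fun j =>
    complete_distinguished_triangle_morphism _ _ (hT j) hT'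
      (Sigma.ι (fun j => (T j).obj₁) j) (Sigma.ι (fun j => (T j).obj₂) j)
      (Sigma.ι_map (fun j => (T j).mor₁) j).symm
  choose c hc1' hc2' using hc
  have hγ2 : Limits.Sigma.map (fun j => (T j).mor₂) ≫ Sigma.desc c = g' := by
    apply Sigma.hom_ext
    intro j
    rw [Sigma.ι_map_assoc, Sigma.ι_desc, hc1']
  have hγ3 : Sigma.desc (fun j => (T j).mor₃ ≫ (shiftFunctor D (1 : ℤ)).map (Sigma.ι (fun j => (T j).obj₁) j))
      = Sigma.desc c ≫ h' := by
    apply Sigma.hom_ext
    intro j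
    rw [Sigma.ι_desc, Sigma.ι_desc_assoc, hc2']
  have hiso : IsIso (Sigma.desc c) := by
    refine isIso_of_coyoneda_map_bijective _ (fun A => ⟨?_, ?_⟩)
    · suffices H : ∀ u : Z' ⟶ A, Sigma.desc c ≫ u = 0 → u = 0 by
        intro u u' huu
        have := H (u - u') (by rw [Preadditive.comp_sub]; exact sub_eq_zero.mpr huu)
        exact sub_eq_zero.mp this
      intro u hu
      have hcu : ∀ j, c j ≫ u = 0 := fun j => by
        rw [← Sigma.ι_desc c j, Category.assoc, hu, comp_zero]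
      have h1 : g' ≫ u = 0 := by
        apply Sigma.hom_ext
        intro j
        rw [← Category.assoc, ← hc1', Category.assoc, hcu, comp_zero, comp_zero]
      obtain ⟨v, hv⟩ : ∃ v : (shiftFunctor D (1 : ℤ)).obj (∐ fun j => (T j).obj₁) ⟶ A, u = h' ≫ v :=
        Triangle.yoneda_exact₃ _ hT' u h1
      have hw : ∀ j, ∃ w : (shiftFunctor D (1 : ℤ)).obj ((T j).obj₂) ⟶ A,
          (shiftFunctor D (1 : ℤ)).map (Sigma.ι (fun j => (T j).obj₁) j) ≫ v =
            (shiftFunctor D (1 : ℤ)).map (T j).mor₁ ≫ w := fun j => by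
        have h2 : (T j).mor₃ ≫ ((shiftFunctor D (1 : ℤ)).map (Sigma.ι (fun j => (T j).obj₁) j) ≫ v) = 0 := by
          rw [← Category.assoc, hc2', Category.assoc, ← hv, hcu]
        obtain ⟨w, hw⟩ : ∃ w : (shiftFunctor D (1 : ℤ)).obj ((T j).obj₂) ⟶ A,
            (shiftFunctor D (1 : ℤ)).map (Sigma.ι (fun j => (T j).obj₁) j) ≫ v =
              (-(shiftFunctor D (1 : ℤ)).map (T j).mor₁) ≫ w :=
          Triangle.yoneda_exact₃ _ (rot_of_distTriang _ (hT j)) _ h2
        exact ⟨-w, by rw [hw, Preadditive.neg_comp, Preadditive.comp_neg]⟩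
      choose w hw using hw
      have hv2 : v = (shiftFunctor D (1 : ℤ)).map (Limits.Sigma.map (fun j => (T j).mor₁)) ≫
          Cofan.IsColimit.desc hc2 w := by
        apply Cofan.IsColimit.hom_ext hc1
        intro j
        show (shiftFunctor D (1 : ℤ)).map (Sigma.ι (fun j => (T j).obj₁) j) ≫ v = (shiftFunctor D (1 : ℤ)).map (Sigma.ι (fun j => (T j).obj₁) j) ≫ _
        rw [hw, ← Category.assoc, ← Functor.map_comp, Sigma.ι_map,
          Functor.map_comp, Category.assoc]
        congr 1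
        exact (Cofan.IsColimit.fac hc2 w j).symm
      have z : h' ≫ (shiftFunctor D (1 : ℤ)).map (Limits.Sigma.map (fun j => (T j).mor₁)) = 0 :=
        comp_distTriang_mor_zero₃₁ _ hT'
      rw [hv, hv2, ← Category.assoc, z, zero_comp]
    · intro a
      have z : Limits.Sigma.map (fun j => (T j).mor₁) ≫ Limits.Sigma.map (fun j => (T j).mor₂) = 0 := by
        apply Sigma.hom_ext
        intro j
        rw [Sigma.ι_map_assoc, Sigma.ι_map, ← Category.assoc,
          comp_distTriang_mor_zero₁₂ _ (hT j), zero_comp, comp_zero]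
      have h1 : Limits.Sigma.map (fun j => (T j).mor₁) ≫ (Limits.Sigma.map (fun j => (T j).mor₂) ≫ a) = 0 := by
        rw [← Category.assoc, z, zero_comp]
      obtain ⟨a', ha'⟩ : ∃ a' : Z' ⟶ A, Limits.Sigma.map (fun j => (T j).mor₂) ≫ a = g' ≫ a' :=
        Triangle.yoneda_exact₂ _ hT' _ h1
      have hb : ∀ j, ∃ b : (shiftFunctor D (1 : ℤ)).obj ((T j).obj₁) ⟶ A,
          Sigma.ι (fun j => (T j).obj₃) j ≫ (a - Sigma.desc c ≫ a') = (T j).mor₃ ≫ b := fun j => by
        apply Triangle.yoneda_exact₃ _ (hT j)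
        have : (T j).mor₂ ≫ Sigma.ι (fun j => (T j).obj₃) j =
            Sigma.ι (fun j => (T j).obj₂) j ≫ Limits.Sigma.map (fun j => (T j).mor₂) := by
          rw [Sigma.ι_map]
        rw [← Category.assoc, this, Category.assoc, Preadditive.comp_sub, ← Category.assoc _ _ a', hγ2, ha', sub_self,
          comp_zero]
      choose b hb using hb
      refine ⟨a' + h' ≫ Cofan.IsColimit.desc hc1 b, ?_⟩
      show Sigma.desc c ≫ (a' + h' ≫ Cofan.IsColimit.desc hc1 b) = a
      rw [Preadditive.comp_add, ← Category.assoc, ← hγ3]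
      have : Sigma.desc (fun j => (T j).mor₃ ≫ (shiftFunctor D (1 : ℤ)).map (Sigma.ι (fun j => (T j).obj₁) j)) ≫
          Cofan.IsColimit.desc hc1 b = a - Sigma.desc c ≫ a' := by
        apply Sigma.hom_ext
        intro j
        rw [Sigma.ι_desc_assoc, hb, Category.assoc]
        congr 1
        exact Cofan.IsColimit.fac hc1 b j
      rw [this]; abel
  refine isomorphic_distinguished _ hT' _ ?_
  haveI := hiso
  let e : (∐ fun j => (T j).obj₃) ≅ Z' := asIso (Sigma.desc c)
  refine Triangle.isoMk _ _ (Iso.refl _) (Iso.refl _) e ?_ ?_ ?_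
  · exact (Category.comp_id _).trans (Category.id_comp _).symm
  · exact hγ2.trans (Category.id_comp _).symm
  · show Sigma.desc _ ≫ (shiftFunctor D (1 : ℤ)).map (𝟙 _) = Sigma.desc c ≫ h'
    rw [CategoryTheory.Functor.map_id, Category.comp_id]
    exact hγ3

end Groth.Agent.S6593
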