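import Groth.Statements.S18654
import Groth.Agent.Lib.Helper2.GrMono2
import Groth.Agent.Lib.Helper2.GrReg1

set_option autoImplicit false
universe u
open GrLC

namespace Groth.Agent.S18654

/-- Let R be a graded ring defined over a field k = R_0 which is Cohen–Macaulay and generated over k by
R_1, with dim R ≥ 1, and write H(n, R) = dim_k R_n. Then H(n + 1, R) ≥ H(n, R) for every integer n.
Here 'graded ring defined over a field' means R = ⊕_{n ≥ 0} R_n is Noetherian with R_0 a field, and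
m = R_+ is its unique graded maximal ideal. -/
theorem result (R : Type u) [CommRing R] [LocCoh.IsCohenMacaulayRing R] (𝒜 : ℤ → AddSubgroup R) [GradedRing 𝒜] (hpos : ∀ n : ℤ, n < 0 → 𝒜 n = ⊥) (h0 : IsField (GrLC.deg0 𝒜)) (hstd : Ideal.span (⋃ n ∈ Set.Ioi (0 : ℤ), (𝒜 n : Set R)) = Ideal.span ((𝒜 1 : AddSubgroup R) : Set R)) (h1 : 1 ≤ ringKrullDim R) (n : ℤ) : Module.finrank (GrLC.deg0 𝒜) (GrLC.comp 𝒜 𝒜 n) ≤ Module.finrank (GrLC.deg0 𝒜) (GrLC.comp 𝒜 𝒜 (n + 1)) := by
  haveI : IsNoetherianRing R := inferInstance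
  let a : HomogeneousIdeal 𝒜 := ⟨Ideal.span ((𝒜 1 : AddSubgroup R) : Set R),
    Ideal.homogeneous_span 𝒜 _ (fun y hy => ⟨1, hy⟩)⟩
  obtain ⟨N, x, hx1, hax⟩ := Groth.Agent.H2.GrEG.exists_fin_gens a rfl
  have hspan : Ideal.span (Set.range x) = Groth.Agent.H2.GrMono.irr 𝒜 := by
    unfold Groth.Agent.H2.GrMono.irr
    rw [hstd]
    exact hax.symm
  have hsoc := Groth.Agent.H2.GrMono.eq_zero_of_irr_mul 𝒜 hpos h0 h1
  have hreg : Groth.Agent.H2.GrMono.genForm x ∈ nonZeroDivisors (Polynomial R) := by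
    apply Groth.Agent.H2.GrMono.genForm_mem_nonZeroDivisors
    intro c hc
    apply hsoc c
    intro y hy
    rw [← hspan] at hy
    induction hy using Submodule.span_induction with
    | mem z hz =>
      obtain ⟨i, rfl⟩ := hz
      rw [mul_comm]
      exact hc i
    | zero => exact zero_mul c
    | add y z _ _ hy hz => rw [add_mul, hy, hz, add_zero]
    | smul b y _ hy => rw [smul_eq_mul, mul_assoc, hy, mul_zero]
  have hfin : ∀ m : ℤ, Module.Finite (GrLC.deg0 𝒜) (GrLC.comp 𝒜 𝒜 m) := by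
    intro m
    obtain ⟨pg⟩ := Groth.Agent.H6.Gr.exists_posGens 𝒜 (Groth.Agent.H2.GrMono.irr 𝒜) rfl
    refine Module.Finite.iff_fg.mpr (pg.comp_fg hpos (fun e he y hy => ?_) m)
    apply Ideal.subset_span
    simp only [Set.mem_iUnion, Set.mem_Ioi, SetLike.mem_coe]
    exact ⟨e, he, hy⟩
  exact Groth.Agent.H2.GrMono.finrank_le_succ 𝒜 x hx1 h0 hreg hfin n

end Groth.Agent.S18654
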