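import Groth.Statements.S8268
import Groth.Agent.Lib.Helper6.SymU
import Groth.Agent.Lib.Helper6.QCLoc
import Groth.Agent.Lib.Lead.QC.Gen

set_option autoImplicit false
universe u
open CategoryTheory CategoryTheory.Limits AlgebraicGeometry Opposite TopologicalSpace
open EGA2

namespace Groth.Agent.S8268

/-- A surjective homomorphism E → F of quasi-coherent O_S-modules induces a closed immersion V(F) → V(E)
of the associated vector bundles (relative spectra of the symmetric algebras; the algebra map A → B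
is the one extending E → F). -/
theorem result {S : Scheme.{u}} (E F : S.Modules) (hE : Coh.IsQCoh E)
    (hF : Coh.IsQCoh F) (u : E ⟶ F) [Epi u]
    (A B : RelSpec.QCAlg S) (j : E ⟶ A.toModule) (k : F ⟶ B.toModule)
    (hA : RelSpec.IsSymAlg E A j) (hB : RelSpec.IsSymAlg F B k)
    (ψ : A ⟶ B) (hψ : j ≫ RelSpec.QCAlg.Hom.toModuleMap ψ = u ≫ k) :
    IsClosedImmersion (RelSpec.QCAlg.specMap ψ) := by
  haveI : E.IsQuasicoherent := hE
  haveI : F.IsQuasicoherent := hF
  refine Groth.Agent.H6.QCLoc.specMap_of_forall_affine @IsClosedImmersion ψ fun U hU => ?_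
  apply IsClosedImmersion.spec_of_surjective
  have hu := Groth.Agent.LD.QC.epi_app_affine hE hF u hU
  have h2 := Groth.Agent.H6.Sym.liftSec_bijective hB U hU
  intro b
  obtain ⟨y, rfl⟩ := h2.2 b
  obtain ⟨x, rfl⟩ := Groth.Agent.H6.Sym.symMapApp_surjective u U hu y
  exact ⟨Groth.Agent.H6.Sym.liftSec E A j U x, Groth.Agent.H6.Sym.liftSec_comp u j k ψ hψ U x⟩

end Groth.Agent.S8268
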