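import Groth.Statements.S8269
import Groth.Agent.Lib.Helper6.SymU
import Groth.Agent.Lib.Helper6.QCLoc
import Groth.Agent.Lib.Helper6.Canon

set_option autoImplicit false
universe u
open CategoryTheory CategoryTheory.Limits AlgebraicGeometry Opposite TopologicalSpace
open EGA2

namespace Groth.Agent.S8269

/-- Let Y be either a quasi-compact separated scheme or a scheme with Noetherian underlying space, and X
affine and of finite type over Y. Then X is Y-isomorphic to a closed subscheme of a vector bundle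
V(E) with E a quasi-coherent O_Y-module of finite type: there are such an E, its symmetric algebra
A, and a closed immersion X → Spec(A) over Y. -/
theorem result {X Y : Scheme.{u}}
    (hY : (CompactSpace Y ∧ Y.IsSeparated) ∨ NoetherianSpace Y) (f : X ⟶ Y) [IsAffineHom f]
    [LocallyOfFiniteType f] :
    ∃ (E : Y.Modules) (_ : Coh.IsCoh E) (A : RelSpec.QCAlg Y) (j : E ⟶ A.toModule)
      (_ : RelSpec.IsSymAlg E A j) (i : X ⟶ A.spec), IsClosedImmersion i ∧ i ≫ A.π = f := by
  haveI : CompactSpace Y := by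
    rcases hY with h | h
    · exact h.1
    · infer_instance
  haveI : QuasiSeparatedSpace Y := by
    rcases hY with h | h
    · haveI := h.2; infer_instance
    · exact ⟨fun U V _ _ _ _ => TopologicalSpace.NoetherianSpace.isCompact _⟩
  let B := RelSpec.QCAlg.directImage f
  have hB : ∀ U : Y.affineOpens, (B.str.app (op U.1)).hom.FiniteType := fun U => by
    have h := HasRingHomProperty.appLE (P := @LocallyOfFiniteType) f inferInstance
      ⟨U.1, U.2⟩ ⟨f ⁻¹ᵁ U.1, U.2.preimage f⟩ le_rfl
    rw [Scheme.Hom.appLE_eq_app] at h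
    exact h
  obtain ⟨E, j₀, hmono, hqc, hft, hgen⟩ := Groth.Agent.H6.QA.exists_generating_submodule B hB
  haveI := hqc
  haveI : IsClosedImmersion (RelSpec.QCAlg.specMap (Groth.Agent.H6.Sym.symLift E B j₀)) := by
    refine Groth.Agent.H6.QCLoc.specMap_of_forall_affine @IsClosedImmersion _ fun U hU => ?_
    apply IsClosedImmersion.spec_of_surjective
    have hle : Groth.Agent.H6.QA.gen j₀ U ≤ (Groth.Agent.H6.Sym.liftSec E B j₀ U).range := by
      refine Subring.closure_le.mpr ?_
      rintro x (⟨a, rfl⟩ | ⟨m, rfl⟩)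
      · exact ⟨algebraMap _ _ a, Groth.Agent.H6.Sym.liftSec_algebraMap E B j₀ U a⟩
      · exact ⟨SymmetricAlgebra.ι _ _ m, Groth.Agent.H6.Sym.liftSec_ι E B j₀ U m⟩
    intro b
    obtain ⟨y, rfl⟩ := hle (by rw [hgen ⟨U, hU⟩]; trivial : b ∈ Groth.Agent.H6.QA.gen j₀ U)
    refine ⟨Groth.Agent.H6.Sym.secInv E U hU y, ?_⟩
    rw [Groth.Agent.H6.Sym.symLift_app E B j₀ U hU, Groth.Agent.H6.Sym.secHom_secInv]
  refine ⟨E, ⟨hqc, hft⟩, Groth.Agent.H6.Sym.symAlg E, Groth.Agent.H6.Sym.symJ E,
    Groth.Agent.H6.Sym.isSymAlg E,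
    Groth.Agent.H6.Canon.canon f ≫ RelSpec.QCAlg.specMap (Groth.Agent.H6.Sym.symLift E B j₀),
    inferInstance, ?_⟩
  rw [Category.assoc, RelSpec.QCAlg.specMap_π, Groth.Agent.H6.Canon.canon_π]

end Groth.Agent.S8269
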