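import Groth.Statements.S4447


set_option autoImplicit false
universe u
open CategoryTheory CategoryTheory.Limits AlgebraicGeometry
open EGA2

namespace Groth.Agent.S4447

/-- Let p : X ⟶ Y be a morphism, x a point of X, y = p(x) and y' a specialization of y distinct from y.
Then there are a valuation ring A which is not a field, with field of fractions the residue field
k(x), and a morphism Spec A ⟶ Y mapping the closed point to y' and restricting on Spec k(x) to the
canonical morphism Spec k(x) ⟶ X ⟶ Y (in particular the generic point of Spec A goes to y). -/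
theorem result {X Y : Scheme.{u}} (p : X ⟶ Y) (x : X) (y' : Y)
    (hsp : p.base x ⤳ y') (hne : y' ≠ p.base x) :
    ∃ (A : ValuationSubring (X.residueField x)) (h : Spec (CommRingCat.of A) ⟶ Y), A ≠ ⊤ ∧
      h.base (IsLocalRing.closedPoint A) = y' ∧
      Spec.map (CommRingCat.ofHom A.subtype) ≫ h = X.fromSpecResidueField x ≫ p := by
  classical
  let φ : Y.presheaf.stalk y' ⟶ X.residueField x :=
    Y.presheaf.stalkSpecializes hsp ≫ p.stalkMap x ≫ X.residue x
  obtain ⟨A, hA, hA_local⟩ := IsLocalRing.exists_factor_valuationRing φ.hom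
  let ψ : Y.presheaf.stalk y' ⟶ .of A :=
    CommRingCat.ofHom (φ.hom.codRestrict _ hA)
  have w : X.fromSpecResidueField x ≫ p =
      Spec.map (CommRingCat.ofHom (algebraMap A (X.residueField x))) ≫
        Spec.map ψ ≫ Y.fromSpecStalk y' := by
    rw [Scheme.fromSpecResidueField, Category.assoc, ← Scheme.SpecMap_stalkMap_fromSpecStalk,
      ← Scheme.SpecMap_stalkSpecializes_fromSpecStalk hsp]
    simp_rw [← Spec.map_comp_assoc]
    rfl
  have hcl : (Spec.map ψ ≫ Y.fromSpecStalk y').base (IsLocalRing.closedPoint A) = y' := by
    simp only [Scheme.Hom.comp_base, TopCat.coe_comp, Function.comp_apply]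
    have : Spec.map ψ (IsLocalRing.closedPoint A) = IsLocalRing.closedPoint (Y.presheaf.stalk y') :=
      IsLocalRing.comap_closedPoint (S := A) (φ.hom.codRestrict A.toSubring hA)
    rw [this, Y.fromSpecStalk_closedPoint]
  refine ⟨A, Spec.map ψ ≫ Y.fromSpecStalk y', ?_, hcl, w.symm⟩
  intro hAtop
  apply hne
  -- the maximal ideal of `A` is zero
  have hmax : IsLocalRing.maximalIdeal A = ⊥ := by
    rw [eq_bot_iff]
    intro a ha
    rw [Ideal.mem_bot]
    by_contra ha0
    have ha0' : (a : X.residueField x) ≠ 0 := fun h => ha0 (Subtype.ext h)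
    have hinv : (a : X.residueField x)⁻¹ ∈ A := by
      have : ∀ z : X.residueField x, z ∈ A := fun z => by rw [hAtop]; trivial
      exact this _
    have hu : IsUnit a := by
      refine IsUnit.of_mul_eq_one ⟨_, hinv⟩ ?_
      apply Subtype.ext
      change (a : X.residueField x) * (a : X.residueField x)⁻¹ = 1
      exact mul_inv_cancel₀ ha0'
    exact (IsLocalRing.mem_maximalIdeal _).1 ha hu
  -- so the image of the point of `Spec κ(x)` in `Spec A` is the closed point
  have hpt : Spec.map (CommRingCat.ofHom (algebraMap A (X.residueField x)))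
      (IsLocalRing.closedPoint (X.residueField x)) = IsLocalRing.closedPoint A := by
    apply PrimeSpectrum.ext
    change Ideal.comap _ _ = IsLocalRing.maximalIdeal A
    rw [hmax, eq_bot_iff]
    intro a ha
    rw [Ideal.mem_comap] at ha
    have h0 : algebraMap A (X.residueField x) a = 0 := by
      have := (IsLocalRing.mem_maximalIdeal _).1 ha
      simpa using this
    rw [Ideal.mem_bot]
    exact Subtype.ext h0
  have e1 := congrArg (fun g => g.base (IsLocalRing.closedPoint (X.residueField x))) w
  simp only [Scheme.Hom.comp_base, TopCat.coe_comp, Function.comp_apply] at e1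
  rw [Scheme.fromSpecResidueField_apply, hpt] at e1
  simp only [Scheme.Hom.comp_base, TopCat.coe_comp, Function.comp_apply] at hcl
  rw [hcl] at e1
  exact e1.symm

end Groth.Agent.S4447
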