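import Groth.Statements.S9753
import Groth.Agent.Lib.Helper8.Brnch.EtaleCountSch

set_option autoImplicit false
universe u
open Brnch

namespace Groth.Agent.S9753

open AlgebraicGeometry CategoryTheory Limits in
/-- Let X be a scheme and x ∈ X. Over all étale neighbourhoods (U, u) of (X, x) (g : U ⟶ X étale with g
u = x), take the count (in ℕ∞) of irreducible components of U containing u; the supremum of these
counts is the geometric branch number of X at x. -/
theorem result (X : Scheme.{u}) (x : X) :
    Brnch.numGeomBranchesAt X x = ⨆ (U : Scheme.{u}) (g : U ⟶ X) (u : U) (_ : Etale g ∧ g u = x),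
      {Z : Set ↑U | Z ∈ irreducibleComponents ↑U ∧ u ∈ Z}.encard := by
  apply le_antisymm
  · rw [← ENat.forall_natCast_le_iff_le]
    intro n hn
    obtain ⟨V, hV, hxV⟩ : ∃ V : X.Opens, IsAffineOpen V ∧ x ∈ V := by
      obtain ⟨_, ⟨V, hV, rfl⟩, hxV, -⟩ :=
        X.isBasis_affineOpens.exists_subset_of_mem_open (Set.mem_univ x) isOpen_univ
      exact ⟨V, hV, hxV⟩
    let p := (hV.primeIdealOf ⟨x, hxV⟩).asIdeal
    let _ := X.presheaf.algebra_section_stalk ⟨x, hxV⟩
    have h1 : IsLocalization.AtPrime (X.presheaf.stalk x) p := hV.isLocalization_stalk ⟨x, hxV⟩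
    obtain ⟨C, _, _, _, q', _, hq', hle⟩ :=
      Groth.Agent.H8.Brnch.exists_etale_le_encard_of_le_numGeomBranches Γ(X, V) p
        (X.presheaf.stalk x) n hn
    let U : Scheme.{u} := Spec (CommRingCat.of C)
    let g : U ⟶ X := Spec.map (CommRingCat.ofHom (algebraMap Γ(X, V) C)) ≫ hV.fromSpec
    have hf : Etale (Spec.map (CommRingCat.ofHom (algebraMap Γ(X, V) C))) := by
      rw [HasRingHomProperty.Spec_iff (P := @Etale)]
      exact (RingHom.etale_algebraMap).mpr inferInstance
    have hg : Etale g := inferInstance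
    let u : U := ⟨q', inferInstance⟩
    have hgu : g u = x := by
      show hV.fromSpec ((Spec.map (CommRingCat.ofHom (algebraMap Γ(X, V) C))) u) = x
      have : (Spec.map (CommRingCat.ofHom (algebraMap Γ(X, V) C))) u = hV.primeIdealOf ⟨x, hxV⟩ := by
        apply PrimeSpectrum.ext
        exact hq'
      rw [this]
      exact hV.fromSpec_primeIdealOf ⟨x, hxV⟩
    refine le_trans hle (le_trans (Groth.Agent.H8.Brnch.encard_minimalPrimes_le_components C q') ?_)
    exact le_iSup_of_le U (le_iSup_of_le g (le_iSup_of_le u (le_iSup_of_le ⟨hg, hgu⟩ le_rfl)))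
  · refine iSup_le fun U => iSup_le fun g => iSup_le fun u => iSup_le fun h => ?_
    obtain ⟨hg, hgu⟩ := h
    subst hgu
    rw [Groth.Agent.H8.Brnch.encard_components_eq,
      ← Groth.Agent.H8.Brnch.numGeomBranchesAt_eq_of_etale g u]
    exact Groth.Agent.H8.Brnch.card_minimalPrimes_le_numGeomBranches _

end Groth.Agent.S9753
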