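import Groth.Statements.S10678
import Mathlib
import Groth.Agent.Lib.Helper1.AlgSpFibDim

set_option autoImplicit false
universe u
open CategoryTheory CategoryTheory.Limits AlgebraicGeometry
open AlgSp

namespace Groth.Agent.S10678

/-- For a morphism f : X ⟶ Y of finite type between algebraic spaces over S, a point y of |Y| and any
field point k of Y in the class of y, with fibre X_k (pullback in fppf sheaves): the dimension of
X_k (supremum of the dimensions of its etale scheme charts) is -∞ exactly when y lies outside the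
image of |X|, and for every natural number d it is at most d exactly when f has relative dimension
at most d at every point of |X| over y (some etale chart diagram through the point whose top arrow
has local fibre dimension at most d there). -/
theorem result {S : Scheme.{u}} {X Y : AlgSp.Space S} (f : X ⟶ Y) (hf : AlgSp.IsFiniteTypeMor f.hom)
    (y : AlgSp.Points Y.obj) (k : AlgSp.FieldPt Y.obj) (hk : AlgSp.Points.mk k = y)
    (Xk : AlgSp.Sp S) (fst : Xk ⟶ X.obj) (snd : Xk ⟶ (AlgSp.yon S).obj k.pt) (h : IsPullback fst snd f.hom k.toHom) :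
    (AlgSp.dim Xk = ⊥ ↔ y ∉ Set.range (AlgSp.Points.map f.hom)) ∧
      ∀ d : ℕ, (AlgSp.dim Xk ≤ d ↔
        ∀ x : AlgSp.Points X.obj, AlgSp.Points.map f.hom x = y →
          AlgSp.HasAtMor (fun _ _ h u => FlatMor.fibreDimAt h u ≤ (d : WithBot ℕ∞)) f.hom x) := by
  have hXk : AlgSp.IsAlgSpace Xk :=
    Groth.Agent.H5.AlgSp.isAlgSpace_pullback Y.property.diag X.property (AlgSp.IsAlgSpace.yon_obj _) h
  -- points of the fibre
  have hpts : ∀ x : AlgSp.Points X.obj, AlgSp.Points.map f.hom x = y →
      ∃ z : AlgSp.Points Xk, AlgSp.Points.map fst z = x := by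
    intro x hx
    obtain ⟨z, hz, -⟩ := Groth.Agent.H5.AlgSp.points_pullback_surjective h x
      (AlgSp.Points.ofScheme k.pt (IsLocalRing.closedPoint k.K))
      (by rw [← AlgSp.Points.ofPt_eq_map_ofScheme, AlgSp.Points.ofPt_toHom, hx, hk])
    exact ⟨z, hz⟩
  have hover : ∀ z : AlgSp.Points Xk, AlgSp.Points.map f.hom (AlgSp.Points.map fst z) = y := by
    intro z
    rw [← AlgSp.Points.map_comp, h.w, AlgSp.Points.map_comp,
      ← AlgSp.Points.ofScheme_toScheme k.pt (AlgSp.Points.map snd z),
      ← AlgSp.Points.ofPt_eq_map_ofScheme, AlgSp.Points.ofPt_toHom, hk]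
  refine ⟨?_, fun d => ?_⟩
  · rw [Groth.Agent.H1.AlgSpDim.dim_eq_bot_iff hXk]
    constructor
    · rintro he ⟨x, hx⟩
      obtain ⟨z, -⟩ := hpts x hx
      exact he.false z
    · intro hy
      exact ⟨fun z => hy ⟨_, hover z⟩⟩
  · rw [Groth.Agent.H1.AlgSpDim.dim_le_iff hXk]
    have key : ∀ z : AlgSp.Points Xk,
        AlgSp.HasAt (fun U u => FlatMor.localDim ↥U u ≤ (d : WithBot ℕ∞)) Xk z ↔
        AlgSp.HasAtMor (fun _ _ h u => FlatMor.fibreDimAt h u ≤ (d : WithBot ℕ∞)) f.hom
          (AlgSp.Points.map fst z) := by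
      intro z
      rw [Groth.Agent.H1.AlgSpDim.hasAt_localDim_iff_hasAtMor_field
        (fun e => e ≤ (d : WithBot ℕ∞)) snd z]
      exact Groth.Agent.H1.AlgSpDim.hasAtMor_base_change
        (Groth.Agent.H1.AlgSpDim.etLocal_fibreDimAt_pred (fun e => e ≤ (d : WithBot ℕ∞)))
        (Groth.Agent.H1.AlgSpDim.bcLocal_fibreDimAt_pred (fun e => e ≤ (d : WithBot ℕ∞)))
        X.property Y.property (AlgSp.IsAlgSpace.yon_obj _) h hf.1 z
    constructor
    · intro hz x hx
      obtain ⟨z, rfl⟩ := hpts x hx
      exact (key z).1 (hz z)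
    · intro hx z
      exact (key z).2 (hx _ (hover z))

end Groth.Agent.S10678
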