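import Groth.Statements.S10122
import Groth.Agent.Lib.Helper8.AlgSp.Gpd
import Groth.Agent.Lib.Helper5.AlgSp.RelDiag
import Groth.Agent.Lib.Helper5.AlgSp.QCompact
import Groth.Agent.Lib.Helper5.AlgSp.SepMor
-- import your own Groth.Agent.* helpers here

set_option autoImplicit false
universe u
open CategoryTheory CategoryTheory.Limits AlgebraicGeometry
open AlgSp AlgSp.GroupoidSp

namespace Groth.Agent.S10122

/-- Let `(U, R, s, t, c)` be a groupoid in algebraic spaces over `B` with stabilizer `G ⟶ U` and unit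
section `e : U ⟶ G`. Then (1) `j : R ⟶ U ×_B U` is separated iff `G ⟶ U` is separated iff `e` is a
closed immersion; (3) `j` is quasi-separated iff `G ⟶ U` is quasi-separated iff `e` is
quasi-compact; (2) if `j` or `G ⟶ U` is locally separated then `e` is an immersion. The unit section
is written as any morphism `U ⟶ G` lifting the identity `e : U ⟶ R` of the groupoid. (The published
part (2) is a three-way equivalence; this row states only that `j` locally separated, or `G ⟶ U`
locally separated, implies that `e` is an immersion.) -/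
theorem result (S : Scheme.{u}) (B : AlgSp.Sp S) (hB : AlgSp.IsAlgSpace B)
    (G : AlgSp.GroupoidSp B) (hU : AlgSp.IsAlgSpace G.U) (hR : AlgSp.IsAlgSpace G.R)
    (eG : G.U ⟶ G.stabilizer) (heG : eG ≫ G.stabilizerι = G.e) :
    ((AlgSp.IsSeparatedMor G.j ↔ AlgSp.IsSeparatedMor G.stabilizerToU) ∧
        (AlgSp.IsSeparatedMor G.j ↔ AlgSp.RepWith @IsClosedImmersion eG)) ∧
      ((AlgSp.IsQuasiSeparatedMor G.j ↔ AlgSp.IsQuasiSeparatedMor G.stabilizerToU) ∧
        (AlgSp.IsQuasiSeparatedMor G.j ↔ AlgSp.IsQuasiCompactMor eG)) ∧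
      ((AlgSp.IsLocallySeparatedMor G.j → AlgSp.RepWith @IsImmersion eG) ∧
        (AlgSp.IsLocallySeparatedMor G.stabilizerToU → AlgSp.RepWith @IsImmersion eG)) := by
  open Groth.Agent.H8.AlgSp Groth.Agent.H5.AlgSp in
  obtain ⟨d, sq3⟩ := GroupoidSp.exists_isPullback_diag_j G eG heG
  have heU := GroupoidSp.unit_stabilizerToU G eG heG
  have sq1 : IsPullback G.stabilizerι G.stabilizerToU G.j G.diag := IsPullback.of_hasPullback G.j G.diag
  have k1 : ∀ P : MorphismProperty Scheme.{u}, AlgSp.RepWith P (pullback.diagonal G.j) →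
      AlgSp.RepWith P (pullback.diagonal G.stabilizerToU) := fun P h => repWith_diag_of_isPullback sq1 h
  have k2 : ∀ P : MorphismProperty Scheme.{u}, AlgSp.RepWith P (pullback.diagonal G.stabilizerToU) →
      AlgSp.RepWith P eG := fun P h => repWith_section_of_diag heU h
  have k3 : ∀ P : MorphismProperty Scheme.{u}, AlgSp.RepWith P eG →
      AlgSp.RepWith P (pullback.diagonal G.j) := fun P h =>
    MorphismProperty.of_isPullback (P := AlgSp.RepWith P) sq3.flip h
  have hrepΔ : AlgSp.RepWith (⊤ : MorphismProperty Scheme.{u}) (pullback.diagonal G.j) :=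
    ⟨(repWith_relDiag_of_isAlgSpace hR G.j).1, fun _ _ _ _ _ _ => trivial⟩
  have hrepe : AlgSp.Representable eG := (k2 _ (k1 _ hrepΔ)).rep
  have hqc := repWith_quasiCompact_iff hrepe
  refine ⟨⟨⟨k1 _, fun h => k3 _ (k2 _ h)⟩, ⟨fun h => k2 _ (k1 _ h), k3 _⟩⟩,
    ⟨⟨k1 _, fun h => k3 _ (k2 _ h)⟩, ⟨fun h => hqc.mp (k2 _ (k1 _ h)), fun h => k3 _ (hqc.mpr h)⟩⟩,
    ⟨fun h => k2 _ (k1 _ h), k2 _⟩⟩

end Groth.Agent.S10122
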