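import Groth.Statements.S8863
import Mathlib
import Groth.Agent.H4.RegSec
import Groth.Agent.Lib.Lead.QC.LocFree

set_option autoImplicit false
universe u
open CategoryTheory CategoryTheory.Limits AlgebraicGeometry TopologicalSpace
open SDiv

namespace Groth.Agent.S8863

open Groth.Agent.LD.QC Groth.Agent.H4.RegSec

/-- Let X be a locally Noetherian scheme and x a point of X. Then the monoid S_x of germs at x of
regular sections of O_X (sections whose germ at every point of their open of definition is a
nonzerodivisor) is the whole monoid of nonzerodivisors of O_{X,x}; consequently K_{X,x} is the total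
ring of fractions of O_{X,x}. -/
theorem result (X : Scheme.{u}) [IsLocallyNoetherian X] (x : ↥X) :
    Mero.regStalk X x = nonZeroDivisors ↑(X.presheaf.stalk x) := by
  apply le_antisymm (Mero.regStalk_le_nonZeroDivisors x)
  intro g hg
  obtain ⟨V, hxV, f, rfl⟩ := X.presheaf.exists_germ_eq g
  obtain ⟨U, hU, hxU, hUV⟩ := exists_isAffineOpen_mem_and_subset (x := x) (U := V) hxV
  let a : Γ(X, U) := X.presheaf.map (homOfLE hUV).op f
  have ha : X.presheaf.germ U x hxU a = X.presheaf.germ V x hxV f :=
    TopCat.Presheaf.germ_res_apply _ _ _ _ _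
  haveI : IsNoetherianRing Γ(X, U) := IsLocallyNoetherian.component_noetherian ⟨U, hU⟩
  letI : Algebra Γ(X, U) (X.presheaf.stalk x) :=
    TopCat.Presheaf.algebra_section_stalk X.presheaf ⟨x, hxU⟩
  haveI := hU.isLocalization_stalk ⟨x, hxU⟩
  have hg' : algebraMap Γ(X, U) (X.presheaf.stalk x) a ∈ nonZeroDivisors (X.presheaf.stalk x) := by
    change X.presheaf.germ U x hxU a ∈ _
    rw [ha]; exact hg
  obtain ⟨t, htp, ht⟩ := exists_notMem_forall_mem_nonZeroDivisors.{u, u, u} a
    (hU.primeIdealOf ⟨x, hxU⟩).asIdeal (X.presheaf.stalk x) hg'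
  have hxt : x ∈ X.basicOpen t := mem_basicOpen_of_mem_primeCompl hU x hxU t htp
  refine ⟨X.basicOpen t, hxt, X.presheaf.map (homOfLE (X.basicOpen_le t)).op a, ?_, ?_⟩
  · intro y
    have hyU : y.1 ∈ U := X.basicOpen_le t y.2
    letI : Algebra Γ(X, U) (X.presheaf.stalk y.1) :=
      TopCat.Presheaf.algebra_section_stalk X.presheaf ⟨y.1, hyU⟩
    haveI := hU.isLocalization_stalk ⟨y.1, hyU⟩
    have h1 := ht (hU.primeIdealOf ⟨y.1, hyU⟩).asIdeal (X.presheaf.stalk y.1)
      (mem_primeCompl_of_mem_basicOpen hU y.1 hyU t y.2)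
    rw [TopCat.Presheaf.germ_res_apply]
    exact h1
  · rw [TopCat.Presheaf.germ_res_apply]
    exact ha


end Groth.Agent.S8863
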