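import Groth.Statements.S12604
import Groth.Agent.Lib.Helper5.SV.StrongCount

set_option autoImplicit false
open FunFld

namespace Groth.Agent.S12604

/-- Over an algebraically closed constant field, let `τ` be a `k`-endomorphism of the function field `K`
of genus `g`, of degree `deg τ = [K : τ(K)]`, and `φ = (φ₀, …, φₙ)` a projective map such that
`τ(φ)` is not a `K`-multiple of `φ`, with `τ`-orders `j₁, …, jₙ`. Then the number `N` of strong
fixed points of `τ` (places whose maximal ideal `τ` maps into its square) is finite and `n N ≤ (n +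
deg τ) deg φ + (2g - 2)(j₁ + ⋯ + jₙ)`, i.e. `N ≤ (1/n) deg W(φ, τ)`. -/
theorem result
    (k K : Type*) [Field k] [IsAlgClosed k] [Field K] [Algebra k K]
    (hK : FunFld.IsFunctionField k K) (τ : K →ₐ[k] K) {n : ℕ} (φ : Fin (n + 1) → K) (hφ : LinearIndependent k φ)
    (hτφ : ¬ ∃ y : K, ∀ i, τ (φ i) = y * φ i) (s : K) (H : K →ₐ[k] PowerSeries K) (hH : LocRes.IsHasseFamily s H)
    (J : Fin n → ℕ) (hJ : FunFld.IsOrders K (FunFld.hcol τ H φ) J) :
    {P : FunFld.Place k K | FunFld.IsStrongFixedPt τ P}.Finite ∧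
    (n : ℤ) * (Set.ncard {P : FunFld.Place k K | FunFld.IsStrongFixedPt τ P} : ℤ) ≤
      ((n : ℤ) + Module.finrank τ.fieldRange K) * (FunFld.mapDiv k φ).deg +
        (2 * (FunFld.genus k K : ℤ) - 2) * ∑ l, (J l : ℤ) := by
  classical
  have hn : 0 < n := by
    rcases Nat.eq_zero_or_pos n with h0 | h
    · exfalso
      subst h0
      apply hτφ
      refine ⟨τ (φ 0) / φ 0, fun i => ?_⟩
      have hi : i = 0 := Fin.ext (by omega)
      rw [hi, div_mul_cancel₀ _ (hφ.ne_zero 0)]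
    · exact h
  obtain ⟨Φ, hΦ⟩ := FunFld.SV.exists_expansion_family hK
  set W := FunFld.wDiv τ H Φ s φ J with hW
  have hW0 : 0 ≤ W := FunFld.SV.wDiv_nonneg hK φ hφ τ s H hH J hJ Φ hΦ
  have hdeg : W.deg = ((n : ℤ) + Module.finrank τ.fieldRange K) * (FunFld.mapDiv k φ).deg +
      (2 * (FunFld.genus k K : ℤ) - 2) * ∑ l, (J l : ℤ) := by
    rw [hW]
    unfold FunFld.wDiv
    rw [FunFld.Divisor.deg_add, FunFld.Divisor.deg_add, FunFld.Divisor.deg_add,
      FunFld.Divisor.deg_zsmul, FunFld.Divisor.deg_zsmul, FunFld.deg_div hK,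
      FunFld.deg_mapDiv_comp_algHom hK τ φ, FunFld.SV.deg_divDiff hK hH hΦ]
    ring
  have hle : ∀ P : FunFld.Place k K, FunFld.IsStrongFixedPt τ P → (n : ℤ) ≤ W P := fun P hP =>
    FunFld.SV.le_wDiv_of_strongFixedPt hK τ hn φ hφ s H hH J hJ Φ hΦ P hP
  have hsub : {P : FunFld.Place k K | FunFld.IsStrongFixedPt τ P} ⊆ ↑W.support := by
    intro P hP
    rw [Finset.mem_coe, Finsupp.mem_support_iff]
    have := hle P hP
    have hn' : (0 : ℤ) < n := by exact_mod_cast hn
    omega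
  have hfin : {P : FunFld.Place k K | FunFld.IsStrongFixedPt τ P}.Finite :=
    W.support.finite_toSet.subset hsub
  refine ⟨hfin, ?_⟩
  rw [← hdeg, FunFld.Divisor.deg_eq_sum]
  have hdeg1 : ∀ P : FunFld.Place k K, (P.deg : ℤ) = 1 := fun P => by
    rw [FunFld.Place.deg_eq_one_of_isAlgClosed hK P]; rfl
  simp only [hdeg1, mul_one]
  rw [Set.ncard_eq_toFinset_card _ hfin]
  have hsub' : hfin.toFinset ⊆ W.support := by
    intro P hP
    rw [Set.Finite.mem_toFinset] at hP
    exact_mod_cast hsub hP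
  calc (n : ℤ) * (hfin.toFinset.card : ℤ) = ∑ _P ∈ hfin.toFinset, (n : ℤ) := by
        rw [Finset.sum_const, nsmul_eq_mul, mul_comm]
    _ ≤ ∑ P ∈ hfin.toFinset, W P := Finset.sum_le_sum fun P hP => by
        rw [Set.Finite.mem_toFinset] at hP
        exact hle P hP
    _ ≤ ∑ P ∈ W.support, W P :=
        Finset.sum_le_sum_of_subset_of_nonneg hsub' fun P _ _ => hW0 P

end Groth.Agent.S12604
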