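import Groth.Statements.S8872
import Mathlib
import Groth.Agent.H4.FittSheaf
import Groth.Agent.Lib.Lead.QC.IdealComap

set_option autoImplicit false
universe u
open CategoryTheory CategoryTheory.Limits AlgebraicGeometry TopologicalSpace
open SDiv

namespace Groth.Agent.S8872

open Groth.Agent.H4.Fitting Groth.Agent.H4.FittSheaf Groth.Agent.LD.QC

/-- Let f : T ⟶ S be a morphism of schemes and F a quasi-coherent O_S-module of finite type. Then for
every i the inverse image ideal sheaf on T of the i-th Fitting ideal of F is the i-th Fitting ideal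
of f^*F. -/
theorem result {T S : Scheme.{u}} (f : T ⟶ S) (F : S.Modules) (hF : Coh.IsQCoh F) (hft : CohB1.IsFT F)
    (i : ℕ) : (Fitt.sheafIdeal F i).comap f = Fitt.sheafIdeal ((Scheme.Modules.pullback f).obj F) i := by
  haveI : F.IsQuasicoherent := hF
  have hft' : F.IsFiniteType := hft
  haveI := qc_pullback f F
  have hft2 := isFiniteType_pullback f F hft'
  let ι := {V : T.affineOpens // ∃ U : S.affineOpens, V.1 ≤ f ⁻¹ᵁ U.1}
  refine Scheme.IdealSheafData.ext_of_iSup_eq_top (ι := ι) (fun V => V.1) ?_ ?_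
  · rw [eq_top_iff]
    intro x _
    obtain ⟨V, U, hV, hU, hxV, e⟩ := exists_affine_nhds_le_preimage f x
    exact Opens.mem_iSup.mpr ⟨⟨⟨V, hV⟩, ⟨U, hU⟩, e⟩, hxV⟩
  · rintro ⟨V, U, e⟩
    change ((Fitt.sheafIdeal F i).comap f).ideal V =
      (Fitt.sheafIdeal ((Scheme.Modules.pullback f).obj F) i).ideal V
    rw [ideal_comap_of_le _ f U V e, sheafIdeal_ideal F hft' i U, sheafIdeal_ideal _ hft2 i V]
    letI : Algebra Γ(S, U.1) Γ(T, V.1) := (f.appLE U.1 V.1 e).hom.toAlgebra
    haveI : Module.Finite Γ(S, U.1) Γ(F, U.1) := finite_sections_of_isFiniteType F hft' U.2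
    obtain ⟨eq⟩ := exists_pullback_sections_equiv f V.2 U.2 e F
    rw [ideal_congr i eq, ideal_baseChange]
    rfl


end Groth.Agent.S8872
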