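import Groth.Statements.S8874
import Mathlib
import Groth.Agent.H4.GenSec

set_option autoImplicit false
universe u
open CategoryTheory CategoryTheory.Limits AlgebraicGeometry TopologicalSpace
open SDiv

namespace Groth.Agent.S8874

open Groth.Agent.H4.Fitting Groth.Agent.H4.FittSheaf Groth.Agent.LD.QC Groth.Agent.H4.GenSec

lemma mem_support_iff_le {S : Scheme.{u}} (I : S.IdealSheafData) {U : S.Opens} (hU : IsAffineOpen U)
    (s : S) (hs : s ∈ U) :
    s ∈ I.support ↔ I.ideal ⟨U, hU⟩ ≤ (hU.primeIdealOf ⟨s, hs⟩).asIdeal := by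
  rw [Scheme.IdealSheafData.mem_support_iff_of_mem (U := ⟨U, hU⟩) hs, Scheme.mem_zeroLocus_iff]
  constructor
  · intro h f hf
    by_contra hc
    exact h f hf (mem_basicOpen_of_mem_primeCompl hU s hs f hc)
  · intro h f hf hsf
    exact mem_primeCompl_of_mem_basicOpen hU s hs f hsf (h hf)

/-- Let S be a scheme, F a quasi-coherent O_S-module of finite type, s a point of S and r a natural
number. Then F can be generated by r sections over some open neighbourhood of s if and only if the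
r-th Fitting ideal of F is the unit ideal at s, i.e. s does not lie in the closed subset cut out by
Fit_r(F). -/
theorem result (S : Scheme.{u}) (F : S.Modules) (hF : Coh.IsQCoh F) (hft : CohB1.IsFT F)
    (s : ↥S) (r : ℕ) :
    (∃ U : S.Opens, s ∈ U ∧ ∃ π : FlatMod.freeMod (↑U) r ⟶ F.restrict U.ι, Epi π) ↔
      s ∉ (Fitt.sheafIdeal F r).support := by
  haveI : F.IsQuasicoherent := hF
  have hft' : F.IsFiniteType := hft
  constructor
  · rintro ⟨U, hsU, π, hπ⟩
    obtain ⟨V, hV, hsV, -⟩ := exists_isAffineOpen_mem_and_subset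
      (X := (U : Scheme.{u})) (x := ⟨s, hsU⟩) (U := ⊤) trivial
    have hW : IsAffineOpen (U.ι ''ᵁ V) := hV.image_of_isOpenImmersion U.ι
    have hsW : s ∈ U.ι ''ᵁ V := ⟨⟨s, hsU⟩, hsV, rfl⟩
    rw [mem_support_iff_le _ hW s hsW, sheafIdeal_ideal F hft' r ⟨_, hW⟩]
    have h1 := span_eq_top_of_epi π hV
    have h2 : Submodule.span Γ(S, U.ι ''ᵁ V) (Set.range fun j : Fin r =>
        (show Γ(F, U.ι ''ᵁ V) from (Sigma.ι (fun _ : Fin r => unitMod (U : Scheme.{u})) j ≫ π).app V
          (1 : Γ((U : Scheme.{u}), V)))) = ⊤ :=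
      letI : Module Γ(S, U.ι ''ᵁ V) Γ(F.restrict U.ι, V) :=
        inferInstanceAs (Module Γ(S, U.ι ''ᵁ V) Γ(F, U.ι ''ᵁ V))
      span_eq_top_of_compat (A := Γ((U : Scheme.{u}), V)) (B := Γ(S, U.ι ''ᵁ V))
        (M := Γ(F.restrict U.ι, V)) (fun b => (U.ι.appIso V).inv.hom b) (fun a m => rfl) _ h1
    rw [ideal_eq_top_of_span _ h2 (by simp)]
    intro h
    exact (hW.primeIdealOf ⟨s, hsW⟩).2.ne_top (top_le_iff.mp h)
  · intro hs
    obtain ⟨U, hU, hxU, -⟩ := exists_isAffineOpen_mem_and_subset (x := s) (U := ⊤) trivial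
    haveI : Module.Finite Γ(S, U) Γ(F, U) := finite_sections_of_isFiniteType F hft' hU
    have hr : ¬ Fitt.ideal Γ(S, U) Γ(F, U) r ≤ (hU.primeIdealOf ⟨s, hxU⟩).asIdeal := by
      rw [← sheafIdeal_ideal F hft' r ⟨U, hU⟩, ← mem_support_iff_le _ hU s hxU]
      exact hs
    obtain ⟨n, y, a, T, hy, hT, hrel, hdet⟩ := exists_data_of_not_le r _ hr
    have hxf : s ∈ S.basicOpen a.det := mem_basicOpen_of_mem_primeCompl hU s hxU a.det hdet
    letI : Algebra Γ(S, U) Γ(S, S.basicOpen a.det) := resAlgebra (S.basicOpen_le a.det)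
    letI : Module Γ(S, U) Γ(F, S.basicOpen a.det) := resModule F (S.basicOpen_le a.det)
    haveI : IsScalarTower Γ(S, U) Γ(S, S.basicOpen a.det) Γ(F, S.basicOpen a.det) :=
      resModule_isScalarTower F (S.basicOpen_le a.det)
    haveI : IsLocalization.Away a.det Γ(S, S.basicOpen a.det) := hU.isLocalization_basicOpen a.det
    haveI : IsLocalizedModule.Away a.det (resLinear F (S.basicOpen_le a.det)) :=
      isLocalizedModule_basicOpen F hU a.det
    obtain ⟨g, hg⟩ := exists_gen_of_localization (A' := Γ(S, S.basicOpen a.det)) y a T hy hT hrel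
      (Submonoid.powers a.det) (resLinear F (S.basicOpen_le a.det))
      (IsLocalization.Away.algebraMap_isUnit a.det)
    obtain ⟨D, hD⟩ : ∃ D : S.Opens, D = S.basicOpen a.det := ⟨_, rfl⟩
    have hDaff : IsAffineOpen D := hD ▸ hU.basicOpen a.det
    haveI : IsAffine (D : Scheme.{u}) := hDaff
    have hsD : s ∈ D := hD ▸ hxf
    have hg' : ∃ g : Fin r → Γ(F, D), Submodule.span Γ(S, D) (Set.range g) = ⊤ := by
      subst hD; exact ⟨g, hg⟩
    clear hg g
    obtain ⟨g, hg⟩ := hg'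
    clear hD
    refine ⟨D, hsD, ?_⟩
    have htop : D.ι ''ᵁ ⊤ = D := D.ι_image_top
    let t : Fin r → Γ(F.restrict D.ι, ⊤) := fun i => F.presheaf.map (homOfLE htop.le).op (g i)
    have h1 : Submodule.span Γ(S, D.ι ''ᵁ ⊤) (Set.range fun i =>
        F.presheaf.map (homOfLE htop.le).op (g i)) = ⊤ := span_res_eq_top_of_eq F htop g hg
    have h2 : Submodule.span Γ((D : Scheme.{u}), ⊤) (Set.range t) = ⊤ := by
      letI : Module Γ(S, D.ι ''ᵁ ⊤) Γ(F.restrict D.ι, ⊤) :=
        inferInstanceAs (Module Γ(S, D.ι ''ᵁ ⊤) Γ(F, D.ι ''ᵁ ⊤))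
      refine span_eq_top_of_compat (A := Γ(S, D.ι ''ᵁ ⊤)) (B := Γ((D : Scheme.{u}), ⊤))
        (M := Γ(F.restrict D.ι, ⊤)) (fun b => (D.ι.appIso ⊤).hom.hom b) (fun a m => ?_) _ h1
      change a • m = (show Γ(S, D.ι ''ᵁ ⊤) from
        (D.ι.appIso ⊤).inv.hom ((D.ι.appIso ⊤).hom.hom a)) • m
      congr 1
      exact (congrArg (fun φ => φ.hom a) (D.ι.appIso ⊤).hom_inv_id).symm
    exact ⟨homOfSections (F.restrict D.ι) t, epi_homOfSections_of_isAffine _ t h2⟩


end Groth.Agent.S8874
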