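import Groth.Statements.S8875
import Mathlib
import Groth.Agent.H4.FittSheaf2
import Groth.Agent.H4.Fitting6

set_option autoImplicit false
universe u
open CategoryTheory CategoryTheory.Limits AlgebraicGeometry TopologicalSpace
open SDiv

namespace Groth.Agent.S8875

open Groth.Agent.H4.Fitting Groth.Agent.H4.FittSheaf Groth.Agent.LD.QC

/-- (1) ⇔ (3): let S be a scheme, F a quasi-coherent O_S-module of finite type and r ≥ 0. Then F is
finite locally free of rank r if and only if Fit_k(F) = 0 for every k < r and Fit_k(F) = O_S for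
every k ≥ r. -/
theorem result (S : Scheme.{u}) (F : S.Modules) (hF : Coh.IsQCoh F) (hft : CohB1.IsFT F)
    (r : ℕ) :
    FlatMod.IsFinLocFreeOfRank r F ↔
      (∀ k : ℕ, k < r → Fitt.sheafIdeal F k = ⊥) ∧ (∀ k : ℕ, r ≤ k → Fitt.sheafIdeal F k = ⊤) := by
  haveI : F.IsQuasicoherent := hF
  have hft' : F.IsFiniteType := hft
  rw [isFinLocFreeOfRank_iff]
  constructor
  · intro h
    choose U hU hxU hℓ using h
    have hcov : ⨆ x, (U x) = ⊤ := by
      rw [eq_top_iff]
      intro x _
      exact Opens.mem_iSup.mpr ⟨x, hxU x⟩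
    refine ⟨fun k hk => ?_, fun k hk => ?_⟩
    · refine Scheme.IdealSheafData.ext_of_iSup_eq_top (fun x => ⟨U x, hU x⟩) hcov (fun x => ?_)
      rw [sheafIdeal_ideal F hft' k]
      obtain ⟨ℓ⟩ := hℓ x
      let b : Module.Basis (Fin r) Γ(S, U x) Γ(F, U x) := Module.Basis.ofEquivFun ℓ
      rw [ideal_eq_bot_of_basis b (by simpa using hk)]
      rfl
    · refine Scheme.IdealSheafData.ext_of_iSup_eq_top (fun x => ⟨U x, hU x⟩) hcov (fun x => ?_)
      rw [sheafIdeal_ideal F hft' k]
      obtain ⟨ℓ⟩ := hℓ x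
      let b : Module.Basis (Fin r) Γ(S, U x) Γ(F, U x) := Module.Basis.ofEquivFun ℓ
      rw [ideal_eq_top_of_span b b.span_eq (by simpa using hk)]
      rfl
  · rintro ⟨h1, h2⟩ x
    obtain ⟨U, hU, hxU, -⟩ := exists_isAffineOpen_mem_and_subset (x := x) (U := ⊤) trivial
    haveI : Module.Finite Γ(S, U) Γ(F, U) := finite_sections_of_isFiniteType F hft' hU
    have hr : ¬ Fitt.ideal Γ(S, U) Γ(F, U) r ≤ (hU.primeIdealOf ⟨x, hxU⟩).asIdeal := by
      rw [← sheafIdeal_ideal F hft' r ⟨U, hU⟩, h2 r le_rfl]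
      intro h
      exact (hU.primeIdealOf ⟨x, hxU⟩).2.ne_top (top_le_iff.mp h)
    obtain ⟨n, y, a, T, hy, hT, hrel, hdet⟩ := exists_data_of_not_le r _ hr
    have hxf : x ∈ S.basicOpen a.det := mem_basicOpen_of_mem_primeCompl hU x hxU a.det hdet
    letI : Algebra Γ(S, U) Γ(S, S.basicOpen a.det) := resAlgebra (S.basicOpen_le a.det)
    letI : Module Γ(S, U) Γ(F, S.basicOpen a.det) := resModule F (S.basicOpen_le a.det)
    haveI : IsScalarTower Γ(S, U) Γ(S, S.basicOpen a.det) Γ(F, S.basicOpen a.det) :=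
      resModule_isScalarTower F (S.basicOpen_le a.det)
    haveI : IsLocalization.Away a.det Γ(S, S.basicOpen a.det) := hU.isLocalization_basicOpen a.det
    haveI : IsLocalizedModule.Away a.det (resLinear F (S.basicOpen_le a.det)) :=
      isLocalizedModule_basicOpen F hU a.det
    obtain ⟨g, hg⟩ := exists_gen_of_localization (A' := Γ(S, S.basicOpen a.det)) y a T hy hT hrel
      (Submonoid.powers a.det) (resLinear F (S.basicOpen_le a.det))
      (IsLocalization.Away.algebraMap_isUnit a.det)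
    have hli : LinearIndependent Γ(S, S.basicOpen a.det) g := by
      refine linearIndependent_of_ideal_eq_bot g hg ?_
      rcases Nat.eq_zero_or_pos r with h0 | h0
      · exact Or.inl h0
      · right
        rw [← sheafIdeal_ideal F hft' (r - 1) ⟨S.basicOpen a.det, hU.basicOpen a.det⟩,
          h1 (r - 1) (by omega)]
        rfl
    exact ⟨S.basicOpen a.det, hU.basicOpen a.det, hxf,
      ⟨(Module.Basis.mk hli (by rw [hg])).equivFun⟩⟩


end Groth.Agent.S8875
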