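import Groth.Statements.S6892
import Mathlib
import Groth.Agent.H4.Fitting
import Groth.Agent.H4.Fitting2

set_option autoImplicit false
universe u
open Fitt

namespace Groth.Agent.S6892

open Groth.Agent.H4.Fitting

/-- Let `M` be a finite `R`-module. When `n` elements generate `M` one has `Fit_n(M) = R`; when `M` is
of finite presentation every `Fit_k(M)` is finitely generated as an ideal; and a surjection `M → M'`
onto another module gives `Fit_k(M) ⊆ Fit_k(M')` for every `k`. -/
theorem result {R : Type u} [CommRing R] (M M' : Type u) [AddCommGroup M]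
    [Module R M] [Module.Finite R M] [AddCommGroup M'] [Module R M'] (k : ℕ) :
    (∀ (n : ℕ) (x : Fin n → M), Submodule.span R (Set.range x) = ⊤ → Fitt.ideal R M n = ⊤) ∧
    (Module.FinitePresentation R M → (Fitt.ideal R M k).FG) ∧
    (∀ f : M →ₗ[R] M', Function.Surjective f → Fitt.ideal R M k ≤ Fitt.ideal R M' k) := by
  refine ⟨?_, ?_, ?_⟩
  · intro n x hx
    rw [ideal_eq_G n x hx, Ideal.eq_top_iff_one]
    have := det_mem_G (R := R) (k := n) (x := x) (1 : Matrix (Fin n) (Fin n) R) Finset.univ
      (by simp) (fun i hi => absurd (Finset.mem_univ i) hi)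
    simpa using this
  · intro hfp
    obtain ⟨n, x, hx⟩ := Module.Finite.exists_fin (R := R) (M := M)
    have hsurj : Function.Surjective (Fintype.linearCombination R x) := by
      rw [← LinearMap.range_eq_top, Fintype.range_linearCombination, hx]
    obtain ⟨S0, hS0⟩ := Module.FinitePresentation.fg_ker (Fintype.linearCombination R x) hsurj
    rw [ideal_eq_G k x hx, G_eq_span_of_span k x (S0 : Set (Fin n → R)) hS0]
    refine Submodule.fg_span ?_
    have hfin : (Set.pi Set.univ (fun _ : Fin n => (S0 : Set (Fin n → R)) ∪
        Set.range (fun j : Fin n => (Pi.single j 1 : Fin n → R)))).Finite :=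
      Set.Finite.pi (fun _ => (S0.finite_toSet).union (Set.finite_range _))
    refine (hfin.image (fun b : Fin n → Fin n → R => Matrix.det (Matrix.of b))).subset ?_
    rintro d ⟨b, T, _, h1, h2, rfl⟩
    refine ⟨b, ?_, rfl⟩
    intro i _
    by_cases hi : i ∈ T
    · right
      obtain ⟨j, hj⟩ := h2 i hi
      exact ⟨j, hj.symm⟩
    · left
      exact h1 i hi
  · intro f hf
    refine Ideal.span_le.mpr ?_
    rintro d ⟨n, x, a, hx, hr, rfl⟩
    refine Ideal.subset_span ⟨n, f ∘ x, a, ?_, ?_, rfl⟩
    · rw [Set.range_comp, ← Submodule.map_span, hx, Submodule.map_top, LinearMap.range_eq_top]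
      exact hf
    · intro i hi
      have := congrArg f (hr i hi)
      simpa using this


end Groth.Agent.S6892
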