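import Groth.Statements.S8873
import Mathlib
import Groth.Agent.H4.FittSheaf
import Groth.Agent.S6892

set_option autoImplicit false
universe u
open CategoryTheory CategoryTheory.Limits AlgebraicGeometry TopologicalSpace
open SDiv

namespace Groth.Agent.S8873

open Groth.Agent.H4.Fitting Groth.Agent.H4.FittSheaf Groth.Agent.LD.QC

/-- Let S be a scheme and F a finitely presented O_S-module. Then for every r the Fitting ideal sheaf
Fit_r(F) is of finite type: its ideal of sections over every affine open is finitely generated. -/
theorem result (S : Scheme.{u}) (F : S.Modules) (hF : CohB1.IsFP F) (r : ℕ) :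
    BlowUp.IsFiniteTypeIdeal (Fitt.sheafIdeal F r) := by
  intro U
  have hqc : F.IsQuasicoherent := inferInstance
  have hft : F.IsFiniteType := inferInstance
  rw [sheafIdeal_ideal F hft r U]
  haveI : Module.FinitePresentation Γ(S, U.1) Γ(F, U.1) :=
    finitePresentation_sections_of_isFinitePresentation F hF U.2
  haveI : Module.Finite Γ(S, U.1) Γ(F, U.1) := inferInstance
  exact (Groth.Agent.S6892.result (R := Γ(S, U.1)) Γ(F, U.1) Γ(F, U.1) r).2.1 inferInstance


end Groth.Agent.S8873
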