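import Groth.Statements.S9232
import Groth.Agent.Lib.Helper3.CA.CplBij

set_option autoImplicit false
universe u
open CAlg

namespace Groth.Agent.S9232

/-- Suppose A → B is a flat local ring map between Noetherian local rings, the maximal ideal of A
generates that of B, and the residue field map is bijective. Then the induced map between the
completions of A and B (a ring map of the completions compatible with A → B; it is unique since A is
Noetherian) is an isomorphism. -/
theorem result (A B : Type u) [CommRing A]
    [CommRing B] [IsLocalRing A] [IsLocalRing B] [IsNoetherianRing A] [IsNoetherianRing B]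
    [Algebra A B] [IsLocalHom (algebraMap A B)] [Module.Flat A B]
    (hm : Ideal.map (algebraMap A B) (IsLocalRing.maximalIdeal A) = IsLocalRing.maximalIdeal B)
    (hk : Function.Bijective (IsLocalRing.ResidueField.map (algebraMap A B)))
    (ψ : AdicCompletion (IsLocalRing.maximalIdeal A) A →+* AdicCompletion (IsLocalRing.maximalIdeal B) B)
    (hψ : ψ.comp (algebraMap A (AdicCompletion (IsLocalRing.maximalIdeal A) A)) =
      (algebraMap B (AdicCompletion (IsLocalRing.maximalIdeal B) B)).comp (algebraMap A B)) :
    Function.Bijective ψ := by
  refine Groth.Agent.H3.CplBij.bijective_of_compatible A B hm (fun ℓ => ?_) ψ hψ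
  obtain ⟨x, hx⟩ := hk.2 (IsLocalRing.residue B ℓ)
  obtain ⟨a, rfl⟩ := IsLocalRing.residue_surjective x
  refine ⟨a, ?_⟩
  rw [IsLocalRing.ResidueField.map_residue] at hx
  have h1 : IsLocalRing.residue B (ℓ - algebraMap A B a) = 0 := by rw [map_sub, hx, sub_self]
  exact (IsLocalRing.residue_eq_zero_iff _).mp h1

end Groth.Agent.S9232
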