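import Groth.Statements.S0346
import Mathlib
import Groth.Agent.Lib.Helper8.GrpObjSq

set_option autoImplicit false
universe u v
open CategoryTheory MonoidalCategory CartesianMonoidalCategory MonObj GrpObj AlgebraicGeometry
open GrpSch

namespace Groth.Agent.S0346

/-- A group scheme over any base scheme is separated over the base exactly when its unit section is a
closed immersion, and quasi-separated exactly when the unit section is quasi-compact. -/
theorem result (S : Scheme.{u}) (G : Over S) [GrpObj G] : (IsSeparated G.hom ↔ IsClosedImmersion η[G].left) ∧ (QuasiSeparated G.hom ↔ QuasiCompact η[G].left) := by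
  open Groth.Agent.H8.GrpObjSq in
  have sq1 := (isPullback_diag_unit G).map (Over.forget S)
  have sq2 := (isPullback_unit_diag G).map (Over.forget S)
  have hΔ : (Over.forget S).map (CartesianMonoidalCategory.lift (𝟙 G) (𝟙 G)) = Limits.pullback.diagonal G.hom := rfl
  rw [hΔ] at sq1 sq2
  have hη : (Over.forget S).map η[G] = (η[G]).left := rfl
  rw [hη] at sq1 sq2
  have key : ∀ P : MorphismProperty Scheme.{u}, P.IsStableUnderBaseChange →
      (P (Limits.pullback.diagonal G.hom) ↔ P (η[G]).left) := by
    intro P hP
    constructor
    · intro h
      exact MorphismProperty.of_isPullback (P := P) sq2 h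
    · intro h
      exact MorphismProperty.of_isPullback (P := P) sq1.flip h
  constructor
  · rw [isSeparated_iff]
    exact key @IsClosedImmersion inferInstance
  · rw [quasiSeparated_iff]
    exact key @QuasiCompact inferInstance

end Groth.Agent.S0346
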