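import Groth.Statements.S2586
import Groth.Agent.Lib.Helper1.RegFib2

set_option autoImplicit false
open TensorProduct
universe u
open EGA43

namespace Groth.Agent.S2586

open Groth.Agent.H1 in
theorem main_S2586 {A B : Type u} [CommRing A] [CommRing B] [Algebra A B]
    [Algebra.FinitePresentation A B] (M : Type u) [AddCommGroup M] [Module B M] [Module A M]
    [IsScalarTower A B M]
    [Module.FinitePresentation B M] (q : Ideal B) [q.IsPrime] (g : List B) (hg : ∀ b ∈ g, b ∈ q)
    (hflat : Module.Flat A (LocalizedModule q.primeCompl M))
    (hreg : RingTheory.Sequence.IsRegular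
      (LocalizedModule q.primeCompl (M ⊗[A] (q.comap (algebraMap A B)).ResidueField)) g) :
    RingTheory.Sequence.IsRegular (LocalizedModule q.primeCompl M) g ∧
      ∀ i ≤ g.length, Module.Flat A
        (LocalizedModule q.primeCompl (M ⧸ (Ideal.ofList (g.take i) • (⊤ : Submodule B M)))) := by
  have hfibs := (RegFib.isWeaklyRegular_iff q.primeCompl
    (M ⊗[A] (q.comap (algebraMap A B)).ResidueField) g).mp hreg.toIsWeaklyRegular
  have hfg : ∀ l : List B, (Ideal.ofList l).FG := fun l =>
    Submodule.fg_span (List.finite_toSet l)
  have hsucc : ∀ i (h : i < g.length), Ideal.ofList (g.take (i + 1)) =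
      Ideal.ofList (g.take i) ⊔ Ideal.span {g[i]} := by
    intro i h
    rw [List.take_succ_eq_append_getElem h, Ideal.ofList_append, Ideal.ofList_singleton]
  have hP : ∀ i ≤ g.length, Module.Flat A
      (LocalizedModule q.primeCompl (M ⧸ (Ideal.ofList (g.take i) • (⊤ : Submodule B M)))) := by
    intro i
    induction i with
    | zero =>
      intro _
      have h0 : (Ideal.ofList (g.take 0) • (⊤ : Submodule B M)) = ⊥ := by
        rw [List.take_zero, Ideal.ofList_nil, Submodule.bot_smul]
      exact LimFlat.flat_localizedModule_congr q.primeCompl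
        (Submodule.quotEquivOfEqBot _ h0).symm
    | succ i ih =>
      intro hi
      have hlt : i < g.length := hi
      have h1 := (RegFib.step M q (Ideal.ofList (g.take i)) (hfg _) g[i] (ih hlt.le)
        (hfibs i hlt)).2
      rw [hsucc i hlt]
      exact h1
  refine ⟨⟨(RegFib.isWeaklyRegular_iff q.primeCompl M g).mpr fun i h =>
    (RegFib.step M q (Ideal.ofList (g.take i)) (hfg _) g[i] (hP i h.le) (hfibs i h)).1, ?_⟩, hP⟩
  haveI := RegFib.nontrivial_of_nontrivial_fibre M q _ hreg.nontrivial
  exact RegFib.top_ne_ofList_smul_top M q g hg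

/-- Let A ⟶ B be a ring map with B finitely presented over A, M a finitely presented B-module, q a prime
of B with contraction p, and g₁, …, gₙ elements of q. Suppose the localization M_q is flat over A
and the gᵢ form a regular sequence on the localization at q of the fibre module M ⊗_A κ(p). Then the
gᵢ form a regular sequence on M_q, and for every i the localization at q of M/(g₁, …, gᵢ)M is flat
over A. -/
theorem result {A B : Type u} [CommRing A] [CommRing B] [Algebra A B]
    [Algebra.FinitePresentation A B] (M : Type u) [AddCommGroup M] [Module B M] [Module A M] [IsScalarTower A B M]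
    [Module.FinitePresentation B M] (q : Ideal B) [q.IsPrime] (g : List B) (hg : ∀ b ∈ g, b ∈ q)
    (hflat : Module.Flat A (LocalizedModule q.primeCompl M))
    (hreg : RingTheory.Sequence.IsRegular
      (LocalizedModule q.primeCompl (M ⊗[A] (q.comap (algebraMap A B)).ResidueField)) g) :
    RingTheory.Sequence.IsRegular (LocalizedModule q.primeCompl M) g ∧
      ∀ i ≤ g.length, Module.Flat A
        (LocalizedModule q.primeCompl (M ⧸ (Ideal.span {b | b ∈ g.take i} • (⊤ : Submodule B M)))) := by
  exact main_S2586 M q g hg hflat hreg

end Groth.Agent.S2586
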