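import Groth.Statements.S9235
import Groth.Agent.H4.Brn3

set_option autoImplicit false
universe u
open Brnch

namespace Groth.Agent.S9235

open scoped nonZeroDivisors

open Groth.Agent.H4.TotFrac Groth.Agent.H4.Brn

/-- A local ring A has exactly one branch if and only if it is unibranch. Here the number of branches is
computed as the number of maximal ideals of the integral closure of A_red in its total ring of
fractions (infinity when A has infinitely many minimal primes). -/
theorem result (A : Type u) [CommRing A] [IsLocalRing A] :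
    Brnch.numBranches A = 1 ↔ CAlg2.IsUnibranch A := by
  constructor
  · intro h
    have hfin : (minimalPrimes A).Finite := by
      by_contra hinf
      rw [Brnch.numBranches, if_neg hinf] at h
      exact ENat.top_ne_one h
    rw [numBranches_eq_of_finite A hfin, enat_card_eq_one_iff] at h
    obtain ⟨⟨m⟩, hsub⟩ := h
    haveI : Finite (MinP (A ⧸ nilradical A)) := by
      haveI : Finite (minimalPrimes A) := hfin.to_subtype
      exact Finite.of_equiv _ (minPEquiv A).symm
    have hsub2 : Subsingleton (Σ q : MinP (A ⧸ nilradical A), MaximalSpectrum (D q)) :=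
      ((Equiv.ofBijective _ (sigmaToPiMax_bijective (fun q : MinP (A ⧸ nilradical A) => D q))).trans
        (maxSpecCongr (Ψ (A := A ⧸ nilradical A))).symm).subsingleton
    haveI : Subsingleton (MinP (A ⧸ nilradical A)) := by
      constructor
      intro q1 q2
      obtain ⟨M1, hM1⟩ := Ideal.exists_maximal (D q1)
      obtain ⟨M2, hM2⟩ := Ideal.exists_maximal (D q2)
      have := Subsingleton.elim (⟨q1, ⟨M1, hM1⟩⟩ : Σ q : MinP (A ⧸ nilradical A), MaximalSpectrum (D q))
        ⟨q2, ⟨M2, hM2⟩⟩
      exact congrArg Sigma.fst this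
    haveI : Nontrivial (A ⧸ nilradical A) := by
      rw [Ideal.Quotient.nontrivial_iff]
      intro htop
      have h1 : nilradical A ≤ IsLocalRing.maximalIdeal A := nilradical_le_prime _
      rw [htop, top_le_iff] at h1
      exact (IsLocalRing.maximalIdeal.isMaximal A).ne_top h1
    refine ⟨isDomain_of_subsingleton_minP (A ⧸ nilradical A), ?_⟩
    exact IsLocalRing.of_unique_max_ideal ⟨m.asIdeal, m.2, fun I hI =>
      congrArg MaximalSpectrum.asIdeal (Subsingleton.elim (⟨I, hI⟩ : MaximalSpectrum _) m)⟩
  · rintro ⟨hdom, hloc⟩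
    rw [numBranches_eq_of_finite A (finite_minimalPrimes_of_isDomain_red A), enat_card_eq_one_iff]
    refine ⟨⟨⟨IsLocalRing.maximalIdeal _, inferInstance⟩⟩, ⟨fun m1 m2 => ?_⟩⟩
    apply MaximalSpectrum.ext
    rw [IsLocalRing.eq_maximalIdeal m1.2, IsLocalRing.eq_maximalIdeal m2.2]


end Groth.Agent.S9235
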