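import Groth.Statements.S1156
import Mathlib

set_option autoImplicit false
universe u
open scoped TensorProduct
open Desc

namespace Groth.Agent.S1156

/-- Exactness of the extended Amitsur complex in degree 0 (injectivity in degree −1 being standard). Let
R → A be faithfully flat and M an R-module. An element x of A ⊗_R M with 1 ⊗ x = (a ⊗ m ↦ a ⊗ 1 ⊗
m)(x) in A ⊗_R A ⊗_R M lies in the image of m ↦ 1 ⊗ m. -/
theorem result (R A : Type u) [CommRing R] [CommRing A] [Algebra R A] [Module.FaithfullyFlat R A]
    (M : Type u) [AddCommGroup M] [Module R M] (x : A ⊗[R] M)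
    (hx : TensorProduct.mk R A (A ⊗[R] M) 1 x = LinearMap.lTensor A (TensorProduct.mk R A M 1) x) :
    x ∈ LinearMap.range (TensorProduct.mk R A M 1) := by
  set f := TensorProduct.mk R A M 1 with hf
  let π := (LinearMap.range f).mkQ
  have hex : Function.Exact f π := LinearMap.exact_map_mkQ_range f
  have hex' : Function.Exact (LinearMap.lTensor A f) (LinearMap.lTensor A π) :=
    lTensor_exact A hex (Submodule.mkQ_surjective _)
  have h1 : LinearMap.lTensor A π (LinearMap.lTensor A f x) = 0 :=
    hex'.apply_apply_eq_zero x
  rw [← hx] at h1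
  have h2 : LinearMap.lTensor A π (TensorProduct.mk R A (A ⊗[R] M) 1 x) =
      TensorProduct.mk R A _ 1 (π x) := by
    simp
  rw [h2] at h1
  have h3 : π x = 0 :=
    Module.FaithfullyFlat.tensorProduct_mk_injective (A := R) (B := A) _ (by rw [h1, map_zero])
  exact (Submodule.Quotient.mk_eq_zero _).1 h3

end Groth.Agent.S1156
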