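import Groth.Statements.S13055
import Groth.Agent.Lib.Helper6.ZetaFormal
open Groth.Agent.H6

set_option autoImplicit false
universe u
open CategoryTheory AlgebraicGeometry
open Zeta

namespace Groth.Agent.S13055

/-- Let X be a scheme of finite type over a finite field k with q elements and P = a_d y^d + ⋯ + a_0 ∈
ℤ[y] with N_m = P(q^m) for every m ≥ 1 (X is of polynomial count). Then Z(X, t) = ∏_{i = 0}^{d} (1 −
q^i t)^{−a_i}; stated cleared of denominators, with the factors of positive exponent moved to the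
left. -/
theorem result {k : Type u} [Field k] [Finite k] {X : Scheme.{u}}
    (f : X ⟶ Spec (CommRingCat.of k)) [LocallyOfFiniteType f] [QuasiCompact f] (P : Polynomial ℤ)
    (hP : ∀ m : ℕ, 1 ≤ m → (Zeta.nPts f m : ℤ) = P.eval ((Nat.card k : ℤ) ^ m)) :
    Zeta.zetaFun f * ∏ i ∈ Finset.range (P.natDegree + 1),
        (1 - PowerSeries.C ((Nat.card k : ℚ) ^ i) * PowerSeries.X) ^ (P.coeff i).toNat =
      ∏ i ∈ Finset.range (P.natDegree + 1),
        (1 - PowerSeries.C ((Nat.card k : ℚ) ^ i) * PowerSeries.X) ^ (-P.coeff i).toNat := by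
  classical
  set q : ℚ := (Nat.card k : ℚ) with hq
  set s := Finset.range (P.natDegree + 1) with hs
  have hc1 : ∀ i, PowerSeries.constantCoeff (1 - PowerSeries.C (q ^ i) * PowerSeries.X : PowerSeries ℚ) ≠ 0 := by
    intro i
    rw [ZF.constantCoeff_one_sub_CX]; exact one_ne_zero
  have hcp : ∀ (e : ℕ → ℕ), ∀ i ∈ s, PowerSeries.constantCoeff
      ((1 - PowerSeries.C (q ^ i) * PowerSeries.X : PowerSeries ℚ) ^ e i) ≠ 0 :=
    fun e i _ => ZF.constantCoeff_pow_ne_zero (hc1 i) _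
  have hcp1 : ∀ (e : ℕ → ℕ), PowerSeries.constantCoeff
      (∏ i ∈ s, (1 - PowerSeries.C (q ^ i) * PowerSeries.X : PowerSeries ℚ) ^ e i) = 1 := by
    intro e
    rw [map_prod]
    apply Finset.prod_eq_one
    intro i _
    rw [map_pow, ZF.constantCoeff_one_sub_CX, one_pow]
  have hZ : PowerSeries.constantCoeff (Zeta.zetaFun f) ≠ 0 := by
    rw [ZF.constantCoeff_zetaFun]; exact one_ne_zero
  have hA : ∀ (e : ℕ → ℕ), PowerSeries.constantCoeff
      (∏ i ∈ s, (1 - PowerSeries.C (q ^ i) * PowerSeries.X : PowerSeries ℚ) ^ e i) ≠ 0 := by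
    intro e; rw [hcp1]; exact one_ne_zero
  apply ZF.eq_of_dlog_eq
  · rw [map_mul]; exact mul_ne_zero hZ (hA _)
  · exact hA _
  · rw [map_mul, hcp1, hcp1, ZF.constantCoeff_zetaFun, mul_one]
  · rw [ZF.dlog_mul hZ (hA _), ZF.dlog_prod s _ (hcp _), ZF.dlog_prod s _ (hcp _)]
    ext m
    simp only [map_add, map_sum, ZF.dlog_pow (hc1 _), map_nsmul, ZF.coeff_dlog_one_sub_CX,
      ZF.coeff_dlog_zetaFun]
    have h1 := hP (m + 1) (by omega)
    rw [Polynomial.eval_eq_sum_range] at h1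
    have h2 : (Zeta.nPts f (m + 1) : ℚ) = ∑ i ∈ s, (P.coeff i : ℚ) * (q ^ (m + 1)) ^ i := by
      have := congrArg (Int.cast : ℤ → ℚ) h1
      push_cast at this
      rw [this]
    rw [h2]
    have h3 : ∀ i, (P.coeff i : ℚ) = ((P.coeff i).toNat : ℚ) - ((-P.coeff i).toNat : ℚ) := by
      intro i
      have := Int.toNat_sub_toNat_neg (P.coeff i)
      have h' := congrArg (Int.cast : ℤ → ℚ) this
      push_cast at h'
      rw [← h']
    rw [← sub_eq_zero, ← Finset.sum_add_distrib, ← Finset.sum_sub_distrib]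
    apply Finset.sum_eq_zero
    intro i _
    rw [h3 i, nsmul_eq_mul, nsmul_eq_mul, ← pow_mul, ← pow_mul, mul_comm (m + 1) i]
    ring


end Groth.Agent.S13055
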