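import Groth.Statements.S4893
-- import your own Groth.Agent.* helpers here

set_option autoImplicit false
universe u
open EGA43

namespace Groth.Agent.S4893


/-- If taking preimages is injective on open sets, every nonempty locally closed set meets the
range. -/
theorem meets_range_of_preimage_injective {X Y : Type u} [TopologicalSpace X] [TopologicalSpace Y]
    (f : X → Y)
    (hinj : ∀ U₁ U₂ : Set Y, IsOpen U₁ → IsOpen U₂ → f ⁻¹' U₁ = f ⁻¹' U₂ → U₁ = U₂)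
    (Z : Set Y) (hZ : IsLocallyClosed Z) (hne : Z.Nonempty) : ∃ x, f x ∈ Z := by
  obtain ⟨O, C, hO, hC, rfl⟩ := hZ
  by_contra hcon
  push Not at hcon
  have := hinj O (O ∩ Cᶜ) hO (hO.inter hC.isOpen_compl) (by
    ext x
    simp only [Set.mem_preimage, Set.mem_inter_iff, Set.mem_compl_iff]
    constructor
    · intro hx
      exact ⟨hx, fun hc => hcon x ⟨hx, hc⟩⟩
    · exact fun hx => hx.1)
  obtain ⟨y, hyO, hyC⟩ := hne
  rw [this] at hyO
  exact hyO.2 hyC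

/-- Let f : X → Y be a quasi-homeomorphism (continuous, with U ↦ f⁻¹(U) a bijection from the open
subsets of Y onto the open subsets of X) and Y' a locally quasi-constructible subset of Y. Then the
restriction f⁻¹(Y') → Y' of f is a quasi-homeomorphism. -/
theorem result {X Y : Type u} [TopologicalSpace X]
    [TopologicalSpace Y] (f : X → Y) (hf : Continuous f)
    (hq : ((∀ U₁ U₂ : Set Y, IsOpen U₁ → IsOpen U₂ → (f) ⁻¹' U₁ = (f) ⁻¹' U₂ → U₁ = U₂) ∧ (∀ V : Set X, IsOpen V → ∃ U : Set Y, IsOpen U ∧ (f) ⁻¹' U = V)))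
    (Y' : Set Y) (hY' : (∀ y : Y, ∃ U : Set Y, IsOpen U ∧ y ∈ U ∧ ∃ T : Set (Set Y), T.Finite ∧ (∀ t ∈ T, IsLocallyClosed t) ∧ U ∩ Y' = ⋃₀ T)) :
    ((∀ U₁ U₂ : Set ↥Y', IsOpen U₁ → IsOpen U₂ → (Y'.restrictPreimage f) ⁻¹' U₁ = (Y'.restrictPreimage f) ⁻¹' U₂ → U₁ = U₂) ∧ (∀ V : Set ↥(f ⁻¹' Y'), IsOpen V → ∃ U : Set ↥Y', IsOpen U ∧ (Y'.restrictPreimage f) ⁻¹' U = V)) := by
  constructor
  · intro U₁ U₂ hU₁ hU₂ e
    obtain ⟨O₁, hO₁, rfl⟩ := isOpen_induced_iff.mp hU₁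
    obtain ⟨O₂, hO₂, rfl⟩ := isOpen_induced_iff.mp hU₂
    -- symmetric claim
    have key : ∀ (P Q : Set Y), IsOpen P → IsOpen Q →
        (∀ x, f x ∈ Y' → f x ∈ P → f x ∈ Q) → ∀ y ∈ Y', y ∈ P → y ∈ Q := by
      intro P Q hP hQ hPQ y hyY hyP
      by_contra hyQ
      obtain ⟨U, hU, hyU, T, -, hT, hUT⟩ := hY' y
      have hy' : y ∈ ⋃₀ T := by rw [← hUT]; exact ⟨hyU, hyY⟩
      obtain ⟨t, htT, hyt⟩ := hy'
      have hlc : IsLocallyClosed (t ∩ P ∩ Qᶜ) :=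
        ((hT t htT).inter hP.isLocallyClosed).inter hQ.isClosed_compl.isLocallyClosed
      obtain ⟨x, hx⟩ := meets_range_of_preimage_injective f hq.1 _ hlc ⟨y, ⟨hyt, hyP⟩, hyQ⟩
      have hxY : f x ∈ Y' := by
        have : f x ∈ U ∩ Y' := by rw [hUT]; exact ⟨t, htT, hx.1.1⟩
        exact this.2
      exact hx.2 (hPQ x hxY hx.1.2)
    have e' : ∀ x, f x ∈ Y' → (f x ∈ O₁ ↔ f x ∈ O₂) := by
      intro x hx
      have := Set.ext_iff.mp e ⟨x, hx⟩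
      simpa using this
    ext ⟨y, hy⟩
    simp only [Set.mem_preimage]
    exact ⟨key O₁ O₂ hO₁ hO₂ (fun x hx h1 => (e' x hx).mp h1) y hy,
      key O₂ O₁ hO₂ hO₁ (fun x hx h1 => (e' x hx).mpr h1) y hy⟩
  · intro V hV
    obtain ⟨V₀, hV₀, rfl⟩ := isOpen_induced_iff.mp hV
    obtain ⟨U₀, hU₀, rfl⟩ := hq.2 V₀ hV₀
    refine ⟨Subtype.val ⁻¹' U₀, hU₀.preimage continuous_subtype_val, ?_⟩
    ext ⟨x, hx⟩
    simp

end Groth.Agent.S4893
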