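import Groth.Statements.S4890
import Groth.Agent.S4893
-- import your own Groth.Agent.* helpers here

set_option autoImplicit false
universe u
open EGA43

namespace Groth.Agent.S4890


section QH
variable {P Q : Type u} [TopologicalSpace P] [TopologicalSpace Q] (g : P → Q)

theorem qh_mono
    (hinj : ∀ U₁ U₂ : Set Q, IsOpen U₁ → IsOpen U₂ → g ⁻¹' U₁ = g ⁻¹' U₂ → U₁ = U₂)
    {U W : Set Q} (hU : IsOpen U) (hW : IsOpen W) (hUW : g ⁻¹' U ⊆ g ⁻¹' W) : U ⊆ W := by
  have := hinj (U ∩ W) U (hU.inter hW) hU (by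
    rw [Set.preimage_inter]; exact Set.inter_eq_left.mpr hUW)
  exact Set.inter_eq_left.mp this

theorem qh_isCompact_iff (hg : Continuous g)
    (hinj : ∀ U₁ U₂ : Set Q, IsOpen U₁ → IsOpen U₂ → g ⁻¹' U₁ = g ⁻¹' U₂ → U₁ = U₂)
    (hsurj : ∀ V : Set P, IsOpen V → ∃ U : Set Q, IsOpen U ∧ g ⁻¹' U = V)
    {U : Set Q} (hU : IsOpen U) : IsCompact U ↔ IsCompact (g ⁻¹' U) := by
  constructor
  · intro hc
    rw [isCompact_iff_finite_subcover]
    intro ι V hV hcov
    choose W hWo hWe using fun i => hsurj (V i) (hV i)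
    have hUW : U ⊆ ⋃ i, W i := by
      apply qh_mono g hinj hU (isOpen_iUnion hWo)
      rw [Set.preimage_iUnion]
      simpa only [hWe] using hcov
    obtain ⟨t, ht⟩ := hc.elim_finite_subcover W hWo hUW
    refine ⟨t, ?_⟩
    have := Set.preimage_mono (f := g) ht
    simpa only [Set.preimage_iUnion, hWe] using this
  · intro hc
    rw [isCompact_iff_finite_subcover]
    intro ι W hW hcov
    have hcov' : g ⁻¹' U ⊆ ⋃ i, g ⁻¹' (W i) := by
      rw [← Set.preimage_iUnion]; exact Set.preimage_mono hcov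
    obtain ⟨t, ht⟩ := hc.elim_finite_subcover (fun i => g ⁻¹' (W i))
      (fun i => (hW i).preimage hg) hcov'
    refine ⟨t, ?_⟩
    apply qh_mono g hinj hU (isOpen_iUnion fun i => isOpen_iUnion fun _ => hW i)
    simpa only [Set.preimage_iUnion] using ht
end QH

/-- Let f : X → Y be a quasi-homeomorphism (U ↦ f⁻¹(U) is a bijection on open subsets) and Y' a locally
quasi-constructible subset of Y, i.e. every point of Y has an open neighbourhood whose trace on Y'
is a finite union of locally closed subsets; put X' = f⁻¹(Y'). Then Y' is quasi-compact if and only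
if X' is, and Y' is a Noetherian space if and only if X' is. -/
theorem result {X Y : Type u} [TopologicalSpace X]
    [TopologicalSpace Y] (f : X → Y) (hf : Continuous f)
    (hq : Function.Bijective (fun U : TopologicalSpace.Opens Y =>
      (⟨f ⁻¹' (U : Set Y), U.isOpen.preimage hf⟩ : TopologicalSpace.Opens X)))
    (Y' : Set Y)
    (hY' : ∀ y : Y, ∃ U : Set Y, IsOpen U ∧ y ∈ U ∧
      ∃ T : Set (Set Y), T.Finite ∧ (∀ t ∈ T, IsLocallyClosed t) ∧ U ∩ Y' = ⋃₀ T) :
    (IsCompact Y' ↔ IsCompact (f ⁻¹' Y')) ∧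
      (TopologicalSpace.NoetherianSpace ↥Y' ↔ TopologicalSpace.NoetherianSpace ↥(f ⁻¹' Y')) := by
  have hq : (∀ U₁ U₂ : Set Y, IsOpen U₁ → IsOpen U₂ → f ⁻¹' U₁ = f ⁻¹' U₂ → U₁ = U₂) ∧
      (∀ V : Set X, IsOpen V → ∃ U : Set Y, IsOpen U ∧ f ⁻¹' U = V) := by
    constructor
    · intro U₁ U₂ h₁ h₂ e
      have := @hq.1 ⟨U₁, h₁⟩ ⟨U₂, h₂⟩ (TopologicalSpace.Opens.ext e)
      exact congrArg (fun G : TopologicalSpace.Opens Y => (G : Set Y)) this
    · intro V hV
      obtain ⟨U, hU⟩ := hq.2 ⟨V, hV⟩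
      exact ⟨U, U.isOpen, congrArg (fun G : TopologicalSpace.Opens X => (G : Set X)) hU⟩
  obtain ⟨hinj, hsurj⟩ := Groth.Agent.S4893.result f hf hq Y' hY'
  have hcont : Continuous (Y'.restrictPreimage f) := hf.restrictPreimage
  constructor
  · rw [isCompact_iff_compactSpace, isCompact_iff_compactSpace, ← isCompact_univ_iff,
      ← isCompact_univ_iff]
    have := qh_isCompact_iff (Y'.restrictPreimage f) hcont hinj hsurj isOpen_univ
    rwa [Set.preimage_univ] at this
  · rw [TopologicalSpace.noetherianSpace_iff_opens, TopologicalSpace.noetherianSpace_iff_opens]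
    constructor
    · intro h V
      obtain ⟨U, hU, hUe⟩ := hsurj V V.isOpen
      rw [← hUe]
      exact (qh_isCompact_iff (Y'.restrictPreimage f) hcont hinj hsurj hU).mp (h ⟨U, hU⟩)
    · intro h U
      exact (qh_isCompact_iff (Y'.restrictPreimage f) hcont hinj hsurj U.isOpen).mpr
        (h ⟨_, U.isOpen.preimage hcont⟩)

end Groth.Agent.S4890
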