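import Groth.Statements.S11080
import Mathlib

set_option autoImplicit false
universe u
open CAlg

namespace Groth.Agent.S11080

/-- Valuation rings over a curve: let A be a Dedekind domain with fraction field K. A valuation subring
O of K contains A and is different from K if and only if O is the valuation ring of the v-adic
valuation of K at some nonzero prime v of A (equivalently O is the local ring of A at a maximal
ideal, a discrete valuation ring). (The published statement takes A to be the coordinate ring of a
nonsingular affine curve over an algebraically closed field, which is such a Dedekind domain; its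
proof uses only that the local rings of A at nonzero primes are discrete valuation rings and that
nonzero primes are maximal.) -/
theorem result (A K : Type u) [CommRing A]
    [IsDedekindDomain A] [Field K] [Algebra A K] [IsFractionRing A K] (O : ValuationSubring K) :
    ((algebraMap A K).range ≤ O.toSubring ∧ O ≠ ⊤) ↔
      ∃ v : IsDedekindDomain.HeightOneSpectrum A, O = (v.valuation K).valuationSubring := by
  classical
  constructor
  · rintro ⟨hA, hO⟩
    have hAO : ∀ a : A, algebraMap A K a ∈ O := fun a => hA ⟨a, rfl⟩
    let φ : A →+* O := (algebraMap A K).codRestrict O.toSubring hAO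
    have hφ : ∀ a, ((φ a : O) : K) = algebraMap A K a := fun a => rfl
    -- inverse of an element outside the maximal ideal
    have hinv : ∀ y : O, y ∉ IsLocalRing.maximalIdeal O → ((y : K))⁻¹ ∈ O := by
      intro y hy
      have hu : IsUnit y := by
        by_contra h
        exact hy ((IsLocalRing.mem_maximalIdeal y).mpr h)
      obtain ⟨u, rfl⟩ := hu
      have h1 : ((u : O) : K) * ((u⁻¹ : Oˣ) : O) = 1 := by
        have : (u : O) * ((u⁻¹ : Oˣ) : O) = 1 := Units.mul_inv u
        exact_mod_cast congrArg (fun z : O => (z : K)) this
      rw [← eq_inv_of_mul_eq_one_right h1]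
      exact ((u⁻¹ : Oˣ) : O).2
    let p : Ideal A := (IsLocalRing.maximalIdeal O).comap φ
    have hp : p.IsPrime := Ideal.comap_isPrime φ _
    have hpne : p ≠ ⊥ := by
      intro hbot
      apply hO
      rw [eq_top_iff]
      intro x _
      obtain ⟨a, b, hb, rfl⟩ := IsFractionRing.div_surjective (A := A) x
      have hb0 : b ≠ 0 := nonZeroDivisors.ne_zero hb
      have hbp : φ b ∉ IsLocalRing.maximalIdeal O := by
        intro h
        have : b ∈ p := h
        rw [hbot] at this
        exact hb0 ((Submodule.mem_bot A).mp this)
      have := hinv (φ b) hbp
      rw [hφ] at this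
      rw [div_eq_mul_inv]
      exact O.mul_mem _ _ (hAO a) this
    let v : IsDedekindDomain.HeightOneSpectrum A := ⟨p, hp, hpne⟩
    refine ⟨v, ?_⟩
    have hle : IsDedekindDomain.HeightOneSpectrum.valuationSubringAtPrime K v ≤ O := by
      intro x hx
      have hx1 : v.valuation K x ≤ 1 :=
        IsDedekindDomain.HeightOneSpectrum.valuationSubringAtPrime_le_valuation v hx
      obtain ⟨n, d, hnd⟩ :=
        IsDedekindDomain.HeightOneSpectrum.exists_primeCompl_mul_eq_of_integer v x hx1
      have hd : φ d ∉ IsLocalRing.maximalIdeal O := fun h => d.2 h
      have h1 := hinv (φ d) hd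
      rw [hφ] at h1
      have hd0 : algebraMap A K d ≠ 0 := by
        intro h0
        apply d.2
        have : (d : A) = 0 := (IsFractionRing.injective A K) (by rw [h0, map_zero])
        rw [this]
        exact zero_mem _
      have : x = algebraMap A K n * (algebraMap A K d)⁻¹ := by
        rw [← hnd, mul_assoc, mul_inv_cancel₀ hd0, mul_one]
      rw [this]
      exact O.mul_mem _ _ (hAO n) h1
    rw [← IsDedekindDomain.HeightOneSpectrum.valuationSubringAtPrime_eq_valuationSubring]
    exact (ValuationSubring.eq_of_le_of_ne_top _ hle hO).symm
  · rintro ⟨v, rfl⟩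
    refine ⟨?_, ?_⟩
    · rintro _ ⟨a, rfl⟩
      exact (Valuation.mem_valuationSubring_iff _ _).mpr (v.valuation_le_one a)
    · simp only [ne_eq, Valuation.valuationSubring_eq_top_iff, not_not]
      infer_instance

end Groth.Agent.S11080
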