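import Groth.Statements.S0455
import Groth.Agent.Lib.Lead.Cech.Leray
import Groth.Agent.Lib.Lead.SC.Flasque

set_option autoImplicit false
universe u
open CategoryTheory
open CohTop

namespace Groth.Agent.S0455

open TopologicalSpace CategoryTheory.Limits in
/-- If F is a flasque abelian sheaf on X, then for any family of opens the Cech cohomology groups of F
in positive degree are zero. -/
theorem result {X : TopCat.{u}} (F : CohTop.Ab X) [TopCat.Sheaf.IsFlasque F]
    {ι : Type u} (U : ι → Opens X) (p : ℕ) : IsZero (CohTop.cechH F.obj U (p + 1)) := by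
  have h' : ∀ (n : ℕ) (a : Fin (n+1) → ι) (q : ℕ),
      Subsingleton (Abelian.Ext (Groth.Agent.LD.SC.ZU (Opens.grothendieckTopology X)
        (Limits.piObj (U ∘ a))) F (q+1)) := by
    intro n a q
    exact Groth.Agent.LD.SC.subsingleton_ext_of_isFlasque q F _
  obtain ⟨e⟩ := Groth.Agent.LD.CH.leray U F h' (p+1)
  haveI : Subsingleton (Abelian.Ext (Groth.Agent.LD.SC.ZU (Opens.grothendieckTopology X)
      (iSup U)) F (p+1)) := Groth.Agent.LD.SC.subsingleton_ext_of_isFlasque p F _
  haveI : Subsingleton (((cechComplexFunctor U).obj F.obj).homology (p+1) : AddCommGrpCat.{u}) :=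
    e.toEquiv.subsingleton
  exact AddCommGrpCat.isZero_of_subsingleton _

end Groth.Agent.S0455
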