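import Groth.Statements.S15335
import Groth.Agent.Lib.Helper5.Curve4.VB3

set_option autoImplicit false
universe u
open CategoryTheory CategoryTheory.Limits AlgebraicGeometry
open VBCurve

namespace Groth.Agent.S15335

/-- Let X be a smooth proper integral curve (integral, smooth and proper of dimension one) over an
algebraically closed field k, and E₁, E₂ finite locally free O_X-modules of ranks r₁ ≥ 1, r₂ ≥ 1.
The maximal slope of E₁ ⊕ E₂ is at most the larger of the maximal slopes of E₁ and E₂: if m₁, m₂ are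
rational numbers such that every finite locally free submodule of positive rank of E₁ (resp. E₂) has
slope deg/rank ≤ m₁ (resp. ≤ m₂), degree meaning χ − rank·χ(O_X), then every finite locally free
submodule F of the biproduct E₁ ⊞ E₂ of rank r' ≥ 1 has slope deg F / r' ≤ max(m₁, m₂). -/
theorem result (k : Type u) [Field k] [IsAlgClosed k] (X : Scheme.{u}) [X.Over (Spec (CommRingCat.of k))]
    [IsIntegral X] [IsProper (X ↘ Spec (CommRingCat.of k))] [Smooth (X ↘ Spec (CommRingCat.of k))]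
    (hdim : topologicalKrullDim X = 1)
    (r₁ r₂ : ℕ) (hr₁ : 0 < r₁) (hr₂ : 0 < r₂) (E₁ E₂ : X.Modules)
    (hE₁ : FlatMod.IsFinLocFreeOfRank r₁ E₁) (hE₂ : FlatMod.IsFinLocFreeOfRank r₂ E₂) (m₁ m₂ : ℚ)
    (h₁ : ∀ (G : X.Modules) (r' : ℕ) (i : G ⟶ E₁), Mono i → 0 < r' → FlatMod.IsFinLocFreeOfRank r' G →
      (Curv2.deg k X G r' : ℚ) / r' ≤ m₁)
    (h₂ : ∀ (G : X.Modules) (r' : ℕ) (i : G ⟶ E₂), Mono i → 0 < r' → FlatMod.IsFinLocFreeOfRank r' G →
      (Curv2.deg k X G r' : ℚ) / r' ≤ m₂)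
    (F : X.Modules) (r' : ℕ) (i : F ⟶ E₁ ⊞ E₂) (hi : Mono i) (hr' : 0 < r')
    (hF : FlatMod.IsFinLocFreeOfRank r' F) :
    (Curv2.deg k X F r' : ℚ) / r' ≤ max m₁ m₂ := by
  haveI := hi
  let g : F ⟶ E₂ := i ≫ biprod.snd
  let jK : kernel g ⟶ E₁ := kernel.ι g ≫ i ≫ biprod.fst
  haveI : Mono jK := by
    apply Preadditive.mono_of_cancel_zero
    intro Z h hh
    have h1 : (h ≫ kernel.ι g ≫ i) ≫ biprod.fst = 0 := by
      simpa [jK, Category.assoc] using hh
    have h2 : (h ≫ kernel.ι g ≫ i) ≫ biprod.snd = 0 := by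
      have : kernel.ι g ≫ g = 0 := kernel.condition g
      simp only [Category.assoc]
      change h ≫ kernel.ι g ≫ g = 0
      rw [this, comp_zero]
    have h3 : h ≫ kernel.ι g ≫ i = 0 := by
      apply biprod.hom_ext
      · rw [h1, zero_comp]
      · rw [h2, zero_comp]
    have h4 : (h ≫ kernel.ι g) ≫ i = 0 := by rw [Category.assoc]; exact h3
    have h5 : h ≫ kernel.ι g = 0 := by
      rw [← cancel_mono i, h4, zero_comp]
    rw [← cancel_mono (kernel.ι g), h5, zero_comp]
  obtain ⟨a, b, hab, ha, hb, hdeg⟩ :=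
    Groth.Agent.H5.Curve4.kernel_image_facts k X hdim.le r' r₂ hF hE₂ g
  have hKle : (Curv2.deg k X (kernel g) a : ℚ) ≤ max m₁ m₂ * (a : ℚ) := by
    rcases Nat.eq_zero_or_pos a with h0 | hapos
    · subst h0
      rw [Groth.Agent.H5.Curve4.deg_rank_zero k X ha]
      simp
    · have h := h₁ (kernel g) a jK inferInstance hapos ha
      have hq : (0 : ℚ) < (a : ℚ) := by exact_mod_cast hapos
      rw [div_le_iff₀ hq] at h
      exact h.trans (mul_le_mul_of_nonneg_right (le_max_left _ _) hq.le)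
  have hIle : (Curv2.deg k X (Abelian.coimage g) b : ℚ) ≤ max m₁ m₂ * (b : ℚ) := by
    rcases Nat.eq_zero_or_pos b with h0 | hbpos
    · subst h0
      rw [Groth.Agent.H5.Curve4.deg_rank_zero k X hb]
      simp
    · have h := h₂ (Abelian.coimage g) b (Abelian.factorThruCoimage g) inferInstance hbpos hb
      have hq : (0 : ℚ) < (b : ℚ) := by exact_mod_cast hbpos
      rw [div_le_iff₀ hq] at h
      exact h.trans (mul_le_mul_of_nonneg_right (le_max_right _ _) hq.le)
  have hq : (0 : ℚ) < (r' : ℚ) := by exact_mod_cast hr'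
  rw [div_le_iff₀ hq]
  have habq : (a : ℚ) + (b : ℚ) = (r' : ℚ) := by exact_mod_cast hab
  have hdq : (Curv2.deg k X F r' : ℚ) =
      (Curv2.deg k X (kernel g) a : ℚ) + (Curv2.deg k X (Abelian.coimage g) b : ℚ) := by
    exact_mod_cast hdeg
  rw [hdq, ← habq, mul_add]
  exact add_le_add hKle hIle

end Groth.Agent.S15335
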