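import Groth.Statements.S0818
import Groth.Agent.Lib.Lead.QC.DevissageStep
import Groth.Agent.Lib.Lead.QC.IntegralSub

set_option autoImplicit false
universe u
open Coherent

namespace Groth.Agent.S0818

open CategoryTheory AlgebraicGeometry in
/-- Let X be a nonempty Noetherian scheme and P an isomorphism-invariant property of O_X-modules such
that (1) in every short exact sequence of coherent O_X-modules, if two of the three terms satisfy P
then so does the third, and (2) for every integral scheme Z and closed immersion i : Z → X, with ξ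
the generic point of Z, there is a coherent O_X-module G satisfying P whose support is exactly i(Z)
and whose stalk at i(ξ) is isomorphic, as a module over the local ring O_{X,i(ξ)}, to the residue
field of that local ring. Then every coherent O_X-module satisfies P. (The published statement
leaves the nonemptiness of X implicit; it is needed to handle the zero module and is assumed
explicitly here.) -/
theorem result (X : Scheme.{u}) [IsNoetherian X] [Nonempty X]
    (P : X.Modules → Prop) (hP : ∀ M N : X.Modules, Nonempty (M ≅ N) → P M → P N)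
    (h₁ : ∀ S : ShortComplex X.Modules, S.ShortExact → Coh.IsCoh S.X₁ → Coh.IsCoh S.X₂ → Coh.IsCoh S.X₃ →
      (P S.X₁ → P S.X₂ → P S.X₃) ∧ (P S.X₁ → P S.X₃ → P S.X₂) ∧ (P S.X₂ → P S.X₃ → P S.X₁))
    (h₂ : ∀ (Z : Scheme.{u}) (i : Z ⟶ X) [IsClosedImmersion i] [IsIntegral Z],
      ∃ G : X.Modules, Coh.IsCoh G ∧ CohB1.support G = Set.range ⇑i ∧
        Nonempty (↑(G.presheaf.stalk (i (genericPoint Z))) ≃ₗ[X.presheaf.stalk (i (genericPoint Z))]
          IsLocalRing.ResidueField (X.presheaf.stalk (i (genericPoint Z)))) ∧ P G)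
    (M : X.Modules) (hM : Coh.IsCoh M) : P M := by
  classical
  open Groth.Agent.LD.QC in
  -- a module with `P`, to get `P 0`
  have hP0 : ∀ Z : X.Modules, CategoryTheory.Limits.IsZero Z → P Z := by
    intro Z hZ
    obtain ⟨x⟩ := ‹Nonempty X›
    let Y : TopologicalSpace.Closeds X := ⟨closure {x}, isClosed_closure⟩
    have hirr : IsIrreducible (Y : Set X) := isIrreducible_singleton.closure
    haveI := isIntegral_redSub Y hirr
    obtain ⟨G, hG, -, -, hPG⟩ := h₂ (redSub Y) (redSubι Y)
    have hses : (CategoryTheory.ShortComplex.mk (0 : Z ⟶ G) (𝟙 G) CategoryTheory.Limits.zero_comp).ShortExact :=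
      { exact := (CategoryTheory.ShortComplex.exact_iff_mono _ rfl).mpr (inferInstanceAs (Mono (𝟙 G)))
        mono_f := ⟨fun _ _ _ => hZ.eq_of_tgt _ _⟩
        epi_g := inferInstanceAs (Epi (𝟙 G)) }
    exact (h₁ _ hses (isCoh_of_isZero hG hZ) hG hG).2.2 hPG hPG
  open Groth.Agent.LD.QC in
  refine devissage_master P (fun A B e _ hA => hP A B ⟨e⟩ hA) Set.univ hP0
    (fun S hS h1 h2 h3 _ p1 p3 => (h₁ S hS h1 h2 h3).2.1 p1 p3) ?_ M hM (Set.subset_univ _)
  intro Y hYc hirr _ IH Q hQ hQY
  let Yc : TopologicalSpace.Closeds X := ⟨Y, hYc⟩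
  haveI := Groth.Agent.LD.QC.isIntegral_redSub Yc hirr
  obtain ⟨G, hG, hGs, ⟨e⟩, hPG⟩ := h₂ (Groth.Agent.LD.QC.redSub Yc) (Groth.Agent.LD.QC.redSubι Yc)
  rw [Groth.Agent.LD.QC.range_redSubι] at hGs
  set ξ := (Groth.Agent.LD.QC.redSubι Yc) (genericPoint (Groth.Agent.LD.QC.redSub Yc)) with hξdef
  have hξcl : closure {ξ} = Y := Groth.Agent.LD.QC.closure_redSubι_genericPoint Yc hirr
  have hξY : ξ ∈ Y := hξcl ▸ subset_closure rfl
  haveI : IsSimpleModule (X.presheaf.stalk ξ) (IsLocalRing.ResidueField (X.presheaf.stalk ξ)) :=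
    isSimpleModule_iff_isCoatom.mpr (Ideal.isMaximal_def.mp inferInstance)
  have hsimp : IsSimpleModule (X.presheaf.stalk ξ) (G.presheaf.stalk ξ) := IsSimpleModule.congr e
  have hQ0 : ¬ CategoryTheory.Limits.IsZero Q := by
    intro hz
    have := Groth.Agent.LD.QC.support_eq_empty_of_isZero hz
    rw [hQY] at this
    exact (this ▸ hξY : ξ ∈ (∅ : Set X))
  refine Groth.Agent.LD.QC.exists_sub_of_subs P Set.univ
    (fun S hS h1 h2 h3 _ p1 p2 => (h₁ S hS h1 h2 h3).1 p1 p2) G Q hG hQ hQ0
    (by rw [hQY, hGs]; rfl) (Set.subset_univ _) ?_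
  intro K k hk hK
  exact @Groth.Agent.LD.QC.sub_of_simple_stalk X _ P Set.univ
    (fun S hS h1 h2 h3 _ p2 p3 => (h₁ S hS h1 h2 h3).2.2 p2 p3) Y ξ hξY G hG hGs
    (Set.subset_univ _) hsimp hPG IH K k hk hK

end Groth.Agent.S0818
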