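import Groth.Statements.S12083
import Mathlib
import Groth.Agent.H4.RelFP2
import Groth.Agent.H4.RelFPBC

set_option autoImplicit false
universe u
open CAlg

namespace Groth.Agent.S12083

open TensorProduct Groth.Agent.H4.RelFP Groth.Agent.H4.RelFPBC



/-- Let `R → A` be a finite type ring map with a surjective presentation `α : R[x_1, …, x_n] → A` and
`M` an `A`-module finitely presented relative to `R` (finitely presented as an `R[x_1, …,
x_n]`-module through `α`). For a ring map `R → R'` let `A' = R' ⊗_R A` (a pushout square) and `γ :
R'[z_1, …, z_k] → A'` any surjective presentation. Then `A' ⊗_A M = R' ⊗_R M` is finitely presented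
relative to `R'`, i.e. finitely presented as an `R'[z_1, …, z_k]`-module through `γ`. -/
theorem result {R A R' A' : Type u} [CommRing R] [CommRing A] [CommRing R'] [CommRing A']
    [Algebra R A] [Algebra R R'] [Algebra A A'] [Algebra R' A'] [Algebra R A'] [IsScalarTower R A A'] [IsScalarTower R R' A']
    [Algebra.IsPushout R A R' A'] [Algebra.FiniteType R A] (M : Type u) [AddCommGroup M] [Module A M] {n k : ℕ}
    (α : MvPolynomial (Fin n) R →ₐ[R] A) (hα : Function.Surjective α)
    (hM : @Module.FinitePresentation (MvPolynomial (Fin n) R) M _ _ (Module.compHom M α.toRingHom))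
    (γ : MvPolynomial (Fin k) R' →ₐ[R'] A') (hγ : Function.Surjective γ) :
    @Module.FinitePresentation (MvPolynomial (Fin k) R') (TensorProduct A A' M) _ _
      (Module.compHom (TensorProduct A A' M) γ.toRingHom) := by
  classical
  letI : Algebra (MvPolynomial (Fin n) R) A := α.toRingHom.toAlgebra
  letI : Module (MvPolynomial (Fin n) R) M := Module.compHom M α.toRingHom
  haveI : IsScalarTower (MvPolynomial (Fin n) R) A M :=
    IsScalarTower.of_algebraMap_smul fun r m => rfl
  haveI : Module.FinitePresentation (MvPolynomial (Fin n) R) M := hM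
  letI : Algebra (MvPolynomial (Fin n) R) (MvPolynomial (Fin n) R') :=
    (MvPolynomial.map (algebraMap R R')).toAlgebra
  obtain ⟨hψ, hker⟩ := pushout_presentation (R' := R') (A' := A') α hα
  set ψ : MvPolynomial (Fin n) R' →ₐ[R'] A' :=
    MvPolynomial.aeval (fun i => algebraMap A A' (α (MvPolynomial.X i))) with hψdef
  letI : Algebra (MvPolynomial (Fin n) R') A' := ψ.toRingHom.toAlgebra
  letI : Algebra (MvPolynomial (Fin n) R) A' :=
    ((algebraMap A A').comp (algebraMap (MvPolynomial (Fin n) R) A)).toAlgebra
  haveI : IsScalarTower (MvPolynomial (Fin n) R) A A' := IsScalarTower.of_algebraMap_eq fun x => rfl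
  haveI : IsScalarTower (MvPolynomial (Fin n) R) (MvPolynomial (Fin n) R') A' := by
    refine IsScalarTower.of_algebraMap_eq fun x => ?_
    have : (algebraMap A A').comp α.toRingHom =
        ψ.toRingHom.comp (MvPolynomial.map (algebraMap R R')) := by
      apply MvPolynomial.ringHom_ext
      · intro r
        simp only [RingHom.comp_apply, AlgHom.toRingHom_eq_coe, RingHom.coe_coe, MvPolynomial.map_C]
        rw [show α (MvPolynomial.C r) = algebraMap R A r from α.commutes r,
          show ψ (MvPolynomial.C (algebraMap R R' r)) = algebraMap R' A' (algebraMap R R' r) from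
            ψ.commutes _, ← IsScalarTower.algebraMap_apply, ← IsScalarTower.algebraMap_apply]
      · intro i
        simp only [RingHom.comp_apply, AlgHom.toRingHom_eq_coe, RingHom.coe_coe, MvPolynomial.map_X]
        rw [hψdef, MvPolynomial.aeval_X]
    exact RingHom.congr_fun this x
  have key := fp_tensor_of_ker_eq (P := MvPolynomial (Fin n) R) (A := A)
    (T := MvPolynomial (Fin n) R') (A' := A') (M := M) hα hψ ⊥ Submodule.fg_bot
    (by rw [sup_bot_eq]; exact hker)
  have h1 : @Module.FinitePresentation (MvPolynomial (Fin n) R') (A' ⊗[A] M) _ _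
      (Module.compHom (A' ⊗[A] M) ψ.toRingHom) := by
    have hmod : (Module.compHom (A' ⊗[A] M) ψ.toRingHom :
        Module (MvPolynomial (Fin n) R') (A' ⊗[A] M)) =
        TensorProduct.leftModule := by
      refine Module.ext' _ _ fun t x => ?_
      show (ψ t) • x = t • x
      rw [← algebraMap_smul A' t x]
      rfl
    rw [hmod]
    exact key
  exact (fp_indep (A' ⊗[A] M) ψ hψ γ hγ).1 h1


end Groth.Agent.S12083
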