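import Groth.Statements.S7005
import Mathlib
import Groth.Agent.H4.RelFP2
import Groth.Agent.H4.RelFPBC

set_option autoImplicit false
universe u
open CAlg

namespace Groth.Agent.S7005

open TensorProduct Groth.Agent.H4.RelFP Groth.Agent.H4.RelFPBC


lemma exists_fg_ker_comp {T Q A' : Type*} [CommRing T] [CommRing Q] [CommRing A']
    (μ : T →+* Q) (hμ : Function.Surjective μ) (ψ' : Q →+* A') (h : (RingHom.ker ψ').FG) :
    ∃ J : Ideal T, J.FG ∧ RingHom.ker (ψ'.comp μ) = RingHom.ker μ ⊔ J := by
  classical
  obtain ⟨s, hs⟩ := h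
  let l : Q → T := Function.surjInv hμ
  have hl : ∀ q, μ (l q) = q := Function.surjInv_eq hμ
  refine ⟨Ideal.span (l '' s), Submodule.fg_span (s.finite_toSet.image l), ?_⟩
  have h1 : (Ideal.span (l '' (s : Set Q))).map μ = RingHom.ker ψ' := by
    rw [Ideal.map_span, ← hs, ← Set.image_comp]
    congr 1
    ext q
    simp [hl]
  rw [← RingHom.comap_ker, ← h1, Ideal.comap_map_of_surjective μ hμ, sup_comm]
  rfl

/-- Let R → A be a finite type homomorphism of commutative rings, α : R[x_1, ..., x_n] → A a surjective
R-algebra homomorphism and M an A-module which is finitely presented as an R[x_1, ..., x_n]-module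
through α. Let A → A' be a ring homomorphism of finite presentation and γ : R[z_1, ..., z_k] → A' a
surjective R-algebra homomorphism. Then A' ⊗_A M is finitely presented as an R[z_1, ..., z_k]-module
through γ. -/
theorem result {R A A' : Type u} [CommRing R] [CommRing A]
    [CommRing A'] [Algebra R A] [Algebra A A'] [Algebra R A'] [IsScalarTower R A A'] [Algebra.FiniteType R A]
    [Algebra.FinitePresentation A A'] (M : Type u) [AddCommGroup M] [Module A M] {n k : ℕ}
    (α : MvPolynomial (Fin n) R →ₐ[R] A) (hα : Function.Surjective α)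
    (hM : @Module.FinitePresentation (MvPolynomial (Fin n) R) (M) _ _ (Module.compHom (M) α.toRingHom))
    (γ : MvPolynomial (Fin k) R →ₐ[R] A') (hγ : Function.Surjective γ) :
    @Module.FinitePresentation (MvPolynomial (Fin k) R) (TensorProduct A A' M) _ _ (Module.compHom (TensorProduct A A' M) γ.toRingHom) := by
  classical
  obtain ⟨m, ψ', hψ', hJ⟩ := (inferInstance : Algebra.FinitePresentation A A').out
  letI : Algebra (MvPolynomial (Fin n) R) A := α.toRingHom.toAlgebra
  letI : Module (MvPolynomial (Fin n) R) M := Module.compHom M α.toRingHom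
  haveI : IsScalarTower (MvPolynomial (Fin n) R) A M :=
    IsScalarTower.of_algebraMap_smul fun r m => rfl
  haveI : Module.FinitePresentation (MvPolynomial (Fin n) R) M := hM
  let μ : MvPolynomial (Fin m) (MvPolynomial (Fin n) R) →ₐ[R] MvPolynomial (Fin m) A :=
    MvPolynomial.mapAlgHom α
  have hμ : Function.Surjective μ := MvPolynomial.map_surjective α.toRingHom hα
  let ψ : MvPolynomial (Fin m) (MvPolynomial (Fin n) R) →ₐ[R] A' := (ψ'.restrictScalars R).comp μ
  have hψ : Function.Surjective ψ := hψ'.comp hμ
  letI : Algebra (MvPolynomial (Fin m) (MvPolynomial (Fin n) R)) A' := ψ.toRingHom.toAlgebra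
  letI : Algebra (MvPolynomial (Fin n) R) A' :=
    ((algebraMap A A').comp (algebraMap (MvPolynomial (Fin n) R) A)).toAlgebra
  haveI : IsScalarTower (MvPolynomial (Fin n) R) A A' := IsScalarTower.of_algebraMap_eq fun x => rfl
  haveI : IsScalarTower (MvPolynomial (Fin n) R) (MvPolynomial (Fin m) (MvPolynomial (Fin n) R)) A' :=
    IsScalarTower.of_algebraMap_eq fun x => by
      show algebraMap A A' (α x) = ψ' (MvPolynomial.map α.toRingHom (MvPolynomial.C x))
      rw [MvPolynomial.map_C]
      exact (ψ'.commutes (α x)).symm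
  obtain ⟨J, hJfg, hJker⟩ := exists_fg_ker_comp μ.toRingHom hμ ψ'.toRingHom hJ
  have hkerμ : RingHom.ker μ.toRingHom = (RingHom.ker (algebraMap (MvPolynomial (Fin n) R) A)).map
      (algebraMap (MvPolynomial (Fin n) R) (MvPolynomial (Fin m) (MvPolynomial (Fin n) R))) :=
    MvPolynomial.ker_map α.toRingHom
  have key := fp_tensor_of_ker_eq (P := MvPolynomial (Fin n) R) (A := A)
    (T := MvPolynomial (Fin m) (MvPolynomial (Fin n) R)) (A' := A') (M := M) hα hψ J hJfg
    (by rw [← hkerμ]; exact hJker)
  have h1 : @Module.FinitePresentation (MvPolynomial (Fin m) (MvPolynomial (Fin n) R)) (A' ⊗[A] M) _ _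
      (Module.compHom (A' ⊗[A] M) ψ.toRingHom) := by
    have hmod : (Module.compHom (A' ⊗[A] M) ψ.toRingHom :
        Module (MvPolynomial (Fin m) (MvPolynomial (Fin n) R)) (A' ⊗[A] M)) =
        TensorProduct.leftModule := by
      refine Module.ext' _ _ fun t x => ?_
      show (ψ t) • x = t • x
      rw [← algebraMap_smul A' t x]
      rfl
    rw [hmod]
    exact key
  haveI : Algebra.FinitePresentation R (MvPolynomial (Fin m) (MvPolynomial (Fin n) R)) :=
    Algebra.FinitePresentation.trans R (MvPolynomial (Fin n) R) _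
  exact (fp_indep (A' ⊗[A] M) ψ hψ γ hγ).1 h1


end Groth.Agent.S7005
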