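import Groth.Statements.S5448
import Groth.Agent.Lib.Lead.RootD2

set_option autoImplicit false
open RootD

namespace Groth.Agent.S5448

/-- The elements of a system of simple roots (root-only sense) are indivisible, i.e. none of them is
twice a root. -/
theorem result {ι M N : Type*} [AddCommGroup M] [AddCommGroup N]
    (P : RootPairing ι ℤ M N) [Finite ι] (Δ : Set ι) (hΔ : RootD.IsSimpleSys P Δ)
    (i : ι) (hi : i ∈ Δ) : RootD.IsIndiv P i := by
  intro j hj
  obtain ⟨c, hc, hcj, -⟩ := Groth.Agent.LD.RD.IsSimpleSys.exists_coeff hΔ j
  have h : (2 : ℤ) • c = Finsupp.single i 1 := by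
    refine Groth.Agent.LD.RD.IsSimpleSys.coeff_unique hΔ ?_ ?_ ?_
    · intro l hl
      apply hc
      simp only [Finset.mem_coe, Finsupp.mem_support_iff, Finsupp.smul_apply, smul_eq_mul, ne_eq,
        mul_eq_zero, OfNat.ofNat_ne_zero, false_or] at hl ⊢
      exact hl
    · intro l hl
      have := Finsupp.support_single_subset hl
      simp only [Finset.mem_singleton] at this
      exact this ▸ hi
    · rw [map_smul, hcj]; simpa using hj
  have := DFunLike.congr_fun h i
  simp only [Finsupp.smul_apply, smul_eq_mul, Finsupp.single_eq_same] at this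
  omega

end Groth.Agent.S5448
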