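import Groth.Statements.S5495
import Groth.Agent.Lib.Lead.RootD3

set_option autoImplicit false
open RootD

namespace Groth.Agent.S5495

/-- If α is an indivisible root and kα is a root for a rational k, then k is an integer. -/
theorem result {ι M N : Type*} [AddCommGroup M] [AddCommGroup N]
    (P : RootPairing ι ℤ M N) [Finite ι] (i j : ι) (hind : RootD.IsIndiv P i) (a b : ℤ) (hb : b ≠ 0)
    (h : b • P.root j = a • P.root i) : b ∣ a := by
  have hM := Groth.Agent.LD.RD.isAddTorsionFree_left P
  set p := P.pairing j i with hp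
  set q := P.pairing i j with hq
  have e1 : b * p = a * 2 := by
    have := congrArg (P.coroot' i) h
    simpa [P.root_coroot'_eq_pairing, P.pairing_same, ← hp] using this
  have e2 : b * 2 = a * q := by
    have := congrArg (P.coroot' j) h
    simpa [P.root_coroot'_eq_pairing, P.pairing_same, ← hq] using this
  have ha : a ≠ 0 := by
    intro ha
    rw [ha, zero_smul] at h
    exact P.ne_zero j ((smul_eq_zero_iff_right hb).1 h)
  have hpq : p * q = 4 := by
    have : (a * b) * (p * q - 4) = 0 := by linear_combination a * q * e1 - 2 * a * e2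
    rcases mul_eq_zero.1 this with h' | h'
    · exact absurd h' (mul_ne_zero ha hb)
    · linarith
  have hpd : p.natAbs ∣ 4 := by
    have : p ∣ 4 := ⟨q, hpq.symm⟩
    simpa using Int.natAbs_dvd_natAbs.2 this
  have hple : p.natAbs ≤ 4 := Nat.le_of_dvd (by norm_num) hpd
  have hcases : p = 1 ∨ p = -1 ∨ p = 2 ∨ p = -2 ∨ p = 4 ∨ p = -4 := by
    have h0 : p.natAbs ≠ 0 := by
      intro h0; rw [Int.natAbs_eq_zero] at h0; rw [h0] at hpq; simp at hpq
    have h3 : p.natAbs ≠ 3 := by
      intro h3; rw [h3] at hpd; norm_num at hpd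
    omega
  rcases hcases with h' | h' | h' | h' | h' | h'
  · -- p = 1 : b = 2a, so 2 • root j = root i
    exfalso
    have hb2 : b = a * 2 := by rw [h'] at e1; linarith
    rw [hb2, mul_smul] at h
    have := smul_right_injective M ha h
    exact hind j this
  · exfalso
    have hb2 : b = a * (-2) := by rw [h'] at e1; linarith
    rw [hb2, mul_smul] at h
    have := smul_right_injective M ha h
    apply hind (P.reflectionPerm j j)
    rw [Groth.Agent.LD.RD.root_neg, ← this]; simp
  · exact ⟨1, by rw [h'] at e1; linarith⟩
  · exact ⟨-1, by rw [h'] at e1; linarith⟩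
  · exact ⟨2, by rw [h'] at e1; linarith⟩
  · exact ⟨-2, by rw [h'] at e1; linarith⟩

end Groth.Agent.S5495
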