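import Groth.Statements.S5467
import Groth.Agent.Lib.Lead.RootD2

set_option autoImplicit false
open RootD

namespace Groth.Agent.S5467

/-- For an indivisible positive non-simple root α there is a simple root β with (β^v, α) > 0 such that
s_β(α) is positive; its order relative to Δ is then smaller than that of α by (β^v, α). -/
theorem result {ι M N : Type*} [AddCommGroup M] [AddCommGroup N]
    (P : RootPairing ι ℤ M N) [Finite ι] (Δ : Set ι) (hΔ : RootD.IsSimpleSys P Δ)
    (k : ι) (hk : k ∈ RootD.posOf P Δ) (hkΔ : k ∉ Δ) (hind : RootD.IsIndiv P k) :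
    ∃ i ∈ Δ, 0 < P.pairing k i ∧ P.reflectionPerm i k ∈ RootD.posOf P Δ := by
  obtain ⟨i, hi, l, hl, hkl, hpos⟩ := Groth.Agent.LD.RD.IsSimpleSys.exists_sub_simple hΔ hk hkΔ
  refine ⟨i, hi, hpos, ?_⟩
  -- coefficients of `s_i k` are those of `k` minus `⟨k,i^∨⟩` at `i`
  have hc := Groth.Agent.LD.RD.coeff_reflectionPerm hΔ hi k
  have hck := (Groth.Agent.LD.RD.mem_posOf_iff hΔ).1 hk
  -- `k` is not a multiple of `i`: find another simple root with positive coefficient
  by_cases h : ∃ j, j ≠ i ∧ Groth.Agent.LD.RD.coeff hΔ k j ≠ 0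
  · obtain ⟨j, hj, hcj⟩ := h
    refine Groth.Agent.LD.RD.mem_posOf_of_coeff_pos hΔ (j := j) ?_
    rw [hc]
    have hs : (Finsupp.single i (P.pairing k i)) j = 0 := Finsupp.single_eq_of_ne hj
    simp only [Finsupp.coe_sub, Pi.sub_apply, hs, sub_zero]
    exact lt_of_le_of_ne (hck j) (Ne.symm hcj)
  · exfalso
    simp only [not_exists, not_and, not_not] at h
    have hc1 : Groth.Agent.LD.RD.coeff hΔ k = Finsupp.single i (Groth.Agent.LD.RD.coeff hΔ k i) := by
      ext j
      by_cases hj : j = i
      · subst hj; simp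
      · rw [Finsupp.single_eq_of_ne hj, h j hj]
    have hroot : P.root k = (Groth.Agent.LD.RD.coeff hΔ k i) • P.root i := by
      rw [← Groth.Agent.LD.RD.lc_coeff hΔ k, hc1]; simp
    -- pairing with the coroot of `k`
    have h2 : (2 : ℤ) = Groth.Agent.LD.RD.coeff hΔ k i * P.pairing i k := by
      have := congrArg (P.coroot' k) hroot
      rw [P.root_coroot'_eq_pairing, P.pairing_same, map_smul, P.root_coroot'_eq_pairing] at this
      simpa using this
    have ha0 := hck i
    have ha : Groth.Agent.LD.RD.coeff hΔ k i = 1 ∨ Groth.Agent.LD.RD.coeff hΔ k i = 2 := by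
      have hdvd : Groth.Agent.LD.RD.coeff hΔ k i ∣ 2 := ⟨_, h2⟩
      have hle := Int.le_of_dvd (by norm_num) hdvd
      have hne : Groth.Agent.LD.RD.coeff hΔ k i ≠ 0 := by
        intro h0; rw [h0] at h2; simp at h2
      omega
    rcases ha with ha | ha
    · rw [ha, one_smul] at hroot
      exact hkΔ (P.root.injective hroot ▸ hi)
    · rw [ha] at hroot
      exact hind i hroot.symm

end Groth.Agent.S5467
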