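import Groth.Statements.S5505
import Groth.Agent.Lib.Lead.RootD3

set_option autoImplicit false
open RootD

namespace Groth.Agent.S5505

/-- A subset of roots which, together with its complement, is closed and symmetric contains with any
root every root not orthogonal to it; so it is a union of irreducible components. -/
theorem result {ι M N : Type*} [AddCommGroup M] [AddCommGroup N]
    (P : RootPairing ι ℤ M N) [Finite ι] (R' : Set ι) (hc : RootD.IsClosedSub P R')
    (hs : RootD.IsSymmSub P R') (hc' : RootD.IsClosedSub P R'ᶜ) (hs' : RootD.IsSymmSub P R'ᶜ)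
    (i j : ι) (hi : i ∈ R') (hij : ¬ P.IsOrthogonal i j) : j ∈ R' := by
  by_contra hj
  -- the general step: a root of `R'ᶜ` with positive pairing against `i` gives a contradiction
  have key : ∀ l : ι, l ∉ R' → 0 < P.pairing i l → False := by
    intro l hl hpos
    have hne : i ≠ l := fun h => hl (h ▸ hi)
    obtain ⟨k, hk⟩ := Groth.Agent.LD.RD.root_sub_root_mem hpos hne
    have hsum : P.root i = P.root l + P.root k := by rw [hk]; abel
    have := Groth.Agent.LD.RD.part_aux hc' hs' hc hs (fun x hx hx' => hx hx')
      (fun x => by by_cases hx : x ∈ R'; exacts [Or.inr hx, Or.inl hx]) hsum hl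
    exact this.2 hi
  have hne0 : P.pairing i j ≠ 0 := by
    intro h0
    exact hij ⟨h0, (P.pairing_eq_zero_iff' (i := i) (j := j)).1 h0⟩
  rcases lt_or_gt_of_ne hne0 with h | h
  · refine key (P.reflectionPerm j j) (hs' hj) ?_
    rw [P.pairing_reflectionPerm_self_right]; linarith
  · exact key j hj h

end Groth.Agent.S5505
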