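import Groth.Statements.S5506
import Groth.Agent.Lib.Lead.RootD3

set_option autoImplicit false
open RootD

namespace Groth.Agent.S5506

/-- The class of a root under 'joined by a chain of pairwise non-orthogonal roots' is closed and
symmetric, and so is its complement; these classes are the irreducible components. -/
theorem result {ι M N : Type*} [AddCommGroup M] [AddCommGroup N]
    (P : RootPairing ι ℤ M N) [Finite ι] (i : ι) :
    RootD.IsClosedSub P {j : ι | Relation.ReflTransGen (fun a b : ι => ¬ P.IsOrthogonal a b) i j} ∧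
      RootD.IsSymmSub P {j : ι | Relation.ReflTransGen (fun a b : ι => ¬ P.IsOrthogonal a b) i j} ∧
      RootD.IsClosedSub P {j : ι | Relation.ReflTransGen (fun a b : ι => ¬ P.IsOrthogonal a b) i j}ᶜ ∧
      RootD.IsSymmSub P {j : ι | Relation.ReflTransGen (fun a b : ι => ¬ P.IsOrthogonal a b) i j}ᶜ := by
  have hneg : ∀ j, Relation.ReflTransGen (fun a b : ι => ¬ P.IsOrthogonal a b) i j →
      Relation.ReflTransGen (fun a b : ι => ¬ P.IsOrthogonal a b) i (P.reflectionPerm j j) :=
    fun j hj => hj.tail (Groth.Agent.LD.RD.not_isOrthogonal_neg j)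
  have hsum : ∀ a b k : ι, P.root k = P.root a + P.root b →
      P.pairing a k ≠ 0 ∨ P.pairing b k ≠ 0 := by
    intro a b k h
    have := P.pairing_eq_add_of_root_eq_add (l := k) h
    rw [P.pairing_same] at this
    by_contra hcon
    simp only [not_or, not_not] at hcon
    rw [hcon.1, hcon.2] at this
    norm_num at this
  refine ⟨?_, ?_, ?_, ?_⟩
  · intro a b k ha hb h
    rcases hsum a b k h with h' | h'
    · exact Relation.ReflTransGen.tail ha (Groth.Agent.LD.RD.not_isOrthogonal_of_pairing_ne_zero' h')
    · exact Relation.ReflTransGen.tail hb (Groth.Agent.LD.RD.not_isOrthogonal_of_pairing_ne_zero' h')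
  · intro j hj
    exact hneg j hj
  · intro a b k ha hb h hk
    rcases hsum a b k h with h' | h'
    · exact ha (Relation.ReflTransGen.tail hk (Groth.Agent.LD.RD.not_isOrthogonal_of_pairing_ne_zero h'))
    · exact hb (Relation.ReflTransGen.tail hk (Groth.Agent.LD.RD.not_isOrthogonal_of_pairing_ne_zero h'))
  · intro j hj hj'
    apply hj
    have := hneg _ hj'
    rwa [Groth.Agent.LD.RD.neg_neg_idx] at this

end Groth.Agent.S5506
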