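import Groth.Statements.S5508
import Groth.Agent.Lib.Lead.RootD5

set_option autoImplicit false
open RootPairing
open scoped Pointwise
open RootD

namespace Groth.Agent.S5508

/-- For an arbitrary (possibly non-reduced) root datum and a system of simple roots Δ in the root-only
sense: the simple reflections generate the Weyl group, and every indivisible root is conjugate under
the Weyl group to a simple root. -/
theorem result {ι M N : Type*} [AddCommGroup M] [AddCommGroup N]
    (P : RootPairing ι ℤ M N) [Finite ι] (Δ : Set ι) (hΔ : RootD.IsSimpleSys P Δ) :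
    Subgroup.closure ((fun i : ι => Equiv.reflection P i) '' Δ) = P.weylGroup ∧
      ∀ k : ι, RootD.IsIndiv P k → ∃ g : P.Aut, g ∈ P.weylGroup ∧ ∃ i ∈ Δ, g • i = k := by
  have hcl := Groth.Agent.LD.RD.IsSimpleSys.closure_reflection_eq hΔ
  refine ⟨hcl, fun k hk => ?_⟩
  rcases Groth.Agent.LD.RD.IsSimpleSys.mem_posOf_or hΔ k with h | h
  · obtain ⟨g, hg, i, hi, hgi⟩ := Groth.Agent.LD.RD.IsSimpleSys.exists_simple_conj hΔ h hk
    exact ⟨g, hcl ▸ hg, i, hi, hgi⟩
  · obtain ⟨g, hg, i, hi, hgi⟩ := Groth.Agent.LD.RD.IsSimpleSys.exists_simple_conj hΔ h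
      (Groth.Agent.LD.RD.isIndiv_neg hk)
    refine ⟨g * RootPairing.Equiv.reflection P i,
      mul_mem (hcl ▸ hg) (P.reflection_mem_weylGroup i), i, hi, ?_⟩
    rw [mul_smul, Groth.Agent.LD.RD.reflection_smul_idx, Groth.Agent.LD.RD.smul_neg_idx, hgi,
      Groth.Agent.LD.RD.neg_neg_idx]

end Groth.Agent.S5508
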