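import Groth.Statements.S0008
import Groth.Agent.Lib.Lead.Cech.Scheme

set_option autoImplicit false
universe u
open Coherent

namespace Groth.Agent.S0008

open AlgebraicGeometry in
/-- For a ring A, an A-module M and elements f_1, …, f_n generating the unit ideal, the Čech cohomology
of the associated module on Spec A with respect to the covering by the basic opens D(f_i) vanishes
in every positive degree. -/
theorem result (A : Type u) [CommRing A] (M : ModuleCat.{u} A)
    (n : ℕ) (f : ULift.{u} (Fin n) → A) (hf : Ideal.span (Set.range f) = ⊤) (p : ℕ) (hp : 0 < p) :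
    CategoryTheory.Limits.IsZero (CohB1.cechH (fun i => PrimeSpectrum.basicOpen (f i)) (tilde (R := CommRingCat.of A) M) p) := by
  obtain ⟨q, rfl⟩ := Nat.exists_eq_succ_of_ne_zero hp.ne'
  have key : ∀ (m : ℕ) (a : Fin (m+1) → ULift.{u} (Fin n)),
      (⨅ k, (PrimeSpectrum.basicOpen (f (a k)) : (Spec (CommRingCat.of A)).Opens)) =
        PrimeSpectrum.basicOpen (∏ k, f (a k)) := by
    intro m a
    ext x
    simp only [TopologicalSpace.Opens.coe_iInf, Set.mem_iInter, SetLike.mem_coe,
      PrimeSpectrum.mem_basicOpen]
    rw [x.isPrime.prod_mem_iff]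
    push Not
    simp
  refine Groth.Agent.LD.CH.isZero_cech_of_affine
    (X := Spec (CommRingCat.of A)) (fun i => PrimeSpectrum.basicOpen (f i)) ?_ ?_
    (tilde (R := CommRingCat.of A) M) q
  · intro m a
    exact (congrArg (fun V : (Spec (CommRingCat.of A)).Opens => IsAffineOpen V) (key m a)).mpr
      (AlgebraicGeometry.IsAffineOpen.Spec_basicOpen (R := CommRingCat.of A) _)
  · have : (⨆ i, (PrimeSpectrum.basicOpen (f i) : (Spec (CommRingCat.of A)).Opens)) = ⊤ :=
      (PrimeSpectrum.iSup_basicOpen_eq_top_iff).2 hf
    exact (congrArg (fun V : (Spec (CommRingCat.of A)).Opens => IsAffineOpen V) this).mpr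
      (AlgebraicGeometry.isAffineOpen_top _)

end Groth.Agent.S0008
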