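import Groth.Statements.S0010
import Groth.Agent.Lib.Lead.SC.CohDim

set_option autoImplicit false
universe u
open Coherent

namespace Groth.Agent.S0010

open AlgebraicGeometry in
/-- Let X be a scheme in which the intersection of any two affine opens is affine (equivalently, X has
affine diagonal; e.g. X separated), covered by t affine opens. Then H^n(X, F) = 0 for every
quasi-coherent F and every n ≥ t. -/
theorem result (X : Scheme.{u}) (t : ℕ) (U : Fin t → X.Opens)
    (hU : ∀ i, IsAffineOpen (U i)) (hcov : ⨆ i, U i = ⊤)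
    (hd : ∀ V W : X.Opens, IsAffineOpen V → IsAffineOpen W → IsAffineOpen (V ⊓ W))
    (M : X.Modules) [Coh.IsQCoh M] (n : ℕ) (hn : t ≤ n) :
    Subsingleton (Coh.HH X M n) := by
  classical
  rcases Nat.eq_zero_or_pos n with rfl | hpos
  · -- `t = 0`: the scheme is empty
    obtain rfl : t = 0 := Nat.le_zero.mp hn
    have htop : (⊤ : X.Opens) = ⊥ := by
      rw [← hcov]; exact iSup_of_empty _
    have hsub : Subsingleton ((Coh.toAb M).obj.obj (Opposite.op (⊤ : X.Opens))) := by
      rw [htop]; exact LD.SC.subsingleton_obj_bot (Coh.toAb M)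
    exact (CategoryTheory.Sheaf.H.equiv₀ (Coh.toAb M) CategoryTheory.Limits.isTerminalTop).toEquiv.subsingleton
  obtain ⟨p, rfl⟩ : ∃ p, n = p + 1 := ⟨n - 1, by omega⟩
  have h := LD.SC.subsingleton_ext_finset_sup M IsAffineOpen (fun _ h => h)
    (fun V W hV hW => hd V W hV hW) t (Finset.univ.image U)
    (Finset.card_image_le.trans (by rw [Finset.card_univ, Fintype.card_fin]))
    (fun W hW => by
      obtain ⟨j, -, rfl⟩ := Finset.mem_image.mp hW
      exact hU j) p hn
  have hsup : (Finset.univ.image U).sup id = ⊤ := by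
    rw [Finset.sup_image, ← hcov]
    exact Finset.sup_univ_eq_iSup _
  rw [hsup] at h
  exact LD.SC.subsingleton_H_of_subsingleton_ext (J := LD.SC.JX X)
    CategoryTheory.Limits.isTerminalTop (Coh.toAb M) (p + 1) h

end Groth.Agent.S0010
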