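import Groth.Statements.S0011
import Groth.Agent.Lib.Lead.SC.Efface

set_option autoImplicit false
universe u
open Coherent

namespace Groth.Agent.S0011

open AlgebraicGeometry CategoryTheory in
/-- On a quasi-compact scheme in which affine opens have affine intersections, every quasi-coherent
module admits a monomorphism into a quasi-coherent module whose cohomology vanishes in all positive
degrees. (Part (2), universality of the delta-functor, is not stated.) -/
theorem result (X : Scheme.{u}) [CompactSpace X]
    (hd : ∀ V W : X.Opens, IsAffineOpen V → IsAffineOpen W → IsAffineOpen (V ⊓ W))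
    (M : X.Modules) [Coh.IsQCoh M] :
    ∃ (M' : X.Modules) (i : M ⟶ M'), Mono i ∧ Coh.IsQCoh M' ∧
      ∀ p : ℕ, 0 < p → Subsingleton (Coh.HH X M' p) := by
  obtain ⟨M', i, hi, hq, hac⟩ := LD.SC.exists_mono_acyclic hd M
  refine ⟨M', i, hi, hq, fun p hp => ?_⟩
  obtain ⟨q, rfl⟩ := Nat.exists_eq_succ_of_ne_zero hp.ne'
  exact LD.SC.subsingleton_H_of_subsingleton_ext (J := LD.SC.JX X) CategoryTheory.Limits.isTerminalTop
    (Coh.toAb M') (q + 1) (hac q)

end Groth.Agent.S0011
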