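import Groth.Statements.S0013
import Groth.Agent.Lib.Lead.Cech.Leray
import Groth.Agent.Lib.Lead.SC.Affine
import Groth.Agent.Lib.Lead.SC.Global

set_option autoImplicit false
universe u
open Coherent

namespace Groth.Agent.S0013

open AlgebraicGeometry in
/-- Let X be a scheme with an open covering all of whose nonempty finite intersections are affine. For a
quasi-coherent module M and every degree p, Čech cohomology with respect to this covering is
isomorphic to sheaf cohomology; only the existence of an isomorphism of additive groups is asserted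
(the published statement gives an isomorphism of modules over the global sections). -/
theorem result (X : Scheme.{u}) {ι : Type u}
    (U : ι → X.Opens) (hcov : ⨆ i, U i = ⊤)
    (hU : ∀ s : Finset ι, s.Nonempty → IsAffineOpen (⨅ i ∈ s, U i))
    (M : X.Modules) [Coh.IsQCoh M] (p : ℕ) :
    Nonempty (↑(CohB1.cechH U M p) ≃+ Coh.HH X M p) := by
  classical
  have haff : ∀ (n : ℕ) (a : Fin (n+1) → ι), IsAffineOpen (CategoryTheory.Limits.piObj (U ∘ a) : X.Opens) := by
    intro n a
    rw [Groth.Agent.LD.CH.prod_eq_iInf (X := X.toTopCat) U a]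
    have h1 := hU (Finset.univ.image a) ⟨a 0, Finset.mem_image_of_mem a (Finset.mem_univ 0)⟩
    have h2 : (⨅ i ∈ Finset.univ.image a, U i) = ⨅ k, U (a k) := by
      apply le_antisymm
      · exact le_iInf fun k => iInf₂_le (a k) (Finset.mem_image_of_mem a (Finset.mem_univ k))
      · refine le_iInf₂ fun i hi => ?_
        obtain ⟨k, _, rfl⟩ := Finset.mem_image.1 hi
        exact iInf_le _ k
    rw [← h2]
    exact h1
  have h' : ∀ (n : ℕ) (a : Fin (n+1) → ι) (q : ℕ),
      Subsingleton (CategoryTheory.Abelian.Ext (Groth.Agent.LD.SC.ZU (Groth.Agent.LD.SC.JX X)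
        (CategoryTheory.Limits.piObj (U ∘ a))) (Coh.toAb M) (q+1)) :=
    fun n a q => Groth.Agent.LD.SC.subsingleton_ext_of_isAffineOpen M q _ (haff n a)
  obtain ⟨e⟩ := Groth.Agent.LD.CH.leray (X := X.toTopCat) U (Coh.toAb M) h' p
  have e1 := Groth.Agent.LD.SC.HEquiv (J := Groth.Agent.LD.SC.JX X)
    CategoryTheory.Limits.isTerminalTop (Coh.toAb M) p
  have hc : iSup U = (⊤ : X.Opens) := hcov
  rw [hc] at e
  exact ⟨e.trans e1.symm⟩

end Groth.Agent.S0013
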