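import Groth.Statements.S0014
import Groth.Agent.Lib.Lead.SC.SerreSpan
import Groth.Agent.Lib.Lead.CohLES.H0

set_option autoImplicit false
universe u
open Coherent

namespace Groth.Agent.S0014

open AlgebraicGeometry CategoryTheory in
/-- If X is quasi-compact and quasi-separated and H^1 vanishes for every quasi-coherent submodule of
finite type of the structure sheaf, then X is affine. -/
theorem result (X : Scheme.{u}) [CompactSpace X]
    [QuasiSeparatedSpace X]
    (h : ∀ (I : X.Modules) (i : I ⟶ Coh.structureModule X), Mono i →
      Coh.IsQCoh I → CohB1.IsFT I → Subsingleton (Coh.HH X I 1)) : IsAffine X := by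
  classical
  apply Groth.Agent.LD.SC.isAffine_of_surjective_cokernel
  intro I i hi hI
  haveI := hi
  apply Groth.Agent.LD.SC.surjective_cokernel_of_finiteType _ I i hI
  intro I' i' hi' hI' hF'
  haveI := hi'
  let S : CategoryTheory.ShortComplex X.Modules :=
    CategoryTheory.ShortComplex.mk i' (CategoryTheory.Limits.cokernel.π i')
      (CategoryTheory.Limits.cokernel.condition i')
  have hS : S.ShortExact :=
    { exact := CategoryTheory.ShortComplex.exact_of_g_is_cokernel S
        (CategoryTheory.Limits.cokernelIsCokernel _)
      mono_f := hi'
      epi_g := inferInstanceAs (CategoryTheory.Epi (CategoryTheory.Limits.cokernel.π i')) }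
  haveI : Subsingleton (Coh.HH X I' 1) := h I' i' hi' hI' hF'
  exact Groth.Agent.LD.CL.surjective_app_top_of_injective hS
    (fun a b _ => Subsingleton.elim a b)

end Groth.Agent.S0014
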