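import Groth.Statements.S0015
-- import your own Groth.Agent.* helpers here

set_option autoImplicit false
universe u
open Coherent

namespace Groth.Agent.S0015

open AlgebraicGeometry CategoryTheory in
/-- Two affine opens inside a common affine open have affine intersection. -/
theorem inf_affine_of_le_affine {X : Scheme.{u}} {V U₁ U₂ : X.Opens} (hV : IsAffineOpen V)
    (h₁ : U₁ ≤ V) (h₂ : U₂ ≤ V) (hU₁ : IsAffineOpen U₁) (hU₂ : IsAffineOpen U₂) :
    IsAffineOpen (U₁ ⊓ U₂) := by
  have : IsAffineHom (Limits.pullback.diagonal (𝟙 X)) := inferInstance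
  exact isAffineHom_diagonal_iff.mp this V hV U₁ (by simpa using h₁) U₂ (by simpa using h₂) hU₁ hU₂

open AlgebraicGeometry in
/-- Step 1: finite unions of affine opens contained in a fixed affine open. -/
theorem step1 (X : Scheme.{u})
    (P : X.Opens → Prop) (h₁ : ∀ U : X.Opens, IsAffineOpen U → P U)
    (h₂ : ∀ U V : X.Opens, IsCompact (U : Set X) → IsAffineOpen V → P U → P V → P (U ⊓ V) →
      P (U ⊔ V))
    (V : X.Opens) (hV : IsAffineOpen V) :
    ∀ (n : ℕ) (s : Finset X.Opens), s.card ≤ n → (∀ U ∈ s, IsAffineOpen U ∧ U ≤ V) →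
      P (s.sup id) := by
  intro n
  induction n with
  | zero =>
    intro s hs _
    have : s = ∅ := by simpa using hs
    subst this
    simpa using h₁ ⊥ (isAffineOpen_bot X)
  | succ n ih =>
    intro s hs hsV
    classical
    rcases s.eq_empty_or_nonempty with rfl | ⟨x, hx⟩
    · simpa using h₁ ⊥ (isAffineOpen_bot X)
    · obtain ⟨t, hxt, rfl⟩ : ∃ t, x ∉ t ∧ s = insert x t :=
        ⟨s.erase x, Finset.notMem_erase x s, (Finset.insert_erase hx).symm⟩
      rw [Finset.card_insert_of_notMem hxt] at hs
      have htn : t.card ≤ n := by omega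
      have hxV := hsV x (Finset.mem_insert_self x t)
      have htV : ∀ U ∈ t, IsAffineOpen U ∧ U ≤ V := fun U hU =>
        hsV U (Finset.mem_insert_of_mem hU)
      rw [Finset.sup_insert, sup_comm]
      have hcompact : IsCompact ((t.sup id : X.Opens) : Set X) := by
        rw [Finset.sup_eq_iSup]
        have : (((⨆ a ∈ t, id a : X.Opens)) : Set X) = ⋃ a ∈ t, (a : Set X) := by
          simp
        rw [this]
        exact t.finite_toSet.isCompact_biUnion fun U hU => (htV U hU).1.isCompact
      refine h₂ _ _ hcompact hxV.1 (ih t htn htV) (h₁ _ hxV.1) ?_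
      have : (t.sup id) ⊓ id x = (t.image (fun U => U ⊓ x)).sup id := by
        rw [Finset.sup_image, Finset.sup_inf_distrib_right]
        rfl
      rw [this]
      refine ih _ (Finset.card_image_le.trans htn) ?_
      intro U hU
      obtain ⟨W, hW, rfl⟩ := Finset.mem_image.mp hU
      exact ⟨inf_affine_of_le_affine hV (htV W hW).2 hxV.2 (htV W hW).1 hxV.1,
        inf_le_right.trans hxV.2⟩

open AlgebraicGeometry in
/-- Let X be quasi-compact and quasi-separated and P a property of opens of X. If P holds for affine
opens, and P(U ∪ V) follows from P(U), P(V), P(U ∩ V) whenever U is quasi-compact open and V affine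
open, then P holds for every quasi-compact open, in particular for X. -/
theorem result (X : Scheme.{u}) [CompactSpace X] [QuasiSeparatedSpace X]
    (P : X.Opens → Prop) (h₁ : ∀ U : X.Opens, IsAffineOpen U → P U)
    (h₂ : ∀ U V : X.Opens, IsCompact (U : Set X) → IsAffineOpen V → P U → P V → P (U ⊓ V) →
      P (U ⊔ V))
    (U : X.Opens) (hU : IsCompact (U : Set X)) : P U := by
  -- every compact open inside an affine open satisfies `P`
  have key : ∀ (V W : X.Opens), IsAffineOpen V → W ≤ V → IsCompact (W : Set X) → P W := by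
    intro V W hV hWV hW
    obtain ⟨s, hs, rfl⟩ := isCompact_iff_finite_and_eq_biUnion_affineOpens.mp hW
    classical
    have hfin := hs.toFinset
    let t : Finset X.Opens := hs.toFinset.image (fun i : X.affineOpens => (i : X.Opens))
    have ht : (⨆ i ∈ s, (i : X.Opens)) = t.sup id := by
      rw [Finset.sup_image, Finset.sup_eq_iSup]
      simp
    rw [ht]
    refine step1 X P h₁ h₂ V hV t.card t le_rfl ?_
    intro U hU
    obtain ⟨i, hi, rfl⟩ := Finset.mem_image.mp hU
    refine ⟨i.2, le_trans ?_ hWV⟩
    exact le_biSup (fun i : X.affineOpens => (i : X.Opens)) (by simpa using hi)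
  refine compact_open_induction_on (P := P) U hU (h₁ ⊥ (isAffineOpen_bot X)) ?_
  intro S hS V hPS
  refine h₂ S V hS V.2 hPS (h₁ V V.2) ?_
  refine key V (S ⊓ V) V.2 inf_le_right ?_
  exact QuasiSeparatedSpace.inter_isCompact S.1 V.1 S.2 hS V.1.2 V.2.isCompact

end Groth.Agent.S0015
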