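import Groth.Statements.S0022
import Groth.Agent.Lib.Lead.SC.CohDim
import Mathlib.AlgebraicGeometry.ProjectiveSpectrum.Proper

set_option autoImplicit false
universe u
open Coherent

namespace Groth.Agent.S0022

open AlgebraicGeometry in
/-- For any ring R, any quasi-coherent module F on projective space ℙ^n_R and any i > n, H^i(ℙ^n_R, F) =
0. (The published statement is for coherent modules over a Noetherian ring; it is stated here for
quasi-coherent modules over any ring.) -/
theorem result (n : ℕ) (R : Type u) [CommRing R]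
    (M : (CohB1.ProjSpace n R).Modules) [Coh.IsQCoh M] (i : ℕ) (hi : n < i) :
    Subsingleton (Coh.HH (CohB1.ProjSpace n R) M i) := by
  classical
  obtain ⟨p, rfl⟩ : ∃ p, i = p + 1 := ⟨i - 1, by omega⟩
  let 𝒜 := CohB1.polyGrading n R
  let D : Fin (n + 1) → (CohB1.ProjSpace n R).Opens := fun j => Proj.basicOpen 𝒜 (MvPolynomial.X j)
  have hAff : ∀ j, IsAffineOpen (D j) := fun j =>
    Proj.isAffineOpen_basicOpen 𝒜 (MvPolynomial.X j) (m := 1)
      (MvPolynomial.isHomogeneous_X R j) Nat.one_pos
  have hcov : ⨆ j, D j = ⊤ := by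
    apply Proj.iSup_basicOpen_eq_top' 𝒜 (fun j : Fin (n + 1) => (MvPolynomial.X j : MvPolynomial (Fin (n + 1)) R))
    · intro j; exact ⟨1, MvPolynomial.isHomogeneous_X R j⟩
    · rw [eq_top_iff]
      intro q _
      induction q using MvPolynomial.induction_on with
      | C a =>
        have h0 : (MvPolynomial.C a : MvPolynomial (Fin (n + 1)) R) ∈ 𝒜 0 :=
          MvPolynomial.isHomogeneous_C _ a
        exact Subalgebra.algebraMap_mem _ (⟨_, h0⟩ : 𝒜 0)
      | add q q' hq hq' => exact Subalgebra.add_mem _ (hq trivial) (hq' trivial)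
      | mul_X q j hq =>
        exact Subalgebra.mul_mem _ (hq trivial) (Algebra.subset_adjoin (Set.mem_range_self j))
  haveI : (CohB1.ProjSpace n R).IsSeparated := inferInstanceAs (Proj 𝒜).IsSeparated
  have key := LD.SC.subsingleton_HH_of_affine_cover (CohB1.ProjSpace n R) M (Finset.univ.image D)
    (fun W hW => by
      obtain ⟨j, -, rfl⟩ := Finset.mem_image.mp hW
      exact hAff j)
    (by
      rw [Finset.sup_image, ← hcov]
      exact (Finset.sup_univ_eq_iSup _))
    p (by
      refine Finset.card_image_le.trans ?_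
      rw [Finset.card_univ, Fintype.card_fin]
      omega)
  exact key

end Groth.Agent.S0022
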