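import Groth.Statements.S0026
import Groth.Agent.Lib.Lead.GS.Chain

set_option autoImplicit false
universe u
open Coherent

namespace Groth.Agent.S0026

open AlgebraicGeometry CategoryTheory CategoryTheory.Limits in
/-- On a Noetherian scheme X, every coherent module M admits a finite chain 0 = F_0 → F_1 → … → F_m ≅ M
of monomorphisms between coherent modules such that each quotient F_{j+1}/F_j is isomorphic to the
direct image of a nonzero quasi-coherent ideal sheaf of some integral closed subscheme Z_j → X.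
(Filtration written as a chain of monomorphisms up to isomorphism.) -/
theorem result (X : Scheme.{u}) [IsNoetherian X]
    (M : X.Modules) (hM : Coh.IsCoh M) :
    ∃ (m : ℕ) (F : ℕ → X.Modules) (φ : (j : ℕ) → (F j ⟶ F (j + 1))),
      IsZero (F 0) ∧ Nonempty (F m ≅ M) ∧ (∀ j ≤ m, Coh.IsCoh (F j)) ∧ ∀ j < m, Mono (φ j) ∧
        ∃ (Z : Scheme.{u}) (i : Z ⟶ X), IsClosedImmersion i ∧ IsIntegral Z ∧
          ∃ (I : Z.Modules) (ι : I ⟶ Coh.structureModule Z), Mono ι ∧ Coh.IsQCoh I ∧ ¬ IsZero I ∧
            Nonempty (cokernel (φ j) ≅ (Coh.push i).obj I) := by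
  classical
  have key : Groth.Agent.LD.GS.Chain M := by
    refine Groth.Agent.LD.QC.devissage_master Groth.Agent.LD.GS.Chain
      (fun A B e _ hA => hA.of_iso e) Set.univ
      (fun Z hZ => Groth.Agent.LD.GS.Chain.zero Z hZ (Groth.Agent.LD.QC.isCoh_of_isZero hM hZ))
      (fun S hS h1 h2 h3 _ p1 p3 => Groth.Agent.LD.GS.Chain.ext S hS h2 p1 p3) ?_ M hM
      (Set.subset_univ _)
    intro Y hYc hYirr _ IH Q hQ hQY
    obtain ⟨ξ, hξ⟩ := QuasiSober.sober hYirr hYc
    have hξcl : closure {ξ} = Y := hξ.def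
    have hξY : ξ ∈ Y := hξcl ▸ subset_closure rfl
    have hQ0 : ¬ CategoryTheory.Limits.IsZero Q := by
      intro hz
      have := Groth.Agent.LD.QC.support_eq_empty_of_isZero hz
      rw [hQY] at this
      exact hYirr.nonempty.ne_empty this
    let Yc : TopologicalSpace.Closeds X := ⟨Y, hYc⟩
    let I := Scheme.IdealSheafData.vanishingIdeal Yc
    have hGc : Coh.IsCoh (ClSub.quotMod I) := Groth.Agent.LD.QC.isCoh_quotMod I
    have hGs : CohB1.support (ClSub.quotMod I) = Y := by
      rw [Groth.Agent.LD.QC.support_quotMod, Scheme.IdealSheafData.coe_support_vanishingIdeal]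
      rfl
    obtain ⟨G', ι, ψ, hι, hG', hψ⟩ := Groth.Agent.LD.QC.exists_sub_nonzero_hom (ClSub.quotMod I) Q
      hGc.1 hQ.1 hQ.2 hQ0 (by rw [hQY, hGs])
    haveI := hι
    haveI : G'.IsQuasicoherent := hG'
    have hG'c : Coh.IsCoh G' := Groth.Agent.LD.QC.isCoh_of_mono ι hG' hGc
    by_cases hk : CategoryTheory.Limits.IsZero (CategoryTheory.Limits.kernel ψ)
    · haveI : Mono ψ := CategoryTheory.Preadditive.mono_of_isZero_kernel ψ hk
      obtain ⟨T, ιT, hιT, hT, ⟨e⟩⟩ := Groth.Agent.LD.QC.exists_ideal_of_sub_quotMod I G' ι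
      have hG'0 : ¬ CategoryTheory.Limits.IsZero G' := fun hz => hψ (hz.eq_of_src _ _)
      refine ⟨G', ψ, inferInstance, hG'c, hG'0, ?_⟩
      refine Groth.Agent.LD.GS.Chain.of_piece hG'c ?_
      refine ⟨Groth.Agent.LD.QC.redSub Yc, Groth.Agent.LD.QC.redSubι Yc, inferInstance,
        Groth.Agent.LD.QC.isIntegral_redSub Yc hYirr, T, ιT, hιT, hT, ?_, ⟨e.symm⟩⟩
      intro hz
      exact hG'0 (((Coh.push (Groth.Agent.LD.QC.redSubι Yc)).map_isZero hz).of_iso e.symm)
    · have hKq : (CategoryTheory.Limits.kernel ψ).IsQuasicoherent :=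
        Groth.Agent.LD.QC.qc_kernel ψ hG' hQ.1
      haveI := hKq
      have hnot := Groth.Agent.LD.QC.notMem_support_cokernel_of_sub_quotMod Yc ξ hξcl
        (CategoryTheory.Limits.kernel ψ) G' (CategoryTheory.Limits.kernel.ι ψ) ι hk
      have hNc : Coh.IsCoh (CategoryTheory.Abelian.image ψ) :=
        Groth.Agent.LD.QC.isCoh_kernel _ hQ (Groth.Agent.LD.QC.isCoh_cokernel ψ hG'c hQ)
      have hsuppN : CohB1.support (CategoryTheory.Abelian.image ψ) =
          CohB1.support (CategoryTheory.Limits.cokernel (CategoryTheory.Limits.kernel.ι ψ)) :=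
        (Groth.Agent.LD.QC.support_eq_of_iso (CategoryTheory.Abelian.coimageIsoImage ψ)).symm
      refine ⟨CategoryTheory.Abelian.image ψ, CategoryTheory.Abelian.image.ι ψ, inferInstance, hNc, ?_, ?_⟩
      · intro hz
        apply hψ
        rw [← CategoryTheory.Abelian.image.fac ψ,
          hz.eq_of_tgt (CategoryTheory.Abelian.factorThruImage ψ) 0, CategoryTheory.Limits.zero_comp]
      · refine IH _ hNc ?_ ?_
        · rw [← hQY]
          exact Groth.Agent.LD.QC.support_subset_of_mono (CategoryTheory.Abelian.image.ι ψ)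
        · intro h
          apply hnot
          rw [← hsuppN, h]
          exact hξY
  exact key.exists_family

end Groth.Agent.S0026
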