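import Groth.Statements.S0028
import Groth.Agent.Lib.Lead.SC.RPush
import Groth.Agent.Lib.Lead.SC.Affine

set_option autoImplicit false
universe u
open Coherent

namespace Groth.Agent.S0028

open AlgebraicGeometry CategoryTheory in
/-- If f : X → S is an affine morphism and F is a quasi-coherent O_X-module, then R^i f_* F = 0 for all
i > 0 (higher direct images of the underlying abelian sheaf). -/
theorem result {X S : Scheme.{u}} (f : X ⟶ S) [IsAffineHom f]
    (M : X.Modules) [Coh.IsQCoh M] (i : ℕ) (hi : 0 < i) :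
    Limits.IsZero ((Coh.RpushAb f i).obj (Coh.toAb M)) := by
  obtain ⟨p, rfl⟩ : ∃ p, i = p + 1 := ⟨i - 1, by omega⟩
  exact LD.SC.isZero_rightDerived_push f.base {V : S.Opens | AlgebraicGeometry.IsAffineOpen V}
    (AlgebraicGeometry.Scheme.isBasis_affineOpens S) 0
    (fun V hV j _ => LD.SC.subsingleton_ext_of_isAffineOpen M j (f ⁻¹ᵁ V)
      (AlgebraicGeometry.IsAffineOpen.preimage hV f)) p (Nat.zero_le _)

end Groth.Agent.S0028
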