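import Groth.Statements.S0048
import Groth.Agent.Lib.Lead.QCQS.PushSupp

set_option autoImplicit false
universe u
open Coherent

namespace Groth.Agent.S0048

open AlgebraicGeometry in
/-- Let U ⊆ X be open and T ⊆ U a subset closed in X. If F is a coherent (quasi-coherent of finite type,
i.e. `Coh.IsCoh`) module on U with support contained in T, then its direct image along U ↪ X is
again coherent in the same sense. (The published statement is for coherent modules in the usual
sense; here both hypothesis and conclusion use the notion `Coh.IsCoh`.) -/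
theorem result (X : Scheme.{u}) (U : X.Opens) (T : Set X)
    (hT : IsClosed T) (hTU : T ⊆ (U : Set X)) (F : (↑U : Scheme.{u}).Modules) (hF : Coh.IsCoh F)
    (hs : ∀ x : ↥U, x ∈ CohB1.support F → (x : X) ∈ T) : Coh.IsCoh ((Coh.push U.ι).obj F) := by
  have hs' : ∀ x : ↥U, ¬ Subsingleton (F.presheaf.stalk x) → (x : X) ∈ T := fun x hx => hs x hx
  exact ⟨LD.QCQS.qc_push_of_support U T hT hTU F hF.1 hs',
    LD.QCQS.ft_push_of_support U T hT hTU F hF.1 hF.2 hs'⟩

end Groth.Agent.S0048
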