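import Groth.Statements.S0051
import Groth.Agent.Lib.Lead.PN.AmpleSerre
import Groth.Agent.Lib.Lead.SC.AmpleCrit
import Groth.Agent.Lib.Lead.QC.SerreSupp

set_option autoImplicit false
universe u
open Coherent

namespace Groth.Agent.S0051

open AlgebraicGeometry CategoryTheory in
/-- Let R be Noetherian, X → Spec R proper and L invertible on X. Then L is ample if and only if for
every coherent F there is n₀ with H^p(X, F ⊗ L^{⊗n}) = 0 for all n ≥ n₀ and p > 0. -/
theorem result (R : Type u) [CommRing R] [IsNoetherianRing R]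
    (X : Scheme.{u}) (f : X ⟶ Spec (CommRingCat.of R)) [IsProper f] (L : X.Modules)
    (hL : PicF.IsInvertible L) :
    CohB1.IsAmple L ↔ ∀ (M : X.Modules), Coh.IsCoh M → ∃ n₀ : ℕ, ∀ n : ℕ, n₀ ≤ n → ∀ p : ℕ, 0 < p →
      Subsingleton (Coh.HH X (CohB1.tensorMod M (CohB1.tensorPow L n)) p) := by
  haveI : IsLocallyNoetherian X := LocallyOfFiniteType.isLocallyNoetherian f
  haveI : CompactSpace X := QuasiCompact.compactSpace_of_compactSpace f
  constructor
  · intro hA M hM
    obtain ⟨n₀, hn₀⟩ := (Groth.Agent.H5.VAmple.ample_iff_some_power_veryAmple f L hL).2 hA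
    obtain ⟨k, i, hi, hcomp, ⟨e⟩⟩ := hn₀ (max n₀ 1) (le_max_left _ _)
    haveI := hi
    haveI := Groth.Agent.H5.AG.isProper_toBase k (Spec (CommRingCat.of R))
    have hcomp' : i ≫ CohB1.ProjSpaceOver.toBase k (Spec (CommRingCat.of R)) = f := hcomp
    haveI : IsProper (i ≫ CohB1.ProjSpaceOver.toBase k (Spec (CommRingCat.of R))) := by
      rw [hcomp']; infer_instance
    haveI := Groth.Agent.LD.PN.AmS.isClosedImmersion_of_comp_proper i
      (CohB1.ProjSpaceOver.toBase k (Spec (CommRingCat.of R)))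
    have e' : CohB1.tensorPow L (max n₀ 1) ≅
        (Scheme.Modules.pullback (i ≫ (Groth.Agent.LD.PN.OB.bridge k R).inv)).obj
          (Twist.twist (CohB1.polyGrading k R) 1) :=
      e ≪≫ (Scheme.Modules.pullback i).mapIso
          (Groth.Agent.LD.PN.AmS.bridgeTwistIsoInv k R 1).symm ≪≫
        (Scheme.Modules.pullbackComp i (Groth.Agent.LD.PN.OB.bridge k R).inv).app _
    exact Groth.Agent.LD.PN.AmS.serre_vanishing_veryAmple k R
      (i ≫ (Groth.Agent.LD.PN.OB.bridge k R).inv) L hL (max n₀ 1)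
      (lt_of_lt_of_le Nat.one_pos (le_max_right _ _)) e' M hM
  · intro h
    apply Groth.Agent.LD.SC.isAmple_of_h1Zero L hL
    intro I ι hmono hqc
    haveI := hmono
    have hcoh : Coh.IsCoh I := Groth.Agent.LD.QC.isCoh_of_mono ι hqc
      ⟨Groth.Agent.LD.QC.qc_of_isInvertible _ (Groth.Agent.LD.QC.isInvertible_unit X),
        Groth.Agent.LD.QC.isFiniteType_of_isInvertible _ (Groth.Agent.LD.QC.isInvertible_unit X)⟩
    obtain ⟨n₀, hn₀⟩ := h I hcoh
    exact ⟨n₀, Groth.Agent.LD.SC.h1Zero_of_HH _ (hn₀ (n₀ + 1) (Nat.le_succ _) 1 Nat.one_pos)⟩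

end Groth.Agent.S0051
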