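import Groth.Statements.S0063
-- import your own Groth.Agent.* helpers here

set_option autoImplicit false
open CategoryTheory CategoryTheory.Limits AlgebraicGeometry Opposite
universe u
open EtBase

namespace Groth.Agent.S0063

set_option backward.isDefEq.respectTransparency false in
/-- The equalizer of two maps into an unramified (locally of finite type) object is an open
immersion. -/
theorem isOpenImmersion_equalizer_ι_left {S : Scheme.{u}} {X Y : Over S}
    [FormallyUnramified Y.hom] [LocallyOfFiniteType Y.hom]
    (f g : X ⟶ Y) : IsOpenImmersion (equalizer.ι f g).left := by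
  refine MorphismProperty.of_isPullback
    ((Limits.isPullback_equalizer_prod f g).map (Over.forget _)).flip ?_
  rw [← MorphismProperty.cancel_right_of_respectsIso @IsOpenImmersion _
    (Over.prodLeftIsoPullback Y Y).hom]
  convert! (inferInstance : IsOpenImmersion (pullback.diagonal Y.hom))
  ext1 <;> simp [← Over.comp_left]

/-- Rigidity of maps into an unramified separated scheme — two maps from a connected scheme over the
base that agree at one point, including on residue fields, coincide. -/
theorem result {X S Y : Scheme.{u}} (π : X ⟶ S)
    [FormallyUnramified π] [LocallyOfFiniteType π] [IsSeparated π]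
    (h : Y ⟶ S) [ConnectedSpace Y] (f g : Y ⟶ X) (hf : f ≫ π = h) (hg : g ≫ π = h)
    (y : Y) (hy : Y.fromSpecResidueField y ≫ f = Y.fromSpecResidueField y ≫ g) : f = g := by
  let X' : Over S := Over.mk (f ≫ π)
  let Y' : Over S := Over.mk π
  let f' : X' ⟶ Y' := Over.homMk f
  let g' : X' ⟶ Y' := Over.homMk g (by simp [X', Y', hf, hg])
  have hsep : IsSeparated Y'.hom := ‹_›
  have hunr : FormallyUnramified Y'.hom := ‹_›
  have hlft : LocallyOfFiniteType Y'.hom := ‹_›
  have hclosed : IsClosedImmersion (equalizer.ι f' g').left := inferInstance
  have hopen : IsOpenImmersion (equalizer.ι f' g').left :=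
    isOpenImmersion_equalizer_ι_left f' g'
  have hrange : Set.range (equalizer.ι f' g').left = (Set.univ : Set Y) := by
    have hclopen : IsClopen (Set.range (equalizer.ι f' g').left : Set Y) :=
      ⟨(Scheme.Hom.isClosedEmbedding _).isClosed_range,
        (Scheme.Hom.isOpenEmbedding _).isOpen_range⟩
    have hconn : PreconnectedSpace ↥X'.left := (inferInstance : PreconnectedSpace Y)
    refine IsClopen.eq_univ hclopen ?_
    let ι' : Over.mk (Y.fromSpecResidueField y ≫ f ≫ π) ⟶ X' :=
      Over.homMk (Y.fromSpecResidueField y)
    have hι : ι' ≫ f' = ι' ≫ g' := by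
      ext1
      exact hy
    refine ⟨y, ⟨(equalizer.lift ι' hι).left (default : ↥(Spec (Y.residueField y))), ?_⟩⟩
    rw [← Scheme.Hom.comp_apply, ← Over.comp_left, equalizer.lift_ι]
    exact Scheme.fromSpecResidueField_apply _ _
  have : IsIso (equalizer.ι f' g').left :=
    isIso_of_isOpenImmersion_of_opensRange_eq_top _ (TopologicalSpace.Opens.ext hrange)
  rw [← cancel_epi (equalizer.ι f' g').left]
  exact congr($(equalizer.condition f' g').left)

end Groth.Agent.S0063
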