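import Groth.Statements.S0064
import Mathlib

set_option autoImplicit false
open CategoryTheory CategoryTheory.Limits AlgebraicGeometry Opposite
universe u
open EtBase

namespace Groth.Agent.S0064

open TopologicalSpace in
/-- a Noetherian space has finitely many clopen subsets. -/
theorem finite_clopens_of_noetherianSpace (T : Type*) [TopologicalSpace T] [NoetherianSpace T] :
    Finite (Clopens T) := by
  haveI : Finite ↥(irreducibleComponents T) :=
    Set.finite_coe_iff.mpr NoetherianSpace.finite_irreducibleComponents
  let G : Clopens T → Set ↥(irreducibleComponents T) := fun C => {Z | Z.1 ⊆ (C : Set T)}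
  refine Finite.of_injective G ?_
  intro C C' hCC'
  have key : ∀ D : Clopens T, (D : Set T) = ⋃ Z ∈ G D, Z.1 := by
    intro D
    apply Set.Subset.antisymm
    · intro x hx
      have hZ : irreducibleComponent x ⊆ (D : Set T) :=
        isIrreducible_irreducibleComponent.2.isPreconnected.subset_isClopen D.isClopen
          ⟨x, mem_irreducibleComponent, hx⟩
      exact Set.mem_biUnion (x := ⟨irreducibleComponent x,
        irreducibleComponent_mem_irreducibleComponents x⟩) hZ mem_irreducibleComponent
    · exact Set.iUnion₂_subset fun Z hZ => hZ
  apply SetLike.coe_injective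
  rw [key C, key C', hCC']

/-- sections of a separated unramified morphism are open and closed immersions. -/
theorem isOpenImmersion_section {P Y : Scheme.{u}} (p : P ⟶ Y) [FormallyUnramified p]
    [LocallyOfFiniteType p] (s : Y ⟶ P) (hs : s ≫ p = 𝟙 Y) : IsOpenImmersion s := by
  have hle : (@FormallyUnramified ⊓ @LocallyOfFiniteType : MorphismProperty Scheme.{u}) ≤
      MorphismProperty.diagonal @IsOpenImmersion := by
    intro A B f ⟨h1, h2⟩
    haveI : FormallyUnramified f := h1
    haveI : LocallyOfFiniteType f := h2
    exact (inferInstance : IsOpenImmersion (pullback.diagonal f))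
  haveI := (MorphismProperty.hasOfPostcompProperty_iff_le_diagonal
    (P := @IsOpenImmersion)).mpr hle
  refine MorphismProperty.of_postcomp (W := @IsOpenImmersion)
    (W' := (@FormallyUnramified ⊓ @LocallyOfFiniteType : MorphismProperty Scheme.{u})) s p
    ⟨inferInstance, inferInstance⟩ ?_
  rw [hs]
  exact (inferInstance : IsOpenImmersion (𝟙 Y))

/-- Let S be a Noetherian scheme, X → S a quasi-compact, separated, unramified morphism (formally
unramified and locally of finite type), and Y a Noetherian scheme with a morphism Y → S. Then there
are only finitely many S-morphisms Y → X. The published statement does not assume X → S separated;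
it is stated here in the separated case. -/
theorem result {X S Y : Scheme.{u}} [IsNoetherian S] [IsNoetherian Y]
    (π : X ⟶ S) [FormallyUnramified π] [LocallyOfFiniteType π] [QuasiCompact π] [IsSeparated π]
    (h : Y ⟶ S) : Set.Finite {f : Y ⟶ X | f ≫ π = h} := by
  let p : pullback π h ⟶ Y := pullback.snd π h
  haveI : FormallyUnramified p := MorphismProperty.pullback_snd _ _ inferInstance
  haveI : LocallyOfFiniteType p := inferInstance
  haveI : QuasiCompact p := inferInstance
  haveI : IsSeparated p := inferInstance
  haveI : IsLocallyNoetherian (pullback π h) := LocallyOfFiniteType.isLocallyNoetherian p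
  haveI : CompactSpace ↥(pullback π h) := QuasiCompact.compactSpace_of_compactSpace p
  haveI : IsNoetherian (pullback π h) := ⟨⟩
  haveI : TopologicalSpace.NoetherianSpace ↥(pullback π h) := inferInstance
  haveI := finite_clopens_of_noetherianSpace ↥(pullback π h)
  let s : {f : Y ⟶ X | f ≫ π = h} → (Y ⟶ pullback π h) := fun f =>
    pullback.lift f.1 (𝟙 Y) (by rw [f.2, Category.id_comp])
  have hs : ∀ f, s f ≫ p = 𝟙 Y := fun f => pullback.lift_snd _ _ _
  have hs1 : ∀ f, s f ≫ pullback.fst π h = f.1 := fun f => pullback.lift_fst _ _ _
  have hopen : ∀ f, IsOpenImmersion (s f) := fun f => isOpenImmersion_section p (s f) (hs f)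
  have hclosed : ∀ f, IsClosedImmersion (s f) := fun f => by
    haveI : IsClosedImmersion (s f ≫ p) := by rw [hs]; infer_instance
    exact IsClosedImmersion.of_comp (s f) p
  let F : {f : Y ⟶ X | f ≫ π = h} → TopologicalSpace.Clopens ↥(pullback π h) := fun f =>
    ⟨Set.range (s f), (s f).isClosedEmbedding.isClosed_range, (hopen f).base_open.isOpen_range⟩
  have hinj : Function.Injective F := by
    intro f f' hff'
    have hr : Set.range (s f) = Set.range (s f') :=
      congrArg (fun C : TopologicalSpace.Clopens ↥(pullback π h) => (C : Set ↥(pullback π h))) hff'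
    haveI := hopen f
    haveI := hopen f'
    -- s f = φ ≫ s f'
    let φ : Y ⟶ Y := IsOpenImmersion.lift (s f') (s f) hr.le
    have hφ : φ ≫ s f' = s f := IsOpenImmersion.lift_fac _ _ _
    have hφ1 : φ = 𝟙 Y := by
      have := congrArg (· ≫ p) hφ
      simp only [Category.assoc, hs, Category.comp_id] at this
      exact this
    rw [hφ1, Category.id_comp] at hφ
    apply Subtype.ext
    rw [← hs1 f, ← hs1 f', hφ]
  exact Set.finite_coe_iff.mp (Finite.of_injective F hinj)

end Groth.Agent.S0064
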