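import Groth.Statements.S0076
import Mathlib
import Groth.Agent.Lib.Helper1.EtSections

set_option autoImplicit false
open CategoryTheory CategoryTheory.Limits AlgebraicGeometry Opposite
universe u
open EtBase

namespace Groth.Agent.S0076

/-- For X étale over S and any S-scheme Y, base change along an integral, universally injective,
surjective S' → S gives a bijection between S-morphisms Y → X and S'-morphisms of the base changes. -/
theorem result {S S' : Scheme.{u}} (g : S' ⟶ S) [IsIntegralHom g] [UniversallyInjective g]
    [Surjective g] (X Y : Over S) [AlgebraicGeometry.Etale X.hom] :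
    Function.Bijective (fun φ : Y ⟶ X => (Over.pullback g).map φ) := by
  let gY : pullback Y.hom g ⟶ Y.left := pullback.fst Y.hom g
  haveI : Surjective gY := MorphismProperty.pullback_fst _ _ inferInstance
  haveI : UniversallyInjective gY := MorphismProperty.pullback_fst _ _ inferInstance
  haveI : IsIntegralHom gY := MorphismProperty.pullback_fst _ _ inferInstance
  constructor
  · intro φ₁ φ₂ h
    have h' : ((Over.pullback g).map φ₁).left = ((Over.pullback g).map φ₂).left := congrArg _ h
    have h1 : gY ≫ φ₁.left = gY ≫ φ₂.left := by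
      have e1 : ((Over.pullback g).map φ₁).left ≫ pullback.fst X.hom g = gY ≫ φ₁.left := by
        exact pullback.lift_fst _ _ _
      have e2 : ((Over.pullback g).map φ₂).left ≫ pullback.fst X.hom g = gY ≫ φ₂.left := by
        exact pullback.lift_fst _ _ _
      rw [← e1, ← e2, h']
    apply Over.OverMorphism.ext
    exact Groth.Agent.H1.EtSections.eq_of_comp_eq_of_surjective X.hom gY φ₁.left φ₂.left
      (by rw [Over.w φ₁, Over.w φ₂]) h1
  · intro ψ
    let p : pullback X.hom Y.hom ⟶ Y.left := pullback.snd X.hom Y.hom
    haveI : Etale p := inferInstance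
    have hψ : ψ.left ≫ pullback.snd X.hom g = pullback.snd Y.hom g := Over.w ψ
    have c1 : (ψ.left ≫ pullback.fst X.hom g) ≫ X.hom = gY ≫ Y.hom := by
      rw [Category.assoc, pullback.condition, reassoc_of% hψ, ← pullback.condition]
    let a : pullback Y.hom g ⟶ pullback X.hom Y.hom :=
      pullback.lift (ψ.left ≫ pullback.fst X.hom g) gY c1
    have ha1 : a ≫ pullback.fst X.hom Y.hom = ψ.left ≫ pullback.fst X.hom g :=
      pullback.lift_fst _ _ _
    have ha2 : a ≫ p = gY := pullback.lift_snd _ _ _
    let s' : pullback Y.hom g ⟶ pullback p gY := pullback.lift a (𝟙 _) (by rw [ha2, Category.id_comp])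
    have hs' : s' ≫ pullback.snd p gY = 𝟙 _ := pullback.lift_snd _ _ _
    have hs'1 : s' ≫ pullback.fst p gY = a := pullback.lift_fst _ _ _
    obtain ⟨s, hs1, hs2⟩ :=
      Groth.Agent.H1.EtSections.exists_section_of_section_pullback p gY s' hs'
    rw [hs'1] at hs2
    have hw : (s ≫ pullback.fst X.hom Y.hom) ≫ X.hom = Y.hom := by
      rw [Category.assoc, pullback.condition, reassoc_of% hs1]
    refine ⟨Over.homMk (s ≫ pullback.fst X.hom Y.hom) hw, ?_⟩
    apply Over.OverMorphism.ext
    apply pullback.hom_ext
    · have e1 : ((Over.pullback g).map (Over.homMk (s ≫ pullback.fst X.hom Y.hom) hw)).left ≫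
          pullback.fst X.hom g = gY ≫ s ≫ pullback.fst X.hom Y.hom := by
        exact pullback.lift_fst _ _ _
      rw [e1, ← reassoc_of% hs2, ha1]
    · have e2 : ((Over.pullback g).map (Over.homMk (s ≫ pullback.fst X.hom Y.hom) hw)).left ≫
          pullback.snd X.hom g = pullback.snd Y.hom g := by
        exact pullback.lift_snd _ _ _
      rw [e2, hψ]

end Groth.Agent.S0076
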