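import Groth.Statements.S0077
import Groth.Agent.Lib.Helper7.SigLinFrob
-- import your own Groth.Agent.* helpers here

set_option autoImplicit false
universe u
open EtBase

namespace Groth.Agent.S0077

/-- First half — on a finite-dimensional vector space over an algebraically closed field of
characteristic p, any additive p-semilinear map F has F − id surjective. -/
theorem result {k V : Type u} [Field k] [IsAlgClosed k] (p : ℕ) [Fact p.Prime] [CharP k p]
    [AddCommGroup V] [Module k V] [FiniteDimensional k V] (F : V →+ V)
    (hF : ∀ (c : k) (v : V), F (c • v) = c ^ p • F v) :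
    Function.Surjective fun v => F v - v := by
  have hσ : ∀ x : k, frobenius k p x = x ^ p := fun x => frobenius_def p x
  let T : V →ₛₗ[frobenius k p] V :=
    { toFun := F
      map_add' := F.map_add
      map_smul' := fun a v => by
        change F (a • v) = frobenius k p a • F v
        rw [hF, hσ] }
  intro y
  obtain ⟨x, hx⟩ := (Groth.Agent.H7.SigLin.sub_surjective_and_fixed_basis
    (Groth.Agent.H7.SigLin.frobenius_surjective' p k) T
    (Groth.Agent.H7.SigLin.H2_frobenius p k) (Groth.Agent.H7.SigLin.H3_frobenius p k)).1 (-y)
  have hx' : x - F x = -y := hx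
  refine ⟨x, ?_⟩
  change F x - x = y
  rw [← neg_sub, hx', neg_neg]

end Groth.Agent.S0077
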