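import Groth.Statements.S0079
-- import your own Groth.Agent.* helpers here

set_option autoImplicit false
open CategoryTheory CategoryTheory.Limits AlgebraicGeometry Opposite
universe u
open EtBase

namespace Groth.Agent.S0079

/-- Quasi-compactness of a morphism descends along a quasi-compact flat surjective base change: if the
base change of a morphism g along a quasi-compact, flat, surjective morphism to its target is
quasi-compact, then g is quasi-compact. (Stated for a single quasi-compact faithfully flat cover;
combined with Zariski-locality on the target this gives the fpqc-local form.) -/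
theorem result :
    MorphismProperty.DescendsAlong @QuasiCompact (@Surjective ⊓ @Flat ⊓ @QuasiCompact : MorphismProperty Scheme.{u}) := by
  refine ⟨fun {A X Y Z fst snd f g} h hf hfst => ?_⟩
  obtain ⟨⟨hsurj, _⟩, hqc⟩ := hf
  have hsnd : Surjective snd := MorphismProperty.of_isPullback h hsurj
  refine ⟨fun U hU hUc => ?_⟩
  have h1 : IsCompact (f ⁻¹' U) := hqc.1 U hU hUc
  have h2 : IsCompact (fst ⁻¹' (f ⁻¹' U)) := hfst.1 _ (hU.preimage f.continuous) h1
  have h3 : snd '' (fst ⁻¹' (f ⁻¹' U)) = g ⁻¹' U := by
    have : fst ⁻¹' (f ⁻¹' U) = snd ⁻¹' (g ⁻¹' U) := by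
      rw [← Set.preimage_comp, ← Set.preimage_comp]
      have := congrArg (fun k => (k.base : A → Z)) h.w
      simp only [Scheme.Hom.comp_base, TopCat.hom_comp, ContinuousMap.coe_comp] at this
      rw [this]
    rw [this, Set.image_preimage_eq _ hsnd.surj]
  rw [← h3]
  exact h2.image snd.continuous

end Groth.Agent.S0079
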