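import Groth.Statements.S0098
import Mathlib
import Groth.Agent.Lib.Helper1.FinUnr

set_option autoImplicit false
open CategoryTheory CategoryTheory.Limits AlgebraicGeometry Opposite
universe u
open EtBase

namespace Groth.Agent.S0098

namespace H1.S0098aux

theorem isIso_restrict_opensRange {X Y : Scheme.{u}} (g : X ⟶ Y) [IsOpenImmersion g] :
    IsIso (g ∣_ g.opensRange) := by
  rw [isIso_iff_isOpenImmersion_and_surjective]
  refine ⟨inferInstance, ⟨?_⟩⟩
  rintro ⟨z, w, rfl⟩
  refine ⟨⟨w, ⟨w, rfl⟩⟩, Subtype.ext ?_⟩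
  exact morphismRestrict_base_coe g g.opensRange _

theorem main98 {X S : Scheme.{u}} (f : X ⟶ S) [IsFinite f] [AlgebraicGeometry.Etale f] (s : S) (x : X)
    (hx : f.base ⁻¹' {s} = {x}) (hκ : Function.Surjective (f.residueFieldMap x)) :
    ∃ U : S.Opens, s ∈ U ∧ IsIso (f ∣_ U) := by
  obtain ⟨U, hsU, hU⟩ := Groth.Agent.H1.FinUnr.main97 f s x hx hκ
  have hfx : f x = s := by
    have : x ∈ f.base ⁻¹' {s} := hx ▸ rfl
    exact this
  haveI : IsOpenImmersion (f ∣_ U) := IsOpenImmersion.of_flat_of_mono _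
  refine ⟨U.ι ''ᵁ (f ∣_ U).opensRange, ?_, ?_⟩
  · refine ⟨⟨s, hsU⟩, ?_, rfl⟩
    refine ⟨⟨x, show f x ∈ U from hfx ▸ hsU⟩, Subtype.ext ?_⟩
    exact (morphismRestrict_base_coe f U _).trans hfx
  · have := isIso_restrict_opensRange (f ∣_ U)
    exact ((MorphismProperty.isomorphisms Scheme).arrow_mk_iso_iff
      (morphismRestrictRestrict f U (f ∣_ U).opensRange)).mp this

end H1.S0098aux

/-- A finite étale morphism whose fibre over a point s is a single point with the same residue field is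
an isomorphism over an open neighbourhood of s. -/
theorem result {X S : Scheme.{u}} (f : X ⟶ S) [IsFinite f] [AlgebraicGeometry.Etale f] (s : S) (x : X)
    (hx : f.base ⁻¹' {s} = {x}) (hκ : Function.Surjective (f.residueFieldMap x)) :
    ∃ U : S.Opens, s ∈ U ∧ IsIso (f ∣_ U) := by
  exact H1.S0098aux.main98 f s x hx hκ

end Groth.Agent.S0098
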