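import Groth.Statements.S0219
import Mathlib
import Groth.Agent.Lib.Helper1.CurveFin

set_option autoImplicit false
universe u
open CategoryTheory CategoryTheory.Limits AlgebraicGeometry TopologicalSpace
open Curves

namespace Groth.Agent.S0219

/-- A morphism over a field from a proper scheme of dimension at most one to a separated scheme, which
does not contract any one-dimensional irreducible component to a point, is finite. -/
theorem result (k : Type u) [Field k] (X Y : Scheme.{u}) (p : X ⟶ Spec (CommRingCat.of k)) (q : Y ⟶ Spec (CommRingCat.of k))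
    [IsProper p] [IsSeparated q] (f : X ⟶ Y) (hf : f ≫ q = p) (hdim : topologicalKrullDim X ≤ 1)
    (h : ∀ Z ∈ irreducibleComponents (X : Type u), topologicalKrullDim Z = 1 → (f.base '' Z).Nontrivial) :
    IsFinite f := by
  subst hf
  haveI : IsProper f := IsProper.of_comp f q
  haveI : LocallyOfFiniteType f := inferInstance
  haveI : IsLocallyNoetherian X := LocallyOfFiniteType.isLocallyNoetherian (f ≫ q)
  haveI : CompactSpace (Spec (CommRingCat.of k)) :=
    inferInstanceAs (CompactSpace (PrimeSpectrum k))
  haveI : CompactSpace X := QuasiCompact.compactSpace_of_compactSpace (f ≫ q)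
  haveI : IsNoetherian X := {}
  haveI : NoetherianSpace X := inferInstance
  haveI : LocallyQuasiFinite f := by
    apply LocallyQuasiFinite.of_finite_preimage_singleton
    intro y
    have hfinc : (irreducibleComponents X).Finite := NoetherianSpace.finite_irreducibleComponents
    have hcov : f ⁻¹' {y} = ⋃ Z ∈ irreducibleComponents X, (f ⁻¹' {y} ∩ Z) := by
      ext x
      simp only [Set.mem_iUnion, Set.mem_inter_iff, exists_prop]
      constructor
      · intro hx
        exact ⟨irreducibleComponent x, irreducibleComponent_mem_irreducibleComponents x, hx,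
          mem_irreducibleComponent⟩
      · rintro ⟨Z, _, hx, _⟩
        exact hx
    rw [hcov]
    apply hfinc.biUnion
    intro Z hZ
    have hZc := isClosed_of_mem_irreducibleComponents Z hZ
    have hZd : topologicalKrullDim ↥Z ≤ 1 := (topologicalKrullDim_subspace_le X Z).trans hdim
    by_cases hZ1 : topologicalKrullDim ↥Z = 1
    · have hnt := h Z hZ hZ1
      by_cases hcl : ∃ x ∈ f ⁻¹' {y} ∩ Z, IsClosed ({x} : Set X)
      · obtain ⟨x, ⟨hxy, hxZ⟩, hxc⟩ := hcl
        have hxy' : f x = y := hxy
        have hyc : IsClosed ({y} : Set Y) := by
          have := f.isClosedMap _ hxc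
          rw [Set.image_singleton, hxy'] at this
          exact this
        apply Groth.Agent.H1.CurveFin.finite_of_isClosed_ne Z hZ.1 hZd _
          ((hyc.preimage f.continuous).inter hZc) Set.inter_subset_right
        intro heq
        have hsub : f.base '' Z ⊆ {y} := by
          rintro _ ⟨z, hz, rfl⟩
          have : z ∈ f ⁻¹' {y} ∩ Z := by rw [heq]; exact hz
          exact this.1
        exact Set.not_subsingleton_iff.mpr hnt (Set.subsingleton_singleton.anti hsub)
      · push Not at hcl
        apply Set.Subsingleton.finite
        have key : ∀ x ∈ f ⁻¹' {y} ∩ Z, closure ({x} : Set X) = Z := by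
          intro x hx
          by_contra hne
          exact hcl x hx (Groth.Agent.H1.CurveFin.isClosed_singleton_of_closure_ne Z hZ.1 hZc hZd
            x hx.2 hne)
        intro x₁ hx₁ x₂ hx₂
        exact (inseparable_iff_closure_eq.mpr ((key x₁ hx₁).trans (key x₂ hx₂).symm)).eq
    · have hlt : topologicalKrullDim ↥Z < 1 := lt_of_le_of_ne hZd hZ1
      haveI : NoetherianSpace ↥Z := inferInstance
      haveI := Groth.Agent.H1.CurveFin.finite_of_dim_le_zero
        (Groth.Agent.H1.CurveFin.le_zero_of_lt_one hlt)
      exact (Set.toFinite Z).subset Set.inter_subset_right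
  exact IsFinite.of_isProper_of_locallyQuasiFinite f

end Groth.Agent.S0219
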