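import Groth.Statements.S0220
import Mathlib
import Groth.Agent.Lib.Helper1.CurveFin
import Groth.Agent.Lib.Helper1.FlatRelDim

set_option autoImplicit false
universe u
open CategoryTheory CategoryTheory.Limits AlgebraicGeometry TopologicalSpace
open Curves

namespace Groth.Agent.S0220

/-- A nonconstant morphism between curves over a field (integral, separated, finite type, dimension one)
whose target has integrally closed local domains is flat. -/
theorem result (k : Type u) [Field k] (X Y : Scheme.{u}) (p : X ⟶ Spec (CommRingCat.of k)) (q : Y ⟶ Spec (CommRingCat.of k))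
    [IsIntegral X] [IsIntegral Y] [IsSeparated p] [IsSeparated q] [LocallyOfFiniteType p] [LocallyOfFiniteType q]
    [QuasiCompact p] [QuasiCompact q] (hX : topologicalKrullDim X = 1) (hY : topologicalKrullDim Y = 1)
    (hN : ∀ y : Y, IsDomain (Y.presheaf.stalk y) ∧ IsIntegrallyClosed (Y.presheaf.stalk y))
    (f : X ⟶ Y) (hf : f ≫ q = p) (hnc : (Set.range f.base).Nontrivial) :
    Flat f := by
  subst hf
  haveI : IsLocallyNoetherian Y := LocallyOfFiniteType.isLocallyNoetherian q
  haveI : CompactSpace (Spec (CommRingCat.of k)) :=
    inferInstanceAs (CompactSpace (PrimeSpectrum k))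
  haveI : CompactSpace Y := QuasiCompact.compactSpace_of_compactSpace q
  haveI : IsNoetherian Y := {}
  haveI : NoetherianSpace Y := inferInstance
  have hξ : IsGenericPoint (genericPoint X) ⊤ := genericPoint_spec X
  have hdimU : topologicalKrullDim ↥(Set.univ : Set Y) ≤ 1 :=
    (topologicalKrullDim_subspace_le Y Set.univ).trans hY.le
  have hgen : IsGenericPoint (f (genericPoint X)) ⊤ := by
    change closure {f (genericPoint X)} = Set.univ
    by_contra hne
    have hcl : IsClosed ({f (genericPoint X)} : Set Y) :=
      Groth.Agent.H1.CurveFin.isClosed_singleton_of_closure_ne Set.univ (IrreducibleSpace.isIrreducible_univ Y)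
        isClosed_univ hdimU (f (genericPoint X)) trivial hne
    have hsub : Set.range f.base ⊆ {f (genericPoint X)} := by
      rintro _ ⟨x, rfl⟩
      have h1 : genericPoint X ⤳ x := hξ.specializes trivial
      have h2 := h1.map f.continuous
      rw [specializes_iff_mem_closure, hcl.closure_eq] at h2
      exact h2
    exact Set.not_subsingleton_iff.mpr hnc (Set.subsingleton_singleton.anti hsub)
  rw [Flat.iff_flat_stalkMap]
  intro x
  have hinj := Groth.Agent.H1.CurveFin.stalkMap_injective_of_dominant f hgen x
  obtain ⟨hD, hIC⟩ := hN (f x)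
  have hdim : ringKrullDim (Y.presheaf.stalk (f x)) ≤ 1 := by
    refine (Groth.Agent.H1.FlatRelDim.stalk_dim_le_dim_opens Y ⊤ (f x) trivial).trans ?_
    exact (topologicalKrullDim_subspace_le Y _).trans hY.le
  letI := (f.stalkMap x).hom.toAlgebra
  exact Groth.Agent.H1.CurveFin.flat_of_injective_of_dim_le_one (Y.presheaf.stalk (f x))
    (X.presheaf.stalk x) hdim hinj

end Groth.Agent.S0220
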