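import Groth.Statements.S0226
import Groth.Agent.Lib.Helper7.Reg1
import Groth.Agent.Lib.Helper1.AusBuchReg
import Groth.Agent.Lib.Helper6.CMKit

set_option autoImplicit false
universe u
open Curves

namespace Groth.Agent.S0226

open CategoryTheory in
/-- In a regular local ring of dimension two, an ideal inside the maximal ideal with reduced quotient is
zero, the maximal ideal, or principal. -/
theorem result (A : Type u) [CommRing A] [IsRegularLocalRing A] (hdim : ringKrullDim A = 2)
    (I : Ideal A) (hI : I ≤ IsLocalRing.maximalIdeal A) [IsReduced (A ⧸ I)] :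
    I = ⊥ ∨ I = IsLocalRing.maximalIdeal A ∨ ∃ f ∈ IsLocalRing.maximalIdeal A, f ≠ 0 ∧ I = Ideal.span {f} := by
  classical
  haveI : IsDomain A := Groth.Agent.H7.Reg.isDomain A
  by_cases h0 : I = ⊥
  · left; exact h0
  by_cases hm : I = IsLocalRing.maximalIdeal A
  · right; left; exact hm
  right; right
  have hItop : I ≠ ⊤ := fun h => (IsLocalRing.maximalIdeal.isMaximal A).ne_top (top_le_iff.mp (h ▸ hI))
  haveI : Nontrivial (A ⧸ I) := Ideal.Quotient.nontrivial_iff.mpr hItop
  have h1 : ∃ x ∈ IsLocalRing.maximalIdeal A, IsSMulRegular (A ⧸ I) x := by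
    apply Groth.Agent.H6.CM.exists_isSMulRegular_of_forall_ass
    intro P hP hmP
    obtain ⟨hPp, y, hy⟩ := (isAssociatedPrime_iff (I := P) (M := A ⧸ I)).mp hP
    have hPm : P = IsLocalRing.maximalIdeal A :=
      le_antisymm (IsLocalRing.le_maximalIdeal hPp.ne_top) hmP
    obtain ⟨y, rfl⟩ := Ideal.Quotient.mk_surjective y
    have hmem : ∀ a : A, a ∈ P ↔ a * y ∈ I := by
      intro a
      rw [hy, Submodule.mem_colon_singleton, Submodule.mem_bot]
      change Ideal.Quotient.mk I (a * y) = 0 ↔ _
      rw [Ideal.Quotient.eq_zero_iff_mem]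
    by_cases hym : y ∈ IsLocalRing.maximalIdeal A
    · have h2 : y * y ∈ I := (hmem y).mp (hPm ▸ hym)
      have h3 : (Ideal.Quotient.mk I y) ^ 2 = 0 := by
        rw [← map_pow, Ideal.Quotient.eq_zero_iff_mem, pow_two]
        exact h2
      have h4 : Ideal.Quotient.mk I y = 0 := pow_eq_zero_iff (two_ne_zero) |>.mp h3
      rw [Ideal.Quotient.eq_zero_iff_mem] at h4
      apply hPp.ne_top
      rw [eq_top_iff]
      intro a _
      rw [hmem]
      exact I.mul_mem_left a h4
    · have hu : IsUnit y := by
        by_contra hnu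
        exact hym ((IsLocalRing.mem_maximalIdeal y).mpr hnu)
      apply hm
      apply le_antisymm hI
      intro a ha
      have h2 := (hmem a).mp (hPm ▸ ha)
      obtain ⟨u, rfl⟩ := hu
      have : a = (a * u) * (↑u⁻¹ : A) := by rw [mul_assoc, Units.mul_inv, mul_one]
      rw [this]
      exact I.mul_mem_right _ h2
  obtain ⟨x, hx, hreg⟩ := h1
  have hdepth : LocCoh.depth A (A ⧸ I) ≠ 0 :=
    Groth.Agent.H1.AB.depth_ne_zero_of_isSMulRegular _ x hx hreg
  have hdim' : ringKrullDim A = ((2 : ℕ) : WithBot ℕ∞) := hdim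
  obtain ⟨e, he, hpd1, hpd2⟩ := Groth.Agent.H1.AB.exists_pd 2 hdim' (A ⧸ I)
  have hab := Groth.Agent.H1.AB.auslander_buchsbaum (A ⧸ I) e hpd1 hpd2
  rw [Groth.Agent.H1.AB.depth_eq_of_isRegularLocalRing 2 hdim'] at hab
  have he1 : e ≤ 1 := by
    by_contra hcon
    have he2 : e = 2 := by omega
    subst he2
    apply hdepth
    generalize LocCoh.depth A (A ⧸ I) = D at hab ⊢
    cases D with
    | top => simp at hab
    | coe D =>
      have : (2 : ℕ) = 2 + D := by exact_mod_cast hab
      have : D = 0 := by omega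
      rw [this]; rfl
  have hpd : HasProjectiveDimensionLT (ModuleCat.of A (A ⧸ I)) 2 :=
    hasProjectiveDimensionLT_of_ge _ (e + 1) 2 (by omega)
  have hfg : Function.Exact I.subtype (Submodule.mkQ I) := by
    intro y
    rw [← LinearMap.mem_ker, Submodule.ker_mkQ]
    constructor
    · intro hy; exact ⟨⟨y, hy⟩, rfl⟩
    · rintro ⟨z, rfl⟩; exact z.2
  obtain ⟨w, hS⟩ := Groth.Agent.H6.Depth.shortExact_mk I.subtype (Submodule.mkQ I)
    Subtype.val_injective (Submodule.mkQ_surjective I) hfg
  have hA : HasProjectiveDimensionLT (ModuleCat.of A A) 1 := by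
    haveI hP : Projective (ModuleCat.of A A) :=
      (IsProjective.iff_projective (R := A) (P := A)).mp inferInstance
    exact (projective_iff_hasProjectiveDimensionLT_one (X := ModuleCat.of A A)).mp hP
  have hI1 : HasProjectiveDimensionLT (ModuleCat.of A I) 1 :=
    hS.hasProjectiveDimensionLT_X₁ 1 hA hpd
  have hP : Projective (ModuleCat.of A I) :=
    (projective_iff_hasProjectiveDimensionLT_one (X := ModuleCat.of A I)).mpr hI1
  haveI : Module.Projective A I := (IsProjective.iff_projective (R := A) (P := I)).mpr hP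
  haveI : Module.Free A I := Module.free_of_flat_of_isLocalRing
  let b := Module.Free.chooseBasis A I
  haveI : Nontrivial I := by
    rw [Submodule.nontrivial_iff_ne_bot]
    exact h0
  obtain ⟨i₀⟩ : Nonempty (Module.Free.ChooseBasisIndex A I) := b.index_nonempty
  have hsub : ∀ j, j = i₀ := by
    intro j
    by_contra hne
    have hrel : ((b j : I) : A) • b i₀ - ((b i₀ : I) : A) • b j = 0 := by
      apply Subtype.ext
      simp only [Submodule.coe_sub, Submodule.coe_smul, smul_eq_mul, Submodule.coe_zero]
      ring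
    have hli := b.linearIndependent
    rw [linearIndependent_iff'] at hli
    have := hli {i₀, j} (fun k => if k = i₀ then ((b j : I) : A) else -((b i₀ : I) : A)) (by
      rw [Finset.sum_pair (Ne.symm hne)]
      simp only [if_true, if_neg hne]
      rw [neg_smul, ← sub_eq_add_neg]
      exact hrel) i₀ (by simp)
    simp only [if_true] at this
    exact b.ne_zero j (Subtype.ext this)
  refine ⟨(b i₀ : I), hI (b i₀).2, ?_, ?_⟩
  · intro h
    exact b.ne_zero i₀ (Subtype.ext h)
  · apply le_antisymm
    · intro a ha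
      have h2 := b.sum_repr ⟨a, ha⟩
      haveI : Fintype (Module.Free.ChooseBasisIndex A I) := Fintype.ofFinite _
      have h3 : (⟨a, ha⟩ : I) = b.repr ⟨a, ha⟩ i₀ • b i₀ := by
        rw [← b.sum_repr ⟨a, ha⟩]
        rw [Finset.sum_eq_single i₀]
        · simp
        · intro j _ hj; exact absurd (hsub j) hj
        · intro h; exact absurd (Finset.mem_univ i₀) h
      have h4 : a = b.repr ⟨a, ha⟩ i₀ * (b i₀ : I) := by
        have := congrArg Subtype.val h3
        simpa using this
      rw [h4]
      exact Ideal.mul_mem_left _ _ (Ideal.mem_span_singleton_self _)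
    · rw [Ideal.span_singleton_le_iff_mem]
      exact (b i₀).2

end Groth.Agent.S0226
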