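import Groth.Statements.S0246
import Mathlib
import Groth.Agent.Lib.Helper8.FinEtNormal
import Groth.Agent.Lib.Helper5.AG.NormalAffine

set_option autoImplicit false
universe u
open Pi1

namespace Groth.Agent.S0246

namespace Aux
open AlgebraicGeometry CategoryTheory CategoryTheory.Limits

/-- affine-local data for a finite étale morphism over a normal integral scheme -/
theorem affine_data {X Y : Scheme.{u}} (f : Y ⟶ X) [IsFinite f] [Etale f] [IsIntegral X]
    (hX : Pi1.IsNormalScheme X) (V : X.Opens) (hV : IsAffineOpen V) [Nonempty V] :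
    letI := (f.app V).hom.toAlgebra
    IsIntegrallyClosed Γ(X, V) ∧ Module.Finite Γ(X, V) Γ(Y, f ⁻¹ᵁ V) ∧
      Algebra.Etale Γ(X, V) Γ(Y, f ⁻¹ᵁ V) := by
  letI := (f.app V).hom.toAlgebra
  refine ⟨(Groth.Agent.H5.AG.isNormalScheme_iff_affine X).1 hX V hV, ?_, ?_⟩
  · have h1 : (f.app V).hom.Finite := IsFinite.finite_app (f := f) V hV
    exact h1
  · have h2 : (f.appLE V (f ⁻¹ᵁ V) le_rfl).hom.Etale := f.etale_appLE hV (hV.preimage f) le_rfl
    rw [← Scheme.Hom.app_eq_appLE] at h2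
    exact h2

theorem irreducible {X Y : Scheme.{u}} (f : Y ⟶ X) [IsFinite f] [Etale f] [IsIntegral X]
    (hX : Pi1.IsNormalScheme X) [ConnectedSpace Y] : IrreducibleSpace Y := by
  obtain ⟨y⟩ : Nonempty Y := inferInstance
  have hgen : GeneralizingMap f := Flat.generalizingMap f
  obtain ⟨y₀, hy₀y, hy₀⟩ := hgen (a := y) (b := genericPoint X) (genericPoint_specializes (f y))
  have hZirr : IsIrreducible (closure ({y₀} : Set Y)) := isIrreducible_singleton.closure
  have hopen : IsOpen (closure ({y₀} : Set Y)) := by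
    rw [isOpen_iff_forall_mem_open]
    intro z hz
    have hspec : y₀ ⤳ z := specializes_iff_mem_closure.2 hz
    obtain ⟨_, ⟨V, hV, rfl⟩, hxV, -⟩ := X.isBasis_affineOpens.exists_subset_of_mem_open
      (Set.mem_univ (f z)) isOpen_univ
    haveI : Nonempty V := ⟨⟨f z, hxV⟩⟩
    letI := (f.app V).hom.toAlgebra
    obtain ⟨h1, h2, h3⟩ := affine_data f hX V hV
    have hU : IsAffineOpen (f ⁻¹ᵁ V) := hV.preimage f
    have hz' : z ∈ f ⁻¹ᵁ V := hxV
    have hy₀' : y₀ ∈ f ⁻¹ᵁ V := hspec.mem_open (f ⁻¹ᵁ V).2 hz'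
    set q := hU.primeIdealOf ⟨y₀, hy₀'⟩ with hq
    set qz := hU.primeIdealOf ⟨z, hz'⟩ with hqz
    have hcomap : q.asIdeal.comap (algebraMap Γ(X, V) Γ(Y, f ⁻¹ᵁ V)) = ⊥ := by
      have h5 := IsAffineOpen.comap_primeIdealOf_appLE (f := f) V hV (f ⁻¹ᵁ V) hU le_rfl hy₀'
      have h6 : hV.primeIdealOf ⟨f y₀, hy₀'⟩ = (⊥ : PrimeSpectrum Γ(X, V)) := by
        have h7 := hV.primeIdealOf_genericPoint
        rw [genericPoint_eq_bot_of_affine] at h7
        rw [← h7]
        congr 1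
        exact Subtype.ext hy₀
      rw [h6] at h5
      have h8 := congrArg PrimeSpectrum.asIdeal h5
      rw [RingHom.algebraMap_toAlgebra, Scheme.Hom.app_eq_appLE]
      exact h8
    obtain ⟨⟨e, he, hqe⟩, -⟩ := Groth.Agent.H8.FEN.main Γ(X, V) Γ(Y, f ⁻¹ᵁ V) q.asIdeal hcomap
    have hfz : hU.fromSpec qz = z := hU.fromSpec_primeIdealOf ⟨z, hz'⟩
    have hfy : hU.fromSpec q = y₀ := hU.fromSpec_primeIdealOf ⟨y₀, hy₀'⟩
    have hZL : (PrimeSpectrum.basicOpen e : Set (PrimeSpectrum Γ(Y, f ⁻¹ᵁ V))) =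
        closure {q} := by
      rw [PrimeSpectrum.basicOpen_eq_zeroLocus_of_isIdempotentElem e he,
        PrimeSpectrum.closure_singleton, hqe, PrimeSpectrum.zeroLocus_span]
    let q' : Spec Γ(Y, f ⁻¹ᵁ V) := q
    let qz' : Spec Γ(Y, f ⁻¹ᵁ V) := qz
    have hWo : IsOpen (closure ({q'} : Set (Spec Γ(Y, f ⁻¹ᵁ V)))) := by
      have h10 : IsOpen (closure ({q} : Set (PrimeSpectrum Γ(Y, f ⁻¹ᵁ V)))) := by
        rw [← hZL]; exact (PrimeSpectrum.basicOpen e).2
      exact h10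
    refine ⟨hU.fromSpec '' (closure ({q'} : Set (Spec Γ(Y, f ⁻¹ᵁ V)))), ?_, ?_, ?_⟩
    · refine (image_closure_subset_closure_image hU.fromSpec.continuous).trans ?_
      rw [Set.image_singleton]
      have : hU.fromSpec q' = y₀ := hfy
      rw [this]
    · exact hU.fromSpec.isOpenEmbedding.isOpenMap _ hWo
    · refine ⟨qz', ?_, hfz⟩
      rw [← specializes_iff_mem_closure]
      rw [← hU.fromSpec.isOpenEmbedding.isInducing.specializes_iff]
      have e1 : hU.fromSpec q' = y₀ := hfy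
      have e2 : hU.fromSpec qz' = z := hfz
      rw [e1, e2]
      exact hspec
  have hclopen : IsClopen (closure ({y₀} : Set Y)) := ⟨isClosed_closure, hopen⟩
  have huniv : closure ({y₀} : Set Y) = Set.univ :=
    hclopen.eq_univ ⟨y₀, subset_closure rfl⟩
  have h9 : IsIrreducible (Set.univ : Set Y) := huniv ▸ hZirr
  exact (irreducibleSpace_def Y).2 h9


theorem normal {X Y : Scheme.{u}} (f : Y ⟶ X) [IsFinite f] [Etale f] [IsIntegral X]
    (hX : Pi1.IsNormalScheme X) : Pi1.IsNormalScheme Y := by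
  intro y
  obtain ⟨_, ⟨V, hV, rfl⟩, hxV, -⟩ := X.isBasis_affineOpens.exists_subset_of_mem_open
    (Set.mem_univ (f y)) isOpen_univ
  haveI : Nonempty V := ⟨⟨f y, hxV⟩⟩
  letI := (f.app V).hom.toAlgebra
  obtain ⟨h1, h2, h3⟩ := affine_data f hX V hV
  have hU : IsAffineOpen (f ⁻¹ᵁ V) := hV.preimage f
  have hy : y ∈ f ⁻¹ᵁ V := hxV
  have hloc := hU.isLocalization_stalk ⟨y, hy⟩
  set q := (hU.primeIdealOf ⟨y, hy⟩).asIdeal with hq
  obtain ⟨hd, hic⟩ := Groth.Agent.H8.SmNR.normal_localization_of_smooth_domain Γ(X, V) Γ(Y, f ⁻¹ᵁ V) q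
  letI := Y.presheaf.algebra_section_stalk ⟨y, hy⟩
  let e : Localization.AtPrime q ≃ₐ[Γ(Y, f ⁻¹ᵁ V)] Y.presheaf.stalk y :=
    IsLocalization.algEquiv q.primeCompl _ _
  exact ⟨e.toRingEquiv.toMulEquiv.isDomain_iff.1 hd, IsIntegrallyClosed.of_equiv e.toRingEquiv⟩

end Aux

open AlgebraicGeometry CategoryTheory CategoryTheory.Limits in
/-- If Y is finite etale over a normal integral scheme X and Y is connected, then Y is an integral
scheme all of whose local rings are integrally closed domains. -/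
theorem result {X : Scheme.{u}} [IsIntegral X] (hX : Pi1.IsNormalScheme X) (Y : FEt.Cat X)
    [ConnectedSpace Y.left] : IsIntegral Y.left ∧ Pi1.IsNormalScheme Y.left := by
  obtain ⟨t, ht⟩ : ∃ t : Y.left ⟶ X, t = Y.hom := ⟨_, rfl⟩
  haveI : IsFinite t := ht ▸ Y.prop.1
  haveI : Etale t := ht ▸ Y.prop.2
  have hN := Aux.normal t hX
  haveI : IrreducibleSpace Y.left := Aux.irreducible t hX
  haveI : IsReduced Y.left := by
    haveI : ∀ y : Y.left, _root_.IsReduced (Y.left.presheaf.stalk y) := fun y => by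
      haveI : IsDomain (Y.left.presheaf.stalk y) := (hN y).1
      infer_instance
    exact isReduced_of_isReduced_stalk Y.left
  exact ⟨isIntegral_of_irreducibleSpace_of_isReduced Y.left, hN⟩

end Groth.Agent.S0246
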