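import Groth.Statements.S0244
import Mathlib
import Groth.Agent.Lib.Helper1.FEtFull
import Groth.Agent.Lib.Helper1.FEtFaithful
import Groth.Agent.Lib.Helper1.NormGen
import Groth.Agent.S0246

set_option autoImplicit false
universe u
open Pi1

namespace Groth.Agent.S0244

namespace Aux
open AlgebraicGeometry CategoryTheory CategoryTheory.Limits

theorem aux {X : Scheme.{u}} [IsIntegral X] (hX : Pi1.IsNormalScheme X) (U : X.Opens)
    (hgenU : genericPoint X ∈ U) {P Q : Scheme.{u}} (g : P ⟶ X) [IsFinite g] [Etale g]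
    (q : Q ⟶ X) [IsFinite q] (σ : pullback g U.ι ⟶ pullback g q)
    (hσ : σ ≫ pullback.fst g q = pullback.fst g U.ι) :
    ∃ s : P ⟶ pullback g q, s ≫ pullback.fst g q = 𝟙 _ ∧ pullback.fst g U.ι ≫ s = σ := by
  obtain ⟨p, hp⟩ : ∃ t, t = pullback.fst g q := ⟨_, rfl⟩
  haveI : IsFinite p := hp ▸ MorphismProperty.pullback_fst _ _ inferInstance
  obtain ⟨ξ, hξ⟩ : ∃ t, t = X.fromSpecStalk (genericPoint X) := ⟨_, rfl⟩
  obtain ⟨j', hj'⟩ : ∃ t, t = pullback.fst g U.ι := ⟨_, rfl⟩
  haveI : IsOpenImmersion j' := hj' ▸ inferInstance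
  rw [← hp, ← hj'] at hσ ⊢
  -- ξ factors through U
  have hrange : Set.range ξ ⊆ Set.range U.ι := by
    rintro _ ⟨z, rfl⟩
    have h1 : ξ z ∈ Set.range ξ := ⟨z, rfl⟩
    rw [hξ, Scheme.range_fromSpecStalk] at h1
    have h2 := h1.mem_open U.2 hgenU
    rw [← hξ] at h2
    rw [Scheme.Opens.range_ι]
    exact h2
  let ξU := IsOpenImmersion.lift U.ι ξ hrange
  have hξU : ξU ≫ U.ι = ξ := IsOpenImmersion.lift_fac _ _ _
  let k : pullback ξ g ⟶ pullback g U.ι :=
    pullback.lift (pullback.snd ξ g) (pullback.fst ξ g ≫ ξU)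
      (by rw [Category.assoc, hξU, pullback.condition])
  have hk : k ≫ j' = pullback.snd ξ g := by rw [hj']; exact pullback.lift_fst _ _ _
  have hσK : (k ≫ σ) ≫ p = pullback.snd ξ g := by rw [Category.assoc, hσ, hk]
  subst hξ
  obtain ⟨s, hs1, hs2⟩ := Groth.Agent.Lib.Helper1.NormGen.exists_section_of_generic hX g p
    (k ≫ σ) hσK
  refine ⟨s, hs1, ?_⟩
  -- reducedness
  have hN : Pi1.IsNormalScheme P := Groth.Agent.S0246.Aux.normal g hX
  haveI : IsReduced P := by
    haveI : ∀ y : P, _root_.IsReduced (P.presheaf.stalk y) := fun y => by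
      haveI : IsDomain (P.presheaf.stalk y) := (hN y).1
      infer_instance
    exact isReduced_of_isReduced_stalk P
  haveI : IsReduced (pullback g U.ι) := isReduced_of_isOpenImmersion j'
  -- dominance of k
  haveI : IsDominant k := by
    constructor
    intro w
    have hgen : GeneralizingMap g := Flat.generalizingMap g
    obtain ⟨y₀, hy₀y, hy₀⟩ := hgen (a := j' w) (b := genericPoint X)
      (genericPoint_specializes (g (j' w)))
    have hy₀r : y₀ ∈ Set.range j' := hy₀y.mem_open j'.isOpenEmbedding.isOpen_range ⟨w, rfl⟩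
    obtain ⟨w₀, rfl⟩ := hy₀r
    have hw : w₀ ⤳ w := j'.isOpenEmbedding.isInducing.specializes_iff.1 hy₀y
    have hw₀ : w₀ ∈ Set.range k := by
      obtain ⟨t, ht1, ht2⟩ := Scheme.Pullback.exists_preimage_pullback
        (f := X.fromSpecStalk (genericPoint X)) (g := g)
        (IsLocalRing.closedPoint _) (j' w₀)
        (by rw [Scheme.fromSpecStalk_closedPoint, hy₀])
      refine ⟨t, ?_⟩
      apply j'.injective
      rw [← Scheme.Hom.comp_apply, hk]
      exact ht2
    exact closure_mono (Set.singleton_subset_iff.2 hw₀) (specializes_iff_mem_closure.1 hw)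
  haveI : IsSeparated p := inferInstance
  refine ext_of_isDominant_of_isSeparated p ?_ k ?_
  · rw [Category.assoc, hs1, Category.comp_id, hσ]
  · rw [reassoc_of% hk, hs2]

end Aux

open AlgebraicGeometry CategoryTheory CategoryTheory.Limits in
/-- Let X be a normal integral scheme and U ⊆ X a nonempty open subscheme. Then the restriction functor
from finite étale covers of X to finite étale covers of U is full and faithful. -/
theorem result {X : Scheme.{u}} [IsIntegral X] (hX : Pi1.IsNormalScheme X) (U : X.Opens)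
    (hU : (U : Set X).Nonempty) : (FEt.restrict U.ι).Full ∧ (FEt.restrict U.ι).Faithful := by
  have hgenU : genericPoint X ∈ U :=
    ((genericPoint_spec X).mem_open_set_iff U.isOpen).mpr (by simpa using hU)
  constructor
  · apply Groth.Agent.Lib.Helper1.FEtFull.full_restrict_of_sections
    intro P Q σ hσ
    haveI : IsFinite Q.hom := Q.prop.1
    haveI : IsFinite P.hom := P.prop.1
    haveI : Etale P.hom := P.prop.2
    exact Aux.aux hX U hgenU P.hom Q.hom σ hσ
  · apply Groth.Agent.Lib.Helper1.FEtFaithful.faithful_restrict_of_clopen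
    intro V hV hne
    refine ⟨genericPoint X, ?_, ?_⟩
    · exact ((genericPoint_spec X).mem_open_set_iff hV.2).mpr (by simpa using hne)
    · rw [Scheme.Opens.range_ι]
      exact hgenU

end Groth.Agent.S0244
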