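import Groth.Statements.S0245
import Mathlib
import Groth.Agent.Lib.Helper1.FEtFull
import Groth.Agent.Lib.Helper1.FEtFaithful
import Groth.Agent.Lib.Helper1.NormGen

set_option autoImplicit false
universe u
open Pi1

namespace Groth.Agent.S0245

open AlgebraicGeometry CategoryTheory CategoryTheory.Limits in
/-- For a normal integral scheme X, restricting finite étale covers of X along the canonical morphism
from the spectrum of the local ring at the generic point (the spectrum of the function field) is a
full and faithful functor. -/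
theorem result {X : Scheme.{u}} [IsIntegral X] (hX : Pi1.IsNormalScheme X) :
    (FEt.restrict (X.fromSpecStalk (genericPoint X))).Full ∧
    (FEt.restrict (X.fromSpecStalk (genericPoint X))).Faithful := by
  constructor
  · apply Groth.Agent.Lib.Helper1.FEtFull.full_restrict_of_sections
    intro P Q σ hσ
    haveI : IsFinite Q.hom := Q.prop.1
    haveI : Etale P.hom := P.prop.2
    obtain ⟨g, hg⟩ : ∃ t : P.left ⟶ X, t = P.hom := ⟨_, rfl⟩
    obtain ⟨p, hp⟩ : ∃ t, t = pullback.fst P.hom Q.hom := ⟨_, rfl⟩
    haveI : Smooth g := hg ▸ inferInstance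
    haveI : IsFinite p := hp ▸ MorphismProperty.pullback_fst _ _ inferInstance
    rw [← hp] at hσ ⊢
    have hσ' : ((pullbackSymmetry (X.fromSpecStalk (genericPoint X)) P.hom).hom ≫ σ) ≫ p =
        pullback.snd (X.fromSpecStalk (genericPoint X)) P.hom := by
      rw [Category.assoc, hσ, pullbackSymmetry_hom_comp_fst]
    obtain ⟨s, hs1, hs2⟩ := Groth.Agent.Lib.Helper1.NormGen.exists_section_of_generic hX P.hom p
      ((pullbackSymmetry (X.fromSpecStalk (genericPoint X)) P.hom).hom ≫ σ) hσ'
    refine ⟨s, hs1, ?_⟩
    rw [← pullbackSymmetry_hom_comp_snd, Category.assoc, hs2, ← Category.assoc]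
    have h3 : (pullbackSymmetry P.hom (X.fromSpecStalk (genericPoint X))).hom ≫
        (pullbackSymmetry (X.fromSpecStalk (genericPoint X)) P.hom).hom = 𝟙 _ := by
      apply pullback.hom_ext <;> simp
    rw [h3, Category.id_comp]
  · apply Groth.Agent.Lib.Helper1.FEtFaithful.faithful_restrict_of_clopen
    intro U hU hne
    refine ⟨genericPoint X, ?_, ?_⟩
    · exact ((genericPoint_spec X).mem_open_set_iff hU.2).mpr (by simpa using hne)
    · exact ⟨_, Scheme.fromSpecStalk_closedPoint⟩

end Groth.Agent.S0245
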