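import Groth.Statements.S0249
import Mathlib

set_option autoImplicit false
universe u
open Pi1

namespace Groth.Agent.S0249

theorem map_mk_lt_map_mk {A : Type*} [CommRing A] (q : Ideal A) {I J : Ideal A} (hqI : q ≤ I)
    (hIJ : I < J) : I.map (Ideal.Quotient.mk q) < J.map (Ideal.Quotient.mk q) := by
  refine lt_of_le_of_ne (Ideal.map_mono hIJ.le) ?_
  intro h
  have h1 := congrArg (Ideal.comap (Ideal.Quotient.mk q)) h
  rw [Ideal.comap_map_of_surjective _ Ideal.Quotient.mk_surjective,
    Ideal.comap_map_of_surjective _ Ideal.Quotient.mk_surjective, ← RingHom.ker_eq_comap_bot,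
    Ideal.mk_ker, sup_eq_left.mpr hqI, sup_eq_left.mpr (hqI.trans hIJ.le)] at h1
  exact hIJ.ne h1

theorem one_le_height_of_lt {A : Type*} [CommRing A] {I J : Ideal A} [I.IsPrime] [J.IsPrime]
    (h : I < J) : 1 ≤ J.height :=
  le_trans le_add_self (Ideal.height_add_one_le_of_lt_of_isPrime h)

theorem height_lt_of_lt {A : Type*} [CommRing A] [IsNoetherianRing A] {I J : Ideal A}
    [I.IsPrime] [J.IsPrime] (h : I < J) : I.height < J.height :=
  (ENat.add_one_le_iff Ideal.height_ne_top_of_isPrime).mp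
    (Ideal.height_add_one_le_of_lt_of_isPrime h)

open AlgebraicGeometry CategoryTheory CategoryTheory.Limits in
/-- Let A be a Noetherian local ring of dimension at least 1 and f an element of its maximal ideal. Then
some prime ideal of height exactly 1 contains f. -/
theorem result (A : Type u) [CommRing A] [IsNoetherianRing A] [IsLocalRing A]
    (h : (1 : WithBot ℕ∞) ≤ ringKrullDim A) (f : A) (hf : f ∈ IsLocalRing.maximalIdeal A) :
    ∃ p : Ideal A, p.IsPrime ∧ f ∈ p ∧ p.height = 1 := by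
  classical
  let S : Set (PrimeSpectrum A) := {P | f ∈ P.asIdeal ∧ 1 ≤ P.asIdeal.height}
  have hm : IsLocalRing.closedPoint A ∈ S := by
    refine ⟨hf, ?_⟩
    have h1 := IsLocalRing.maximalIdeal_height_eq_ringKrullDim (R := A)
    rw [← h1] at h
    change (1 : ℕ∞) ≤ (IsLocalRing.maximalIdeal A).height
    exact_mod_cast h
  obtain ⟨P, hPS, hPmin⟩ := WellFounded.has_min
    (InvImage.wf (fun P : PrimeSpectrum A => P.asIdeal.height) wellFounded_lt) S ⟨_, hm⟩
  refine ⟨P.asIdeal, P.isPrime, hPS.1, ?_⟩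
  by_contra hne
  have h2 : (2 : ℕ∞) ≤ P.asIdeal.height := by
    have h1 : (1 : ℕ∞) < P.asIdeal.height := lt_of_le_of_ne hPS.2 (Ne.symm hne)
    have := Order.add_one_le_of_lt h1
    rwa [one_add_one_eq_two] at this
  obtain ⟨l, hlast, hlen⟩ := Order.exists_series_of_le_height P (n := 2) (by
    rw [← PrimeSpectrum.height_eq_orderHeight]; exact_mod_cast h2)
  have hq1 : l ⟨0, by omega⟩ < l ⟨1, by omega⟩ := l.strictMono (by simp [Fin.lt_def])
  have h1P : l ⟨1, by omega⟩ < P := by
    rw [← hlast]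
    exact l.strictMono (by simp [Fin.lt_def, hlen])
  set q := l ⟨0, by omega⟩ with hq
  set P1 := l ⟨1, by omega⟩ with hP1
  have hq1' : q.asIdeal < P1.asIdeal := hq1
  have h1P' : P1.asIdeal < P.asIdeal := h1P
  by_cases hfP1 : f ∈ P1.asIdeal
  · have hS1 : P1 ∈ S := ⟨hfP1, one_le_height_of_lt hq1'⟩
    exact hPmin P1 hS1 (height_lt_of_lt h1P')
  · have hfq : f ∉ q.asIdeal := fun hh => hfP1 (hq1'.le hh)
    have hIP : q.asIdeal ⊔ Ideal.span {f} ≤ P.asIdeal :=
      sup_le (hq1'.le.trans h1P'.le) ((Ideal.span_singleton_le_iff_mem _).mpr hPS.1)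
    obtain ⟨P', hP'min, hP'le⟩ := Ideal.exists_minimalPrimes_le hIP
    haveI hP'prime : P'.IsPrime := hP'min.1.1
    have hqP' : q.asIdeal ≤ P' := le_sup_left.trans hP'min.1.2
    have hfP' : f ∈ P' := hP'min.1.2 (Ideal.mem_sup_right (Ideal.mem_span_singleton_self f))
    have hqltP' : q.asIdeal < P' := lt_of_le_of_ne hqP' (fun he => hfq (he ▸ hfP'))
    have hS' : (⟨P', hP'prime⟩ : PrimeSpectrum A) ∈ S := ⟨hfP', one_le_height_of_lt hqltP'⟩
    have hne' : P' ≠ P.asIdeal := by
      intro he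
      have hle1 := Ideal.map_height_le_one_of_mem_minimalPrimes hP'min
      rw [he] at hle1
      haveI : IsNoetherianRing (A ⧸ q.asIdeal) := inferInstance
      have hker : ∀ J : Ideal A, q.asIdeal ≤ J →
          RingHom.ker (Ideal.Quotient.mk q.asIdeal) ≤ J := fun J hJ => by
        rw [Ideal.mk_ker]; exact hJ
      haveI p0 : (q.asIdeal.map (Ideal.Quotient.mk q.asIdeal)).IsPrime :=
        Ideal.map_isPrime_of_surjective Ideal.Quotient.mk_surjective (hker _ le_rfl)
      haveI p1 : (P1.asIdeal.map (Ideal.Quotient.mk q.asIdeal)).IsPrime :=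
        Ideal.map_isPrime_of_surjective Ideal.Quotient.mk_surjective (hker _ hq1'.le)
      haveI p2 : (P.asIdeal.map (Ideal.Quotient.mk q.asIdeal)).IsPrime :=
        Ideal.map_isPrime_of_surjective Ideal.Quotient.mk_surjective
          (hker _ (hq1'.le.trans h1P'.le))
      have l1 := map_mk_lt_map_mk q.asIdeal le_rfl hq1'
      have l2 := map_mk_lt_map_mk q.asIdeal hq1'.le h1P'
      have g1 : (1 : ℕ∞) ≤ (P1.asIdeal.map (Ideal.Quotient.mk q.asIdeal)).height :=
        one_le_height_of_lt l1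
      have g2 := Ideal.height_add_one_le_of_lt_of_isPrime l2
      have g3 : (2 : ℕ∞) ≤ (P.asIdeal.map (Ideal.Quotient.mk q.asIdeal)).height := by
        refine le_trans ?_ g2
        rw [← one_add_one_eq_two]
        exact add_le_add_left g1 1
      have : (2 : ℕ∞) ≤ 1 := g3.trans hle1
      exact absurd this (by decide)
    have hlt : P' < P.asIdeal := lt_of_le_of_ne hP'le hne'
    exact hPmin ⟨P', hP'prime⟩ hS' (height_lt_of_lt hlt)

end Groth.Agent.S0249
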