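import Groth.Statements.S0253
import Mathlib

set_option autoImplicit false
universe u
open Pi1

namespace Groth.Agent.S0253

namespace H1.S0253aux

open Polynomial

/-- Core: R integrally closed local domain, with fraction field K separably closed, not a field.
Then the residue field is algebraically closed. -/
theorem core (R : Type u) [CommRing R] [IsDomain R] [IsIntegrallyClosed R] [IsLocalRing R]
    (K : Type u) [Field K] [Algebra R K] [IsFractionRing R K] [IsSepClosed K]
    (t : R) (ht : t ∈ IsLocalRing.maximalIdeal R) (ht0 : t ≠ 0) :
    IsAlgClosed (IsLocalRing.ResidueField R) := by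
  apply IsAlgClosed.of_exists_root
  intro P hPm hPirr
  -- lift P to monic Q
  have hsurj : Function.Surjective (IsLocalRing.residue R) := IsLocalRing.residue_surjective
  have hlift : P ∈ lifts (IsLocalRing.residue R) := by
    rw [lifts_iff_coeff_lifts]
    intro n
    exact hsurj _
  obtain ⟨Q, hQP, hQdeg, hQm⟩ := lifts_and_degree_eq_and_monic hlift hPm
  -- the key claim: any monic lift Q' of P has degree one
  have key : ∀ Q' : R[X], Q'.Monic → Q'.map (IsLocalRing.residue R) = P →
      (Q'.map (algebraMap R K)).Separable → P.degree = 1 := by
    intro Q' hQ'm hQ'P hsep
    have hirr : Irreducible Q' := by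
      apply hQ'm.irreducible_of_irreducible_map (IsLocalRing.residue R)
      rw [hQ'P]; exact hPirr
    have hirrK : Irreducible (Q'.map (algebraMap R K)) :=
      (hQ'm.irreducible_iff_irreducible_map_fraction_map (K := K)).1 hirr
    have h1 := IsSepClosed.degree_eq_one_of_irreducible K hirrK hsep
    rw [← hQ'P, hQ'm.degree_map] 
    rw [hQ'm.degree_map] at h1
    exact h1
  have hdeg1 : P.degree = 1 := by
    by_cases hsep : (Q.map (algebraMap R K)).Separable
    · exact key Q hQm hQP hsep
    · -- derivative zero
      have hirr : Irreducible Q := by
        apply hQm.irreducible_of_irreducible_map (IsLocalRing.residue R)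
        rw [hQP]; exact hPirr
      have hirrK : Irreducible (Q.map (algebraMap R K)) :=
        (hQm.irreducible_iff_irreducible_map_fraction_map (K := K)).1 hirr
      have hder : derivative (Q.map (algebraMap R K)) = 0 := by
        by_contra h
        exact hsep ((separable_iff_derivative_ne_zero hirrK).2 h)
      by_cases hd : P.degree ≤ 1
      · -- degree ≤ 1 and irreducible monic → degree = 1
        have : P.degree ≠ 0 := by
          intro h0
          have := hPirr.not_isUnit
          apply this
          rw [eq_C_of_degree_eq_zero h0]
          have hc : P.coeff 0 ≠ 0 := by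
            intro hc0
            have := eq_C_of_degree_eq_zero h0
            rw [hc0, map_zero] at this
            exact hPirr.ne_zero this
          exact isUnit_C.2 (isUnit_iff_ne_zero.2 hc)
        have h2 : P.degree ≠ ⊥ := by
          rw [Ne, degree_eq_bot]; exact hPirr.ne_zero
        rw [degree_eq_natDegree hPirr.ne_zero] at hd this ⊢
        have hd' : P.natDegree ≤ 1 := by exact_mod_cast hd
        have h0' : P.natDegree ≠ 0 := by exact_mod_cast this
        have : P.natDegree = 1 := by omega
        rw [this]; rfl
      · push Not at hd
        -- Q₁ = Q + C t * X
        have hQdeg' : (1 : WithBot ℕ) < Q.degree := by rw [hQdeg]; exact hd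
        have hlt : (C t * X : R[X]).degree < Q.degree := by
          refine lt_of_le_of_lt (degree_C_mul_X_le t) hQdeg'
        have hQ1m : (Q + C t * X).Monic := hQm.add_of_left hlt
        have hQ1P : (Q + C t * X).map (IsLocalRing.residue R) = P := by
          rw [Polynomial.map_add, hQP, Polynomial.map_mul, map_C, map_X]
          have : IsLocalRing.residue R t = 0 := by
            rw [IsLocalRing.residue_eq_zero_iff]; exact ht
          rw [this, map_zero, zero_mul, add_zero]
        have hirr1 : Irreducible (Q + C t * X) := by
          apply hQ1m.irreducible_of_irreducible_map (IsLocalRing.residue R)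
          rw [hQ1P]; exact hPirr
        have hirrK1 : Irreducible ((Q + C t * X).map (algebraMap R K)) :=
          (hQ1m.irreducible_iff_irreducible_map_fraction_map (K := K)).1 hirr1
        have hsep1 : ((Q + C t * X).map (algebraMap R K)).Separable := by
          rw [separable_iff_derivative_ne_zero hirrK1]
          rw [Polynomial.map_add, derivative_add, hder, zero_add, Polynomial.map_mul, map_C, map_X,
            derivative_C_mul, derivative_X, mul_one]
          intro h
          have : algebraMap R K t = 0 := by simpa using h
          exact ht0 ((IsFractionRing.injective R K) (by rw [this, map_zero]))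
        exact key _ hQ1m hQ1P hsep1
  exact exists_root_of_degree_eq_one hdeg1

theorem main (A : Type u) [CommRing A] [IsDomain A] [IsIntegrallyClosed A]
    [IsSepClosed (FractionRing A)]
    (p : Ideal A) [p.IsPrime] (hp : p ≠ ⊥) : IsAlgClosed p.ResidueField := by
  obtain ⟨a, hap, ha0⟩ := Submodule.exists_mem_ne_zero_of_ne_bot hp
  haveI : IsIntegrallyClosed (Localization.AtPrime p) :=
    isIntegrallyClosed_of_isLocalization (Localization.AtPrime p) p.primeCompl
      p.primeCompl_le_nonZeroDivisors
  refine core (Localization.AtPrime p) (FractionRing A) (algebraMap A _ a) ?_ ?_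
  · rw [← Localization.AtPrime.under_maximalIdeal (I := p)] at hap
    exact hap
  · intro h
    apply ha0
    have hinj : Function.Injective (algebraMap A (Localization.AtPrime p)) :=
      IsLocalization.injective _ p.primeCompl_le_nonZeroDivisors
    exact hinj (by rw [h, map_zero])

end H1.S0253aux

open AlgebraicGeometry CategoryTheory CategoryTheory.Limits in
/-- Let A be an integrally closed domain whose fraction field is separably closed. Then the residue
field at any nonzero prime ideal of A is algebraically closed. -/
theorem result (A : Type u) [CommRing A] [IsDomain A] [IsIntegrallyClosed A] [IsSepClosed (FractionRing A)]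
    (p : Ideal A) [p.IsPrime] (hp : p ≠ ⊥) : IsAlgClosed p.ResidueField := by
  exact H1.S0253aux.main A p hp

end Groth.Agent.S0253
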