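import Groth.Statements.S0267
import Mathlib
import Groth.Agent.Lib.Helper1.Gal5

set_option autoImplicit false
universe u v
open Pi1

namespace Groth.Agent.S0267


open CategoryTheory CategoryTheory.Limits in
/-- For an exact functor H between Galois categories, H is fully faithful exactly when it carries
connected objects to connected objects (both are equivalent to surjectivity of the induced map on
fundamental groups). -/
theorem result {C : Type u} [Category.{v} C]
    [GaloisCategory C] {D : Type u} [Category.{v} D] [GaloisCategory D]
    (H : C ⥤ D) [PreservesFiniteLimits H] [PreservesFiniteColimits H] :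
    (H.Full ∧ H.Faithful) ↔
      ∀ X : C, PreGaloisCategory.IsConnected X → PreGaloisCategory.IsConnected (H.obj X) := by
  let F' := PreGaloisCategory.GaloisCategory.getFiberFunctor D
  haveI : PreGaloisCategory.FiberFunctor (H ⋙ F') :=
    Groth.Agent.Lib.Helper1.Gal.fiberFunctorComp H F'
  constructor
  · rintro ⟨hfull, -⟩ X hX
    haveI := hfull
    haveI := hX
    exact Groth.Agent.Lib.Helper1.Gal.isConnected_map_of_surjective H F'
      (Groth.Agent.Lib.Helper1.Gal.surjective_of_full H F') X
  · intro h
    exact ⟨Groth.Agent.Lib.Helper1.Gal.full_of_surjective H F'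
      (Groth.Agent.Lib.Helper1.Gal.surjective_of_isConnected_map H F' h),
      Groth.Agent.Lib.Helper1.Gal.faithful_of_fiberFunctor H F'⟩

end Groth.Agent.S0267
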