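import Groth.Statements.S0274
import Mathlib
import Groth.Agent.Lib.Helper1.UnivInj1

set_option autoImplicit false
universe u
open scoped TensorProduct
open Pi1

namespace Groth.Agent.S0274

namespace Groth.Agent.S0274.Aux

open Groth.Agent.Lib.Helper1.UnivInj TensorProduct

variable {R S : Type u} [CommRing R] [CommRing S] [Algebra R S]
  {M : Type u} [AddCommGroup M] [Module R M]

/-- the linear system -/
noncomputable def Phi {l : ℕ} {κ : Type} [Fintype κ] (f : Fin l → R) (n : κ → M) :
    (Fin l → κ → R) →ₗ[R] (κ → R) × (Fin l → M) :=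
  LinearMap.prod
    (LinearMap.pi fun jt => ∑ i, f i • ((LinearMap.proj jt : (κ → R) →ₗ[R] R) ∘ₗ (LinearMap.proj i)))
    (LinearMap.pi fun i => ∑ jt, (LinearMap.toSpanSingleton R M (n jt)) ∘ₗ
      ((LinearMap.proj jt : (κ → R) →ₗ[R] R) ∘ₗ (LinearMap.proj i)))

lemma Phi_fst {l : ℕ} {κ : Type} [Fintype κ] (f : Fin l → R) (n : κ → M) (c : Fin l → κ → R)
    (jt : κ) : (Phi f n c).1 jt = ∑ i, f i * c i jt := by
  simp [Phi]

lemma Phi_snd {l : ℕ} {κ : Type} [Fintype κ] (f : Fin l → R) (n : κ → M) (c : Fin l → κ → R)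
    (i : Fin l) : (Phi f n c).2 i = ∑ jt, c i jt • n jt := by
  simp [Phi]

/-- solvability descends -/
lemma exists_solution (h : Pi1.UnivInjective R S) {l : ℕ} {κ : Type} [Fintype κ] [DecidableEq κ]
    (f : Fin l → R) (x : Fin l → M) (n : κ → M) (a : Fin l → κ → S)
    (h1 : ∀ i, (1 : S) ⊗ₜ[R] x i = ∑ jt, a i jt ⊗ₜ[R] n jt)
    (h2 : ∀ jt, ∑ i, algebraMap R S (f i) * a i jt = 0) :
    ∃ c : Fin l → κ → R, (∀ i, x i = ∑ jt, c i jt • n jt) ∧ ∀ jt, ∑ i, f i * c i jt = 0 := by
  set Φ := Phi f n with hΦ
  set b : (κ → R) × (Fin l → M) := (0, x) with hb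
  have key : (LinearMap.range Φ).mkQ b = 0 := by
    apply mk_one_injective h
    show (1 : S) ⊗ₜ[R] ((LinearMap.range Φ).mkQ b) = (1 : S) ⊗ₜ[R] ((LinearMap.range Φ).mkQ 0)
    rw [map_zero, tmul_zero]
    -- 1 ⊗ b is in the range of lTensor Φ
    have hb' : (1 : S) ⊗ₜ[R] b = LinearMap.lTensor S Φ
        (∑ i, ∑ jt, a i jt ⊗ₜ[R] (Pi.single i (Pi.single jt (1 : R)) : Fin l → κ → R)) := by
      simp only [map_sum, LinearMap.lTensor_tmul]
      have hΦE : ∀ i jt, Φ (Pi.single i (Pi.single jt (1 : R))) =
          LinearMap.inl R (κ → R) (Fin l → M) (f i • Pi.single jt (1 : R)) +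
          LinearMap.inr R (κ → R) (Fin l → M) (Pi.single i (n jt)) := by
        intro i jt
        ext j
        · simp only [hΦ, Phi_fst, Prod.fst_add, LinearMap.coe_inl, LinearMap.coe_inr, add_zero,
            Pi.add_apply, Pi.smul_apply, smul_eq_mul]
          rw [Finset.sum_eq_single i]
          · simp [Pi.single_apply]
          · intro i' _ hi'
            simp [Pi.single_apply, hi']
          · simp
        · simp only [hΦ, Phi_snd, Prod.snd_add, LinearMap.coe_inl, LinearMap.coe_inr, zero_add,
            Pi.add_apply]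
          by_cases hij : j = i
          · subst hij
            rw [Finset.sum_eq_single jt]
            · simp
            · intro jt' _ hjt'
              simp [Pi.single_apply, hjt']
            · simp
          · have h0 : (Pi.single i (Pi.single jt (1 : R)) : Fin l → κ → R) j = 0 := by
              rw [Pi.single_apply, if_neg hij]
            have h1' : (Pi.single i (n jt) : Fin l → M) j = 0 := by
              rw [Pi.single_apply, if_neg hij]
            simp [h0, h1']
      simp only [hΦE, tmul_add, Finset.sum_add_distrib]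
      have e1 : ∑ i, ∑ jt, a i jt ⊗ₜ[R]
          (LinearMap.inl R (κ → R) (Fin l → M)) (f i • Pi.single jt (1 : R)) = 0 := by
        rw [Finset.sum_comm]
        refine Finset.sum_eq_zero fun jt _ => ?_
        have : ∀ i, a i jt ⊗ₜ[R] (LinearMap.inl R (κ → R) (Fin l → M)) (f i • Pi.single jt (1 : R)) =
            (algebraMap R S (f i) * a i jt) ⊗ₜ[R]
              (LinearMap.inl R (κ → R) (Fin l → M)) (Pi.single jt (1 : R)) := by
          intro i
          rw [map_smul, tmul_smul, smul_tmul', Algebra.smul_def]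
        simp only [this]
        rw [← sum_tmul, h2 jt, zero_tmul]
      have e2 : ∑ i, ∑ jt, a i jt ⊗ₜ[R]
          (LinearMap.inr R (κ → R) (Fin l → M)) (Pi.single i (n jt)) = (1 : S) ⊗ₜ[R] b := by
        have hbx : b = ∑ i, (LinearMap.inr R (κ → R) (Fin l → M)) (Pi.single i (x i)) := by
          rw [← map_sum]
          simp only [hb, LinearMap.coe_inr]
          congr 1
          ext j
          simp [Finset.sum_apply, Pi.single_apply]
        rw [hbx, tmul_sum]
        refine Finset.sum_congr rfl fun i _ => ?_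
        have := congrArg (LinearMap.lTensor S
          ((LinearMap.inr R (κ → R) (Fin l → M)) ∘ₗ (LinearMap.single R (fun _ : Fin l => M) i))) (h1 i)
        simp only [map_sum, LinearMap.lTensor_tmul, LinearMap.comp_apply,
          LinearMap.coe_single] at this
        exact this.symm
      rw [e1, e2, zero_add]
    have : (1 : S) ⊗ₜ[R] ((LinearMap.range Φ).mkQ b) =
        LinearMap.lTensor S (LinearMap.range Φ).mkQ ((1 : S) ⊗ₜ[R] b) := by
      rw [LinearMap.lTensor_tmul]
    rw [this, hb', ← LinearMap.comp_apply, ← LinearMap.lTensor_comp]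
    have : (LinearMap.range Φ).mkQ ∘ₗ Φ = 0 := by
      apply LinearMap.ext
      intro c
      simp
    rw [this, LinearMap.lTensor_zero, LinearMap.zero_apply]
  rw [Submodule.mkQ_apply, Submodule.Quotient.mk_eq_zero] at key
  obtain ⟨c, hc⟩ := key
  refine ⟨c, fun i => ?_, fun jt => ?_⟩
  · rw [← Phi_snd f n c i, ← hΦ, hc]
  · rw [← Phi_fst f n c jt, ← hΦ, hc]
    rfl

end Groth.Agent.S0274.Aux

/-- Let R -> S be universally injective and M an R-module such that S ⊗_R M is flat over S. Then M is
flat over R. -/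
theorem result (R S : Type u) [CommRing R] [CommRing S] [Algebra R S]
    (h : Pi1.UnivInjective R S) (M : Type u) [AddCommGroup M] [Module R M]
    [Module.Flat S (S ⊗[R] M)] : Module.Flat R M := by
  classical
  apply Module.Flat.of_forall_isTrivialRelation
  intro l f x hfx
  -- the relation over S
  have hS : ∑ i, algebraMap R S (f i) • ((1 : S) ⊗ₜ[R] x i) = 0 := by
    have : ∀ i, algebraMap R S (f i) • ((1 : S) ⊗ₜ[R] x i) = (1 : S) ⊗ₜ[R] (f i • x i) := by
      intro i
      rw [TensorProduct.tmul_smul, TensorProduct.smul_tmul', TensorProduct.smul_tmul',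
        smul_eq_mul, mul_one, Algebra.smul_def, mul_one]
    simp only [this]
    rw [← TensorProduct.tmul_sum, hfx, TensorProduct.tmul_zero]
  obtain ⟨k, a, y, hy, ha⟩ := Module.Flat.isTrivialRelation_of_sum_smul_eq_zero hS
  choose T s n hn using fun j : Fin k => TensorProduct.exists_sum_tmul_eq (y j)
  obtain ⟨c, hc1, hc2⟩ := Groth.Agent.S0274.Aux.exists_solution h (κ := Σ j : Fin k, Fin (T j)) f x
    (fun jt => n jt.1 jt.2) (fun i jt => a i jt.1 * s jt.1 jt.2)
    (fun i => by
      have hyi : (1 : S) ⊗ₜ[R] x i = ∑ j, a i j • y j := hy i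
      rw [hyi, Fintype.sum_sigma]
      refine Finset.sum_congr rfl fun j _ => ?_
      rw [hn j, Finset.smul_sum]
      refine Finset.sum_congr rfl fun t _ => ?_
      rw [TensorProduct.smul_tmul', smul_eq_mul])
    (fun jt => by
      have := ha jt.1
      simp only [← mul_assoc]
      rw [← Finset.sum_mul, this, zero_mul])
  let e := Fintype.equivFin (Σ j : Fin k, Fin (T j))
  refine ⟨_, fun i j' => c i (e.symm j'), fun j' => n (e.symm j').1 (e.symm j').2, fun i => ?_, fun j' => ?_⟩
  · rw [hc1 i]
    exact (Equiv.sum_comp e.symm (fun jt => c i jt • n jt.1 jt.2)).symm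
  · exact hc2 (e.symm j')

end Groth.Agent.S0274
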