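import Groth.Statements.S0279
import Mathlib
import Groth.Agent.Lib.Helper1.UnivInj2
import Groth.Agent.S0274

set_option autoImplicit false
universe u
open scoped TensorProduct
open Pi1

namespace Groth.Agent.S0279

/-- Let R → S be a universally injective ring map and A an R-algebra such that S ⊗_R A is étale over S.
Then A is étale over R. -/
theorem result (R S : Type u) [CommRing R] [CommRing S] [Algebra R S]
    (h : Pi1.UnivInjective R S) (A : Type u) [CommRing A] [Algebra R A]
    [Algebra.Etale S (S ⊗[R] A)] : Algebra.Etale R A := by
  haveI : Algebra.FinitePresentation R A :=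
    Groth.Agent.Lib.Helper1.UnivInj.algFinitePresentation_of_tensor h A
  haveI : Module.Flat R A := Groth.Agent.S0274.result R S h A
  haveI : Algebra.FormallyUnramified R A := by
    constructor
    letI := Algebra.TensorProduct.rightAlgebra (R := R) (A := S) (B := A)
    have e := KaehlerDifferential.tensorKaehlerEquivBase R S A (S ⊗[R] A)
    have hsub : Subsingleton (S ⊗[R] Ω[A⁄R]) := e.toEquiv.subsingleton
    refine ⟨fun a b => ?_⟩
    apply Groth.Agent.Lib.Helper1.UnivInj.mk_one_injective h
    exact Subsingleton.elim _ _
  exact Algebra.Etale.of_formallyUnramified_of_flat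

end Groth.Agent.S0279
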