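import Groth.Statements.S0283
import Mathlib
import Groth.Agent.Lib.Helper1.FEtFull
import Groth.Agent.Lib.Helper1.FEtFaithful
import Groth.Agent.Lib.Helper1.EtSections

set_option autoImplicit false
universe u
open Pi1

namespace Groth.Agent.S0283

open AlgebraicGeometry CategoryTheory CategoryTheory.Limits in
/-- Let f : X → Y be a morphism of schemes which is integral, universally injective and surjective (that
is, a universal homeomorphism). Then base change along f, from finite étale covers of Y to finite
étale covers of X, is a full and faithful functor. -/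
theorem result {X Y : Scheme.{u}} (f : X ⟶ Y) [IsIntegralHom f] [UniversallyInjective f] [Surjective f] :
    (FEt.restrict f).Full ∧ (FEt.restrict f).Faithful := by
  constructor
  · apply Groth.Agent.Lib.Helper1.FEtFull.full_restrict_of_sections
    intro P Q σ hσ
    haveI : IsFinite Q.hom := Q.prop.1
    haveI : Etale Q.hom := Q.prop.2
    obtain ⟨g', hg'⟩ : ∃ t, t = pullback.fst P.hom f := ⟨_, rfl⟩
    obtain ⟨p, hp⟩ : ∃ t, t = pullback.fst P.hom Q.hom := ⟨_, rfl⟩
    haveI : Etale p := hp ▸ inferInstance
    haveI : IsIntegralHom g' := hg' ▸ MorphismProperty.pullback_fst _ _ inferInstance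
    haveI : UniversallyInjective g' := hg' ▸ MorphismProperty.pullback_fst _ _ inferInstance
    haveI : Surjective g' := hg' ▸ MorphismProperty.pullback_fst _ _ inferInstance
    rw [← hg', ← hp] at hσ ⊢
    have hc : σ ≫ p = 𝟙 _ ≫ g' := by rw [hσ, Category.id_comp]
    obtain ⟨s, hs1, hs2⟩ := Groth.Agent.H1.EtSections.exists_section_of_section_pullback p g'
      (pullback.lift σ (𝟙 _) hc) (pullback.lift_snd _ _ _)
    refine ⟨s, hs1, ?_⟩
    rw [← hs2, pullback.lift_fst]
  · apply Groth.Agent.Lib.Helper1.FEtFaithful.faithful_restrict_of_clopen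
    intro U hU hne
    obtain ⟨y, hy⟩ := hne
    exact ⟨y, hy, f.surjective y⟩

end Groth.Agent.S0283
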