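import Groth.Statements.S0301
import Groth.Agent.Lib.Helper6.LCTorsion

set_option autoImplicit false
universe u v
open InjHull

namespace Groth.Agent.S0301

/-- Over a Noetherian ring, the submodule of an injective module consisting of the elements killed by
some power of a given ideal is again injective. -/
theorem result (R : Type u) [CommRing R] [IsNoetherianRing R] (I : Type u) [AddCommGroup I] [Module R I] (hI : Module.Injective R I) (J : Ideal R) : Module.Injective R ↥(⨆ n : ℕ, Submodule.torsionBySet R I ((J ^ n : Ideal R) : Set R)) := by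
  have hmono : Monotone (fun n : ℕ => Submodule.torsionBySet R I ((J ^ n : Ideal R) : Set R)) := by
    intro n m hnm x hx
    rw [Submodule.mem_torsionBySet_iff] at hx ⊢
    rintro ⟨a, ha⟩
    exact hx ⟨a, Ideal.pow_le_pow_right hnm ha⟩
  have heq : (⨆ n : ℕ, Submodule.torsionBySet R I ((J ^ n : Ideal R) : Set R)) =
      DRing.torsionSub J I := by
    ext x
    rw [Submodule.mem_iSup_of_directed _ hmono.directed_le]
    constructor
    · rintro ⟨n, hn⟩
      rw [Submodule.mem_torsionBySet_iff] at hn
      exact ⟨n, fun a ha => hn ⟨a, ha⟩⟩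
    · rintro ⟨n, hn⟩
      refine ⟨n, ?_⟩
      rw [Submodule.mem_torsionBySet_iff]
      rintro ⟨a, ha⟩
      exact hn a ha
  have hinj := Groth.Agent.H6.LC.torsionSub_injective J I
  rw [heq]
  exact hinj

end Groth.Agent.S0301
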