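import Groth.Statements.S0314
import Groth.Agent.Lib.Helper6.InjHullLocal

set_option autoImplicit false
universe u v
open Matlis

namespace Groth.Agent.S0314

/-- Over a Noetherian local ring an injective hull of the residue field satisfies the descending chain
condition on submodules. -/
theorem result (R : Type u) [CommRing R] [IsLocalRing R] [IsNoetherianRing R] (E : Type u) [AddCommGroup E] [Module R E] (f : IsLocalRing.ResidueField R →ₗ[R] E) (hf : InjHull.IsInjectiveHull f) : IsArtinian R E := by
  exact Groth.Agent.H6.IH.isArtinian_of_hull (IsLocalRing.maximalIdeal R) (f := f) hf

end Groth.Agent.S0314
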