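import Groth.Statements.S0321
import Groth.Agent.Lib.Helper6.DepthKit

set_option autoImplicit false
universe u v
open LocCoh

namespace Groth.Agent.S0321

/-- Depth inequalities along a short exact sequence 0 → N' → N → N'' → 0 of finite modules over a
Noetherian ring: depth N ≥ min(depth N', depth N''), depth N'' ≥ min(depth N, depth N' − 1), depth
N' ≥ min(depth N, depth N'' + 1). -/
theorem result (R : Type u) [CommRing R] [IsNoetherianRing R] (I : Ideal R) (N' : Type u) [AddCommGroup N'] [Module R N'] [Module.Finite R N'] (N : Type u) [AddCommGroup N] [Module R N] [Module.Finite R N] (N'' : Type u) [AddCommGroup N''] [Module R N''] [Module.Finite R N''] (f : N' →ₗ[R] N) (g : N →ₗ[R] N'') (hf : Function.Injective f) (hg : Function.Surjective g) (hfg : Function.Exact f g) : min (LocCoh.idealDepth I N') (LocCoh.idealDepth I N'') ≤ LocCoh.idealDepth I N ∧ min (LocCoh.idealDepth I N) (LocCoh.idealDepth I N' - 1) ≤ LocCoh.idealDepth I N'' ∧ min (LocCoh.idealDepth I N) (LocCoh.idealDepth I N'' + 1) ≤ LocCoh.idealDepth I N' := by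
  refine ⟨?_, ?_, ?_⟩
  · rw [← ENat.forall_natCast_le_iff_le]
    intro n hn
    rw [le_min_iff, Groth.Agent.H6.Depth.le_idealDepth_iff,
      Groth.Agent.H6.Depth.le_idealDepth_iff] at hn
    rw [Groth.Agent.H6.Depth.le_idealDepth_iff]
    intro i hi
    exact Groth.Agent.H6.Depth.subsingleton_mid f g I i hf hg hfg (hn.1 i hi) (hn.2 i hi)
  · rw [← ENat.forall_natCast_le_iff_le]
    intro n hn
    rw [le_min_iff] at hn
    obtain ⟨h1, h2⟩ := hn
    rcases Nat.eq_zero_or_pos n with rfl | hpos
    · simp
    · have h2' : ((n + 1 : ℕ) : ℕ∞) ≤ LocCoh.idealDepth I N' := by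
        generalize LocCoh.idealDepth I N' = d' at h2
        induction d' using ENat.recTopCoe with
        | top => exact le_top
        | coe k =>
          have h3 : n ≤ k - 1 := by exact_mod_cast h2
          exact_mod_cast (by omega : n + 1 ≤ k)
      rw [Groth.Agent.H6.Depth.le_idealDepth_iff] at h1 h2' ⊢
      intro i hi
      exact Groth.Agent.H6.Depth.subsingleton_right f g I i hf hg hfg (h1 i hi)
        (h2' (i + 1) (by omega))
  · rw [← ENat.forall_natCast_le_iff_le]
    intro n hn
    rw [le_min_iff] at hn
    obtain ⟨h1, h2⟩ := hn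
    have h2' : ((n - 1 : ℕ) : ℕ∞) ≤ LocCoh.idealDepth I N'' := by
      generalize LocCoh.idealDepth I N'' = d'' at h2
      induction d'' using ENat.recTopCoe with
      | top => exact le_top
      | coe k =>
        have h3 : n ≤ k + 1 := by exact_mod_cast h2
        exact_mod_cast (by omega : n - 1 ≤ k)
    rw [Groth.Agent.H6.Depth.le_idealDepth_iff] at h1 h2' ⊢
    intro i hi
    cases i with
    | zero => exact Groth.Agent.H6.Depth.subsingleton_left_zero f I hf (h1 0 hi)
    | succ j =>
      exact Groth.Agent.H6.Depth.subsingleton_left_succ f g I j hf hg hfg (h1 (j + 1) hi)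
        (h2' j (by omega))

end Groth.Agent.S0321
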