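import Groth.Statements.S0331
import Groth.Agent.S0329
import Groth.Agent.Lib.Helper6.LocSplit
import Groth.Agent.Lib.Helper6.LCProps

set_option autoImplicit false
universe u v
open LocCoh

namespace Groth.Agent.S0331

/-- Over a Noetherian ring, if H^i_I(R) is finitely generated for i ≤ n, then so is H^i_I(M) for i ≤ n
for every finite module M that becomes finite projective after inverting any single element of I. -/
theorem result (R : Type u) [CommRing R] [IsNoetherianRing R] (I : Ideal R) (n : ℕ) (hR : ∀ i : ℕ, i ≤ n → Module.Finite R (LocCoh.H I i R)) (M : Type u) [AddCommGroup M] [Module R M] [Module.Finite R M] (hM : ∀ f ∈ I, Module.Projective (Localization.Away f) (LocalizedModule (Submonoid.powers f) M)) (i : ℕ) (hi : i ≤ n) : Module.Finite R (LocCoh.H I i M) := by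
  classical
  -- annihilation for the ring
  obtain ⟨JR, hIJR, hJR⟩ := (Groth.Agent.S0329.result R I R n).mp hR
  -- the ideal of elements killing all `H^j_I(M)`, `j ≤ n`
  let J : Ideal R := ⨅ j : Fin (n + 1), Module.annihilator R (LocCoh.H I j M)
  have hJmem : ∀ a : R, a ∈ J ↔ ∀ j : Fin (n + 1), ∀ x : LocCoh.H I j M, a • x = 0 := by
    intro a
    simp only [J, Ideal.mem_iInf, Module.mem_annihilator]
  have hIJ : I ≤ J.radical := by
    intro f hf
    obtain ⟨e, he⟩ := hIJR hf
    haveI := hM f hf
    haveI : Module.FinitePresentation R M := Module.finitePresentation_of_finite R M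
    obtain ⟨k, φ, ψ, s, hφψ⟩ := Groth.Agent.H6.exists_split_of_localized_projective
      (Submonoid.powers f) M (Localization.Away f) (LocalizedModule (Submonoid.powers f) M)
      (LocalizedModule.mkLinearMap (Submonoid.powers f) M)
    obtain ⟨c, hc⟩ := s.2
    refine ⟨e + c, ?_⟩
    rw [hJmem]
    intro j x
    have hfree : ∀ y : (localCohomology I j).obj (ModuleCat.of R (Fin k →₀ R)), f ^ e • y = 0 :=
      Groth.Agent.H6.LC.smul_eq_zero_finsupp (I := I) (i := j) (X := R) (f ^ e)
        (fun z => hJR j (Nat.lt_succ_iff.mp j.2) (f ^ e) he z) k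
    have hcomp : CategoryTheory.CategoryStruct.comp (ModuleCat.ofHom ψ) (ModuleCat.ofHom φ) = (s : R) • CategoryTheory.CategoryStruct.id (ModuleCat.of R M) := by
      apply ModuleCat.hom_ext
      exact hφψ
    have h3 := Groth.Agent.H6.LC.smul_eq_zero_of_split (I := I) (i := j) (ModuleCat.ofHom φ)
      (ModuleCat.ofHom ψ) (s : R) (f ^ e) hcomp hfree x
    rw [pow_add, ← hc] at *
    exact h3
  have := (Groth.Agent.S0329.result R I M n).mpr ⟨J, hIJ, fun j hj a ha x =>
    (hJmem a).mp ha ⟨j, Nat.lt_succ_of_le hj⟩ x⟩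
  exact this i hi

end Groth.Agent.S0331
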