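import Groth.Statements.S0335
import Groth.Agent.Lib.Helper6.HartConn

set_option autoImplicit false
universe u v
open LocCoh

namespace Groth.Agent.S0335

/-- For the ring itself; Hartshorne's connectedness: if a Noetherian local ring has depth at least 2
then its punctured spectrum is connected. -/
theorem result (R : Type u) [CommRing R] [IsLocalRing R] [IsNoetherianRing R] (h : 2 ≤ LocCoh.depth R R) : IsConnected {x : PrimeSpectrum R | x.asIdeal ≠ IsLocalRing.maximalIdeal R} := by
  have hidem : ∀ c : R, c * c = c → c = 0 ∨ c = 1 := by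
    intro c hc
    have h1 : c * (1 - c) = 0 := by
      have : c * (1 - c) = c - c * c := by ring
      rw [this, hc, sub_self]
    rcases IsLocalRing.isUnit_or_isUnit_one_sub_self c with hu | hu
    · right
      have := hu.mul_right_eq_zero.mp h1
      exact (sub_eq_zero.mp this).symm
    · left
      rw [mul_comm] at h1
      exact hu.mul_right_eq_zero.mp h1
  have hvan : ∀ i < 2, Subsingleton (LocCoh.H (IsLocalRing.maximalIdeal R) i R) := by
    unfold LocCoh.depth at h
    have h2 : ((2 : ℕ) : ℕ∞) ≤ LocCoh.idealDepth (IsLocalRing.maximalIdeal R) R := by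
      exact_mod_cast h
    exact (H6.Depth.le_idealDepth_iff _ R 2).mp h2
  have hset : {x : PrimeSpectrum R | x.asIdeal ≠ IsLocalRing.maximalIdeal R} =
      (PrimeSpectrum.zeroLocus ((IsLocalRing.maximalIdeal R : Ideal R) : Set R))ᶜ := by
    ext x
    rw [Set.mem_compl_iff, PrimeSpectrum.mem_zeroLocus, SetLike.coe_subset_coe, Set.mem_setOf_eq]
    constructor
    · intro hx hle
      exact hx ((IsLocalRing.maximalIdeal.isMaximal R).eq_of_le x.2.ne_top hle).symm
    · intro hx heq
      exact hx heq.ge
  rw [hset]
  refine ⟨?_, H6.HartConn.isPreconnected_compl_zeroLocus hidem _ hvan⟩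
  -- non-emptiness: a regular element of the maximal ideal is not nilpotent
  obtain ⟨x, hx, -, -, hreg, -⟩ := H6.HartConn.exists_regular_pair _ hvan
  have hnil : x ∉ nilradical R := by
    intro hn
    obtain ⟨n, hn⟩ := hn
    have hn' : x ^ n = 0 := hn
    have h1 : ∀ m : ℕ, x ^ m = 0 → (1 : R) = 0 := by
      intro m
      induction m with
      | zero => intro h0; simpa using h0
      | succ m ih =>
        intro h0
        apply ih
        apply hreg
        show x • x ^ m = x • 0
        rw [smul_zero, smul_eq_mul, ← pow_succ']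
        exact h0
    exact one_ne_zero (h1 n hn')
  rw [nilradical_eq_sInf, Ideal.mem_sInf] at hnil
  push Not at hnil
  obtain ⟨p, hp, hxp⟩ := hnil
  refine ⟨⟨p, hp⟩, ?_⟩
  rw [Set.mem_compl_iff, PrimeSpectrum.mem_zeroLocus, SetLike.coe_subset_coe]
  intro hle
  exact hxp (hle hx)

end Groth.Agent.S0335
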