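import Groth.Statements.S0358
import Groth.Agent.Lib.Helper6.FlatDepth
import Groth.Agent.Lib.Helper6.DepthLocalHom

set_option autoImplicit false
set_option linter.style.haveILetI false
universe u v
open LocCoh

namespace Groth.Agent.S0358

/-- For a flat local homomorphism R → S of Noetherian local rings whose closed fibre S/m_R S is
Cohen–Macaulay, and a proper ideal I of S, the I-depth of S is at least dim(S/m_R S) − dim(S/(m_R S
+ I)); stated additively. -/
theorem result (R : Type u) [CommRing R] [IsLocalRing R] [IsNoetherianRing R] (S : Type u) [CommRing S] [IsLocalRing S] [IsNoetherianRing S] [Algebra R S] [IsLocalHom (algebraMap R S)] [Module.Flat R S] (hCM : LocCoh.IsCohenMacaulayLocalRing (S ⧸ (IsLocalRing.maximalIdeal R).map (algebraMap R S))) (I : Ideal S) (hI : I ≠ ⊤) : ringKrullDim (S ⧸ (IsLocalRing.maximalIdeal R).map (algebraMap R S)) ≤ ringKrullDim (S ⧸ ((IsLocalRing.maximalIdeal R).map (algebraMap R S) ⊔ I)) + ((LocCoh.idealDepth I S : ℕ∞) : WithBot ℕ∞) := by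
  set J : Ideal S := (IsLocalRing.maximalIdeal R).map (algebraMap R S) with hJ
  have hJle : J ≤ IsLocalRing.maximalIdeal S :=
    ((IsLocalRing.local_hom_TFAE (algebraMap R S)).out 0 2).mp ‹IsLocalHom (algebraMap R S)›
  have hIle : I ≤ IsLocalRing.maximalIdeal S := IsLocalRing.le_maximalIdeal hI
  haveI : IsLocalRing (S ⧸ J) := hCM.toIsLocalRing
  haveI : IsLocalHom (algebraMap S (S ⧸ J)) :=
    IsLocalHom.of_surjective (Ideal.Quotient.mk J) Ideal.Quotient.mk_surjective
  -- the closed fibre is a Cohen–Macaulay `S`-module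
  have hcm : LocCoh.IsCohenMacaulayModule S (S ⧸ J) := by
    unfold LocCoh.IsCohenMacaulayModule
    rw [Module.supportDim_quotient_eq_ringKrullDim, ← Module.supportDim_self_eq_ringKrullDim,
      hCM.supportDim_eq_depth,
      H6.Depth.depth_eq_of_isLocalHom_of_finite (A := S) (B := S ⧸ J) (S ⧸ J)]
  -- grade formula
  have hgrade := H6.CM.supportDim_eq_add_idealDepth (S ⧸ J) hcm I hI
  rw [Module.supportDim_quotient_eq_ringKrullDim] at hgrade
  -- the quotient
  have hsupp : Module.supportDim S ((S ⧸ J) ⧸ (I • (⊤ : Submodule S (S ⧸ J)))) =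
      ringKrullDim (S ⧸ (J ⊔ I)) := by
    rw [← Module.supportDim_quotient_eq_ringKrullDim]
    apply H6.CM.supportDim_eq_of_support_eq
    rw [Module.support_quotient, Module.support_eq_zeroLocus, Module.support_eq_zeroLocus,
      Ideal.annihilator_quotient, Ideal.annihilator_quotient, ← PrimeSpectrum.zeroLocus_union]
    rw [← PrimeSpectrum.zeroLocus_span ((J : Set S) ∪ (I : Set S))]
    congr 1
    rw [Ideal.span_union, Ideal.span_eq, Ideal.span_eq]
  rw [hsupp] at hgrade
  -- comparison of depths
  have e : H6.FlatDepth.Fib R S S ≃ₗ[S] (S ⧸ J) :=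
    Submodule.quotEquivOfEq _ _ (by
      show J • (⊤ : Submodule S S) = J
      rw [smul_eq_mul, Ideal.mul_top])
  have hdep : LocCoh.idealDepth I (S ⧸ J) ≤ LocCoh.idealDepth I S := by
    rw [← H6.HomKer.idealDepth_congr I e]
    exact H6.FlatDepth.idealDepth_fib_le (R := R) I hIle S
  rw [hgrade]
  exact add_le_add_right (WithBot.coe_le_coe.mpr hdep) _

end Groth.Agent.S0358
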