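import Groth.Statements.S0380
import Groth.Agent.S0379
import Groth.Agent.S11618
-- import your own Groth.Agent.* helpers here

set_option autoImplicit false
universe u v
open LocCoh

namespace Groth.Agent.S0380

/-- Local cohomology with support in I vanishes above degree d on all modules exactly when, for every
prime p, local cohomology over A_p with support in I A_p vanishes above degree d on all A_p-modules. -/
theorem result (R : Type u) [CommRing R] [IsNoetherianRing R] (I : Ideal R) (d : ℕ) : LocCoh.CdLE R I d ↔ ∀ (p : Ideal R) [p.IsPrime], LocCoh.CdLE (Localization.AtPrime p) (I.map (algebraMap R (Localization.AtPrime p))) d := by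
  constructor
  · intro h p _
    have : IsNoetherianRing (Localization.AtPrime p) :=
      IsLocalization.isNoetherianRing p.primeCompl _ inferInstance
    exact (Groth.Agent.S0379.result R (Localization.AtPrime p) I d).1 h
  · intro h M _ _ i hi
    apply Module.subsingleton_of_localization_maximal (R := R) (M := LocCoh.H I i M)
      (fun P _ => LocalizedModule P.primeCompl (LocCoh.H I i M))
      (fun P _ => LocalizedModule.mkLinearMap P.primeCompl (LocCoh.H I i M))
    intro P hP
    obtain ⟨e⟩ := Groth.Agent.S11618.result R I P.primeCompl M i
    have h1 : Subsingleton (LocCoh.H (I.map (algebraMap R (Localization.AtPrime P))) i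
        (LocalizedModule P.primeCompl M)) := h P (LocalizedModule P.primeCompl M) i hi
    exact @Equiv.subsingleton _ _ e.toEquiv h1

end Groth.Agent.S0380
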