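import Groth.Statements.S0394
import Groth.Agent.Lib.Helper1.LocalCriterion3

set_option autoImplicit false
universe u
open FlatMor

namespace Groth.Agent.S0394

open TensorProduct in
/-- For a local homomorphism R → S of Noetherian local rings and a nonzero finite S-module M flat over R
whose fibre M/mM is free over S/mS (m the maximal ideal of R), M is free over S and S is flat over
R. -/
theorem result {R S M : Type u} [CommRing R] [CommRing S] [IsLocalRing R] [IsLocalRing S] [IsNoetherianRing R] [IsNoetherianRing S] [Algebra R S] [IsLocalHom (algebraMap R S)]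
    [AddCommGroup M] [Module R M] [Module S M] [IsScalarTower R S M] [Module.Finite S M] [Nontrivial M] [Module.Flat R M]
    (h : Module.Free (S ⧸ ((IsLocalRing.maximalIdeal R).map (algebraMap R S))) ((S ⧸ ((IsLocalRing.maximalIdeal R).map (algebraMap R S))) ⊗[S] M)) :
    Module.Free S M ∧ Module.Flat R S := by
  have : IsLocalHom (algebraMap S S) := by
    rw [Algebra.algebraMap_self]; infer_instance
  have hflat : Module.Flat (S ⧸ ((IsLocalRing.maximalIdeal R).map (algebraMap R S)))
      ((S ⧸ ((IsLocalRing.maximalIdeal R).map (algebraMap R S))) ⊗[S] M) := inferInstance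
  obtain ⟨h1, h2⟩ := Groth.Agent.H1.flat_and_flat_of_flat_fibre (R := R) (S := S) (S' := S) (M := M)
  exact ⟨Module.free_of_flat_of_isLocalRing, h1⟩

end Groth.Agent.S0394
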