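import Groth.Statements.S0395
import Groth.Agent.Lib.Helper1.LocalCriterion2

set_option autoImplicit false
universe u
open FlatMor

namespace Groth.Agent.S0395

open TensorProduct

/-- `1 ⊗ t = 0` in `(R/I) ⊗ S` iff `t ∈ I S`. -/
theorem one_tmul_eq_zero_iff {R S : Type*} [CommRing R] [CommRing S] [Algebra R S] (I : Ideal R)
    (t : S) : (1 : R ⧸ I) ⊗ₜ[R] t = 0 ↔ t ∈ I.map (algebraMap R S) := by
  rw [← (TensorProduct.quotTensorEquivQuotSMul S I).map_eq_zero_iff,
    TensorProduct.quotTensorEquivQuotSMul_mk_one_tmul, Submodule.Quotient.mk_eq_zero,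
    Ideal.smul_top_eq_map]
  rfl

theorem one_tmul_surjective {R S : Type*} [CommRing R] [CommRing S] [Algebra R S] (I : Ideal R)
    (y : (R ⧸ I) ⊗[R] S) : ∃ s : S, y = (1 : R ⧸ I) ⊗ₜ[R] s := by
  induction y using TensorProduct.induction_on with
  | zero => exact ⟨0, by simp⟩
  | add y₁ y₂ h₁ h₂ =>
    obtain ⟨s₁, rfl⟩ := h₁
    obtain ⟨s₂, rfl⟩ := h₂
    exact ⟨s₁ + s₂, by rw [tmul_add]⟩
  | tmul a s =>
    obtain ⟨r, rfl⟩ := Ideal.Quotient.mk_surjective a
    refine ⟨r • s, ?_⟩
    rw [TensorProduct.tmul_smul, TensorProduct.smul_tmul']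
    congr 1
    rw [Algebra.smul_def, mul_one]
    rfl

open TensorProduct nonZeroDivisors in
/-- For a flat local homomorphism R → S of Noetherian local rings and an element f of S that is regular
on the fibre ring S/mS, the quotient of S by f is again R-flat and f is regular on S. -/
theorem result {R S : Type u} [CommRing R] [CommRing S] [IsLocalRing R] [IsLocalRing S] [IsNoetherianRing R] [IsNoetherianRing S] [Algebra R S] [IsLocalHom (algebraMap R S)] [Module.Flat R S]
    (f : S) (hf : Ideal.Quotient.mk ((IsLocalRing.maximalIdeal R).map (algebraMap R S)) f ∈ nonZeroDivisors (S ⧸ ((IsLocalRing.maximalIdeal R).map (algebraMap R S)))) :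
    Module.Flat R (S ⧸ Ideal.span {f}) ∧ f ∈ nonZeroDivisors S := by
  set m := IsLocalRing.maximalIdeal R
  let u : S →ₗ[R] S := LinearMap.mulLeft R f
  have hu : Function.Injective (u.lTensor (R ⧸ m)) := by
    rw [injective_iff_map_eq_zero]
    intro y hy
    obtain ⟨s, rfl⟩ := one_tmul_surjective m y
    rw [LinearMap.lTensor_tmul, one_tmul_eq_zero_iff] at hy
    rw [one_tmul_eq_zero_iff]
    have h1 : Ideal.Quotient.mk (m.map (algebraMap R S)) f * Ideal.Quotient.mk _ s = 0 := by
      rw [← map_mul, Ideal.Quotient.eq_zero_iff_mem]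
      exact hy
    have h2 := (mul_left_mem_nonZeroDivisors_eq_zero_iff hf).mp h1
    exact Ideal.Quotient.eq_zero_iff_mem.mp h2
  have hinj := (Groth.Agent.H1.injective_and_flat_quotient_of_lTensor_residue_injective S u hu).1
  constructor
  · let π : S →ₗ[R] (S ⧸ Ideal.span {f}) := (Ideal.Quotient.mkₐ R (Ideal.span {f})).toLinearMap
    have hπ : Function.Surjective π := Ideal.Quotient.mk_surjective
    have hex : Function.Exact u π := by
      intro x
      change Ideal.Quotient.mk _ x = 0 ↔ _
      rw [Ideal.Quotient.eq_zero_iff_mem, Ideal.mem_span_singleton']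
      constructor
      · rintro ⟨a, rfl⟩; exact ⟨a, mul_comm _ _⟩
      · rintro ⟨a, rfl⟩; exact ⟨a, mul_comm _ _⟩
    exact Groth.Agent.H1.flat_of_exact_of_lTensor_residue_injective S u hu π hex hπ
  · rw [mem_nonZeroDivisors_iff_right]
    intro x hx
    apply hinj
    rw [map_zero]
    change f * x = 0
    rw [mul_comm]; exact hx

end Groth.Agent.S0395
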