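import Groth.Statements.S0397
import Groth.Agent.Lib.Helper1.FlatNilpotentApps

set_option autoImplicit false
universe u
open FlatMor

namespace Groth.Agent.S0397

/-- Over a local ring whose maximal ideal is nilpotent, every flat module (not necessarily finitely
generated) is free. -/
theorem result {R M : Type u} [CommRing R] [IsLocalRing R] (hR : IsNilpotent (IsLocalRing.maximalIdeal R))
    [AddCommGroup M] [Module R M] [Module.Flat R M] : Module.Free R M := H1.free_of_flat_of_isNilpotent_maximalIdeal hR

end Groth.Agent.S0397
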