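import Groth.Statements.S0401
import Mathlib
-- import your own Groth.Agent.* helpers here

set_option autoImplicit false
universe u
open FlatMor

namespace Groth.Agent.S0401

/-- For a finite type ring map R → S quasi-finite at a prime q lying over p, the dimension of S_q is at
most the dimension of R_p. -/
theorem result {R S : Type u} [CommRing R] [CommRing S] [Algebra R S] [Algebra.FiniteType R S] (q : Ideal S) [q.IsPrime] [Algebra.QuasiFiniteAt R q] :
    ringKrullDim (Localization.AtPrime q) ≤ ringKrullDim (Localization.AtPrime (q.under R)) := by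
  obtain ⟨r, hrq, -, hr⟩ := Algebra.zariskisMainProperty_iff.mp
    (Algebra.ZariskisMainProperty.of_finiteType (R := R) q)
  let Sq := Localization.AtPrime q
  let f : PrimeSpectrum Sq → PrimeSpectrum R := PrimeSpectrum.comap (algebraMap R Sq)
  have hf : StrictMono f := by
    intro P Q hPQ
    rw [← PrimeSpectrum.asIdeal_lt_asIdeal] at hPQ ⊢
    let P₀ := P.asIdeal.comap (algebraMap S Sq)
    let Q₀ := Q.asIdeal.comap (algebraMap S Sq)
    have hP₀ : P₀.IsPrime := Ideal.comap_isPrime _ _
    have hle : P₀ ≤ Q₀ := Ideal.comap_mono hPQ.le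
    have hne : ¬ Q₀ ≤ P₀ := by
      intro h
      have h1 : Q.asIdeal ≤ P.asIdeal := by
        rw [← IsLocalization.map_under q.primeCompl Sq Q.asIdeal,
          ← IsLocalization.map_under q.primeCompl Sq P.asIdeal]
        exact Ideal.map_mono h
      exact absurd hPQ (not_lt_of_ge h1)
    obtain ⟨x, hxQ, hxP⟩ := Set.not_subset.mp hne
    obtain ⟨m, hm⟩ := hr x
    have hrP : r ∉ P₀ := by
      intro h
      have h1 : algebraMap S Sq r ∈ P.asIdeal := h
      have h2 : IsUnit (algebraMap S Sq r) :=
        IsLocalization.map_units (M := q.primeCompl) Sq ⟨r, hrq⟩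
      exact P.isPrime.ne_top (Ideal.eq_top_of_isUnit_mem _ h1 h2)
    have hmem : r ^ m * x ∈ (Q₀ : Set S) \ P₀ := by
      refine ⟨Ideal.mul_mem_left _ _ hxQ, fun h => ?_⟩
      rcases hP₀.mem_or_mem h with h1 | h1
      · exact hrP (hP₀.mem_of_pow_mem _ h1)
      · exact hxP h1
    have := Ideal.comap_lt_comap_of_integral_mem_sdiff (R := R) hle hmem hm
    change (P.asIdeal.comap (algebraMap R Sq)) < (Q.asIdeal.comap (algebraMap R Sq))
    rw [IsScalarTower.algebraMap_eq R S Sq, ← Ideal.comap_comap, ← Ideal.comap_comap]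
    exact this
  have h1 := Order.height_le_height_apply_of_strictMono f hf (IsLocalRing.closedPoint Sq)
  have h2 : f (IsLocalRing.closedPoint Sq) = ⟨q.under R, inferInstance⟩ := by
    apply PrimeSpectrum.ext
    change (IsLocalRing.maximalIdeal Sq).comap (algebraMap R Sq) = _
    rw [IsScalarTower.algebraMap_eq R S Sq, ← Ideal.comap_comap]
    have : (IsLocalRing.maximalIdeal Sq).comap (algebraMap S Sq) = q :=
      Localization.AtPrime.under_maximalIdeal
    rw [this]
  rw [h2, ← PrimeSpectrum.height_eq_orderHeight, ← PrimeSpectrum.height_eq_orderHeight] at h1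
  rw [IsLocalization.AtPrime.ringKrullDim_eq_height (q.under R) (Localization.AtPrime (q.under R)),
    ← IsLocalRing.maximalIdeal_height_eq_ringKrullDim]
  exact WithBot.coe_le_coe.mpr h1

end Groth.Agent.S0401
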