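import Groth.Statements.S0403
import Mathlib
import Groth.Agent.Lib.Helper1.Chev3

set_option autoImplicit false
universe u
open FlatMor

namespace Groth.Agent.S0403

open AlgebraicGeometry CategoryTheory Limits in
/-- For a proper morphism the dimension of the fibre is an upper semicontinuous function on the target:
for every bound the set of points whose fibre has dimension at most that bound is open. -/
theorem result {X S : Scheme.{u}} (f : X ⟶ S) [IsProper f] (c : WithBot ℕ∞) :
    IsOpen {s : S | topologicalKrullDim (f.fiber s) ≤ c} := by
  exact Groth.Agent.H1.Chev.isOpen_fiber_dim_le_of_isClosedMap f f.isClosedMap c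

end Groth.Agent.S0403
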