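import Groth.Statements.S0408
import Mathlib
import Groth.Agent.Lib.Helper1.EtLoc1

set_option autoImplicit false
universe u
open FlatMor

namespace Groth.Agent.S0408

namespace H1.S0408aux

open AlgebraicGeometry CategoryTheory Limits

theorem main {X S : Scheme.{u}} (f : X ⟶ S) [LocallyOfFiniteType f] [IsSeparated f] (x : X) (hx : f.QuasiFiniteAt x) :
    ∃ (U : Scheme.{u}) (g : U ⟶ S) (u : U), Etale g ∧ g u = f x ∧ Function.Surjective (g.residueFieldMap u) ∧
      ∃ (V : (pullback f g).Opens) (v : ↑(pullback f g)), IsClopen (V : Set ↑(pullback f g)) ∧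
        IsFinite (V.ι ≫ pullback.snd f g) ∧ v ∈ V ∧ pullback.fst f g v = x ∧ pullback.snd f g v = u ∧
        Function.Surjective ((pullback.fst f g).residueFieldMap v) ∧
        (∀ w : ↑(pullback f g), pullback.snd f g w = u → (w ∈ V ∨ pullback.fst f g w = x) → w = v) := by
  obtain ⟨U, g, u, hg, hgu, hres, V, v, hvV, hfin, hsnd, hfst, huniq⟩ :=
    Groth.Agent.H1.EtLoc.exists_finPart f hx
  have hbij : Function.Bijective (g.residueFieldMap u).hom :=
    ⟨(g.residueFieldMap u).hom.injective, hres⟩
  have hbij' : Function.Bijective (g.residueFieldMap (pullback.snd f g v)).hom :=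
    (Groth.Agent.H1.PBU.bij_congr_point g hsnd).mpr hbij
  refine ⟨U, g, u, hg, hgu, hres, V, v, ⟨?_, V.2⟩, hfin, hvV, hfst, hsnd, ?_, ?_⟩
  · have : IsFinite V.ι := .of_comp _ (pullback.snd f g)
    simpa using V.ι.isClosedMap.isClosed_range
  · exact (Groth.Agent.H1.PBU.bijective_residueFieldMap_fst v hbij').surjective
  · intro w hw h
    rcases h with h | h
    · exact huniq w h hw
    · symm
      apply Groth.Agent.H1.PBU.eq_of_fst_eq_of_snd_eq v w hbij'
      · rw [hfst, h]
      · rw [hsnd, hw]

end H1.S0408aux

open AlgebraicGeometry CategoryTheory Limits in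
/-- Étale localization of a quasi-finite point (one-point case): for f separated and locally of finite
type and x isolated in its fibre, after base change along an étale morphism g with a point u over
f(x) having the same residue field, the base change splits off an open and closed piece V, finite
over the base, whose fibre over u is a single point v lying over x with the same residue field as x,
and no other point over u lies over x. -/
theorem result {X S : Scheme.{u}} (f : X ⟶ S) [LocallyOfFiniteType f] [IsSeparated f] (x : X) (hx : f.QuasiFiniteAt x) :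
    ∃ (U : Scheme.{u}) (g : U ⟶ S) (u : U), Etale g ∧ g u = f x ∧ Function.Surjective (g.residueFieldMap u) ∧
      ∃ (V : (pullback f g).Opens) (v : ↑(pullback f g)), IsClopen (V : Set ↑(pullback f g)) ∧
        IsFinite (V.ι ≫ pullback.snd f g) ∧ v ∈ V ∧ pullback.fst f g v = x ∧ pullback.snd f g v = u ∧
        Function.Surjective ((pullback.fst f g).residueFieldMap v) ∧
        (∀ w : ↑(pullback f g), pullback.snd f g w = u → (w ∈ V ∨ pullback.fst f g w = x) → w = v) := by
  exact H1.S0408aux.main f x hx

end Groth.Agent.S0408
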