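import Groth.Statements.S0414
import Groth.Agent.Lib.Helper1.GenFreeRingHom

set_option autoImplicit false
universe u
open FlatMor

namespace Groth.Agent.S0414

namespace Groth.Agent.H1.GenFlatSch

open AlgebraicGeometry CategoryTheory Limits

theorem affine_piece {X S : Scheme.{u}} (f : X ⟶ S) [IsReduced S] [LocallyOfFiniteType f]
    [QuasiCompact f] (V₀ : S.Opens) (hV₀ : IsAffineOpen V₀) (hne : (V₀ : Set S).Nonempty) :
    ∃ h : Γ(S, V₀), h ≠ 0 ∧ Flat (f ∣_ S.basicOpen h) ∧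
      LocallyOfFinitePresentation (f ∣_ S.basicOpen h) := by
  obtain ⟨s, hsfin, hs⟩ := isCompact_and_isOpen_iff_finite_and_eq_biUnion_affineOpens.mp
    ⟨QuasiCompact.isCompact_preimage (f := f) _ V₀.isOpen hV₀.isCompact, (f ⁻¹ᵁ V₀).isOpen⟩
  have hle : ∀ W : s, W.1.1 ≤ f ⁻¹ᵁ V₀ := by
    intro W x hx
    have : x ∈ ⋃ i ∈ s, (i : Set X) := Set.mem_biUnion W.2 hx
    rw [← hs] at this
    exact this
  haveI : Fintype s := hsfin.fintype
  haveI : Nonempty V₀ := hne.to_subtype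
  let A : s → Type u := fun W => Γ(X, W.1.1)
  letI instA : ∀ W : s, Algebra Γ(S, V₀) (A W) := fun W => (f.appLE V₀ W.1.1 (hle W)).hom.toAlgebra
  have hft : ∀ W ∈ (Finset.univ : Finset s), Algebra.FiniteType Γ(S, V₀) (A W) := fun W _ =>
    (HasRingHomProperty.appLE (P := @LocallyOfFiniteType) f inferInstance ⟨V₀, hV₀⟩ W.1 (hle W) :
      RingHom.FiniteType _)
  obtain ⟨f₀, hf₀, hgood⟩ := Groth.Agent.H1.GenFree.exists_good_family
    (R := Γ(S, V₀)) (Finset.univ : Finset s) A hft 1 one_ne_zero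
  rw [one_mul] at hf₀
  simp only [one_mul] at hgood
  refine ⟨f₀, hf₀, ?_⟩
  set D : S.Opens := S.basicOpen f₀ with hD
  haveI : IsAffine D.toScheme := hV₀.basicOpen f₀
  -- the affine opens of the source
  have hB : ∀ W : s, X.basicOpen ((f.appLE V₀ W.1.1 (hle W)).hom f₀) ≤ (f ⁻¹ᵁ D).ι.opensRange := by
    intro W
    rw [Scheme.Opens.opensRange_ι]
    have := Scheme.basicOpen_appLE f W.1.1 V₀ (hle W) f₀
    rw [this]
    exact inf_le_right
  let U : s → (f ⁻¹ᵁ D).toScheme.affineOpens := fun W =>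
    ⟨(f ⁻¹ᵁ D).ι ⁻¹ᵁ X.basicOpen ((f.appLE V₀ W.1.1 (hle W)).hom f₀),
      (W.1.2.basicOpen _).preimage_of_isOpenImmersion _ (hB W)⟩
  have hU : ⨆ W, ((U W : (f ⁻¹ᵁ D).toScheme.affineOpens) : (f ⁻¹ᵁ D).toScheme.Opens) = ⊤ := by
    rw [eq_top_iff]
    intro x' _
    rw [TopologicalSpace.Opens.mem_iSup]
    have hx1 : x'.1 ∈ f ⁻¹ᵁ D := x'.2
    have hx2 : x'.1 ∈ (f ⁻¹ᵁ V₀ : Set X) := by
      have : f ⁻¹ᵁ D ≤ f ⁻¹ᵁ V₀ := fun y hy => S.basicOpen_le f₀ hy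
      exact this hx1
    rw [show ((f ⁻¹ᵁ V₀ : X.Opens) : Set X) = ⋃ i ∈ s, (i : Set X) from hs] at hx2
    obtain ⟨W, hW, hxW⟩ := Set.mem_iUnion₂.mp hx2
    refine ⟨⟨W, hW⟩, ?_⟩
    change (f ⁻¹ᵁ D).ι x' ∈ X.basicOpen ((f.appLE V₀ W.1 (hle ⟨W, hW⟩)).hom f₀)
    rw [Scheme.basicOpen_appLE f W.1 V₀ (hle ⟨W, hW⟩) f₀]
    exact ⟨hxW, hx1⟩
  have key : ∀ W : s, (RingHom.Flat ((f ∣_ D).appLE ⊤ (U W).1 le_top).hom) ∧
      (RingHom.FinitePresentation ((f ∣_ D).appLE ⊤ (U W).1 le_top).hom) := by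
    intro W
    rw [morphismRestrict_appLE f D ⊤ (U W).1 le_top]
    have h1 : D.ι ''ᵁ ⊤ = S.basicOpen f₀ := by
      rw [Scheme.Hom.image_top_eq_opensRange, Scheme.Opens.opensRange_ι]
    have h2 : (f ⁻¹ᵁ D).ι ''ᵁ (U W).1 = X.basicOpen ((f.appLE V₀ W.1.1 (hle W)).hom f₀) := by
      rw [Scheme.Hom.image_preimage_eq_opensRange_inf]; exact inf_eq_right.mpr (hB W)
    refine (f.appLE_congr _ h1 h2
      (fun φ => RingHom.Flat φ.hom ∧ RingHom.FinitePresentation φ.hom)).mpr ?_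
    rw [IsAffineOpen.appLE_eq_away_map f hV₀ W.1.2 (hle W) f₀]
    haveI i1 : IsLocalization.Away f₀ Γ(S, S.basicOpen f₀) := hV₀.isLocalization_basicOpen f₀
    haveI i2 : IsLocalization.Away (algebraMap Γ(S, V₀) (A W) f₀)
        Γ(X, X.basicOpen ((f.appLE V₀ W.1.1 (hle W)).hom f₀)) :=
      W.1.2.isLocalization_basicOpen ((f.appLE V₀ W.1.1 (hle W)).hom f₀)
    refine (hgood W (Finset.mem_univ _)).flat_and_finitePresentation Γ(S, S.basicOpen f₀)
      Γ(X, X.basicOpen ((f.appLE V₀ W.1.1 (hle W)).hom f₀)) _ ?_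
    rw [CommRingCat.hom_ofHom]
    exact IsLocalization.map_comp (M := Submonoid.powers f₀) _
  exact ⟨HasRingHomProperty.of_iSup_eq_top (P := @Flat) U hU (fun W => (key W).1),
    HasRingHomProperty.of_iSup_eq_top (P := @LocallyOfFinitePresentation) U hU (fun W => (key W).2)⟩

theorem restrict_sSup {P : MorphismProperty Scheme.{u}} [IsZariskiLocalAtTarget P]
    {X S : Scheme.{u}} (f : X ⟶ S) (𝒲 : Set S.Opens) (h : ∀ W ∈ 𝒲, P (f ∣_ W)) :
    P (f ∣_ sSup 𝒲) := by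
  set U : S.Opens := sSup 𝒲 with hU
  have hcover : ⨆ W : 𝒲, U.ι ⁻¹ᵁ W.1 = ⊤ := by
    rw [eq_top_iff]
    intro x _
    rw [TopologicalSpace.Opens.mem_iSup]
    have hx : x.1 ∈ sSup 𝒲 := x.2
    rw [TopologicalSpace.Opens.mem_sSup] at hx
    obtain ⟨W, hW, hxW⟩ := hx
    exact ⟨⟨W, hW⟩, hxW⟩
  rw [IsZariskiLocalAtTarget.iff_of_iSup_eq_top (P := P) _ hcover]
  intro W
  rw [P.arrow_mk_iso_iff (morphismRestrictRestrict f U (U.ι ⁻¹ᵁ W.1))]
  have e : U.ι ''ᵁ U.ι ⁻¹ᵁ W.1 = W.1 := by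
    rw [Scheme.Hom.image_preimage_eq_opensRange_inf, Scheme.Opens.opensRange_ι]
    exact inf_eq_right.mpr (le_sSup W.2)
  rw [e]
  exact h W.1 W.2

end Groth.Agent.H1.GenFlatSch

open AlgebraicGeometry CategoryTheory Limits in
/-- Generic flatness: a morphism X → S of finite type with S reduced is flat and locally of finite
presentation over some dense open subscheme of S. (Stated for the structure sheaf; the published
statement also treats a quasi-coherent O_X-module of finite type.) -/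
theorem result {X S : Scheme.{u}} (f : X ⟶ S) [IsReduced S] [LocallyOfFiniteType f] [QuasiCompact f] :
    ∃ U : S.Opens, Dense (U : Set ↑S) ∧ Flat (f ∣_ U) ∧ LocallyOfFinitePresentation (f ∣_ U) := by
  set 𝒲 : Set S.Opens := {W | Flat (f ∣_ W) ∧ LocallyOfFinitePresentation (f ∣_ W)} with h𝒲
  refine ⟨sSup 𝒲, ?_, ?_, ?_⟩
  · rw [dense_iff_inter_open]
    intro W' hW' hne
    obtain ⟨x, hx⟩ := hne
    obtain ⟨V₀, hV₀, hxV₀, hV₀W'⟩ := TopologicalSpace.Opens.isBasis_iff_nbhd.mp S.isBasis_affineOpens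
      (show x ∈ (⟨W', hW'⟩ : S.Opens) from hx)
    obtain ⟨h, hh, hfl, hfp⟩ := Groth.Agent.H1.GenFlatSch.affine_piece f V₀ hV₀ ⟨x, hxV₀⟩
    have hne : (S.basicOpen h : Set S).Nonempty := by
      by_contra hcon
      rw [Set.not_nonempty_iff_eq_empty] at hcon
      apply hh
      rw [← basicOpen_eq_bot_iff]
      exact TopologicalSpace.Opens.ext hcon
    obtain ⟨y, hy⟩ := hne
    refine ⟨y, hV₀W' (S.basicOpen_le h hy), ?_⟩
    change y ∈ sSup 𝒲
    rw [TopologicalSpace.Opens.mem_sSup]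
    exact ⟨S.basicOpen h, ⟨hfl, hfp⟩, hy⟩
  · haveI : IsZariskiLocalAtTarget @Flat :=
      HasRingHomProperty.instIsZariskiLocalAtTarget _ (Q := RingHom.Flat)
    exact Groth.Agent.H1.GenFlatSch.restrict_sSup (P := @Flat) f 𝒲 (fun W hW => hW.1)
  · haveI : IsZariskiLocalAtTarget @LocallyOfFinitePresentation :=
      HasRingHomProperty.instIsZariskiLocalAtTarget _ (Q := RingHom.FinitePresentation)
    exact Groth.Agent.H1.GenFlatSch.restrict_sSup (P := @LocallyOfFinitePresentation) f 𝒲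
      (fun W hW => hW.2)

end Groth.Agent.S0414
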