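import Groth.Statements.S0422
import Mathlib
import Groth.Agent.Lib.Helper1.CritFib5

set_option autoImplicit false
universe u
open FlatMor

namespace Groth.Agent.S0422

open TensorProduct in
/-- Fibrewise criterion of flatness modulo a locally nilpotent ideal: let R → S be of finite type, S' an
S-algebra which is of finite presentation over R, I an ideal of R all of whose elements are
nilpotent, and M a finitely presented S'-module which is flat over R and such that M/IM is flat over
S/IS. Then M is flat over S. (The published statement also asserts flatness over R of suitable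
localizations of S; that part is not stated here.) -/
theorem result {R S S' M : Type u} [CommRing R] [CommRing S] [CommRing S'] [Algebra R S] [Algebra S S'] [Algebra R S'] [IsScalarTower R S S']
    [Algebra.FiniteType R S] [Algebra.FinitePresentation R S'] (I : Ideal R) (hI : ∀ a ∈ I, IsNilpotent a)
    [AddCommGroup M] [Module S' M] [Module S M] [Module R M] [IsScalarTower S S' M] [IsScalarTower R S M]
    [Module.FinitePresentation S' M] [Module.Flat R M]
    (h : Module.Flat (S ⧸ I.map (algebraMap R S)) ((S ⧸ I.map (algebraMap R S)) ⊗[S] M)) : Module.Flat S M := by
  haveI : Algebra.FinitePresentation S S' :=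
    Algebra.FinitePresentation.of_restrict_scalars_finitePresentation R S S'
  refine Module.flat_of_isLocalized_maximal S' M (fun P _ => LocalizedModule P.primeCompl M)
    (fun P _ => LocalizedModule.mkLinearMap P.primeCompl M) ?_
  intro P hP
  refine Groth.Agent.H1.CritFib.flat_localizedModule_of_flat_fibre I
    (S ⧸ I.map (algebraMap R S)) Ideal.Quotient.mk_surjective ?_ P ?_
  · rw [Ideal.Quotient.algebraMap_eq, Ideal.mk_ker]
  · rw [Ideal.map_le_iff_le_comap]
    intro a ha
    obtain ⟨n, hn⟩ := hI a ha
    rw [Ideal.mem_comap, Ideal.mem_comap]
    refine Ideal.IsPrime.mem_of_pow_mem inferInstance n ?_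
    rw [← map_pow, ← map_pow, hn, map_zero, map_zero]
    exact P.zero_mem

end Groth.Agent.S0422
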