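import Groth.Statements.S0443
import Mathlib

set_option autoImplicit false
universe u
open FlatMor

namespace Groth.Agent.S0443

theorem ring_case {R S : Type u} [CommRing R] [CommRing S] (φ : R →+* S) (hφ : φ.Finite)
    (q : Ideal S) [q.IsPrime] (p : Ideal R) [p.IsPrime] (hpq : p = q.comap φ)
    (hq : ∀ q' : Ideal S, q'.IsPrime → q'.comap φ = q.comap φ → q' = q) :
    (Localization.localRingHom p q φ hpq).Finite := by
  subst hpq
  algebraize [φ]
  haveI : q.LiesOver (q.comap φ) := ⟨rfl⟩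
  letI := Localization.AtPrime.algebraOfLiesOver (q.comap φ) q
  have hs : (q.comap φ).primesOver S = {q} := by
    ext q'
    constructor
    · rintro ⟨h1, h2⟩
      exact hq q' h1 h2.over.symm
    · rintro rfl
      exact ⟨inferInstance, inferInstance⟩
  have := Localization.finite_of_primesOver_eq_singleton hs
  exact RingHom.finite_algebraMap.mpr this

open AlgebraicGeometry CategoryTheory Limits in
/-- For a finite morphism π : X → Y and a point x of X that is the only point of its fibre, the induced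
homomorphism of local rings O_{Y,π(x)} → O_{X,x} is finite. (The published lemma has further parts,
not stated here.) -/
theorem result {X Y : Scheme.{u}} (π : X ⟶ Y) [IsFinite π] (x : X) (hx : ∀ x' : ↑X, π x' = π x → x' = x) :
    (π.stalkMap x).hom.Finite := by
  have hQ' : RingHom.RespectsIso @RingHom.Finite := RingHom.finite_respectsIso
  obtain ⟨U, hU, hfx, _⟩ := TopologicalSpace.Opens.isBasis_iff_nbhd.mp Y.isBasis_affineOpens
    (TopologicalSpace.Opens.mem_top <| π x)
  have hU' : IsAffineOpen U := hU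
  have hV : IsAffineOpen (π ⁻¹ᵁ U) := hU'.preimage π
  have hxV : x ∈ π ⁻¹ᵁ U := hfx
  rw [hQ'.arrow_mk_iso_iff (IsAffineOpen.arrowStalkMapIso π U hU' (π ⁻¹ᵁ U) hV le_rfl hxV)]
  have hφ : (π.appLE U (π ⁻¹ᵁ U) le_rfl).hom.Finite := by
    rw [← Scheme.Hom.app_eq_appLE]
    exact IsFinite.finite_app π U hU'
  rw [CommRingCat.hom_ofHom]
  apply ring_case _ hφ
  intro q' hq' hcomap
  -- the point of `V` corresponding to `q'`
  set x' : ↥(π ⁻¹ᵁ U) := hV.isoSpec.inv ⟨q', hq'⟩ with hx'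
  have h1 : hV.primeIdealOf x' = ⟨q', hq'⟩ := by
    change hV.isoSpec.hom (hV.isoSpec.inv ⟨q', hq'⟩) = _
    rw [← Scheme.Hom.comp_apply, Iso.inv_hom_id]
    rfl
  have h2 := IsAffineOpen.comap_primeIdealOf_appLE (f := π) U hU' (π ⁻¹ᵁ U) hV le_rfl x'.2
  have h3 := IsAffineOpen.comap_primeIdealOf_appLE (f := π) U hU' (π ⁻¹ᵁ U) hV le_rfl hxV
  have h4 : hU'.primeIdealOf ⟨π x'.1, x'.2⟩ = hU'.primeIdealOf ⟨π x, hxV⟩ := by
    rw [← h2, ← h3]
    apply PrimeSpectrum.ext
    change (hV.primeIdealOf ⟨x'.1, x'.2⟩).asIdeal.comap _ = (hV.primeIdealOf ⟨x, hxV⟩).asIdeal.comap _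
    have : (⟨x'.1, x'.2⟩ : ↥(π ⁻¹ᵁ U)) = x' := rfl
    rw [this, h1]
    exact hcomap
  have h5 : (⟨π x'.1, x'.2⟩ : ↥U) = ⟨π x, hxV⟩ := by
    have := congrArg hU'.isoSpec.inv h4
    change hU'.isoSpec.inv (hU'.isoSpec.hom _) = hU'.isoSpec.inv (hU'.isoSpec.hom _) at this
    rw [← Scheme.Hom.comp_apply, ← Scheme.Hom.comp_apply, Iso.hom_inv_id] at this
    exact this
  have h6 : x'.1 = x := hx _ (congrArg Subtype.val h5)
  have h7 : x' = ⟨x, hxV⟩ := Subtype.ext h6
  rw [h7] at h1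
  exact (congrArg PrimeSpectrum.asIdeal h1).symm

end Groth.Agent.S0443
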