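import Groth.Statements.S0445
import Groth.Agent.S0063

set_option autoImplicit false
universe u
open FlatMor

namespace Groth.Agent.S0445

open AlgebraicGeometry CategoryTheory Limits in
/-- Two morphisms over S into an S-scheme unramified over S which agree at a point and induce the same
map on residue fields there agree on an open neighbourhood of that point. -/
theorem result {X Y S : Scheme.{u}} (p : Y ⟶ S) [FormallyUnramified p] [LocallyOfFiniteType p] (f g : X ⟶ Y) (hfg : f ≫ p = g ≫ p)
    (x : X) (h1 : f x = g x) (h2 : f.residueFieldMap x = (Y.residueFieldCongr h1).hom ≫ g.residueFieldMap x) :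
    ∃ U : X.Opens, x ∈ U ∧ U.ι ≫ f = U.ι ≫ g := by
  have hy : X.fromSpecResidueField x ≫ f = X.fromSpecResidueField x ≫ g := by
    rw [← Scheme.Hom.SpecMap_residueFieldMap_fromSpecResidueField,
      ← Scheme.Hom.SpecMap_residueFieldMap_fromSpecResidueField, h2, Spec.map_comp,
      Category.assoc, Scheme.residueFieldCongr_fromSpecResidueField]
  let X' : Over S := Over.mk (f ≫ p)
  let Y' : Over S := Over.mk p
  let f' : X' ⟶ Y' := Over.homMk f
  let g' : X' ⟶ Y' := Over.homMk g (by simp [X', Y', hfg])
  have hunr : FormallyUnramified Y'.hom := ‹_›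
  have hlft : LocallyOfFiniteType Y'.hom := ‹_›
  have hopen : IsOpenImmersion (equalizer.ι f' g').left :=
    Groth.Agent.S0063.isOpenImmersion_equalizer_ι_left f' g'
  let e : (equalizer f' g').left ⟶ X := (equalizer.ι f' g').left
  have he : IsOpenImmersion e := hopen
  refine ⟨e.opensRange, ?_, ?_⟩
  · let ι' : Over.mk (X.fromSpecResidueField x ≫ f ≫ p) ⟶ X' :=
      Over.homMk (X.fromSpecResidueField x)
    have hι : ι' ≫ f' = ι' ≫ g' := by
      ext1
      exact hy
    refine ⟨(equalizer.lift ι' hι).left (default : ↥(Spec (X.residueField x))), ?_⟩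
    change ((equalizer.lift ι' hι).left ≫ (equalizer.ι f' g').left) _ = x
    rw [← Over.comp_left, equalizer.lift_ι]
    exact Scheme.fromSpecResidueField_apply _ _
  · have hcond : e ≫ f = e ≫ g := congr($(equalizer.condition f' g').left)
    rw [← cancel_epi e.isoOpensRange.hom]
    simp only [Scheme.Hom.isoOpensRange_hom_ι_assoc]
    exact hcond

end Groth.Agent.S0445
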