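import Groth.Statements.S0448
import Mathlib

set_option autoImplicit false
universe u
open FlatMor

namespace Groth.Agent.S0448

namespace Groth.Agent.H1.S0448aux

open TensorProduct IsLocalRing

section A

variable {R : Type u} [CommRing R] [IsLocalRing R] {N : Type u} [AddCommGroup N] [Module R N]
  [Module.Flat R N]

theorem lemmaA {ι : Type u} [Fintype ι] [DecidableEq ι] (φ : (ι → R) →ₗ[R] N)
    (hφ : Function.Injective (LinearMap.lTensor (ResidueField R) φ))
    {Q : Type u} [AddCommGroup Q] [Module R Q] (q : ι → Q)
    (h : ∑ i, q i ⊗ₜ[R] φ (Pi.single i 1) = 0) : q = 0 := by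
  have hinj : Function.Injective
      (LinearMap.rTensor N (Submodule.span R (Set.range q)).subtype) :=
    Module.Flat.rTensor_preserves_injective_linearMap _ (Submodule.injective_subtype _)
  obtain ⟨k, a, y, hxy, hq⟩ :=
    TensorProduct.vanishesTrivially_of_sum_tmul_eq_zero_of_rTensor_injective R hinj h
  have hxy' : ∀ i, φ (Pi.single i 1) = ∑ j, a i j • y j := hxy
  let l : (ι → R) →ₗ[R] (Fin k → R) := Matrix.vecMulLinear (Matrix.of a)
  let Y : (Fin k → R) →ₗ[R] N := Fintype.linearCombination R y
  have hfac : φ = Y ∘ₗ l := by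
    apply LinearMap.pi_ext'
    intro i
    ext
    simp only [LinearMap.comp_apply, LinearMap.coe_single, Y, l]
    rw [hxy' i, Fintype.linearCombination_apply]
    refine Finset.sum_congr rfl (fun j _ => ?_)
    congr 1
    simp [Matrix.vecMul, dotProduct, Pi.single_apply]
  have hl : Function.Injective (LinearMap.lTensor (ResidueField R) l) := by
    rw [hfac, LinearMap.lTensor_comp] at hφ
    exact Function.Injective.of_comp hφ
  obtain ⟨l', hl'⟩ :=
    (IsLocalRing.split_injective_iff_lTensor_residueField_injective l).mpr hl
  funext i0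
  have key : ∀ i, ∑ j, a i j * l' (Pi.single j 1) i0 = if i = i0 then 1 else 0 := by
    intro i
    have h1 : l' (l (Pi.single i 1)) = Pi.single i 1 := LinearMap.congr_fun hl' _
    have h2 : l (Pi.single i 1) = fun j => a i j := by
      funext j
      simp [l, Matrix.vecMul, dotProduct, Pi.single_apply]
    rw [h2, LinearMap.pi_apply_eq_sum_univ l' (fun j => a i j)] at h1
    have h3 := congrFun h1 i0
    rw [Finset.sum_apply] at h3
    simp only [Pi.smul_apply, smul_eq_mul] at h3
    rw [Pi.single_apply] at h3
    rw [← (show (if i0 = i then (1:R) else 0) = if i = i0 then 1 else 0 by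
      simp only [eq_comm])]
    rw [← h3]
    refine Finset.sum_congr rfl (fun j _ => ?_)
    have hsingle : (Pi.single j (1:R) : Fin k → R) = fun j' => if j = j' then 1 else 0 := by
      funext j'
      rw [Pi.single_apply]
      by_cases hjj : j = j'
      · subst hjj; simp
      · simp [hjj, Ne.symm hjj]
    rw [hsingle]
  calc q i0 = ∑ i, (if i = i0 then (1:R) else 0) • q i := by
        simp
    _ = ∑ i, (∑ j, a i j * l' (Pi.single j 1) i0) • q i := by
        refine Finset.sum_congr rfl (fun i _ => ?_)
        rw [key i]
    _ = ∑ j, l' (Pi.single j 1) i0 • ∑ i, a i j • q i := by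
        simp only [Finset.sum_smul, Finset.smul_sum]
        rw [Finset.sum_comm]
        refine Finset.sum_congr rfl (fun j _ => Finset.sum_congr rfl (fun i _ => ?_))
        rw [smul_smul, mul_comm]
    _ = 0 := by
        simp only [hq, smul_zero, Finset.sum_const_zero]

end A

section B

variable {R : Type u} [CommRing R] [IsLocalRing R] {N : Type u} [AddCommGroup N] [Module R N]
  [Module.Flat R N]

theorem lemmaB {ι : Type u} (u : (ι →₀ R) →ₗ[R] N)
    (hu : Function.Injective (LinearMap.lTensor (ResidueField R) u))
    (Q : Type u) [AddCommGroup Q] [Module R Q] : Function.Injective (LinearMap.rTensor Q u) := by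
  classical
  rw [injective_iff_map_eq_zero]
  intro z hz
  set w : ι →₀ Q := TensorProduct.finsuppScalarLeft R Q ι z with hw
  have hzw : z = ∑ i ∈ w.support, (Finsupp.single i (1:R)) ⊗ₜ[R] w i := by
    have : z = (TensorProduct.finsuppScalarLeft R Q ι).symm w := by
      rw [hw, LinearEquiv.symm_apply_apply]
    rw [this]
    conv_lhs => rw [← Finsupp.sum_single w]
    rw [Finsupp.sum, map_sum]
    refine Finset.sum_congr rfl (fun i _ => ?_)
    rw [TensorProduct.finsuppScalarLeft_symm_apply_single]
  let T := w.support
  let inclT : (T → R) →ₗ[R] (ι →₀ R) :=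
    Fintype.linearCombination R (fun i : T => Finsupp.single (i : ι) (1:R))
  let r : (ι →₀ R) →ₗ[R] (T → R) := LinearMap.pi (fun i => Finsupp.lapply (i : ι))
  have hr : r ∘ₗ inclT = LinearMap.id := by
    apply LinearMap.pi_ext'
    intro i
    ext j
    simp only [LinearMap.comp_apply, LinearMap.coe_single, LinearMap.id_apply, inclT, r,
      LinearMap.pi_apply, Finsupp.lapply_apply, Fintype.linearCombination_apply]
    rw [Finsupp.finsetSum_apply, Finset.sum_eq_single i]
    · rw [Finsupp.smul_apply, Pi.single_eq_same, one_smul, Finsupp.single_apply, Pi.single_apply]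
      by_cases hij : j = i
      · subst hij; simp
      · have : (i : ι) ≠ j := fun h => hij (Subtype.ext h.symm)
        simp [hij, this]
    · intro k _ hki
      simp [hki]
    · intro h; exact absurd (Finset.mem_univ i) h
  have hincl : Function.Injective (LinearMap.lTensor (ResidueField R) inclT) := by
    have : (LinearMap.lTensor (ResidueField R) r) ∘ₗ (LinearMap.lTensor (ResidueField R) inclT) =
        LinearMap.id := by
      rw [← LinearMap.lTensor_comp, hr, LinearMap.lTensor_id]
    exact Function.LeftInverse.injective (g := LinearMap.lTensor (ResidueField R) r)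
      (fun x => LinearMap.congr_fun this x)
  have hφ : Function.Injective (LinearMap.lTensor (ResidueField R) (u ∘ₗ inclT)) := by
    rw [LinearMap.lTensor_comp]
    exact hu.comp hincl
  have hsum : ∑ i : T, w (i : ι) ⊗ₜ[R] (u ∘ₗ inclT) (Pi.single i 1) = 0 := by
    have h1 : ∀ i : T, (u ∘ₗ inclT) (Pi.single i 1) = u (Finsupp.single (i : ι) 1) := by
      intro i
      simp only [LinearMap.comp_apply, inclT, Fintype.linearCombination_apply]
      congr 1
      rw [Finset.sum_eq_single i]
      · simp
      · intro j _ hji
        simp [hji]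
      · intro h; exact absurd (Finset.mem_univ i) h
    have h2 : (TensorProduct.comm R N Q) (LinearMap.rTensor Q u z) = 0 := by rw [hz, map_zero]
    rw [hzw, map_sum, map_sum] at h2
    simp only [LinearMap.rTensor_tmul, TensorProduct.comm_tmul] at h2
    rw [← Finset.sum_coe_sort] at h2
    rw [← h2]
    exact Finset.sum_congr rfl (fun i _ => by rw [h1 i])
  have hq := lemmaA (u ∘ₗ inclT) hφ (fun i : T => w (i : ι)) hsum
  have hw0 : w = 0 := by
    ext i
    by_cases hi : i ∈ w.support
    · exact congrFun hq ⟨i, hi⟩
    · simpa using hi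
  rw [hzw, hw0]
  simp

end B

section P

theorem flat_prod {R : Type u} [CommRing R] (A B : Type u) [AddCommGroup A] [AddCommGroup B]
    [Module R A] [Module R B] [Module.Flat R A] [Module.Flat R B] : Module.Flat R (A × B) := by
  rw [Module.Flat.iff_rTensor_injectiveₛ]
  intro P _ _ N
  have hA := Module.Flat.rTensor_preserves_injective_linearMap (M := A) N.subtype
    N.injective_subtype
  have hB := Module.Flat.rTensor_preserves_injective_linearMap (M := B) N.subtype
    N.injective_subtype
  have hcomm : (TensorProduct.prodRight R R P A B).toLinearMap ∘ₗ (N.subtype.rTensor (A × B)) =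
      (LinearMap.prodMap (N.subtype.rTensor A) (N.subtype.rTensor B)) ∘ₗ
        (TensorProduct.prodRight R R N A B).toLinearMap := by
    apply TensorProduct.ext'
    intro n ab
    simp
  intro x y hxy
  have h1 := congrArg (TensorProduct.prodRight R R P A B) hxy
  have h2 : ∀ w, (TensorProduct.prodRight R R P A B) ((N.subtype.rTensor (A × B)) w) =
      (LinearMap.prodMap (N.subtype.rTensor A) (N.subtype.rTensor B))
        ((TensorProduct.prodRight R R N A B) w) := fun w => LinearMap.congr_fun hcomm w
  rw [h2, h2] at h1
  have h3 : (TensorProduct.prodRight R R N A B) x = (TensorProduct.prodRight R R N A B) y := by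
    apply Prod.ext
    · exact hA (congrArg Prod.fst h1)
    · exact hB (congrArg Prod.snd h1)
  exact (TensorProduct.prodRight R R N A B).injective h3

end P

section C

variable {R : Type u} [CommRing R] [IsLocalRing R] {M N : Type u} [AddCommGroup M] [Module R M]
  [Module.Projective R M] [AddCommGroup N] [Module R N] [Module.Flat R N]

theorem lemmaC (u : M →ₗ[R] N)
    (h : Function.Injective (LinearMap.lTensor (ResidueField R) u))
    (Q : Type u) [AddCommGroup Q] [Module R Q] : Function.Injective (LinearMap.rTensor Q u) := by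
  obtain ⟨i, hi⟩ := (Module.projective_def' (R := R) (P := M)).mp inferInstance
  set ρ : (M →₀ R) →ₗ[R] M := Finsupp.linearCombination R id with hρ
  -- ũ = (u ∘ ρ, id - i ∘ ρ)
  let ut : (M →₀ R) →ₗ[R] N × (M →₀ R) := LinearMap.prod (u ∘ₗ ρ) (LinearMap.id - i ∘ₗ ρ)
  have hut : Function.Injective (LinearMap.lTensor (ResidueField R) ut) := by
    rw [injective_iff_map_eq_zero]
    intro w hw
    have h1 : LinearMap.lTensor (ResidueField R) (u ∘ₗ ρ) w = 0 := by
      have : u ∘ₗ ρ = (LinearMap.fst R N (M →₀ R)) ∘ₗ ut := by
        ext; simp [ut]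
      rw [this, LinearMap.lTensor_comp, LinearMap.comp_apply, hw, map_zero]
    have h2 : LinearMap.lTensor (ResidueField R) (LinearMap.id - i ∘ₗ ρ) w = 0 := by
      have : (LinearMap.id - i ∘ₗ ρ) = (LinearMap.snd R N (M →₀ R)) ∘ₗ ut := by
        ext; simp [ut]
      rw [this, LinearMap.lTensor_comp, LinearMap.comp_apply, hw, map_zero]
    rw [LinearMap.lTensor_comp, LinearMap.comp_apply] at h1
    have h3 : LinearMap.lTensor (ResidueField R) ρ w = 0 := h (h1.trans (map_zero _).symm)
    rw [LinearMap.lTensor_sub, LinearMap.sub_apply, LinearMap.lTensor_id, LinearMap.id_apply,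
      LinearMap.lTensor_comp, LinearMap.comp_apply, h3, map_zero, sub_zero] at h2
    exact h2
  haveI : Module.Flat R (N × (M →₀ R)) := flat_prod N (M →₀ R)
  have hB := lemmaB ut hut Q
  rw [injective_iff_map_eq_zero]
  intro z hz
  have h4 : ut ∘ₗ i = (LinearMap.inl R N (M →₀ R)) ∘ₗ u := by
    apply LinearMap.ext
    intro m
    have hm : ρ (i m) = m := LinearMap.congr_fun hi m
    change ((u ∘ₗ ρ) (i m), (LinearMap.id - i ∘ₗ ρ : (M →₀ R) →ₗ[R] (M →₀ R)) (i m)) = (u m, 0)
    rw [LinearMap.comp_apply, hm, LinearMap.sub_apply, LinearMap.id_apply, LinearMap.comp_apply,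
      hm, sub_self]
  have h5 : LinearMap.rTensor Q ut (LinearMap.rTensor Q i z) = 0 := by
    rw [← LinearMap.comp_apply, ← LinearMap.rTensor_comp, h4, LinearMap.rTensor_comp,
      LinearMap.comp_apply, hz, map_zero]
  have h6 : LinearMap.rTensor Q i z = 0 := hB (h5.trans (map_zero _).symm)
  have h7 : LinearMap.rTensor Q ρ (LinearMap.rTensor Q i z) = z := by
    rw [← LinearMap.comp_apply, ← LinearMap.rTensor_comp, hi, LinearMap.rTensor_id,
      LinearMap.id_apply]
  rw [← h7, h6, map_zero]

end C

end Groth.Agent.H1.S0448aux

open TensorProduct in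
/-- Over a local ring, a linear map from a projective module to a flat module which is injective modulo
the maximal ideal is universally injective (injective after tensoring with any module). -/
theorem result {R M N : Type u} [CommRing R] [IsLocalRing R] [AddCommGroup M] [Module R M] [Module.Projective R M]
    [AddCommGroup N] [Module R N] [Module.Flat R N] (u : M →ₗ[R] N)
    (h : Function.Injective (LinearMap.lTensor (IsLocalRing.ResidueField R) u)) :
    ∀ (Q : Type u) [AddCommGroup Q] [Module R Q], Function.Injective (LinearMap.rTensor Q u) := by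
  intro Q _ _
  exact Groth.Agent.H1.S0448aux.lemmaC u h Q

end Groth.Agent.S0448
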