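import Groth.Statements.S0456
import Groth.Agent.Lib.Lead.SC.RPush

set_option autoImplicit false
universe u
open CategoryTheory
open CohTop

namespace Groth.Agent.S0456

open CategoryTheory.Limits in
/-- For a continuous map f and a flasque abelian sheaf F on the source, R^(q+1) f_* F = 0. -/
theorem result {X Y : TopCat.{u}} (f : X ⟶ Y) (F : CohTop.Ab X)
    [TopCat.Sheaf.IsFlasque F] (q : ℕ) : IsZero ((CohTop.Rpush f (q + 1)).obj F) := by
  exact Groth.Agent.LD.SC.isZero_rightDerived_push f Set.univ
    (by
      rw [TopologicalSpace.Opens.isBasis_iff_nbhd]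
      intro U x hx
      exact ⟨U, trivial, hx, le_rfl⟩) 0
    (fun V _ i _ => Groth.Agent.LD.SC.subsingleton_ext_of_isFlasque i F _) q (Nat.zero_le q)

end Groth.Agent.S0456
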