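import Groth.Statements.S0460
import Groth.Agent.Lib.Lead.SC.Basic

set_option autoImplicit false
universe u
open CategoryTheory
open CohTop

namespace Groth.Agent.S0460

open TopologicalSpace in
/-- Given an abelian sheaf F, an open U and a class ξ in H^(n+1)(U, F), there is an open covering of U
on each member of which ξ restricts to zero. -/
theorem result {X : TopCat.{u}} (F : CohTop.Ab X) (U : Opens X) (n : ℕ)
    (ξ : CohTop.HU F (n + 1) U) :
    ∃ (ι : Type u) (V : ι → Opens X) (hV : ∀ i, V i ≤ U), iSup V = U ∧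
      ∀ i, CohTop.res F (n + 1) (hV i) ξ = 0 := by
  obtain ⟨S, hS, hS0⟩ := Groth.Agent.LD.SC.exists_sieve_Hres_eq_zero n F ξ
  refine ⟨{V : Opens X // ∃ f : V ⟶ U, S f}, Subtype.val, fun i => i.2.choose.le, ?_, ?_⟩
  · apply le_antisymm
    · exact iSup_le fun i => i.2.choose.le
    · intro x hx
      obtain ⟨V, f, hf, hxV⟩ := hS x hx
      rw [TopologicalSpace.Opens.mem_iSup]
      exact ⟨⟨V, f, hf⟩, hxV⟩
  · intro i
    have := hS0 i.2.choose i.2.choose_spec
    refine Eq.trans ?_ this
    rw [← Groth.Agent.LD.SC.cohomologyPresheaf_map_eq]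
    rfl

end Groth.Agent.S0460
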