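import Groth.Statements.S0464
import Groth.Agent.Lib.Lead.Cech.Leray

set_option autoImplicit false
universe u
open CategoryTheory
open CohTop

namespace Groth.Agent.S0464

open TopologicalSpace in
/-- Let U_i be a family of opens with union U. If H^(q+1)(U_{i_0} ∩ … ∩ U_{i_p}, F) = 0 for all q and
all finite tuples of indices, then the p-th Cech cohomology of F for this family is isomorphic to
H^p(U, F). -/
theorem result {X : TopCat.{u}} (F : CohTop.Ab X) {ι : Type u}
    (U : ι → Opens X)
    (h : ∀ (p : ℕ) (a : Fin (p + 1) → ι) (q : ℕ), Subsingleton (CohTop.HU F (q + 1) (iInf fun k => U (a k))))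
    (p : ℕ) : Nonempty (CohTop.cechH F.obj U p ≃+ CohTop.HU F p (iSup U)) := by
  have h' : ∀ (n : ℕ) (a : Fin (n+1) → ι) (q : ℕ),
      Subsingleton (Abelian.Ext (Groth.Agent.LD.SC.ZU (Opens.grothendieckTopology X)
        (Limits.piObj (U ∘ a))) F (q+1)) := by
    intro n a q
    rw [Groth.Agent.LD.CH.prod_eq_iInf U a]
    exact h n a q
  exact Groth.Agent.LD.CH.leray U F h' p

end Groth.Agent.S0464
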