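import Groth.Statements.S0465
import Groth.Agent.Lib.Lead.Cech.Cartan

set_option autoImplicit false
universe u
open CategoryTheory
open CohTop

namespace Groth.Agent.S0465

open TopologicalSpace in
/-- If for every family of opens of X the Cech cohomology of F in positive degrees vanishes, then
H^(p+1)(U, F) = 0 for every open U. -/
theorem result {X : TopCat.{u}} (F : CohTop.Ab X)
    (h : ∀ (ι : Type u) (U : ι → Opens X) (p : ℕ), CategoryTheory.Limits.IsZero (CohTop.cechH F.obj U (p + 1)))
    (U : Opens X) (p : ℕ) : Subsingleton (CohTop.HU F (p + 1) U) := by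
  refine Groth.Agent.LD.CH.cartan (Set.univ) (fun _ _ => True) (fun _ _ _ => ⟨trivial, fun _ _ => trivial⟩)
    ?_ p F (fun ι V _ p => h ι V p) U trivial
  intro U _ κ W hW
  exact ⟨κ, W, trivial, hW, fun i => ⟨i, le_rfl⟩⟩

end Groth.Agent.S0465
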