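import Groth.Statements.S0471
import Groth.Agent.Lib.Lead.Cech.Profinite
import Groth.Agent.Lib.Lead.SC.Global

set_option autoImplicit false
universe u
open CategoryTheory
open CohTop

namespace Groth.Agent.S0471

/-- If X is profinite (compact, Hausdorff, totally disconnected), then H^(p+1)(X, F) = 0 for every
abelian sheaf F. -/
theorem result {X : TopCat.{u}} [CompactSpace X] [T2Space X] [TotallyDisconnectedSpace X]
    (F : CohTop.Ab X) (p : ℕ) : Subsingleton (CohTop.H F (p + 1)) := by
  have h := Groth.Agent.LD.CH.subsingleton_ext_of_profinite F p ⊤ isClopen_univ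
  exact Groth.Agent.LD.SC.subsingleton_H_of_subsingleton_ext
    (J := Opens.grothendieckTopology X) CategoryTheory.Limits.isTerminalTop F (p + 1) h

end Groth.Agent.S0471
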