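import Groth.Statements.S0498
import Groth.Agent.Lib.Helper8.Hens.MultiHensel
-- import your own Groth.Agent.* helpers here

set_option autoImplicit false
universe u
open Hensel

namespace Groth.Agent.S0498

/-- Over a henselian local ring, a simple root in the residue field of the reduction of an arbitrary
polynomial (monic or not) lifts to a root in the ring. -/
theorem result (R : Type u) [CommRing R] [HenselianLocalRing R]
    (f : Polynomial R) (a₀ : IsLocalRing.ResidueField R)
    (h₁ : Polynomial.eval₂ (IsLocalRing.residue R) a₀ f = 0)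
    (h₂ : Polynomial.eval₂ (IsLocalRing.residue R) a₀ (Polynomial.derivative f) ≠ 0) :
    ∃ a : R, Polynomial.IsRoot f a ∧ IsLocalRing.residue R a = a₀ := by
  obtain ⟨α, rfl⟩ := IsLocalRing.residue_surjective a₀
  have hev : ∀ g : Polynomial R, Polynomial.eval₂ (IsLocalRing.residue R) (IsLocalRing.residue R α) g =
      IsLocalRing.residue R (g.eval α) := fun g => Polynomial.eval₂_at_apply _ _
  rw [hev] at h₁ h₂
  obtain ⟨a, ha1, ha2⟩ := Groth.Agent.H8.Hens.exists_root_of_simple_root R f α
    ((IsLocalRing.residue_eq_zero_iff _).mp h₁)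
    (by
      by_contra hnu
      exact h₂ ((IsLocalRing.residue_eq_zero_iff _).mpr hnu))
  refine ⟨a, ha1, ?_⟩
  rw [← sub_eq_zero, ← map_sub, IsLocalRing.residue_eq_zero_iff]
  exact ha2

end Groth.Agent.S0498
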