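import Groth.Statements.S0501
import Groth.Agent.Lib.Helper8.Hens.Pointed
-- import your own Groth.Agent.* helpers here

set_option autoImplicit false
universe u
open Hensel

namespace Groth.Agent.S0501

/-- Let `S` be a henselian local ring over a ring `R`, let `A` be an étale `R`-algebra with a prime `q`,
and let `τ` be a ring map from the residue field of `q` to the residue field of `S` compatible with
the two structure maps from `R`. Then there is exactly one `R`-algebra map from `A` to `S` pulling
the maximal ideal back to `q` and inducing `τ`. -/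
theorem result (R : Type u) [CommRing R]
    (S : Type u) [CommRing S] [HenselianLocalRing S] [Algebra R S]
    (A : Type u) [CommRing A] [Algebra R A] [Algebra.Etale R A] (q : Ideal A) [q.IsPrime]
    (τ : q.ResidueField →+* IsLocalRing.ResidueField S)
    (hτ : τ.comp (algebraMap R q.ResidueField) = (IsLocalRing.residue S).comp (algebraMap R S)) :
    ∃! f : A →ₐ[R] S, Ideal.comap f.toRingHom (IsLocalRing.maximalIdeal S) = q ∧
      ∀ a : A, IsLocalRing.residue S (f a) = τ (algebraMap A q.ResidueField a) := by
  classical
  let σ : A →ₐ[R] q.ResidueField := IsScalarTower.toAlgHom R A q.ResidueField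
  have hcomm : ∀ r : R, τ (algebraMap R q.ResidueField r) =
      algebraMap R (IsLocalRing.ResidueField S) r := fun r => by
    have := congrArg (fun φ => φ r) hτ
    simp only [RingHom.comp_apply] at this
    rw [this]
    rfl
  let τ' : q.ResidueField →ₐ[R] IsLocalRing.ResidueField S :=
    { τ with commutes' := hcomm }
  have hτ' : ∀ x, τ' x = τ x := fun _ => rfl
  have hσ : ∀ a, σ a = algebraMap A q.ResidueField a := fun _ => rfl
  obtain ⟨g, hg⟩ := Groth.Agent.H8.Hens.exists_algHom_of_henselian σ τ'
  refine ⟨g, ⟨?_, fun a => by rw [hg, hτ', hσ]⟩, ?_⟩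
  · ext x
    rw [Ideal.mem_comap]
    show g x ∈ IsLocalRing.maximalIdeal S ↔ _
    rw [← IsLocalRing.residue_eq_zero_iff, hg, hτ', map_eq_zero, hσ,
      Ideal.algebraMap_residueField_eq_zero]
  · rintro f ⟨-, hf⟩
    apply Groth.Agent.H8.Hens.algHom_ext_of_sub_mem_maximalIdeal
    intro x
    rw [← IsLocalRing.residue_eq_zero_iff, map_sub, hf, hg, hτ', hσ, sub_self]

end Groth.Agent.S0501
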