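import Groth.Statements.S0513
import Groth.Agent.Lib.Helper8.Hens.Noeth
import Groth.Agent.Lib.Helper1.RegLoc
-- import your own Groth.Agent.* helpers here

set_option autoImplicit false
universe u
open Hensel

namespace Groth.Agent.S0513

/-- A Noetherian local ring is regular exactly when its henselization is a regular local ring. -/
theorem result (R : Type u) [CommRing R] [IsLocalRing R] (S : Type u) [CommRing S] [IsLocalRing S]
    [Algebra R S] [IsLocalHom (algebraMap R S)] [Hensel.IsHenselization R S] [IsNoetherianRing R] :
    IsRegularLocalRing R ↔ IsRegularLocalRing S := by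
  haveI : IsNoetherianRing S := (Groth.Agent.H8.Hens.isNoetherianRing_iff_of_isHenselization S).mp ‹_›
  haveI := Groth.Agent.H8.Hens.flat_of_isHenselization (R := R) S
  constructor
  · intro h
    exact Groth.Agent.H1.RegFlat.isRegularLocalRing_of_flat_of_map_eq R S
      (Groth.Agent.H8.Hens.map_maximalIdeal_of_isHenselization S)
  · intro h
    exact Groth.Agent.H1.Reg.isRegularLocalRing_of_flat R S

end Groth.Agent.S0513
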