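import Groth.Statements.S0519
import Groth.Agent.Lib.Helper8.Hens.EtaleLift
-- import your own Groth.Agent.* helpers here

set_option autoImplicit false
universe u
open Hensel

namespace Groth.Agent.S0519

/-- Over a henselian local ring `R` with residue field `κ`, base change to `κ` gives a bijection between
`R`-algebra maps of two finite étale `R`-algebras and `κ`-algebra maps of their base changes. -/
theorem result (R : Type u) [CommRing R]
    [HenselianLocalRing R] (S₁ S₂ : Type u) [CommRing S₁] [CommRing S₂] [Algebra R S₁]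
    [Algebra R S₂] [Module.Finite R S₁] [Algebra.Etale R S₁] [Module.Finite R S₂]
    [Algebra.Etale R S₂] :
    Function.Bijective (fun φ : S₁ →ₐ[R] S₂ =>
      Algebra.TensorProduct.map (AlgHom.id (IsLocalRing.ResidueField R) (IsLocalRing.ResidueField R)) φ) := by
  classical
  haveI : Algebra.IsIntegral R S₂ := Algebra.IsIntegral.of_finite R S₂
  let mS : Ideal S₂ := (IsLocalRing.maximalIdeal R).map (algebraMap R S₂)
  let θ₀ : (S₂ ⧸ mS) ≃ₐ[R ⧸ IsLocalRing.maximalIdeal R]
      TensorProduct R (R ⧸ IsLocalRing.maximalIdeal R) S₂ :=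
    Algebra.TensorProduct.quotIdealMapEquivQuotTensor S₂ (IsLocalRing.maximalIdeal R)
  let θ : (S₂ ⧸ mS) ≃ₐ[R] TensorProduct R (IsLocalRing.ResidueField R) S₂ := θ₀.restrictScalars R
  have hθ : ∀ c : S₂, θ (Ideal.Quotient.mk mS c) = (1 : IsLocalRing.ResidueField R) ⊗ₜ[R] c :=
    fun c => rfl
  have key := Groth.Agent.H8.Hens.bijective_comp_mk_of_finite (A := R) S₁ S₂ mS
    (Groth.Agent.H8.Hens.map_maximalIdeal_le_jacobson_bot S₂)
  constructor
  · intro φ φ' h
    apply key.1
    ext s
    show Ideal.Quotient.mk mS (φ s) = Ideal.Quotient.mk mS (φ' s)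
    apply θ.injective
    rw [hθ, hθ]
    have := DFunLike.congr_fun h ((1 : IsLocalRing.ResidueField R) ⊗ₜ[R] s)
    simpa using this
  · intro Ψ
    let ψ : S₁ →ₐ[R] S₂ ⧸ mS :=
      (θ.symm : _ →ₐ[R] _).comp
        ((Ψ.restrictScalars R).comp Algebra.TensorProduct.includeRight)
    obtain ⟨φ, hφ⟩ := key.2 ψ
    refine ⟨φ, ?_⟩
    apply Algebra.TensorProduct.ext
    · ext
    · ext s
      have h1 := DFunLike.congr_fun hφ s
      have h2 : Ideal.Quotient.mk mS (φ s) = θ.symm (Ψ ((1 : IsLocalRing.ResidueField R) ⊗ₜ[R] s)) := h1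
      have h3 : θ (Ideal.Quotient.mk mS (φ s)) = Ψ ((1 : IsLocalRing.ResidueField R) ⊗ₜ[R] s) := by
        rw [h2, AlgEquiv.apply_symm_apply]
      rw [hθ] at h3
      simpa using h3

end Groth.Agent.S0519
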