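import Groth.Statements.S0529
import Groth.Agent.S0526
import Groth.Agent.Lib.Helper8.HensPair.Sup
-- import your own Groth.Agent.* helpers here

set_option autoImplicit false
universe u
open Hensel

namespace Groth.Agent.S0529

/-- A product of rings, with the product ideal, is Henselian exactly when every factor is Henselian at
its ideal. -/
theorem result (J : Type u) (A : J → Type u) [∀ j, CommRing (A j)]
    (I : ∀ j, Ideal (A j)) :
    HenselianRing (∀ j, A j) (⨅ j, Ideal.comap (Pi.evalRingHom A j) (I j)) ↔
      ∀ j, HenselianRing (A j) (I j) := by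
  classical
  constructor
  · intro h j
    letI : Algebra (∀ j, A j) (A j) := (Pi.evalRingHom A j).toAlgebra
    have hsurj : Function.Surjective (algebraMap (∀ j, A j) (A j)) := fun x =>
      ⟨Pi.single j x, Pi.single_eq_same j x⟩
    haveI : Algebra.IsIntegral (∀ j, A j) (A j) := Algebra.isIntegral_of_surjective hsurj
    have h1 := Groth.Agent.S0526.result (∀ j, A j) (⨅ j, Ideal.comap (Pi.evalRingHom A j) (I j))
      (A j)
    have h2 : Ideal.map (algebraMap (∀ j, A j) (A j))
        (⨅ j, Ideal.comap (Pi.evalRingHom A j) (I j)) = I j := by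
      apply le_antisymm
      · rw [Ideal.map_le_iff_le_comap]
        exact iInf_le _ j
      · intro x hx
        have : x = algebraMap (∀ j, A j) (A j) (Pi.single j x) := (Pi.single_eq_same j x).symm
        rw [this]
        apply Ideal.mem_map_of_mem
        rw [Ideal.mem_iInf]
        intro k
        rw [Ideal.mem_comap]
        show (Pi.single j x : ∀ j, A j) k ∈ I k
        by_cases hk : k = j
        · subst hk; rw [Pi.single_eq_same]; exact hx
        · rw [Pi.single_eq_of_ne hk]; exact (I k).zero_mem
    rwa [h2] at h1
  · intro h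
    have hmem : ∀ x : ∀ j, A j, x ∈ (⨅ j, Ideal.comap (Pi.evalRingHom A j) (I j)) ↔
        ∀ j, x j ∈ I j := by
      intro x
      rw [Ideal.mem_iInf]
      rfl
    refine ⟨?_, ?_⟩
    · intro x hx
      rw [Ideal.mem_jacobson_bot]
      intro y
      rw [Pi.isUnit_iff]
      intro j
      exact Ideal.mem_jacobson_bot.mp ((h j).jac ((hmem x).mp hx j)) (y j)
    · intro f hf a₀ h₁ h₂
      have hev : ∀ (j : J) (p : Polynomial (∀ j, A j)) (x : ∀ j, A j),
          Polynomial.eval₂ (Pi.evalRingHom A j) (x j) p = (p.eval x) j := fun j p x =>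
        Polynomial.eval₂_at_apply (Pi.evalRingHom A j) x
      have key : ∀ j, ∃ a : A j, (f.map (Pi.evalRingHom A j)).IsRoot a ∧ a - a₀ j ∈ I j := by
        intro j
        apply (h j).is_henselian _ (hf.map _)
        · rw [Polynomial.eval_map, hev]
          exact (hmem _).mp h₁ j
        · rw [Polynomial.derivative_map, Polynomial.eval_map, hev]
          obtain ⟨c, hc⟩ := Groth.Agent.H8.HensPair.isUnit_mk_iff_exists.mp h₂
          exact Groth.Agent.H8.HensPair.isUnit_mk_iff_exists.mpr ⟨c j, (hmem _).mp hc j⟩
      choose a ha1 ha2 using key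
      refine ⟨a, ?_, (hmem _).mpr ha2⟩
      show Polynomial.eval a f = 0
      funext j
      have := ha1 j
      rw [Polynomial.IsRoot, Polynomial.eval_map] at this
      rw [hev] at this
      exact this

end Groth.Agent.S0529
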