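import Groth.Statements.S0533
import Groth.Agent.Lib.Helper8.HensPair.HomLift
import Groth.Agent.Lib.Helper8.HensPair.Converse
import Groth.Agent.S0526
-- import your own Groth.Agent.* helpers here

set_option autoImplicit false
universe u
open Hensel

namespace Groth.Agent.S0533

/-- If `A` is Henselian at `I`, base change to `A/I` gives a bijection between `A`-algebra maps of two
finite étale `A`-algebras and `A/I`-algebra maps of their reductions. -/
theorem result (A : Type u) [CommRing A] (I : Ideal A) [HenselianRing A I]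
    (B₁ B₂ : Type u) [CommRing B₁] [CommRing B₂] [Algebra A B₁] [Algebra A B₂]
    [Module.Finite A B₁] [Algebra.Etale A B₁] [Module.Finite A B₂] [Algebra.Etale A B₂] :
    Function.Bijective (fun φ : B₁ →ₐ[A] B₂ =>
      Algebra.TensorProduct.map (AlgHom.id (A ⧸ I) (A ⧸ I)) φ) := by
  open TensorProduct in
  haveI : Algebra.IsIntegral A B₂ := Algebra.IsIntegral.of_finite A B₂
  haveI hB₂ : HenselianRing B₂ (I.map (algebraMap A B₂)) := Groth.Agent.S0526.result A I B₂
  have hJ : I.map (algebraMap A B₂) ≤ Ideal.jacobson ⊥ := hB₂.jac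
  let θ := Algebra.TensorProduct.quotIdealMapEquivQuotTensor B₂ I
  have hθ : ∀ b : B₂, θ (Ideal.Quotient.mk _ b) = 1 ⊗ₜ[A] b := fun b => rfl
  constructor
  · intro φ φ' h
    apply Groth.Agent.H8.HensPair.algHom_ext_of_unramified _ hJ
    intro b
    rw [← Ideal.Quotient.eq]
    apply θ.injective
    rw [hθ, hθ]
    have := DFunLike.congr_fun h (1 ⊗ₜ[A] b)
    simpa using this
  · intro ψ'
    let ψ : B₁ →ₐ[A] B₂ ⧸ I.map (algebraMap A B₂) :=
      ((θ.symm : _ →ₐ[A ⧸ I] _).restrictScalars A).comp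
        ((ψ'.restrictScalars A).comp Algebra.TensorProduct.includeRight)
    obtain ⟨φ, hφ⟩ := Groth.Agent.H8.HensPair.exists_algHom_lift I ψ
    refine ⟨φ, ?_⟩
    apply Algebra.TensorProduct.ext'
    intro a b
    have hab : a ⊗ₜ[A] b = a • ((1 : A ⧸ I) ⊗ₜ[A] b) := by
      rw [TensorProduct.smul_tmul', smul_eq_mul, mul_one]
    rw [hab, map_smul, map_smul]
    congr 1
    show (1 : A ⧸ I) ⊗ₜ[A] φ b = _
    rw [← hθ, hφ]
    show θ (θ.symm (ψ' (1 ⊗ₜ[A] b))) = _
    rw [θ.apply_symm_apply]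

end Groth.Agent.S0533
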