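import Groth.Statements.S0534
import Groth.Agent.Lib.Helper8.HensPair.EndLift
-- import your own Groth.Agent.* helpers here

set_option autoImplicit false
universe u
open Hensel

namespace Groth.Agent.S0534

/-- If `R` is Henselian at `I`, every finitely generated projective `R/I`-module is the base change of a
finitely generated projective `R`-module. -/
theorem result (R : Type u) [CommRing R] (I : Ideal R)
    [HenselianRing R I] (Q : Type u) [AddCommGroup Q] [Module (R ⧸ I) Q] [Module.Finite (R ⧸ I) Q]
    [Module.Projective (R ⧸ I) Q] :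
    ∃ (P : Type u) (_ : AddCommGroup P) (_ : Module R P), Module.Finite R P ∧ Module.Projective R P ∧
      Nonempty (TensorProduct R (R ⧸ I) P ≃ₗ[R ⧸ I] Q) := by
  open TensorProduct in
  obtain ⟨n, f, hf⟩ := Module.Finite.exists_fin' (R ⧸ I) Q
  let F := Fin n → R
  let ι : (R ⧸ I) ⊗[R] F ≃ₗ[R ⧸ I] (Fin n → R ⧸ I) :=
    TensorProduct.piScalarRight R (R ⧸ I) (R ⧸ I) (Fin n)
  let f' : (R ⧸ I) ⊗[R] F →ₗ[R ⧸ I] Q := f.comp ι.toLinearMap
  have hf' : Function.Surjective f' := hf.comp ι.surjective
  obtain ⟨s, hs⟩ := Module.projective_lifting_property f' LinearMap.id hf'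
  have hs' : ∀ y, f' (s y) = y := fun y => LinearMap.congr_fun hs y
  let ē : Module.End (R ⧸ I) ((R ⧸ I) ⊗[R] F) := s.comp f'
  have hē : IsIdempotentElem ē := by
    show ē * ē = ē
    ext x
    show s (f' (s (f' _))) = s (f' _)
    rw [hs']
  obtain ⟨E, hE, hEē⟩ := Groth.Agent.H8.HensPair.exists_idempotent_end I F ē hē
  let P := LinearMap.range E
  let i : P →ₗ[R] F := P.subtype
  let π : F →ₗ[R] P := E.rangeRestrict
  have hπi : π.comp i = LinearMap.id := by
    refine LinearMap.ext fun x => ?_
    obtain ⟨x, y, rfl⟩ := x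
    apply Subtype.ext
    show E (E y) = E y
    exact LinearMap.congr_fun hE.eq y
  have hiπ : i.comp π = E := rfl
  let a := i.baseChange (R ⧸ I)
  let p := π.baseChange (R ⧸ I)
  have hpa : ∀ x, p (a x) = x := by
    intro x
    have : p.comp a = LinearMap.id := by
      rw [← LinearMap.baseChange_comp, hπi, LinearMap.baseChange_id]
    exact LinearMap.congr_fun this x
  have hap : ∀ x, a (p x) = s (f' x) := by
    intro x
    have : a.comp p = ē := by
      rw [← LinearMap.baseChange_comp, hiπ, hEē]
    exact LinearMap.congr_fun this x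
  refine ⟨P, inferInstance, inferInstance, Module.Finite.range E,
    Module.Projective.of_split i π hπi, ⟨?_⟩⟩
  exact
    { toLinearMap := f'.comp a
      invFun := fun y => p (s y)
      left_inv := fun x => by
        show p (s (f' (a x))) = x
        rw [← hap, hpa, hpa]
      right_inv := fun y => by
        show f' (a (p (s y))) = y
        rw [hap, hs', hs'] }

end Groth.Agent.S0534
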