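import Groth.Statements.S0552
import Mathlib
import Groth.Agent.Lib.Helper5.Catenary
import Groth.Agent.Lib.Helper1.Cat1

set_option autoImplicit false
universe u
open CAlg

namespace Groth.Agent.S0552


/-- A ring is catenary exactly when its localization at every maximal ideal is catenary. -/
theorem result (R : Type u) [CommRing R] :
    CAlg.IsCatenary R ↔ ∀ (m : Ideal R) [m.IsMaximal], CAlg.IsCatenary (Localization.AtPrime m) := by
  constructor
  · intro h m _
    exact Groth.Agent.H5.isCatenary_of_isLocalization R m.primeCompl _ h
  · intro h
    apply Groth.Agent.Lib.Helper1.Cat.isCatenary_of_localization_cover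
    intro p
    obtain ⟨m, hm, hpm⟩ := Ideal.exists_le_maximal p.asIdeal p.2.ne_top
    refine ⟨m.primeCompl, Localization.AtPrime m, inferInstance, inferInstance, inferInstance, ?_, h m⟩
    rw [Ideal.primeCompl, Submonoid.coe_set_mk, Subsemigroup.coe_set_mk,
      Set.disjoint_compl_left_iff_subset]
    exact hpm

end Groth.Agent.S0552
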