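import Groth.Statements.S0553
import Mathlib
import Groth.Agent.Lib.Helper5.Catenary
import Groth.Agent.Lib.Helper1.Cat1

set_option autoImplicit false
universe u
open CAlg

namespace Groth.Agent.S0553

namespace Groth.Agent.S0553.Aux

open Groth.Agent.H5 Groth.Agent.Lib.Helper1.Cat
open scoped TensorProduct

/-- a finite type algebra over a localization `R_M` is a localization of a finite type `R`-algebra -/
theorem isCatenary_of_finiteType_localization (R : Type u) [CommRing R] (M : Submonoid R)
    (B : Type u) [CommRing B] [Algebra R B] [IsLocalization M B]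
    (hR : ∀ (S : Type u) [CommRing S] [Algebra R S], Algebra.FiniteType R S → CAlg.IsCatenary S)
    (S : Type u) [CommRing S] [Algebra B S] (hS : Algebra.FiniteType B S) : CAlg.IsCatenary S := by
  letI : Algebra R S := ((algebraMap B S).comp (algebraMap R B)).toAlgebra
  haveI : IsScalarTower R B S := IsScalarTower.of_algebraMap_eq (fun _ => rfl)
  obtain ⟨t, ht⟩ := hS.out
  set S₀ : Subalgebra R S := Algebra.adjoin R (t : Set S) with hS₀
  have hft : Algebra.FiniteType R S₀ := by
    rw [← Subalgebra.fg_iff_finiteType]
    exact ⟨t, rfl⟩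
  have hcat := hR S₀ hft
  haveI : IsLocalization (Algebra.algebraMapSubmonoid S₀ M) S := by
    refine ⟨?_, ?_, ?_⟩
    · rintro ⟨y, hy⟩
      obtain ⟨m, hm, rfl⟩ := hy
      have h1 : algebraMap S₀ S (algebraMap R S₀ m) = algebraMap B S (algebraMap R B m) := by
        rw [← IsScalarTower.algebraMap_apply, IsScalarTower.algebraMap_apply R B S]
      show IsUnit (algebraMap S₀ S (algebraMap R S₀ m))
      rw [h1]
      exact (IsLocalization.map_units B ⟨m, hm⟩).map _
    · intro z
      have hz : z ∈ Algebra.adjoin B (t : Set S) := by rw [ht]; trivial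
      induction hz using Algebra.adjoin_induction with
      | mem x hx =>
        exact ⟨(⟨x, Algebra.subset_adjoin hx⟩, 1), by simp⟩
      | algebraMap r =>
        obtain ⟨⟨a, m⟩, ham⟩ := IsLocalization.surj M r
        refine ⟨(algebraMap R S₀ a, ⟨algebraMap R S₀ m, Algebra.mem_algebraMapSubmonoid_of_mem m⟩), ?_⟩
        show algebraMap B S r * algebraMap S₀ S (algebraMap R S₀ m) = algebraMap S₀ S (algebraMap R S₀ a)
        rw [← IsScalarTower.algebraMap_apply, ← IsScalarTower.algebraMap_apply,
          IsScalarTower.algebraMap_apply R B S, IsScalarTower.algebraMap_apply R B S, ← map_mul]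
        exact congrArg _ ham
      | add x y _ _ hx hy =>
        obtain ⟨⟨a, m⟩, ham⟩ := hx
        obtain ⟨⟨b, n⟩, hbn⟩ := hy
        refine ⟨(a * n + b * m, m * n), ?_⟩
        simp only [Submonoid.coe_mul, map_mul, map_add] at ham hbn ⊢
        rw [← ham, ← hbn]
        ring
      | mul x y _ _ hx hy =>
        obtain ⟨⟨a, m⟩, ham⟩ := hx
        obtain ⟨⟨b, n⟩, hbn⟩ := hy
        refine ⟨(a * b, m * n), ?_⟩
        simp only [Submonoid.coe_mul, map_mul] at ham hbn ⊢
        rw [← ham, ← hbn]
        ring
    · intro x y hxy
      refine ⟨1, ?_⟩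
      have : x = y := Subtype.ext hxy
      rw [this]
  exact isCatenary_of_isLocalization S₀ (Algebra.algebraMapSubmonoid S₀ M) S hcat

end Groth.Agent.S0553.Aux

/-- A Noetherian ring is universally catenary exactly when its localization at every maximal ideal is
universally catenary. -/
theorem result (R : Type u) [CommRing R]
    [IsNoetherianRing R] :
    CAlg.IsUniversallyCatenary R ↔
      ∀ (m : Ideal R) [m.IsMaximal], CAlg.IsUniversallyCatenary (Localization.AtPrime m) := by
  constructor
  · intro h m _
    refine ⟨IsLocalization.isNoetherianRing m.primeCompl _ inferInstance, fun S _ _ hS => ?_⟩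
    exact Groth.Agent.S0553.Aux.isCatenary_of_finiteType_localization R m.primeCompl
      (Localization.AtPrime m) h.2 S hS
  · intro h
    refine ⟨inferInstance, fun S _ _ hS => ?_⟩
    apply Groth.Agent.Lib.Helper1.Cat.isCatenary_of_localization_cover
    intro q
    have hp : (q.asIdeal.comap (algebraMap R S)) ≠ ⊤ := (Ideal.comap_isPrime _ _).ne_top
    obtain ⟨m, hm, hpm⟩ := Ideal.exists_le_maximal _ hp
    letI := Algebra.TensorProduct.rightAlgebra (R := R) (A := Localization.AtPrime m) (B := S)
    refine ⟨Algebra.algebraMapSubmonoid S m.primeCompl, TensorProduct R (Localization.AtPrime m) S,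
      inferInstance, inferInstance, IsLocalization.tensorRight (Localization.AtPrime m) m.primeCompl, ?_, ?_⟩
    · rw [Set.disjoint_left]
      rintro _ ⟨t, ht, rfl⟩ htq
      exact ht (hpm htq)
    · exact (h m).2 _ inferInstance

end Groth.Agent.S0553
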