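import Groth.Statements.S0556
import Mathlib
import Groth.Agent.Lib.Helper8.KrullAkizuki

set_option autoImplicit false
universe u
open CAlg

namespace Groth.Agent.S0556


/-- Any domain `A` sandwiched between a one-dimensional Noetherian domain `R` and a field `L` of finite
degree over the fraction field of `R` is itself Noetherian. -/
theorem result (R : Type u) [CommRing R]
    [IsDomain R] [IsNoetherianRing R] (hdim : ringKrullDim R = 1) (K L : Type u) [Field K] [Field L]
    [Algebra R K] [IsFractionRing R K] [Algebra K L] [FiniteDimensional K L] [Algebra R L]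
    [IsScalarTower R K L] (A : Type u) [CommRing A] [Algebra R A] [Algebra A L]
    [IsScalarTower R A L] (hA : Function.Injective (algebraMap A L)) :
    IsNoetherianRing A := by
  classical
  haveI : IsDomain A := hA.isDomain (algebraMap A L)
  have hRL : Function.Injective (algebraMap R L) := by
    rw [IsScalarTower.algebraMap_eq R K L]
    exact (algebraMap K L).injective.comp (IsFractionRing.injective R K)
  have hRA : Function.Injective (algebraMap R A) := by
    have : algebraMap R L = (algebraMap A L).comp (algebraMap R A) := IsScalarTower.algebraMap_eq R A L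
    rw [this] at hRL
    exact Function.Injective.of_comp hRL
  -- finite spanning set
  let W : Submodule K L := Submodule.span K (Set.range (algebraMap A L))
  have hWfg : W.FG := IsNoetherian.noetherian W
  obtain ⟨T, hTsub, hT⟩ := (Submodule.fg_span_iff_fg_span_finset_subset _).mp hWfg
  choose! a ha using (fun t (ht : t ∈ T) => hTsub ht)
  -- integral multiples
  have halg : ∀ t, IsAlgebraic R (a t) := by
    intro t
    rw [← isAlgebraic_algebraMap_iff (A := L) hA, IsFractionRing.isAlgebraic_iff R K L]
    exact Algebra.IsAlgebraic.isAlgebraic _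
  choose r hr0 hrint using fun t => (halg t).exists_integral_multiple
  let b : L → A := fun t => r t • a t
  let R' : Subalgebra R A := Algebra.adjoin R ((T.image b : Finset A) : Set A)
  have hR'fg : R'.toSubmodule.FG := by
    apply fg_adjoin_of_finite (Finset.finite_toSet _)
    intro x hx
    simp only [Finset.coe_image, Set.mem_image, Finset.mem_coe] at hx
    obtain ⟨t, -, rfl⟩ := hx
    exact hrint t
  haveI : Module.Finite R R' := Module.Finite.iff_fg.mpr hR'fg
  haveI : IsNoetherianRing R' :=
    isNoetherian_of_tower R (isNoetherian_of_isNoetherianRing_of_finite R R')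
  haveI : Algebra.IsIntegral R R' := Algebra.IsIntegral.of_finite R R'
  haveI h1 : Ring.KrullDimLE 1 R := Ring.krullDimLE_iff.mpr hdim.le
  haveI h2 : Ring.DimensionLEOne R :=
    ⟨fun {p} hp hpp => Ring.krullDimLE_one_iff_of_noZeroDivisors.mp h1 p hp hpp⟩
  haveI h3 : Ring.DimensionLEOne R' := Ring.DimensionLEOne.of_isIntegral (R := R) R'
  haveI h4 : Ring.KrullDimLE 1 R' :=
    Ring.krullDimLE_one_iff_of_noZeroDivisors.mpr fun p hp hpp => h3.maximalOfPrime hp hpp
  -- every element of A is a fraction with numerator in R' and denominator in R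
  have hbmem : ∀ t ∈ T, b t ∈ R' := fun t ht =>
    Algebra.subset_adjoin (Finset.mem_coe.mpr (Finset.mem_image_of_mem b ht))
  have key : ∀ c : A, ∃ y : R, y ≠ 0 ∧ y • c ∈ R' := by
    intro c
    have hc : algebraMap A L c ∈ W := Submodule.subset_span ⟨c, rfl⟩
    rw [show W = Submodule.span K (T : Set L) from hT, Submodule.mem_span_finset] at hc
    obtain ⟨k, -, hk⟩ := hc
    obtain ⟨y, hy⟩ := IsLocalization.exist_integer_multiples (nonZeroDivisors R) T
      (fun t => k t / algebraMap R K (r t))
    choose! x hx using hy
    refine ⟨y, nonZeroDivisors.ne_zero y.2, ?_⟩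
    have hyc : y.1 • c = ∑ t ∈ T, x t • b t := by
      apply hA
      have hL : ∀ z : R, algebraMap R L z = algebraMap K L (algebraMap R K z) :=
        fun z => IsScalarTower.algebraMap_apply R K L z
      rw [Algebra.smul_def, map_mul, ← IsScalarTower.algebraMap_apply R A L, ← hk, Finset.mul_sum,
        map_sum]
      refine Finset.sum_congr rfl fun t ht => ?_
      have hrK : algebraMap R K (r t) ≠ 0 :=
        (map_ne_zero_iff _ (IsFractionRing.injective R K)).mpr (hr0 t)
      have e1 : algebraMap R K (x t) * algebraMap R K (r t) = algebraMap R K y.1 * k t := by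
        rw [hx t ht, Algebra.smul_def]; field_simp
      rw [Algebra.smul_def (x t), map_mul, ← IsScalarTower.algebraMap_apply R A L]
      simp only [b]
      rw [Algebra.smul_def (r t), map_mul, ← IsScalarTower.algebraMap_apply R A L, ha t ht,
        Algebra.smul_def (k t), hL, hL, hL, ← mul_assoc, ← mul_assoc, ← map_mul, ← map_mul, e1]
    rw [hyc]
    exact Subalgebra.sum_mem _ fun t ht => Subalgebra.smul_mem _ (hbmem t ht) _
  -- the fraction field
  let Kf := FractionRing A
  have hAK : Function.Injective (algebraMap A Kf) := IsFractionRing.injective A Kf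
  have hR'K : Function.Injective (algebraMap R' Kf) := by
    rw [IsScalarTower.algebraMap_eq R' A Kf]
    exact hAK.comp Subtype.val_injective
  haveI : FaithfulSMul R' Kf := (faithfulSMul_iff_algebraMap_injective R' Kf).mpr hR'K
  haveI : IsFractionRing R' Kf := by
    apply IsFractionRing.of_field
    intro z
    obtain ⟨c, c', hc', rfl⟩ := IsFractionRing.div_surjective (A := A) z
    have hc'0 : c' ≠ 0 := nonZeroDivisors.ne_zero hc'
    obtain ⟨y, hy0, hy⟩ := key c
    obtain ⟨y', hy'0, hy'⟩ := key c'
    refine ⟨y' • ⟨y • c, hy⟩, y • ⟨y' • c', hy'⟩, ?_⟩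
    have e1 : algebraMap R' Kf (y' • ⟨y • c, hy⟩) = algebraMap A Kf (y' • y • c) := rfl
    have e2 : algebraMap R' Kf (y • ⟨y' • c', hy'⟩) = algebraMap A Kf (y • y' • c') := rfl
    have hyA : algebraMap R A y ≠ 0 := (map_ne_zero_iff _ hRA).mpr hy0
    have hy'A : algebraMap R A y' ≠ 0 := (map_ne_zero_iff _ hRA).mpr hy'0
    have h1 : algebraMap A Kf (algebraMap R A y) ≠ 0 := (map_ne_zero_iff _ hAK).mpr hyA
    have h2 : algebraMap A Kf (algebraMap R A y') ≠ 0 := (map_ne_zero_iff _ hAK).mpr hy'A
    have h3 : algebraMap A Kf c' ≠ 0 := (map_ne_zero_iff _ hAK).mpr hc'0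
    rw [e1, e2]
    simp only [Algebra.smul_def, map_mul]
    rw [div_eq_div_iff h3 (mul_ne_zero h1 (mul_ne_zero h2 h3))]
    ring
  let V : Subalgebra R' Kf := (IsScalarTower.toAlgHom R' A Kf).range
  haveI : IsNoetherianRing V := Groth.Agent.H8.KA.isNoetherianRing_overring V
  let e : A ≃ₐ[R'] V := AlgEquiv.ofInjective (IsScalarTower.toAlgHom R' A Kf) hAK
  exact isNoetherianRing_of_ringEquiv V e.symm.toRingEquiv

end Groth.Agent.S0556
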