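import Groth.Statements.S0557
import Groth.Agent.Lib.Helper3.CA.KrullAkizuki4

set_option autoImplicit false
universe u
open CAlg

namespace Groth.Agent.S0557

/-- Let `R` be a Noetherian local domain of dimension one with fraction field `K`, `M` an `R`-submodule
of `K^r`, and `x` a nonzero element of `R`. Then `R/xR` has finite length and the length of `M/xM`
is at most `r` times the length of `R/xR`. -/
theorem result (R : Type u) [CommRing R] [IsDomain R]
    [IsNoetherianRing R] [IsLocalRing R] (hdim : ringKrullDim R = 1) (K : Type u) [Field K]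
    [Algebra R K] [IsFractionRing R K] (r : ℕ) (M : Submodule R (Fin r → K)) (x : R) (hx : x ≠ 0) :
    Module.length R (R ⧸ Ideal.span ({x} : Set R)) ≠ ⊤ ∧
      Module.length R (M ⧸ (Ideal.span ({x} : Set R) • (⊤ : Submodule R M))) ≤
        r * Module.length R (R ⧸ Ideal.span ({x} : Set R)) := by
  haveI : Ring.KrullDimLE 1 R := (Order.krullDimLE_iff _ _).mpr hdim.le
  refine ⟨?_, ?_⟩
  · rw [Module.length_ne_top_iff]
    exact isFiniteLength_quotient_span_singleton R (mem_nonZeroDivisors_of_ne_zero hx)
  have h := Groth.Agent.H3.KA.rl_sm_le_finrank_mul (K := K) M hx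
  rw [Module.finrank_fin_fun] at h
  unfold Groth.Agent.H3.KA.rl at h
  have heq : (Ideal.span ({x} : Set R) • (⊤ : Submodule R M)) =
      (Groth.Agent.H3.KA.sm x M).submoduleOf M := by
    rw [Submodule.ideal_span_singleton_smul]
    ext m
    constructor
    · intro hm
      obtain ⟨m', -, rfl⟩ := (Submodule.mem_smul_pointwise_iff_exists _ _ _).mp hm
      exact Groth.Agent.H3.KA.mem_sm.mpr ⟨m', m'.2, rfl⟩
    · intro hm
      obtain ⟨n, hn, hnm⟩ := Groth.Agent.H3.KA.mem_sm.mp hm
      exact (Submodule.mem_smul_pointwise_iff_exists _ _ _).mpr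
        ⟨⟨n, hn⟩, trivial, Subtype.ext hnm⟩
  rw [heq]
  exact h

end Groth.Agent.S0557
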