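import Groth.Statements.S0567
import Groth.Agent.Lib.Helper8.Japanese.NagFT17
-- import your own Groth.Agent.* helpers here

set_option autoImplicit false
universe u
open CAlg

namespace Groth.Agent.S0567

/-- A ring is Nagata exactly when it is Noetherian and universally Japanese. -/
theorem result (R : Type u) [CommRing R] :
    CAlg.IsNagata R ↔ (IsNoetherianRing R ∧ CAlg.IsUniversallyJapanese R) := by
  open Groth.Agent.H8.Jap Groth.Agent.H8.Jap.NagFT in
    constructor
    · intro hR
      refine ⟨hR.1, fun S _ _ _ hft => ?_⟩
      haveI := hft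
      exact isN2_of_isNagata_of_isDomain S (isNagata_of_finiteType R S hR)
    · rintro ⟨hN, hUJ⟩
      refine ⟨hN, fun p _ => ?_⟩
      exact hUJ (R ⧸ p) inferInstance

end Groth.Agent.S0567
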