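import Groth.Statements.S0577
import Groth.Agent.Lib.Helper8.Japanese.AUK5
import Groth.Agent.Lib.Helper8.Japanese.AUK6
import Groth.Agent.Lib.Helper8.OneDim.Compl
-- import your own Groth.Agent.* helpers here

set_option autoImplicit false
universe u
open CAlg

namespace Groth.Agent.S0577

/-- Let `A` be a Noetherian local domain of prime characteristic `p` which is a Nagata ring. If `a ∈ A`
has a `p`-th root in the completion of `A`, then it has a `p`-th root in `A`. -/
theorem result (A : Type u) [CommRing A] [IsDomain A]
    [IsLocalRing A] (hA : CAlg.IsNagata A) (p : ℕ) [Fact p.Prime] [CharP A p] (a : A)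
    (h : ∃ α : AdicCompletion (IsLocalRing.maximalIdeal A) A,
      α ^ p = algebraMap A (AdicCompletion (IsLocalRing.maximalIdeal A) A) a) :
    ∃ b : A, b ^ p = a := by
  open Groth.Agent.H8 Groth.Agent.H8.Jap IsLocalRing TensorProduct Polynomial in
    classical
    haveI := hA.1
    obtain ⟨α, hα⟩ := h
    have hp : p.Prime := Fact.out
    obtain ⟨β, hβ⟩ := IsAlgClosed.exists_pow_nat_eq
      (algebraMap A (AlgebraicClosure (FractionRing A)) a) hp.pos
    have hint : IsIntegral A β :=
      ⟨X ^ p - C a, monic_X_pow_sub_C a hp.ne_zero, by simp [hβ]⟩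
    haveI : Module.Finite A (Algebra.adjoin A {β}) :=
      Module.Finite.iff_fg.mpr hint.fg_adjoin_singleton
    have hfg : (maximalIdeal A).FG := IsNoetherian.noetherian _
    haveI : IsNoetherianRing (AdicCompletion (maximalIdeal A) A) :=
      OneDim.isNoetherianRing_adicCompletion A
    have hmax : maximalIdeal (AdicCompletion (maximalIdeal A) A) =
        (maximalIdeal A).map (algebraMap A (AdicCompletion (maximalIdeal A) A)) :=
      AdicCompletion.maximalIdeal_eq_map_of_fg hfg
    haveI := AdicCompletion.algebraMap_isLocalHom_of_fg (R := A) hfg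
    haveI : Module.FaithfullyFlat A (AdicCompletion (maximalIdeal A) A) :=
      Module.FaithfullyFlat.of_flat_of_isLocalHom
    haveI : IsReduced ((Algebra.adjoin A {β}) ⊗[A] (AdicCompletion (maximalIdeal A) A)) :=
      AUK.isReduced_tensor A (AdicCompletion (maximalIdeal A) A) hA
      (by rw [← hmax, IsLocalRing.jacobson_eq_maximalIdeal ⊥ bot_ne_top])
      (fun t => by rw [← hmax]; exact OneDim.exists_sub_mem_maximalIdeal_adicCompletion A t)
      (Algebra.adjoin A {β})
    exact AUK.exists_pow_eq_of_reduced A (AdicCompletion (maximalIdeal A) A)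
      (AlgebraicClosure (FractionRing A)) (by
        rw [IsScalarTower.algebraMap_eq A (FractionRing A) (AlgebraicClosure (FractionRing A))]
        exact (algebraMap (FractionRing A) (AlgebraicClosure (FractionRing A))).injective.comp
          (IsFractionRing.injective A (FractionRing A))) p hp a α hα β hβ

end Groth.Agent.S0577
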