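import Groth.Statements.S0593
import Groth.Agent.Lib.Helper5.NApprox.ChevB

set_option autoImplicit false
universe u
open CategoryTheory AlgebraicGeometry
open Lim

namespace Groth.Agent.S0593



/-- If `f : X → S` is surjective and universally closed with `X` affine, then `S` is affine. -/
theorem result (X S : Scheme.{u}) (f : X ⟶ S)
    [IsAffine X] [Surjective f] [UniversallyClosed f] : IsAffine S := by
  exact Groth.Agent.H5.NApprox.isAffine_of_surjective_universallyClosed f

end Groth.Agent.S0593
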