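import Groth.Statements.S0596
import Groth.Agent.Lib.Helper5.Pop.Approx
import Groth.Agent.Lib.Helper3.CA.GRingTransfer

set_option autoImplicit false
universe u
open CAlg

namespace Groth.Agent.S0596



/-- Let `R` be a henselian Noetherian local G-ring and `f₁, …, f_m` polynomials in `n` variables over
`R`. If the system has a solution `a` in the completion of `R`, then for every `N` there is a
solution `b` in `R` with `aᵢ - bᵢ` in the `N`-th power of the maximal ideal of the completion. -/
theorem result (R : Type u) [CommRing R] [HenselianLocalRing R]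
    (hG : CAlg.IsGRing R) (n m : ℕ) (F : Fin m → MvPolynomial (Fin n) R)
    (a : Fin n → (AdicCompletion (IsLocalRing.maximalIdeal R) R))
    (ha : ∀ j, MvPolynomial.eval a (MvPolynomial.map (algebraMap R (AdicCompletion (IsLocalRing.maximalIdeal R) R)) (F j)) = 0) (N : ℕ) :
    ∃ b : Fin n → R, (∀ j, MvPolynomial.eval b (F j) = 0) ∧
      ∀ i, a i - algebraMap R (AdicCompletion (IsLocalRing.maximalIdeal R) R) (b i) ∈
        (IsLocalRing.maximalIdeal R ^ N).map (algebraMap R (AdicCompletion (IsLocalRing.maximalIdeal R) R)) := by
  have hN : IsNoetherianRing R := hG.1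
  have h1 := hG.2 (IsLocalRing.maximalIdeal R)
  have hN' : IsNoetherianRing (Localization.AtPrime (IsLocalRing.maximalIdeal R)) :=
    IsLocalization.isNoetherianRing (IsLocalRing.maximalIdeal R).primeCompl _ inferInstance
  have hu : (IsLocalRing.maximalIdeal R).primeCompl ≤ IsUnit.submonoid R := by
    intro x hx
    rw [Ideal.mem_primeCompl_iff, IsLocalRing.mem_maximalIdeal, mem_nonunits_iff, not_not] at hx
    exact hx
  let e : Localization.AtPrime (IsLocalRing.maximalIdeal R) ≃+* R :=
    (IsLocalization.atUnits R (IsLocalRing.maximalIdeal R).primeCompl hu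
      (S := Localization.AtPrime (IsLocalRing.maximalIdeal R))).symm.toRingEquiv
  have hreg : CAlg.IsRegularHom R (AdicCompletion (IsLocalRing.maximalIdeal R) R) :=
    Groth.Agent.H3.GRing.isRegularHom_cpl_of_ringEquiv e h1
  exact Groth.Agent.H5.Pop.artin_approx_system (IsLocalRing.maximalIdeal R) hreg n m F a ha N

end Groth.Agent.S0596
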