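import Groth.Statements.S0600
import Groth.Agent.Lib.Helper3.CA.PHomInst

set_option autoImplicit false
universe u
open CAlg

namespace Groth.Agent.S0600

/-- If `A` is a G-ring and `I` any ideal, then the map from `A` to its `I`-adic completion is regular. -/
theorem result (A : Type u) [CommRing A] (hA : CAlg.IsGRing A)
    (I : Ideal A) : CAlg.IsRegularHom A (AdicCompletion I A) := by
  obtain ⟨hN, h⟩ := hA
  have : IsNoetherianRing A := hN
  have hB : IsNoetherianRing (AdicCompletion I A) := Groth.Agent.S0543.result A I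
  have key : Groth.Agent.H3.PHom.PFib Groth.Agent.H3.PHom.PReg A (AdicCompletion I A) :=
    Groth.Agent.H3.PHom.pfib_adicCompletion Groth.Agent.H3.PHom.localProp_reg
      Groth.Agent.H3.PHom.compAx_reg Groth.Agent.H3.PHom.cancelAx_reg A I
      (fun m _ _ => fun q _ K _ _ hfin => ((h m).2 q).2 K hfin)
  exact ⟨AdicCompletion.flat_of_isNoetherian I, fun p _ =>
    ⟨Groth.Agent.H3.RegHomBC.isNoetherianRing_fiber A _ p, fun K _ _ hfin => key p K hfin⟩⟩

end Groth.Agent.S0600
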