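import Groth.Statements.S0608
import Groth.Agent.Lib.Helper2.QuasiReg

set_option autoImplicit false
universe u
open RRAlg

namespace Groth.Agent.S0608

/-- Let a_1, …, a_n be a weakly regular sequence in a commutative ring A (each a_i is a non-zero-divisor
modulo (a_1, …, a_(i−1)); the a_i are allowed to generate the unit ideal). Then the kernel of the
A-algebra map A[X_1, …, X_n] → A[T] sending X_i to a_i·T, whose image is the Rees algebra of the
ideal (a_1, …, a_n), is the ideal generated by the elements a_i X_j − a_j X_i. (The published
statement assumes a regular sequence; only weak regularity is assumed here.) -/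
theorem result {A : Type u} [CommRing A] {n : ℕ} (a : Fin n → A)
    (ha : RingTheory.Sequence.IsWeaklyRegular A (List.ofFn a)) :
    RingHom.ker (MvPolynomial.aeval (R := A)
      (fun i : Fin n => Polynomial.C (a i) * (Polynomial.X : Polynomial A))) =
      Ideal.span {q : MvPolynomial (Fin n) A | ∃ i j : Fin n,
        q = MvPolynomial.C (a i) * MvPolynomial.X j - MvPolynomial.C (a j) * MvPolynomial.X i} := by
  classical
  open MvPolynomial Groth.Agent.H2.QuasiReg in
  change _ = Jb a
  open MvPolynomial Groth.Agent.H2.QuasiReg in
  apply le_antisymm
  · intro F hF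
    rw [RingHom.mem_ker] at hF
    rw [← sum_homogeneousComponent F]
    refine Ideal.sum_mem _ (fun d hd => ?_)
    apply rees_of_isWeaklyRegular a ha (homogeneousComponent_isHomogeneous d F)
    have h1 : aeval (fun i : Fin n => Polynomial.C (a i) * (Polynomial.X : Polynomial A)) F =
        ∑ e ∈ Finset.range (F.totalDegree + 1),
          Polynomial.C (aeval a (homogeneousComponent e F)) * Polynomial.X ^ e := by
      conv_lhs => rw [← sum_homogeneousComponent F, map_sum]
      exact Finset.sum_congr rfl (fun e _ =>
        aeval_mul_X_of_isHomogeneous a (homogeneousComponent_isHomogeneous e F))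
    have h2 := congrArg (fun p => Polynomial.coeff p d) h1
    simp only [hF, Polynomial.coeff_zero, Polynomial.finsetSum_coeff,
      Polynomial.coeff_C_mul_X_pow] at h2
    rw [Finset.sum_ite_eq, if_pos hd] at h2
    exact h2.symm
  · apply Ideal.span_le.mpr
    rintro q ⟨i, j, rfl⟩
    simp only [SetLike.mem_coe, RingHom.mem_ker, map_sub, map_mul, aeval_C, aeval_X,
      Polynomial.algebraMap_apply, Algebra.algebraMap_self, RingHom.id_apply]
    ring

end Groth.Agent.S0608
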