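import Groth.Statements.S0627
import Groth.Agent.Lib.Helper2.NormConstA

set_option autoImplicit false
open CategoryTheory CategoryTheory.Limits AlgebraicGeometry Opposite
universe u
open EtCore

namespace Groth.Agent.S0627

/-- Let X be an integral normal scheme (every local ring integrally closed), U a nonempty open subscheme
with inclusion j : U → X, and M an abelian group. Then the adjunction unit from the constant étale
sheaf with value M on X to j_* of its pullback to U is an isomorphism. -/
theorem result (X : Scheme.{u}) [IsIntegral X]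
    (hN : ∀ x : X, IsIntegrallyClosed (X.presheaf.stalk x)) (U : X.Opens) (hU : (U : Set X).Nonempty)
    (M : Type) [AddCommGroup M] :
    IsIso ((EtCoh.pullPushAdj U.ι).unit.app (EtCoh.const X M)) := by
  apply Groth.Agent.H2.NormConst.isIso_unit_of_normal (fun x => ⟨inferInstance, hN x⟩) U.ι _
    (AddCommGrpCat.of (ULift.{u + 1} M))
  intro x
  obtain ⟨_, ⟨W, hW : IsAffineOpen W, rfl⟩, hxW, -⟩ :=
    X.isBasis_affineOpens.exists_subset_of_mem_open (Set.mem_univ x) isOpen_univ
  obtain ⟨z, hzW, hzU⟩ : ((W : Set X) ∩ (U : Set X)).Nonempty :=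
    nonempty_preirreducible_inter W.isOpen U.isOpen ⟨x, hxW⟩ hU
  obtain ⟨r, hr1, hr2⟩ := hW.exists_basicOpen_le (V := U) ⟨z, hzU⟩ hzW
  refine ⟨W, X.basicOpen r, hW, hxW, X.basicOpen_le r, ?_, (hW.basicOpen r).isCompact, ?_⟩
  · rw [U.range_ι]
    exact hr1
  · have hd : Dense ((X.basicOpen r : X.Opens) : Set X) :=
      (X.basicOpen r).isOpen.dense ⟨z, hr2⟩
    intro y _
    exact hd y

end Groth.Agent.S0627
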