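import Groth.Statements.S0628
import Groth.Agent.Lib.Helper2.NormConstB
import Groth.Agent.Lib.Helper2.GeoPushB

set_option autoImplicit false
open CategoryTheory CategoryTheory.Limits AlgebraicGeometry Opposite
universe u
open EtCore

namespace Groth.Agent.S0628

/-- Let f : X -> Y be a morphism of schemes with X integral and normal and with separably closed
function field. Then the higher direct images R^q f_* of a constant sheaf vanish for q > 0. -/
theorem result {X Y : Scheme.{u}} (f : X ⟶ Y) [IsIntegral X]
    (hN : ∀ x : X, IsIntegrallyClosed (X.presheaf.stalk x)) [IsSepClosed X.functionField]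
    (M : Type) [AddCommGroup M] (q : ℕ) (hq : 1 ≤ q) :
    IsZero ((EtCoh.Rpush f q).obj (EtCoh.const X M)) := by
  obtain ⟨n, rfl⟩ : ∃ n, q = n + 1 := ⟨q - 1, by omega⟩
  have hG : Groth.Agent.H2.GeoPush.Pointlike (Spec (X.presheaf.stalk (genericPoint X))) :=
    Groth.Agent.H2.GeoPush.pointlike_spec X.functionField
  have hiso : IsIso ((EtCoh.pullPushAdj (X.fromSpecStalk (genericPoint X))).unit.app
      (EtCoh.const X M)) := by
    refine Groth.Agent.H2.NormConst.isIso_unit_generic (fun x => ⟨inferInstance, hN x⟩)
      (X.fromSpecStalk (genericPoint X)) ?_ (AddCommGrpCat.of (ULift.{u + 1} M))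
    rw [Scheme.range_fromSpecStalk]
    ext y
    simp only [Set.mem_setOf_eq, Set.mem_singleton_iff]
    constructor
    · intro hy
      exact (hy.antisymm (genericPoint_specializes y)).eq
    · rintro rfl
      exact specializes_rfl
  exact (Groth.Agent.H2.GeoPush.isZero_Rpush_push hG (X.fromSpecStalk (genericPoint X)) f _ n).of_iso
    ((EtCoh.Rpush f (n + 1)).mapIso (asIso ((EtCoh.pullPushAdj
      (X.fromSpecStalk (genericPoint X))).unit.app (EtCoh.const X M))))

end Groth.Agent.S0628
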