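import Groth.Statements.S0643
import Mathlib.Tactic

set_option autoImplicit false
universe u
open EtCore

namespace Groth.Agent.S0643

open Polynomial in
/-- Let A be a ring, assumed nonzero here (the published statement does not say so; over the zero ring
no polynomial has positive degree in Lean's sense), and a, b elements generating the unit ideal such
that some positive power of a is congruent to 1 modulo b. Then there is a monic polynomial P of
positive degree over A such that in B = A[y]/(P) the element a - b y is a unit. -/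
theorem result (A : Type u) [CommRing A] [Nontrivial A] (a b : A) (hab : IsCoprime a b)
    (hroot : ∃ n : ℕ, 0 < n ∧ a ^ n - 1 ∈ Ideal.span ({b} : Set A)) :
    ∃ P : A[X], P.Monic ∧ 0 < P.natDegree ∧
      IsUnit (algebraMap A (AdjoinRoot P) a - algebraMap A (AdjoinRoot P) b * AdjoinRoot.root P) := by
  obtain ⟨n, hn, hmem⟩ := hroot
  obtain ⟨c, hc⟩ := Ideal.mem_span_singleton'.mp hmem
  obtain ⟨u, w, huw⟩ := hab
  obtain ⟨k, rfl⟩ : ∃ k, n = k + 1 := ⟨n - 1, by omega⟩
  set q : A[X] := C c * (C u * X + C w) ^ k with hq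
  have hqdeg : q.natDegree ≤ k := by
    refine (natDegree_C_mul_le _ _).trans ?_
    refine natDegree_pow_le.trans ?_
    calc k * (C u * X + C w).natDegree ≤ k * 1 := Nat.mul_le_mul_left _ natDegree_linear_le
      _ = k := Nat.mul_one k
  have hqdeg' : q.degree < ((k + 1 : ℕ) : WithBot ℕ) :=
    lt_of_le_of_lt (degree_le_of_natDegree_le hqdeg) (by exact_mod_cast Nat.lt_succ_self k)
  have hP : (X ^ (k + 1) - q).Monic := monic_X_pow_sub hqdeg'
  have hPdeg : (X ^ (k + 1) - q).natDegree = k + 1 := by
    rw [natDegree_sub_eq_left_of_natDegree_lt] <;> rw [natDegree_X_pow]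
    omega
  refine ⟨X ^ (k + 1) - q, hP, by omega, ?_⟩
  set P : A[X] := X ^ (k + 1) - q with hPdef
  set y := AdjoinRoot.root P with hydef
  set φ := algebraMap A (AdjoinRoot P) with hφ
  have hy : y ^ (k + 1) = φ c * (φ u * y + φ w) ^ k := by
    have h := AdjoinRoot.eval₂_root P
    rw [← AdjoinRoot.algebraMap_eq] at h
    simp only [hPdef, hq, eval₂_sub, eval₂_mul, eval₂_pow, eval₂_add, eval₂_C, eval₂_X] at h
    exact sub_eq_zero.mp h
  have hcb : φ c * φ b = φ a ^ (k + 1) - 1 := by
    rw [← map_mul, hc, map_sub, map_pow, map_one]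
  have huw' : φ u * φ a + φ w * φ b = 1 := by
    rw [← map_mul, ← map_mul, ← map_add, huw, map_one]
  set e := φ a - φ b * y with he
  have hkey : (φ b * y) ^ (k + 1) = (φ a ^ (k + 1) - 1) * (1 - φ u * e) ^ k := by
    have h1 : 1 - φ u * e = φ b * (φ u * y + φ w) := by
      rw [he]
      linear_combination (-1 : AdjoinRoot P) * huw'
    rw [h1, mul_pow, mul_pow, hy, ← hcb]
    ring
  rw [← Ideal.span_singleton_eq_top, Ideal.eq_top_iff_one, ← Ideal.Quotient.eq_zero_iff_mem]
  set ψ := Ideal.Quotient.mk (Ideal.span ({e} : Set (AdjoinRoot P))) with hψ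
  have hψe : ψ e = 0 := Ideal.Quotient.eq_zero_iff_mem.mpr (Ideal.subset_span rfl)
  have hψ1 : ψ (φ b * y) = ψ (φ a) := by
    have : ψ (φ a) - ψ (φ b * y) = 0 := by rw [← map_sub]; exact hψe
    exact (sub_eq_zero.mp this).symm
  have h2 := congrArg ψ hkey
  rw [map_pow, hψ1, map_mul, map_sub, map_pow, map_one, map_pow, map_sub, map_mul, hψe, mul_zero,
    map_one, sub_zero, one_pow, mul_one] at h2
  rw [map_one]
  linear_combination h2

end Groth.Agent.S0643
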