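import Groth.Statements.S0658
import Mathlib

set_option autoImplicit false
open CategoryTheory CategoryTheory.Limits AlgebraicGeometry Opposite
universe u
open EtCore

namespace Groth.Agent.S0658

namespace H1.S0658aux

/-- local structure: around each point of an étale `k`-scheme there is an open immersion from
the spectrum of a finite separable extension. -/
theorem local_structure (k : Type u) [Field k] (U : Scheme.{u}) (φ : U ⟶ Spec (CommRingCat.of k))
    [Etale φ] (x : U) :
    ∃ (K : Type u) (_ : Field K) (_ : Algebra k K) (_ : FiniteDimensional k K)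
      (_ : Algebra.IsSeparable k K) (j : Spec (CommRingCat.of K) ⟶ U),
      IsOpenImmersion j ∧ x ∈ Set.range j ∧
        j ≫ φ = Spec.map (CommRingCat.ofHom (algebraMap k K)) := by
  obtain ⟨_, ⟨V, hV, rfl⟩, hxV, -⟩ :=
    U.isBasis_affineOpens.exists_subset_of_mem_open (Set.mem_univ x) isOpen_univ
  let A := Γ(U, V)
  let ψ : CommRingCat.of k ⟶ A := Spec.preimage (hV.fromSpec ≫ φ)
  have hψ : Spec.map ψ = hV.fromSpec ≫ φ := Spec.map_preimage _
  have het : ψ.hom.Etale := by
    rw [← HasRingHomProperty.Spec_iff (P := @Etale), hψ]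
    haveI := hV.isOpenImmersion_fromSpec
    infer_instance
  algebraize [ψ.hom]
  obtain ⟨I, _, Ai, _, _, e, hAi⟩ := (Algebra.Etale.iff_exists_algEquiv_prod k A).mp inferInstance
  -- the point
  let x₀ : Spec A := hV.primeIdealOf ⟨x, hxV⟩
  have hx₀ : hV.fromSpec x₀ = x := hV.fromSpec_primeIdealOf ⟨x, hxV⟩
  obtain ⟨i₀, q, hq⟩ := PrimeSpectrum.exists_comap_evalRingHom_eq
    (PrimeSpectrum.comap (e.symm : (Π i, Ai i) →+* A) x₀)
  let θ : A →+* Ai i₀ := (Pi.evalRingHom Ai i₀).comp (e : A →+* (Π i, Ai i))
  let j : Spec (CommRingCat.of (Ai i₀)) ⟶ U := Spec.map (CommRingCat.ofHom θ) ≫ hV.fromSpec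
  refine ⟨Ai i₀, inferInstance, inferInstance, (hAi i₀).1, (hAi i₀).2, j, ?_, ?_, ?_⟩
  · haveI := hV.isOpenImmersion_fromSpec
    have h1 : Spec.map (CommRingCat.ofHom θ) =
        Spec.map (CommRingCat.ofHom (Pi.evalRingHom Ai i₀)) ≫
          Spec.map (CommRingCat.ofHom (e : A →+* (Π i, Ai i))) := by
      rw [← Spec.map_comp]; rfl
    haveI : IsIso (Spec.map (CommRingCat.ofHom (e : A →+* (Π i, Ai i)))) := by
      have : IsIso (CommRingCat.ofHom (e : A →+* (Π i, Ai i))) :=
        (e.toRingEquiv.toCommRingCatIso).isIso_hom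
      infer_instance
    haveI : IsOpenImmersion (Spec.map (CommRingCat.ofHom θ)) := by
      rw [h1]; infer_instance
    infer_instance
  · refine ⟨⟨q.asIdeal, q.2⟩, ?_⟩
    rw [← hx₀]
    change hV.fromSpec (Spec.map (CommRingCat.ofHom θ) _) = _
    congr 1
    have : PrimeSpectrum.comap θ q = x₀ := by
      change PrimeSpectrum.comap (e : A →+* (Π i, Ai i)) (PrimeSpectrum.comap (Pi.evalRingHom Ai i₀) q) = x₀
      rw [hq]
      ext a
      change e.symm (e a) ∈ x₀.asIdeal ↔ a ∈ x₀.asIdeal
      rw [e.symm_apply_apply]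
    exact this
  · change (Spec.map (CommRingCat.ofHom θ) ≫ hV.fromSpec) ≫ φ = _
    rw [Category.assoc, ← hψ, ← Spec.map_comp]
    congr 1
    ext t
    change (e (algebraMap k A t)) i₀ = _
    rw [e.commutes]
    rfl


theorem main (k : Type u) [Field k] (U : Scheme.{u}) (φ : U ⟶ Spec (CommRingCat.of k)) :
    AlgebraicGeometry.Etale φ ↔
      ∃ (ι : Type u) (K : ι → Type u) (_ : ∀ i, Field (K i)) (_ : ∀ i, Algebra k (K i))
        (_ : ∀ i, FiniteDimensional k (K i)) (_ : ∀ i, Algebra.IsSeparable k (K i))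
        (e : (∐ fun i => Spec (CommRingCat.of (K i))) ≅ U),
        ∀ i, Sigma.ι (fun i => Spec (CommRingCat.of (K i))) i ≫ e.hom ≫ φ =
          Spec.map (CommRingCat.ofHom (algebraMap k (K i))) := by
  constructor
  · intro hφ
    choose K hF hA hfd hsep j hjo hjx hjφ using local_structure k U φ
    have hrange : ∀ x, Set.range (j x) = {x} := by
      intro x
      obtain ⟨z, hz⟩ := hjx x
      ext y
      constructor
      · rintro ⟨w, rfl⟩
        have : w = z := Subsingleton.elim (α := PrimeSpectrum (K x)) w z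
        rw [this, hz]; rfl
      · rintro rfl
        exact ⟨z, hz⟩
    haveI : IsOpenImmersion (Sigma.desc j) := by
      apply isOpenImmersion_sigmaDesc
      intro x y hxy
      simp only [Function.onFun, hrange]
      exact Set.disjoint_singleton.mpr hxy
    haveI : Surjective (Sigma.desc j) := by
      apply Surjective.sigmaDesc_of_union_range_eq_univ
      rw [Set.eq_univ_iff_forall]
      intro x
      exact Set.mem_iUnion.mpr ⟨x, hjx x⟩
    haveI : IsIso (Sigma.desc j) :=
      (isIso_iff_isOpenImmersion_and_surjective _).mpr ⟨inferInstance, inferInstance⟩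
    refine ⟨U, K, hF, hA, hfd, hsep, asIso (Sigma.desc j), fun x => ?_⟩
    rw [asIso_hom, Sigma.ι_desc_assoc]
    exact hjφ x
  · rintro ⟨ι, K, hF, hA, hfd, hsep, e, he⟩
    have h1 : e.hom ≫ φ = Sigma.desc (fun i => Spec.map (CommRingCat.ofHom (algebraMap k (K i)))) := by
      apply Sigma.hom_ext
      intro i
      rw [he i, Sigma.ι_desc]
    have h2 : Etale (e.hom ≫ φ) := by
      rw [h1]
      haveI : IsZariskiLocalAtSource @Etale.{u} :=
        HasRingHomProperty.instIsZariskiLocalAtSource (Q := RingHom.Etale)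
      refine IsZariskiLocalAtSource.sigmaDesc (P := @Etale) (fun i => ?_)
      rw [HasRingHomProperty.Spec_iff (P := @Etale)]
      change (algebraMap k (K i)).Etale
      rw [RingHom.etale_algebraMap]
      have := Algebra.FormallyEtale.of_isSeparable k (K i)
      exact ⟨inferInstance, Algebra.FinitePresentation.of_finiteType.mp inferInstance⟩
    have : φ = e.inv ≫ (e.hom ≫ φ) := by simp
    rw [this]
    infer_instance

end H1.S0658aux

/-- Let k be a field and φ : U → Spec k a morphism of schemes. Then φ is étale if and only if U is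
isomorphic over k to a disjoint union ∐ Spec K_i with each K_i a finite separable field extension of
k. -/
theorem result (k : Type u) [Field k] (U : Scheme.{u}) (φ : U ⟶ Spec (CommRingCat.of k)) :
    AlgebraicGeometry.Etale φ ↔
      ∃ (ι : Type u) (K : ι → Type u) (_ : ∀ i, Field (K i)) (_ : ∀ i, Algebra k (K i))
        (_ : ∀ i, FiniteDimensional k (K i)) (_ : ∀ i, Algebra.IsSeparable k (K i))
        (e : (∐ fun i => Spec (CommRingCat.of (K i))) ≅ U),
        ∀ i, Sigma.ι (fun i => Spec (CommRingCat.of (K i))) i ≫ e.hom ≫ φ =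
          Spec.map (CommRingCat.ofHom (algebraMap k (K i))) := by
  exact H1.S0658aux.main k U φ

end Groth.Agent.S0658
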