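import Groth.Statements.S0659
import Groth.Agent.Lib.Helper7.ES13
import Mathlib
-- import your own Groth.Agent.* helpers here

set_option autoImplicit false
open CategoryTheory CategoryTheory.Limits AlgebraicGeometry Opposite
universe u
open EtCore

namespace Groth.Agent.S0659

/-- Let X = U ∪ V be a union of two open subschemes and F an abelian sheaf on the small etale site of X.
Writing r_U, r_V for the pullback maps H^n(X, F) -> H^n(U, F|_U), H^n(V, F|_V) and d for the
difference of the two further pullbacks to H^n(U ∩ V, F|_{U ∩ V}), there are connecting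
homomorphisms δ_n : H^n(U ∩ V) -> H^{n+1}(X) making the Mayer-Vietoris sequence exact: (r_U, r_V) is
injective in degree 0 and has kernel the image of δ in positive degrees, d has kernel the image of
(r_U, r_V), and δ has kernel the image of d. (Functoriality in F is not stated.) (Exactness of
pullback of abelian sheaves, which always holds, is carried as an instance hypothesis.) -/
theorem result (X : Scheme.{u}) (U V : X.Opens) (hUV : U ⊔ V = ⊤) (F : EtCoh.Ab X)
    [PreservesFiniteLimits (EtCoh.pull U.ι)] [PreservesFiniteLimits (EtCoh.pull V.ι)]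
    [PreservesFiniteLimits (EtCoh.pull (X.homOfLE (inf_le_left : U ⊓ V ≤ U)))]
    [PreservesFiniteLimits (EtCoh.pull (X.homOfLE (inf_le_right : U ⊓ V ≤ V)))] :
    ∃ δ : ∀ n : ℕ, EtCoh.H ↑(U ⊓ V) ((EtCoh.pull (U ⊓ V).ι).obj F) n →+ EtCoh.H X F (n + 1),
      (AddMonoidHom.prod (EtCore.Hpull U.ι F 0) (EtCore.Hpull V.ι F 0)).ker = ⊥ ∧
      (∀ n : ℕ, (AddMonoidHom.prod (EtCore.Hpull U.ι F (n + 1)) (EtCore.Hpull V.ι F (n + 1))).ker = (δ n).range) ∧
      (∀ n : ℕ, (((EtCore.HpullVia (X.homOfLE (inf_le_left : U ⊓ V ≤ U)) U.ι (U ⊓ V).ι (X.homOfLE_ι inf_le_left) F n)).comp (AddMonoidHom.fst _ _) - ((EtCore.HpullVia (X.homOfLE (inf_le_right : U ⊓ V ≤ V)) V.ι (U ⊓ V).ι (X.homOfLE_ι inf_le_right) F n)).comp (AddMonoidHom.snd _ _)).ker =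
        (AddMonoidHom.prod (EtCore.Hpull U.ι F n) (EtCore.Hpull V.ι F n)).range) ∧
      (∀ n : ℕ, (δ n).ker = (((EtCore.HpullVia (X.homOfLE (inf_le_left : U ⊓ V ≤ U)) U.ι (U ⊓ V).ι (X.homOfLE_ι inf_le_left) F n)).comp (AddMonoidHom.fst _ _) - ((EtCore.HpullVia (X.homOfLE (inf_le_right : U ⊓ V ≤ V)) V.ι (U ⊓ V).ι (X.homOfLE_ι inf_le_right) F n)).comp (AddMonoidHom.snd _ _)).range) := by
  have hcov : ∀ x : X, (∃ u : (U : Scheme.{u}), U.ι.base u = x) ∨
      (∃ v : (V : Scheme.{u}), V.ι.base v = x) := by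
    intro x
    have hx : x ∈ U ⊔ V := by rw [hUV]; trivial
    rcases hx with hx | hx
    · left
      have : x ∈ Set.range U.ι := by rw [Scheme.Opens.range_ι]; exact hx
      exact this
    · right
      have : x ∈ Set.range V.ι := by rw [Scheme.Opens.range_ι]; exact hx
      exact this
  obtain ⟨δ, h1, h2, h3, h4⟩ := Groth.Agent.H7.ES.mv_etale U.ι V.ι
    (X.homOfLE (inf_le_left : U ⊓ V ≤ U)) (X.homOfLE (inf_le_right : U ⊓ V ≤ V)) (U ⊓ V).ι
    (X.homOfLE_ι inf_le_left) (X.homOfLE_ι inf_le_right) (isPullback_opens_inf U V) hcov F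
  refine ⟨δ, ?_, ?_, ?_, ?_⟩
  · rw [AddSubgroup.eq_bot_iff_forall]
    intro x hx
    rw [AddMonoidHom.mem_ker, AddMonoidHom.prod_apply, Prod.mk_eq_zero] at hx
    exact h1 x hx.1 hx.2
  · intro n
    ext x
    rw [AddMonoidHom.mem_ker, AddMonoidHom.prod_apply, Prod.mk_eq_zero, AddMonoidHom.mem_range]
    exact h2 n x
  · intro n
    ext ⟨y, z⟩
    rw [AddMonoidHom.mem_ker, AddMonoidHom.mem_range, AddMonoidHom.sub_apply,
      AddMonoidHom.comp_apply, AddMonoidHom.comp_apply, AddMonoidHom.coe_fst, AddMonoidHom.coe_snd]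
    refine (h3 n y z).trans ?_
    constructor
    · rintro ⟨x, hx1, hx2⟩
      exact ⟨x, by rw [AddMonoidHom.prod_apply, hx1, hx2]⟩
    · rintro ⟨x, hx⟩
      rw [AddMonoidHom.prod_apply, Prod.mk.injEq] at hx
      exact ⟨x, hx.1, hx.2⟩
  · intro n
    ext t
    rw [AddMonoidHom.mem_ker, AddMonoidHom.mem_range]
    refine (h4 n t).trans ?_
    constructor
    · rintro ⟨y, z, h⟩
      exact ⟨(y, z), h⟩
    · rintro ⟨⟨y, z⟩, h⟩
      exact ⟨y, z, h⟩

end Groth.Agent.S0659
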