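import Groth.Statements.S0701
import Groth.Agent.Lib.Helper1.Spectral

set_option autoImplicit false
open CategoryTheory CategoryTheory.Limits AlgebraicGeometry Opposite Topology
universe u
open ProEtW

namespace Groth.Agent.S0701

/-- Let Spec A be profinite (quasi-compact, Hausdorff, totally disconnected) and A -> B a ring map such
that two distinct primes of B over the same prime of A are never comparable. Then Spec B is
profinite. -/
theorem result (A B : Type u) [CommRing A] [CommRing B]
    [Algebra A B] [T2Space (PrimeSpectrum A)] [TotallyDisconnectedSpace (PrimeSpectrum A)]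
    (h : ∀ q q' : PrimeSpectrum B, q.asIdeal.comap (algebraMap A B) = q'.asIdeal.comap (algebraMap A B) →
      q.asIdeal ≤ q'.asIdeal → q = q') :
    ProEtW.IsProfinite (PrimeSpectrum B) := by
  have hT1 : T1Space (PrimeSpectrum A) := inferInstance
  apply Groth.Agent.H1.isProfinite_primeSpectrum_of_forall_isMaximal
  intro q
  obtain ⟨m, hm, hqm⟩ := Ideal.exists_le_maximal q.asIdeal q.2.ne_top
  have hq : (q.asIdeal.comap (algebraMap A B)).IsMaximal :=
    Groth.Agent.H1.isMaximal_of_t1Space_primeSpectrum A _
  have hcomap : q.asIdeal.comap (algebraMap A B) = m.comap (algebraMap A B) :=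
    hq.eq_of_le (Ideal.comap_ne_top _ hm.ne_top) (Ideal.comap_mono hqm)
  have := h q ⟨m, hm.isPrime⟩ hcomap hqm
  rw [this]
  exact hm

end Groth.Agent.S0701
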