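import Groth.Statements.S0702
import Groth.Agent.Lib.Helper1.Spectral

set_option autoImplicit false
open CategoryTheory CategoryTheory.Limits AlgebraicGeometry Opposite Topology
universe u
open ProEtW

namespace Groth.Agent.S0702

/-- Let Spec A be profinite and A -> B induce algebraic extensions of residue fields at all primes. Then
Spec B is profinite. -/
theorem result (A B : Type u) [CommRing A] [CommRing B]
    [Algebra A B] [T2Space (PrimeSpectrum A)] [TotallyDisconnectedSpace (PrimeSpectrum A)]
    (h : ProEtW.AlgebraicResidueExtensions A B) :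
    ProEtW.IsProfinite (PrimeSpectrum B) := by
  have hT1 : T1Space (PrimeSpectrum A) := inferInstance
  apply Groth.Agent.H1.isProfinite_primeSpectrum_of_forall_isMaximal
  intro q
  have hq : (q.asIdeal.comap (algebraMap A B)).IsMaximal :=
    Groth.Agent.H1.isMaximal_of_t1Space_primeSpectrum A _
  have halg := h q.asIdeal
  let _ : Field (A ⧸ q.asIdeal.comap (algebraMap A B)) := Ideal.Quotient.field _
  have hint : Algebra.IsIntegral (A ⧸ q.asIdeal.comap (algebraMap A B)) (B ⧸ q.asIdeal) :=
    Algebra.isAlgebraic_iff_isIntegral.mp halg
  have hfield : IsField (B ⧸ q.asIdeal) :=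
    isField_of_isIntegral_of_isField' (R := A ⧸ q.asIdeal.comap (algebraMap A B)) (Field.toIsField _)
  exact Ideal.Quotient.maximal_of_isField _ hfield

end Groth.Agent.S0702
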