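import Groth.Statements.S0715
import Groth.Agent.Lib.Helper7.PWC4
import Mathlib
-- import your own Groth.Agent.* helpers here

set_option autoImplicit false
open CategoryTheory CategoryTheory.Limits AlgebraicGeometry Opposite
universe u
open ProEtS

namespace Groth.Agent.S0715

/-- (1) iff (2), transposed from the big pro-etale site to the small pro-etale site X_proet: for an
object U of X_proet with affine underlying scheme, the ring of global functions of U is
w-contractible if and only if U is a weakly contractible object. -/
theorem result {X : Scheme.{u}} (U : X.ProEt) [IsAffine U.left] :
    EtPBC.IsWContractible ↥(Γ(U.left, ⊤)) ↔ ProEtS.IsWC U := by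
  exact ⟨fun h => Groth.Agent.H7.PWC.isWC_of_split U
    (fun R hR => Groth.Agent.H7.PWC.split_of_isWContractible U h R hR),
    Groth.Agent.H7.PWC.isWContractible_of_isWC U⟩

end Groth.Agent.S0715
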