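import Groth.Statements.S0735
import Mathlib
import Groth.Agent.H4.IndEtDescent

set_option autoImplicit false
open CategoryTheory CategoryTheory.Limits AlgebraicGeometry Opposite Topology
universe u
open ProEtW

namespace Groth.Agent.S0735

open CategoryTheory CategoryTheory.Limits TensorProduct

open Groth.Agent.H4.IndEtCrit Groth.Agent.H4.IndEtDescent

/-- pushout step: kill an element after pushing out along a map of étale algebras -/
theorem pushout_kill {A B Γ : Type u} [CommRing A] [CommRing B] [CommRing Γ] [Algebra A B]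
    [Algebra B Γ] [Algebra A Γ] [IsScalarTower A B Γ]
    (E : Type u) [CommRing E] [Algebra B E] [Algebra A E] [IsScalarTower A B E] [Algebra.Etale B E]
    (g : E →ₐ[B] Γ)
    (F : Type u) [CommRing F] [Algebra A F] [Algebra.Etale A F] (k : F →ₐ[A] E) (f : F)
    (F' : Type u) [CommRing F'] [Algebra A F'] [Algebra.Etale A F'] (h : F →ₐ[A] F')
    (g' : F' →ₐ[A] Γ) (hg' : g'.comp h = (g.restrictScalars A).comp k) (hf : h f = 0) :
    ∃ (E' : Type u) (_ : CommRing E') (_ : Algebra B E') (_ : Algebra.Etale B E')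
      (h' : E →ₐ[B] E') (g'' : E' →ₐ[B] Γ), g''.comp h' = g ∧ h' (k f) = 0 := by
  letI : Algebra F E := k.toRingHom.toAlgebra
  letI : Algebra F F' := h.toRingHom.toAlgebra
  haveI : IsScalarTower A F F' := IsScalarTower.of_algebraMap_eq (fun a => (h.commutes a).symm)
  haveI : IsScalarTower A F E := IsScalarTower.of_algebraMap_eq (fun a => (k.commutes a).symm)
  haveI : Algebra.Etale F F' := Algebra.Etale.of_restrictScalars (R := A) (A := F) (B := F')
  haveI : SMulCommClass F B E := ⟨fun x b y => by
    simp only [Algebra.smul_def]; ring⟩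
  haveI : Algebra.Etale B (E ⊗[F] F') := Algebra.Etale.comp B E (E ⊗[F] F')
  letI : Algebra F Γ := ((g.restrictScalars A).comp k).toRingHom.toAlgebra
  let gF : E →ₐ[F] Γ := { g.toRingHom with commutes' := fun x => rfl }
  let g'F : F' →ₐ[F] Γ := { g'.toRingHom with
    commutes' := fun x => congrArg (fun φ => φ x) hg' }
  let G : E ⊗[F] F' →ₐ[F] Γ := Algebra.TensorProduct.lift gF g'F (fun _ _ => Commute.all _ _)
  let g'' : E ⊗[F] F' →ₐ[B] Γ := { G.toRingHom with
    commutes' := fun b => by
      show G (algebraMap B E b ⊗ₜ[F] (1 : F')) = algebraMap B Γ b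
      rw [Algebra.TensorProduct.lift_tmul]
      show g (algebraMap B E b) * g' 1 = _
      rw [map_one, mul_one, g.commutes] }
  refine ⟨E ⊗[F] F', inferInstance, inferInstance, inferInstance,
    Algebra.TensorProduct.includeLeft, g'', ?_, ?_⟩
  · ext x
    show G (x ⊗ₜ[F] (1 : F')) = g x
    rw [Algebra.TensorProduct.lift_tmul]
    show g x * g' 1 = _
    rw [map_one, mul_one]
  · show (k f) ⊗ₜ[F] (1 : F') = 0
    have : k f = f • (1 : E) := by rw [Algebra.smul_def, mul_one]; rfl
    rw [this, TensorProduct.smul_tmul, Algebra.smul_def, mul_one]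
    show (1 : E) ⊗ₜ[F] h f = 0
    rw [hf, TensorProduct.tmul_zero]

/-- If A -> B and A -> C are ind-etale and C is a B-algebra compatibly with A, then C is ind-etale over
B. -/
theorem result (A B C : Type u) [CommRing A] [CommRing B]
    [CommRing C] [Algebra A B] [Algebra B C] [Algebra A C] [IsScalarTower A B C]
    (hB : EtPBC.IsIndEtale A B) (hC : EtPBC.IsIndEtale A C) : EtPBC.IsIndEtale B C := by
  have cB := crit_of_isIndEtale hB
  have cC := crit_of_isIndEtale hC
  apply isIndEtale_of_crit
  constructor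
  · intro γ
    obtain ⟨C₀, _, _, hC₀, g₀, x, hx⟩ := cC.lift γ
    refine ⟨B ⊗[A] C₀, inferInstance, inferInstance, inferInstance,
      Algebra.TensorProduct.lift (Algebra.ofId B C) g₀ (fun _ _ => Commute.all _ _), 1 ⊗ₜ x, ?_⟩
    rw [Algebra.TensorProduct.lift_tmul, map_one, one_mul, hx]
  · intro E _ _ _ g ε hε
    letI : Algebra A E := Algebra.compHom E (algebraMap A B)
    haveI : IsScalarTower A B E := IsScalarTower.of_algebraMap_eq (fun _ => rfl)
    obtain ⟨F, _, _, hF, k, f, hf⟩ := Crit.liftEtaleOver cB E ε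
    have h0 : ((g.restrictScalars A).comp k) f = 0 := by
      rw [AlgHom.comp_apply, hf]; exact hε
    obtain ⟨F', _, _, hF', h, g', hg', hh⟩ := cC.kill F ((g.restrictScalars A).comp k) f h0
    obtain ⟨E', _, _, hE', h', g'', h1, h2⟩ := pushout_kill E g F k f F' h g' hg' hh
    exact ⟨E', inferInstance, inferInstance, hE', h', g'', h1, by rw [← hf]; exact h2⟩


end Groth.Agent.S0735
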