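import Groth.Statements.S0743
import Mathlib
-- import your own Groth.Agent.* helpers here

set_option autoImplicit false
open CategoryTheory CategoryTheory.Limits AlgebraicGeometry Opposite
universe u
open ProEtS

namespace Groth.Agent.S0743

/-- For an etale morphism j : U -> X and an abelian sheaf G on U_et, eps^{-1} (j_! G) and j_! (eps^{-1}
G) are isomorphic as abelian sheaves on X_proet (existence of an isomorphism; continuity binders
assumed). -/
theorem result {U X : Scheme.{u}} (j : U ⟶ X) [Etale j] [EtShriek.JCont j]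
    [ProEtS.JPCont j] [ProEtS.EpsCont U] [ProEtS.EpsCont X] (G : EtCoh.Ab U) :
    Nonempty ((ProEtS.epsPull X).obj ((EtShriek.extZero j).obj G) ≅
      (ProEtS.extZeroP j).obj ((ProEtS.epsPull U).obj G)) := by
  have adj1 := (EtShriek.extZeroAdj j).comp (ProEtS.epsAdj X)
  have adj2 : ProEtS.epsPull U ⋙ ProEtS.extZeroP j ⊣ ProEtS.epsPush X ⋙ EtShriek.restrAlong j :=
    (ProEtS.epsAdj U).comp (ProEtS.extZeroPAdj j)
  exact ⟨(adj1.leftAdjointUniq adj2).app G⟩

end Groth.Agent.S0743
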