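import Groth.Statements.S0782
import Mathlib
import Groth.Agent.Lib.Helper1.EtSections2

set_option autoImplicit false
open CategoryTheory CategoryTheory.Limits AlgebraicGeometry Opposite
universe u
open Desc

namespace Groth.Agent.S0782

/-- Let p : X ⟶ S be a morphism such that for every scheme U étale over S the projection X ×_S U ⟶ U is
a quotient map of topological spaces (submersive; U = S is allowed). Then for U₁, U₂ étale over S,
every morphism between their canonical descent data relative to p comes from an S-morphism U₁ ⟶ U₂: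
the canonical-descent-datum functor is full on schemes étale over S (injectivity of this assignment
is a companion statement). (Descent data are taken in functor-of-points form, equivalent by the
Yoneda lemma to the usual form of an isomorphism over X ×_S X satisfying the cocycle condition.) -/
theorem result {X S : Scheme.{u}} (p : X ⟶ S)
    (hp : ∀ U : Over S, Etale U.hom → Topology.IsQuotientMap (pullback.snd p U.hom).base) (U₁ U₂ : Over S)
    [Etale U₁.hom] [Etale U₂.hom] : Function.Surjective ((Desc.toDD p).map : (U₁ ⟶ U₂) → _) := by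
  intro F
  let π : pullback U₁.hom U₂.hom ⟶ U₁.left := pullback.fst U₁.hom U₂.hom
  let gL : pullback p U₁.hom ⟶ U₁.left := pullback.snd p U₁.hom
  have hgLq : Topology.IsQuotientMap gL := hp U₁ inferInstance
  haveI : Surjective gL := ⟨hgLq.surjective⟩
  haveI : Etale π := inferInstance
  -- the quotient hypothesis
  have hq : Topology.IsQuotientMap (pullback.fst π gL) := by
    have sq1 : IsPullback (pullback.snd π gL) (pullback.fst π gL) gL π :=
      (IsPullback.of_hasPullback π gL).flip
    have sq2 : IsPullback (pullback.fst p U₁.hom) gL p U₁.hom := IsPullback.of_hasPullback p U₁.hom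
    have sq := sq1.paste_horiz sq2
    let e := sq.isoPullback
    have he : e.hom ≫ pullback.snd p (π ≫ U₁.hom) = pullback.fst π gL := sq.isoPullback_hom_snd
    haveI : Etale (π ≫ U₁.hom) := inferInstance
    have h1 : Topology.IsQuotientMap (pullback.snd p (π ≫ U₁.hom)) :=
      hp (Over.mk (π ≫ U₁.hom)) (by change Etale (π ≫ U₁.hom); infer_instance)
    have h2 : Topology.IsQuotientMap e.hom :=
      (Scheme.homeoOfIso e).isQuotientMap
    rw [← he]
    exact h1.comp h2
  obtain ⟨Fl, hFl⟩ : ∃ Fl : pullback p U₁.hom ⟶ pullback p U₂.hom, Fl = F.hom.left := ⟨_, rfl⟩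
  have hF : Fl ≫ pullback.fst p U₂.hom = pullback.fst p U₁.hom := by
    rw [hFl]; exact Over.w F.hom
  let σ₀ : pullback p U₁.hom ⟶ U₂.left := Fl ≫ pullback.snd p U₂.hom
  have hσ₀ : gL ≫ U₁.hom = σ₀ ≫ U₂.hom := by
    calc pullback.snd p U₁.hom ≫ U₁.hom = pullback.fst p U₁.hom ≫ p := pullback.condition.symm
      _ = (Fl ≫ pullback.fst p U₂.hom) ≫ p := by rw [hF]
      _ = Fl ≫ pullback.snd p U₂.hom ≫ U₂.hom := by rw [Category.assoc, pullback.condition]
      _ = (Fl ≫ pullback.snd p U₂.hom) ≫ U₂.hom := by rw [Category.assoc]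
  let σ : pullback p U₁.hom ⟶ pullback U₁.hom U₂.hom := pullback.lift gL σ₀ hσ₀
  have hσ : σ ≫ π = gL := pullback.lift_fst _ _ _
  have hσ2 : σ ≫ pullback.snd U₁.hom U₂.hom = σ₀ := pullback.lift_snd _ _ _
  have hconst₀ : ∀ (T : Scheme.{u}) (a b : T ⟶ pullback p U₁.hom), a ≫ gL = b ≫ gL →
      a ≫ σ₀ = b ≫ σ₀ := by
    intro T a b hab
    let x₀ : T ⟶ X := a ≫ pullback.fst p U₁.hom
    let x₁ : T ⟶ X := b ≫ pullback.fst p U₁.hom
    have h01 : x₀ ≫ p = x₁ ≫ p := by
      change (a ≫ pullback.fst p U₁.hom) ≫ p = (b ≫ pullback.fst p U₁.hom) ≫ p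
      rw [Category.assoc, Category.assoc, pullback.condition, ← Category.assoc, ← Category.assoc]
      exact congrArg (· ≫ U₁.hom) hab
    let v : Lifts ((Desc.toDD p).obj U₁).obj x₀ := ⟨a, rfl⟩
    let w : Lifts ((Desc.toDD p).obj U₂).obj x₀ := ⟨a ≫ Fl, by
      change (a ≫ Fl) ≫ pullback.fst p U₂.hom = a ≫ pullback.fst p U₁.hom
      rw [Category.assoc, hF]⟩
    have key := F.comm x₀ x₁ h01 v w (by rw [← hFl]; rfl)
    have e1 : (((Desc.toDD p).obj U₁).φ x₀ x₁ h01 v).1 = b := by
      change (canMap p U₁ x₀ x₁ h01 v).1 = b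
      rw [canMap_val]
      apply pullback.hom_ext
      · rw [pullback.lift_fst]
      · rw [pullback.lift_snd]
        exact hab
    have e2 : (((Desc.toDD p).obj U₂).φ x₀ x₁ h01 w).1 ≫ pullback.snd p U₂.hom =
        (a ≫ Fl) ≫ pullback.snd p U₂.hom := by
      change (canMap p U₂ x₀ x₁ h01 w).1 ≫ _ = _
      rw [canMap_val, pullback.lift_snd]
      rfl
    rw [e1, ← hFl] at key
    change a ≫ Fl ≫ pullback.snd p U₂.hom = b ≫ Fl ≫ pullback.snd p U₂.hom
    rw [← Category.assoc, ← e2, key, Category.assoc]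
    rfl
  have hconst : ∀ (K : Type u) [Field K] (a b : Spec (CommRingCat.of K) ⟶ pullback p U₁.hom),
      a ≫ gL = b ≫ gL → a ≫ σ = b ≫ σ := by
    intro K _ a b hab
    apply pullback.hom_ext
    · rw [Category.assoc, Category.assoc]
      change a ≫ σ ≫ π = b ≫ σ ≫ π
      rw [hσ, hab]
    · rw [Category.assoc, Category.assoc, hσ2]
      exact hconst₀ _ a b hab
  obtain ⟨s, hs1, hs2⟩ := Groth.Agent.H1.EtSections.exists_section_of_constant_on_fibres π gL hq σ hσ
    hconst
  let h : U₁.left ⟶ U₂.left := s ≫ pullback.snd U₁.hom U₂.hom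
  have hh : h ≫ U₂.hom = U₁.hom := by
    change (s ≫ pullback.snd U₁.hom U₂.hom) ≫ U₂.hom = U₁.hom
    rw [Category.assoc, ← pullback.condition, ← Category.assoc]
    change (s ≫ π) ≫ U₁.hom = U₁.hom
    rw [hs1, Category.id_comp]
  refine ⟨Over.homMk h hh, ?_⟩
  apply Desc.SchDD.hom_ext
  apply Over.OverMorphism.ext
  rw [← hFl]
  change pullback.map p U₁.hom p U₂.hom (𝟙 X) h (𝟙 S) (by simp) (by simp [hh]) = Fl
  apply pullback.hom_ext
  · rw [pullback.lift_fst, Category.comp_id, hF]
  · rw [pullback.lift_snd]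
    change gL ≫ s ≫ pullback.snd U₁.hom U₂.hom = σ₀
    rw [← Category.assoc, hs2, hσ2]

end Groth.Agent.S0782
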