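import Groth.Statements.S0785
import Groth.Agent.Lib.Helper6.LCDepth
import Groth.Agent.Lib.Helper6.LCProps
import Groth.Agent.S11617

set_option autoImplicit false
universe u
open Desc

namespace Groth.Agent.S0785

/-- Let A → B be a local homomorphism of Noetherian local rings which is etale in the sense that B is
the localization at a prime of an etale A-algebra. Then A and B have the same depth. -/
theorem result (A B : Type u) [CommRing A] [CommRing B] [IsLocalRing A] [IsLocalRing B]
    [IsNoetherianRing A] [IsNoetherianRing B] [Algebra A B] [IsLocalHom (algebraMap A B)]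
    (E : Type u) [CommRing E] [Algebra A E] [Algebra.Etale A E] (P : Ideal E) [P.IsPrime]
    [Algebra E B] [IsScalarTower A E B] [IsLocalization.AtPrime B P] :
    LocCoh.depth A A = LocCoh.depth B B := by
  haveI : Algebra.FormallyUnramified E B := Algebra.FormallyUnramified.of_isLocalization P.primeCompl
  haveI : Algebra.FormallyUnramified A B := Algebra.FormallyUnramified.comp A E B
  haveI : Algebra.EssFiniteType E B := Algebra.EssFiniteType.of_isLocalization B P.primeCompl
  haveI : Algebra.EssFiniteType A B := Algebra.EssFiniteType.comp A E B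
  haveI : Module.Flat E B := IsLocalization.flat B P.primeCompl
  haveI : Module.Flat A B := Module.Flat.trans A E B
  haveI : Module.FaithfullyFlat A B := Module.FaithfullyFlat.of_flat_of_isLocalHom
  have hmax : (IsLocalRing.maximalIdeal A).map (algebraMap A B) = IsLocalRing.maximalIdeal B :=
    Algebra.FormallyUnramified.map_maximalIdeal
  have hA : IsLocalRing.maximalIdeal A • (⊤ : Submodule A A) ≠ ⊤ := by
    rw [Ideal.smul_top_eq_map, Algebra.algebraMap_self, Ideal.map_id]
    intro h
    have h2 := (Submodule.restrictScalars_eq_top_iff A A A).mp h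
    exact (IsLocalRing.maximalIdeal.isMaximal A).ne_top h2
  have hB : IsLocalRing.maximalIdeal B • (⊤ : Submodule B B) ≠ ⊤ := by
    rw [Ideal.smul_top_eq_map, Algebra.algebraMap_self, Ideal.map_id]
    intro h
    have h2 := (Submodule.restrictScalars_eq_top_iff B B B).mp h
    exact (IsLocalRing.maximalIdeal.isMaximal B).ne_top h2
  unfold LocCoh.depth
  apply ENat.eq_of_forall_natCast_le_iff
  intro n
  rw [Groth.Agent.H6.LC.le_idealDepth_iff _ A hA n, Groth.Agent.H6.LC.le_idealDepth_iff _ B hB n]
  refine forall_congr' fun i => forall_congr' fun _ => ?_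
  obtain ⟨e⟩ := Groth.Agent.S11617.result A B (IsLocalRing.maximalIdeal A) A i
  rw [hmax] at e
  have h1 : Subsingleton (LocCoh.H (IsLocalRing.maximalIdeal B) i (TensorProduct A B A)) ↔
      Subsingleton (LocCoh.H (IsLocalRing.maximalIdeal B) i B) :=
    ⟨fun h => Groth.Agent.H6.LC.subsingleton_of_linearEquiv
        (TensorProduct.AlgebraTensorModule.rid A B B) h,
      fun h => Groth.Agent.H6.LC.subsingleton_of_linearEquiv
        (TensorProduct.AlgebraTensorModule.rid A B B).symm h⟩
  rw [← h1, ← e.toEquiv.subsingleton_congr, Module.FaithfullyFlat.subsingleton_tensorProduct_iff_right]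

end Groth.Agent.S0785
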