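import Groth.Statements.S0801
import Groth.Agent.Lib.Helper2.PFSecI

set_option autoImplicit false
universe u
open Formal2

namespace Groth.Agent.S0801

open AlgebraicGeometry in
/-- Let A be a Noetherian ring that is complete for the f-adic topology, where f lies in an ideal 𝔞, let
M be a finite A-module, and assume the local cohomology modules H^1_𝔞(M) and H^2_𝔞(M) are each
annihilated by a power of f. Then, with U the complement of V(𝔞) in Spec A, the canonical map from
the sections of M~ over U to the limit of the sections of (M/f^nM)~ over U is bijective (sections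
are taken as degree-0 cohomology over U). -/
theorem result (A : Type u) [CommRing A]
    [IsNoetherianRing A] (𝔞 : Ideal A) (f : A) (hf : f ∈ 𝔞) [IsAdicComplete (Ideal.span {f}) A]
    (M : Type u) [AddCommGroup M] [Module A M] [Module.Finite A M]
    (h₁ : ∃ n : ℕ, ∀ x : LocCoh.H 𝔞 1 M, f ^ n • x = 0) (h₂ : ∃ n : ℕ, ∀ x : LocCoh.H 𝔞 2 M, f ^ n • x = 0) :
    Formal2.FormalCohBijective A (Ideal.span {f}) M 0 (LocCoh.puncturedOpen A 𝔞) := by

  refine ⟨fun x x' h => ?_, fun y hy => ?_⟩
  · have h0 : Groth.Agent.H2.PFSec.hv A 𝔞 M (x - x') = 0 := by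
      apply Groth.Agent.H2.PFSec.sec_inj A 𝔞 f M h₁ h₂
      intro n
      have h1 := Groth.Agent.H2.PFSec.hv_map A 𝔞 (Formal2.quotPowπ A (Ideal.span {f}) M n) (x - x')
      have h2 : Formal2.HVmap A (Formal2.quotPowπ A (Ideal.span {f}) M n) 0
          (LocCoh.puncturedOpen A 𝔞) (x - x') = 0 := by
        rw [map_sub, h n, sub_self]
      rw [h2, map_zero] at h1
      exact h1.symm
    have h3 : x - x' = 0 := (AddEquiv.map_eq_zero_iff _).mp h0
    exact sub_eq_zero.mp h3
  · obtain ⟨t, ht⟩ := Groth.Agent.H2.PFSec.sec_surj A 𝔞 f M h₁ h₂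
      (fun n => Groth.Agent.H2.PFSec.hv A 𝔞 _ (y n)) (by
        intro n
        have h1 := Groth.Agent.H2.PFSec.hv_map A 𝔞
          (Formal2.quotPowTrans A (Ideal.span {f}) M n) (y (n + 1))
        rw [hy n] at h1
        exact h1.symm)
    refine ⟨(Groth.Agent.H2.PFSec.hv A 𝔞 M).symm t, fun n => ?_⟩
    apply (Groth.Agent.H2.PFSec.hv A 𝔞 _).injective
    have h1 := Groth.Agent.H2.PFSec.hv_map A 𝔞 (Formal2.quotPowπ A (Ideal.span {f}) M n)
      ((Groth.Agent.H2.PFSec.hv A 𝔞 M).symm t)
    rw [AddEquiv.apply_symm_apply] at h1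
    rw [h1]
    exact ht n

end Groth.Agent.S0801
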