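import Groth.Statements.S0802
import Groth.Agent.Lib.Helper2.PFFinF

set_option autoImplicit false
universe u
open Formal2

namespace Groth.Agent.S0802

open AlgebraicGeometry in
/-- Let A be a Noetherian ring, f an element of an ideal 𝔞, and M a finite A-module on which f acts as a
nonzerodivisor; suppose A is complete for the f-adic topology and H^1_𝔞(M/fM) is a finite A-module.
Then, with U the complement of V(𝔞), the canonical map from the colimit of the sections of M~ over
the opens V ⊆ U containing U ∩ V(f) to the limit of the sections of (M/f^nM)~ over U is bijective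
(in the elementwise formulation of the prelude, degree-0 cohomology standing for sections). -/
theorem result (A : Type u) [CommRing A] [IsNoetherianRing A]
    (𝔞 : Ideal A) (f : A) (hf : f ∈ 𝔞) [IsAdicComplete (Ideal.span {f}) A]
    (M : Type u) [AddCommGroup M] [Module A M] [Module.Finite A M] (hreg : IsSMulRegular M f)
    (hfin : Module.Finite A (LocCoh.H 𝔞 1 (M ⧸ (Ideal.span {f} • (⊤ : Submodule A M))))) :
    Formal2.FormalCohColimBijective A (Ideal.span {f}) M 0 (LocCoh.puncturedOpen A 𝔞) := by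

  have hfin' : Module.Finite A (LocCoh.H 𝔞 1 (M ⧸ Groth.Agent.H2.PFSec.P f M 0)) := by
    let e : (M ⧸ (Ideal.span {f} • (⊤ : Submodule A M))) ≃ₗ[A]
        (M ⧸ Groth.Agent.H2.PFSec.P f M 0) :=
      Submodule.quotEquivOfEq _ _ (by
        change Ideal.span {f} • (⊤ : Submodule A M) = Ideal.span {f} ^ (0 + 1) • ⊤
        rw [zero_add, pow_one])
    apply Module.Finite.of_surjective (Groth.Agent.H2.PFSec.hmap 𝔞 1 e.toLinearMap)
    intro z
    refine ⟨Groth.Agent.H2.PFSec.hmap 𝔞 1 e.symm.toLinearMap z, ?_⟩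
    rw [← Groth.Agent.H2.PFSec.hmap_comp]
    have h1 : e.toLinearMap ∘ₗ e.symm.toLinearMap = LinearMap.id := by
      apply LinearMap.ext
      intro q
      simp
    rw [h1, Groth.Agent.H2.PFSec.hmap_id]
  refine ⟨fun V hV x hx => ?_, fun y hy => ?_⟩
  · exact Groth.Agent.H2.PFFin.exists_open_res_eq_zero f _ V hV x hx
  · obtain ⟨x, hx⟩ := Groth.Agent.H2.PFFin.exists_section_of_compat A 𝔞 f M y hy
    refine ⟨Groth.Agent.H2.PFFin.Vopen A 𝔞 f M,
      ⟨Groth.Agent.H2.PFFin.Vopen_le A 𝔞 f M, fun p hpU hpf => ?_⟩, x, hx⟩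
    have hI : ¬ 𝔞 ≤ (p : PrimeSpectrum A).asIdeal := hpU
    have hfp : f ∈ (p : PrimeSpectrum A).asIdeal := hpf (Ideal.mem_span_singleton_self f)
    have := (p : PrimeSpectrum A).2
    exact fun h => Groth.Agent.H2.PFFin.not_Jid_le 𝔞 hreg hfin' _ hI hfp h

end Groth.Agent.S0802
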