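import Groth.Statements.S0803
import Groth.Agent.Lib.Helper2.PFCohD
import Groth.Agent.S0801

set_option autoImplicit false
universe u
open Formal2

namespace Groth.Agent.S0803

open AlgebraicGeometry in
/-- Let A be a Noetherian ring that is complete for the f-adic topology, where f lies in an ideal 𝔞, let
M be a finite A-module and s ≥ 0, and assume H^i_𝔞(M) is annihilated by a power of f for every i ≤ s
+ 1. Then, with U the complement of V(𝔞), the canonical map H^i(U, M~) → lim_n H^i(U, (M/f^nM)~) is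
bijective for every i < s. -/
theorem result (A : Type u) [CommRing A]
    [IsNoetherianRing A] (𝔞 : Ideal A) (f : A) (hf : f ∈ 𝔞) [IsAdicComplete (Ideal.span {f}) A]
    (M : Type u) [AddCommGroup M] [Module A M] [Module.Finite A M] (s : ℕ)
    (h : ∀ i : ℕ, i ≤ s + 1 → ∃ n : ℕ, ∀ x : LocCoh.H 𝔞 i M, f ^ n • x = 0) (i : ℕ) (hi : i < s) :
    Formal2.FormalCohBijective A (Ideal.span {f}) M i (LocCoh.puncturedOpen A 𝔞) := by

  rcases Nat.eq_zero_or_pos i with hi0 | hipos
  · subst hi0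
    exact Groth.Agent.S0801.result A 𝔞 f hf M (h 1 (by omega)) (h 2 (by omega))
  · obtain ⟨j, rfl⟩ : ∃ j, i = j + 1 := ⟨i - 1, by omega⟩
    have h₁ : ∃ c : ℕ, Groth.Agent.H2.PFCoh.TKills A (LocCoh.puncturedOpen A 𝔞) (j + 1) M
        (f ^ c) := by
      obtain ⟨c, hc⟩ := h (j + 2) (by omega)
      exact ⟨c, Groth.Agent.H2.PFCoh.tkills_of_kills A 𝔞 j M (f ^ c) hc⟩
    have h₂ : ∃ c : ℕ, Groth.Agent.H2.PFCoh.TKills A (LocCoh.puncturedOpen A 𝔞) (j + 1 + 1) M
        (f ^ c) := by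
      obtain ⟨c, hc⟩ := h (j + 1 + 2) (by omega)
      exact ⟨c, Groth.Agent.H2.PFCoh.tkills_of_kills A 𝔞 (j + 1) M (f ^ c) hc⟩
    refine ⟨fun x x' hx => ?_, fun y hy => ?_⟩
    · have h3 : x - x' = 0 := by
        apply Groth.Agent.H2.PFCoh.T_inj (LocCoh.puncturedOpen A 𝔞) f M (j + 1) h₁ h₂
        intro n
        have h4 : Formal2.HVmap A (Formal2.quotPowπ A (Ideal.span {f}) M n) (j + 1)
            (LocCoh.puncturedOpen A 𝔞) (x - x') = 0 := by
          rw [map_sub, hx n, sub_self]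
        exact h4
      exact sub_eq_zero.mp h3
    · exact Groth.Agent.H2.PFCoh.T_surj (LocCoh.puncturedOpen A 𝔞) f M (j + 1) h₁ h₂ y hy

end Groth.Agent.S0803
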