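import Groth.Statements.S0819
import Groth.Agent.Lib.Lead.QC.DevissageStep
import Groth.Agent.Lib.Lead.QC.IntegralSub

set_option autoImplicit false
universe u
open Coherent

namespace Groth.Agent.S0819

open CategoryTheory AlgebraicGeometry in
/-- Let X be a Noetherian scheme, Z₀ ⊆ X an irreducible closed subset with generic point ξ, and P an
isomorphism-invariant property of O_X-modules such that: (1) in every short exact sequence of
coherent modules supported in Z₀, P for two of the terms implies P for the third; (2) P holds for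
i_* I whenever i : Z → X is an integral closed subscheme with i(Z) a proper subset of Z₀ and I ⊆ O_Z
is a quasi-coherent ideal sheaf; (3) there is a coherent G with support exactly Z₀, stalk at ξ
isomorphic to the residue field over the local ring, and P(G). Then P holds for every coherent
module whose support is contained in Z₀. -/
theorem result (X : Scheme.{u}) [IsNoetherian X]
    (Z₀ : Set X) (hZ₀ : IsClosed Z₀) (hirr : IsIrreducible Z₀) (ξ : X) (hξ : ξ ∈ Z₀ ∧ closure {ξ} = Z₀)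
    (P : X.Modules → Prop) (hP : ∀ M N : X.Modules, Nonempty (M ≅ N) → P M → P N)
    (h₁ : ∀ S : ShortComplex X.Modules, S.ShortExact → Coh.IsCoh S.X₁ → Coh.IsCoh S.X₂ → Coh.IsCoh S.X₃ →
      CohB1.support S.X₂ ⊆ Z₀ →
      (P S.X₁ → P S.X₂ → P S.X₃) ∧ (P S.X₁ → P S.X₃ → P S.X₂) ∧ (P S.X₂ → P S.X₃ → P S.X₁))
    (h₂ : ∀ (Z : Scheme.{u}) (i : Z ⟶ X), IsClosedImmersion i → IsIntegral Z →
      Set.range ⇑i ⊆ Z₀ → Set.range ⇑i ≠ Z₀ →
      ∀ (I : Z.Modules) (ι : I ⟶ Coh.structureModule Z), Mono ι → Coh.IsQCoh I →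
        P ((Coh.push i).obj I))
    (h₃ : ∃ G : X.Modules, Coh.IsCoh G ∧ CohB1.support G = Z₀ ∧
      Nonempty (↑(G.presheaf.stalk ξ) ≃ₗ[X.presheaf.stalk ξ] IsLocalRing.ResidueField (X.presheaf.stalk ξ)) ∧ P G)
    (M : X.Modules) (hM : Coh.IsCoh M) (hsupp : CohB1.support M ⊆ Z₀) : P M := by
  classical
  obtain ⟨hξZ, hξcl⟩ := hξ
  obtain ⟨G₀, hG₀, hG₀s, ⟨e₀⟩, hPG₀⟩ := h₃
  have hP0 : ∀ Z : X.Modules, CategoryTheory.Limits.IsZero Z → P Z := by
    intro Z hZ
    have hses : (CategoryTheory.ShortComplex.mk (0 : Z ⟶ G₀) (𝟙 G₀)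
        CategoryTheory.Limits.zero_comp).ShortExact :=
      { exact := (CategoryTheory.ShortComplex.exact_iff_mono _ rfl).mpr (inferInstanceAs (Mono (𝟙 G₀)))
        mono_f := ⟨fun _ _ _ => hZ.eq_of_tgt _ _⟩
        epi_g := inferInstanceAs (Epi (𝟙 G₀)) }
    exact (h₁ _ hses (Groth.Agent.LD.QC.isCoh_of_isZero hG₀ hZ) hG₀ hG₀ hG₀s.le).2.2 hPG₀ hPG₀
  refine Groth.Agent.LD.QC.devissage_master P (fun A B e _ hA => hP A B ⟨e⟩ hA) Z₀ hP0
    (fun S hS h1 h2 h3 hs p1 p3 => (h₁ S hS h1 h2 h3 hs).2.1 p1 p3) ?_ M hM hsupp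
  intro Y hYc hYirr hYZ₀ IH Q hQ hQY
  have hQ0 : ¬ CategoryTheory.Limits.IsZero Q := by
    intro hz
    have := Groth.Agent.LD.QC.support_eq_empty_of_isZero hz
    rw [hQY] at this
    exact hYirr.nonempty.ne_empty this
  by_cases hYeq : Y = Z₀
  · subst hYeq
    haveI : IsSimpleModule (X.presheaf.stalk ξ) (IsLocalRing.ResidueField (X.presheaf.stalk ξ)) :=
      isSimpleModule_iff_isCoatom.mpr (Ideal.isMaximal_def.mp inferInstance)
    have hsimp : IsSimpleModule (X.presheaf.stalk ξ) (G₀.presheaf.stalk ξ) := IsSimpleModule.congr e₀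
    refine Groth.Agent.LD.QC.exists_sub_of_subs P Y
      (fun S hS h1 h2 h3 hs p1 p2 => (h₁ S hS h1 h2 h3 hs).1 p1 p2) G₀ Q hG₀ hQ hQ0
      (by rw [hQY, hG₀s]) hG₀s.le ?_
    intro K k hk hK
    exact @Groth.Agent.LD.QC.sub_of_simple_stalk X _ P Y
      (fun S hS h1 h2 h3 hs p2 p3 => (h₁ S hS h1 h2 h3 hs).2.2 p2 p3) Y ξ hξZ G₀ hG₀ hG₀s
      (subset_refl _) hsimp hPG₀ IH K k hk hK
  · let Yc : TopologicalSpace.Closeds X := ⟨Y, hYc⟩
    let I := Scheme.IdealSheafData.vanishingIdeal Yc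
    have hGc : Coh.IsCoh (ClSub.quotMod I) := Groth.Agent.LD.QC.isCoh_quotMod I
    have hGs : CohB1.support (ClSub.quotMod I) = Y := by
      rw [Groth.Agent.LD.QC.support_quotMod, Scheme.IdealSheafData.coe_support_vanishingIdeal]
      rfl
    refine Groth.Agent.LD.QC.exists_sub_of_subs P Z₀
      (fun S hS h1 h2 h3 hs p1 p2 => (h₁ S hS h1 h2 h3 hs).1 p1 p2) (ClSub.quotMod I) Q hGc hQ hQ0
      (by rw [hQY, hGs]) (hGs ▸ hYZ₀) ?_
    intro K k hk hK
    haveI := hk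
    haveI : K.IsQuasicoherent := hK.1
    obtain ⟨T, ι, hι, hT, ⟨e⟩⟩ := Groth.Agent.LD.QC.exists_ideal_of_sub_quotMod I K k
    have hr : Set.range ⇑(Groth.Agent.LD.QC.redSubι Yc) = Y := Groth.Agent.LD.QC.range_redSubι Yc
    exact hP _ _ ⟨e⟩ (h₂ (Groth.Agent.LD.QC.redSub Yc) (Groth.Agent.LD.QC.redSubι Yc) inferInstance
      (Groth.Agent.LD.QC.isIntegral_redSub Yc hYirr) (hr ▸ hYZ₀) (hr ▸ hYeq) T ι hι hT)

end Groth.Agent.S0819
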