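import Groth.Statements.S0825
import Groth.Agent.Lib.Helper6.DTExact3

set_option autoImplicit false
universe u
open scoped BigOperators
open LocCoh

namespace Groth.Agent.S0825

/-- Let A be a Noetherian ring and I the ideal generated by f_1, …, f_r, with cohomological dimension
exactly 1. Then there are c ≥ 1 and A-linear maps φ_j : I^c → A such that x = Σ_j f_j φ_j(x) for
every x ∈ I^c. -/
theorem result (A : Type u) [CommRing A] [IsNoetherianRing A] (r : ℕ) (f : Fin r → A)
    (h₁ : LocCoh.CdLE A (Ideal.span (Set.range f)) 1) (h₀ : ¬ LocCoh.CdLE A (Ideal.span (Set.range f)) 0) :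
    ∃ (c : ℕ) (φ : Fin r → (↥(Ideal.span (Set.range f) ^ (c + 1)) →ₗ[A] A)),
      ∀ x : ↥(Ideal.span (Set.range f) ^ (c + 1)), (x : A) = ∑ j, f j * φ j x := by
  classical
  set I := Ideal.span (Set.range f) with hI
  have hex := (Groth.Agent.H6.DTEx.exact_iff_cdLE I).2 h₁
  have htop := (Groth.Agent.H6.DTEx.exact_iff_smul_top I).1 hex
  obtain ⟨N, hN, J, _, α, b, hb, hc⟩ := Groth.Agent.H6.DTEx.fact_one_of_top I htop
  obtain ⟨c, rfl⟩ : ∃ c, N = c + 1 := ⟨N - 1, by omega⟩
  have hb' : ∀ j, ∃ g : Fin r → A, ∑ i, g i * f i = b j := by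
    intro j
    have := hb j
    rw [pow_one, hI] at this
    exact (Ideal.mem_span_range_iff_exists_fun).1 this
  choose g hg using hb'
  refine ⟨c, fun i => ∑ j, g j i • α j, ?_⟩
  intro x
  rw [hc x]
  simp only [LinearMap.coe_sum, Finset.sum_apply, LinearMap.smul_apply, smul_eq_mul, Finset.mul_sum]
  rw [Finset.sum_comm]
  refine Finset.sum_congr rfl (fun j _ => ?_)
  rw [← hg j, Finset.mul_sum]
  refine Finset.sum_congr rfl (fun i _ => ?_)
  ring

end Groth.Agent.S0825
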