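import Groth.Statements.S0835
import Groth.Agent.Lib.Helper2.FormalPB

set_option autoImplicit false
universe u
open Formal2

namespace Groth.Agent.S0835

open CategoryTheory AlgebraicGeometry in
/-- First assertion, for ideal sheaves generated by an ideal I of a base ring A. Let f : X → Y be a
morphism of Noetherian schemes over Spec A and (G_n) a coherent formal module for I on Y. Then the
componentwise pullback (f^* G_n) is a coherent formal module for I on X. (Exactness properties of
this functor are not stated.) -/
theorem result (A : Type u) [CommRing A] (I : Ideal A) (X Y : Scheme.{u})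
    [X.Over (Spec (CommRingCat.of A))] [Y.Over (Spec (CommRingCat.of A))] [IsNoetherian X] [IsNoetherian Y]
    (f : X ⟶ Y) (hf : f ≫ (Y ↘ Spec (CommRingCat.of A)) = X ↘ Spec (CommRingCat.of A))
    (G : ℕᵒᵖ ⥤ Y.Modules) (hG : Formal.IsCohFormal I G) :
    Formal.IsCohFormal I (G ⋙ Scheme.Modules.pullback f) := by
  obtain ⟨h1, h2, h3⟩ := hG
  haveI : Limits.PreservesColimitsOfSize.{u, u} (Scheme.Modules.pullback f) :=
    (Scheme.Modules.pullbackPushforwardAdjunction f).leftAdjoint_preservesColimits
  refine ⟨fun n => ?_, fun n => ?_, fun n => ?_⟩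
  · haveI : (G.obj (Opposite.op n)).IsQuasicoherent := (h1 n).1
    exact ⟨Groth.Agent.LD.QC.qc_pullback f _, Groth.Agent.LD.QC.isFiniteType_pullback f _ (h1 n).2⟩
  · exact Groth.Agent.H2.FormalPB.killedBy_pullback f hf _ _ (h2 n)
  · obtain ⟨h, hiso⟩ := h3 n
    haveI := hiso
    have h' : Formal.smulFamily (I ^ (n + 1))
        ((Scheme.Modules.pullback f).obj (G.obj (Opposite.op (n + 1)))) ≫
        (Scheme.Modules.pullback f).map (G.map (homOfLE (Nat.le_succ n)).op) = 0 := by
      rw [← Groth.Agent.H2.FormalPB.sigmaComparison_map_smulFamily f hf, Category.assoc,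
        ← Functor.map_comp, h, Functor.map_zero, Limits.comp_zero]
    refine ⟨h', ?_⟩
    exact Groth.Agent.H2.FormalPB.isIso_cokernel_desc_map (Scheme.Modules.pullback f)
      (Formal.smulFamily (I ^ (n + 1)) (G.obj (Opposite.op (n + 1))))
      (G.map (homOfLE (Nat.le_succ n)).op) h
      (Limits.sigmaComparison (Scheme.Modules.pullback f)
        (fun _ : ↥(I ^ (n + 1)) => G.obj (Opposite.op (n + 1)))) _
      (Groth.Agent.H2.FormalPB.sigmaComparison_map_smulFamily f hf _ _).symm h'

end Groth.Agent.S0835
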