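import Groth.Statements.S0871
import Groth.Agent.Lib.Lead.Top.DerivedRestr

set_option autoImplicit false
universe u
open CategoryTheory
open CohTop

namespace Groth.Agent.S0871

open TopologicalSpace CategoryTheory.Limits in
/-- For an object K of the derived category of abelian sheaves on X and an open U, H^p(U, K) is
isomorphic to H^p(U, K|_U), where K|_U is the image of K under the functor on derived categories
induced by the (exact) restriction to U. Exactness of restriction is assumed through instance
arguments (true, but not recorded by Mathlib in this generality). -/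
theorem result {X : TopCat.{u}} (U : Opens X)
    [HasDerivedCategory.{u} (CohTop.Ab X)] [HasDerivedCategory.{u} (CohTop.Ab (TopCat.of U))]
    [PreservesFiniteLimits (CohTop.restrFunctor U)] [PreservesFiniteColimits (CohTop.restrFunctor U)]
    (K : DerivedCategory (CohTop.Ab X)) (p : ℤ) :
    Nonempty (CohCx.HDU K p U ≃+ CohCx.HDU ((CohTop.restrFunctor U).mapDerivedCategory.obj K) p ⊤) := by
  have hU : (U.isOpenEmbedding.isOpenMap.functor.obj (⊤ : TopologicalSpace.Opens (TopCat.of U))) = U := by
    ext x
    constructor
    · rintro ⟨y, -, rfl⟩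
      exact y.2
    · intro hx
      exact ⟨⟨x, hx⟩, trivial, rfl⟩
  haveI i1 : CategoryTheory.Limits.PreservesFiniteLimits (Groth.Agent.LD.SC.resTop
      (j := TopCat.ofHom (⟨_, continuous_subtype_val⟩ : C(U, X))) U.isOpenEmbedding) :=
    ‹CategoryTheory.Limits.PreservesFiniteLimits (CohTop.restrFunctor U)›
  haveI i2 : CategoryTheory.Limits.PreservesFiniteColimits (Groth.Agent.LD.SC.resTop
      (j := TopCat.ofHom (⟨_, continuous_subtype_val⟩ : C(U, X))) U.isOpenEmbedding) :=
    ‹CategoryTheory.Limits.PreservesFiniteColimits (CohTop.restrFunctor U)›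
  exact Groth.Agent.LD.DerivedRestr.nonempty_HDU_resTop_equiv
    (j := TopCat.ofHom (⟨_, continuous_subtype_val⟩ : C(U, X))) U.isOpenEmbedding K p ⊤ U hU

end Groth.Agent.S0871
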