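import Groth.Statements.S0915
import Mathlib
import Groth.Agent.H4.LDS7

set_option autoImplicit false
universe u
open CategoryTheory
attribute [local instance] HasDerivedCategory.standard
open DCoh

namespace Groth.Agent.S0915

open AlgebraicGeometry CategoryTheory.Limits in
/-- On a scheme X, let K and L be objects of D(𝒪_X). If K ⊕ L has tor-amplitude in [a, b] then K and L
each have tor-amplitude in [a, b]. (The hypothesis is taken in the flat-representative form and the
conclusion in the derived-tensor form.) -/
theorem result {X : Scheme.{u}} (K L : DCoh.D X) [HasBinaryBiproduct K L] (a b : ℤ)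
    (h : DCoh.HasFlatAmplitudeIn a b (K ⊞ L)) : DCoh.HasTorAmplitudeIn a b K ∧ DCoh.HasTorAmplitudeIn a b L := by
  have hKL := Groth.Agent.H4.LDS7.hasTorAmplitudeIn_of_hasFlatAmplitudeIn a b _ h
  exact ⟨Groth.Agent.H4.LDS7.hasTorAmplitudeIn_of_retract a b biprod.inl biprod.fst biprod.inl_fst hKL,
    Groth.Agent.H4.LDS7.hasTorAmplitudeIn_of_retract a b biprod.inr biprod.snd biprod.inr_snd hKL⟩


end Groth.Agent.S0915
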