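import Groth.Statements.S0996
import Groth.Agent.Lib.Helper2.RDer9

set_option autoImplicit false
universe w w' v v' u u'
open CategoryTheory CategoryTheory.Limits
open CohDer

namespace Groth.Agent.S0996

/-- Leray's acyclicity lemma. Let F : C ⥤ D be a left exact additive functor between abelian categories,
with C having enough injectives. If K is a bounded below cochain complex in C all of whose terms are
right F-acyclic (RⁱF(Kᵐ) = 0 for i > 0), then the canonical map F(K) → RF(K) in the bounded below
derived category D⁺(D) is an isomorphism. -/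
theorem result {C : Type u} [Category.{v} C] [Abelian C] [HasDerivedCategory.{w} C] [EnoughInjectives C]
    {D : Type u'} [Category.{v'} D] [Abelian D] [HasDerivedCategory.{w'} D]
    (F : C ⥤ D) [F.Additive] [PreservesFiniteLimits F] (K : CochainComplex.Plus C)
    (hK : ∀ (m : ℤ) (i : ℕ), 0 < i → IsZero ((F.rightDerived i).obj (K.obj.X m))) :
    IsIso (F.rightDerivedFunctorPlusUnit.app ((HomotopyCategory.Plus.quotient C).obj K)) := by
  obtain ⟨K, a, hKa⟩ := K
  haveI : K.IsStrictlyGE a := hKa
  obtain ⟨Z, hZ⟩ : ∃ Z : C, IsZero Z := ⟨_, (HasZeroObject.zero (C := C)).choose_spec⟩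
  obtain ⟨L, α, hL, hLI, _, hα⟩ := Groth.Agent.H2.Resol.exists_resolution
    (fun X : C => Injective X)
    (fun X => ⟨Injective.under X, Injective.ι X, inferInstance, inferInstance⟩) K a
    ⟨Z, hZ, hZ.injective⟩
  haveI : L.IsStrictlyGE a := hL
  haveI : ∀ n, Injective (L.X n) := hLI
  haveI : QuasiIso α := hα
  have h := (Groth.Agent.H2.RDer.isIso_unit_plusObj_iff F K L a a α).2
    (Groth.Agent.H2.RDer.quasiIso_map_of_acyc F K L a a
      (fun n i hi => hK n i hi) α)
  exact h

end Groth.Agent.S0996
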