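import Groth.Statements.S6624
import Groth.Agent.Lib.Helper2.RDer5

set_option autoImplicit false
universe w w' v v' u u'
open CategoryTheory CategoryTheory.Limits
open CohDer

namespace Groth.Agent.S6624

/-- Part (1): in the case where A has enough injectives: let F : A ⥤ B be an additive functor between
abelian categories, A with enough injectives, and X an object of A. Then X is right acyclic for F,
i.e. the canonical map F(X)[0] ⟶ RF(X[0]) is an isomorphism in D⁺(B), if and only if F(X) ⟶ R⁰F(X)
is an isomorphism and RⁱF(X) = 0 for all i > 0. -/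
theorem result {A : Type u} [Category.{v} A] [Abelian A] [HasDerivedCategory.{w} A] [EnoughInjectives A]
    {B : Type u'} [Category.{v'} B] [Abelian B] [HasDerivedCategory.{w'} B]
    (F : A ⥤ B) [F.Additive] (X : A) :
    IsIso (F.rightDerivedFunctorPlusUnit.app ((HomotopyCategory.Plus.singleFunctor A 0).obj X)) ↔
      (IsIso (F.toRightDerivedZero.app X) ∧ ∀ i : ℕ, 0 < i → IsZero ((F.rightDerived i).obj X)) := by
  let R := injectiveResolution X
  rw [Groth.Agent.H2.RDer.isIso_unit_single_iff F X R, Groth.Agent.H2.RDer.quasiIso_map_ι'_iff]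
  have h0 : IsIso (F.toRightDerivedZero.app X) ↔ IsIso (R.toRightDerivedZero' F) := by
    rw [R.toRightDerivedZero_eq F]
    constructor
    · intro h
      have h2 : IsIso ((CochainComplex.isoHomologyπ₀
          ((F.mapHomologicalComplex (ComplexShape.up ℕ)).obj R.cocomplex)).hom ≫
            (R.isoRightDerivedObj F 0).inv) := inferInstance
      exact IsIso.of_isIso_comp_right _ ((CochainComplex.isoHomologyπ₀
          ((F.mapHomologicalComplex (ComplexShape.up ℕ)).obj R.cocomplex)).hom ≫
            (R.isoRightDerivedObj F 0).inv)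
    · intro h
      infer_instance
  have hi : ∀ k : ℕ, IsZero ((F.rightDerived (k + 1)).obj X) ↔
      ((F.mapHomologicalComplex (ComplexShape.up ℕ)).obj R.cocomplex).ExactAt (k + 1) := by
    intro k
    rw [HomologicalComplex.exactAt_iff_isZero_homology]
    exact (R.isoRightDerivedObj F (k + 1)).isZero_iff
  rw [h0]
  constructor
  · rintro ⟨h1, h2⟩
    refine ⟨h1, fun i hi' => ?_⟩
    obtain ⟨k, rfl⟩ : ∃ k, i = k + 1 := ⟨i - 1, by omega⟩
    exact (hi k).2 (h2 k)
  · rintro ⟨h1, h2⟩
    exact ⟨h1, fun k => (hi k).1 (h2 (k + 1) (by omega))⟩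

end Groth.Agent.S6624
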