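import Groth.Statements.S0930
import Groth.Agent.S12541
import Groth.Agent.Lib.Helper1.TopSheafPullback
import Groth.Agent.Lib.Helper2.RDer1

set_option autoImplicit false
universe u
open CategoryTheory
attribute [local instance] HasDerivedCategory.standard
open CohTop

namespace Groth.Agent.S0930

/-- For continuous maps f : X -> Y and g : Y -> Z, the composite of the right derived functors Rf_* :
D^+(X) -> D^+(Y) and Rg_* : D^+(Y) -> D^+(Z) is isomorphic to R(g ∘ f)_* (existence of an
isomorphism of functors between bounded below derived categories). -/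
theorem result {X Y Z : TopCat.{u}} (f : X ⟶ Y) (g : Y ⟶ Z) :
    Nonempty ((CohTop.push f).rightDerivedFunctorPlus ⋙ (CohTop.push g).rightDerivedFunctorPlus ≅
      (CohTop.push (f ≫ g)).rightDerivedFunctorPlus) := by
  haveI : Limits.PreservesFiniteLimits (CohTop.push f) :=
    ⟨fun _ _ _ => (TopCat.Sheaf.pullbackPushforwardAdjunction AddCommGrpCat.{u} f).rightAdjoint_preservesLimits.preservesLimitsOfShape⟩
  haveI : Limits.PreservesFiniteLimits (CohTop.push g) :=
    ⟨fun _ _ _ => (TopCat.Sheaf.pullbackPushforwardAdjunction AddCommGrpCat.{u} g).rightAdjoint_preservesLimits.preservesLimitsOfShape⟩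
  have hFG : ∀ I : CohTop.Ab X, Injective I →
      IsIso ((CohTop.push g).rightDerivedFunctorPlusUnit.app
        ((HomotopyCategory.Plus.singleFunctor (CohTop.Ab Y) 0).obj ((CohTop.push f).obj I))) := by
    intro I hI
    haveI : Injective ((CohTop.push f).obj I) :=
      @Groth.Agent.H1.topSheafPushforward_injective X Y f I hI
    rw [Groth.Agent.H2.RDer.single_eq_plusObj]
    haveI : ∀ n, Injective (((CochainComplex.singleFunctor (CohTop.Ab Y) 0).obj
        ((CohTop.push f).obj I)).X n) := by
      intro n
      by_cases hn : n = 0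
      · subst hn
        exact Injective.of_iso (HomologicalComplex.singleObjXSelf (ComplexShape.up ℤ) 0
          ((CohTop.push f).obj I)).symm inferInstance
      · exact (HomologicalComplex.isZero_single_obj_X (ComplexShape.up ℤ) 0
          ((CohTop.push f).obj I) n hn).injective
    exact Groth.Agent.H2.RDer.isIso_unit_plusObj (CohTop.push g) _ 0
  have h := Groth.Agent.S12541.result (CohTop.push f) (CohTop.push g) hFG
  have key : ∀ {C D H : Type (u + 1)} [Category.{u} C] [Category.{u + 1} D] [Category.{u + 1} H]
      {RF RF' : D ⥤ H} {F : C ⥤ H} {L : C ⥤ D} (α : F ⟶ L ⋙ RF) (α' : F ⟶ L ⋙ RF')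
      (W : MorphismProperty C) [L.IsLocalization W] (_ : RF.IsRightDerivedFunctor α W)
      (_ : RF'.IsRightDerivedFunctor α' W), Nonempty (RF ≅ RF') :=
    fun α α' W _ _ _ => ⟨Functor.rightDerivedUnique _ _ α α' W⟩
  exact key _ (CohTop.push (f ≫ g)).rightDerivedFunctorPlusUnit
    (HomotopyCategory.Plus.quasiIso (CohTop.Ab X)) h inferInstance

end Groth.Agent.S0930
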