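import Groth.Statements.S0970
import Groth.Agent.Lib.Helper2.DualCx2
import Groth.Agent.Lib.Helper2.Resol3

set_option autoImplicit false
universe v u
open CategoryTheory
open CohDer

namespace Groth.Agent.S0970

/-- Let P be a class of objects in an abelian category containing a zero object and such that every
object is a quotient of an object in P. For a cochain complex K vanishing in degrees above a there
is a quasi-isomorphism Q ⟶ K, surjective in each degree, where Q has all terms in P and also
vanishes above degree a. -/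
theorem result {A : Type u} [Category.{v} A] [Abelian A] (P : A → Prop)
    (hP0 : ∃ Z : A, Limits.IsZero Z ∧ P Z) (hP : ∀ X : A, ∃ (Y : A) (π : Y ⟶ X), P Y ∧ Epi π)
    (K : CochainComplex A ℤ) (a : ℤ) [K.IsStrictlyLE a] :
    ∃ (Q : CochainComplex A ℤ) (α : Q ⟶ K), Q.IsStrictlyLE a ∧ (∀ n, P (Q.X n)) ∧ (∀ n, Epi (α.f n)) ∧ QuasiIso α := by
  open Groth.Agent.H2.DualCx Opposite in
  have hD : (D K).IsStrictlyGE (-a) := isStrictlyGE_D K a
  obtain ⟨Z, hZ, hPZ⟩ := hP0
  obtain ⟨L, β, hL, hLP, hβm, hβ⟩ := Groth.Agent.H2.Resol.exists_resolution (A := Aᵒᵖ)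
    (fun Y => P (unop Y)) (fun X => by
      obtain ⟨Y, π, hY, hπ⟩ := hP (unop X)
      exact ⟨op Y, π.op, hY, inferInstance⟩) (D K) (-a) ⟨op Z, hZ.op, hPZ⟩
  refine ⟨U L, Umap β ≫ (unitIso K).inv, ?_, ?_, ?_, ?_⟩
  · exact isStrictlyLE_U L a
  · intro n
    exact hLP (-n)
  · intro n
    rw [HomologicalComplex.comp_f]
    have := hβm (-n)
    have := epi_Umap_f β n
    infer_instance
  · have : QuasiIso (Umap β) := (quasiIso_Umap_iff β).2 hβ
    infer_instance

end Groth.Agent.S0970
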