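import Groth.Statements.S0984
import Groth.Agent.Lib.Helper2.Hopres2

set_option autoImplicit false
universe v u
open CategoryTheory
open DerLim

namespace Groth.Agent.S0984

open CategoryTheory.Limits CategoryTheory.Pretriangulated in
/-- Let D be a triangulated category with all small direct sums and E a small family of compact objects
which generates D. Every object X of D is a homotopy colimit of a sequential system X₀ → X₁ → X₂ → …
in which X₀ is a direct sum of shifts of members of E and each transition map Xₙ → Xₙ₊₁ sits in a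
distinguished triangle Yₙ → Xₙ → Xₙ₊₁ → Yₙ[1] with Yₙ a direct sum of shifts of members of E. -/
theorem result {D : Type u} [Category.{v} D] [Preadditive D] [Limits.HasZeroObject D] [HasShift D ℤ]
    [∀ n : ℤ, (shiftFunctor D n).Additive] [Pretriangulated D] [IsTriangulated D] [HasCoproducts.{v} D]
    [HasColimitsOfShape (Discrete ℕ) D]
    {ι : Type v} (E : ι → D) (hc : ∀ i, CohDer.IsCompactObject (E i)) (hg : CohDer.Generates E) (X : D) :
    ∃ (K : ℕ → D) (f : ∀ n, K n ⟶ K (n + 1)) (i : ∀ n, K n ⟶ X),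
      DerLim.IsHocolim K f X i ∧
      (∃ (κ : Type v) (a : κ → ι) (m : κ → ℤ), Nonempty (K 0 ≅ ∐ (fun k => (shiftFunctor D (m k)).obj (E (a k))))) ∧
      ∀ n, ∃ (κ : Type v) (a : κ → ι) (m : κ → ℤ) (y : (∐ fun k => (shiftFunctor D (m k)).obj (E (a k))) ⟶ K n)
        (z : K (n + 1) ⟶ (shiftFunctor D (1 : ℤ)).obj (∐ fun k => (shiftFunctor D (m k)).obj (E (a k)))),
        Triangle.mk y (f n) z ∈ distinguishedTriangles := by
  have h := Groth.Agent.H2.Brown.exists_hocolim_presentation
    (Ê := fun p : ι × ℤ => (shiftFunctor D p.2).obj (E p.1))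
    (fun X hX => by
      obtain ⟨i, n, f, hf⟩ := Groth.Agent.H2.Brown.detects_of_generates E hg X hX
      exact ⟨(i, n), f, hf⟩)
    (by
      rintro ⟨i, k⟩
      have hi : Groth.Agent.H2.Brown.Fact E (E i) :=
        Groth.Agent.H2.Brown.fact_of_isCompactObject E i (hc i)
      have := Groth.Agent.H2.Brown.Fact.map hi (shiftFunctor D k)
      exact Groth.Agent.H2.Brown.Fact.reindex (fun i' => (i', k)) (fun _ => rfl) this)
    (by
      rintro ⟨i, k⟩
      exact ⟨(i, k - 1), ⟨((shiftFunctorAdd' D (k - 1) 1 k (by omega)).app (E i)).symm⟩⟩) X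
  obtain ⟨K, f, i, hK, ⟨κ, c, ⟨e0⟩⟩, hstep⟩ := h
  refine ⟨K, f, i, hK, ⟨κ, fun k => (c k).1, fun k => (c k).2, ⟨e0⟩⟩, ?_⟩
  intro n
  obtain ⟨κ, c, y, z, hT⟩ := hstep n
  exact ⟨κ, fun k => (c k).1, fun k => (c k).2, y, z, hT⟩

end Groth.Agent.S0984
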