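import Groth.Statements.S10026
import Groth.Agent.Lib.Helper5.AlgSp.RelLPCalc

set_option autoImplicit false
universe u
open CategoryTheory CategoryTheory.Limits AlgebraicGeometry
open AlgSp

namespace Groth.Agent.S10026

/-- Let `a : F ⟶ G`, `b : G ⟶ H` be transformations of presheaves of sets on schemes over `S`. If `a ≫
b` and `b` are relatively limit preserving, then so is `a`. -/
theorem result (S : Scheme.{u}) {F G H : AlgSp.PSp S} (a : F ⟶ G) (b : G ⟶ H)
    (hab : AlgSp.IsRelLimitPreserving (a ≫ b)) (hb : AlgSp.IsRelLimitPreserving b) :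
    AlgSp.IsRelLimitPreserving a := by
  refine Groth.Agent.H5.RelLP.isRelLimitPreserving_of_cartAt _ ?_
  intro I _ _ D c hc hD hT
  exact (Groth.Agent.H5.RelLP.cartAt_of_isRelLimitPreserving _ hab D c hc hD hT).of_comp
    (Groth.Agent.H5.RelLP.cartAt_of_isRelLimitPreserving b hb D c hc hD hT)

end Groth.Agent.S10026
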