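import Groth.Statements.S10114
import Groth.Agent.Lib.Helper8.AlgSp.Quot
-- import your own Groth.Agent.* helpers here

set_option autoImplicit false
universe u
open CategoryTheory CategoryTheory.Limits AlgebraicGeometry
open AlgSp

namespace Groth.Agent.S10114

/-- Let `s, t : R ⟶ U` be a pre-equivalence relation of algebraic spaces, `g : U' ⟶ U` a morphism of
algebraic spaces and `s', t' : R' ⟶ U'` the restriction of the pre-relation along `g` (so `R' = (U'
× U') ×_{U × U} R`). Then the induced map of quotient sheaves `U'/R' ⟶ U/R` is injective, and it is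
an isomorphism when `g` is a surjection of sheaves. -/
theorem result (S : Scheme.{u}) (R U R' U' : AlgSp.Sp S)
    (hR : AlgSp.IsAlgSpace R) (hU : AlgSp.IsAlgSpace U) (hR' : AlgSp.IsAlgSpace R') (hU' : AlgSp.IsAlgSpace U')
    (s t : R ⟶ U) (hpre : AlgSp.IsPreEqvRelSp s t) (g : U' ⟶ U) (s' t' : R' ⟶ U') (r : R' ⟶ R)
    (hsq : IsPullback (prod.lift t' s') r (prod.map g g) (prod.lift t s))
    (ψ : AlgSp.quotSp s' t' ⟶ AlgSp.quotSp s t) (hψ : AlgSp.quotSpπ s' t' ≫ ψ = g ≫ AlgSp.quotSpπ s t) :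
    Mono ψ ∧ (Epi g → IsIso ψ) := by
  open Groth.Agent.H8.AlgSp Groth.Agent.H5.AlgSp in
  have hmono : Mono ψ := by
    apply mono_of_yon
    intro T x y hxy
    apply yon_hom_ext_of_mem_J ((J S).intersection_covering (liftSieve_quotSpπ_mem s' t' x)
      (liftSieve_quotSpπ_mem s' t' y))
    rintro T' k ⟨⟨a, ha⟩, ⟨b, hb⟩⟩
    have hab : (a ≫ g) ≫ AlgSp.quotSpπ s t = (b ≫ g) ≫ AlgSp.quotSpπ s t := by
      rw [Category.assoc, Category.assoc, ← hψ, ← Category.assoc, ← Category.assoc, ha, hb,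
        Category.assoc, Category.assoc, hxy]
    rw [← ha, ← hb]
    apply eq_of_relSieve_mem
    refine (J S).superset_covering ?_ (relSieve_mem s t hpre _ _ hab)
    rintro T'' l ⟨ρ, h1, h2⟩
    have hcomp : prod.lift ((yon S).map l ≫ a) ((yon S).map l ≫ b) ≫ prod.map g g =
        ρ ≫ prod.lift t s := by
      apply Limits.prod.hom_ext
      · simp only [Category.assoc, prod.map_fst, prod.lift_fst, prod.lift_fst_assoc, h1]
      · simp only [Category.assoc, prod.map_snd, prod.lift_snd, prod.lift_snd_assoc, h2]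
    refine ⟨hsq.lift _ _ hcomp, ?_, ?_⟩
    · have h3 := congrArg (· ≫ prod.fst) (hsq.lift_fst _ _ hcomp)
      simpa only [Category.assoc, prod.lift_fst] using h3
    · have h3 := congrArg (· ≫ prod.snd) (hsq.lift_fst _ _ hcomp)
      simpa only [Category.assoc, prod.lift_snd] using h3
  refine ⟨hmono, fun hg => ?_⟩
  have h1 : Epi (g ≫ AlgSp.quotSpπ s t) := epi_comp _ _
  rw [← hψ] at h1
  have h2 : Epi ψ := epi_of_epi (AlgSp.quotSpπ s' t') ψ
  exact isIso_of_mono_of_epi ψ

end Groth.Agent.S10114
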