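import Groth.Statements.S10116
import Groth.Agent.Lib.Helper8.GrpObjSq
import Groth.Agent.Lib.Helper5.AlgSp.RelDiag
import Groth.Agent.Lib.Helper5.AlgSp.QCompact
-- import your own Groth.Agent.* helpers here

set_option autoImplicit false
universe u
open CategoryTheory CategoryTheory.Limits AlgebraicGeometry MonoidalCategory MonObj
open AlgSp

namespace Groth.Agent.S10116

/-- Let `G` be a group algebraic space over an algebraic space `B` with unit `e : B ⟶ G`. Then `G ⟶ B`
is separated if and only if `e` is a closed immersion, quasi-separated if and only if `e` is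
quasi-compact, and if `G ⟶ B` is locally separated then `e` is an immersion. (The published
statement makes the last part an equivalence as well; this row states only that a locally separated
`G ⟶ B` has `e` an immersion.) -/
theorem result (S : Scheme.{u}) (B : AlgSp.Sp S) (hB : AlgSp.IsAlgSpace B)
    (G : Over B) [GrpObj G] (hG : AlgSp.IsAlgSpace G.left) :
    (AlgSp.IsSeparatedMor G.hom ↔ AlgSp.RepWith @IsClosedImmersion (η[G]).left) ∧
      (AlgSp.IsQuasiSeparatedMor G.hom ↔ AlgSp.IsQuasiCompactMor (η[G]).left) ∧
      (AlgSp.IsLocallySeparatedMor G.hom → AlgSp.RepWith @IsImmersion (η[G]).left) := by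
  open Groth.Agent.H8.GrpObjSq Groth.Agent.H5.AlgSp in
  have sq1 := (isPullback_diag_unit G).map (Over.forget B)
  have sq2 := (isPullback_unit_diag G).map (Over.forget B)
  have hΔ : (Over.forget B).map (CartesianMonoidalCategory.lift (𝟙 G) (𝟙 G)) = pullback.diagonal G.hom := rfl
  rw [hΔ] at sq1 sq2
  have hη : (Over.forget B).map η[G] = (η[G]).left := rfl
  rw [hη] at sq1 sq2
  have hrepΔ := (repWith_relDiag_of_isAlgSpace hG G.hom).1
  have hrepη : AlgSp.Representable (η[G]).left :=
    MorphismProperty.of_isPullback (P := AlgSp.Representable) sq2 hrepΔ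
  have key : ∀ P : MorphismProperty Scheme.{u},
      AlgSp.RepWith P (pullback.diagonal G.hom) ↔ AlgSp.RepWith P (η[G]).left := by
    intro P
    constructor
    · intro h
      exact MorphismProperty.of_isPullback (P := AlgSp.RepWith P) sq2 h
    · intro h
      exact MorphismProperty.of_isPullback (P := AlgSp.RepWith P) sq1.flip h
  refine ⟨key _, ?_, fun h => (key _).mp h⟩
  exact (key _).trans (repWith_quasiCompact_iff hrepη)

end Groth.Agent.S10116
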