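import Groth.Statements.S10121
import Groth.Agent.Lib.Helper5.AlgSp.Basic
import Groth.Prelude.Def_AlgSp2
-- import your own Groth.Agent.* helpers here

set_option autoImplicit false
universe u
open CategoryTheory CategoryTheory.Limits AlgebraicGeometry
open AlgSp

namespace Groth.Agent.S10121

/-- For a pre-equivalence relation `s, t : R ⟶ U` of algebraic spaces, the relation on points of `U`
given by `x ∼ y` when some point `r` of `R` has `t(r) = x` and `s(r) = y` is an equivalence relation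
on `|U|`. -/
theorem result (S : Scheme.{u}) (R U : AlgSp.Sp S)
    (hR : AlgSp.IsAlgSpace R) (hU : AlgSp.IsAlgSpace U) (s t : R ⟶ U) (h : AlgSp.IsPreEqvRelSp s t) :
    _root_.Equivalence (fun x y : AlgSp.Points U =>
      ∃ r : AlgSp.Points R, AlgSp.Points.map t r = x ∧ AlgSp.Points.map s r = y) := by
  open Groth.Agent.H5.AlgSp in
  refine ⟨?_, ?_, ?_⟩
  · intro x
    induction x using AlgSp.Points.ind with
    | h p =>
      obtain ⟨ρ, h1, h2⟩ := (h p.pt).refl ((yEquiv U p.pt).symm p.val)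
      refine ⟨AlgSp.Points.mk ⟨p.K, p.str, yEquiv R p.pt ρ⟩, ?_, ?_⟩
      · rw [AlgSp.Points.map_mk]
        congr 1
        change (⟨p.K, p.str, t.hom.app _ (yEquiv R p.pt ρ)⟩ : AlgSp.FieldPt U) = p
        rw [← yEquiv_comp, h1, Equiv.apply_symm_apply]
        rfl
      · rw [AlgSp.Points.map_mk]
        congr 1
        change (⟨p.K, p.str, s.hom.app _ (yEquiv R p.pt ρ)⟩ : AlgSp.FieldPt U) = p
        rw [← yEquiv_comp, h2, Equiv.apply_symm_apply]
        rfl
  · rintro x y ⟨r, rfl, rfl⟩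
    induction r using AlgSp.Points.ind with
    | h q =>
      obtain ⟨ρ', h1, h2⟩ := (h q.pt).symm ⟨(yEquiv R q.pt).symm q.val, rfl, rfl⟩
      refine ⟨AlgSp.Points.mk ⟨q.K, q.str, yEquiv R q.pt ρ'⟩, ?_, ?_⟩
      · rw [AlgSp.Points.map_mk, AlgSp.Points.map_mk]
        congr 1
        change (⟨q.K, q.str, t.hom.app _ (yEquiv R q.pt ρ')⟩ : AlgSp.FieldPt U) =
          ⟨q.K, q.str, s.hom.app _ q.val⟩
        rw [← yEquiv_comp, h1, yEquiv_comp, Equiv.apply_symm_apply]
      · rw [AlgSp.Points.map_mk, AlgSp.Points.map_mk]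
        congr 1
        change (⟨q.K, q.str, s.hom.app _ (yEquiv R q.pt ρ')⟩ : AlgSp.FieldPt U) =
          ⟨q.K, q.str, t.hom.app _ q.val⟩
        rw [← yEquiv_comp, h2, yEquiv_comp, Equiv.apply_symm_apply]
  · rintro x y z ⟨r₁, rfl, h1⟩ ⟨r₂, h2, rfl⟩
    induction r₁ using AlgSp.Points.ind with
    | h q₁ =>
    induction r₂ using AlgSp.Points.ind with
    | h q₂ =>
      have hrel := h1.trans h2.symm
      rw [AlgSp.Points.map_mk, AlgSp.Points.map_mk, AlgSp.Points.mk_eq_mk_iff] at hrel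
      obtain ⟨Ω, _, w, a, b, hab⟩ := hrel
      have hab' : U.obj.map a.op (s.hom.app _ q₁.val) = U.obj.map b.op (t.hom.app _ q₂.val) := hab
      have hs : (yEquiv R (Over.mk w)).symm (R.obj.map a.op q₁.val) ≫ s =
          (yEquiv R (Over.mk w)).symm (R.obj.map b.op q₂.val) ≫ t := by
        apply (yEquiv U (Over.mk w)).injective
        rw [yEquiv_comp, yEquiv_comp, Equiv.apply_symm_apply, Equiv.apply_symm_apply,
          NatTrans.naturality_apply, NatTrans.naturality_apply, hab']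
      obtain ⟨ρ, hρ1, hρ2⟩ := (h (Over.mk w)).trans
        ⟨(yEquiv R (Over.mk w)).symm (R.obj.map a.op q₁.val), rfl, rfl⟩
        ⟨(yEquiv R (Over.mk w)).symm (R.obj.map b.op q₂.val), hs.symm, rfl⟩
      refine ⟨AlgSp.Points.mk ⟨Ω, w, yEquiv R (Over.mk w) ρ⟩, ?_, ?_⟩
      · rw [AlgSp.Points.map_mk, AlgSp.Points.map_mk]
        apply AlgSp.Points.sound
        refine ⟨Ω, inferInstance, w, 𝟙 _, a, ?_⟩
        change U.obj.map (𝟙 _) (t.hom.app _ (yEquiv R (Over.mk w) ρ)) = U.obj.map a.op (t.hom.app _ q₁.val)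
        rw [← yEquiv_comp, hρ1, yEquiv_comp, Equiv.apply_symm_apply, NatTrans.naturality_apply]
        simp
      · rw [AlgSp.Points.map_mk, AlgSp.Points.map_mk]
        apply AlgSp.Points.sound
        refine ⟨Ω, inferInstance, w, 𝟙 _, b, ?_⟩
        change U.obj.map (𝟙 _) (s.hom.app _ (yEquiv R (Over.mk w) ρ)) = U.obj.map b.op (s.hom.app _ q₂.val)
        rw [← yEquiv_comp, hρ2, yEquiv_comp, Equiv.apply_symm_apply, NatTrans.naturality_apply]
        simp

end Groth.Agent.S10121
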