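import Groth.Statements.S10126
import Groth.Agent.Lib.Helper8.AlgSp.Gpd
import Groth.Agent.Lib.Helper8.AlgSp.OverField
-- import your own Groth.Agent.* helpers here

set_option autoImplicit false
universe u
open CategoryTheory CategoryTheory.Limits AlgebraicGeometry
open AlgSp AlgSp.GroupoidSp

namespace Groth.Agent.S10126

/-- Let `(U, R, s, t, c)` be a groupoid in algebraic spaces over `B` whose object space is `U = Spec k`,
with `k` a field. Then the composition `c : R ×_{s, U, t} R ⟶ R` is flat and universally open. -/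
theorem result (S : Scheme.{u}) (B : AlgSp.Sp S) (hB : AlgSp.IsAlgSpace B)
    (G : AlgSp.GroupoidSp B) (hR : AlgSp.IsAlgSpace G.R) (k : Type u) [Field k]
    (σ : Spec (CommRingCat.of k) ⟶ S) (eU : G.U ≅ (AlgSp.yon S).obj (Over.mk σ)) :
    AlgSp.LocP @Flat G.c ∧ AlgSp.IsUnivOpenMor G.c := by
  open Groth.Agent.H8.AlgSp Groth.Agent.H5.AlgSp in
  have hU : IsAlgSpace G.U := isAlgSpace_of_iso eU (IsAlgSpace.yon_obj _)
  have : IsIntegral (Over.mk σ).left := by
    change IsIntegral (Spec (CommRingCat.of k)); infer_instance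
  have : Subsingleton (Over.mk σ).left := by
    change Subsingleton (Spec (CommRingCat.of k)); infer_instance
  have sq1 : IsPullback G.c (pullback.snd G.s G.t) G.s G.s := GroupoidSp.isPullback_c_snd G
  have sq2 : IsPullback (𝟙 G.R) G.s (G.s ≫ eU.hom) eU.hom :=
    IsPullback.of_horiz_isIso ⟨by simp⟩
  have sq3 := (sq1.paste_horiz sq2).flip
  rw [Category.comp_id] at sq3
  exact flat_univOpen_of_isPullback_field hR hR sq3

end Groth.Agent.S10126
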