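import Groth.Statements.S10130
import Groth.Agent.S10121
import Groth.Agent.Lib.Helper5.AlgSp.OpenSub
import Groth.Agent.Lib.Helper8.AlgSp.Gpd
-- import your own Groth.Agent.* helpers here

set_option autoImplicit false
universe u
open CategoryTheory CategoryTheory.Limits AlgebraicGeometry
open AlgSp AlgSp.GroupoidSp

namespace Groth.Agent.S10130

/-- Let `(U, R, s, t, c)` be a groupoid in algebraic spaces over `B` with `s, t` open. For every open
subspace `W ⊂ U`, the open subspace `s(t⁻¹(W))` of `U` is `R`-invariant. -/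
theorem result (S : Scheme.{u}) (B : AlgSp.Sp S) (hB : AlgSp.IsAlgSpace B)
    (G : AlgSp.GroupoidSp B) (hU : AlgSp.IsAlgSpace G.U) (hR : AlgSp.IsAlgSpace G.R)
    (hs : AlgSp.IsOpenMor G.s) (ht : AlgSp.IsOpenMor G.t)
    (W W' : AlgSp.Sp S) (w : W ⟶ G.U) (w' : W' ⟶ G.U)
    (hw : AlgSp.RepWith @IsOpenImmersion w) (hw' : AlgSp.RepWith @IsOpenImmersion w')
    (himg : Set.range (AlgSp.Points.map w') =
      AlgSp.Points.map G.s '' (AlgSp.Points.map G.t ⁻¹' Set.range (AlgSp.Points.map w))) :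
    G.IsInvariant w' := by
  open Groth.Agent.H8.AlgSp Groth.Agent.H5.AlgSp in
  have heq := Groth.Agent.S10121.result S G.R G.U hR hU G.s G.t (GroupoidSp.isPreEqvRelSp G)
  -- saturation of the image set
  have hsat : ∀ ρ : AlgSp.Points G.R,
      AlgSp.Points.map G.t ρ ∈ Set.range (AlgSp.Points.map w') ↔
        AlgSp.Points.map G.s ρ ∈ Set.range (AlgSp.Points.map w') := by
    intro ρ
    rw [himg]
    constructor
    · rintro ⟨ρ', hρ', hs'⟩
      -- s ρ' = t ρ, t ρ' ∈ W ; want s ρ ∈ s(t⁻¹ W): t ρ' ~ s ρ' = t ρ ~ s ρ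
      obtain ⟨ρ'', h1, h2⟩ := heq.trans ⟨ρ', rfl, hs'⟩ ⟨ρ, rfl, rfl⟩
      exact ⟨ρ'', by rw [Set.mem_preimage, h1]; exact hρ', h2⟩
    · rintro ⟨ρ', hρ', hs'⟩
      -- s ρ' = s ρ ; t ρ' ∈ W; want t ρ ∈ s(t⁻¹ W): t ρ' ~ s ρ' = s ρ ~ t ρ
      obtain ⟨ρ'', h1, h2⟩ := heq.trans ⟨ρ', rfl, hs'⟩ (heq.symm ⟨ρ, rfl, rfl⟩)
      exact ⟨ρ'', by rw [Set.mem_preimage, h1]; exact hρ', h2⟩
  intro T r
  rw [factors_through_open_iff w' hw' (r ≫ G.t), factors_through_open_iff w' hw' (r ≫ G.s)]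
  constructor
  · rintro h _ ⟨x, rfl⟩
    rw [AlgSp.Points.map_comp, ← hsat, ← AlgSp.Points.map_comp]
    exact h ⟨x, rfl⟩
  · rintro h _ ⟨x, rfl⟩
    rw [AlgSp.Points.map_comp, hsat, ← AlgSp.Points.map_comp]
    exact h ⟨x, rfl⟩

end Groth.Agent.S10130
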