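import Groth.Statements.S10131
import Groth.Agent.S10130
import Groth.Agent.Lib.Helper5.AlgSp.OpenSubspace
import Groth.Agent.Lib.Helper5.AlgSp.ImmersionTop
import Groth.Agent.Lib.Helper5.AlgSp.PointsTop
import Groth.Agent.Lib.Helper5.AlgSp.FibreProduct
-- import your own Groth.Agent.* helpers here

set_option autoImplicit false
universe u
open CategoryTheory CategoryTheory.Limits AlgebraicGeometry
open AlgSp AlgSp.GroupoidSp

namespace Groth.Agent.S10131

/-- Let `(U, R, s, t, c)` be a groupoid in algebraic spaces over `B` with `s, t` open and quasi-compact.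
Then `U` has an open covering by `R`-invariant quasi-compact open subspaces. -/
theorem result (S : Scheme.{u}) (B : AlgSp.Sp S) (hB : AlgSp.IsAlgSpace B)
    (G : AlgSp.GroupoidSp B) (hU : AlgSp.IsAlgSpace G.U) (hR : AlgSp.IsAlgSpace G.R)
    (hs : AlgSp.IsOpenMor G.s ∧ AlgSp.IsQuasiCompactMor G.s) (ht : AlgSp.IsOpenMor G.t ∧ AlgSp.IsQuasiCompactMor G.t)
    (x : AlgSp.Points G.U) :
    ∃ (W : AlgSp.Sp S) (w : W ⟶ G.U), AlgSp.RepWith @IsOpenImmersion w ∧ G.IsInvariant w ∧
      AlgSp.IsQuasiCompactSp W ∧ x ∈ Set.range (AlgSp.Points.map w) := by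
  open Groth.Agent.H5.AlgSp in
  -- compactness of points of an open subspace
  have key : ∀ {W : Set (Points G.U)}, IsOpen W → IsCompact W →
      IsQuasiCompactSp (openSub G.U W) := by
    intro W hW hc
    rw [isQuasiCompactSp_iff_compactSpace (isAlgSpace_openSub hU hW)]
    have hemb : Topology.IsOpenEmbedding (Points.map (openSubι G.U W)) :=
      Topology.IsOpenEmbedding.of_continuous_injective_isOpenMap (Points.continuous_map _)
        (points_map_injective_of_mono _)
        (isOpenMap_points_map_of_repWith (P := @IsOpenImmersion) (fun f hf => by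
          have : IsOpenImmersion f := hf
          exact f.isOpenEmbedding.isOpenMap) (repWith_openSubι hW))
    refine ⟨?_⟩
    rw [hemb.isInducing.isCompact_iff, Set.image_univ, range_points_map_openSubι]
    exact hc
  obtain ⟨A, a, hae, has⟩ := hU.atlas
  obtain ⟨u, rfl⟩ := ofPt_surjective_of_repWith has x
  obtain ⟨V, hV, huV⟩ : ∃ V : A.left.Opens, IsAffineOpen V ∧ u ∈ V := by
    obtain ⟨V, hV, huV, -⟩ := (A.left.isBasis_affineOpens).exists_subset_of_mem_open
      (Set.mem_univ u) isOpen_univ
    obtain ⟨V', hV', rfl⟩ := hV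
    exact ⟨V', hV', huV⟩
  set W₀ : Set (Points G.U) := Points.ofPt a '' (V : Set A.left) with hW₀
  have hW₀o : IsOpen W₀ := isOpenMap_ofPt_of_etale hae _ V.2
  have hW₀c : IsCompact W₀ := hV.isCompact.image (Points.continuous_ofPt a)
  have hxW₀ : Points.ofPt a u ∈ W₀ := ⟨u, huV, rfl⟩
  set W' : Set (Points G.U) := Points.map G.s '' (Points.map G.t ⁻¹' W₀) with hW'
  have hW'o : IsOpen W' := hs.1 _ (hW₀o.preimage (Points.continuous_map G.t))
  -- `t⁻¹(W₀)` as a sheaf
  have hZ : IsAlgSpace (openSub G.U W₀) := isAlgSpace_openSub hU hW₀o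
  have sq := IsPullback.of_hasPullback G.t (openSubι G.U W₀)
  have hZ' : IsAlgSpace (pullback G.t (openSubι G.U W₀)) := isAlgSpace_pullback hU.diag hR hZ sq
  have hqc : IsQuasiCompactSp (pullback G.t (openSubι G.U W₀)) :=
    ht.2 hZ (key hW₀o hW₀c) _ _ _ sq
  rw [isQuasiCompactSp_iff_compactSpace hZ'] at hqc
  have hW'eq : W' = Set.range (Points.map (pullback.fst G.t (openSubι G.U W₀) ≫ G.s)) := by
    ext y
    constructor
    · rintro ⟨ρ, hρ, rfl⟩
      rw [Set.mem_preimage, ← range_points_map_openSubι W₀] at hρ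
      obtain ⟨z, hz⟩ := hρ
      obtain ⟨p, hp1, -⟩ := points_pullback_surjective sq ρ z hz.symm
      exact ⟨p, by rw [Points.map_comp, hp1]⟩
    · rintro ⟨p, rfl⟩
      refine ⟨Points.map (pullback.fst G.t (openSubι G.U W₀)) p, ?_, (Points.map_comp _ _ _).symm⟩
      rw [Set.mem_preimage, ← Points.map_comp, pullback.condition, Points.map_comp]
      have : Points.map (openSubι G.U W₀) (Points.map (pullback.snd G.t (openSubι G.U W₀)) p) ∈
          Set.range (Points.map (openSubι G.U W₀)) := ⟨_, rfl⟩
      rwa [range_points_map_openSubι W₀] at this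
  have hW'c : IsCompact W' := by
    rw [hW'eq]
    exact isCompact_range (Points.continuous_map _)
  refine ⟨openSub G.U W', openSubι G.U W', repWith_openSubι hW'o, ?_, key hW'o hW'c, ?_⟩
  · refine Groth.Agent.S10130.result S B hB G hU hR hs.1 ht.1 (openSub G.U W₀) (openSub G.U W')
      (openSubι G.U W₀) (openSubι G.U W') (repWith_openSubι hW₀o) (repWith_openSubι hW'o) ?_
    rw [range_points_map_openSubι, range_points_map_openSubι]
  · rw [range_points_map_openSubι]
    refine ⟨Points.map G.e (Points.ofPt a u), ?_, ?_⟩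
    · rw [Set.mem_preimage, ← Points.map_comp, G.e_t, Points.map_id]
      exact hxW₀
    · rw [← Points.map_comp, G.e_s, Points.map_id]

end Groth.Agent.S10131
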