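import Groth.Statements.S10132
import Groth.Agent.Lib.Helper8.AlgSp.Gpd
import Groth.Agent.Lib.Helper8.AlgSp.MorCalc
import Groth.Agent.Lib.Helper8.AlgSp.RestrictLocP
-- import your own Groth.Agent.* helpers here

set_option autoImplicit false
universe u
open CategoryTheory CategoryTheory.Limits AlgebraicGeometry
open AlgSp AlgSp.GroupoidSp

namespace Groth.Agent.S10132

/-- Let `(U, R, s, t, c)` be a groupoid in algebraic spaces over `B` whose object space is `U = Spec k`,
let `k ⊂ k'` be a field extension and `(U', R', s', t', c')` the restriction along `Spec k' ⟶ Spec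
k`. Then `s, t, s', t'`, `Spec k' ⟶ Spec k` and `R' ⟶ R` are surjective, flat and universally open,
and `R' ⟶ R` is moreover affine. (The published statement lists every arrow of the restriction
diagram; this row omits the six arrows through `R ×_{s,U} U'` and `U' ×_{U,t} R`, each a base change
of `s`, `t` or `Spec k' ⟶ Spec k`.) -/
theorem result (S : Scheme.{u}) (B : AlgSp.Sp S) (hB : AlgSp.IsAlgSpace B)
    (G G' : AlgSp.GroupoidSp B) (hR : AlgSp.IsAlgSpace G.R) (hR' : AlgSp.IsAlgSpace G'.R)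
    (k k' : Type u) [Field k] [Field k'] [Algebra k k'] (σ : Spec (CommRingCat.of k) ⟶ S)
    (eU : G.U ≅ ((AlgSp.yon S).obj (Over.mk σ)))
    (eU' : G'.U ≅ ((AlgSp.yon S).obj (Over.mk (Spec.map (CommRingCat.ofHom (algebraMap k k')) ≫ σ))))
    (φ : AlgSp.GroupoidSp.Hom G' G) (hφ : φ.IsRestriction)
    (hfU : φ.fU = eU'.hom ≫ (AlgSp.yon S).map (Over.homMk (Spec.map (CommRingCat.ofHom (algebraMap k k'))) rfl :
      Over.mk (Spec.map (CommRingCat.ofHom (algebraMap k k')) ≫ σ) ⟶ Over.mk σ) ≫ eU.inv) :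
    (∀ f ∈ [G.s, G.t], AlgSp.IsSurjectiveMor f ∧ AlgSp.LocP @Flat f ∧ AlgSp.IsUnivOpenMor f) ∧
      (∀ f ∈ [G'.s, G'.t], AlgSp.IsSurjectiveMor f ∧ AlgSp.LocP @Flat f ∧ AlgSp.IsUnivOpenMor f) ∧
      (AlgSp.IsSurjectiveMor φ.fU ∧ AlgSp.LocP @Flat φ.fU ∧ AlgSp.IsUnivOpenMor φ.fU) ∧
      (AlgSp.IsSurjectiveMor φ.fR ∧ AlgSp.LocP @Flat φ.fR ∧ AlgSp.IsUnivOpenMor φ.fR ∧ AlgSp.IsAffineMor φ.fR) := by
  open Groth.Agent.H8.AlgSp Groth.Agent.H5.AlgSp in
  have hU : IsAlgSpace G.U := isAlgSpace_of_iso eU (IsAlgSpace.yon_obj _)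
  have hU' : IsAlgSpace G'.U := isAlgSpace_of_iso eU' (IsAlgSpace.yon_obj _)
  have i1 : IsIntegral (Over.mk σ).left := by
    change IsIntegral (Spec (CommRingCat.of k)); infer_instance
  have i2 : Subsingleton (Over.mk σ).left := by
    change Subsingleton (Spec (CommRingCat.of k)); infer_instance
  have i3 : IsIntegral (Over.mk (Spec.map (CommRingCat.ofHom (algebraMap k k')) ≫ σ)).left := by
    change IsIntegral (Spec (CommRingCat.of k')); infer_instance
  have i4 : Subsingleton (Over.mk (Spec.map (CommRingCat.ofHom (algebraMap k k')) ≫ σ)).left := by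
    change Subsingleton (Spec (CommRingCat.of k')); infer_instance
  -- properties of `fU`
  have hm1 : Surjective (Spec.map (CommRingCat.ofHom (algebraMap k k'))) :=
    ⟨fun x => ⟨Classical.arbitrary _, Subsingleton.elim _ _⟩⟩
  have hfUs : IsSurjectiveMor φ.fU := by
    rw [hfU]
    refine isSurjectiveMor_comp (isSurjectiveMor_of_isIso _)
      (isSurjectiveMor_comp ?_ (isSurjectiveMor_of_isIso _))
    exact points_map_surjective_of_repWith ((repWith_yon_map_iff @Surjective _).2 hm1)
  have hfUa : IsAffineMor φ.fU := by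
    rw [hfU]
    refine isAffineMor_comp (isAffineMor_of_isIso _)
      (isAffineMor_comp ?_ (isAffineMor_of_isIso _))
    refine isAffineMor_of_repWith ((repWith_yon_map_iff @IsAffineHom _).2 ?_)
    change IsAffineHom (Spec.map (CommRingCat.ofHom (algebraMap k k')))
    infer_instance
  refine ⟨?_, ?_, ?_, ?_⟩
  · intro f hf
    simp only [List.mem_cons, List.not_mem_nil, or_false] at hf
    rcases hf with rfl | rfl
    · exact ⟨isSurjectiveMor_of_section G.e_s, flat_univOpen_of_iso_field hR eU _⟩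
    · exact ⟨isSurjectiveMor_of_section G.e_t, flat_univOpen_of_iso_field hR eU _⟩
  · intro f hf
    simp only [List.mem_cons, List.not_mem_nil, or_false] at hf
    rcases hf with rfl | rfl
    · exact ⟨isSurjectiveMor_of_section G'.e_s, flat_univOpen_of_iso_field hR' eU' _⟩
    · exact ⟨isSurjectiveMor_of_section G'.e_t, flat_univOpen_of_iso_field hR' eU' _⟩
  · exact ⟨hfUs, flat_univOpen_of_iso_field hU' eU _⟩
  · have hX : IsAlgSpace (pullback G.s φ.fU) :=
      isAlgSpace_pullback hU.diag hR hU' (IsPullback.of_hasPullback G.s φ.fU)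
    have sq1 := (isPullback_restrict_s φ hφ).flip
    have sq2 := (IsPullback.of_hasPullback G.s φ.fU).flip
    have hfR : φ.fR = pullback.lift φ.fR G'.s φ.comm_s ≫ pullback.fst G.s φ.fU := by
      rw [pullback.lift_fst]
    have a1 := flat_univOpen_of_isPullback_iso_field hU' hX eU sq1
    have a2 := flat_univOpen_of_isPullback_iso_field hU' hR eU sq2
    rw [hfR]
    refine ⟨isSurjectiveMor_comp (isSurjectiveMor_baseChange sq1 hfUs)
        (isSurjectiveMor_baseChange sq2 hfUs), ?_, isUnivOpenMor_comp hX hR a1.2 a2.2,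
      isAffineMor_comp (isAffineMor_of_isPullback sq1 hfUa) (isAffineMor_of_isPullback sq2 hfUa)⟩
    exact locP_comp (P := @Flat) (fun _ _ g hg => by
        have : Etale g := hg
        infer_instance) hR' hX hR a1.1 a2.1

end Groth.Agent.S10132
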