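import Groth.Statements.S10146
import Groth.Agent.Lib.Helper8.AlgSp.RestrictLocP
import Groth.Agent.Lib.Helper8.AlgClosedIso
import Groth.Agent.Lib.Helper5.AlgSp.Points
-- import your own Groth.Agent.* helpers here

set_option autoImplicit false
universe u
open CategoryTheory CategoryTheory.Limits AlgebraicGeometry
open AlgSp AlgSp.GroupoidSp

namespace Groth.Agent.S10146

/-- Let `(U, R, s, t, c)` be a groupoid in algebraic spaces over `B` whose object space is `U = Spec k`.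
For every point `r` of `R` there are an algebraically closed field extension `k'` of `k` and, on the
restriction `(U', R', s', t', c')` along `Spec k' ⟶ Spec k`, a morphism `r' : Spec k' ⟶ R'` mapping
to `r` in `R` such that `s' ∘ r'` and `t' ∘ r'` are automorphisms of `Spec k'`. -/
theorem result (S : Scheme.{u}) (B : AlgSp.Sp S) (hB : AlgSp.IsAlgSpace B)
    (G : AlgSp.GroupoidSp B) (hR : AlgSp.IsAlgSpace G.R) (k : Type u) [Field k]
    (σ : Spec (CommRingCat.of k) ⟶ S) (eU : G.U ≅ (AlgSp.yon S).obj (Over.mk σ)) (r : AlgSp.Points G.R) :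
    ∃ (k' : Type u) (_ : Field k') (_ : Algebra k k'), IsAlgClosed k' ∧
      ∀ (G' : AlgSp.GroupoidSp B) (φ : AlgSp.GroupoidSp.Hom G' G), φ.IsRestriction → AlgSp.IsAlgSpace G'.R →
        ∀ (eU' : G'.U ≅ (AlgSp.yon S).obj (Over.mk (Spec.map (CommRingCat.ofHom (algebraMap k k')) ≫ σ))),
          φ.fU = eU'.hom ≫ (AlgSp.yon S).map (Over.homMk (Spec.map (CommRingCat.ofHom (algebraMap k k'))) rfl :
            Over.mk (Spec.map (CommRingCat.ofHom (algebraMap k k')) ≫ σ) ⟶ Over.mk σ) ≫ eU.inv →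
          ∃ r' : G'.U ⟶ G'.R, (∀ x : AlgSp.Points G'.U, AlgSp.Points.map (r' ≫ φ.fR) x = r) ∧
            IsIso (r' ≫ G'.s) ∧ IsIso (r' ≫ G'.t) := by
  open Groth.Agent.H8.AlgSp Groth.Agent.H5.AlgSp Groth.Agent.H8.AlgClosedIso Cardinal in
  obtain ⟨K, _, str, ξ, rfl⟩ := exists_fpOfHom r
  obtain ⟨ms, hms⟩ := (yon S).map_surjective (ξ ≫ G.s ≫ eU.hom)
  obtain ⟨mt, hmt⟩ := (yon S).map_surjective (ξ ≫ G.t ≫ eU.hom)
  have hws : ms.left ≫ σ = str := Over.w ms
  have hwt : mt.left ≫ σ = str := Over.w mt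
  obtain ⟨σs, hσs⟩ : ∃ f : k →+* K, Spec.map (CommRingCat.ofHom f) = ms.left :=
    ⟨(Spec.preimage ms.left).hom, Spec.map_preimage _⟩
  obtain ⟨σt, hσt⟩ : ∃ f : k →+* K, Spec.map (CommRingCat.ofHom f) = mt.left :=
    ⟨(Spec.preimage mt.left).hom, Spec.map_preimage _⟩
  obtain ⟨Ω, _, _, ρ, hK, hΩ⟩ := exists_big_algClosed K
  have hk : #k < #Ω := (Cardinal.mk_le_of_injective σs.injective).trans_lt hK
  obtain ⟨α, hα⟩ := exists_ringEquiv_comp (ρ.comp σt) (ρ.comp σs) hk hΩ
  refine ⟨Ω, inferInstance, (ρ.comp σt).toAlgebra, inferInstance, ?_⟩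
  intro G' φ hφ hR' eU' hfU
  let _ : Algebra k Ω := (ρ.comp σt).toAlgebra
  have halg : Spec.map (CommRingCat.ofHom (algebraMap k Ω)) =
      Spec.map (CommRingCat.ofHom ρ) ≫ mt.left := by
    rw [← hσt, ← Spec.map_comp]; rfl
  have hαs : Spec.map (CommRingCat.ofHom (α : Ω →+* Ω)) ≫
      Spec.map (CommRingCat.ofHom (algebraMap k Ω)) = Spec.map (CommRingCat.ofHom ρ) ≫ ms.left := by
    rw [← hσs, ← Spec.map_comp, ← Spec.map_comp]
    congr 1
    ext x
    exact hα x
  -- morphisms over `S`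
  let ρ' : Over.mk (Spec.map (CommRingCat.ofHom (algebraMap k Ω)) ≫ σ) ⟶ Over.mk str :=
    Over.homMk (Spec.map (CommRingCat.ofHom ρ)) (by
      change Spec.map (CommRingCat.ofHom ρ) ≫ str = Spec.map _ ≫ σ
      rw [halg, Category.assoc, hwt])
  let α' : Over.mk (Spec.map (CommRingCat.ofHom (algebraMap k Ω)) ≫ σ) ⟶
      Over.mk (Spec.map (CommRingCat.ofHom (algebraMap k Ω)) ≫ σ) :=
    Over.homMk (Spec.map (CommRingCat.ofHom (α : Ω →+* Ω))) (by
      change Spec.map _ ≫ Spec.map _ ≫ σ = Spec.map _ ≫ σ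
      rw [← Category.assoc, hαs, Category.assoc, hws, halg, Category.assoc, hwt])
  have hα'iso : IsIso α' := by
    have h1 : IsIso (CommRingCat.ofHom (α : Ω →+* Ω)) :=
      (inferInstance : IsIso (α.toCommRingCatIso).hom)
    have : IsIso α'.left := by
      change IsIso (Spec.map (CommRingCat.ofHom (α : Ω →+* Ω)))
      infer_instance
    have : IsIso ((Over.forget S).map α') := this
    exact isIso_of_reflects_iso α' (Over.forget S)
  have hξt : ξ ≫ G.t = (yon S).map mt ≫ eU.inv := by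
    rw [hmt, Category.assoc, Category.assoc, Iso.hom_inv_id, Category.comp_id]
  have hξs : ξ ≫ G.s = (yon S).map ms ≫ eU.inv := by
    rw [hms, Category.assoc, Category.assoc, Iso.hom_inv_id, Category.comp_id]
  set m : Over.mk (Spec.map (CommRingCat.ofHom (algebraMap k Ω)) ≫ σ) ⟶ Over.mk σ :=
    Over.homMk (Spec.map (CommRingCat.ofHom (algebraMap k Ω))) rfl with hm
  have e1 : ρ' ≫ mt = m := by
    apply Over.OverMorphism.ext
    exact halg.symm
  have e2 : ρ' ≫ ms = α' ≫ m := by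
    apply Over.OverMorphism.ext
    exact hαs.symm
  have h₁ : (eU'.hom ≫ (yon S).map ρ' ≫ ξ) ≫ G.t = 𝟙 G'.U ≫ φ.fU := by
    rw [Category.id_comp, hfU, Category.assoc, Category.assoc, hξt, ← Category.assoc ((yon S).map ρ'),
      ← Functor.map_comp, e1]
  have h₂ : (eU'.hom ≫ (yon S).map ρ' ≫ ξ) ≫ G.s = (eU'.hom ≫ (yon S).map α' ≫ eU'.inv) ≫ φ.fU := by
    rw [hfU, Category.assoc, Category.assoc, hξs, ← Category.assoc ((yon S).map ρ'),
      ← Functor.map_comp, e2, Functor.map_comp]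
    simp only [Category.assoc, Iso.inv_hom_id_assoc]
  obtain ⟨r', hr1, hr2, hr3⟩ := restrict_exists_lift φ hφ _ _ _ h₁ h₂
  refine ⟨r', fun x => ?_, ?_, ?_⟩
  · rw [hr1, Points.map_comp, Points.map_comp]
    obtain ⟨t, ht⟩ := ofScheme_surjective _ (Points.map ((yon S).map ρ') (Points.map eU'.hom x))
    rw [← ht, ← Points.ofPt_eq_map_ofScheme]
    have : t = IsLocalRing.closedPoint K :=
      @Subsingleton.elim _ (inferInstanceAs (Subsingleton (Spec (CommRingCat.of K)))) _ _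
    rw [this, ofPt_closedPoint]
  · rw [hr3]
    infer_instance
  · rw [hr2]
    infer_instance

end Groth.Agent.S10146
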