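import Groth.Statements.S10179
import Groth.Agent.Lib.Helper5.AlgSp.PointsTop

set_option autoImplicit false
universe u
open CategoryTheory CategoryTheory.Limits AlgebraicGeometry Topology TopologicalSpace
open AlgSp AlgSp.Points

namespace Groth.Agent.S10179

/-- For an algebraic space X over a scheme S, every point x of |X| has a fundamental system of
quasi-compact open neighbourhoods: every open subset of |X| containing x contains a quasi-compact
open subset containing x. In particular |X| is locally quasi-compact. -/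
theorem result {S : Scheme.{u}} (X : AlgSp.Space S) (x : AlgSp.Points X.obj)
    (W : Set (AlgSp.Points X.obj)) (hW : IsOpen W) (hx : x ∈ W) :
    ∃ V : Set (AlgSp.Points X.obj), IsOpen V ∧ IsCompact V ∧ x ∈ V ∧ V ⊆ W := by
  obtain ⟨U, p, hp, hs⟩ := X.property.atlas
  obtain ⟨u, rfl⟩ := Groth.Agent.H5.AlgSp.ofPt_surjective_of_repWith hs x
  have hW' : IsOpen (AlgSp.Points.ofPt p ⁻¹' W) := hW.preimage (AlgSp.Points.continuous_ofPt p)
  obtain ⟨_, ⟨V, hV, rfl⟩, hu, hVW⟩ := U.left.isBasis_affineOpens.exists_subset_of_mem_open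
    (show u ∈ AlgSp.Points.ofPt p ⁻¹' W from hx) hW'
  refine ⟨AlgSp.Points.ofPt p '' (V : Set U.left),
    Groth.Agent.H5.AlgSp.isOpenMap_ofPt_of_etale hp _ V.2,
    (IsAffineOpen.isCompact hV).image (AlgSp.Points.continuous_ofPt p), ⟨u, hu, rfl⟩, ?_⟩
  rintro _ ⟨v, hv, rfl⟩
  exact hVW hv

end Groth.Agent.S10179
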