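import Groth.Statements.S10180
import Groth.Agent.Lib.Helper5.AlgSp.AffineChart

set_option autoImplicit false
universe u
open CategoryTheory CategoryTheory.Limits AlgebraicGeometry Topology TopologicalSpace
open AlgSp

namespace Groth.Agent.S10180

/-- An algebraic space X over a scheme S is quasi-compact if and only if there exist an affine scheme U
over S and a representable etale, representable surjective map h_U ⟶ X. -/
theorem result {S : Scheme.{u}} (X : AlgSp.Space S) :
    AlgSp.IsQuasiCompactSp X.obj ↔
      ∃ (U : Over S) (p : (AlgSp.yon S).obj U ⟶ X.obj),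
        IsAffine U.left ∧ AlgSp.RepWith @Etale p ∧ AlgSp.RepWith @Surjective p := by
  constructor
  · rintro ⟨U, p, hp, hs, hU⟩
    have : CompactSpace ↥U.left := hU
    obtain ⟨U', q, h1, h2, h3⟩ := Groth.Agent.H5.AlgSp.exists_affine_chart_of_compact U
    exact ⟨U', (AlgSp.yon S).map q ≫ p, h1,
      Groth.Agent.H5.AlgSp.repWith_comp_yon_map @Etale q h2 hp,
      Groth.Agent.H5.AlgSp.repWith_comp_yon_map @Surjective q h3 hs⟩
  · rintro ⟨U, p, hU, hp, hs⟩
    exact ⟨U, p, hp, hs, inferInstance⟩

end Groth.Agent.S10180
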