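import Groth.Statements.S10184
import Groth.Agent.Lib.Helper5.AlgSp.AffineBase
import Groth.Agent.Lib.Helper5.AlgSp.DiagBC

set_option autoImplicit false
universe u
open CategoryTheory CategoryTheory.Limits AlgebraicGeometry Topology TopologicalSpace
open AlgSp

namespace Groth.Agent.S10184

/-- Let X be an algebraic space over a scheme S such that for all affine schemes U, V over S mapping to
X, every scheme P over S representing h_U ×_X h_V is quasi-compact. Then X is quasi-separated over
S. (The published statement is about absolute quasi-separatedness, over the integers, which this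
hypothesis also gives and which implies quasi-separatedness over S.) -/
theorem result {S : Scheme.{u}} (X : AlgSp.Space S)
    (h : ∀ (U V P : Over S) (a : (AlgSp.yon S).obj U ⟶ X.obj) (b : (AlgSp.yon S).obj V ⟶ X.obj)
      (fst : P ⟶ U) (snd : P ⟶ V),
      IsAffine U.left → IsAffine V.left →
      IsPullback ((AlgSp.yon S).map fst) ((AlgSp.yon S).map snd) a b → CompactSpace ↥P.left) :
    AlgSp.IsQuasiSeparatedSp X.obj := by
  refine Groth.Agent.H5.AlgSp.repWith_of_forall_affine X.property.diag @QuasiCompact ?_
  intro T V g fst' snd' hT sq
  have hrep := X.property.representable_from_yon (g ≫ prod.fst)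
  have sqW := hrep.isPullback' (g ≫ prod.snd)
  have hW : CompactSpace ↥(hrep.pullback (g ≫ prod.snd)).left := h _ _ _ _ _ _ _ hT hT sqW
  obtain ⟨w, hw⟩ := Groth.Agent.H5.AlgSp.diag_pullback_baseChange _ _ _ _ sqW g rfl rfl fst' snd' sq
  have hw' := hw.map (Over.forget S)
  have hsep : IsSeparated T.hom := inferInstance
  have hd : IsClosedImmersion (Limits.diag T).left := by
    have h1 : IsClosedImmersion (pullback.diagonal T.hom) := inferInstance
    rw [← AlgSp.diag_left_comp_prodLeftIsoPullback] at h1
    exact (MorphismProperty.cancel_right_of_respectsIso @IsClosedImmersion _ _).1 h1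
  have hwc : IsClosedImmersion w.left :=
    MorphismProperty.of_isPullback (P := @IsClosedImmersion) hw'.flip hd
  have : CompactSpace ↥V.left := QuasiCompact.compactSpace_of_compactSpace w.left
  change QuasiCompact snd'.left
  infer_instance

end Groth.Agent.S10184
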