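import Groth.Statements.S10188
import Groth.Agent.Lib.Helper5.AlgSp.PointsTop

set_option autoImplicit false
universe u
open CategoryTheory CategoryTheory.Limits AlgebraicGeometry Topology TopologicalSpace
open AlgSp

namespace Groth.Agent.S10188

/-- Let P be a property of schemes that is local in the etale topology (for every scheme V and every
etale covering family of V, V has P if and only if all members have P), and let X be an algebraic
space over a scheme S. Then X has P etale locally (some surjective etale chart from a scheme with P)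
if and only if every scheme admitting a representable etale map to X has P. -/
theorem result {S : Scheme.{u}} (P : Scheme.{u} → Prop)
    (hP : ∀ (V : Scheme.{u}) (𝒰 : Scheme.Cover.{u} (Scheme.precoverage @Etale) V), P V ↔ ∀ i, P (𝒰.X i))
    (X : AlgSp.Space S) :
    AlgSp.EtaleLocally P X.obj ↔
      ∀ (U : Over S) (a : (AlgSp.yon S).obj U ⟶ X.obj), AlgSp.RepWith @Etale a → P U.left := by
  constructor
  · rintro ⟨U₀, p₀, hp₀, hs₀, hPU₀⟩ U a ha
    have sq := hp₀.rep.isPullback' a
    have hsnd_e : Etale (hp₀.rep.snd a).left := hp₀.property a _ _ sq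
    have hsnd_s : Surjective (hp₀.rep.snd a).left := hs₀.property a _ _ sq
    have hfst_e : Etale (hp₀.rep.fst' a).left := ha.property p₀ _ _ sq.flip
    -- P W
    let 𝒰 : Scheme.Cover.{u} (Scheme.precoverage @Etale) U₀.left :=
      (Scheme.coverOfIsIso.{u} (P := @Etale) (𝟙 U₀.left)).add (hp₀.rep.fst' a).left hfst_e
    have hPW : P (hp₀.rep.pullback a).left := (hP U₀.left 𝒰).1 hPU₀ none
    let 𝒱 : Scheme.Cover.{u} (Scheme.precoverage @Etale) U.left :=
      Scheme.Cover.mkOfCovers PUnit.{u+1} (fun _ => (hp₀.rep.pullback a).left)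
        (fun _ => (hp₀.rep.snd a).left)
        (fun x => ⟨⟨⟩, (hsnd_s.surj x).choose, (hsnd_s.surj x).choose_spec⟩)
        (fun _ => hsnd_e)
    exact (hP U.left 𝒱).2 (fun _ => hPW)
  · intro h
    obtain ⟨U, p, hp, hs⟩ := X.property.atlas
    exact ⟨U, p, hp, hs, h U p hp⟩

end Groth.Agent.S10188
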