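import Groth.Statements.S10190
import Groth.Agent.Lib.Helper5.AlgSp.PointsTop

set_option autoImplicit false
universe u
open CategoryTheory CategoryTheory.Limits AlgebraicGeometry Topology TopologicalSpace
open AlgSp

namespace Groth.Agent.S10190

/-- For an algebraic space X over a scheme S, the set of codimension 0 points of X (points x of |X| such
that, for some representable etale h_U ⟶ X from a scheme U and some point u of U mapping to x, the
local ring of U at u has dimension 0) is dense in |X|. -/
theorem result {S : Scheme.{u}} (X : AlgSp.Space S) :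
    Dense {x : AlgSp.Points X.obj |
      AlgSp.HasAt (fun U u => ringKrullDim ↥(U.presheaf.stalk u) = 0) X.obj x} := by
  rw [dense_iff_inter_open]
  intro W hW hne
  obtain ⟨U, p, hp, hs⟩ := X.property.atlas
  obtain ⟨x, hx⟩ := hne
  obtain ⟨u, rfl⟩ := Groth.Agent.H5.AlgSp.ofPt_surjective_of_repWith hs x
  obtain ⟨η, hη, hdim⟩ := Groth.Agent.H5.AlgSp.exists_generization_dim_zero U.left u
  have hW' : IsOpen (AlgSp.Points.ofPt p ⁻¹' W) := hW.preimage (AlgSp.Points.continuous_ofPt p)
  have hηW : η ∈ AlgSp.Points.ofPt p ⁻¹' W := hη.mem_open hW' hx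
  exact ⟨AlgSp.Points.ofPt p η, hηW, U, p, η, hp, rfl, hdim⟩

end Groth.Agent.S10190
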