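import Groth.Statements.S10196
import Groth.Agent.Lib.Helper5.AlgSp.OpenSub
import Groth.Agent.Lib.Helper5.AlgSp.ImmersionTop
import Groth.Agent.Lib.Helper5.AlgSp.Presentation

set_option autoImplicit false
universe u
open CategoryTheory CategoryTheory.Limits AlgebraicGeometry Topology TopologicalSpace
open AlgSp

namespace Groth.Agent.S10196

/-- Let X be an algebraic space over a scheme S, a : h_U ⟶ X a representable etale map from a scheme U
over S, and X' ⟶ X the open subspace whose image in |X| is the (open) image of U. Then a factors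
through a representable etale and surjective a' : h_U ⟶ X', and if R is a scheme over S with h_R =
h_U ×_X h_U then also h_R = h_U ×_{X'} h_U and (U, R, a') is a presentation of X'. -/
theorem result {S : Scheme.{u}} {X X' : AlgSp.Space S} {U : Over S}
    (a : (AlgSp.yon S).obj U ⟶ X.obj) (ha : AlgSp.RepWith @Etale a)
    (j : X' ⟶ X) (hj : AlgSp.RepWith @IsOpenImmersion j.hom)
    (himage : Set.range (AlgSp.Points.map j.hom) = Set.range (AlgSp.Points.ofPt a)) :
    ∃ a' : (AlgSp.yon S).obj U ⟶ X'.obj, a' ≫ j.hom = a ∧ AlgSp.RepWith @Etale a' ∧ AlgSp.RepWith @Surjective a' ∧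
      ∀ (R : Over S) (s t : R ⟶ U), IsPullback ((AlgSp.yon S).map t) ((AlgSp.yon S).map s) a a →
        AlgSp.IsPresentation s t a' := by
  have hjm : Mono j.hom :=
    Groth.Agent.H5.AlgSp.mono_of_repWith
      (fun _ _ f hf => by
        have : IsOpenImmersion f := hf
        exact MorphismProperty.monomorphisms.infer_property f) hj
  have hrange : Set.range (AlgSp.Points.map a) = Set.range (AlgSp.Points.ofPt a) := by
    ext x
    constructor
    · rintro ⟨z, rfl⟩
      obtain ⟨u, rfl⟩ := Groth.Agent.H5.AlgSp.ofScheme_surjective U z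
      exact ⟨u, AlgSp.Points.ofPt_eq_map_ofScheme a u⟩
    · rintro ⟨u, rfl⟩
      exact ⟨_, (AlgSp.Points.ofPt_eq_map_ofScheme a u).symm⟩
  obtain ⟨a', ha'⟩ := (Groth.Agent.H5.AlgSp.factors_through_open_iff j.hom hj a).2
    (by rw [hrange, himage])
  have he : AlgSp.RepWith @Etale a' := by
    apply Groth.Agent.H5.AlgSp.repWith_of_comp_mono j.hom
    rw [ha']; exact ha
  have hsurj : AlgSp.RepWith @Surjective a' := by
    apply Groth.Agent.H5.AlgSp.repWith_surjective_of_points he.rep
    intro x'
    have : AlgSp.Points.map j.hom x' ∈ Set.range (AlgSp.Points.ofPt a) := by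
      rw [← himage]; exact ⟨x', rfl⟩
    obtain ⟨u, hu⟩ := this
    refine ⟨AlgSp.Points.ofScheme U u, ?_⟩
    apply Groth.Agent.H5.AlgSp.points_map_injective_of_mono j.hom
    rw [← AlgSp.Points.map_comp, ha', ← AlgSp.Points.ofPt_eq_map_ofScheme, hu]
  refine ⟨a', ha', he, hsurj, fun R s t sq => ?_⟩
  have sq' : IsPullback ((AlgSp.yon S).map t) ((AlgSp.yon S).map s) a' a' := by
    apply Groth.Agent.H5.AlgSp.isPullback_of_comp_mono j.hom
    rw [ha']; exact sq
  exact ⟨Groth.Agent.H5.AlgSp.isEtaleEqvRel_of_isPullback a' he s t sq', he, hsurj, sq'⟩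

end Groth.Agent.S10196
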