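import Groth.Statements.S10197
import Groth.Agent.Lib.Helper5.AlgSp.SchematicLocus

set_option autoImplicit false
universe u
open CategoryTheory CategoryTheory.Limits AlgebraicGeometry Topology TopologicalSpace
open AlgSp

namespace Groth.Agent.S10197

/-- An algebraic space X over a scheme S has a largest open subspace which is a scheme: there is an open
subspace X' ⟶ X whose underlying sheaf is representable by a scheme over S, through which every open
subspace of X with representable underlying sheaf factors. -/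
theorem result {S : Scheme.{u}} (X : AlgSp.Space S) :
    ∃ (X' : AlgSp.Space S) (j : X' ⟶ X), AlgSp.RepWith @IsOpenImmersion j.hom ∧ X'.obj.obj.IsRepresentable ∧
      ∀ (X'' : AlgSp.Space S) (j'' : X'' ⟶ X), AlgSp.RepWith @IsOpenImmersion j''.hom →
        X''.obj.obj.IsRepresentable → ∃ k : X'' ⟶ X', k ≫ j = j'' := by
  have hW := Groth.Agent.H5.AlgSp.isOpen_schematicSet X.obj
  obtain ⟨X₁, ⟨e⟩⟩ := Groth.Agent.H5.AlgSp.exists_iso_openSub_schematicSet X.property
  refine ⟨⟨Groth.Agent.H5.AlgSp.openSub X.obj (Groth.Agent.H5.AlgSp.schematicSet X.obj),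
    Groth.Agent.H5.AlgSp.isAlgSpace_openSub X.property hW⟩,
    ObjectProperty.homMk (Groth.Agent.H5.AlgSp.openSubι X.obj _),
    Groth.Agent.H5.AlgSp.repWith_openSubι hW, ⟨X₁, ⟨AlgSp.representableByOfIso e⟩⟩, ?_⟩
  intro X'' j'' hj'' hrep
  obtain ⟨T, ⟨r⟩⟩ := hrep
  let e'' : (AlgSp.yon S).obj T ≅ X''.obj := AlgSp.isoOfRepresentableBy r
  have hcomp : AlgSp.RepWith @IsOpenImmersion (e''.hom ≫ j''.hom) :=
    (MorphismProperty.cancel_left_of_respectsIso (AlgSp.RepWith @IsOpenImmersion) e''.hom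
      j''.hom).2 hj''
  obtain ⟨y, hy⟩ := Groth.Agent.H5.AlgSp.factors_schematicSet _ hcomp
  refine ⟨ObjectProperty.homMk (e''.inv ≫ y), ?_⟩
  apply ObjectProperty.hom_ext
  change (e''.inv ≫ y) ≫ Groth.Agent.H5.AlgSp.openSubι X.obj _ = j''.hom
  rw [Category.assoc, hy, Iso.inv_hom_id_assoc]

end Groth.Agent.S10197
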