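import Groth.Statements.S10198
import Groth.Agent.Lib.Helper3.Decent.ZarLocQSep

set_option autoImplicit false
universe u
open CategoryTheory CategoryTheory.Limits AlgebraicGeometry Topology TopologicalSpace
open AlgSp

namespace Groth.Agent.S10198

/-- (1) if and only if (3): for an algebraic space X over a scheme S, X is Zariski locally
quasi-separated over S (it has a Zariski covering by open subspaces whose diagonals over S are
quasi-compact) if and only if X has a Zariski covering by open subspaces each of which admits a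
quasi-compact, etale, surjective map from an affine scheme. Since the second condition does not
mention S, being Zariski locally quasi-separated does not depend on the base. -/
theorem result {S : Scheme.{u}} (X : AlgSp.Space S) :
    (∃ (ι : Type u) (Xi : ι → AlgSp.Space S) (j : ∀ i, Xi i ⟶ X),
        AlgSp.IsZarCover (fun i => (Xi i).obj) (fun i => (j i).hom) ∧ ∀ i, AlgSp.IsQuasiSeparatedSp (Xi i).obj) ↔
      (∃ (ι : Type u) (Xi : ι → AlgSp.Space S) (j : ∀ i, Xi i ⟶ X),
        AlgSp.IsZarCover (fun i => (Xi i).obj) (fun i => (j i).hom) ∧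
          ∀ i, ∃ (U : Over S) (p : (AlgSp.yon S).obj U ⟶ (Xi i).obj), IsAffine U.left ∧
            AlgSp.RepWith @QuasiCompact p ∧ AlgSp.RepWith @Etale p ∧ AlgSp.RepWith @Surjective p) := by
  constructor
  · rintro ⟨ι, Xi, j, ⟨hj, hcov⟩, hq⟩
    choose U a hae has using fun i => (Xi i).property.atlas
    have key : ∀ k : (Σ i : ι, ↥(U i).left), ∃ (X' : AlgSp.Sp S) (j' : X' ⟶ (Xi k.1).obj),
        AlgSp.IsAlgSpace X' ∧ AlgSp.RepWith @IsOpenImmersion j' ∧
        AlgSp.Points.ofPt (a k.1) k.2 ∈ Set.range (AlgSp.Points.map j') ∧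
        ∃ (V : Over S) (p : (AlgSp.yon S).obj V ⟶ X'), IsAffine V.left ∧
          AlgSp.RepWith @QuasiCompact p ∧ AlgSp.RepWith @Etale p ∧ AlgSp.RepWith @Surjective p :=
      fun k => Groth.Agent.H3.Decent.exists_open_quasiCompact_affine_chart (Xi k.1).property
        (hq k.1) _
    choose X' j' hX' hj' hmem hchart using key
    refine ⟨(Σ i : ι, ↥(U i).left), fun k => ⟨X' k, hX' k⟩,
      fun k => ObjectProperty.homMk (j' k ≫ (j k.1).hom), ⟨?_, ?_⟩, ?_⟩
    · intro k
      exact (AlgSp.RepWith @IsOpenImmersion).comp_mem _ _ (hj' k) (hj k.1)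
    · intro x
      obtain ⟨i, y, rfl⟩ := hcov x
      obtain ⟨u₀, rfl⟩ := Groth.Agent.H5.AlgSp.ofPt_surjective_of_repWith (has i) y
      obtain ⟨z, hz⟩ := hmem ⟨i, u₀⟩
      refine ⟨⟨i, u₀⟩, z, ?_⟩
      change AlgSp.Points.map (j' ⟨i, u₀⟩ ≫ (j i).hom) z = _
      rw [AlgSp.Points.map_comp, hz]
    · intro k
      exact hchart k
  · rintro ⟨ι, Xi, j, hcov, hchart⟩
    refine ⟨ι, Xi, j, hcov, fun i => ?_⟩
    obtain ⟨U, p, hU, hq, he, hs⟩ := hchart i
    exact Groth.Agent.H3.Decent.isQuasiSeparatedSp_of_quasiCompact_affine_chart (Xi i).property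
      p hq he hs

end Groth.Agent.S10198
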