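import Groth.Statements.S10200
import Groth.Agent.Lib.Helper3.Decent.QSepGeneric

set_option autoImplicit false
universe u
open CategoryTheory CategoryTheory.Limits AlgebraicGeometry Topology TopologicalSpace
open AlgSp

namespace Groth.Agent.S10200

/-- Let X be an algebraic space over a scheme S that is Zariski locally quasi-separated over S (for
example quasi-separated over S). Then there is a dense open subspace of X which is a scheme; more
precisely there is an open subspace X' ⟶ X with representable underlying sheaf such that |X'| is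
dense in |X| and contains every codimension 0 point of X (every point under which some etale chart
has a zero-dimensional local ring). -/
theorem result {S : Scheme.{u}} (X : AlgSp.Space S)
    (hX : ∃ (ι : Type u) (Xi : ι → AlgSp.Space S) (j : ∀ i, Xi i ⟶ X),
        AlgSp.IsZarCover (fun i => (Xi i).obj) (fun i => (j i).hom) ∧ ∀ i, AlgSp.IsQuasiSeparatedSp (Xi i).obj) :
    ∃ (X' : AlgSp.Space S) (j : X' ⟶ X), AlgSp.RepWith @IsOpenImmersion j.hom ∧ X'.obj.obj.IsRepresentable ∧
      Dense (Set.range (AlgSp.Points.map j.hom)) ∧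
      ∀ x : AlgSp.Points X.obj, AlgSp.HasAt (fun U u => ringKrullDim ↥(U.presheaf.stalk u) = 0) X.obj x →
        x ∈ Set.range (AlgSp.Points.map j.hom) := by
  obtain ⟨ι, Xi, j, ⟨hj, hcov⟩, hq⟩ := hX
  have hd : AlgSp.IsDecent X.obj :=
    Groth.Agent.H3.Decent.isDecent_of_zarCover X.property (fun i => (Xi i).obj)
      (fun i => (Xi i).property) (fun i => (j i).hom) hj hcov
      (fun i => Groth.Agent.H3.Decent.isDecent_of_isQuasiSeparatedSp (Xi i).property (hq i))
  have hW := Groth.Agent.H5.AlgSp.isOpen_schematicSet X.obj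
  obtain ⟨X₁, ⟨e⟩⟩ := Groth.Agent.H5.AlgSp.exists_iso_openSub_schematicSet X.property
  refine ⟨⟨Groth.Agent.H5.AlgSp.openSub X.obj (Groth.Agent.H5.AlgSp.schematicSet X.obj),
    Groth.Agent.H5.AlgSp.isAlgSpace_openSub X.property hW⟩,
    ObjectProperty.homMk (Groth.Agent.H5.AlgSp.openSubι X.obj _),
    Groth.Agent.H5.AlgSp.repWith_openSubι hW, ⟨X₁, ⟨AlgSp.representableByOfIso e⟩⟩, ?_, ?_⟩
  · change Dense (Set.range (AlgSp.Points.map (Groth.Agent.H5.AlgSp.openSubι X.obj
      (Groth.Agent.H5.AlgSp.schematicSet X.obj))))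
    rw [Groth.Agent.H5.AlgSp.range_points_map_openSubι]
    exact Groth.Agent.H3.Decent.dense_schematicSet_of_isDecent X.property hd
  · intro x hx
    change x ∈ Set.range (AlgSp.Points.map (Groth.Agent.H5.AlgSp.openSubι X.obj
      (Groth.Agent.H5.AlgSp.schematicSet X.obj)))
    rw [Groth.Agent.H5.AlgSp.range_points_map_openSubι]
    exact Groth.Agent.H3.Decent.mem_schematicSet_of_codimZero_of_zarCover X.property
      (fun i => (Xi i).obj) (fun i => (Xi i).property) (fun i => (j i).hom) hj hcov hq x hx

end Groth.Agent.S10200
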