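import Groth.Statements.S10202
import Groth.Agent.Lib.Helper5.AlgSp.PointsTop

set_option autoImplicit false
universe u
open CategoryTheory CategoryTheory.Limits AlgebraicGeometry Topology TopologicalSpace
open AlgSp

namespace Groth.Agent.S10202

/-- If X is a locally Noetherian algebraic space over a scheme S, then the space |X| is locally
Noetherian: every point of |X| has an open neighbourhood which is a Noetherian topological space in
the induced topology. -/
theorem result {S : Scheme.{u}} (X : AlgSp.Space S)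
    (hX : AlgSp.IsLocNoethSp X.obj) (x : AlgSp.Points X.obj) :
    ∃ W : Set (AlgSp.Points X.obj), IsOpen W ∧ x ∈ W ∧ NoetherianSpace ↥W := by
  obtain ⟨U, p, hp, hs, hU⟩ := hX
  have : IsLocallyNoetherian U.left := hU
  obtain ⟨u, rfl⟩ := Groth.Agent.H5.AlgSp.ofPt_surjective_of_repWith hs x
  obtain ⟨_, ⟨V, hV, rfl⟩, hu, -⟩ := U.left.isBasis_affineOpens.exists_subset_of_mem_open
    (Set.mem_univ u) isOpen_univ
  have hVn : IsNoetherianRing Γ(U.left, V) := IsLocallyNoetherian.component_noetherian ⟨V, hV⟩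
  have hVs : NoetherianSpace ↥V := noetherianSpace_of_isAffineOpen V hV
  refine ⟨AlgSp.Points.ofPt p '' (V : Set U.left),
    Groth.Agent.H5.AlgSp.isOpenMap_ofPt_of_etale hp _ V.2, ⟨u, hu, rfl⟩, ?_⟩
  rw [noetherianSpace_set_iff]
  intro t ht
  have hV' := (noetherianSpace_set_iff (V : Set U.left)).1 hVs
  have : t = AlgSp.Points.ofPt p '' (AlgSp.Points.ofPt p ⁻¹' t ∩ (V : Set U.left)) := by
    ext y
    constructor
    · intro hy
      obtain ⟨v, hv, rfl⟩ := ht hy
      exact ⟨v, ⟨hy, hv⟩, rfl⟩
    · rintro ⟨v, ⟨hv, -⟩, rfl⟩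
      exact hv
  rw [this]
  exact (hV' _ Set.inter_subset_right).image (AlgSp.Points.continuous_ofPt p)

end Groth.Agent.S10202
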