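import Groth.Statements.S10210
import Groth.Agent.Lib.Helper5.AlgSp.EtaleMor

set_option autoImplicit false
universe u
open CategoryTheory CategoryTheory.Limits AlgebraicGeometry Topology TopologicalSpace
open AlgSp

namespace Groth.Agent.S10210

/-- Let X, Y, Z be algebraic spaces over a scheme S, g : X ⟶ Z and h : Y ⟶ Z etale morphisms and f : X ⟶
Y a morphism with f ≫ h = g. Then f is etale. -/
theorem result {S : Scheme.{u}} {X Y Z : AlgSp.Space S} (f : X ⟶ Y) (h : Y ⟶ Z) (g : X ⟶ Z)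
    (w : f ≫ h = g) (hg : AlgSp.IsEtaleMor g.hom) (hh : AlgSp.IsEtaleMor h.hom) :
    AlgSp.IsEtaleMor f.hom := by
  have hP : (@Etale : MorphismProperty Scheme.{u}) ≤ @Etale := le_rfl
  refine Groth.Agent.H5.AlgSp.isEtaleMor_of_locP_etale Y.property ?_
  have hg' : AlgSp.LocP @Etale (f.hom ≫ h.hom) := by
    have : f.hom ≫ h.hom = g.hom := by rw [← w]; rfl
    rw [this]
    exact Groth.Agent.H5.AlgSp.locP_etale_of_isEtaleMor hg
  exact Groth.Agent.H5.AlgSp.locP_of_comp hP (Pc := @Etale)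
    (fun u v huv hv => Etale.of_comp u v) Z.property hg'
    (Groth.Agent.H5.AlgSp.locP_etale_of_isEtaleMor hh)

end Groth.Agent.S10210
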