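import Groth.Statements.S10213
import Groth.Agent.Lib.Helper5.AlgSp.AffineChart

set_option autoImplicit false
universe u
open CategoryTheory CategoryTheory.Limits AlgebraicGeometry Topology TopologicalSpace
open AlgSp

namespace Groth.Agent.S10213

/-- For an algebraic space X over a scheme S there is a surjective etale map h_U ⟶ X where U is a
disjoint union of affine schemes, each of which maps into an affine open of S. -/
theorem result {S : Scheme.{u}} (X : AlgSp.Space S) :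
    ∃ (ι : Type u) (V : ι → Scheme.{u}) (_ : ∀ i, IsAffine (V i)) (q : (∐ V) ⟶ S)
      (p : (AlgSp.yon S).obj (Over.mk q) ⟶ X.obj),
      AlgSp.RepWith @Etale p ∧ AlgSp.RepWith @Surjective p ∧
        ∀ i, ∃ W : S.Opens, IsAffineOpen W ∧ ∀ v : ↥(V i), (Sigma.ι V i ≫ q) v ∈ W := by
  obtain ⟨U, p, hp, hs⟩ := X.property.atlas
  have h1 : ∀ u : ↥U.left, ∃ W : S.Opens, IsAffineOpen W ∧ U.hom u ∈ W := fun u => by
    obtain ⟨_, ⟨W, hW, rfl⟩, hu, -⟩ := S.isBasis_affineOpens.exists_subset_of_mem_open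
      (Set.mem_univ (U.hom u)) isOpen_univ
    exact ⟨W, hW, hu⟩
  choose W hW hWu using h1
  have h2 : ∀ u : ↥U.left, ∃ V : U.left.Opens, IsAffineOpen V ∧ u ∈ V ∧ V ≤ U.hom ⁻¹ᵁ (W u) :=
    fun u => by
      obtain ⟨_, ⟨V, hV, rfl⟩, hu, hle⟩ := U.left.isBasis_affineOpens.exists_subset_of_mem_open
        (show u ∈ ((U.hom ⁻¹ᵁ (W u) : U.left.Opens) : Set U.left) from hWu u) (U.hom ⁻¹ᵁ (W u)).2
      exact ⟨V, hV, hu, hle⟩
  choose V hV huV hVW using h2
  have hcov : IsOpenCover V := by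
    apply IsOpenCover.mk
    rw [eq_top_iff]
    intro u _
    exact TopologicalSpace.Opens.mem_iSup.2 ⟨u, huV u⟩
  let 𝒰 := U.left.openCoverOfIsOpenCover V hcov
  refine ⟨↥U.left, 𝒰.X, fun i => hV i, Sigma.desc 𝒰.f ≫ U.hom,
    (AlgSp.yon S).map (Groth.Agent.H5.AlgSp.sigmaOverHom U 𝒰) ≫ p, ?_, ?_, ?_⟩
  · exact Groth.Agent.H5.AlgSp.repWith_comp_yon_map @Etale _
      (Groth.Agent.H5.AlgSp.etale_sigmaOverHom U 𝒰) hp
  · exact Groth.Agent.H5.AlgSp.repWith_comp_yon_map @Surjective _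
      (Groth.Agent.H5.AlgSp.surjective_sigmaOverHom U 𝒰) hs
  · intro i
    refine ⟨W i, hW i, fun v => ?_⟩
    rw [← Category.assoc, Sigma.ι_desc]
    exact hVW i v.2

end Groth.Agent.S10213
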