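import Groth.Statements.S10214
import Groth.Agent.Lib.Helper3.AlgSpProp.ImageOpen

set_option autoImplicit false
universe u
open CategoryTheory CategoryTheory.Limits AlgebraicGeometry Topology TopologicalSpace
open AlgSp

namespace Groth.Agent.S10214

/-- Every algebraic space X over a scheme S has a Zariski covering by open subspaces X_i such that each
X_i has a surjective etale map from an affine scheme; moreover the affine schemes may be taken to
map into affine opens of S. -/
theorem result {S : Scheme.{u}} (X : AlgSp.Space S) :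
    ∃ (ι : Type u) (Xi : ι → AlgSp.Space S) (j : ∀ i, Xi i ⟶ X),
      AlgSp.IsZarCover (fun i => (Xi i).obj) (fun i => (j i).hom) ∧
        ∀ i, ∃ (U : Over S) (p : (AlgSp.yon S).obj U ⟶ (Xi i).obj), IsAffine U.left ∧
          AlgSp.RepWith @Etale p ∧ AlgSp.RepWith @Surjective p ∧
          ∃ W : S.Opens, IsAffineOpen W ∧ ∀ v : ↥U.left, U.hom v ∈ W := by
  open Groth.Agent.H5.AlgSp Groth.Agent.H3.AlgSpProp in
  (
  obtain ⟨U, p, hpe, hps⟩ := X.property.atlas
  have hW : ∀ u : ↥U.left, ∃ W : S.Opens, IsAffineOpen W ∧ U.hom u ∈ W := fun u => by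
    obtain ⟨W, hW, hu, -⟩ := exists_isAffineOpen_mem_and_subset (x := U.hom u) (U := ⊤) trivial
    exact ⟨W, hW, hu⟩
  choose W hWaff hWmem using hW
  have hV : ∀ u : ↥U.left, ∃ V : U.left.Opens, IsAffineOpen V ∧ u ∈ V ∧
      (V : Set ↥U.left) ⊆ (U.hom ⁻¹ᵁ W u : U.left.Opens) := fun u =>
    exists_isAffineOpen_mem_and_subset (x := u) (U := U.hom ⁻¹ᵁ W u) (hWmem u)
  choose V hVaff hVmem hVsub using hV
  have hae : ∀ u, RepWith @Etale ((yon S).map (overOpenι U (V u)) ≫ p) := fun u =>
    repWith_etale_restrict hpe (V u)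
  choose y hy hye hys using fun u => exists_factor_image (hae u)
  refine ⟨↥U.left, fun u => ⟨openSub X.obj (Set.range (Points.ofPt ((yon S).map (overOpenι U (V u)) ≫ p))),
    isAlgSpace_openSub X.property (isOpen_range_ofPt (hae u))⟩,
    fun u => ObjectProperty.homMk (openSubι X.obj _), ⟨fun u => repWith_openSubι (isOpen_range_ofPt (hae u)),
      fun x => ?_⟩, fun u => ⟨overOpen U (V u), y u, hVaff u, hye u, hys u, W u, hWaff u, fun v => ?_⟩⟩
  · obtain ⟨u, rfl⟩ := ofPt_surjective_of_repWith hps x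
    refine ⟨u, ?_⟩
    change _ ∈ Set.range (Points.map (openSubι X.obj _))
    rw [range_points_map_openSubι]
    exact ⟨⟨u, hVmem u⟩, ofPt_restrict p (V u) ⟨u, hVmem u⟩⟩
  · have := hVsub u v.2
    change ((V u).ι ≫ U.hom) v ∈ W u
    rw [Scheme.Hom.comp_apply]
    exact this
  )

end Groth.Agent.S10214
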