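import Groth.Statements.S10222
import Groth.Agent.Lib.Helper3.AlgSpProp.HasAt
import Groth.Agent.Lib.Helper3.AlgSpCov.RedNoeth

set_option autoImplicit false
universe u
open CategoryTheory CategoryTheory.Limits AlgebraicGeometry Topology TopologicalSpace
open AlgSp

namespace Groth.Agent.S10222

/-- (1) if and only if (2): an algebraic space X over a scheme S is reduced if and only if at each x ∈
|X| the local ring of X is reduced, the latter meaning that for some scheme U, some representable
etale h_U ⟶ X and some point u of U mapping to x, the local ring of U at u is reduced. (The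
assertions about global sections in the published statement are not part of this row.) -/
theorem result {S : Scheme.{u}} (X : AlgSp.Space S) :
    AlgSp.IsReducedSp X.obj ↔
      ∀ x : AlgSp.Points X.obj, AlgSp.HasAt (fun U u => _root_.IsReduced ↥(U.presheaf.stalk u)) X.obj x := by
  open Groth.Agent.H5.AlgSp Groth.Agent.H3.AlgSpProp Groth.Agent.H3.AlgSpCov in
  (
  constructor
  · intro hr x
    obtain ⟨U, a, hae, has⟩ := X.property.atlas
    obtain ⟨u, hu⟩ := ofPt_surjective_of_repWith has x
    have : AlgebraicGeometry.IsReduced U.left := isReduced_of_etale_of_isReducedSp hr a hae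
    exact ⟨U, a, u, hae, hu, inferInstance⟩
  · intro h
    obtain ⟨U, a, hae, has⟩ := X.property.atlas
    refine ⟨U, a, hae, has, ?_⟩
    have : ∀ u : ↥U.left, _root_.IsReduced ↥(U.left.presheaf.stalk u) := fun u =>
      (hasAt_iff_forall etaleLocalAt_isReduced_stalk X.property _).1 (h (Points.ofPt a u)) U a u hae rfl
    exact isReduced_of_isReduced_stalk U.left
  )

end Groth.Agent.S10222
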