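import Groth.Statements.S10224
import Groth.Agent.Lib.Helper3.AlgSpProp.OEtStrictApps
import Groth.Agent.Lib.Helper3.AlgSpMor.SpDim

set_option autoImplicit false
universe u
open CategoryTheory CategoryTheory.Limits AlgebraicGeometry Topology TopologicalSpace
open AlgSp

open Groth.Agent.H3.AlgSpProp Groth.Agent.H5.AlgSp

namespace Groth.Agent.S10224

/-- Let X be an algebraic space over a scheme S, x̄ a geometric point of X lying over x ∈ |X|, and d ∈
{0, 1, 2, …, ∞}. Then the local ring of X at x has dimension d (that is, for some etale chart h_U ⟶
X and some point u of U over x the local ring of U at u has dimension d) if and only if the etale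
local ring of X at x̄ has dimension d. In particular the latter does not depend on the geometric
point over x. -/
theorem result {S : Scheme.{u}} (X : AlgSp.Space S) (p : AlgSp.FieldPt X.obj)
    (hp : p.IsGeometric) (d : ℕ∞) :
    AlgSp.HasAt (fun U u => ringKrullDim ↥(U.presheaf.stalk u) = (d : WithBot ℕ∞)) X.obj (AlgSp.Points.mk p) ↔
      ringKrullDim ↥(AlgSp.OEtStalk p) = (d : WithBot ℕ∞) := by
  obtain ⟨E, l, hE⟩ := exists_affine_nbhd X.property p hp
  have hdim := ringKrullDim_OEtStalk_eq X.property p hp E l
  have hpt := ofPt_lift_closedPoint p l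
  constructor
  · intro h
    have hall := (hasAt_iff_forall (etaleLocalAt_ringKrullDim_stalk (d : WithBot ℕ∞))
      X.property _).1 h
    rw [hdim]
    exact hall E.obj.left E.obj.hom _ E.property hpt
  · intro h
    exact ⟨E.obj.left, E.obj.hom, _, E.property, hpt, hdim.symm.trans h⟩

end Groth.Agent.S10224
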