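import Groth.Statements.S10227
import Groth.Agent.Lib.Helper3.AlgSpProp.OEtUnibranch
import Groth.Agent.Lib.Helper3.AlgSpProp.Support

set_option autoImplicit false
universe u
open CategoryTheory CategoryTheory.Limits AlgebraicGeometry Topology TopologicalSpace
open AlgSp

open Groth.Agent.H3.AlgSpProp Groth.Agent.H5.AlgSp Groth.Agent.H8.Hens

namespace Groth.Agent.S10227

/-- (1) ⇔ (4) ⇔ (5): let X be an algebraic space over a scheme S and x ∈ |X|. The following are
equivalent: for every scheme U, every etale h_U ⟶ X and every point u of U over x, the local ring of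
U at u has a unique minimal prime; for every such (U, u), the local ring of U at u is geometrically
unibranch; for every geometric point x̄ over x, the etale local ring of X at x̄ has a unique minimal
prime. -/
theorem result {S : Scheme.{u}} (X : AlgSp.Space S) (x : AlgSp.Points X.obj) :
    ((∀ (U : Over S) (a : (AlgSp.yon S).obj U ⟶ X.obj) (u : ↥U.left),
        AlgSp.RepWith @Etale a → AlgSp.Points.ofPt a u = x → CAlgX.HasUniqueMinimalPrime ↥(U.left.presheaf.stalk u)) ↔
      (∀ (U : Over S) (a : (AlgSp.yon S).obj U ⟶ X.obj) (u : ↥U.left),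
        AlgSp.RepWith @Etale a → AlgSp.Points.ofPt a u = x → CAlg2.IsGeomUnibranch ↥(U.left.presheaf.stalk u))) ∧
    ((∀ (U : Over S) (a : (AlgSp.yon S).obj U ⟶ X.obj) (u : ↥U.left),
        AlgSp.RepWith @Etale a → AlgSp.Points.ofPt a u = x → CAlgX.HasUniqueMinimalPrime ↥(U.left.presheaf.stalk u)) ↔
      ∀ p : AlgSp.FieldPt X.obj, p.IsGeometric → AlgSp.Points.mk p = x →
        CAlgX.HasUniqueMinimalPrime ↥(AlgSp.OEtStalk p)) := by
  obtain ⟨p₀, hp₀, rfl⟩ := exists_geometric_point_of_point X.property x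
  -- F2: from charts to the étale local ring
  have F2 : (∀ (U : Over S) (a : (AlgSp.yon S).obj U ⟶ X.obj) (u : ↥U.left),
        AlgSp.RepWith @Etale a → AlgSp.Points.ofPt a u = Points.mk p₀ →
          CAlgX.HasUniqueMinimalPrime ↥(U.left.presheaf.stalk u)) →
      ∀ p : AlgSp.FieldPt X.obj, p.IsGeometric → AlgSp.Points.mk p = Points.mk p₀ →
        CAlgX.HasUniqueMinimalPrime ↥(AlgSp.OEtStalk p) := by
    intro hA p hp hpx
    apply hasUniqueMinimalPrime_OEtStalk_of_forall X.property p hp
    intro Y y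
    rw [← UMP.hasUniqueMinimalPrime_iff]
    exact hA Y.obj.left Y.obj.hom _ Y.property ((ofPt_lift_closedPoint p y).trans hpx)
  -- F1: from the étale local ring to geometric unibranchness of charts
  have F1 : CAlgX.HasUniqueMinimalPrime ↥(AlgSp.OEtStalk p₀) →
      ∀ (U : Over S) (a : (AlgSp.yon S).obj U ⟶ X.obj) (u : ↥U.left),
        AlgSp.RepWith @Etale a → AlgSp.Points.ofPt a u = Points.mk p₀ →
          CAlg2.IsGeomUnibranch ↥(U.left.presheaf.stalk u) :=
    fun h U a u hae hu =>
      isGeomUnibranch_of_hasUniqueMinimalPrime_OEtStalk X.property p₀ hp₀ h a hae u hu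
  -- F3
  have F3 : (∀ (U : Over S) (a : (AlgSp.yon S).obj U ⟶ X.obj) (u : ↥U.left),
        AlgSp.RepWith @Etale a → AlgSp.Points.ofPt a u = Points.mk p₀ →
          CAlg2.IsGeomUnibranch ↥(U.left.presheaf.stalk u)) →
      (∀ (U : Over S) (a : (AlgSp.yon S).obj U ⟶ X.obj) (u : ↥U.left),
        AlgSp.RepWith @Etale a → AlgSp.Points.ofPt a u = Points.mk p₀ →
          CAlgX.HasUniqueMinimalPrime ↥(U.left.presheaf.stalk u)) := by
    intro hB U a u hae hu
    rw [UMP.hasUniqueMinimalPrime_iff]
    exact isPrime_nilradical_of_isGeomUnibranch (hB U a u hae hu)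
  refine ⟨⟨fun hA => F1 (F2 hA p₀ hp₀ rfl), F3⟩, ⟨F2, fun hC => F3 (F1 (hC p₀ hp₀ rfl))⟩⟩

end Groth.Agent.S10227
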