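import Groth.Statements.S1023
import Groth.Agent.H4.PSch4
-- import your own Groth.Agent.* helpers here

set_option autoImplicit false
universe u
open CategoryTheory CategoryTheory.Limits AlgebraicGeometry
attribute [local instance] HasDerivedCategory.standard
open Perf

namespace Groth.Agent.S1023

/-- Let the scheme X be quasi-compact and quasi-separated, P a perfect object of D(O_X), E ∈ D_QCoh(O_X)
and a ∈ ℤ. Then the morphisms P[-i] ⟶ E vanish for all sufficiently negative i if and only if the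
morphisms P[-i] ⟶ τ_{≤ a}E vanish for all sufficiently negative i. -/
theorem result (X : Scheme.{u}) [CompactSpace ↥X] [QuasiSeparatedSpace ↥X]
    (P : DCoh.D X) (hP : DCoh.IsPerfect P) (E : DCoh.D X) (hE : DCoh.IsQCohD E) (a : ℤ) :
    (∃ N : ℤ, ∀ i : ℤ, i ≤ N → ∀ φ : P⟦-i⟧ ⟶ E, φ = 0) ↔
    (∃ N : ℤ, ∀ i : ℤ, i ≤ N → ∀ φ : P⟦-i⟧ ⟶ ((DerivedCategory.TStructure.t : CategoryTheory.Triangulated.TStructure (DCoh.D X)).truncLE a).obj E, φ = 0) := by
  obtain ⟨_, d, _, hd⟩ := Groth.Agent.H4.PSch4.bounded_of_isPerfect P hP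
  let t : Triangulated.TStructure (DCoh.D X) := DerivedCategory.TStructure.t
  haveI : t.IsLE P d := hd
  have hshift : ∀ i : ℤ, i ≤ a - d → t.IsLE (P⟦-i⟧) a := fun i hi => by
    haveI : t.IsLE (P⟦-i⟧) (d + i) := t.isLE_shift P d (-i) (d + i) (by ring)
    exact t.isLE_of_le _ (d + i) a (by omega)
  constructor
  · rintro ⟨N, hN⟩
    refine ⟨min N (a - d), fun i hi φ => ?_⟩
    haveI := hshift i (le_trans hi (min_le_right _ _))
    apply t.to_truncLE_obj_ext
    rw [hN i (le_trans hi (min_le_left _ _)) (φ ≫ (t.truncLEι a).app E), zero_comp]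
  · rintro ⟨N, hN⟩
    refine ⟨min N (a - d), fun i hi φ => ?_⟩
    haveI := hshift i (le_trans hi (min_le_right _ _))
    rw [← t.liftTruncLE_ι φ a, hN i (le_trans hi (min_le_left _ _)) (t.liftTruncLE φ a), zero_comp]

end Groth.Agent.S1023
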