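import Groth.Statements.S10232
import Groth.Agent.Lib.Helper3.AlgSpProp.OEtRegular
import Groth.Agent.Lib.Helper3.AlgSpProp.Support

set_option autoImplicit false
universe u
open CategoryTheory CategoryTheory.Limits AlgebraicGeometry Topology TopologicalSpace
open AlgSp

open Groth.Agent.H3.AlgSpProp Groth.Agent.H5.AlgSp

namespace Groth.Agent.S10232

/-- Let X be an algebraic space over a scheme S and x ∈ |X|. Then X is regular at x (for some etale
chart h_U ⟶ X and some point u of U over x, the local ring of U at u is regular) if and only if the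
etale local ring of X at x̄ is regular for every geometric point x̄ lying over x, if and only if it
is regular for some geometric point x̄ lying over x. -/
theorem result {S : Scheme.{u}} (X : AlgSp.Space S) (x : AlgSp.Points X.obj) :
    (AlgSp.HasAt (fun U u => IsRegularLocalRing ↥(U.presheaf.stalk u)) X.obj x ↔
      ∀ p : AlgSp.FieldPt X.obj, p.IsGeometric → AlgSp.Points.mk p = x → IsRegularLocalRing ↥(AlgSp.OEtStalk p)) ∧
    (AlgSp.HasAt (fun U u => IsRegularLocalRing ↥(U.presheaf.stalk u)) X.obj x ↔
      ∃ p : AlgSp.FieldPt X.obj, p.IsGeometric ∧ AlgSp.Points.mk p = x ∧ IsRegularLocalRing ↥(AlgSp.OEtStalk p)) := by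
  obtain ⟨p₀, hp₀, rfl⟩ := exists_geometric_point_of_point X.property x
  refine ⟨⟨fun h p hp hpx => ?_, fun h => ?_⟩, ⟨fun h => ?_, ?_⟩⟩
  · rw [← hpx] at h
    exact (hasAt_isRegularLocalRing_iff X.property p hp).1 h
  · exact (hasAt_isRegularLocalRing_iff X.property p₀ hp₀).2 (h p₀ hp₀ rfl)
  · exact ⟨p₀, hp₀, rfl, (hasAt_isRegularLocalRing_iff X.property p₀ hp₀).1 h⟩
  · rintro ⟨p, hp, hpx, h⟩
    rw [← hpx]
    exact (hasAt_isRegularLocalRing_iff X.property p hp).2 h

end Groth.Agent.S10232
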