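import Groth.Statements.S10239
import Groth.Agent.Lib.Helper3.AlgSpProp.OEtBranches
import Groth.Agent.Lib.Helper3.AlgSpProp.Support

set_option autoImplicit false
universe u
open CategoryTheory CategoryTheory.Limits AlgebraicGeometry Topology TopologicalSpace
open AlgSp

open Groth.Agent.H3.AlgSpProp Groth.Agent.H5.AlgSp

namespace Groth.Agent.S10239

/-- (1) ⇔ (4) ⇔ (5): let X be an algebraic space over a scheme S, x ∈ |X| and n ≥ 1 an integer. The
following are equivalent: (1) for every scheme U, etale h_U ⟶ X and u ∈ U over x the local ring of U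
at u has at most n minimal primes, and for some such (U, u) exactly n; (4) for every such (U, u) the
number of geometric branches of U at u is n; (5) for every geometric point x̄ over x the etale local
ring of X at x̄ has exactly n minimal primes. -/
theorem result {S : Scheme.{u}} (X : AlgSp.Space S) (x : AlgSp.Points X.obj)
    (n : ℕ) (hn : 1 ≤ n) :
    (((∀ (U : Over S) (a : (AlgSp.yon S).obj U ⟶ X.obj) (u : ↥U.left),
        AlgSp.RepWith @Etale a → AlgSp.Points.ofPt a u = x → (minimalPrimes ↥(U.left.presheaf.stalk u)).encard ≤ n) ∧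
        AlgSp.HasAt (fun U u => (minimalPrimes ↥(U.presheaf.stalk u)).encard = n) X.obj x) ↔
      (∀ (U : Over S) (a : (AlgSp.yon S).obj U ⟶ X.obj) (u : ↥U.left),
        AlgSp.RepWith @Etale a → AlgSp.Points.ofPt a u = x → Brnch.numGeomBranchesAt U.left u = n)) ∧
    ((∀ (U : Over S) (a : (AlgSp.yon S).obj U ⟶ X.obj) (u : ↥U.left),
        AlgSp.RepWith @Etale a → AlgSp.Points.ofPt a u = x → Brnch.numGeomBranchesAt U.left u = n) ↔
      ∀ p : AlgSp.FieldPt X.obj, p.IsGeometric → AlgSp.Points.mk p = x →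
        (minimalPrimes ↥(AlgSp.OEtStalk p)).encard = n) := by
  classical
  obtain ⟨p₀, hp₀, rfl⟩ := exists_geometric_point_of_point X.property x
  -- a chart through the point
  obtain ⟨U₀, a₀, hae₀, has₀⟩ := X.property.atlas
  obtain ⟨u₀, hu₀⟩ := ofPt_surjective_of_repWith has₀ (Points.mk p₀)
  have K : ∀ (p : AlgSp.FieldPt X.obj), p.IsGeometric → AlgSp.Points.mk p = Points.mk p₀ →
      ∀ (U : Over S) (a : (AlgSp.yon S).obj U ⟶ X.obj) (u : ↥U.left),
        AlgSp.RepWith @Etale a → AlgSp.Points.ofPt a u = Points.mk p₀ →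
        Brnch.numGeomBranchesAt U.left u = (minimalPrimes ↥(AlgSp.OEtStalk p)).encard :=
    fun p hp hpx U a u hae hu => numGeomBranchesAt_eq X.property p hp a hae u (hu.trans hpx.symm)
  have T1 : ∀ (U : Over S) (a : (AlgSp.yon S).obj U ⟶ X.obj) (u : ↥U.left),
        AlgSp.RepWith @Etale a → AlgSp.Points.ofPt a u = Points.mk p₀ →
        (minimalPrimes ↥(U.left.presheaf.stalk u)).encard ≤
          (minimalPrimes ↥(AlgSp.OEtStalk p₀)).encard :=
    fun U a u hae hu => encard_minimalPrimes_stalk_le X.property p₀ hp₀ a hae u hu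
  refine ⟨⟨?_, ?_⟩, ⟨?_, ?_⟩⟩
  · rintro ⟨hle, ⟨U₁, a₁, u₁, hae₁, hu₁, hcard₁⟩⟩
    have hN : (minimalPrimes ↥(AlgSp.OEtStalk p₀)).encard = n := by
      apply le_antisymm
      · by_contra hgt
        rw [not_le] at hgt
        have h1 : ((n + 1 : ℕ) : ℕ∞) ≤ (minimalPrimes ↥(AlgSp.OEtStalk p₀)).encard := by
          rw [Nat.cast_add, Nat.cast_one]
          exact Order.add_one_le_of_lt hgt
        obtain ⟨t, hts, htcard⟩ := Set.exists_subset_encard_eq h1
        have htfin : t.Finite := Set.finite_of_encard_eq_coe htcard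
        obtain ⟨Y, y, hY⟩ := exists_nbhd_card_le X.property p₀ hp₀ htfin.toFinset
          (fun P hP => hts (htfin.mem_toFinset.1 hP))
        have h2 : (htfin.toFinset.card : ℕ∞) = ((n + 1 : ℕ) : ℕ∞) := by
          rw [← htcard, htfin.encard_eq_coe_toFinset_card]
        rw [h2] at hY
        have h3 := hle Y.obj.left Y.obj.hom _ Y.property (ofPt_lift_closedPoint p₀ y)
        have h4 := hY.trans h3
        rw [Nat.cast_le] at h4
        omega
      · rw [← hcard₁]
        exact T1 U₁ a₁ u₁ hae₁ hu₁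
    intro U a u hae hu
    rw [K p₀ hp₀ rfl U a u hae hu, hN]
  · intro h4
    have hN : (minimalPrimes ↥(AlgSp.OEtStalk p₀)).encard = n := by
      rw [← K p₀ hp₀ rfl U₀ a₀ u₀ hae₀ hu₀]
      exact h4 U₀ a₀ u₀ hae₀ hu₀
    refine ⟨fun U a u hae hu => hN ▸ T1 U a u hae hu, ?_⟩
    have hfin : (minimalPrimes ↥(AlgSp.OEtStalk p₀)).Finite := Set.finite_of_encard_eq_coe hN
    obtain ⟨Y, y, hY⟩ := exists_nbhd_card_le X.property p₀ hp₀ hfin.toFinset
      (fun P hP => hfin.mem_toFinset.1 hP)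
    have h2 : (hfin.toFinset.card : ℕ∞) = (n : ℕ∞) := by
      rw [← hN, hfin.encard_eq_coe_toFinset_card]
    rw [h2] at hY
    have h3 := T1 Y.obj.left Y.obj.hom _ Y.property (ofPt_lift_closedPoint p₀ y)
    rw [hN] at h3
    exact ⟨Y.obj.left, Y.obj.hom, _, Y.property, ofPt_lift_closedPoint p₀ y, le_antisymm h3 hY⟩
  · intro h4 p hp hpx
    rw [← K p hp hpx U₀ a₀ u₀ hae₀ hu₀]
    exact h4 U₀ a₀ u₀ hae₀ hu₀
  · intro h5 U a u hae hu
    rw [K p₀ hp₀ rfl U a u hae hu]
    exact h5 p₀ hp₀ rfl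

end Groth.Agent.S10239
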