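import Groth.Statements.S10263
import Groth.Agent.Lib.Helper5.AlgSp.EtaleMor

set_option autoImplicit false
universe u
open CategoryTheory CategoryTheory.Limits AlgebraicGeometry
open AlgSp

namespace Groth.Agent.S10263

/-- If the composite X -> Y -> Z is unramified then X -> Y is unramified. -/
theorem result {S : Scheme.{u}} {X Y Z : AlgSp.Space S} (f : X ⟶ Y) (g : Y ⟶ Z)
    (h : AlgSp.LocP (@LocallyOfFiniteType ⊓ @FormallyUnramified) (f ≫ g).hom) :
    AlgSp.LocP (@LocallyOfFiniteType ⊓ @FormallyUnramified) f.hom := by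
  refine Groth.Agent.H5.AlgSp.locP_of_comp
    (P := (@LocallyOfFiniteType ⊓ @FormallyUnramified : MorphismProperty Scheme.{u}))
    (Pc := ⊤)
    (fun _ _ g (hg : Etale g) =>
      ⟨(inferInstance : LocallyOfFiniteType g), (inferInstance : FormallyUnramified g)⟩)
    (fun u v huv _ => ?_) Z.property h (fun _ _ _ _ _ _ _ _ => trivial)
  have : LocallyOfFiniteType (u ≫ v) := huv.1
  have : FormallyUnramified (u ≫ v) := huv.2
  exact ⟨locallyOfFiniteType_of_comp u v, FormallyUnramified.of_comp u v⟩

end Groth.Agent.S10263
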