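import Groth.Statements.S10268
import Groth.Agent.Lib.Helper5.Descent.AffineHomDescent
import Groth.Agent.Lib.Helper5.AlgSp.IntegralMor

set_option autoImplicit false
universe u
open CategoryTheory CategoryTheory.Limits AlgebraicGeometry
open AlgSp

namespace Groth.Agent.S10268

/-- (3) ⇒ (2): integrality and finiteness of a morphism of algebraic spaces descend along a surjective
etale base change from a scheme. -/
theorem result {S : Scheme.{u}} {X Y : AlgSp.Space S} (f : X ⟶ Y) (V : Over S)
    (p : (AlgSp.yon S).obj V ⟶ Y.obj) (hp : AlgSp.RepWith @Etale p) (hps : AlgSp.RepWith @Surjective p)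
    {P : AlgSp.Sp S} (fst : P ⟶ X.obj) (snd : P ⟶ (AlgSp.yon S).obj V) (sq : IsPullback fst snd f.hom p) :
    (AlgSp.IsIntegralMor snd → AlgSp.IsIntegralMor f.hom) ∧ (AlgSp.IsFiniteMor snd → AlgSp.IsFiniteMor f.hom) := by
  have hle1 : (@IsIntegralHom : MorphismProperty Scheme.{u}) ≤ @IsAffineHom :=
    fun _ _ _ h => by
      have := h
      infer_instance
  have hle2 : (@IsFinite : MorphismProperty Scheme.{u}) ≤ @IsAffineHom :=
    fun _ _ _ h => by
      have := h
      infer_instance
  have hb1 := Groth.Agent.H5.AlgSp.repWith_mono Groth.Agent.H5.AlgSp.etale_le_flat hp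
  have hb2 := Groth.Agent.H5.AlgSp.repWith_mono Groth.Agent.H5.AlgSp.etale_le_lfp hp
  constructor
  · intro h
    rw [Groth.Agent.H5.AlgSp.isIntegralMor_iff_repWith] at h ⊢
    exact Groth.Agent.H5.Descent.repWith_of_baseChange_of_le_isAffineHom hle1 hb1 hb2 hps sq h
  · intro h
    rw [Groth.Agent.H5.AlgSp.isFiniteMor_iff_repWith] at h ⊢
    exact Groth.Agent.H5.Descent.repWith_of_baseChange_of_le_isAffineHom hle2 hb1 hb2 hps sq h

end Groth.Agent.S10268
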