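import Groth.Statements.S10294
import Groth.Agent.Lib.Helper5.AlgSp.FinLocFree

set_option autoImplicit false
universe u
open CategoryTheory CategoryTheory.Limits AlgebraicGeometry
open AlgSp

namespace Groth.Agent.S10294

/-- Finite locally free is the same as finite, flat and locally of finite presentation; over a locally
Noetherian target it is the same as finite and flat. -/
theorem result {S : Scheme.{u}} {X Y : AlgSp.Space S} (f : X ⟶ Y) :
    (AlgSp.IsFinLocFreeMor f.hom ↔
      (AlgSp.IsFiniteMor f.hom ∧ AlgSp.LocP @Flat f.hom ∧ AlgSp.LocP @LocallyOfFinitePresentation f.hom)) ∧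
    (AlgSp.IsLocNoethSp Y.obj →
      (AlgSp.IsFinLocFreeMor f.hom ↔ (AlgSp.IsFiniteMor f.hom ∧ AlgSp.LocP @Flat f.hom))) := by
  exact ⟨Groth.Agent.H5.AlgSp.isFinLocFreeMor_iff_finite_flat_lfp Y.property,
    fun h => Groth.Agent.H5.AlgSp.isFinLocFreeMor_iff_finite_flat_of_isLocNoethSp Y.property h⟩

end Groth.Agent.S10294
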