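import Groth.Statements.S10304
import Groth.Agent.Lib.Helper3.AlgSpMor.LocFinIrrSp

set_option autoImplicit false
universe u
open CategoryTheory CategoryTheory.Limits AlgebraicGeometry
open AlgSp

namespace Groth.Agent.S10304

/-- Equivalent forms of the condition that the schemes etale over X have locally finitely many
irreducible components: one etale surjective chart, every etale chart, finiteness of codimension-0
points of quasi-compact spaces etale over X, finiteness of irreducible components of such spaces. -/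
theorem result {S : Scheme.{u}} (X : AlgSp.Space S) :
    (AlgSp.EtaleLocally (fun U => ∀ W : U.Opens, IsCompact (W : Set ↥U) → (irreducibleComponents ↥W).Finite) X.obj ↔
      ∀ (U : Over S) (a : (AlgSp.yon S).obj U ⟶ X.obj), AlgSp.RepWith @Etale a →
        ∀ W : U.left.Opens, IsCompact (W : Set ↥U.left) → (irreducibleComponents ↥W).Finite) ∧
    (AlgSp.EtaleLocally (fun U => ∀ W : U.Opens, IsCompact (W : Set ↥U) → (irreducibleComponents ↥W).Finite) X.obj ↔
      ∀ (Y : AlgSp.Space S) (g : Y ⟶ X), AlgSp.IsEtaleMor g.hom → AlgSp.IsQuasiCompactSp Y.obj →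
        {y : AlgSp.Points Y.obj |
          AlgSp.HasAt (fun U u => ringKrullDim ↥(U.presheaf.stalk u) = 0) Y.obj y}.Finite) ∧
    (AlgSp.EtaleLocally (fun U => ∀ W : U.Opens, IsCompact (W : Set ↥U) → (irreducibleComponents ↥W).Finite) X.obj ↔
      ∀ (Y : AlgSp.Space S) (g : Y ⟶ X), AlgSp.IsEtaleMor g.hom → AlgSp.IsQuasiCompactSp Y.obj →
        (irreducibleComponents (AlgSp.Points Y.obj)).Finite) := by
  refine ⟨Groth.Agent.H3.LocFinIrr.etaleLocally_lfi_iff_forall_chart X.property, ?_, ?_⟩
  · refine (Groth.Agent.H3.LocFinIrr.etaleLocally_lfi_iff_codim_zero X.property).trans ?_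
    exact ⟨fun h Y g hg hq => h Y.obj Y.property g.hom hg hq,
      fun h Y hY g hg hq => h ⟨Y, hY⟩ (ObjectProperty.homMk g) hg hq⟩
  · refine (Groth.Agent.H3.LocFinIrr.etaleLocally_lfi_iff_irreducibleComponents X.property).trans ?_
    exact ⟨fun h Y g hg hq => h Y.obj Y.property g.hom hg hq,
      fun h Y hY g hg hq => h ⟨Y, hY⟩ (ObjectProperty.homMk g) hg hq⟩

end Groth.Agent.S10304
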