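import Groth.Statements.S10305
import Groth.Agent.Lib.Helper8.AlgLCI.Basic
import Groth.Agent.Lib.Helper8.Synt.Kos2
-- import your own Groth.Agent.* helpers here

set_option autoImplicit false
universe u
open CategoryTheory CategoryTheory.Limits AlgebraicGeometry
open AlgSp

namespace Groth.Agent.S10305

/-- A smooth morphism of algebraic spaces is syntomic. -/
theorem result {S : Scheme.{u}} {X Y : AlgSp.Space S} (f : X ⟶ Y)
    (hf : AlgSp.LocP @Smooth f.hom) : AlgSp.IsSyntomicMor f.hom := by
  intro U V a b h ha hb comm
  have hs : Smooth h.left := hf a b h ha hb comm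
  change Synt.IsSyntomicMor h.left
  rw [← Groth.Agent.H8.SyntLocal.main9758]
  exact ⟨inferInstance,
    (Groth.Agent.H8.LCIHom.lcip_iff_forall_isKoszulAt h.left).mp
      (Groth.Agent.H8.LCIHom.lcip_of_smooth h.left)⟩

end Groth.Agent.S10305
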