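import Groth.Statements.S10309
import Mathlib
import Groth.Agent.Lib.Helper1.AlgSpDim4

set_option autoImplicit false
universe u
open CategoryTheory CategoryTheory.Limits AlgebraicGeometry
open AlgSp

namespace Groth.Agent.S10309

/-- For f locally of finite presentation, the locus where the relative dimension is at most n is
retrocompact in |X|. -/
theorem result {S : Scheme.{u}} {X Y : AlgSp.Space S} (f : X ⟶ Y)
    (hf : AlgSp.LocP @LocallyOfFinitePresentation f.hom) (n : ℕ) (V : Set (AlgSp.Points X.obj))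
    (hV : IsOpen V) (hVc : IsCompact V) :
    IsCompact (V ∩ {x : AlgSp.Points X.obj |
      AlgSp.HasAtMor (fun _ _ h u => FlatMor.fibreDimAt h u ≤ (n : WithBot ℕ∞)) f.hom x}) := by
  have hf' : AlgSp.LocP @LocallyOfFiniteType f.hom := fun U V a b h ha hb comm =>
    haveI : LocallyOfFinitePresentation h.left := hf a b h ha hb comm
    (inferInstance : LocallyOfFiniteType h.left)
  obtain ⟨W, c, hce, hcs⟩ := Y.property.atlas
  obtain ⟨U, a, h, hae, has, comm⟩ :=
    Groth.Agent.H5.AlgSp.exists_chart_diagram_surj X.property f.hom hce hcs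
  haveI : LocallyOfFinitePresentation h.left := hf a c h hae hce comm
  obtain ⟨K, hKc, hKV⟩ := Groth.Agent.H1.AlgSpDim.exists_compact_opens_image_eq a hae V hV hVc
    (fun x _ => Groth.Agent.H5.AlgSp.ofPt_surjective_of_repWith has x)
  have hret := Groth.Agent.H1.FibDimFP.isRetrocompact_fibreDimAt_le h.left n hKc K.2
  have heq : V ∩ {x : AlgSp.Points X.obj |
      AlgSp.HasAtMor (fun _ _ h u => FlatMor.fibreDimAt h u ≤ (n : WithBot ℕ∞)) f.hom x} =
      AlgSp.Points.ofPt a '' ({x : ↥U.left | FlatMor.fibreDimAt h.left x ≤ n} ∩ (K : Set ↥U.left)) := by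
    apply Set.Subset.antisymm
    · rintro x ⟨hxV, hxE⟩
      rw [← hKV] at hxV
      obtain ⟨u, hu, rfl⟩ := hxV
      refine ⟨u, ⟨?_, hu⟩, rfl⟩
      exact Groth.Agent.H1.AlgSpDim.hasAtMor_chart
        (Groth.Agent.H1.AlgSpDim.etLocal_fibreDimAt_pred (fun d => d ≤ (n : WithBot ℕ∞)))
        hf' a c h hae hce comm u hxE
    · rintro _ ⟨u, ⟨hu1, hu2⟩, rfl⟩
      refine ⟨?_, ?_⟩
      · rw [← hKV]; exact ⟨u, hu2, rfl⟩
      · exact ⟨U, W, a, c, h, u, hae, hce, comm, rfl, hu1⟩
  rw [heq]
  exact hret.image (AlgSp.Points.continuous_ofPt a)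

end Groth.Agent.S10309
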