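import Groth.Statements.S10310
import Mathlib
import Groth.Agent.Lib.Helper1.AlgSpDim3

set_option autoImplicit false
universe u
open CategoryTheory CategoryTheory.Limits AlgebraicGeometry
open AlgSp

namespace Groth.Agent.S10310

/-- A morphism locally of finite type is locally quasi-finite if and only if it has relative dimension 0
at every point. -/
theorem result {S : Scheme.{u}} {X Y : AlgSp.Space S} (f : X ⟶ Y)
    (hf : AlgSp.LocP @LocallyOfFiniteType f.hom) :
    AlgSp.LocP (@LocallyQuasiFinite ⊓ @LocallyOfFiniteType) f.hom ↔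
      ∀ x : AlgSp.Points X.obj, AlgSp.HasAtMor (fun _ _ h u => FlatMor.fibreDimAt h u = 0) f.hom x := by
  constructor
  · intro hq x
    obtain ⟨V, b, hbe, hbs⟩ := Y.property.atlas
    obtain ⟨U, a, h, hae, has, comm⟩ :=
      Groth.Agent.H5.AlgSp.exists_chart_diagram_surj X.property f.hom hbe hbs
    obtain ⟨u, rfl⟩ := Groth.Agent.H5.AlgSp.ofPt_surjective_of_repWith has x
    refine ⟨U, V, a, b, h, u, hae, hbe, comm, rfl, ?_⟩
    haveI : LocallyOfFiniteType h.left := hf a b h hae hbe comm
    haveI : LocallyQuasiFinite h.left := (hq a b h hae hbe comm).1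
    exact (Groth.Agent.H1.QFDim.locallyQuasiFinite_iff_fibreDimAt h.left).mp inferInstance u
  · intro hx U V a b h ha hb comm
    haveI : LocallyOfFiniteType h.left := hf a b h ha hb comm
    refine ⟨?_, inferInstance⟩
    rw [Groth.Agent.H1.QFDim.locallyQuasiFinite_iff_fibreDimAt]
    intro u
    exact Groth.Agent.H1.AlgSpDim.hasAtMor_chart (Groth.Agent.H1.AlgSpDim.etLocal_fibreDimAt_eq 0)
      hf a b h ha hb comm u (hx _)

end Groth.Agent.S10310
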