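import Groth.Statements.S10313
import Mathlib
import Groth.Agent.Lib.Helper1.AlgSpQF
import Groth.Agent.Lib.Helper5.AlgSp.OpenSubspace
import Groth.Agent.S10308

set_option autoImplicit false
universe u
open CategoryTheory CategoryTheory.Limits AlgebraicGeometry
open AlgSp

namespace Groth.Agent.S10313

/-- For f locally of finite type there is an open subspace of X on which f is locally quasi-finite,
outside of which the relative dimension is at least 1, and whose formation commutes with base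
change. -/
theorem result {S : Scheme.{u}} {X Y : AlgSp.Space S} (f : X ⟶ Y)
    (hf : AlgSp.LocP @LocallyOfFiniteType f.hom) :
    ∃ (X' : AlgSp.Space S) (j : X' ⟶ X), AlgSp.RepWith @IsOpenImmersion j.hom ∧
      AlgSp.LocP (@LocallyQuasiFinite ⊓ @LocallyOfFiniteType) (j ≫ f).hom ∧
      (∀ x : AlgSp.Points X.obj, x ∉ Set.range (AlgSp.Points.map j.hom) →
        AlgSp.HasAtMor (fun _ _ h u => 1 ≤ FlatMor.fibreDimAt h u) f.hom x) ∧
      ∀ (Y'' X'' : AlgSp.Space S) (g : Y'' ⟶ Y) (b : X'' ⟶ X) (f'' : X'' ⟶ Y''),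
        IsPullback b.hom f''.hom f.hom g.hom → ∀ x'' : AlgSp.Points X''.obj,
          AlgSp.Points.map b.hom x'' ∈ Set.range (AlgSp.Points.map j.hom) ↔ AlgSp.HasAtMor (fun U _ h u => ∃ W : U.Opens, u ∈ W ∧ LocallyQuasiFinite (W.ι ≫ h) ∧ LocallyOfFiniteType (W.ι ≫ h)) f''.hom x'' := by
  have hW := Groth.Agent.S10308.result f hf 0
  set W : Set (AlgSp.Points X.obj) := {x : AlgSp.Points X.obj |
      AlgSp.HasAtMor (fun _ _ h u => FlatMor.fibreDimAt h u ≤ ((0 : ℕ) : WithBot ℕ∞)) f.hom x} with hWdef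
  have hj : AlgSp.RepWith @IsOpenImmersion (Groth.Agent.H5.AlgSp.openSubι X.obj W) :=
    Groth.Agent.H5.AlgSp.repWith_openSubι hW
  have hrange := Groth.Agent.H5.AlgSp.range_points_map_openSubι W
  refine ⟨⟨Groth.Agent.H5.AlgSp.openSub X.obj W, Groth.Agent.H5.AlgSp.isAlgSpace_openSub X.property hW⟩,
    ObjectProperty.homMk (Groth.Agent.H5.AlgSp.openSubι X.obj W), hj, ?_, ?_, ?_⟩
  · intro U V a b h ha hb comm
    have hje : AlgSp.RepWith @Etale (Groth.Agent.H5.AlgSp.openSubι X.obj W) :=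
      Groth.Agent.H5.AlgSp.repWith_mono (fun _ _ g (_ : IsOpenImmersion g) => (inferInstance : Etale g)) hj
    have hae : AlgSp.RepWith @Etale (a ≫ Groth.Agent.H5.AlgSp.openSubι X.obj W) :=
      (AlgSp.RepWith @Etale).comp_mem _ _ ha hje
    have comm' : (a ≫ Groth.Agent.H5.AlgSp.openSubι X.obj W) ≫ f.hom = (AlgSp.yon S).map h ≫ b := by
      rw [Category.assoc]; exact comm
    haveI : LocallyOfFiniteType h.left := hf _ b h hae hb comm'
    refine ⟨?_, inferInstance⟩
    rw [Groth.Agent.H1.QFDim.locallyQuasiFinite_iff_fibreDimAt]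
    intro u
    have hu : AlgSp.Points.ofPt (a ≫ Groth.Agent.H5.AlgSp.openSubι X.obj W) u ∈ W := by
      rw [← AlgSp.Points.map_ofPt]
      exact (Set.ext_iff.1 hrange _).1 ⟨_, rfl⟩
    have := Groth.Agent.H1.AlgSpDim.hasAtMor_chart
      (Groth.Agent.H1.AlgSpDim.etLocal_fibreDimAt_pred (fun e => e ≤ ((0 : ℕ) : WithBot ℕ∞)))
      hf _ b h hae hb comm' u hu
    exact le_antisymm this (Groth.Agent.H1.Chev.zero_le_fibreDimAt h.left u)
  · intro x hx
    change x ∉ Set.range (AlgSp.Points.map (Groth.Agent.H5.AlgSp.openSubι X.obj W)) at hx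
    rw [hrange] at hx
    obtain ⟨V, b, hbe, hbs⟩ := Y.property.atlas
    obtain ⟨U, a, h, hae, has, comm⟩ :=
      Groth.Agent.H5.AlgSp.exists_chart_diagram_surj X.property f.hom hbe hbs
    obtain ⟨u, rfl⟩ := Groth.Agent.H5.AlgSp.ofPt_surjective_of_repWith has x
    refine ⟨U, V, a, b, h, u, hae, hbe, comm, rfl, ?_⟩
    apply Groth.Agent.H1.AlgSpDim.one_le_of_not_le_zero
    intro hle
    exact hx ⟨U, V, a, b, h, u, hae, hbe, comm, rfl, hle⟩
  · intro Y'' X'' g b f'' sq x''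
    change AlgSp.Points.map b.hom x'' ∈ Set.range (AlgSp.Points.map (Groth.Agent.H5.AlgSp.openSubι X.obj W)) ↔ _
    rw [hrange]
    have hf'' : AlgSp.LocP @LocallyOfFiniteType f''.hom :=
      Groth.Agent.H5.AlgSp.locP_of_isPullback Groth.Agent.H1.AlgSpDim.etale_le_lft sq
        X.property Y.property Y''.property hf
    have h1 := Groth.Agent.H1.AlgSpDim.hasAtMor_base_change
      (Groth.Agent.H1.AlgSpDim.etLocal_fibreDimAt_pred (fun e => e ≤ ((0 : ℕ) : WithBot ℕ∞)))
      (Groth.Agent.H1.AlgSpDim.bcLocal_fibreDimAt_pred (fun e => e ≤ ((0 : ℕ) : WithBot ℕ∞)))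
      X.property Y.property Y''.property sq hf x''
    have h2 := Groth.Agent.H1.AlgSpDim.hasAtMor_congr
      (Q₁ := fun _ _ h u => FlatMor.fibreDimAt h u ≤ ((0 : ℕ) : WithBot ℕ∞))
      (Q₂ := fun U _ h u => ∃ W : U.Opens, u ∈ W ∧ LocallyQuasiFinite (W.ι ≫ h) ∧ LocallyOfFiniteType (W.ι ≫ h))
      hf'' (fun U V h u hh => by
        haveI := hh
        exact Groth.Agent.H1.AlgSpDim.fibreDimAt_le_zero_iff_exists_opens h u) x''
    rw [← h2, h1]
    rfl

end Groth.Agent.S10313
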