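import Groth.Statements.S10314
import Mathlib
import Groth.Agent.Lib.Helper1.AlgSpDim2

set_option autoImplicit false
universe u
open CategoryTheory CategoryTheory.Limits AlgebraicGeometry
open AlgSp

namespace Groth.Agent.S10314

/-- For a flat morphism locally of finite type of relative dimension d between locally Noetherian
algebraic spaces, the dimension of X at a point equals the dimension of Y at the image point plus d. -/
theorem result {S : Scheme.{u}} {X Y : AlgSp.Space S} (f : X ⟶ Y)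
    (hX : AlgSp.IsLocNoethSp X.obj) (hY : AlgSp.IsLocNoethSp Y.obj) (hf : AlgSp.LocP @Flat f.hom)
    (hf' : AlgSp.LocP @LocallyOfFiniteType f.hom) (d : ℕ)
    (hd : ∀ x : AlgSp.Points X.obj, AlgSp.HasAtMor (fun _ _ h u => FlatMor.fibreDimAt h u = (d : WithBot ℕ∞)) f.hom x)
    (x : AlgSp.Points X.obj) (dX dY : WithBot ℕ∞) (hx : AlgSp.HasAt (fun U u => FlatMor.localDim ↥U u = dX) X.obj x)
    (hy : AlgSp.HasAt (fun U u => FlatMor.localDim ↥U u = dY) Y.obj (AlgSp.Points.map f.hom x)) :
    dX = dY + (d : WithBot ℕ∞) := by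
  obtain ⟨U, V, a, b, h, u, ha, hb, comm, hu, hQ⟩ := hd x
  subst hu
  haveI : IsLocallyNoetherian U.left :=
    Groth.Agent.H3.AlgSpCov.isLocallyNoetherian_of_etale_of_isLocNoethSp hX a ha
  haveI : IsLocallyNoetherian V.left :=
    Groth.Agent.H3.AlgSpCov.isLocallyNoetherian_of_etale_of_isLocNoethSp hY b hb
  haveI : Flat h.left := hf a b h ha hb comm
  haveI : LocallyOfFiniteType h.left := hf' a b h ha hb comm
  have hall : ∀ u' : U.left, FlatMor.fibreDimAt h.left u' = d := fun u' =>
    Groth.Agent.H1.AlgSpDim.hasAtMor_chart (Groth.Agent.H1.AlgSpDim.etLocal_fibreDimAt_eq d) hf'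
      a b h ha hb comm u' (hd _)
  have hdX := Groth.Agent.H1.AlgSpDim.hasAt_chart
    (Groth.Agent.H1.AlgSpDim.etLocalPt_localDim_eq dX) a ha u hx
  rw [Groth.Agent.H1.AlgSpDim.map_ofPt_chart a b h comm u] at hy
  have hdY := Groth.Agent.H1.AlgSpDim.hasAt_chart
    (Groth.Agent.H1.AlgSpDim.etLocalPt_localDim_eq dY) b hb (h.left u) hy
  rw [← hdX, ← hdY]
  exact Groth.Agent.H1.FlatRelDim.localDim_eq_add_of_flat h.left d hall u

end Groth.Agent.S10314
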