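import Groth.Statements.S10315
import Mathlib
import Groth.Agent.Lib.Helper1.AlgSpDim2

set_option autoImplicit false
universe u
open CategoryTheory CategoryTheory.Limits AlgebraicGeometry
open AlgSp

namespace Groth.Agent.S10315

/-- For a smooth morphism of locally Noetherian algebraic spaces, the dimension of X at x is the
dimension of Y at the image of x plus the relative dimension of f at x. -/
theorem result {S : Scheme.{u}} {X Y : AlgSp.Space S} (f : X ⟶ Y)
    (hX : AlgSp.IsLocNoethSp X.obj) (hY : AlgSp.IsLocNoethSp Y.obj) (hf : AlgSp.LocP @Smooth f.hom)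
    (x : AlgSp.Points X.obj) (d dX dY : WithBot ℕ∞)
    (hd : AlgSp.HasAtMor (fun _ _ h u => FlatMor.fibreDimAt h u = d) f.hom x)
    (hx : AlgSp.HasAt (fun U u => FlatMor.localDim ↥U u = dX) X.obj x)
    (hy : AlgSp.HasAt (fun U u => FlatMor.localDim ↥U u = dY) Y.obj (AlgSp.Points.map f.hom x)) :
    dX = dY + d := by
  obtain ⟨U, V, a, b, h, u, ha, hb, comm, hu, hQ⟩ := hd
  subst hu
  haveI : IsLocallyNoetherian V.left :=
    Groth.Agent.H3.AlgSpCov.isLocallyNoetherian_of_etale_of_isLocNoethSp hY b hb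
  haveI : Smooth h.left := hf a b h ha hb comm
  have hdX := Groth.Agent.H1.AlgSpDim.hasAt_chart
    (Groth.Agent.H1.AlgSpDim.etLocalPt_localDim_eq dX) a ha u hx
  rw [Groth.Agent.H1.AlgSpDim.map_ofPt_chart a b h comm u] at hy
  have hdY := Groth.Agent.H1.AlgSpDim.hasAt_chart
    (Groth.Agent.H1.AlgSpDim.etLocalPt_localDim_eq dY) b hb (h.left u) hy
  rw [← hdX, ← hdY, ← hQ]
  exact Groth.Agent.H1.SmoothDim.localDim_eq_add_of_smooth h.left u

end Groth.Agent.S10315
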