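import Groth.Statements.S10316
import Mathlib
import Groth.Agent.Lib.Helper1.AlgSpDim3
import Groth.Agent.Lib.Helper1.ResFin

set_option autoImplicit false
universe u
open CategoryTheory CategoryTheory.Limits AlgebraicGeometry
open AlgSp

namespace Groth.Agent.S10316

/-- For X -> Y locally quasi-finite and Y -> Z locally of finite type, the transcendence degree of x
over Z equals that of its image y over Z. -/
theorem result {S : Scheme.{u}} {X Y Z : AlgSp.Space S} (f : X ⟶ Y) (g : Y ⟶ Z)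
    (hf : AlgSp.LocP (@LocallyQuasiFinite ⊓ @LocallyOfFiniteType) f.hom) (hg : AlgSp.LocP @LocallyOfFiniteType g.hom)
    (x : AlgSp.Points X.obj) (r : Cardinal.{u}) :
    AlgSp.HasAtMor (fun _ _ h u => Dual3.resTrdeg h u = r) (f ≫ g).hom x ↔
      AlgSp.HasAtMor (fun _ _ h u => Dual3.resTrdeg h u = r) g.hom (AlgSp.Points.map f.hom x) := by
  have hf' : AlgSp.LocP @LocallyOfFiniteType f.hom := fun U V a b h ha hb comm => (hf a b h ha hb comm).2
  have hfg : AlgSp.LocP @LocallyOfFiniteType (f ≫ g).hom :=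
    Groth.Agent.H5.AlgSp.locP_comp (fun _ _ g (_ : Etale g) => (inferInstance : LocallyOfFiniteType g)) X.property Y.property Z.property hf' hg
  obtain ⟨W, c, hce, hcs⟩ := Z.property.atlas
  obtain ⟨V, b', h₂, hbe, hbs, comm₂⟩ :=
    Groth.Agent.H5.AlgSp.exists_chart_diagram_surj Y.property g.hom hce hcs
  obtain ⟨U, a', h₁, hae, has, comm₁⟩ :=
    Groth.Agent.H5.AlgSp.exists_chart_diagram_surj X.property f.hom hbe hbs
  obtain ⟨u, rfl⟩ := Groth.Agent.H5.AlgSp.ofPt_surjective_of_repWith has x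
  have comm : a' ≫ (f ≫ g).hom = (AlgSp.yon S).map (h₁ ≫ h₂) ≫ c := by
    change a' ≫ f.hom ≫ g.hom = _
    rw [← Category.assoc, comm₁, Category.assoc, comm₂, Functor.map_comp, Category.assoc]
  haveI hq : LocallyQuasiFinite h₁.left := (hf a' b' h₁ hae hbe comm₁).1
  have e₁ : Dual3.resTrdeg h₁.left u = 0 := by
    have hfin := Groth.Agent.H1.ResFin.finite_residueFieldMap_of_quasiFiniteAt h₁.left
      (x := u) (h₁.left.quasiFiniteAt u)
    unfold Dual3.resTrdeg
    letI := (h₁.left.residueFieldMap u).hom.toAlgebra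
    haveI : Module.Finite (V.left.residueField (h₁.left u)) (U.left.residueField u) := hfin
    exact trdeg_eq_zero
  have key := Groth.Agent.H1.AlgSpDim.resTrdeg_comp h₁.left h₂.left u
  rw [e₁, add_zero] at key
  rw [Groth.Agent.H1.AlgSpDim.map_ofPt_chart a' b' h₁ comm₁ u]
  constructor
  · intro h
    have e : Dual3.resTrdeg (h₁ ≫ h₂).left u = r :=
      Groth.Agent.H1.AlgSpDim.hasAtMor_chart (Groth.Agent.H1.AlgSpDim.etLocal_resTrdeg_eq r)
        hfg a' c (h₁ ≫ h₂) hae hce comm u h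
    refine ⟨V, W, b', c, h₂, h₁.left u, hbe, hce, comm₂, rfl, ?_⟩
    change Dual3.resTrdeg h₂.left (h₁.left u) = r
    rw [← key]; exact e
  · intro h
    have e₂ : Dual3.resTrdeg h₂.left (h₁.left u) = r :=
      Groth.Agent.H1.AlgSpDim.hasAtMor_chart (Groth.Agent.H1.AlgSpDim.etLocal_resTrdeg_eq r)
        hg b' c h₂ hbe hce comm₂ (h₁.left u) h
    refine ⟨U, W, a', c, h₁ ≫ h₂, u, hae, hce, comm, rfl, ?_⟩
    change Dual3.resTrdeg (h₁.left ≫ h₂.left) u = r
    rw [key, e₂]

end Groth.Agent.S10316
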