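import Groth.Statements.S10318
import Mathlib
import Groth.Agent.Lib.Helper1.AlgSpDim3
import Groth.Agent.Lib.Helper1.JacobsonTrdeg

set_option autoImplicit false
universe u
open CategoryTheory CategoryTheory.Limits AlgebraicGeometry
open AlgSp

namespace Groth.Agent.S10318

/-- Over a Jacobson algebraic space, a finite type point of a space locally of finite type over it has
transcendence degree 0 over its image. -/
theorem result {S : Scheme.{u}} {X Y : AlgSp.Space S} (f : X ⟶ Y)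
    (hf : AlgSp.LocP @LocallyOfFiniteType f.hom) (hY : AlgSp.EtaleLocally (fun U => JacobsonSpace ↥U) Y.obj)
    (x : AlgSp.Points X.obj) (hx : AlgSp.HasAt (fun U u => IsClosed ({u} : Set ↥U)) X.obj x) :
    AlgSp.HasAtMor (fun _ _ h u => Dual3.resTrdeg h u = 0) f.hom x := by
  obtain ⟨V, b, hbe, hbs, hJ⟩ := hY
  obtain ⟨U₀, a₀, u₀, ha₀e, rfl, hu₀⟩ := hx
  obtain ⟨U₁, a₁, h₁, ha₁e, ha₁s, comm₁⟩ :=
    Groth.Agent.H5.AlgSp.exists_chart_diagram_surj (AlgSp.IsAlgSpace.yon_obj U₀) (a₀ ≫ f.hom) hbe hbs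
  obtain ⟨p₀, hp₀⟩ := (AlgSp.yon S).map_surjective a₁
  haveI hp₀e : Etale p₀.left := (AlgSp.repWith_yon_map_iff @Etale p₀).1 (by rw [hp₀]; exact ha₁e)
  haveI : LocallyQuasiFinite p₀.left := Groth.Agent.H5.AlgSp.locallyQuasiFinite_of_etale _
  have hp₀s : Surjective p₀.left := (AlgSp.repWith_yon_map_iff @Surjective p₀).1 (by rw [hp₀]; exact ha₁s)
  obtain ⟨u₁, hu₁⟩ := hp₀s.surj u₀
  have hae : AlgSp.RepWith @Etale (a₁ ≫ a₀) := (AlgSp.RepWith @Etale).comp_mem _ _ ha₁e ha₀e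
  have comm : (a₁ ≫ a₀) ≫ f.hom = (AlgSp.yon S).map h₁ ≫ b := by
    rw [Category.assoc, comm₁]
  haveI : LocallyOfFiniteType h₁.left := hf (a₁ ≫ a₀) b h₁ hae hbe comm
  haveI : JacobsonSpace ↥V.left := hJ
  have hcl : IsClosed ({u₁} : Set ↥U₁.left) :=
    Groth.Agent.H1.JacobsonTrdeg.isClosed_singleton_of_locallyQuasiFinite p₀.left u₁ (by rw [hu₁]; exact hu₀)
  refine ⟨U₁, V, a₁ ≫ a₀, b, h₁, u₁, hae, hbe, comm, ?_, ?_⟩
  · rw [← hp₀, Groth.Agent.H5.AlgSp.ofPt_yon_map_comp, hu₁]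
  · exact Groth.Agent.H1.JacobsonTrdeg.resTrdeg_eq_zero_of_jacobson h₁.left u₁ hcl

end Groth.Agent.S10318
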