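import Groth.Statements.S10319
import Mathlib
import Groth.Agent.Lib.Helper1.AlgSpDim3

set_option autoImplicit false
universe u
open CategoryTheory CategoryTheory.Limits AlgebraicGeometry
open AlgSp

namespace Groth.Agent.S10319

/-- Transcendence degrees at a point add up along a composition of morphisms locally of finite type. -/
theorem result {S : Scheme.{u}} {X Y Z : AlgSp.Space S} (f : X ⟶ Y) (g : Y ⟶ Z)
    (hf : AlgSp.LocP @LocallyOfFiniteType f.hom) (hg : AlgSp.LocP @LocallyOfFiniteType g.hom)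
    (x : AlgSp.Points X.obj) (r₁ r₂ : Cardinal.{u})
    (h1 : AlgSp.HasAtMor (fun _ _ h u => Dual3.resTrdeg h u = r₁) f.hom x)
    (h2 : AlgSp.HasAtMor (fun _ _ h u => Dual3.resTrdeg h u = r₂) g.hom (AlgSp.Points.map f.hom x)) :
    AlgSp.HasAtMor (fun _ _ h u => Dual3.resTrdeg h u = r₁ + r₂) (f ≫ g).hom x := by
  obtain ⟨W, c, hce, hcs⟩ := Z.property.atlas
  obtain ⟨V, b', h₂, hbe, hbs, comm₂⟩ :=
    Groth.Agent.H5.AlgSp.exists_chart_diagram_surj Y.property g.hom hce hcs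
  obtain ⟨U, a', h₁, hae, has, comm₁⟩ :=
    Groth.Agent.H5.AlgSp.exists_chart_diagram_surj X.property f.hom hbe hbs
  obtain ⟨u, rfl⟩ := Groth.Agent.H5.AlgSp.ofPt_surjective_of_repWith has x
  have e₁ : Dual3.resTrdeg h₁.left u = r₁ :=
    Groth.Agent.H1.AlgSpDim.hasAtMor_chart (Groth.Agent.H1.AlgSpDim.etLocal_resTrdeg_eq r₁)
      hf a' b' h₁ hae hbe comm₁ u h1
  rw [Groth.Agent.H1.AlgSpDim.map_ofPt_chart a' b' h₁ comm₁ u] at h2
  have e₂ : Dual3.resTrdeg h₂.left (h₁.left u) = r₂ :=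
    Groth.Agent.H1.AlgSpDim.hasAtMor_chart (Groth.Agent.H1.AlgSpDim.etLocal_resTrdeg_eq r₂)
      hg b' c h₂ hbe hce comm₂ (h₁.left u) h2
  have comm : a' ≫ (f ≫ g).hom = (AlgSp.yon S).map (h₁ ≫ h₂) ≫ c := by
    change a' ≫ f.hom ≫ g.hom = _
    rw [← Category.assoc, comm₁, Category.assoc, comm₂, Functor.map_comp, Category.assoc]
  have key := Groth.Agent.H1.AlgSpDim.resTrdeg_comp h₁.left h₂.left u
  rw [e₁, e₂] at key
  refine ⟨U, W, a', c, h₁ ≫ h₂, u, hae, hce, comm, rfl, ?_⟩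
  change Dual3.resTrdeg (h₁.left ≫ h₂.left) u = r₁ + r₂
  rw [key, add_comm]

end Groth.Agent.S10319
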