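import Groth.Statements.S10323
import Mathlib
import Groth.Agent.Lib.Helper1.AlgSpFibDim
import Groth.Agent.Lib.Helper1.DimIneqE

set_option autoImplicit false
universe u
open CategoryTheory CategoryTheory.Limits AlgebraicGeometry
open AlgSp

namespace Groth.Agent.S10323

/-- For Y locally Noetherian and f locally of finite type, the dimension of the local ring of X at x is
at most the dimension of the local ring of Y at the image point plus E minus the transcendence
degree of x over its image, where E bounds the transcendence degrees of the codimension-0 points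
specializing to x. -/
theorem result {S : Scheme.{u}} {X Y : AlgSp.Space S} (f : X ⟶ Y)
    (hY : AlgSp.IsLocNoethSp Y.obj) (hf : AlgSp.LocP @LocallyOfFiniteType f.hom) (x : AlgSp.Points X.obj)
    (E : Cardinal.{u})
    (hE : ∀ ξ : AlgSp.Points X.obj, ξ ⤳ x → AlgSp.HasAt (fun U u => ringKrullDim ↥(U.presheaf.stalk u) = 0) X.obj ξ →
      ∀ s : Cardinal.{u}, AlgSp.HasAtMor (fun _ _ h u => Dual3.resTrdeg h u = s) f.hom ξ → s ≤ E)
    (a b : WithBot ℕ∞) (r : Cardinal.{u})
    (ha : AlgSp.HasAt (fun U u => ringKrullDim ↥(U.presheaf.stalk u) = a) X.obj x)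
    (hb : AlgSp.HasAt (fun U u => ringKrullDim ↥(U.presheaf.stalk u) = b) Y.obj (AlgSp.Points.map f.hom x))
    (hr : AlgSp.HasAtMor (fun _ _ h u => Dual3.resTrdeg h u = r) f.hom x) :
    a + ((Cardinal.toENat r : ℕ∞) : WithBot ℕ∞) ≤ b + ((Cardinal.toENat E : ℕ∞) : WithBot ℕ∞) := by
  obtain ⟨V, b', hbe, hbs, hVn⟩ := hY
  obtain ⟨U, a', h, hae, has, comm⟩ :=
    Groth.Agent.H5.AlgSp.exists_chart_diagram_surj X.property f.hom hbe hbs
  obtain ⟨u, rfl⟩ := Groth.Agent.H5.AlgSp.ofPt_surjective_of_repWith has x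
  haveI : LocallyOfFiniteType h.left := hf a' b' h hae hbe comm
  haveI : IsLocallyNoetherian V.left := hVn
  have ea : ringKrullDim ↥(U.left.presheaf.stalk u) = a :=
    Groth.Agent.H1.AlgSpDim.hasAt_chart
      (Groth.Agent.H1.AlgSpDim.etLocalPt_stalkDim_pred (fun d => d = a)) a' hae u ha
  rw [Groth.Agent.H1.AlgSpDim.map_ofPt_chart a' b' h comm u] at hb
  have eb : ringKrullDim ↥(V.left.presheaf.stalk (h.left u)) = b :=
    Groth.Agent.H1.AlgSpDim.hasAt_chart
      (Groth.Agent.H1.AlgSpDim.etLocalPt_stalkDim_pred (fun d => d = b)) b' hbe (h.left u) hb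
  have er : Dual3.resTrdeg h.left u = r :=
    Groth.Agent.H1.AlgSpDim.hasAtMor_chart (Groth.Agent.H1.AlgSpDim.etLocal_resTrdeg_eq r)
      hf a' b' h hae hbe comm u hr
  have key := Groth.Agent.H1.DimIneq.stalk_dim_add_resTrdeg_le h.left u E (by
    intro ξ hξ hdim
    exact hE (AlgSp.Points.ofPt a' ξ) (hξ.map (AlgSp.Points.continuous_ofPt a'))
      ⟨U, a', ξ, hae, rfl, hdim⟩ _ ⟨U, V, a', b', h, ξ, hae, hbe, comm, rfl, rfl⟩)
  rw [ea, eb, er] at key
  exact key

end Groth.Agent.S10323
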