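import Groth.Statements.S10324
import Mathlib
import Groth.Agent.Lib.Helper1.AlgSpFibDim
import Groth.Agent.Lib.Helper1.DimIneqE
import Groth.Agent.Lib.Helper3.AG.FibreDim

set_option autoImplicit false
universe u
open CategoryTheory CategoryTheory.Limits AlgebraicGeometry
open AlgSp

namespace Groth.Agent.S10324

/-- For Y locally Noetherian and f : X -> Y locally of finite type, dim X ≤ dim Y + E where E bounds the
transcendence degrees over Y of the codimension-0 points of X. -/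
theorem result {S : Scheme.{u}} {X Y : AlgSp.Space S} (f : X ⟶ Y)
    (hY : AlgSp.IsLocNoethSp Y.obj) (hf : AlgSp.LocP @LocallyOfFiniteType f.hom) (E : Cardinal.{u})
    (hE : ∀ ξ : AlgSp.Points X.obj, AlgSp.HasAt (fun U u => ringKrullDim ↥(U.presheaf.stalk u) = 0) X.obj ξ → ∀ s : Cardinal.{u}, AlgSp.HasAtMor (fun _ _ h u => Dual3.resTrdeg h u = s) f.hom ξ → s ≤ E) :
    AlgSp.dim X.obj ≤ AlgSp.dim Y.obj + ((Cardinal.toENat E : ℕ∞) : WithBot ℕ∞) := by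
  obtain ⟨V, b', hbe, hbs, hVn⟩ := hY
  haveI : IsLocallyNoetherian V.left := hVn
  have hVY : topologicalKrullDim ↥V.left ≤ AlgSp.dim Y.obj := by
    unfold AlgSp.dim
    exact le_iSup_of_le V (le_iSup_of_le b' (le_iSup_of_le hbe le_rfl))
  unfold AlgSp.dim
  refine iSup_le fun U₀ => iSup_le fun a₀ => iSup_le fun ha₀e => ?_
  rw [Groth.Agent.H3.FibreDim.scheme_dim_eq_iSup_stalk]
  refine iSup_le fun u => ?_
  obtain ⟨U₁, a₁, h₁, ha₁e, ha₁s, comm₁⟩ :=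
    Groth.Agent.H5.AlgSp.exists_chart_diagram_surj (AlgSp.IsAlgSpace.yon_obj U₀) (a₀ ≫ f.hom) hbe hbs
  obtain ⟨p₀, hp₀⟩ := (AlgSp.yon S).map_surjective a₁
  haveI hp₀e : Etale p₀.left := (AlgSp.repWith_yon_map_iff @Etale p₀).1 (by rw [hp₀]; exact ha₁e)
  have hp₀s : Surjective p₀.left := (AlgSp.repWith_yon_map_iff @Surjective p₀).1 (by rw [hp₀]; exact ha₁s)
  obtain ⟨u₁, hu₁⟩ := hp₀s.surj u
  have hae : AlgSp.RepWith @Etale (a₁ ≫ a₀) := (AlgSp.RepWith @Etale).comp_mem _ _ ha₁e ha₀e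
  have comm : (a₁ ≫ a₀) ≫ f.hom = (AlgSp.yon S).map h₁ ≫ b' := by
    rw [Category.assoc, comm₁]
  haveI : LocallyOfFiniteType h₁.left := hf (a₁ ≫ a₀) b' h₁ hae hbe comm
  have key := Groth.Agent.H1.DimIneq.stalk_dim_add_resTrdeg_le h₁.left u₁ E (by
    intro ξ hξ hdim
    exact hE (AlgSp.Points.ofPt (a₁ ≫ a₀) ξ) ⟨U₁, a₁ ≫ a₀, ξ, hae, rfl, hdim⟩ _
      ⟨U₁, V, a₁ ≫ a₀, b', h₁, ξ, hae, hbe, comm, rfl, rfl⟩)
  have h1 := Groth.Agent.H3.EtaleDim.ringKrullDim_stalk_eq_of_etale p₀.left u₁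
  rw [hu₁] at h1
  rw [← h1]
  calc ringKrullDim ↥(U₁.left.presheaf.stalk u₁)
      ≤ ringKrullDim ↥(U₁.left.presheaf.stalk u₁) +
          ((Cardinal.toENat (Dual3.resTrdeg h₁.left u₁) : ℕ∞) : WithBot ℕ∞) := by
        have : (0 : WithBot ℕ∞) ≤ ((Cardinal.toENat (Dual3.resTrdeg h₁.left u₁) : ℕ∞) : WithBot ℕ∞) := by
          exact_mod_cast (zero_le : (0 : ℕ∞) ≤ Cardinal.toENat (Dual3.resTrdeg h₁.left u₁))
        exact le_add_of_nonneg_right this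
    _ ≤ _ := key
    _ ≤ _ := by
        gcongr
        exact (Groth.Agent.H3.FibreDim.stalk_dim_le V.left _).trans hVY

end Groth.Agent.S10324
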