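import Groth.Statements.S10327
import Groth.Agent.Lib.Helper5.AlgSp.ValuativeSep
import Groth.Agent.Lib.Helper5.AlgSp.ValuativeSch
import Groth.Agent.Lib.Helper5.AlgSp.ValuativeClosed
import Groth.Agent.Lib.Helper5.AlgSp.ValuativeExist

set_option autoImplicit false
universe u
open CategoryTheory CategoryTheory.Limits AlgebraicGeometry
open AlgSp

namespace Groth.Agent.S10327

/-- For f quasi-compact and quasi-separated, f is separated and universally closed if and only if the
valuative criterion holds, if and only if every valuative square has a unique lift. -/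
theorem result {S : Scheme.{u}} {X Y : AlgSp.Space S} (f : X ⟶ Y)
    (hqc : AlgSp.IsQuasiCompactMor f.hom) (hqs : AlgSp.IsQuasiSeparatedMor f.hom) :
    ((AlgSp.IsSeparatedMor f.hom ∧ AlgSp.IsUnivClosedMor f.hom) ↔ AlgSp.VC f.hom) ∧
    ((AlgSp.IsSeparatedMor f.hom ∧ AlgSp.IsUnivClosedMor f.hom) ↔
      (AlgSp.UniqVC f.hom ∧ AlgSp.ExistVCStrict f.hom)) := by
  refine ⟨⟨fun h => ⟨Groth.Agent.H5.AlgSp.uniqVC_of_isSeparatedMor h.1,
      Groth.Agent.H5.AlgSp.existVC_of_isUnivClosedMor X.property Y.property hqs h.2⟩,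
    fun h => ⟨Groth.Agent.H5.AlgSp.isSeparatedMor_of_uniqVC X.property hqs h.1,
      Groth.Agent.H5.AlgSp.isUnivClosedMor_of_existVC hqc h.2⟩⟩,
    ⟨fun h => ⟨Groth.Agent.H5.AlgSp.uniqVC_of_isSeparatedMor h.1,
      Groth.Agent.H5.AlgSp.existVCStrict_of_existVC_of_isSeparatedMor X.property Y.property h.1
        (Groth.Agent.H5.AlgSp.existVC_of_isUnivClosedMor X.property Y.property hqs h.2)⟩,
    fun h => ⟨Groth.Agent.H5.AlgSp.isSeparatedMor_of_uniqVC X.property hqs h.1,
      Groth.Agent.H5.AlgSp.isUnivClosedMor_of_existVC hqc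
        (Groth.Agent.H5.AlgSp.existVC_of_existVCStrict h.2)⟩⟩⟩

end Groth.Agent.S10327
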