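import Groth.Statements.S10328
import Mathlib
import Groth.Agent.Lib.Helper1.AlgSpDim3

set_option autoImplicit false
universe u
open CategoryTheory CategoryTheory.Limits AlgebraicGeometry
open AlgSp

namespace Groth.Agent.S10328

/-- The relative dimension of a composite at a point is at most the sum of the relative dimensions, with
equality when the first morphism is flat at the point. (The published part (2) allows more generally
flatness of a fibre of X -> Y over a field point of Z; only the case f flat at x is stated.) -/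
theorem result {S : Scheme.{u}} {X Y Z : AlgSp.Space S} (f : X ⟶ Y) (g : Y ⟶ Z)
    (hf : AlgSp.LocP @LocallyOfFiniteType f.hom) (hg : AlgSp.LocP @LocallyOfFiniteType g.hom)
    (x : AlgSp.Points X.obj) (a b : WithBot ℕ∞)
    (ha : AlgSp.HasAtMor (fun _ _ h u => FlatMor.fibreDimAt h u = a) f.hom x)
    (hb : AlgSp.HasAtMor (fun _ _ h u => FlatMor.fibreDimAt h u = b) g.hom (AlgSp.Points.map f.hom x)) :
    AlgSp.HasAtMor (fun _ _ h u => FlatMor.fibreDimAt h u ≤ a + b) (f ≫ g).hom x ∧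
    (AlgSp.IsFlatAtMor f.hom x → AlgSp.HasAtMor (fun _ _ h u => FlatMor.fibreDimAt h u = a + b) (f ≫ g).hom x) := by
  obtain ⟨W, c, hce, hcs⟩ := Z.property.atlas
  obtain ⟨V, b', h₂, hbe, hbs, comm₂⟩ :=
    Groth.Agent.H5.AlgSp.exists_chart_diagram_surj Y.property g.hom hce hcs
  obtain ⟨U, a', h₁, hae, has, comm₁⟩ :=
    Groth.Agent.H5.AlgSp.exists_chart_diagram_surj X.property f.hom hbe hbs
  obtain ⟨u, rfl⟩ := Groth.Agent.H5.AlgSp.ofPt_surjective_of_repWith has x
  haveI : LocallyOfFiniteType h₁.left := hf a' b' h₁ hae hbe comm₁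
  haveI : LocallyOfFiniteType h₂.left := hg b' c h₂ hbe hce comm₂
  have e₁ : FlatMor.fibreDimAt h₁.left u = a :=
    Groth.Agent.H1.AlgSpDim.hasAtMor_chart (Groth.Agent.H1.AlgSpDim.etLocal_fibreDimAt_eq a)
      hf a' b' h₁ hae hbe comm₁ u ha
  rw [Groth.Agent.H1.AlgSpDim.map_ofPt_chart a' b' h₁ comm₁ u] at hb
  have e₂ : FlatMor.fibreDimAt h₂.left (h₁.left u) = b :=
    Groth.Agent.H1.AlgSpDim.hasAtMor_chart (Groth.Agent.H1.AlgSpDim.etLocal_fibreDimAt_eq b)
      hg b' c h₂ hbe hce comm₂ (h₁.left u) hb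
  have comm : a' ≫ (f ≫ g).hom = (AlgSp.yon S).map (h₁ ≫ h₂) ≫ c := by
    change a' ≫ f.hom ≫ g.hom = _
    rw [← Category.assoc, comm₁, Category.assoc, comm₂, Functor.map_comp, Category.assoc]
  have key := Groth.Agent.H1.DimFormula.fibreDimAt_comp h₁.left h₂.left u
  rw [e₁, e₂] at key
  refine ⟨⟨U, W, a', c, h₁ ≫ h₂, u, hae, hce, comm, rfl, key.1⟩, fun hfl => ?_⟩
  refine ⟨U, W, a', c, h₁ ≫ h₂, u, hae, hce, comm, rfl, key.2 ?_⟩
  exact hfl a' b' h₁ u hae hbe comm₁ rfl

end Groth.Agent.S10328
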