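import Groth.Statements.S10329
import Mathlib
import Groth.Agent.Lib.Helper1.AlgSpBC
import Groth.Agent.Lib.Helper1.DimFormula4
import Groth.Agent.Lib.Helper5.AlgSp.OpenSubspace
import Groth.Agent.S10308

set_option autoImplicit false
universe u
open CategoryTheory CategoryTheory.Limits AlgebraicGeometry
open AlgSp

namespace Groth.Agent.S10329

/-- If the fibre of a morphism locally of finite type has dimension 0 at a point, then the morphism is
locally quasi-finite on some open subspace containing the image of that point. -/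
theorem result {S : Scheme.{u}} {X Y F : AlgSp.Space S} (f : X ⟶ Y)
    (hf : AlgSp.LocP @LocallyOfFiniteType f.hom) (k : Type u) [Field k] (str : Spec (.of k) ⟶ S)
    (y : (AlgSp.yon S).obj (Over.mk str) ⟶ Y.obj) (p : F ⟶ X) (q : F.obj ⟶ (AlgSp.yon S).obj (Over.mk str))
    (sq : IsPullback p.hom q f.hom y) (z : AlgSp.Points F.obj)
    (hz : AlgSp.HasAt (fun U u => FlatMor.localDim ↥U u = 0) F.obj z) :
    ∃ (X' : AlgSp.Space S) (j : X' ⟶ X), AlgSp.RepWith @IsOpenImmersion j.hom ∧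
      AlgSp.Points.map p.hom z ∈ Set.range (AlgSp.Points.map j.hom) ∧
      AlgSp.LocP (@LocallyQuasiFinite ⊓ @LocallyOfFiniteType) (j ≫ f).hom := by
  -- step 1: relative dimension of `q` at `z` is `0`
  have h1 : AlgSp.HasAtMor (fun _ _ h u => FlatMor.fibreDimAt h u ≤ ((0 : ℕ) : WithBot ℕ∞)) q z := by
    obtain ⟨U₀, a₀, u₀, ha₀e, rfl, hdim⟩ := hz
    obtain ⟨h₀, hh₀⟩ := (AlgSp.yon S).map_surjective (a₀ ≫ q)
    refine ⟨U₀, Over.mk str, a₀, 𝟙 _, h₀, u₀, ha₀e, AlgSp.repWith_id @Etale _, ?_, rfl, ?_⟩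
    · rw [hh₀, Category.comp_id]
    · have := Groth.Agent.H1.DimFormula.fibreDimAt_eq_localDim_of_field (K := k) h₀.left u₀
      change FlatMor.fibreDimAt h₀.left u₀ ≤ _
      rw [this, hdim]
      exact le_refl _
  -- step 2: base change
  have h2 : AlgSp.HasAtMor (fun _ _ h u => FlatMor.fibreDimAt h u ≤ ((0 : ℕ) : WithBot ℕ∞)) f.hom
      (AlgSp.Points.map p.hom z) :=
    (Groth.Agent.H1.AlgSpDim.hasAtMor_base_change
      (Groth.Agent.H1.AlgSpDim.etLocal_fibreDimAt_pred (fun e => e ≤ ((0 : ℕ) : WithBot ℕ∞)))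
      (Groth.Agent.H1.AlgSpDim.bcLocal_fibreDimAt_pred (fun e => e ≤ ((0 : ℕ) : WithBot ℕ∞)))
      X.property Y.property (AlgSp.IsAlgSpace.yon_obj _) sq hf z).1 h1
  -- step 3: the open locus
  have hW := Groth.Agent.S10308.result f hf 0
  set W : Set (AlgSp.Points X.obj) := {x : AlgSp.Points X.obj |
      AlgSp.HasAtMor (fun _ _ h u => FlatMor.fibreDimAt h u ≤ ((0 : ℕ) : WithBot ℕ∞)) f.hom x} with hWdef
  have hj : AlgSp.RepWith @IsOpenImmersion (Groth.Agent.H5.AlgSp.openSubι X.obj W) :=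
    Groth.Agent.H5.AlgSp.repWith_openSubι hW
  refine ⟨⟨Groth.Agent.H5.AlgSp.openSub X.obj W, Groth.Agent.H5.AlgSp.isAlgSpace_openSub X.property hW⟩,
    ObjectProperty.homMk (Groth.Agent.H5.AlgSp.openSubι X.obj W), hj, ?_, ?_⟩
  · change _ ∈ Set.range (AlgSp.Points.map (Groth.Agent.H5.AlgSp.openSubι X.obj W))
    rw [Groth.Agent.H5.AlgSp.range_points_map_openSubι]
    exact h2
  · intro U V a b h ha hb comm
    have hje : AlgSp.RepWith @Etale (Groth.Agent.H5.AlgSp.openSubι X.obj W) :=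
      Groth.Agent.H5.AlgSp.repWith_mono (fun _ _ g (_ : IsOpenImmersion g) => (inferInstance : Etale g)) hj
    have hae : AlgSp.RepWith @Etale (a ≫ Groth.Agent.H5.AlgSp.openSubι X.obj W) :=
      (AlgSp.RepWith @Etale).comp_mem _ _ ha hje
    have comm' : (a ≫ Groth.Agent.H5.AlgSp.openSubι X.obj W) ≫ f.hom = (AlgSp.yon S).map h ≫ b := by
      rw [Category.assoc]; exact comm
    haveI : LocallyOfFiniteType h.left := hf _ b h hae hb comm'
    refine ⟨?_, inferInstance⟩
    rw [Groth.Agent.H1.QFDim.locallyQuasiFinite_iff_fibreDimAt]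
    intro u
    have hu : AlgSp.Points.ofPt (a ≫ Groth.Agent.H5.AlgSp.openSubι X.obj W) u ∈ W := by
      have := Groth.Agent.H5.AlgSp.range_points_map_openSubι W
      rw [← AlgSp.Points.map_ofPt]
      exact (Set.ext_iff.1 this _).1 ⟨_, rfl⟩
    have := Groth.Agent.H1.AlgSpDim.hasAtMor_chart
      (Groth.Agent.H1.AlgSpDim.etLocal_fibreDimAt_pred (fun e => e ≤ ((0 : ℕ) : WithBot ℕ∞)))
      hf _ b h hae hb comm' u hu
    exact le_antisymm this (Groth.Agent.H1.Chev.zero_le_fibreDimAt h.left u)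

end Groth.Agent.S10329
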