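import Groth.Statements.S10337
import Groth.Agent.Lib.Helper3.Decent.OpenSubscheme

set_option autoImplicit false
universe u
open CategoryTheory CategoryTheory.Limits AlgebraicGeometry Topology TopologicalSpace
open AlgSp

namespace Groth.Agent.S10337

/-- For a scheme S, a decent algebraic space X over S contains a dense open subspace that is a scheme:
there is an open subspace X' ⟶ X whose underlying sheaf is representable by a scheme and whose set
of points is dense in |X|. -/
theorem result {S : Scheme.{u}} (X : AlgSp.Space S)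
    (hX : AlgSp.IsDecent X.obj) :
    ∃ (X' : AlgSp.Space S) (j : X' ⟶ X), AlgSp.RepWith @IsOpenImmersion j.hom ∧ X'.obj.obj.IsRepresentable ∧
      Dense (Set.range (AlgSp.Points.map j.hom)) := by
  have hW := Groth.Agent.H5.AlgSp.isOpen_schematicSet X.obj
  obtain ⟨X₁, ⟨e⟩⟩ := Groth.Agent.H5.AlgSp.exists_iso_openSub_schematicSet X.property
  refine ⟨⟨Groth.Agent.H5.AlgSp.openSub X.obj (Groth.Agent.H5.AlgSp.schematicSet X.obj),
    Groth.Agent.H5.AlgSp.isAlgSpace_openSub X.property hW⟩,
    ObjectProperty.homMk (Groth.Agent.H5.AlgSp.openSubι X.obj _),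
    Groth.Agent.H5.AlgSp.repWith_openSubι hW, ⟨X₁, ⟨AlgSp.representableByOfIso e⟩⟩, ?_⟩
  change Dense (Set.range (AlgSp.Points.map (Groth.Agent.H5.AlgSp.openSubι X.obj
    (Groth.Agent.H5.AlgSp.schematicSet X.obj))))
  rw [Groth.Agent.H5.AlgSp.range_points_map_openSubι]
  exact Groth.Agent.H3.Decent.dense_schematicSet_of_isDecent X.property hX

end Groth.Agent.S10337
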