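import Groth.Statements.S10349
import Groth.Agent.Lib.Helper3.Decent.ReducedFactor
import Groth.Agent.Lib.Helper5.AlgSp.OpenSub

set_option autoImplicit false
universe u
open CategoryTheory CategoryTheory.Limits AlgebraicGeometry Topology TopologicalSpace
open AlgSp

namespace Groth.Agent.S10349

/-- Let S be a scheme, X a decent algebraic space over S, k a field over S and p : h_{Spec k} ⟶ X a
surjective etale map. Then X ≅ h_{Spec k'} for a field k' over S, and p corresponds to a finite
etale morphism Spec k ⟶ Spec k' over S, so that k is a finite separable extension of k'. -/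
theorem result {S : Scheme.{u}} (X : AlgSp.Space S)
    (hX : AlgSp.IsDecent X.obj) (k : Type u) [Field k] (str : Spec (CommRingCat.of k) ⟶ S)
    (p : (AlgSp.yon S).obj (Over.mk str) ⟶ X.obj) (hp : AlgSp.RepWith @Etale p) (hs : AlgSp.RepWith @Surjective p) :
    ∃ (k' : Type u) (_ : Field k') (str' : Spec (CommRingCat.of k') ⟶ S)
      (e : (AlgSp.yon S).obj (Over.mk str') ≅ X.obj) (c : Over.mk str ⟶ Over.mk str'),
      (AlgSp.yon S).map c ≫ e.hom = p ∧ IsFinite c.left ∧ Etale c.left := by
  open Groth.Agent.H3.Decent Groth.Agent.H3.FinQuot Groth.Agent.H5.AlgSp in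
  have hsurj := ofPt_surjective_of_repWith hs
  have hne0 : Nonempty ↥(Over.mk str).left := (inferInstance : Nonempty ↥(Spec (CommRingCat.of k)))
  have hss0 : Subsingleton ↥(Over.mk str).left := (inferInstance : Subsingleton ↥(Spec (CommRingCat.of k)))
  obtain ⟨pt0⟩ := hne0
  have hne : Nonempty (AlgSp.Points X.obj) := ⟨AlgSp.Points.ofPt p pt0⟩
  have hss : Subsingleton (AlgSp.Points X.obj) := by
    refine ⟨fun a b => ?_⟩
    obtain ⟨a', rfl⟩ := hsurj a
    obtain ⟨b', rfl⟩ := hsurj b
    rw [Subsingleton.elim a' b']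
  have hr : AlgSp.EtaleLocally (fun U => IsReduced U) X.obj :=
    ⟨Over.mk str, p, hp, hs, by dsimp; infer_instance⟩
  obtain ⟨x⟩ := hne
  obtain ⟨K, hK, str', ρ, hρ, hm, hq⟩ := isDecent_iff.1 hX x
  obtain ⟨g, hg⟩ := exists_factor_qc_mono_point_of_reduced X.property X.property (𝟙 X.obj) str' ρ hq hr
    (fun y => by rw [AlgSp.Points.map_id]; exact Subsingleton.elim _ _)
  have hsplit : IsSplitEpi ρ := ⟨⟨g, hg⟩⟩
  have hiso : IsIso ρ := isIso_of_mono_of_isSplitEpi ρ
  let e := asIso ρ
  obtain ⟨c, hc⟩ := ((AlgSp.yon S).map_surjective (p ≫ e.inv) : ∃ c, (AlgSp.yon S).map c = p ≫ e.inv)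
  have hce : (AlgSp.yon S).map c ≫ e.hom = p := by rw [hc, Category.assoc, Iso.inv_hom_id, Category.comp_id]
  have hcet : Etale c.left := by
    rw [← repWith_yon_map_iff (P := @Etale)]
    rw [hc]
    refine repWith_of_comp_mono e.hom ?_
    rw [Category.assoc, Iso.inv_hom_id, Category.comp_id]
    exact hp
  refine ⟨K, hK, str', e, c, hce, ?_, hcet⟩
  exact isFinite_of_etale_fields c.left

end Groth.Agent.S10349
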