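import Groth.Statements.S10355
import Groth.Agent.Lib.Helper3.Decent.OpenSubscheme

set_option autoImplicit false
universe u
open CategoryTheory CategoryTheory.Limits AlgebraicGeometry Topology TopologicalSpace
open AlgSp

namespace Groth.Agent.S10355

/-- A decent algebraic space X over a scheme S whose space of points is a single point is a scheme (the
underlying sheaf of X is representable). -/
theorem result {S : Scheme.{u}} (X : AlgSp.Space S)
    (hX : AlgSp.IsDecent X.obj) [Nonempty (AlgSp.Points X.obj)] [Subsingleton (AlgSp.Points X.obj)] :
    X.obj.obj.IsRepresentable := by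
  open Groth.Agent.H5.AlgSp in
  obtain ⟨x, T, j, hj, t, rfl⟩ := Groth.Agent.H3.Decent.nonempty_schematicSet_of_isDecent X.property hX
  have hsurj : Function.Surjective (AlgSp.Points.map j) := by
    intro y
    refine ⟨AlgSp.Points.ofScheme T t, ?_⟩
    exact Subsingleton.elim _ _
  have hiso : IsIso j := isIso_of_isOpenImmersion_of_points_surjective hj hsurj
  exact ⟨T, ⟨AlgSp.representableByOfIso (asIso j)⟩⟩

end Groth.Agent.S10355
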