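import Groth.Statements.S10359
import Groth.Agent.Lib.Helper3.Decent.ClosedPoint

set_option autoImplicit false
universe u
open CategoryTheory CategoryTheory.Limits AlgebraicGeometry Topology TopologicalSpace
open AlgSp

namespace Groth.Agent.S10359

/-- On a decent algebraic space X over a scheme S every closed point x of |X| is represented by a closed
immersion Spec k ⟶ X, where k is a field. -/
theorem result {S : Scheme.{u}} (X : AlgSp.Space S)
    (hX : AlgSp.IsDecent X.obj) (x : AlgSp.Points X.obj) (hx : IsClosed ({x} : Set (AlgSp.Points X.obj))) :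
    ∃ p : AlgSp.FieldPt X.obj, AlgSp.Points.mk p = x ∧ AlgSp.RepWith @IsClosedImmersion p.toHom := by
  open Groth.Agent.H3.Decent Groth.Agent.H5.AlgSp in
  obtain ⟨K, hK, str, ρ, rfl, hm, hq⟩ := isDecent_iff.1 hX x
  refine ⟨fpOfHom str ρ, rfl, ?_⟩
  rw [toHom_fpOfHom]
  exact repWith_isClosedImmersion_of_isClosed_point X.property str ρ hq hx

end Groth.Agent.S10359
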