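import Groth.Statements.S10361
import Groth.Agent.Lib.Helper3.Decent.FiniteFibres

set_option autoImplicit false
universe u
open CategoryTheory CategoryTheory.Limits AlgebraicGeometry Topology TopologicalSpace
open AlgSp

namespace Groth.Agent.S10361

/-- (5) ⇒ (4): let S be a scheme and X an algebraic space over S. Suppose k is any field and Spec k ⟶ X
is a morphism which is representable quasi-compact. Then the point of |X| it defines is represented
by a monomorphism Spec k' ⟶ X which is representable quasi-compact. -/
theorem result {S : Scheme.{u}} (X : AlgSp.Space S)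
    (q : AlgSp.FieldPt X.obj) (hq : AlgSp.RepWith @QuasiCompact q.toHom) :
    ∃ p : AlgSp.FieldPt X.obj, AlgSp.Points.mk p = AlgSp.Points.mk q ∧ Mono p.toHom ∧
      AlgSp.RepWith @QuasiCompact p.toHom := by
  open Groth.Agent.H3.Decent Groth.Agent.H5.AlgSp in
  have hpx : Points.mk q = Points.mk (fpOfHom q.str q.toHom) := by
    rw [toHom_eq_fpHom, fpOfHom_fpHom]
  obtain ⟨K, _, str, ξ, hξ, hm, hqc⟩ := exists_qc_mono_point_of_finite_fibres X.property
    (Points.mk q) (fun U φ hU hφ R s t sq => by
      rw [hpx]
      exact ⟨finite_fibre_of_quasiCompact_point hφ q.str q.toHom hq,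
        finite_fibre_kernelPair_of_quasiCompact_point q.str q.toHom hq hφ sq⟩)
  refine ⟨fpOfHom str ξ, hξ, ?_, ?_⟩
  · rw [toHom_fpOfHom]; exact hm
  · rw [toHom_fpOfHom]; exact hqc

end Groth.Agent.S10361
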