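import Groth.Statements.S10397
import Groth.Agent.Lib.Helper3.Decent.FinComp

set_option autoImplicit false
universe u
open CategoryTheory CategoryTheory.Limits AlgebraicGeometry Topology TopologicalSpace
open AlgSp

namespace Groth.Agent.S10397

/-- (1) ⇔ (3): an algebraic space X over a scheme S is decent with |X| having finitely many irreducible
components if and only if X has a dense open subscheme X' with finitely many irreducible components
whose generic points x'_j give quasi-compact morphisms Spec κ(x'_j) ⟶ X. -/
theorem result {S : Scheme.{u}} (X : AlgSp.Space S) :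
    (AlgSp.IsDecent X.obj ∧ (irreducibleComponents (AlgSp.Points X.obj)).Finite) ↔
      ∃ (X' : Over S) (j : (AlgSp.yon S).obj X' ⟶ X.obj), AlgSp.RepWith @IsOpenImmersion j ∧
        Dense (Set.range (AlgSp.Points.ofPt j)) ∧ (irreducibleComponents ↥X'.left).Finite ∧
        ∀ x' : ↥X'.left, (∃ T ∈ irreducibleComponents ↥X'.left, IsGenericPoint x' T) →
          AlgSp.RepWith @QuasiCompact (AlgSp.FieldPt.ofPt j x').toHom := by
  constructor
  · rintro ⟨hd, hfinX⟩
    obtain ⟨X', j, hj, hdense⟩ :=
      Groth.Agent.H3.Decent.exists_dense_open_subscheme_of_isDecent X.property hd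
    exact ⟨X', j, hj, hdense,
      Groth.Agent.H3.Decent.finite_irreducibleComponents_of_isOpenEmbedding
        (Groth.Agent.H3.Decent.isOpenEmbedding_ofPt_of_isOpenImmersion X.property j hj) hfinX,
      fun x' _ => Groth.Agent.H3.Decent.repWith_quasiCompact_toHom_of_isDecent hd _⟩
  · rintro ⟨X', j, _, hdense, hfin, hqc⟩
    exact ⟨Groth.Agent.H3.Decent.isDecent_of_dense_open_subscheme X.property j hdense hfin hqc,
      Groth.Agent.H3.Decent.finite_irreducibleComponents_of_denseRange
        (AlgSp.Points.continuous_ofPt j) hdense hfin⟩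

end Groth.Agent.S10397
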