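import Groth.Statements.S10408
import Groth.Agent.H4.UBF4

set_option autoImplicit false
universe u
open CategoryTheory CategoryTheory.Limits AlgebraicGeometry Topology TopologicalSpace
open AlgSp

namespace Groth.Agent.S10408

open Groth.Agent.H4.UBF Groth.Agent.H4.BddFibLib Groth.Agent.H5.AlgSp


lemma discreteTopology_of_etale_field {K : Type u} [Field K] {T : Scheme.{u}}
    (p : T ⟶ Spec (CommRingCat.of K)) [Etale p] : DiscreteTopology T := by
  have hqf := locallyQuasiFinite_of_etale p
  have := p.isDiscrete_preimage_singleton default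
  have huniv : p ⁻¹' {default} = Set.univ := by
    ext x; simp only [Set.mem_preimage, Set.mem_singleton_iff, Set.mem_univ, iff_true]
    exact Subsingleton.elim (α := PrimeSpectrum K) _ _
  rw [huniv] at this
  exact isDiscrete_univ_iff.mp this

/-- (4) ⇒ (2): let S be a scheme and X an algebraic space over S. Suppose x ∈ |X| is a point represented
by a monomorphism Spec k ⟶ X, where k is a field. Then for every etale φ : U ⟶ X with U a scheme and
all u, u' ∈ U over x, the map |U ×_X U| → |U| ×_{|X|} |U| has finite fibre over the point (u, u'). -/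
theorem result {S : Scheme.{u}} (X : AlgSp.Space S) (x : AlgSp.Points X.obj)
    (hx : ∃ p : AlgSp.FieldPt X.obj, AlgSp.Points.mk p = x ∧ Mono p.toHom) {U : Over S}
    (φ : (AlgSp.yon S).obj U ⟶ X.obj) (hφ : AlgSp.RepWith @Etale φ) (u u' : ↥U.left)
    (hu : AlgSp.Points.ofPt φ u = x) (hu' : AlgSp.Points.ofPt φ u' = x) :
    ∀ (R : Over S) (s t : R ⟶ U), IsPullback ((AlgSp.yon S).map t) ((AlgSp.yon S).map s) φ φ →
          {r : ↥R.left | s.left r = u ∧ t.left r = u'}.Finite := by
  intro R s t sqR
  obtain ⟨p, hp, hpm⟩ := hx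
  obtain ⟨T, c, fst, sqT0⟩ := hφ.1 p.toHom
  obtain ⟨b, rfl⟩ := (yon S).map_surjective fst
  -- sqT0 : IsPullback (yon b) (yon c) φ p.toHom
  have hce : Etale c.left := hφ.2 p.toHom _ _ sqT0
  have hbm : Mono ((yon S).map b) :=
    (MorphismProperty.monomorphisms (Sp S)).of_isPullback sqT0.flip
      (MorphismProperty.monomorphisms.infer_property p.toHom)
  have hbm' : Mono b := (yon S).mono_of_mono_map hbm
  have hbl : Mono b.left := inferInstance
  have hbinj : Function.Injective b.left := b.left.injective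
  -- points over u, u'
  have hcp : ∀ v : ↥U.left, Points.ofPt φ v = x → ∃ z : ↥T.left, b.left z = v := by
    intro v hv
    have h1 : Points.map p.toHom (Points.ofScheme p.pt (IsLocalRing.closedPoint p.K)) =
        Points.ofPt φ v := by
      rw [← Points.ofPt_eq_map_ofScheme, Points.ofPt_toHom, hp, hv]
    obtain ⟨z, hz, -⟩ := exists_point_of_isPullback sqT0.flip _ v h1
    exact ⟨z, hz⟩
  obtain ⟨t₁, ht₁⟩ := hcp u hu
  obtain ⟨t₂, ht₂⟩ := hcp u' hu'
  -- the open point t₁
  have hdisc : DiscreteTopology ↥T.left := discreteTopology_of_etale_field c.left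
  let O₁ : T.left.Opens := ⟨{t₁}, isOpen_discrete _⟩
  let t₁' : ↥O₁ := ⟨t₁, rfl⟩
  have hfinO : Finite ↥O₁ := (Set.finite_singleton t₁).to_subtype
  let TO : Over S := Over.mk (O₁.ι ≫ T.hom)
  let ιo : TO ⟶ T := Over.homMk O₁.ι rfl
  have hιc : Etale (ιo ≫ c).left := by
    change Etale (O₁.ι ≫ c.left)
    infer_instance
  have hqf0 : LocallyQuasiFinite (ιo ≫ c).left := locallyQuasiFinite_of_etale _
  have hqc0 : QuasiCompact (ιo ≫ c).left := by
    have : CompactSpace ↥TO.left := by
      change CompactSpace ↥O₁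
      exact Finite.compactSpace
    have : IsAffine p.pt.left := by
      change IsAffine (Spec (CommRingCat.of p.K))
      infer_instance
    exact (HasAffineProperty.iff_of_isAffine (P := @QuasiCompact)).mpr inferInstance
  -- the pullback Q' = O₁ ×_pt T
  let Q' : Over S := pullback (ιo ≫ c) c
  let prO : Q' ⟶ TO := pullback.fst (ιo ≫ c) c
  let prT : Q' ⟶ T := pullback.snd (ιo ≫ c) c
  have sq1 : IsPullback prO prT (ιo ≫ c) c := IsPullback.of_hasPullback _ _
  have sq1' : IsPullback prO.left prT.left (ιo ≫ c).left c.left :=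
    (isPullback_left_iff _ _ _ _).mpr sq1
  have hqf : LocallyQuasiFinite prT.left := MorphismProperty.of_isPullback sq1' hqf0
  have hqc : QuasiCompact prT.left := MorphismProperty.of_isPullback sq1' hqc0
  have outer0 := IsPullback.paste_horiz (sq1.map (yon S)).flip sqT0
  have hw : (yon S).map (ιo ≫ c) ≫ p.toHom = (yon S).map (ιo ≫ b) ≫ φ := by
    rw [Functor.map_comp, Functor.map_comp, Category.assoc, Category.assoc, sqT0.w]
  rw [hw] at outer0
  let q₂' := sqR.lift ((yon S).map prT ≫ (yon S).map b) ((yon S).map prO ≫ (yon S).map (ιo ≫ b))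
    (by rw [Category.assoc, Category.assoc]; exact outer0.w)
  have hq₂t : q₂' ≫ (yon S).map t = (yon S).map prT ≫ (yon S).map b := sqR.lift_fst _ _ _
  have hq₂s : q₂' ≫ (yon S).map s = (yon S).map prO ≫ (yon S).map (ιo ≫ b) := sqR.lift_snd _ _ _
  rw [← hq₂t] at outer0
  have left := IsPullback.of_right outer0 hq₂s sqR
  obtain ⟨q₂, hq₂⟩ := (yon S).map_surjective q₂'
  rw [← hq₂] at left hq₂t
  have left' : IsPullback q₂.left prO.left s.left (ιo ≫ b).left :=
    (isPullback_left_iff _ _ _ _).mpr ((isPullback_yon_map_iff _ _ _ _).mp left)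
  have hq₂t' : q₂ ≫ t = prT ≫ b := (yon S).map_injective (by
    rw [Functor.map_comp, Functor.map_comp]; exact hq₂t)
  refine Set.Finite.subset ((prT.left.finite_preimage_singleton t₂).image q₂.left) ?_
  rintro r ⟨hrs, hrt⟩
  have h0 : s.left r = (ιo ≫ b).left t₁' := by
    rw [hrs, ← ht₁]
    rfl
  obtain ⟨z, hz1, hz2⟩ := Scheme.exists_preimage_of_isPullback left' r t₁' h0
  refine ⟨z, ?_, hz1⟩
  change prT.left z = t₂
  apply hbinj
  rw [ht₂, ← hrt, ← hz1, ← Scheme.Hom.comp_apply, ← Scheme.Hom.comp_apply, ← Over.comp_left,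
    ← Over.comp_left, hq₂t']


end Groth.Agent.S10408
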