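import Groth.Statements.S10412
import Groth.Agent.Lib.Helper5.AlgSp.QCompact
import Groth.Agent.Lib.Helper5.AlgSp.OpenSub

set_option autoImplicit false
universe u
open CategoryTheory CategoryTheory.Limits AlgebraicGeometry Topology TopologicalSpace
open AlgSp

namespace Groth.Agent.S10412

open Groth.Agent.H5.AlgSp


lemma isOpenImmersion_le_etale : (@IsOpenImmersion : MorphismProperty Scheme.{u}) ≤ @Etale :=
  fun _ _ f hf => by
    have : IsOpenImmersion f := hf
    exact (inferInstance : Etale f)

lemma isOpenImmersion_le_mono :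
    (@IsOpenImmersion : MorphismProperty Scheme.{u}) ≤ MorphismProperty.monomorphisms Scheme.{u} :=
  fun _ _ f hf => by
    have : IsOpenImmersion f := hf
    exact MorphismProperty.monomorphisms.infer_property f

/-- For an algebraic space X over a scheme S the following are equivalent: (1) X has a Zariski covering
by open subspaces X_i, each X_i admitting a surjective, etale and quasi-compact morphism U_i ⟶ X_i
with U_i a scheme; (2) there are etale morphisms U_i ⟶ X from schemes, jointly surjective, such that
for each i both projection morphisms from U_i ×_X U_i to U_i are quasi-compact. -/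
theorem result {S : Scheme.{u}} (X : AlgSp.Space S) :
    (∃ (ι : Type u) (Xi : ι → AlgSp.Space S) (j : ∀ i, Xi i ⟶ X) (U : ι → Over S)
        (a : ∀ i, (AlgSp.yon S).obj (U i) ⟶ (Xi i).obj),
        AlgSp.IsZarCover (fun i => (Xi i).obj) (fun i => (j i).hom) ∧
          ∀ i, AlgSp.RepWith @Etale (a i) ∧ AlgSp.RepWith @Surjective (a i) ∧ AlgSp.RepWith @QuasiCompact (a i)) ↔
      ∃ (ι : Type u) (U : ι → Over S) (φ : ∀ i, (AlgSp.yon S).obj (U i) ⟶ X.obj),
        (∀ i, AlgSp.RepWith @Etale (φ i)) ∧
          (∀ x : AlgSp.Points X.obj, ∃ (i : ι) (v : ↥(U i).left), AlgSp.Points.ofPt (φ i) v = x) ∧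
          ∀ (i : ι) (R : Over S) (s t : R ⟶ U i), IsPullback ((AlgSp.yon S).map t) ((AlgSp.yon S).map s) (φ i) (φ i) →
            QuasiCompact s.left ∧ QuasiCompact t.left := by
  constructor
  · rintro ⟨ι, Xi, j, U, a, ⟨hjo, hjs⟩, ha⟩
    have hje : ∀ i, RepWith @Etale (j i).hom := fun i => repWith_mono isOpenImmersion_le_etale (hjo i)
    have hjm : ∀ i, Mono (j i).hom := fun i => mono_of_repWith isOpenImmersion_le_mono (hjo i)
    refine ⟨ι, U, fun i => a i ≫ (j i).hom, fun i => ?_, fun x => ?_, fun i R s t sq => ?_⟩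
    · exact (RepWith @Etale).comp_mem _ _ (ha i).1 (hje i)
    · obtain ⟨i, y, rfl⟩ := hjs x
      obtain ⟨v, rfl⟩ := ofPt_surjective_of_repWith (ha i).2.1 y
      exact ⟨i, v, by rw [Points.ofPt_eq_map_ofScheme, Points.ofPt_eq_map_ofScheme, Points.map_comp]⟩
    · have := hjm i
      have sq' : IsPullback ((yon S).map t) ((yon S).map s) (a i) (a i) :=
        isPullback_of_comp_mono (j i).hom sq
      exact ⟨(ha i).2.2.2 (a i) _ _ sq', (ha i).2.2.2 (a i) _ _ sq'.flip⟩
  · rintro ⟨ι, U, φ, hφ, hsurj, hqc⟩
    have hW : ∀ i, IsOpen (Set.range (Points.ofPt (φ i))) := fun i =>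
      (isOpenMap_ofPt_of_etale (hφ i)).isOpen_range
    let Xi : ι → AlgSp.Space S := fun i =>
      ⟨openSub X.obj (Set.range (Points.ofPt (φ i))), isAlgSpace_openSub X.property (hW i)⟩
    let j : ∀ i, Xi i ⟶ X := fun i => ObjectProperty.homMk (openSubι X.obj _)
    have hfac : ∀ i, ∃ a : (yon S).obj (U i) ⟶ (Xi i).obj, a ≫ (j i).hom = φ i := fun i =>
      (factors_openSubι_iff X.obj _ (φ i)).2 (fun t => ⟨t, rfl⟩)
    choose a ha using hfac
    have hjo : ∀ i, RepWith @IsOpenImmersion (j i).hom := fun i => repWith_openSubι (hW i)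
    have hjm : ∀ i, Mono (j i).hom := fun i => mono_of_repWith isOpenImmersion_le_mono (hjo i)
    refine ⟨ι, Xi, j, U, a, ⟨hjo, fun x => ?_⟩, fun i => ?_⟩
    · obtain ⟨i, v, rfl⟩ := hsurj x
      refine ⟨i, ?_⟩
      change _ ∈ Set.range (Points.map (openSubι X.obj _))
      rw [range_points_map_openSubι]
      exact ⟨v, rfl⟩
    · have := hjm i
      have hae : RepWith @Etale (a i) := by
        have h := hφ i
        rw [← ha i] at h
        exact repWith_of_comp_mono (j i).hom h
      have hsurjM : IsSurjectiveMor (a i) := by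
        intro z
        have hz : Points.map (j i).hom z ∈ Set.range (Points.ofPt (φ i)) := by
          have : Points.map (j i).hom z ∈ Set.range (Points.map (openSubι X.obj
              (Set.range (Points.ofPt (φ i))))) := ⟨z, rfl⟩
          rwa [range_points_map_openSubι] at this
        obtain ⟨v, hv⟩ := hz
        refine ⟨Points.ofScheme (U i) v, ?_⟩
        apply points_map_injective_of_mono (j i).hom
        rw [← Points.map_comp, ha i, ← Points.ofPt_eq_map_ofScheme, hv]
      have has : RepWith @Surjective (a i) := repWith_surjective_of_points hae.1 hsurjM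
      refine ⟨hae, has, ?_⟩
      -- quasi-compactness
      obtain ⟨R, s, fst, sqR⟩ := (hφ i).1 (φ i)
      obtain ⟨t, rfl⟩ := (yon S).map_surjective fst
      have hs : QuasiCompact s.left := (hqc i R s t sqR).1
      have sq' : IsPullback ((yon S).map t) ((yon S).map s) (a i) (a i) := by
        have h := sqR
        rw [← ha i] at h
        exact isPullback_of_comp_mono (j i).hom h
      have hs' : IsQuasiCompactMor ((yon S).map s) :=
        isQuasiCompactMor_of_repWith ((repWith_yon_map_iff _ _).2 hs)
      have hq : IsQuasiCompactMor (a i) :=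
        isQuasiCompactMor_of_baseChange_univOpen (IsAlgSpace.yon_obj _) (Xi i).property
          (IsAlgSpace.yon_obj _) sq'
          (isUnivOpenMor_of_isEtaleMor (IsAlgSpace.yon_obj _) (fun _ _ hφ' => (RepWith @Etale).comp_mem _ _ hφ' hae))
          hsurjM hs'
      exact repWith_quasiCompact_of_isQuasiCompactMor hae.1 hq


end Groth.Agent.S10412
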