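import Groth.Statements.S10413
import Groth.Agent.H4.UBF3

set_option autoImplicit false
universe u
open CategoryTheory CategoryTheory.Limits AlgebraicGeometry Topology TopologicalSpace
open AlgSp

namespace Groth.Agent.S10413

open Groth.Agent.H4.UBF Groth.Agent.H5.AlgSp


lemma mono_yon_map {S : Scheme.{u}} {A B : Over S} (m : A ⟶ B) [Mono m.left] :
    Mono ((yon S).map m) := by
  have : Mono m := (Over.forget S).mono_of_mono_map (by assumption)
  infer_instance

/-- Let S be a scheme, X and Y algebraic spaces over S, and X ⟶ Y a representable morphism. If every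
point of Y can be represented by a monomorphism into Y from the spectrum of a field, then every
point of X can likewise be represented by such a monomorphism into X. -/
theorem result {S : Scheme.{u}} {X Y : AlgSp.Space S} (f : X ⟶ Y) (hf : AlgSp.Representable f.hom)
    (hY : ∀ y : AlgSp.Points Y.obj, ∃ q : AlgSp.FieldPt Y.obj, AlgSp.Points.mk q = y ∧ Mono q.toHom)
    (x : AlgSp.Points X.obj) : ∃ p : AlgSp.FieldPt X.obj, AlgSp.Points.mk p = x ∧ Mono p.toHom := by
  obtain ⟨q, hq, hqm⟩ := hY (Points.map f.hom x)
  obtain ⟨T, snd, fst, sq⟩ := hf q.toHom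
  have hfm : Mono fst :=
    (MorphismProperty.monomorphisms (Sp S)).of_isPullback sq.flip
      (MorphismProperty.monomorphisms.infer_property q.toHom)
  have h1 : Points.map f.hom x =
      Points.ofPt q.toHom (IsLocalRing.closedPoint q.K : ↥(Spec (CommRingCat.of q.K))) := by
    rw [Points.ofPt_toHom, hq]
  obtain ⟨t, -, ht⟩ := exists_point_of_isPullback sq x _ h1
  let str := T.left.fromSpecResidueField t ≫ T.hom
  let m : Over.mk str ⟶ T := Over.homMk (T.left.fromSpecResidueField t) rfl
  have hm : Mono ((yon S).map m) := by
    have : Mono m.left := by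
      change Mono (T.left.fromSpecResidueField t)
      infer_instance
    exact mono_yon_map m
  refine ⟨fpOfHom str ((yon S).map m ≫ fst), ?_, ?_⟩
  · rw [mk_fpOfHom_yon_map, ← ht]
    congr 1
    change (T.left.fromSpecResidueField t) (IsLocalRing.closedPoint _) = t
    exact Scheme.fromSpecResidueField_apply _ _
  · rw [← fpHom_eq_toHom, fpHom_fpOfHom]
    exact @mono_comp _ _ _ _ _ _ hm _ hfm


end Groth.Agent.S10413
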