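import Groth.Statements.S10414
import Groth.Agent.Lib.Helper3.Residual.IsoField

set_option autoImplicit false
universe u
open CategoryTheory CategoryTheory.Limits AlgebraicGeometry Topology TopologicalSpace
open AlgSp

namespace Groth.Agent.S10414

/-- Let S be a scheme, X an algebraic space over S, x ∈ |X|, and Z_x ⟶ X the residual space of x (a
monomorphism with image {x} from a space which admits a locally finitely presented, flat, surjective
morphism whose source is the spectrum of a field). Then Z_x is isomorphic to Spec k' for some field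
k' if and only if the point x is represented by some monomorphism Spec k ⟶ X. (The decent case, in
which the right side holds at every point, is not part of this row.) -/
theorem result {S : Scheme.{u}} (X : AlgSp.Space S) (x : AlgSp.Points X.obj)
    {Z : AlgSp.Space S} (i : Z ⟶ X) [Mono i.hom] (hi : Set.range (AlgSp.Points.map i.hom) = {x})
    (hZ : ∃ (k : Type u) (_ : Field k) (str : Spec (CommRingCat.of k) ⟶ S) (p : (AlgSp.yon S).obj (Over.mk str) ⟶ Z.obj),
        AlgSp.LocP @LocallyOfFinitePresentation p ∧ AlgSp.LocP @Flat p ∧ AlgSp.IsSurjectiveMor p) :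
    (∃ (k : Type u) (_ : Field k) (str : Spec (CommRingCat.of k) ⟶ S), Nonempty (Z.obj ≅ (AlgSp.yon S).obj (Over.mk str))) ↔
      ∃ p : AlgSp.FieldPt X.obj, AlgSp.Points.mk p = x ∧ Mono p.toHom := by
  open Groth.Agent.H5.AlgSp in
  obtain ⟨k, _, str, p, hpp, hpf, hps⟩ := hZ
  have hm : Mono (i.hom : Z.obj ⟶ X.obj) := ‹Mono i.hom›
  rw [Groth.Agent.H3.Residual.iso_field_iff_exists_mono_point X.property Z.property x i.hom hi
    str p hpp hpf hps]
  constructor
  · rintro ⟨k', _, str', q, hq, hx⟩
    refine ⟨fpOfHom str' q, hx, ?_⟩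
    rw [toHom_fpOfHom]
    exact hq
  · rintro ⟨p', hx, hm'⟩
    refine ⟨p'.K, inferInstance, p'.str, p'.toHom, hm', ?_⟩
    rw [toHom_eq_fpHom, fpOfHom_fpHom, hx]

end Groth.Agent.S10414
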