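import Groth.Statements.S10423
import Groth.Agent.Lib.Helper3.Decent.DecentMor
import Groth.Agent.Lib.Helper3.Decent.QuasiSepDecent
import Groth.Agent.Lib.Helper3.Decent.Etale
import Groth.Agent.Lib.Helper5.AlgSp.ProdSp

set_option autoImplicit false
universe u
open CategoryTheory CategoryTheory.Limits AlgebraicGeometry Topology TopologicalSpace
open AlgSp

namespace Groth.Agent.S10423

/-- A morphism of algebraic spaces over a scheme S which is representable, or which is quasi-separated,
is decent (all its base changes to schemes are decent algebraic spaces). The implications through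
reasonable and very reasonable morphisms are not part of this row. -/
theorem result {S : Scheme.{u}} {X Y : AlgSp.Space S} (f : X ⟶ Y) :
    (AlgSp.Representable f.hom → AlgSp.IsDecentMor f.hom) ∧
      (AlgSp.IsQuasiSeparatedMor f.hom → AlgSp.IsDecentMor f.hom) := by
  open Groth.Agent.H5.AlgSp Groth.Agent.H3.Decent in
  constructor
  · intro hf T F' g fst snd sq
    have sq' := hf.isPullback g
    have e : F' ≅ (AlgSp.yon S).obj (hf.pullback g) := sq.isoIsPullback _ _ sq'
    exact (isDecent_yon (hf.pullback g)).of_iso e.symm
  · intro hf
    apply isDecentMor_of_forall_affine X.property Y.property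
    intro Z g P fst snd hZ sq
    have hP : AlgSp.IsAlgSpace P :=
      isAlgSpace_pullback Y.property.diag X.property (AlgSp.IsAlgSpace.yon_obj Z) sq
    have h1 : AlgSp.IsQuasiSeparatedMor snd := repWith_diag_of_isPullback sq hf
    have h2 : AlgSp.IsQuasiSeparatedSp ((AlgSp.yon S).obj Z) := by
      change AlgSp.RepWith @QuasiCompact _
      rw [AlgSp.repWith_diag_yon_iff]
      have : IsSeparated Z.hom := inferInstance
      infer_instance
    exact isDecent_of_isQuasiSeparatedSp hP (isQuasiSeparatedSp_of_isQuasiSeparatedMor h1 h2)

end Groth.Agent.S10423
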