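import Groth.Statements.S10428
import Groth.Agent.H4.UBF2

set_option autoImplicit false
universe u
open CategoryTheory CategoryTheory.Limits AlgebraicGeometry Topology TopologicalSpace
open AlgSp

namespace Groth.Agent.S10428

open Groth.Agent.H4.UBF Groth.Agent.H4.BddFibLib Groth.Agent.H5.AlgSp

/-- Let X be an algebraic space over a scheme S and φ : U ⟶ X a morphism from a scheme with universally
bounded fibres. Then for some integer n, every fibre of |U| → |X| contains at most n elements. -/
theorem result {S : Scheme.{u}} (X : AlgSp.Space S) {U : Over S}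
    (φ : (AlgSp.yon S).obj U ⟶ X.obj) (hφ : W4dec.HasUnivBddFibres φ) :
    ∃ n : ℕ, ∀ x : AlgSp.Points X.obj, (AlgSp.Points.ofPt φ ⁻¹' {x}).encard ≤ n := by
  obtain ⟨n, hn⟩ := hφ
  refine ⟨n, fun x => ?_⟩
  induction x using Points.ind with
  | h q =>
  obtain ⟨T, c, fst, sq⟩ := X.property.representable_from_yon φ q.toHom
  obtain ⟨s, rfl⟩ := (yon S).map_surjective fst
  obtain ⟨h1, h2⟩ := hn q T c ((yon S).map s) sq.flip
  have hc : BddFib.FiniteOfDegLE (CommRingCat.of q.K) c.left n :=
    (finiteOfDegLE_iff_isFinite_finrank (K := q.K) c.left n).mpr ⟨h1, h2⟩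
  obtain ⟨hfin, hcard, -⟩ := finsum_residueDegree_le_of_finiteOfDegLE (K := q.K) c.left n hc
  have hsub : Points.ofPt φ ⁻¹' {Points.mk q} ⊆ Set.range s.left := by
    intro u hu
    have hu' : Points.ofPt φ u = Points.mk q := hu
    let x₀ : Points ((yon S).obj q.pt) := Points.ofScheme q.pt (IsLocalRing.closedPoint q.K)
    have hx₀ : Points.map q.toHom x₀ = Points.ofPt φ u := by
      rw [hu', ← Points.ofPt_eq_map_ofScheme, Points.ofPt_toHom]
    obtain ⟨v, hv, -⟩ := exists_point_of_isPullback sq.flip x₀ u hx₀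
    exact ⟨v, hv⟩
  refine le_trans (Set.encard_le_encard hsub) ?_
  rw [← Set.image_univ]
  refine le_trans (Set.encard_image_le _ _) ?_
  rw [Set.encard_univ, ENat.card_eq_coe_natCard]
  exact_mod_cast hcard


end Groth.Agent.S10428
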