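import Groth.Statements.S10430
import Groth.Agent.Lib.Helper3.Decent.MonoPoint

set_option autoImplicit false
universe u
open CategoryTheory CategoryTheory.Limits AlgebraicGeometry Topology TopologicalSpace
open AlgSp

namespace Groth.Agent.S10430

/-- If every etale morphism U ⟶ X from an affine scheme to the algebraic space X has universally bounded
fibres, then X is decent. -/
theorem result {S : Scheme.{u}} (X : AlgSp.Space S)
    (h : ∀ (U : Over S) (φ : (AlgSp.yon S).obj U ⟶ X.obj), IsAffine U.left → AlgSp.RepWith @Etale φ → W4dec.HasUnivBddFibres φ) :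
    AlgSp.IsDecent X.obj := by
  open Groth.Agent.H5.AlgSp Groth.Agent.H3.Decent in
  rw [isDecent_iff]
  intro x
  apply exists_qc_mono_point_of_finite_fibres X.property x
  intro U φ hU hφ R s t sq
  obtain ⟨n, hn⟩ := h U φ hU hφ
  obtain ⟨K, _, str, ξ, rfl⟩ := exists_fpOfHom x
  have hrep := hφ.rep
  let E : Over S := hrep.pullback ξ
  let e2 : E ⟶ U := hrep.fst' ξ
  let e1 : E ⟶ Over.mk str := hrep.snd ξ
  have sqE : IsPullback ((AlgSp.yon S).map e1) ((AlgSp.yon S).map e2) ξ φ :=
    (hrep.isPullback' ξ).flip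
  have sqE' : IsPullback ((AlgSp.yon S).map e1) ((AlgSp.yon S).map e2) (fpOfHom str ξ).toHom φ := by
    rw [toHom_fpOfHom]
    exact sqE
  have hfin : IsFinite e1.left := (hn (fpOfHom str ξ) E e1 _ sqE').1
  have hEfin : Finite ↥E.left := finite_of_isFinite_field (K := K) e1.left
  refine ⟨?_, ?_⟩
  · rw [fibre_subset_range_of_isPullback str ξ e1 e2 sqE]
    exact Set.finite_range _
  · exact finite_fibre_kernelPair_of_isFinite_fibre str ξ (X.property.representable_from_yon ξ)
      e1 e2 sqE hfin sq

end Groth.Agent.S10430
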