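import Groth.Statements.S10431
import Groth.Agent.H4.UBF4
import Groth.Agent.S10425

set_option autoImplicit false
universe u
open CategoryTheory CategoryTheory.Limits AlgebraicGeometry Topology TopologicalSpace
open AlgSp

namespace Groth.Agent.S10431

open Groth.Agent.H4.UBF Groth.Agent.H5.AlgSp



/-- Let S be a scheme, X and Y algebraic spaces over S, and X ⟶ Y a representable morphism. If every
etale morphism from an affine scheme to Y has universally bounded fibres, then so does every etale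
morphism from an affine scheme to X. -/
theorem result {S : Scheme.{u}} {X Y : AlgSp.Space S} (f : X ⟶ Y)
    (hf : AlgSp.Representable f.hom)
    (hY : ∀ (V : Over S) (ψ : (AlgSp.yon S).obj V ⟶ Y.obj), IsAffine V.left → AlgSp.RepWith @Etale ψ → W4dec.HasUnivBddFibres ψ)
    (U : Over S) (φ : (AlgSp.yon S).obj U ⟶ X.obj) (hU : IsAffine U.left) (hφ : AlgSp.RepWith @Etale φ) :
    W4dec.HasUnivBddFibres φ := by
  obtain ⟨U₀, p, hpe, hps⟩ := Y.property.atlas
  let 𝒰 := U₀.left.affineCover
  let V : 𝒰.I₀ → Over S := fun j => Over.mk (𝒰.f j ≫ U₀.hom)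
  let m : ∀ j, V j ⟶ U₀ := fun j => Over.homMk (𝒰.f j) rfl
  let pj : ∀ j, (yon S).obj (V j) ⟶ Y.obj := fun j => (yon S).map (m j) ≫ p
  have hpj : ∀ j, RepWith @Etale (pj j) := fun j =>
    (RepWith @Etale).comp_mem _ _
      ((repWith_yon_map_iff _ _).2 (show Etale (𝒰.f j) from inferInstance)) hpe
  have hbj : ∀ j, W4dec.HasUnivBddFibres (pj j) := fun j =>
    hY _ _ (show IsAffine (𝒰.X j) from inferInstance) (hpj j)
  have hrep : ∀ j, ∃ (W : Over S) (snd : W ⟶ V j) (fst : (yon S).obj W ⟶ X.obj),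
      IsPullback fst ((yon S).map snd) f.hom (pj j) := fun j => hf (pj j)
  choose W snd fst sq using hrep
  have hfe : ∀ j, RepWith @Etale (fst j) := fun j =>
    MorphismProperty.of_isPullback (sq j).flip (hpj j)
  have hfb : ∀ j, W4dec.HasUnivBddFibres (fst j) := fun j =>
    Groth.Agent.S10425.result f hf (pj j) (hbj j) ((yon S).map (snd j)) (fst j) (sq j).flip
  have hsurj : ∀ x : Points X.obj, ∃ (j : 𝒰.I₀) (w : ↥(W j).left), Points.ofPt (fst j) w = x := by
    intro x
    obtain ⟨u0, hu0⟩ := ofPt_surjective_of_repWith hps (Points.map f.hom x)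
    obtain ⟨v, hv⟩ := 𝒰.covers u0
    have h1 : Points.map f.hom x = Points.ofPt (pj (𝒰.idx u0)) v := by
      rw [ofPt_yon_map_comp]
      change _ = Points.ofPt p ((𝒰.f (𝒰.idx u0)) v)
      rw [hv, hu0]
    obtain ⟨w, -, hw⟩ := exists_point_of_isPullback (sq (𝒰.idx u0)) x v h1
    exact ⟨_, w, hw⟩
  have := hU
  exact hasUnivBddFibres_affine_etale_of_etale_cover X W fst hfe hsurj hfb φ hφ


end Groth.Agent.S10431
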