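import Groth.Statements.S10432
import Groth.Agent.H4.UBF4
import Groth.Agent.S10426
import Groth.Agent.Lib.Helper5.AlgSp.Mono
import Groth.Agent.Lib.Helper5.AlgSp.Cover

set_option autoImplicit false
universe u
open CategoryTheory CategoryTheory.Limits AlgebraicGeometry Topology TopologicalSpace
open AlgSp

namespace Groth.Agent.S10432

open Groth.Agent.H4.UBF Groth.Agent.H5.AlgSp


lemma isOpenImmersion_le_etale : (@IsOpenImmersion : MorphismProperty Scheme.{u}) ≤ @Etale :=
  fun _ _ f hf => by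
    have : IsOpenImmersion f := hf
    exact (inferInstance : Etale f)

lemma isOpenImmersion_le_mono :
    (@IsOpenImmersion : MorphismProperty Scheme.{u}) ≤ MorphismProperty.monomorphisms Scheme.{u} :=
  fun _ _ f hf => by
    have : IsOpenImmersion f := hf
    exact MorphismProperty.monomorphisms.infer_property f

/-- Let X be an algebraic space over a scheme S with a Zariski covering by open subspaces X_i ⟶ X such
that every etale morphism from an affine scheme to X_i has universally bounded fibres. Then every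
etale morphism from an affine scheme to X has universally bounded fibres. -/
theorem result {S : Scheme.{u}} (X : AlgSp.Space S) {ι : Type u}
    (Xi : ι → AlgSp.Space S) (j : ∀ i, Xi i ⟶ X) (hj : AlgSp.IsZarCover (fun i => (Xi i).obj) (fun i => (j i).hom))
    (h : ∀ (i : ι) (V : Over S) (ψ : (AlgSp.yon S).obj V ⟶ (Xi i).obj), IsAffine V.left → AlgSp.RepWith @Etale ψ → W4dec.HasUnivBddFibres ψ)
    (U : Over S) (φ : (AlgSp.yon S).obj U ⟶ X.obj) (hU : IsAffine U.left) (hφ : AlgSp.RepWith @Etale φ) :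
    W4dec.HasUnivBddFibres φ := by
  obtain ⟨hjo, hjs⟩ := hj
  have hatlas := fun i => (Xi i).property.atlas
  choose U₀ p hpe hps using hatlas
  let I := Σ i : ι, (U₀ i).left.affineCover.I₀
  let V : I → Over S := fun ik => Over.mk ((U₀ ik.1).left.affineCover.f ik.2 ≫ (U₀ ik.1).hom)
  let m : ∀ ik : I, V ik ⟶ U₀ ik.1 := fun ik => Over.homMk ((U₀ ik.1).left.affineCover.f ik.2) rfl
  let a : ∀ ik : I, (yon S).obj (V ik) ⟶ (Xi ik.1).obj := fun ik => (yon S).map (m ik) ≫ p ik.1
  have hae : ∀ ik, RepWith @Etale (a ik) := fun ik =>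
    (RepWith @Etale).comp_mem _ _
      ((repWith_yon_map_iff _ _).2 (show Etale ((U₀ ik.1).left.affineCover.f ik.2) from inferInstance))
      (hpe ik.1)
  have hab : ∀ ik, W4dec.HasUnivBddFibres (a ik) := fun ik =>
    h ik.1 _ _ (show IsAffine ((U₀ ik.1).left.affineCover.X ik.2) from inferInstance) (hae ik)
  have hje : ∀ i, RepWith @Etale (j i).hom := fun i => repWith_mono isOpenImmersion_le_etale (hjo i)
  have hjm : ∀ i, Mono (j i).hom := fun i => mono_of_repWith isOpenImmersion_le_mono (hjo i)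
  let ψ : ∀ ik : I, (yon S).obj (V ik) ⟶ X.obj := fun ik => a ik ≫ (j ik.1).hom
  have hψe : ∀ ik, RepWith @Etale (ψ ik) := fun ik =>
    (RepWith @Etale).comp_mem _ _ (hae ik) (hje ik.1)
  have hψb : ∀ ik, W4dec.HasUnivBddFibres (ψ ik) := by
    intro ik
    have := hjm ik.1
    have sq : IsPullback (𝟙 ((yon S).obj (V ik))) (a ik) (ψ ik) (j ik.1).hom :=
      isPullback_of_mono_comp (ψ ik) (j ik.1).hom (a ik) rfl
    refine Groth.Agent.S10426.result (j ik.1) (hjo ik.1).1 (ψ ik) (𝟙 _) (a ik) sq ?_ (hab ik)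
    rintro _ ⟨t, rfl⟩
    refine ⟨Points.ofPt (a ik) t, ?_⟩
    rw [Points.ofPt_eq_map_ofScheme, Points.ofPt_eq_map_ofScheme, ← Points.map_comp]
  have hsurj : ∀ x : Points X.obj, ∃ (ik : I) (v : ↥(V ik).left), Points.ofPt (ψ ik) v = x := by
    intro x
    obtain ⟨i, y, rfl⟩ := hjs x
    obtain ⟨u0, rfl⟩ := ofPt_surjective_of_repWith (hps i) y
    obtain ⟨v, hv⟩ := (U₀ i).left.affineCover.covers u0
    refine ⟨⟨i, (U₀ i).left.affineCover.idx u0⟩, v, ?_⟩
    change Points.ofPt (((yon S).map (m ⟨i, _⟩) ≫ p i) ≫ (j i).hom) v = _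
    rw [Category.assoc, ofPt_yon_map_comp]
    change Points.ofPt (p i ≫ (j i).hom) (((U₀ i).left.affineCover.f _) v) = _
    rw [hv, Points.ofPt_eq_map_ofScheme, Points.ofPt_eq_map_ofScheme, Points.map_comp]
  have := hU
  exact hasUnivBddFibres_affine_etale_of_etale_cover X V ψ hψe hsurj hψb φ hφ


end Groth.Agent.S10432
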