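import Groth.Statements.S10443
import Mathlib
import Groth.Agent.Lib.Helper1.DimFun2
import Groth.Agent.Lib.Helper5.AlgSp.DecentGen

set_option autoImplicit false
universe u
open CategoryTheory CategoryTheory.Limits AlgebraicGeometry Topology TopologicalSpace
open AlgSp

namespace Groth.Agent.S10443

/-- Let S be a locally Noetherian, universally catenary scheme carrying a dimension function δ, and X a
decent algebraic space over S that is locally of finite type over S. Define δ_X : |X| → ℤ by δ_X(x)
= δ(s) + (transcendence degree of x over s), s the image of x in S; concretely, for an etale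
surjective chart U ⟶ X with U locally of finite type over S, the composite of δ_X with |U| → |X| is
the function induced from δ along U ⟶ S. Then δ_X is a dimension function: strictly decreasing along
nontrivial specializations, and dropping by one along immediate ones. -/
theorem result {S : Scheme.{u}} (δ : ↥S → ℤ) (hS : Cyc.IsSetup S δ)
    (X : AlgSp.Space S) (hX : AlgSp.IsDecent X.obj) {U : Over S} (a : (AlgSp.yon S).obj U ⟶ X.obj)
    (ha : AlgSp.RepWith @Etale a) (hs : AlgSp.RepWith @Surjective a) [LocallyOfFiniteType U.hom]
    (δX : AlgSp.Points X.obj → ℤ) (hδ : Cyc.DeltaCompat U.hom (δX ∘ AlgSp.Points.ofPt a) δ) :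
    ∀ x y : AlgSp.Points X.obj, x ⤳ y → x ≠ y →
      δX y < δX x ∧ ((∀ z : AlgSp.Points X.obj, x ⤳ z → z ⤳ y → z = x ∨ z = y) → δX x = δX y + 1) := by
  intro x y hxy hne
  have hU : Cyc.IsDimFun U.left (δX ∘ AlgSp.Points.ofPt a) :=
    Groth.Agent.H1.DimFun.isDimFun_of_deltaCompat U.hom δ hS _ hδ
  obtain ⟨uy, huy⟩ := Groth.Agent.H5.AlgSp.ofPt_surjective_of_repWith hs y
  obtain ⟨ux, hux, huxx⟩ :=
    Groth.Agent.H5.AlgSp.exists_specializes_ofPt_of_fieldPt hxy (hX x) a ha uy huy
  have hne' : ux ≠ uy := by
    intro h
    apply hne
    rw [← huxx, ← huy, h]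
  obtain ⟨h1, h2⟩ := hU ux uy hux hne'
  refine ⟨?_, fun himm => ?_⟩
  · have := h1
    simp only [Function.comp_apply] at this
    rwa [huxx, huy] at this
  · have key := h2 (by
      intro w hw1 hw2
      by_contra hcon
      push Not at hcon
      have hx1 : x ⤳ AlgSp.Points.ofPt a w := by
        rw [← huxx]; exact hw1.map (AlgSp.Points.continuous_ofPt a)
      have hx2 : AlgSp.Points.ofPt a w ⤳ y := by
        rw [← huy]; exact hw2.map (AlgSp.Points.continuous_ofPt a)
      rcases himm _ hx1 hx2 with h | h
      · have h3 := (hU ux w hw1 (Ne.symm hcon.1)).1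
        simp only [Function.comp_apply] at h3
        rw [h, huxx] at h3
        exact lt_irrefl _ h3
      · have h3 := (hU w uy hw2 hcon.2).1
        simp only [Function.comp_apply] at h3
        rw [h, huy] at h3
        exact lt_irrefl _ h3)
    simp only [Function.comp_apply] at key
    rwa [huxx, huy] at key

end Groth.Agent.S10443
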