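import Groth.Statements.S10448
import Groth.Agent.H4.Dim2
import Groth.Agent.H4.BddFibLib6
import Groth.Agent.Lib.Helper5.AlgSp.QCompact

set_option autoImplicit false
universe u
open CategoryTheory CategoryTheory.Limits AlgebraicGeometry Topology TopologicalSpace
open AlgSp

namespace Groth.Agent.S10448

open Groth.Agent.H5.AlgSp Groth.Agent.H4.Spec Groth.Agent.H4.SchDim



/-- For an integral morphism f : X ⟶ Y of algebraic spaces over a scheme S, the dimension of X is at
most the dimension of Y. -/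
theorem result {S : Scheme.{u}} {X Y : AlgSp.Space S} (f : X ⟶ Y)
    (hf : AlgSp.IsIntegralMor f.hom) : AlgSp.dim X.obj ≤ AlgSp.dim Y.obj := by
  unfold AlgSp.dim
  refine iSup_le fun U => iSup_le fun a => iSup_le fun ha => ?_
  obtain ⟨V, b, hbe, hbs⟩ := Y.property.atlas
  let 𝒰 := V.left.affineCover
  let Vk : 𝒰.I₀ → Over S := fun k => Over.mk (𝒰.f k ≫ V.hom)
  let m : ∀ k, Vk k ⟶ V := fun k => Over.homMk (𝒰.f k) rfl
  let bk : ∀ k, (yon S).obj (Vk k) ⟶ Y.obj := fun k => (yon S).map (m k) ≫ b
  have hbk : ∀ k, RepWith @Etale (bk k) := fun k =>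
    (RepWith @Etale).comp_mem _ _
      ((repWith_yon_map_iff _ _).2 (show Etale (𝒰.f k) from inferInstance)) hbe
  have hk : ∀ k, ∃ (W : Over S) (i : W ⟶ Vk k) (fst : (yon S).obj W ⟶ X.obj),
      IsPullback fst ((yon S).map i) f.hom (bk k) ∧ IsAffine W.left ∧ IsIntegralHom i.left :=
    fun k => hf (Z := Vk k) (show IsAffine (𝒰.X k) from inferInstance) (bk k)
  choose W i fst sq hWaff hint using hk
  have hfe : ∀ k, RepWith @Etale (fst k) := fun k =>
    MorphismProperty.of_isPullback (sq k).flip (hbk k)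
  have hP : ∀ k, ∃ (P : Over S) (snd : P ⟶ W k) (e : P ⟶ U),
      IsPullback ((yon S).map e) ((yon S).map snd) a (fst k) := by
    intro k
    obtain ⟨P, snd, pr, sqP⟩ := ha.1 (fst k)
    obtain ⟨e, rfl⟩ := (yon S).map_surjective pr
    exact ⟨P, snd, e, sqP⟩
  choose P snd e sqP using hP
  have hsnd : ∀ k, Etale (snd k).left := fun k => ha.2 (fst k) _ _ (sqP k)
  have he : ∀ k, Etale (e k).left := fun k => (hfe k).2 a _ _ (sqP k).flip
  have hcov : ∀ u : ↥U.left, ∃ k p, (e k).left p = u := by
    intro u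
    obtain ⟨v, hv⟩ := ofPt_surjective_of_repWith hbs (Points.map f.hom (Points.ofPt a u))
    obtain ⟨v', hv'⟩ := 𝒰.covers v
    have h1 : Points.map f.hom (Points.ofPt a u) = Points.ofPt (bk (𝒰.idx v)) v' := by
      rw [ofPt_yon_map_comp]
      change _ = Points.ofPt b ((𝒰.f (𝒰.idx v)) v')
      rw [hv', hv]
    obtain ⟨w, -, hw⟩ := exists_point_of_isPullback (sq (𝒰.idx v)) _ v' h1
    have h2 : Points.map a (Points.ofScheme U u) = Points.ofPt (fst (𝒰.idx v)) w := by
      rw [← Points.ofPt_eq_map_ofScheme, hw]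
    obtain ⟨p, -, hp⟩ := exists_point_of_isPullback (sqP (𝒰.idx v)) _ w h2
    refine ⟨𝒰.idx v, p, ?_⟩
    apply (Points.schemeEquiv U).injective
    change Points.ofScheme U _ = Points.ofScheme U u
    rw [← hp]
    have h3 := ofPt_yon_map_comp (e (𝒰.idx v)) (𝟙 ((yon S).obj U)) p
    rw [Category.comp_id] at h3
    rw [h3, Points.ofPt_eq_map_ofScheme, Points.map_id]
  have h1 : topologicalKrullDim ↥U.left ≤ ⨆ k, topologicalKrullDim ↥(P k).left :=
    topologicalKrullDim_le_iSup_of_generalizingMap (fun k => ⇑(e k).left)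
      (fun k => (e k).left.continuous)
      (fun k => by
        have := he k
        exact Flat.generalizingMap (f := (e k).left))
      hcov
  refine h1.trans (iSup_le fun k => ?_)
  have h2 : topologicalKrullDim ↥(P k).left ≤ topologicalKrullDim ↥(W k).left := by
    have := hsnd k
    have := Groth.Agent.H4.BddFibLib.locallyQuasiFinite_of_etale (snd k).left
    exact topologicalKrullDim_le_of_locallyQuasiFinite (snd k).left
  have h3 : topologicalKrullDim ↥(W k).left ≤ topologicalKrullDim ↥(Vk k).left := by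
    have := hWaff k
    have := hint k
    have : IsAffine (Vk k).left := show IsAffine (𝒰.X k) from inferInstance
    exact topologicalKrullDim_le_of_isIntegralHom (i k).left
  exact (h2.trans h3).trans
    (le_iSup_of_le (Vk k) (le_iSup_of_le (bk k) (le_iSup_of_le (hbk k) le_rfl)))


end Groth.Agent.S10448
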