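import Groth.Statements.S10449
import Groth.Agent.H4.Dim2
import Groth.Agent.Lib.Helper5.AlgSp.QCompact

set_option autoImplicit false
universe u
open CategoryTheory CategoryTheory.Limits AlgebraicGeometry Topology TopologicalSpace
open AlgSp

namespace Groth.Agent.S10449

open Groth.Agent.H5.AlgSp Groth.Agent.H4.Spec Groth.Agent.H4.SchDim



/-- For an integral surjective morphism f : X ⟶ Y of algebraic spaces over a scheme S, the dimension of
Y is at most the dimension of X (together with the inequality dim X ≤ dim Y, which holds for every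
integral morphism, the two dimensions are equal). -/
theorem result {S : Scheme.{u}} {X Y : AlgSp.Space S} (f : X ⟶ Y)
    (hf : AlgSp.IsIntegralMor f.hom) (hs : AlgSp.IsSurjectiveMor f.hom) :
    AlgSp.dim Y.obj ≤ AlgSp.dim X.obj := by
  unfold AlgSp.dim
  refine iSup_le fun V => iSup_le fun b => iSup_le fun hb => ?_
  let 𝒰 := V.left.affineCover
  have h1 : topologicalKrullDim ↥V.left ≤ ⨆ k, topologicalKrullDim ↥(𝒰.X k) :=
    topologicalKrullDim_le_iSup_of_generalizingMap (fun k => ⇑(𝒰.f k))
      (fun k => (𝒰.f k).continuous) (fun k => (𝒰.f k).isOpenEmbedding.generalizingMap)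
      (fun y => ⟨𝒰.idx y, 𝒰.covers y⟩)
  refine h1.trans (iSup_le fun k => ?_)
  let Vk : Over S := Over.mk (𝒰.f k ≫ V.hom)
  let m : Vk ⟶ V := Over.homMk (𝒰.f k) rfl
  let bk : (yon S).obj Vk ⟶ Y.obj := (yon S).map m ≫ b
  have hbk : RepWith @Etale bk :=
    (RepWith @Etale).comp_mem _ _
      ((repWith_yon_map_iff _ _).2 (show Etale (𝒰.f k) from inferInstance)) hb
  obtain ⟨W, i, fst, sq, hWaff, hint⟩ :=
    hf (Z := Vk) (show IsAffine (𝒰.X k) from inferInstance) bk
  have hfe : RepWith @Etale fst := MorphismProperty.of_isPullback sq.flip hbk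
  have hsM : IsSurjectiveMor ((yon S).map i) := isSurjectiveMor_of_isPullback sq hs
  have hsurj : Surjective i.left :=
    (repWith_yon_map_iff @Surjective i).1
      (repWith_surjective_of_points (representable_yon_map i) hsM)
  have h2 : topologicalKrullDim ↥(𝒰.X k) ≤ topologicalKrullDim ↥W.left :=
    topologicalKrullDim_le_of_specializingMap (f := ⇑i.left) i.left.continuous hsurj.surj
      (i.left.isClosedMap.specializingMap)
  exact h2.trans (le_iSup_of_le W (le_iSup_of_le fst (le_iSup_of_le hfe le_rfl)))


end Groth.Agent.S10449
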