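import Groth.Statements.S10465
import Groth.Agent.Lib.Helper5.AlgSp.QCompact

set_option autoImplicit false
universe u
open CategoryTheory CategoryTheory.Limits AlgebraicGeometry Topology TopologicalSpace
open AlgSp

namespace Groth.Agent.S10465

open Groth.Agent.H5.AlgSp TensorProduct


/-- The square `X ⨯ A ⟶ X ⨯ B` over `A ⟶ B` is a pullback. -/
lemma isPullback_prod_map_snd {C : Type*} [Category C] [HasBinaryProducts C] (X : C) {A B : C}
    (g : A ⟶ B) :
    IsPullback (prod.snd : X ⨯ A ⟶ A) (prod.map (𝟙 X) g) g (prod.snd : X ⨯ B ⟶ B) := by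
  refine ⟨⟨by rw [prod.map_snd]⟩, ⟨PullbackCone.IsLimit.mk _
    (fun s => prod.lift (s.snd ≫ prod.fst) s.fst) ?_ ?_ ?_⟩⟩
  · intro s
    rw [prod.lift_snd]
  · intro s
    apply Limits.prod.hom_ext
    · rw [Category.assoc, prod.map_fst, Category.comp_id, prod.lift_fst]
    · rw [Category.assoc, prod.map_snd, prod.lift_snd_assoc, s.condition]
  · intro s m h1 h2
    apply Limits.prod.hom_ext
    · rw [prod.lift_fst, ← h2, Category.assoc, prod.map_fst, Category.comp_id]
    · rw [prod.lift_snd, h1]

/-- For a field extension k'/k and an algebraic space X over k, geometric connectedness of X over k is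
equivalent to geometric connectedness of its base change X_{k'} over k' (the base changes of X_{k'}
to extensions K of k' being the base changes X_K of X, geometric connectedness of X_{k'} over k'
reads: |X_K| is connected for every field K over k'). -/
theorem result (k : Type u) [Field k] (X : AlgSp.Space (Spec (CommRingCat.of k))) (k' : Type u) [Field k'] [Algebra k k'] :
    (∀ (K : Type u) [Field K] [Algebra k K], ConnectedSpace (AlgSp.Points (X.obj ⨯ (AlgSp.yon (Spec (CommRingCat.of k))).obj (Over.mk (Spec.map (CommRingCat.ofHom (algebraMap k K))))))) ↔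
      ∀ (K : Type u) [Field K] [Algebra k K] [Algebra k' K] [IsScalarTower k k' K],
        ConnectedSpace (AlgSp.Points (X.obj ⨯ (AlgSp.yon (Spec (CommRingCat.of k))).obj (Over.mk (Spec.map (CommRingCat.ofHom (algebraMap k K)))))) := by
  constructor
  · intro h K _ _ _ _
    exact h K
  · intro h K _ _
    -- a common extension
    obtain ⟨m, hm⟩ := Ideal.exists_maximal (K ⊗[k] k')
    let Ω := (K ⊗[k] k') ⧸ m
    let _ : Field Ω := Ideal.Quotient.field m
    let _ : Algebra k' Ω := ((Ideal.Quotient.mk m).comp
      (Algebra.TensorProduct.includeRight (R := k) (A := K) (B := k')).toRingHom).toAlgebra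
    have : IsScalarTower k k' Ω := IsScalarTower.of_algebraMap_eq (fun r => by
      change _ = (Ideal.Quotient.mk m) ((Algebra.TensorProduct.includeRight (R := k) (A := K) (B := k')) (algebraMap k k' r))
      rw [AlgHom.commutes]
      rfl)
    have hΩ := h Ω
    let iK : K →+* Ω := (Ideal.Quotient.mk m).comp
      (Algebra.TensorProduct.includeLeft (R := k) (S := k) (A := K) (B := k')).toRingHom
    have hiK : iK.comp (algebraMap k K) = algebraMap k Ω := by
      ext r
      change (Ideal.Quotient.mk m) ((Algebra.TensorProduct.includeLeft (R := k) (S := k) (A := K) (B := k')) (algebraMap k K r)) = _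
      rw [AlgHom.commutes]
      rfl
    let g : (Over.mk (Spec.map (CommRingCat.ofHom (algebraMap k Ω))) : Over (Spec (CommRingCat.of k))) ⟶
        Over.mk (Spec.map (CommRingCat.ofHom (algebraMap k K))) :=
      Over.homMk (Spec.map (CommRingCat.ofHom iK)) (by
        change Spec.map (CommRingCat.ofHom iK) ≫ Spec.map (CommRingCat.ofHom (algebraMap k K)) =
          Spec.map (CommRingCat.ofHom (algebraMap k Ω))
        rw [← Spec.map_comp, ← CommRingCat.ofHom_comp, hiK])
    have hgs : Surjective g.left := by
      refine ⟨fun x => ⟨(IsLocalRing.closedPoint Ω : PrimeSpectrum Ω), ?_⟩⟩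
      exact Subsingleton.elim (α := PrimeSpectrum K) _ _
    have hgs' : IsSurjectiveMor ((yon (Spec (CommRingCat.of k))).map g) :=
      points_map_surjective_of_repWith ((repWith_yon_map_iff @Surjective g).2 hgs)
    have sq := isPullback_prod_map_snd X.obj ((yon (Spec (CommRingCat.of k))).map g)
    have hsurj : IsSurjectiveMor (prod.map (𝟙 X.obj) ((yon (Spec (CommRingCat.of k))).map g)) :=
      isSurjectiveMor_of_isPullback sq hgs'
    exact Function.Surjective.connectedSpace hsurj (Points.continuous_map _)


end Groth.Agent.S10465
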