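import Groth.Statements.S10475
import Groth.Agent.S2521
import Groth.Agent.Lib.Helper5.AlgSp.Points

set_option autoImplicit false
universe u
open CategoryTheory CategoryTheory.Limits AlgebraicGeometry
open AlgSp

namespace Groth.Agent.S10475

open Groth.Agent.H5.AlgSp in
/-- Let k be a perfect field and X a reduced algebraic space over k. Then X is geometrically reduced
over k (geometrically reduced at every point). -/
theorem result (k : Type u) [Field k] [PerfectField k]
    (X : AlgSp.Space (Spec (CommRingCat.of k))) (hX : AlgSp.EtaleLocally (fun U => IsReduced U) X.obj) (x : AlgSp.Points X.obj) :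
    (∃ (U : Over (Spec (CommRingCat.of k))) (a : (AlgSp.yon (Spec (CommRingCat.of k))).obj U ⟶ X.obj) (u : ↥U.left),
      AlgSp.RepWith @Etale a ∧ AlgSp.Points.ofPt a u = x ∧ FBase.IsGeomReducedAt U.hom u) := by
  obtain ⟨U, a, hae, has, hred⟩ := hX
  obtain ⟨u, rfl⟩ := ofPt_surjective_of_repWith has x
  refine ⟨U, a, u, hae, rfl, ?_⟩
  have hiso : IsIso (Spec.map (CommRingCat.ofHom (algebraMap k k))) := by
    have : CommRingCat.ofHom (algebraMap k k) = 𝟙 (CommRingCat.of k) := rfl
    rw [this, Spec.map_id]
    infer_instance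
  have hπ : IsIso (FBase.bcπ U.hom k) :=
    inferInstanceAs (IsIso (pullback.fst U.hom (Spec.map (CommRingCat.ofHom (algebraMap k k)))))
  have : IsReduced U.left := hred
  have hbcred : IsReduced (FBase.bc U.hom k) := isReduced_of_isOpenImmersion (FBase.bcπ U.hom k)
  refine Groth.Agent.S2521.result (Ω := k) U.hom u ((inv (FBase.bcπ U.hom k)) u) ?_ ?_
  · rw [← Scheme.Hom.comp_apply, IsIso.inv_hom_id]
    rfl
  · exact inferInstanceAs (_root_.IsReduced ((FBase.bc U.hom k).presheaf.stalk _))

end Groth.Agent.S10475
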