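import Groth.Statements.S10476
import Groth.Agent.Lib.Helper3.AlgSpProp.RedBC
import Groth.Agent.Lib.Helper3.AlgSpProp.GeomRedEt

set_option autoImplicit false
universe u
open CategoryTheory CategoryTheory.Limits AlgebraicGeometry
open AlgSp

namespace Groth.Agent.S10476

open Groth.Agent.H5.AlgSp in
/-- (1) ⇔ (2): let k be a field of characteristic p > 0 and X an algebraic space over k. Then X is
geometrically reduced over k exactly when X_K is reduced for all field extensions K of k. -/
theorem result (k : Type u) [Field k] (p : ℕ) [Fact p.Prime] [CharP k p]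
    (X : AlgSp.Space (Spec (CommRingCat.of k))) :
    (∀ x : AlgSp.Points X.obj, (∃ (U : Over (Spec (CommRingCat.of k))) (a : (AlgSp.yon (Spec (CommRingCat.of k))).obj U ⟶ X.obj) (u : ↥U.left),
      AlgSp.RepWith @Etale a ∧ AlgSp.Points.ofPt a u = x ∧ FBase.IsGeomReducedAt U.hom u)) ↔
      ∀ (K : Type u) [Field K] [Algebra k K], AlgSp.EtaleLocally (fun U => IsReduced U) (X.obj ⨯ (AlgSp.yon (Spec (CommRingCat.of k))).obj (Over.mk (Spec.map (CommRingCat.ofHom (algebraMap k K))))) := by
  obtain ⟨U, a, hae, has⟩ := X.property.atlas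
  constructor
  · intro h K _ _
    refine (Groth.Agent.H3.RedBC.isReducedSp_prod_yon_iff a hae has
      (Over.mk (Spec.map (CommRingCat.ofHom (algebraMap k K))))).2 ?_
    change IsReduced (FBase.bc U.hom K)
    have key : ∀ u : U.left, FBase.IsGeomReducedAt U.hom u := by
      intro u
      obtain ⟨U₁, a₁, u₁, ha₁e, hu₁, hred⟩ := h (Points.ofPt a u)
      have sq := hae.rep.isPullback a₁
      have hqe : Etale (hae.rep.snd a₁).left := hae.property_snd a₁
      obtain ⟨π, hπ⟩ := (yon _).map_surjective (hae.rep.fst a₁)
      have hπe : Etale π.left := by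
        have : RepWith @Etale ((yon _).map π) := by
          rw [hπ]
          exact MorphismProperty.of_isPullback (P := RepWith @Etale) sq.flip ha₁e
        exact (repWith_yon_map_iff @Etale π).1 this
      obtain ⟨w, hw1, hw2⟩ := exists_point_of_isPullback sq (Points.ofScheme U u) u₁
        (by rw [hu₁, ← Points.ofPt_eq_map_ofScheme])
      have hw3 : π.left w = u := by
        rw [← hπ] at hw2
        have := congrArg (Points.toScheme U) hw2
        rwa [Points.toScheme_ofPt, Points.toScheme_ofScheme] at this
      have h1 : FBase.IsGeomReducedAt (hae.rep.pullback a₁).hom w :=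
        Groth.Agent.H3.GeomRedEt.isGeomReducedAt_of_smooth _ U₁.hom (hae.rep.snd a₁).left
          (Over.w _) w (by rw [hw1]; exact hred)
      have h2 := Groth.Agent.H3.GeomRedEt.isGeomReducedAt_of_flat _ U.hom π.left (Over.w _) w h1
      rwa [hw3] at h2
    have : ∀ u' : FBase.bc U.hom K, _root_.IsReduced ((FBase.bc U.hom K).presheaf.stalk u') :=
      fun u' => key _ K u' rfl
    exact isReduced_of_isReduced_stalk _
  · intro h x
    obtain ⟨u, rfl⟩ := ofPt_surjective_of_repWith has x
    refine ⟨U, a, u, hae, rfl, ?_⟩
    intro K _ _ u' hu'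
    have : IsReduced (FBase.bc U.hom K) :=
      (Groth.Agent.H3.RedBC.isReducedSp_prod_yon_iff a hae has
        (Over.mk (Spec.map (CommRingCat.ofHom (algebraMap k K))))).1 (h K)
    infer_instance

end Groth.Agent.S10476
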