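import Groth.Statements.S10478
import Groth.Agent.S1548
import Groth.Agent.Lib.Helper3.AlgSpProp.RedBC

set_option autoImplicit false
universe u
open CategoryTheory CategoryTheory.Limits AlgebraicGeometry
open AlgSp

namespace Groth.Agent.S10478

/-- (3) ⇒ (2): let k be a field of characteristic p > 0 and X an algebraic space over k. If X_{k'} is
reduced whenever k' is a finite purely inseparable extension of k, then X_K is reduced for every
field extension K of k. -/
theorem result (k : Type u) [Field k] (p : ℕ) [Fact p.Prime]
    [CharP k p] (X : AlgSp.Space (Spec (CommRingCat.of k)))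
    (h : ∀ (k' : Type u) [Field k'] [Algebra k k'], Module.Finite k k' → IsPurelyInseparable k k' →
      AlgSp.EtaleLocally (fun U => IsReduced U) (X.obj ⨯ (AlgSp.yon (Spec (CommRingCat.of k))).obj (Over.mk (Spec.map (CommRingCat.ofHom (algebraMap k k'))))))
    (K : Type u) [Field K] [Algebra k K] : AlgSp.EtaleLocally (fun U => IsReduced U) (X.obj ⨯ (AlgSp.yon (Spec (CommRingCat.of k))).obj (Over.mk (Spec.map (CommRingCat.ofHom (algebraMap k K))))) := by
  obtain ⟨U, a, hae, has⟩ := X.property.atlas
  let _ : U.left.Over (Spec (CommRingCat.of k)) := ⟨U.hom⟩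
  have h2 : GeometricallyReduced (U.left ↘ Spec (CommRingCat.of k)) := by
    refine Groth.Agent.S1548.result k p U.left ?_
    intro k' _ _ hfin hpi
    exact (Groth.Agent.H3.RedBC.isReducedSp_prod_yon_iff a hae has
      (Over.mk (Spec.map (CommRingCat.ofHom (algebraMap k k'))))).1 (h k' hfin hpi)
  refine (Groth.Agent.H3.RedBC.isReducedSp_prod_yon_iff a hae has
      (Over.mk (Spec.map (CommRingCat.ofHom (algebraMap k K))))).2 ?_
  exact h2.geometrically_isReduced (Spec.map (CommRingCat.ofHom (algebraMap k K))) _ _
    (IsPullback.of_hasPullback U.hom _)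

end Groth.Agent.S10478
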