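import Groth.Statements.S10481
import Groth.Agent.H4.GeomRed2

set_option autoImplicit false
universe u
open CategoryTheory CategoryTheory.Limits AlgebraicGeometry Topology TopologicalSpace
open AlgSp

namespace Groth.Agent.S10481

open Groth.Agent.H5.AlgSp Groth.Agent.H4.GeomRed



/-- Let k be a field, f : X ⟶ Y a morphism of algebraic spaces over k and x a point of X at which f is
etale. Then X is geometrically reduced at x if and only if Y is geometrically reduced at the image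
of x. -/
theorem result (k : Type u) [Field k] {X Y : AlgSp.Space (Spec (CommRingCat.of k))} (f : X ⟶ Y)
    (x : AlgSp.Points X.obj)
    (he : AlgSp.HasAtMor (fun U _ h u => ∃ W : U.Opens, u ∈ W ∧ Etale (W.ι ≫ h)) f.hom x) :
    (∃ (U : Over (Spec (CommRingCat.of k))) (a : (AlgSp.yon (Spec (CommRingCat.of k))).obj U ⟶ X.obj) (u : ↥U.left),
      AlgSp.RepWith @Etale a ∧ AlgSp.Points.ofPt a u = x ∧ FBase.IsGeomReducedAt U.hom u) ↔ (∃ (U : Over (Spec (CommRingCat.of k))) (a : (AlgSp.yon (Spec (CommRingCat.of k))).obj U ⟶ Y.obj) (u : ↥U.left),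
      AlgSp.RepWith @Etale a ∧ AlgSp.Points.ofPt a u = (AlgSp.Points.map f.hom x) ∧ FBase.IsGeomReducedAt U.hom u) := by
  obtain ⟨U, V, a, b, h, u, ha, hb, comm, hux, W, huW, hWet⟩ := he
  let UW : Over (Spec (CommRingCat.of k)) := Over.mk (W.ι ≫ U.hom)
  let ι : UW ⟶ U := Over.homMk W.ι rfl
  let u₀ : ↥UW.left := ⟨u, huW⟩
  let a₀ : (yon _).obj UW ⟶ X.obj := (yon _).map ι ≫ a
  have ha₀ : RepWith @Etale a₀ :=
    (RepWith @Etale).comp_mem _ _
      ((repWith_yon_map_iff _ _).2 (show Etale W.ι from inferInstance)) ha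
  have hx₀ : Points.ofPt a₀ u₀ = x := by
    rw [ofPt_yon_map_comp, ← hux]
    rfl
  let h₀ : UW ⟶ V := ι ≫ h
  have hh₀ : Etale h₀.left := hWet
  have hy₀ : Points.ofPt b (h₀.left u₀) = Points.map f.hom x := by
    rw [← ofPt_yon_map_comp, Functor.map_comp, Category.assoc, ← comm, ← Category.assoc, ← hx₀]
    rfl
  have key : FBase.IsGeomReducedAt UW.hom u₀ ↔ FBase.IsGeomReducedAt V.hom (h₀.left u₀) :=
    isGeomReducedAt_iff_of_etale UW.hom V.hom h₀.left (Over.w h₀) u₀
  constructor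
  · intro hX
    exact ⟨V, b, _, hb, hy₀, key.mp (geomReducedAtPt_iff_forall x hX UW a₀ u₀ ha₀ hx₀)⟩
  · intro hY
    exact ⟨UW, a₀, u₀, ha₀, hx₀, key.mpr (geomReducedAtPt_iff_forall _ hY V b _ hb hy₀)⟩


end Groth.Agent.S10481
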