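import Groth.Statements.S10482
import Groth.Agent.Lib.Helper5.AlgSp.Basic

set_option autoImplicit false
universe u
open CategoryTheory CategoryTheory.Limits AlgebraicGeometry Topology TopologicalSpace
open AlgSp

namespace Groth.Agent.S10482

open Groth.Agent.H5.AlgSp


variable {S : Scheme.{u}}

/-- every map from `h_U` to `h_S` is `h` of the structure map. -/
lemma eq_yon_map_toTerminal {U : Over S} (φ : (yon S).obj U ⟶ (yon S).obj (Over.mk (𝟙 S))) :
    φ = (yon S).map (Over.homMk U.hom (by simp) : U ⟶ Over.mk (𝟙 S)) := by
  obtain ⟨h', rfl⟩ := (yon S).map_surjective φ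
  congr 1
  exact Over.mkIdTerminal.hom_ext _ _

lemma discreteTopology_of_lqf_field {k : Type u} [Field k] {W : Scheme.{u}}
    (g : W ⟶ Spec (CommRingCat.of k)) [LocallyQuasiFinite g] : DiscreteTopology ↥W := by
  have := g.isDiscrete_preimage_singleton default
  have huniv : g ⁻¹' {default} = Set.univ := by
    ext x; simp only [Set.mem_preimage, Set.mem_singleton_iff, Set.mem_univ, iff_true]
    exact Subsingleton.elim (α := PrimeSpectrum k) _ _
  rw [huniv] at this
  exact isDiscrete_univ_iff.mp this

/-- (1) ⇔ (2): let k be a field and X an algebraic space over k. Then X is locally quasi-finite over k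
if and only if X is locally of finite type over k of dimension at most 0. (The published statement
says dimension 0; dimension at most 0 is used so that the empty space, whose dimension is the bottom
element, is covered by both sides.) -/
theorem result (k : Type u) [Field k] (X : AlgSp.Space (Spec (CommRingCat.of k))) (p : X.obj ⟶ (AlgSp.yon (Spec (CommRingCat.of k))).obj (Over.mk (𝟙 _))) :
    AlgSp.LocP (@LocallyQuasiFinite ⊓ @LocallyOfFiniteType : MorphismProperty Scheme.{u}) p ↔ AlgSp.LocP @LocallyOfFiniteType p ∧ AlgSp.dim X.obj ≤ 0 := by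
  have hid : RepWith @Etale (𝟙 ((yon (Spec (CommRingCat.of k))).obj (Over.mk (𝟙 _)))) :=
    repWith_id _ _
  constructor
  · intro h
    refine ⟨fun _ _ a b k ha hb comm => (h a b k ha hb comm).2, ?_⟩
    unfold AlgSp.dim
    refine iSup_le fun U => iSup_le fun a => iSup_le fun ha => ?_
    have comm : a ≫ p = (yon _).map (Over.homMk U.hom (by simp) : U ⟶ Over.mk (𝟙 _)) ≫ 𝟙 _ := by
      rw [Category.comp_id]
      exact eq_yon_map_toTerminal _
    have hP := h a (𝟙 _) _ ha hid comm
    have : LocallyQuasiFinite U.hom := hP.1
    have := discreteTopology_of_lqf_field U.hom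
    exact topologicalKrullDim_zero_of_discreteTopology _
  · rintro ⟨hlft, hdim⟩ U V a b h ha hb comm
    have hl : LocallyOfFiniteType h.left := hlft a b h ha hb comm
    refine ⟨?_, hl⟩
    have comm0 : a ≫ p = (yon _).map (Over.homMk U.hom (by simp) : U ⟶ Over.mk (𝟙 _)) ≫ 𝟙 _ := by
      rw [Category.comp_id]
      exact eq_yon_map_toTerminal _
    have hU : LocallyOfFiniteType U.hom := hlft a (𝟙 _) _ ha hid comm0
    have hUN : IsLocallyNoetherian U.left := LocallyOfFiniteType.isLocallyNoetherian U.hom
    have hUd0 : topologicalKrullDim ↥U.left ≤ AlgSp.dim X.obj := by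
      unfold AlgSp.dim
      exact le_iSup_of_le U (le_iSup_of_le a (le_iSup_of_le ha le_rfl))
    have hUd : topologicalKrullDim ↥U.left ≤ 0 := le_trans hUd0 hdim
    have hUA : IsLocallyArtinian U.left := IsLocallyArtinian.of_topologicalKrullDim_le_zero hUd
    have hdisc : DiscreteTopology ↥U.left := inferInstance
    change LocallyQuasiFinite h.left
    rw [locallyQuasiFinite_iff_isDiscrete_preimage_singleton]
    intro v
    exact DiscreteTopology.isDiscrete


end Groth.Agent.S10482
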