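import Groth.Statements.S10489
import Groth.Agent.Lib.Helper1.SmoothDepth
import Groth.Agent.Lib.Helper3.AlgSpCov.SourceLocP

set_option autoImplicit false
universe u
open CategoryTheory CategoryTheory.Limits AlgebraicGeometry
open AlgSp

namespace Groth.Agent.S10489

/-- Let k be a field and X an algebraic space which is smooth over k. Then X is regular as an algebraic
space. -/
theorem result (k : Type u) [Field k] (X : AlgSp.Space (Spec (CommRingCat.of k))) (p : X.obj ⟶ (AlgSp.yon (Spec (CommRingCat.of k))).obj (Over.mk (𝟙 _))) (hp : AlgSp.LocP @Smooth p) :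
    AlgSp.EtaleLocally (fun U => IsLocallyNoetherian U ∧ ∀ u : ↥U, IsRegularLocalRing ↥(U.presheaf.stalk u)) X.obj := by
  obtain ⟨U, a, hae, has⟩ := X.property.atlas
  obtain ⟨h, hh⟩ := (yon (Spec (CommRingCat.of k))).map_surjective (a ≫ p)
  have hsm : Smooth h.left :=
    hp a (𝟙 _) h hae (repWith_id _ _) (by rw [hh, Category.comp_id])
  refine ⟨U, a, hae, has, ?_, ?_⟩
  · have : IsLocallyNoetherian (Over.mk (𝟙 (Spec (CommRingCat.of k)))).left :=
      inferInstanceAs (IsLocallyNoetherian (Spec (CommRingCat.of k)))
    exact LocallyOfFiniteType.isLocallyNoetherian h.left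
  · intro u
    have hsm' : Smooth (Y := Spec (CommRingCat.of k)) h.left := hsm
    exact Groth.Agent.H1.SmoothDepth.isRegularLocalRing_stalk_of_smooth k h.left u

end Groth.Agent.S10489
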