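import Groth.Statements.S10491
import Groth.Agent.Lib.Helper5.AlgSp.Points

set_option autoImplicit false
universe u
open CategoryTheory CategoryTheory.Limits AlgebraicGeometry Topology TopologicalSpace
open AlgSp

namespace Groth.Agent.S10491

open Groth.Agent.H5.AlgSp


/-- Irreducible components of `T'` meeting the open image of a Noetherian space are finite in
number. -/
lemma finite_components_meeting_range {C T' : Type*} [TopologicalSpace C] [TopologicalSpace T']
    [NoetherianSpace C] (π : C → T') (hπ : Continuous π) (hopen : IsOpen (Set.range π)) :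
    {Z : Set T' | Z ∈ irreducibleComponents T' ∧ (Z ∩ Set.range π).Nonempty}.Finite := by
  have hfin : (irreducibleComponents C).Finite := NoetherianSpace.finite_irreducibleComponents
  refine Set.Finite.subset (hfin.image (fun Ci => closure (π '' Ci))) ?_
  rintro Z ⟨hZ, hZr⟩
  have hZirr : IsIrreducible Z := hZ.1
  have hZcl : IsClosed Z := isClosed_of_mem_irreducibleComponents Z hZ
  have h1 : Z ⊆ closure (Z ∩ Set.range π) :=
    subset_closure_inter_of_isPreirreducible_of_isOpen hZirr.2 hopen hZr
  have h2 : Z ∩ Set.range π ⊆ ⋃₀ ((fun Ci => closure (π '' Ci)) '' irreducibleComponents C) := by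
    rintro _ ⟨-, c, rfl⟩
    have hc : c ∈ ⋃₀ irreducibleComponents C := by
      rw [sUnion_irreducibleComponents]; trivial
    obtain ⟨Ci, hCi, hcCi⟩ := hc
    exact ⟨closure (π '' Ci), ⟨Ci, hCi, rfl⟩, subset_closure ⟨c, hcCi, rfl⟩⟩
  have hfin' : ((fun Ci => closure (π '' Ci)) '' irreducibleComponents C).Finite := hfin.image _
  have hcl : IsClosed (⋃₀ ((fun Ci => closure (π '' Ci)) '' irreducibleComponents C)) := by
    rw [Set.sUnion_eq_biUnion]
    refine Set.Finite.isClosed_biUnion hfin' ?_
    rintro _ ⟨Ci, -, rfl⟩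
    exact isClosed_closure
  have h3 : Z ⊆ ⋃₀ ((fun Ci => closure (π '' Ci)) '' irreducibleComponents C) :=
    h1.trans (hcl.closure_subset_iff.mpr h2)
  obtain ⟨Y, hY, hZY⟩ := isIrreducible_iff_sUnion_isClosed.mp hZirr hfin'.toFinset
    (by
      intro z hz
      rw [Set.Finite.mem_toFinset] at hz
      obtain ⟨Ci, -, rfl⟩ := hz
      exact isClosed_closure)
    (by rwa [Set.Finite.coe_toFinset])
  rw [Set.Finite.mem_toFinset] at hY
  obtain ⟨Ci, hCi, rfl⟩ := hY
  refine ⟨Ci, hCi, ?_⟩
  have hirr : IsIrreducible (closure (π '' Ci)) :=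
    (hCi.1.image π hπ.continuousOn).closure
  exact Set.Subset.antisymm (hZ.2 hirr hZY) hZY

/-- Let X be an algebraic space over a scheme S which is locally Noetherian, and T ⊂ |X| a closed
subset. Then every point of |X| has a neighbourhood meeting only finitely many irreducible
components of T. -/
theorem result {S : Scheme.{u}} (X : AlgSp.Space S)
    (hX : AlgSp.IsLocNoethSp X.obj) (T : Set (AlgSp.Points X.obj)) (hT : IsClosed T) :
    LocallyFinite (fun Z : ↥(irreducibleComponents ↥T) => ((↑) : ↥T → AlgSp.Points X.obj) '' (Z : Set ↥T)) := by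
  obtain ⟨U, a, hae, has, hU⟩ := hX
  have hU' : IsLocallyNoetherian U.left := hU
  intro x
  obtain ⟨u, rfl⟩ := ofPt_surjective_of_repWith has x
  obtain ⟨_, ⟨O, hO : IsAffineOpen O, rfl⟩, huO, -⟩ :=
    U.left.isBasis_affineOpens.exists_subset_of_mem_open (Set.mem_univ u) isOpen_univ
  have hON : NoetherianSpace ↥O := by
    have : IsNoetherianRing Γ(U.left, O) := IsLocallyNoetherian.component_noetherian ⟨O, hO⟩
    exact noetherianSpace_of_isAffineOpen O hO
  have hopenmap : IsOpenMap (Points.ofPt a) := isOpenMap_ofPt_of_etale hae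
  have hcont : Continuous (Points.ofPt a) := Points.continuous_ofPt a
  let W : Set (Points X.obj) := Points.ofPt a '' (O : Set ↥U.left)
  have hW : IsOpen W := hopenmap _ O.isOpen
  refine ⟨W, hW.mem_nhds ⟨u, huO, rfl⟩, ?_⟩
  -- the Noetherian space `C`
  let C : Type u := {o : ↥O // Points.ofPt a (o : ↥U.left) ∈ T}
  have hCN : NoetherianSpace C := (Topology.IsInducing.subtypeVal).noetherianSpace
  let π : C → ↥T := fun c => ⟨Points.ofPt a ((c.1 : ↥O) : ↥U.left), c.2⟩
  have hπ : Continuous π :=
    Continuous.subtype_mk (hcont.comp (continuous_subtype_val.comp continuous_subtype_val)) _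
  have hrange : Set.range π = ((↑) : ↥T → Points X.obj) ⁻¹' W := by
    ext z
    constructor
    · rintro ⟨c, rfl⟩
      exact ⟨(c.1 : ↥U.left), c.1.2, rfl⟩
    · rintro ⟨o, hoO, hoz⟩
      exact ⟨⟨⟨o, hoO⟩, by rw [hoz]; exact z.2⟩, Subtype.ext hoz⟩
  have hopen : IsOpen (Set.range π) := by
    rw [hrange]
    exact hW.preimage continuous_subtype_val
  have hfin := finite_components_meeting_range π hπ hopen
  have : {Z : ↥(irreducibleComponents ↥T) |
      ((((↑) : ↥T → Points X.obj) '' (Z : Set ↥T)) ∩ W).Nonempty} ⊆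
      (fun Z : ↥(irreducibleComponents ↥T) => (Z : Set ↥T)) ⁻¹'
        {Z : Set ↥T | Z ∈ irreducibleComponents ↥T ∧ (Z ∩ Set.range π).Nonempty} := by
    rintro Z ⟨_, ⟨z, hzZ, rfl⟩, hzW⟩
    refine ⟨Z.2, z, hzZ, ?_⟩
    rw [hrange]
    exact hzW
  exact Set.Finite.subset (hfin.preimage (Subtype.val_injective.injOn)) this


end Groth.Agent.S10491
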