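import Groth.Statements.S10498
import Groth.Agent.Lib.Helper8.EssEt.RedTensor
import Groth.Agent.Lib.Helper8.EssEt.F1
-- import your own Groth.Agent.* helpers here

set_option autoImplicit false
universe u
open TensorProduct
open Hensel

namespace Groth.Agent.S10498

open TensorProduct Groth.Agent.H8.EssEt Groth.Agent.H8.Hens

/-- (1) ⇔ (2): let k be a field, A a local k-algebra and R a strict henselization of A. Then A is
geometrically reduced over k (K ⊗_k A reduced for every field extension K of k) if and only if R is
geometrically reduced over k. -/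
theorem result (k : Type u) [Field k]
    (A : Type u) [CommRing A] [IsLocalRing A] [Algebra k A]
    (R : Type u) [CommRing R] [IsLocalRing R] [Algebra A R] [IsLocalHom (algebraMap A R)]
    [Hensel.IsStrictHenselization A R] [Algebra k R] [IsScalarTower k A R] :
    (∀ (K : Type u) [Field K] [Algebra k K], IsReduced (TensorProduct k K A)) ↔
      ∀ (K : Type u) [Field K] [Algebra k K], IsReduced (TensorProduct k K R) := by
  classical
  constructor
  · -- (⇒)
    intro hA K _ _
    haveI := hA K
    refine ⟨fun x hx => ?_⟩
    obtain ⟨s, hs⟩ := TensorProduct.exists_finset x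
    obtain ⟨E, hsE, hloc, -, hEt⟩ := exists_essEtale_subalgebra A R (s.image Prod.snd)
    haveI : IsReduced (K ⊗[k] E) := isReduced_tensor_of_essEtale k K A E hEt
    let j : K ⊗[k] E →ₐ[k] K ⊗[k] R :=
      Algebra.TensorProduct.map (AlgHom.id k K) (E.val.restrictScalars k)
    have hj : Function.Injective j := by
      have : Function.Injective ((E.val.restrictScalars k).toLinearMap.lTensor K) :=
        Module.Flat.lTensor_preserves_injective_linearMap _ Subtype.val_injective
      exact this
    have hxr : x ∈ j.range := by
      rw [hs]
      refine Subalgebra.sum_mem _ fun i hi => ?_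
      have hiE : i.2 ∈ E := hsE (Finset.mem_coe.mpr (Finset.mem_image_of_mem Prod.snd hi))
      exact ⟨i.1 ⊗ₜ ⟨i.2, hiE⟩, rfl⟩
    obtain ⟨x', rfl⟩ := hxr
    have hx' : IsNilpotent x' := by
      obtain ⟨n, hn⟩ := hx
      refine ⟨n, hj ?_⟩
      rw [map_pow, map_zero]; exact hn
    rw [hx'.eq_zero]; exact map_zero _
  · -- (⇐)
    intro hR K _ _
    haveI := hR K
    haveI : Module.FaithfullyFlat A R := faithfullyFlat_of_isStrictHenselization (R := A) R
    have hinjAR : Function.Injective (IsScalarTower.toAlgHom k A R) :=
      FaithfulSMul.algebraMap_injective A R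
    let j : K ⊗[k] A →ₐ[k] K ⊗[k] R :=
      Algebra.TensorProduct.map (AlgHom.id k K) (IsScalarTower.toAlgHom k A R)
    have hj : Function.Injective j := by
      have : Function.Injective ((IsScalarTower.toAlgHom k A R).toLinearMap.lTensor K) :=
        Module.Flat.lTensor_preserves_injective_linearMap _ hinjAR
      exact this
    exact isReduced_of_injective j.toRingHom hj

end Groth.Agent.S10498
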