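import Groth.Statements.S10509
import Groth.Agent.S0412
import Groth.Agent.Lib.Helper5.AlgSp.Points

set_option autoImplicit false
universe u
open CategoryTheory CategoryTheory.Limits AlgebraicGeometry
open AlgSp

open Groth.Agent.H5.AlgSp

namespace Groth.Agent.S10509

/-- A smooth covering of an algebraic space `X` over `S` by algebraic spaces can be refined by an etale
covering of `X` by algebraic spaces: there is an etale covering `{U_j ⟶ X}` each member of which
factors through some member of the given smooth covering. -/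
theorem result {S : Scheme.{u}} (X : AlgSp.Space S) {ι : Type u}
    (Xi : ι → AlgSp.Space S) (g : ∀ i, Xi i ⟶ X)
    (h : AlgSp.IsSmCover (fun i => (Xi i).obj) (fun i => (g i).hom)) :
    ∃ (κ : Type u) (U : κ → AlgSp.Space S) (c : ∀ j, U j ⟶ X),
      AlgSp.IsEtCover (fun j => (U j).obj) (fun j => (c j).hom) ∧
      ∀ j, ∃ (i : ι) (r : U j ⟶ Xi i), r ≫ g i = c j := by
  obtain ⟨V, a, hae, has⟩ := X.property.atlas
  have hat : ∀ i, ∃ (W : Over S) (b : (yon S).obj W ⟶ (Xi i).obj),
      RepWith @Etale b ∧ RepWith @Surjective b := fun i => (Xi i).property.atlas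
  choose W b hbe hbs using hat
  -- local data at a point of V
  have key : ∀ v : ↥V.left, ∃ (i : ι) (T : Over S) (e : T ⟶ V) (t : ↥T.left)
      (l : (yon S).obj T ⟶ (Xi i).obj), Etale e.left ∧ e.left t = v ∧
        l ≫ (g i).hom = (yon S).map e ≫ a := by
    intro v
    obtain ⟨i, y, hy⟩ := h.2 (Points.ofPt a v)
    obtain ⟨w, rfl⟩ := ofPt_surjective_of_repWith (hbs i) y
    -- the pullback of `a` along `b i ≫ g i`
    have sq := hae.rep.isPullback (b i ≫ (g i).hom)
    obtain ⟨f, hf⟩ := (yon S).map_surjective (hae.rep.fst (b i ≫ (g i).hom))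
    have hsnd : Etale (hae.rep.snd (b i ≫ (g i).hom)).left := hae.property_snd _
    rw [← hf] at sq
    have hsm : Smooth f.left := by
      refine h.1 i ((yon S).map (hae.rep.snd (b i ≫ (g i).hom)) ≫ b i) a f ?_ hae ?_
      · exact (RepWith @Etale).comp_mem _ _ ((repWith_yon_map_iff _ _).2 hsnd) (hbe i)
      · rw [Category.assoc, ← sq.w]
    obtain ⟨p, hp1, hp2⟩ := exists_point_of_isPullback sq (Points.ofScheme V v) w (by
      rw [← Points.ofPt_eq_map_ofScheme, ← hy, Points.map_ofPt])
    have hfp : f.left p = v := by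
      have := congrArg (Points.toScheme V) hp2
      rwa [Points.toScheme_ofPt, Points.toScheme_ofScheme] at this
    obtain ⟨S', e, s', he, hes, k, hk⟩ := Groth.Agent.S0412.result f.left v ⟨p, hfp⟩
    subst hk
    let P : Over S := hae.rep.pullback (b i ≫ (g i).hom)
    let k' : Over.mk (k ≫ P.hom) ⟶ P := Over.homMk k rfl
    have hk' : (k' ≫ f).left = k ≫ f.left := rfl
    refine ⟨i, Over.mk (k ≫ P.hom), k' ≫ f, s',
      (yon S).map k' ≫ (yon S).map (hae.rep.snd (b i ≫ (g i).hom)) ≫ b i, ?_, hes, ?_⟩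
    · rw [hk']; exact he
    · simp only [Category.assoc, Functor.map_comp]
      rw [sq.w]
  choose i T e t l he het hl using key
  refine ⟨↥V.left, fun v => ⟨(yon S).obj (T v), IsAlgSpace.yon_obj _⟩,
    fun v => ObjectProperty.homMk ((yon S).map (e v) ≫ a), ⟨?_, ?_⟩, ?_⟩
  · intro v Z φ hφ
    exact (RepWith @Etale).comp_mem _ _ hφ
      ((RepWith @Etale).comp_mem _ _ ((repWith_yon_map_iff _ _).2 (he v)) hae)
  · intro x
    obtain ⟨v, rfl⟩ := ofPt_surjective_of_repWith has x
    refine ⟨v, Points.ofScheme (T v) (t v), ?_⟩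
    change Points.map ((yon S).map (e v) ≫ a) _ = _
    rw [← Points.ofPt_eq_map_ofScheme, ofPt_yon_map_comp, het]
  · intro v
    refine ⟨i v, ObjectProperty.homMk (l v), ?_⟩
    ext : 1
    exact hl v

end Groth.Agent.S10509
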