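import Groth.Statements.S10512
import Groth.Agent.Lib.Helper3.AlgSpCov.BigSmall

set_option autoImplicit false
universe u
open CategoryTheory CategoryTheory.Limits AlgebraicGeometry
open AlgSp

open Groth.Agent.H5.AlgSp

namespace Groth.Agent.S10512

set_option backward.isDefEq.respectTransparency false in
/-- For a morphism `f : Y ⟶ X` of algebraic spaces over `S`, the functor from the small etale site of
`Y` (scheme objects) to the big etale site `(Spaces/X)_{etale}` sending `h_U ⟶ Y` to `h_U ⟶ Y ⟶ X`
is cocontinuous; for `f = 𝟙` this is the cocontinuity of the inclusion of the small etale site of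
`X` into its big etale site. (Stated for the small etale site with scheme objects, which defines the
same topos as the one with algebraic-space objects.) -/
theorem result {S : Scheme.{u}} {X Y : AlgSp.Space S} (f : Y ⟶ X) :
    (AlgSp.EtOver.toEtSpOver Y ⋙ ObjectProperty.ι (fun E : Over Y => AlgSp.IsEtaleMor E.hom.hom) ⋙
        Over.map f).IsCocontinuous (AlgSp.etTop Y.obj) (AlgSp.spacesTopOver AlgSp.IsEtaleMor X) := by
  let F := AlgSp.EtOver.toEtSpOver Y ⋙ ObjectProperty.ι (fun E : Over Y => AlgSp.IsEtaleMor E.hom.hom) ⋙
        Over.map f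
  change F.IsCocontinuous _ _
  refine ⟨fun {E} T hT => ?_⟩
  rw [GrothendieckTopology.mem_over_iff] at hT
  have href := Groth.Agent.H3.BigSmall.refines_of_mem_spacesTop hT E.obj.left (𝟙 _)
  choose V e v he hev hmem using href
  let E' : ↥E.obj.left.left → EtOver Y.obj := fun u =>
    EtOver.mk ((yon S).map (e u) ≫ E.obj.hom)
      ((repWith_isMultiplicative (S := S) @Etale).comp_mem _ _
        ((repWith_yon_map_iff _ _).2 (he u)) E.property)
  let g : ∀ u, E' u ⟶ E := fun u => EtOver.homMk (e u) rfl
  have hcov : Sieve.ofArrows E' g ∈ etTop Y.obj E :=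
    ofArrows_mem_etTop _ _ (fun u => ⟨u, v u, hev u⟩)
  refine (etTop Y.obj).superset_covering ?_ hcov
  rw [Sieve.ofArrows, Sieve.generate_le_iff]
  have key : ∀ u, T (F.map (g u)) := by
    intro u
    obtain ⟨W, k, h, hk, hfac⟩ := hmem u
    rw [Category.comp_id] at hfac
    have hw : h ≫ W.hom = (F.obj (E' u)).hom := by
      have h1 := Over.w k
      rw [← h1, ← Category.assoc]
      have h2 : h ≫ k.left = (ofScheme S).map (e u) := hfac.symm
      rw [h2]
      rfl
    have : F.map (g u) = (Over.homMk h hw : _ ⟶ W) ≫ k := by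
      apply Over.OverMorphism.ext
      exact hfac
    rw [this]
    exact T.downward_closed hk _
  intro Z z hz
  obtain ⟨u⟩ := hz
  exact key u

end Groth.Agent.S10512
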