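import Groth.Statements.S10563
import Groth.Agent.S4991
import Groth.Agent.Lib.Helper1.LocNoethFib
import Groth.Agent.Lib.Helper1.RegLoc
import Groth.Agent.Lib.Helper3.AlgSpCov.SourceLocP

set_option autoImplicit false
universe u
open CategoryTheory CategoryTheory.Limits AlgebraicGeometry
open AlgSp

namespace Groth.Agent.S10563

open Groth.Agent.H5.AlgSp in
/-- Let f : X ⟶ Y be a morphism of algebraic spaces over S which is locally of finite presentation, flat
and surjective. If X is regular (etale locally a locally Noetherian scheme all of whose local rings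
are regular local rings) then Y is regular. -/
theorem result {S : Scheme.{u}} {X Y : AlgSp.Space S} (f : X ⟶ Y)
    (hfp : AlgSp.LocP @LocallyOfFinitePresentation f.hom) (hfl : AlgSp.LocP @Flat f.hom)
    (hs : AlgSp.IsSurjectiveMor f.hom)
    (hX : AlgSp.EtaleLocally (fun U => IsLocallyNoetherian U ∧ ∀ u : ↥U, IsRegularLocalRing ↥(U.presheaf.stalk u)) X.obj) :
    AlgSp.EtaleLocally (fun U => IsLocallyNoetherian U ∧ ∀ u : ↥U, IsRegularLocalRing ↥(U.presheaf.stalk u)) Y.obj := by
  obtain ⟨U₀, a₀, hae, has, hU₀N, hU₀R⟩ := hX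
  obtain ⟨V, b, hbe, hbs⟩ := Y.property.atlas
  refine ⟨V, b, hbe, hbs, ?_⟩
  let g : (yon S).obj U₀ ⟶ Y.obj := a₀ ≫ f.hom
  let T : Over S := hbe.rep.pullback g
  let π : T ⟶ U₀ := hbe.rep.snd g
  have sqT : IsPullback (hbe.rep.fst g) ((yon S).map π) b g := hbe.rep.isPullback g
  have hπe : Etale π.left := hbe.property_snd _
  obtain ⟨k, hk⟩ : ∃ k : T ⟶ V, (yon S).map k = hbe.rep.fst g :=
    (yon S).map_surjective (hbe.rep.fst g)
  -- `T` is locally Noetherian and regular
  have : IsLocallyNoetherian U₀.left := hU₀N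
  have hTN : IsLocallyNoetherian T.left := LocallyOfFiniteType.isLocallyNoetherian π.left
  have hTR : ∀ t : T.left, IsRegularLocalRing (T.left.presheaf.stalk t) := by
    intro t
    exact (Groth.Agent.S4991.result π.left t ⟨⊤, trivial, inferInstance⟩).2 (hU₀R _)
  -- `k : T ⟶ V` is flat, locally of finite presentation and surjective
  have hchart : ((yon S).map π ≫ a₀) ≫ f.hom = (yon S).map k ≫ b := by
    rw [Category.assoc, hk]
    exact sqT.w.symm
  have hae' : RepWith @Etale ((yon S).map π ≫ a₀) :=
    (RepWith @Etale).comp_mem _ _ ((repWith_yon_map_iff @Etale _).2 hπe) hae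
  have hkfl : Flat k.left := hfl _ b k hae' hbe hchart
  have hkfp : LocallyOfFinitePresentation k.left := hfp _ b k hae' hbe hchart
  have hksurj : Surjective k.left := by
    refine ⟨fun v => ?_⟩
    obtain ⟨x, hx⟩ := hs (Points.map b (Points.ofScheme V v))
    obtain ⟨u₀, rfl⟩ := ofPt_surjective_of_repWith has x
    have h1 : Points.map b (Points.ofScheme V v) = Points.ofPt g u₀ := by
      rw [← hx, Points.map_ofPt]
    obtain ⟨w, -, hw⟩ := exists_point_of_isPullback sqT (Points.ofScheme V v) u₀ h1
    refine ⟨w, ?_⟩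
    rw [← hk] at hw
    have := congrArg (Points.toScheme V) hw
    rwa [Points.toScheme_ofPt, Points.toScheme_ofScheme] at this
  have hVN : IsLocallyNoetherian V.left :=
    Groth.Agent.H1.LocNoeth.isLocallyNoetherian_of_flat_surjective_isOpenMap k.left
      k.left.isOpenMap
  refine ⟨hVN, fun v => ?_⟩
  obtain ⟨w, rfl⟩ := hksurj.surj v
  have := hTR w
  have hflat : (k.left.stalkMap w).hom.Flat := Flat.stalkMap k.left w
  have hloc : IsLocalHom (k.left.stalkMap w).hom := inferInstance
  algebraize [(k.left.stalkMap w).hom]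
  have : IsLocalHom (algebraMap (V.left.presheaf.stalk (k.left w)) (T.left.presheaf.stalk w)) :=
    hloc
  have : IsNoetherianRing (V.left.presheaf.stalk (k.left w)) := inferInstance
  exact Groth.Agent.H1.Reg.isRegularLocalRing_of_flat (V.left.presheaf.stalk (k.left w))
    (T.left.presheaf.stalk w)

end Groth.Agent.S10563
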