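import Groth.Statements.S10721
import Groth.Agent.Lib.Helper2.BLSurj

set_option autoImplicit false
universe u
open TensorProduct
open EtAlg

namespace Groth.Agent.S10721

/-- Glueing along a glueing pair detects closed immersions of affine schemes, stated for coordinate
rings. Let `(R → R', f)` be a glueing pair and `φ : A → B` a homomorphism of `R`-algebras with `A`,
`B` glueable as `R`-modules (so `Spec A`, `Spec B` are affine and glueable over `Spec R`). Then `φ`
is surjective (a closed immersion on spectra) if and only if `A_f → B_f` and `R' ⊗_R A → R' ⊗_R B`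
are surjective. -/
theorem result (R : Type u) [CommRing R] (R' : Type u) [CommRing R'] [Algebra R R'] (f : R)
    (hRR' : EtGlue.IsGlueingPair R R' f) (A B : Type u) [CommRing A] [Algebra R A] [CommRing B] [Algebra R B]
    (hA : EtGlue.IsGlueable R R' f A) (hB : EtGlue.IsGlueable R R' f B) (φ : A →ₐ[R] B) :
    Function.Surjective φ ↔
      Function.Surjective (Localization.awayMap φ.toRingHom (algebraMap R A f)) ∧ Function.Surjective (Algebra.TensorProduct.map (AlgHom.id R R') φ).toRingHom := by
  have hq := hRR'.1
  constructor
  · intro h
    refine ⟨?_, ?_⟩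
    · rw [Localization.awayMap_surjective_iff]
      intro b
      obtain ⟨a, ha⟩ := h b
      exact ⟨a, 0, by simpa using ha⟩
    · intro x
      obtain ⟨y, hy⟩ := LinearMap.lTensor_surjective R' (g := φ.toLinearMap) h x
      refine ⟨y, ?_⟩
      rw [← hy]
      clear hy
      induction y using TensorProduct.induction_on with
      | zero => simp
      | tmul a b => simp
      | add a b ha hb => simp only [map_add]; rw [ha, hb]
  · rintro ⟨h1, h2⟩
    rw [Localization.awayMap_surjective_iff] at h1
    apply Groth.Agent.H2.BL.surjective_of_lTensor_surjective hq φ.toLinearMap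
    · intro b
      obtain ⟨a, m, ha⟩ := h1 b
      refine ⟨m, a, ?_⟩
      simp only [AlgHom.toRingHom_eq_coe, RingHom.coe_coe, AlgHom.commutes] at ha
      rw [AlgHom.toLinearMap_apply, ha, Algebra.smul_def, map_pow]
    · intro x
      obtain ⟨y, hy⟩ := h2 x
      refine ⟨y, ?_⟩
      rw [← hy]
      clear hy
      induction y using TensorProduct.induction_on with
      | zero => simp
      | tmul a b => simp
      | add a b ha hb => simp only [map_add]; rw [ha, hb]

end Groth.Agent.S10721
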