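import Groth.Statements.S10723
import Groth.Agent.Lib.Helper2.BLAlgDesc

set_option autoImplicit false
universe u
open TensorProduct
open EtAlg

namespace Groth.Agent.S10723

/-- Glueing along a glueing pair detects morphisms of affine schemes that are flat and of finite
presentation, stated for coordinate rings. Let `(R → R', f)` be a glueing pair and `φ : A → B` a
homomorphism of `R`-algebras with `A`, `B` glueable as `R`-modules (so `Spec A`, `Spec B` are affine
and glueable over `Spec R`). Then `φ` is flat and of finite presentation if and only if `A_f → B_f`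
and `R' ⊗_R A → R' ⊗_R B` are. -/
theorem result (R : Type u) [CommRing R] (R' : Type u) [CommRing R'] [Algebra R R'] (f : R)
    (hRR' : EtGlue.IsGlueingPair R R' f) (A B : Type u) [CommRing A] [Algebra R A] [CommRing B] [Algebra R B]
    (hA : EtGlue.IsGlueable R R' f A) (hB : EtGlue.IsGlueable R R' f B) (φ : A →ₐ[R] B) :
    (φ.toRingHom.Flat ∧ φ.toRingHom.FinitePresentation) ↔
      ((Localization.awayMap φ.toRingHom (algebraMap R A f)).Flat ∧ (Localization.awayMap φ.toRingHom (algebraMap R A f)).FinitePresentation) ∧
        ((Algebra.TensorProduct.map (AlgHom.id R R') φ).toRingHom.Flat ∧ (Algebra.TensorProduct.map (AlgHom.id R R') φ).toRingHom.FinitePresentation) := by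
  have hq := hRR'.1
  letI : Algebra A B := φ.toRingHom.toAlgebra
  haveI : IsScalarTower R A B := IsScalarTower.of_algebraMap_eq (fun r => (φ.commutes r).symm)
  have hφ : IsScalarTower.toAlgHom R A B = φ := AlgHom.ext fun _ => rfl
  constructor
  · rintro ⟨hfl, hfp⟩
    have hfl' : Module.Flat A B := hfl
    have hfp' : Algebra.FinitePresentation A B := hfp
    refine ⟨⟨RingHom.Flat.isStableUnderBaseChange.localizationPreserves.away _
      (algebraMap R A f) _ _ hfl,
      RingHom.finitePresentation_localizationPreserves.away _ (algebraMap R A f) _ _ hfp⟩, ?_, ?_⟩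
    · rw [← hφ]; exact Groth.Agent.H2.BL.ringHom_flat_of_flat
    · rw [← hφ]; exact Groth.Agent.H2.BL.ringHom_fp_of_fp
  · rintro ⟨⟨h1, h2⟩, h3, h4⟩
    rw [← hφ] at h3 h4
    letI := Algebra.TensorProduct.rightAlgebra (R := R) (A := R') (B := A)
    have hGP := Groth.Agent.H2.BL.isGlueingPair_tensor A hq hA
    have i1 := Groth.Agent.H2.BL.flat_tensor_of_ringHom_flat h3
    have i2 := Groth.Agent.H2.BL.fp_tensor_of_ringHom_fp h4
    letI := Groth.Agent.H2.BL.awayAlg A B (algebraMap R A f)
    have h1' : Module.Flat (Localization.Away (algebraMap R A f))
      (Localization.Away (algebraMap A B (algebraMap R A f))) := h1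
    have h2' : Algebra.FinitePresentation (Localization.Away (algebraMap R A f))
      (Localization.Away (algebraMap A B (algebraMap R A f))) := h2
    have i3 : Module.Flat (Localization.Away (algebraMap R A f))
        (Localization.Away (algebraMap R A f) ⊗[A] B) :=
      Module.Flat.of_linearEquiv
        (Groth.Agent.H2.BL.awayTensorEquiv A B (algebraMap R A f)).symm.toLinearEquiv
    have i4 : Algebra.FinitePresentation (Localization.Away (algebraMap R A f))
        (Localization.Away (algebraMap R A f) ⊗[A] B) :=
      Algebra.FinitePresentation.equiv (Groth.Agent.H2.BL.awayTensorEquiv A B (algebraMap R A f))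
    have i5 : Algebra.FiniteType A B := by
      refine Groth.Agent.H2.BL.finiteType_of_finiteType hq (A := A) (B := B)
        (Localization.Away (algebraMap A B (algebraMap R A f))) (algebraMap A B (algebraMap R A f))
        (φ.commutes f) ?_ (RingHom.FiniteType.of_finitePresentation h4)
      have : (algebraMap B (Localization.Away (algebraMap A B (algebraMap R A f)))).comp
          (algebraMap A B) =
          (Localization.awayMap (algebraMap A B) (algebraMap R A f)).comp
            (algebraMap A (Localization.Away (algebraMap R A f))) :=
        (IsLocalization.map_comp _).symm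
      rw [this]
      exact (RingHom.FiniteType.of_finitePresentation h2).comp (RingHom.finiteType_holdsForLocalizationAway _ (algebraMap R A f))
    exact Groth.Agent.H2.BL.flat_fp_of_flat_fp hGP B

end Groth.Agent.S10723
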