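import Groth.Statements.S10724
import Groth.Agent.Lib.Helper2.BLAlgDesc
import Groth.Agent.S10723

set_option autoImplicit false
universe u
open TensorProduct
open EtAlg

namespace Groth.Agent.S10724

/-- Glueing along a glueing pair detects etale morphisms of affine schemes, stated for coordinate rings.
Let `(R → R', f)` be a glueing pair and `φ : A → B` a homomorphism of `R`-algebras with `A`, `B`
glueable as `R`-modules (so `Spec A`, `Spec B` are affine and glueable over `Spec R`). Then `φ` is
etale if and only if `A_f → B_f` and `R' ⊗_R A → R' ⊗_R B` are. -/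
theorem result (R : Type u) [CommRing R] (R' : Type u) [CommRing R'] [Algebra R R'] (f : R)
    (hRR' : EtGlue.IsGlueingPair R R' f) (A B : Type u) [CommRing A] [Algebra R A] [CommRing B] [Algebra R B]
    (hA : EtGlue.IsGlueable R R' f A) (hB : EtGlue.IsGlueable R R' f B) (φ : A →ₐ[R] B) :
    φ.toRingHom.Etale ↔ (Localization.awayMap φ.toRingHom (algebraMap R A f)).Etale ∧ (Algebra.TensorProduct.map (AlgHom.id R R') φ).toRingHom.Etale := by
  have hq := hRR'.1
  letI : Algebra A B := φ.toRingHom.toAlgebra
  haveI : IsScalarTower R A B := IsScalarTower.of_algebraMap_eq (fun r => (φ.commutes r).symm)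
  have hφ : IsScalarTower.toAlgHom R A B = φ := AlgHom.ext fun _ => rfl
  constructor
  · intro het
    have het' : Algebra.Etale A B := het
    refine ⟨RingHom.Etale.isStableUnderBaseChange.localizationPreserves.away _
      (algebraMap R A f) _ _ het, ?_⟩
    rw [← hφ]
    letI := Groth.Agent.H2.BL.tensorAlg R R' A B
    change Algebra.Etale (R' ⊗[R] A) (R' ⊗[R] B)
    letI := Algebra.TensorProduct.rightAlgebra (R := R) (A := R') (B := A)
    exact Algebra.Etale.of_equiv (Groth.Agent.H2.BL.tensorEquiv R R' A B).symm
  · rintro ⟨h1, h2⟩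
    rw [RingHom.Etale.iff_flat_and_formallyUnramified] at h1 h2 ⊢
    obtain ⟨h1f, h1u, h1p⟩ := h1
    obtain ⟨h2f, h2u, h2p⟩ := h2
    obtain ⟨hfl, hfp⟩ := (Groth.Agent.S10723.result R R' f hRR' A B hA hB φ).2
      ⟨⟨h1f, h1p⟩, h2f, h2p⟩
    refine ⟨hfl, ?_, hfp⟩
    rw [← hφ] at h2u
    letI := Algebra.TensorProduct.rightAlgebra (R := R) (A := R') (B := A)
    have hq' := Groth.Agent.H2.BL.quotPowBijective_tensor A hq
    have i1 : Algebra.FormallyUnramified (R' ⊗[R] A) ((R' ⊗[R] A) ⊗[A] B) := by
      letI := Groth.Agent.H2.BL.tensorAlg R R' A B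
      have h' : Algebra.FormallyUnramified (R' ⊗[R] A) (R' ⊗[R] B) := h2u
      exact Algebra.FormallyUnramified.of_equiv (Groth.Agent.H2.BL.tensorEquiv R R' A B)
    have i2 : Algebra.FormallyUnramified (Localization.Away (algebraMap R A f))
        (Localization.Away (algebraMap R A f) ⊗[A] B) := by
      letI := Groth.Agent.H2.BL.awayAlg A B (algebraMap R A f)
      have h' : Algebra.FormallyUnramified (Localization.Away (algebraMap R A f))
        (Localization.Away (algebraMap A B (algebraMap R A f))) := h1u
      exact Algebra.FormallyUnramified.of_equiv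
        (Groth.Agent.H2.BL.awayTensorEquiv A B (algebraMap R A f))
    exact Groth.Agent.H2.BL.formallyUnramified_of hq' B

end Groth.Agent.S10724
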