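import Groth.Statements.S10750
import Groth.Agent.Lib.Helper7.PropImg
import Groth.Agent.Lib.Helper7.QFin6
import Mathlib
-- import your own Groth.Agent.* helpers here

set_option autoImplicit false
universe u
open CategoryTheory CategoryTheory.Limits AlgebraicGeometry Opposite
open AlgSp

namespace Groth.Agent.S10750

/-- Take a proper morphism f : X ⟶ Y of algebraic spaces over S whose target Y is locally Noetherian,
and let y be a geometric point of Y such that the fibre X_y (a pullback of f along the corresponding
morphism from the spectrum of the algebraically closed field) has finitely many points. Then there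
is an open subspace V of Y containing the image of y such that the base change X ×_Y V ⟶ V is
finite. -/
theorem result {S : Scheme.{u}} {X Y : AlgSp.Space S}
    (f : X ⟶ Y) (hY : AlgSp.IsLocNoethSp Y.obj) (hf : AlgSp.IsProperMor f.hom) (y : AlgSp.FieldPt Y.obj)
    (hy : y.IsGeometric) (Xy : AlgSp.Sp S) (fst : Xy ⟶ X.obj) (snd : Xy ⟶ (AlgSp.yon S).obj y.pt)
    (hsq : IsPullback fst snd f.hom y.toHom) (hfin : Finite (AlgSp.Points Xy)) :
    ∃ (V : AlgSp.Space S) (j : V ⟶ Y), AlgSp.RepWith @IsOpenImmersion j.hom ∧
      AlgSp.Points.mk y ∈ Set.range (AlgSp.Points.map j.hom) ∧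
        ∀ (P : AlgSp.Space S) (fst' : P ⟶ X) (snd' : P ⟶ V), IsPullback fst'.hom snd'.hom f.hom j.hom →
          AlgSp.IsFiniteMor snd'.hom := by
  have sq := IsPullback.of_hasPullback f.hom y.toHom
  let e : Xy ≅ pullback f.hom y.toHom := hsq.isoIsPullback _ _ sq
  haveI : Finite (AlgSp.Points (pullback f.hom y.toHom)) := by
    refine Finite.of_surjective (AlgSp.Points.map e.hom) fun z => ⟨AlgSp.Points.map e.inv z, ?_⟩
    rw [← AlgSp.Points.map_comp, e.inv_hom_id, AlgSp.Points.map_id]
  exact Groth.Agent.H7.QFinSp.S10650_main f (AlgSp.Points.mk y) hf (fun x hx =>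
    Groth.Agent.H7.PropImg.hasAtMor_QF_of_finite_fieldFibre X.property Y.property f.hom hf.1
      hf.2.1.1 y x hx)

end Groth.Agent.S10750
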