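import Groth.Statements.S1076
import Groth.Agent.Lib.Helper2.CompGen3

set_option autoImplicit false
universe v u
open CategoryTheory
open DerLim

namespace Groth.Agent.S1076

open CategoryTheory.Limits CategoryTheory.Pretriangulated in
/-- Let D be a triangulated category with all small direct sums and E a small nonempty family of compact
objects (nonempty so that the envelope of a finite subfamily can contain a zero object). Let X₀ → X₁
→ … be a sequential system in which X₀ is a direct sum of shifts of members of E and each Xₙ → Xₙ₊₁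
sits in a distinguished triangle Yₙ → Xₙ → Xₙ₊₁ → Yₙ[1] with Yₙ a direct sum of shifts of members of
E. Then every morphism from a compact object C to some Xₙ factors through an object of the
triangulated envelope (closure under shifts, finite sums, summands and extensions) of finitely many
members of E. -/
theorem result {D : Type u} [Category.{v} D] [Preadditive D] [Limits.HasZeroObject D] [HasShift D ℤ]
    [∀ n : ℤ, (shiftFunctor D n).Additive] [Pretriangulated D] [IsTriangulated D] [HasCoproducts.{v} D]
    {ι : Type v} [Nonempty ι] (E : ι → D) (hc : ∀ i, CohDer.IsCompactObject (E i))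
    (K : ℕ → D) (f : ∀ n, K n ⟶ K (n + 1))
    (h0 : ∃ (κ : Type v) (a : κ → ι) (m : κ → ℤ), Nonempty (K 0 ≅ ∐ (fun k => (shiftFunctor D (m k)).obj (E (a k)))))
    (hstep : ∀ n, ∃ (κ : Type v) (a : κ → ι) (m : κ → ℤ) (y : (∐ fun k => (shiftFunctor D (m k)).obj (E (a k))) ⟶ K n)
      (z : K (n + 1) ⟶ (shiftFunctor D (1 : ℤ)).obj (∐ fun k => (shiftFunctor D (m k)).obj (E (a k)))),
      Triangle.mk y (f n) z ∈ distinguishedTriangles)
    (C : D) (hC : CohDer.IsCompactObject C) (n : ℕ) (φ : C ⟶ K n) :
    ∃ (s : Finset ι) (E' : D) (g : C ⟶ E') (h : E' ⟶ K n),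
      ObjectProperty.triangEnvelope (fun Y : D => ∃ i ∈ s, Y = E i) E' ∧ g ≫ h = φ := by
  have hshape : ∀ {κ : Type v} (a : κ → ι) (m : κ → ℤ) (k : κ),
      ∃ i, Groth.Agent.H2.CompGen.Env E {i} ((shiftFunctor D (m k)).obj (E (a k))) :=
    fun a m k => ⟨a k, (Groth.Agent.H2.CompGen.Env E {a k}).le_shift (m k) _
      (Groth.Agent.H2.CompGen.env_self E (a k) (Finset.mem_singleton_self _))⟩
  have h := Groth.Agent.H2.CompGen.fac_tower (E := E)
    (fun i => Groth.Agent.H2.CompGen.wc_of_isCompactObject (hc i)) K f
    (by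
      obtain ⟨κ, a, m, hiso⟩ := h0
      exact ⟨κ, fun k => (shiftFunctor D (m k)).obj (E (a k)), hshape a m, hiso⟩)
    (by
      intro n
      obtain ⟨κ, a, m, y, z, hT⟩ := hstep n
      exact ⟨κ, fun k => (shiftFunctor D (m k)).obj (E (a k)), hshape a m, y, z, hT⟩)
    n C (Groth.Agent.H2.CompGen.wc_of_isCompactObject hC) φ
  exact h

end Groth.Agent.S1076
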