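import Groth.Statements.S10824
import Groth.Agent.Lib.Helper2.Bez4

set_option autoImplicit false
universe u
open Variety

namespace Groth.Agent.S10824

/-- Let k be a field, S the polynomial ring in three variables over k with degree-d part S_d, and f, g
nonzero homogeneous polynomials of positive degrees n and m with no common non-unit factor. Then for
every d ≥ n + m the degree-d part of S/(f, g), namely S_d modulo its intersection with the ideal (f,
g), has dimension n·m over k. -/
theorem result (k : Type u) [Field k] (n m d : ℕ)
    (f g : MvPolynomial (Fin 3) k) (hf : f.IsHomogeneous n) (hg : g.IsHomogeneous m)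
    (hn : 0 < n) (hm : 0 < m) (hf0 : f ≠ 0) (hg0 : g ≠ 0) (hfg : IsRelPrime f g) (hd : n + m ≤ d) :
    Module.finrank k
        (↥(MvPolynomial.homogeneousSubmodule (Fin 3) k d) ⧸
          Submodule.comap (MvPolynomial.homogeneousSubmodule (Fin 3) k d).subtype
            ((Ideal.span ({f, g} : Set (MvPolynomial (Fin 3) k))).restrictScalars k)) = n * m := by
  classical
  set S := MvPolynomial.homogeneousSubmodule (Fin 3) k d with hS
  set J : Submodule k (MvPolynomial (Fin 3) k) :=
    (Ideal.span ({f, g} : Set (MvPolynomial (Fin 3) k))).restrictScalars k with hJ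
  have hSfin : FiniteDimensional k S :=
    Module.Finite.iff_fg.mpr (MvPolynomial.homogeneousSubmodule_fg (σ := Fin 3) (R := k) d)
  have h1 := Submodule.finrank_quotient_add_finrank (Submodule.comap S.subtype J)
  have h2 : Module.finrank k ↥(Submodule.comap S.subtype J) =
      Module.finrank k ↥(Groth.Agent.H2.PtsGen.Igr (Ideal.span ({f, g} : Set (MvPolynomial (Fin 3) k))) d) := by
    have e1 : Submodule.comap S.subtype J = Submodule.comap S.subtype (J ⊓ S) := by
      ext x
      simp only [Submodule.mem_comap, Submodule.mem_inf, Submodule.subtype_apply]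
      exact ⟨fun h => ⟨h, x.2⟩, fun h => h.1⟩
    rw [e1]
    exact LinearEquiv.finrank_eq (Submodule.comapSubtypeEquivOfLe (inf_le_right : J ⊓ S ≤ S))
  have h3 := Groth.Agent.H2.Bez.finrank_Igr_add f g n m hf hg hf0 hg0 hfg d hd
  have h4 := Groth.Agent.H2.Bez.choose_identity n m d hd
  have h5 : Module.finrank k S = (d + 2).choose 2 :=
    Groth.Agent.H2.HypHilb.finrank_homogeneousSubmodule 2 d
  rw [h2, h5] at h1
  omega

end Groth.Agent.S10824
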