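import Groth.Statements.S10829
import Groth.Agent.Lib.Helper2.ProjDimTop

set_option autoImplicit false
universe u
open AlgebraicGeometry
open Variety

namespace Groth.Agent.S10829

/-- For a field k and a natural number n, projective n-space over k (Proj of the polynomial ring in n +
1 variables graded by degree) has Krull dimension n as a topological space. (The published statement
also gives affine n-space dimension n; that half is the Krull dimension of a polynomial ring and is
not restated here.) -/
theorem result (k : Type u) [Field k] (n : ℕ) :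
    topologicalKrullDim ↥(CohB1.ProjSpace n k) = (n : WithBot ℕ∞) := by
  have h0 := Groth.Agent.H2.ProjDim.mvPolynomial_h0 k (Fin (n + 1))
  have hbot : (⊥ : Ideal (MvPolynomial (Fin (n + 1)) k)).IsHomogeneous (CohB1.polyGrading n k) :=
    Ideal.IsHomogeneous.bot _
  have hrel : ¬ (HomogeneousIdeal.irrelevant (CohB1.polyGrading n k)).toIdeal ≤
      (⊥ : Ideal (MvPolynomial (Fin (n + 1)) k)) := by
    intro hle
    have h1 : (MvPolynomial.X 0 : MvPolynomial (Fin (n + 1)) k) ∈
        (HomogeneousIdeal.irrelevant (CohB1.polyGrading n k)).toIdeal :=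
      HomogeneousIdeal.mem_irrelevant_of_mem _ Nat.one_pos (MvPolynomial.isHomogeneous_X k 0)
    have h2 := hle h1
    rw [Ideal.mem_bot] at h2
    exact MvPolynomial.X_ne_zero 0 h2
  have key := Groth.Agent.H2.ProjDim.topologicalKrullDim_zeroLocus_add_one
    (CohB1.polyGrading n k) h0 ⊥ hbot
    ⟨Groth.Agent.H2.ProjDim.mkPoint (CohB1.polyGrading n k) ⊥ Ideal.isPrime_bot hbot hrel,
      by rw [ProjectiveSpectrum.mem_zeroLocus]; exact fun x hx => hx⟩
  rw [ProjectiveSpectrum.zeroLocus_bot,
    ringKrullDim_eq_of_ringEquiv (RingEquiv.quotientBot (MvPolynomial (Fin (n + 1)) k)),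
    Groth.Agent.H2.DimFG.ringKrullDim_mvPolynomial_fin] at key
  have hhomeo : topologicalKrullDim ↥(Set.univ : Set (ProjectiveSpectrum (CohB1.polyGrading n k))) =
      topologicalKrullDim (ProjectiveSpectrum (CohB1.polyGrading n k)) :=
    IsHomeomorph.topologicalKrullDim_eq _ (Homeomorph.Set.univ _).isHomeomorph
  rw [hhomeo] at key
  change topologicalKrullDim (ProjectiveSpectrum (CohB1.polyGrading n k)) = _
  push_cast at key
  exact Groth.Agent.H2.ProjDim.withBot_enat_add_one_cancel key

end Groth.Agent.S10829
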