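import Groth.Statements.S10834
import Groth.Agent.Lib.Helper6.RegHyper

set_option autoImplicit false
universe u
open CAlg

namespace Groth.Agent.S10834

/-- Let A be a Noetherian ring whose localizations at all prime ideals are regular local rings, and f an
element of A generating a prime ideal, so that A/(f) is an integral domain (an integral hypersurface
in the regular affine scheme Spec A). Then A/(f) is normal (integrally closed in its fraction field)
if and only if it is regular in codimension 1, i.e. its localization at every prime at which the
local ring has dimension 1 is a regular local ring. -/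
theorem result (A : Type u) [CommRing A]
    [IsNoetherianRing A] (hreg : ∀ (p : Ideal A) (_ : p.IsPrime), IsRegularLocalRing (Localization.AtPrime p))
    (f : A) (hf : (Ideal.span ({f} : Set A)).IsPrime) :
    IsIntegrallyClosed (A ⧸ Ideal.span ({f} : Set A)) ↔
      ∀ q : PrimeSpectrum (A ⧸ Ideal.span ({f} : Set A)),
        ringKrullDim (Localization.AtPrime q.asIdeal) = 1 →
          IsRegularLocalRing (Localization.AtPrime q.asIdeal) := by
  haveI : IsDomain (A ⧸ Ideal.span ({f} : Set A)) := Ideal.Quotient.isDomain _
  constructor
  · intro hic q hq
    have hle : q.asIdeal.primeCompl ≤ nonZeroDivisors (A ⧸ Ideal.span ({f} : Set A)) :=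
      Ideal.primeCompl_le_nonZeroDivisors q.asIdeal
    haveI : IsDomain (Localization.AtPrime q.asIdeal) := IsLocalization.isDomain_localization hle
    haveI : IsIntegrallyClosed (Localization.AtPrime q.asIdeal) :=
      isIntegrallyClosed_of_isLocalization (Localization.AtPrime q.asIdeal) q.asIdeal.primeCompl hle
    haveI : IsNoetherianRing (Localization.AtPrime q.asIdeal) :=
      IsLocalization.isNoetherianRing q.asIdeal.primeCompl _ inferInstance
    apply Groth.Agent.H6.SerreNormal.isRegularLocalRing_of_normal
    have h1 := IsLocalRing.maximalIdeal_height_eq_ringKrullDim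
      (R := Localization.AtPrime q.asIdeal)
    rw [hq] at h1
    have h2 : (IsLocalRing.maximalIdeal (Localization.AtPrime q.asIdeal)).height = 1 := by
      exact_mod_cast h1
    rw [h2]
  · intro h
    apply Groth.Agent.H6.SerreNormal.isIntegrallyClosed_of_R1_S2
    · intro q hq hht
      haveI : IsNoetherianRing (Localization.AtPrime q) :=
        IsLocalization.isNoetherianRing q.primeCompl _ inferInstance
      have hdim := IsLocalization.AtPrime.ringKrullDim_eq_height q (Localization.AtPrime q)
      rcases (Order.le_one_iff (x := q.height)).mp (by exact_mod_cast hht) with h0 | h1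
      · have hle : q.primeCompl ≤ nonZeroDivisors (A ⧸ Ideal.span ({f} : Set A)) :=
          Ideal.primeCompl_le_nonZeroDivisors q
        haveI : IsDomain (Localization.AtPrime q) := IsLocalization.isDomain_localization hle
        rw [isRegularLocalRing_iff]
        have hm : IsLocalRing.maximalIdeal (Localization.AtPrime q) = ⊥ := by
          rw [← Ideal.height_eq_zero_iff_eq_bot,
            Groth.Agent.H6.SerreNormal.height_maximalIdeal_localization, h0]
        rw [hm, Submodule.spanFinrank_bot, hdim, h0]
        rfl
      · exact h ⟨q, hq⟩ (by rw [hdim, h1]; rfl)
    · exact Groth.Agent.H6.RegHyper.hasSk_quotient hreg f 2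

end Groth.Agent.S10834
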