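import Groth.Statements.S10839
import Groth.Agent.Lib.Helper2.DimClosed

set_option autoImplicit false
universe u
open CategoryTheory AlgebraicGeometry Topology
open Variety

namespace Groth.Agent.S10839

/-- A closed immersion i : Y → X into an integral scheme X with dim X = dim Y < ∞ is an isomorphism. -/
theorem result {X Y : Scheme.{u}} (i : Y ⟶ X)
    [IsClosedImmersion i] [IsIntegral X] (hfin : topologicalKrullDim ↥X ≠ ⊤)
    (hdim : topologicalKrullDim ↥X = topologicalKrullDim ↥Y) : IsIso i := by
  exact Groth.Agent.H2.DimClosed.isIso_of_isClosedImmersion_of_dim_eq i hfin hdim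

end Groth.Agent.S10839
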