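import Groth.Statements.S10844
import Groth.Agent.Lib.Lead.QC.SuppPullback
import Groth.Agent.Lib.Lead.QC.Support

set_option autoImplicit false
universe u
open RepF

namespace Groth.Agent.S10844

open AlgebraicGeometry CategoryTheory in
/-- For a scheme S and a homomorphism v : E → F of quasi-coherent O_S-modules with F of finite type,
there is an open subscheme U of S such that a morphism of schemes f : T → S factors through U (its
image lies in U) if and only if the pulled-back homomorphism f^*v : f^*E → f^*F is an epimorphism. -/
theorem result {S : Scheme.{u}} {E F : S.Modules}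
    [Coh.IsQCoh E] [Coh.IsQCoh F] (hF : CohB1.IsFT F) (v : E ⟶ F) :
    ∃ U : S.Opens, ∀ (T : Scheme.{u}) (f : T ⟶ S),
      Set.range f.base ⊆ (U : Set S) ↔ Epi ((Scheme.Modules.pullback f).map v) := by
  haveI hC : (Limits.cokernel v).IsQuasicoherent :=
    Groth.Agent.LD.QC.qc_cokernel v inferInstance inferInstance
  have hCft : (Limits.cokernel v).IsFiniteType :=
    Groth.Agent.LD.QC.isFiniteType_of_epi (Limits.cokernel.π v) inferInstance hC hF
  have hcl := Groth.Agent.LD.QC.isClosed_support_of_isFiniteType (Limits.cokernel v) hCft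
  refine ⟨⟨{x : S | ¬ Subsingleton ((Limits.cokernel v).presheaf.stalk x)}ᶜ, hcl.isOpen_compl⟩,
    fun T f => ?_⟩
  rw [Groth.Agent.LD.QC.epi_pullback_iff f hF v]
  constructor
  · intro h x
    have := h ⟨x, rfl⟩
    exact not_not.mp this
  · rintro h _ ⟨x, rfl⟩
    exact not_not.mpr (h x)

end Groth.Agent.S10844
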