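import Groth.Statements.S10862
import Groth.Agent.Lib.Helper8.Japanese.NagFT17
import Groth.Agent.Lib.Helper8.Japanese.NagFT16
import Groth.Agent.Lib.Helper8.Japanese.DVRDesc
import Groth.Agent.Lib.Helper5.LocIC

set_option autoImplicit false
universe u
open CAlg

namespace Groth.Agent.S10862

/-- For a field k, an integral domain A of finite type over k with fraction field K, and a finite field
extension L of K, the integral closure of A in L is a finitely generated A-module. -/
theorem result (k A K L : Type u) [Field k] [CommRing A] [IsDomain A]
    [Algebra k A] [Algebra.FiniteType k A] [Field K] [Field L] [Algebra A K] [IsFractionRing A K] [Algebra K L]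
    [FiniteDimensional K L] [Algebra A L] [IsScalarTower A K L] : Module.Finite A (integralClosure A L) := by
  have hk : CAlg.IsNagata k := by
    refine ⟨inferInstance, fun p hp => ?_⟩
    have hp0 : p = ⊥ := by
      rcases Ideal.eq_bot_or_top p with h | h
      · exact h
      · exact absurd h hp.ne_top
    subst hp0
    exact Groth.Agent.H8.Jap.DVRDesc.isN2_of_isField _
      ((RingEquiv.quotientBot k).toMulEquiv.isField (Field.toIsField k))
  have hA : CAlg.IsNagata A := Groth.Agent.H8.Jap.NagFT.isNagata_of_finiteType k A hk
  have hN2 : CAlg.IsN2 A := Groth.Agent.H8.Jap.NagFT.isN2_of_isNagata_of_isDomain A hA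
  exact (Groth.Agent.H5.isN2_iff A K).mp hN2 L inferInstance

end Groth.Agent.S10862
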