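import Groth.Statements.S10868
import Mathlib.AlgebraicGeometry.ZariskisMainTheorem

set_option autoImplicit false
universe u
open Mor

namespace Groth.Agent.S10868

open CategoryTheory AlgebraicGeometry in
/-- f : X → Y is a finite morphism exactly when it is proper and quasi-affine (quasi-compact, with the
inverse image of every affine open subscheme of Y a quasi-affine scheme). -/
theorem result {X Y : Scheme.{u}} (f : X ⟶ Y) :
    IsFinite f ↔ IsProper f ∧ Mor2.IsQuasiAffine f := by
  constructor
  · intro hf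
    refine ⟨inferInstance, inferInstance, fun V hV => ?_⟩
    have h1 : IsAffineOpen (f ⁻¹ᵁ V) := hV.preimage f
    haveI : IsAffine (f ⁻¹ᵁ V : Scheme.{u}) := h1
    infer_instance
  · rintro ⟨hp, -, hq⟩
    rw [IsFinite.iff_isProper_and_isAffineHom]
    refine ⟨hp, ?_⟩
    rw [isAffineHom_iff]
    intro V hV
    haveI := hq V hV
    haveI : IsAffine (V : Scheme.{u}) := hV
    let W : Scheme.{u} := (f ⁻¹ᵁ V : Scheme.{u})
    haveI hres : IsProper (f ∣_ V) := inferInstance
    have hnat := Scheme.toSpecΓ_naturality (f ∣_ V)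
    haveI h1 : IsProper ((f ∣_ V) ≫ (V : Scheme.{u}).toSpecΓ) := inferInstance
    haveI h2 : IsProper (W.toSpecΓ ≫ Spec.map (f ∣_ V).appTop) := by
      rw [← hnat]; exact h1
    haveI h3 : IsProper W.toSpecΓ := IsProper.of_comp W.toSpecΓ (Spec.map (f ∣_ V).appTop)
    haveI h4 : IsClosedImmersion W.toSpecΓ :=
      (IsClosedImmersion.iff_isProper_and_mono W.toSpecΓ).mpr ⟨h3, inferInstance⟩
    have h5 : IsAffine W := isAffine_of_isAffineHom W.toSpecΓ
    exact h5

end Groth.Agent.S10868
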