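import Groth.Statements.S10869
import Groth.Agent.Lib.Lead.QC.GlobGenRel

set_option autoImplicit false
universe u
open Coh

namespace Groth.Agent.S10869

open CategoryTheory AlgebraicGeometry in
/-- For f : X → S quasi-compact and quasi-separated and F a quasi-coherent O_X-module, the counit
f^*f_*F → F is an epimorphism iff F is a quotient of f^*G for some quasi-coherent O_S-module G, iff
the restriction of F to the inverse image of every affine open of S is globally generated. -/
theorem result {X S : Scheme.{u}} (f : X ⟶ S) [QuasiCompact f] [QuasiSeparated f]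
    (F : X.Modules) (hF : Coh.IsQCoh F) :
    (Epi ((Scheme.Modules.pullbackPushforwardAdjunction f).counit.app F) ↔
      ∃ G : S.Modules, Coh.IsQCoh G ∧ ∃ φ : (Scheme.Modules.pullback f).obj G ⟶ F, Epi φ) ∧
    (Epi ((Scheme.Modules.pullbackPushforwardAdjunction f).counit.app F) ↔
      ∀ U : S.Opens, IsAffineOpen U → Curv2.IsGloballyGenerated (F.restrict (f ⁻¹ᵁ U).ι)) := by
  haveI : F.IsQuasicoherent := hF
  let adj := Scheme.Modules.pullbackPushforwardAdjunction f
  refine ⟨⟨fun hε => ?_, ?_⟩, ⟨fun hε U hU => ?_, fun h => ?_⟩⟩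
  · exact ⟨(Scheme.Modules.pushforward f).obj F, LD.QC.qc_pushforward f F, adj.counit.app F, hε⟩
  · rintro ⟨G, -, φ, hφ⟩
    have h1 : φ = (Scheme.Modules.pullback f).map (adj.homEquiv G F φ) ≫ adj.counit.app F := by
      have := CategoryTheory.Adjunction.homEquiv_counit adj (X := G) (Y := F)
        (g := adj.homEquiv G F φ)
      rw [Equiv.symm_apply_apply] at this
      exact this
    haveI : Epi ((Scheme.Modules.pullback f).map (adj.homEquiv G F φ) ≫ adj.counit.app F) := by
      rw [← h1]; exact hφ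
    exact epi_of_epi ((Scheme.Modules.pullback f).map (adj.homEquiv G F φ)) (adj.counit.app F)
  · -- global generation over preimages of affines
    let j := (f ⁻¹ᵁ U).ι
    have himg : j ''ᵁ ⊤ ≤ f ⁻¹ᵁ U := (f ⁻¹ᵁ U).ι_image_top.le
    let t : Γ(F, f ⁻¹ᵁ U) → Γ(F.restrict j, ⊤) := fun a => F.presheaf.map (homOfLE himg).op a
    refine ⟨Γ(F, f ⁻¹ᵁ U), LD.QC.homOfFamily (F.restrict j) t, ?_⟩
    apply LD.QC.epi_homOfFamily_of_span
    intro x' U₀ hx'
    obtain ⟨U', hU', hxU', hle'⟩ :=
      exists_isAffineOpen_mem_and_subset (X := (f ⁻¹ᵁ U).toScheme) (x := x') (U := U₀) hx'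
    have hle₀ : U' ≤ U₀ := hle'
    refine ⟨U', hle₀, hxU', ?_⟩
    have hUa : IsAffineOpen (j ''ᵁ U') := hU'.image_of_isOpenImmersion j
    have hle : j ''ᵁ U' ≤ f ⁻¹ᵁ U := (f ⁻¹ᵁ U).ι_image_le U'
    have hspan := LD.QC.span_range_res_of_counit_epi f F hε hUa hU hle
    have hbij : Function.Bijective (j.appIso U').inv.hom :=
      (ConcreteCategory.isIso_iff_bijective (j.appIso U').inv).mp inferInstance
    have hsm : ∀ r : Γ(X, j ''ᵁ U'), ∃ r' : Γ((f ⁻¹ᵁ U).toScheme, U'),
        ∀ m : Γ(F.restrict j, U'), (show Γ(F.restrict j, U') from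
          r • (show Γ(F, j ''ᵁ U') from m)) = r' • m := by
      intro r
      obtain ⟨r', hr'⟩ := hbij.2 r
      refine ⟨r', fun m => ?_⟩
      rw [← hr']
      rfl
    have h2 : (Set.range fun i => (F.restrict j).presheaf.map (homOfLE (le_top : U' ≤ ⊤)).op (t i)) =
        (Set.range (fun a : Γ(F, f ⁻¹ᵁ U) => F.presheaf.map (homOfLE hle).op a)) := by
      congr 1
      funext a
      exact LD.QC.res_res F himg (Scheme.Hom.image_mono j (le_top : U' ≤ ⊤)) a
    rw [eq_top_iff]
    intro z _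
    have h1 : (show Γ(F, j ''ᵁ U') from z) ∈ Submodule.span Γ(X, j ''ᵁ U')
        (Set.range (fun a : Γ(F, f ⁻¹ᵁ U) => F.presheaf.map (homOfLE hle).op a)) := by
      rw [hspan]; trivial
    rw [h2]
    letI i1 : Module Γ(X, j ''ᵁ U') Γ(F.restrict j, U') :=
      (show Module Γ(X, j ''ᵁ U') Γ(F, j ''ᵁ U') from inferInstance)
    exact LD.QC.span_subset_of_smul_eq (R := Γ(X, j ''ᵁ U')) (R' := Γ((f ⁻¹ᵁ U).toScheme, U'))
      (M := Γ(F.restrict j, U')) hsm _ h1
  · apply LD.QC.epi_counit_of_local_epi_free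
    intro x
    obtain ⟨V, hV, hxV, -⟩ :=
      exists_isAffineOpen_mem_and_subset (X := S) (x := f.base x) (U := ⊤) trivial
    obtain ⟨K, p, hp⟩ := h V hV
    exact ⟨V, hxV, K, p, hp⟩

end Groth.Agent.S10869
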