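import Groth.Statements.S10895
import Mathlib

set_option autoImplicit false
universe u
open CategoryTheory AlgebraicGeometry
open FlatMor

namespace Groth.Agent.S10895

/-- A flat surjective ring map out of a local ring to a nontrivial ring is injective. -/
theorem injective_of_flat_of_surjective {R S : Type u} [CommRing R] [CommRing S] [IsLocalRing R]
    [Nontrivial S] (ψ : R →+* S) (hflat : ψ.Flat) (hsurj : Function.Surjective ψ) :
    Function.Injective ψ := by
  letI := ψ.toAlgebra
  have hflat' : Module.Flat R S := hflat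
  let K : Ideal R := RingHom.ker ψ
  let e : (R ⧸ K) ≃ₐ[R] S := Ideal.quotientKerAlgEquivOfSurjective (f := Algebra.ofId R S) hsurj
  haveI : K.Pure := Module.Flat.of_linearEquiv e.toLinearEquiv
  rw [RingHom.injective_iff_ker_eq_bot]
  rw [eq_bot_iff]
  intro x hx
  obtain ⟨y, hy, hxy⟩ := Ideal.exists_eq_mul_of_pure (I := K) hx
  have hKm : K ≤ IsLocalRing.maximalIdeal R :=
    IsLocalRing.le_maximalIdeal (RingHom.ker_ne_top ψ)
  have hu : IsUnit (1 - y) := by
    by_contra h
    have h1 : (1 - y) ∈ IsLocalRing.maximalIdeal R := (IsLocalRing.mem_maximalIdeal _).mpr h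
    have h2 : (1 : R) ∈ IsLocalRing.maximalIdeal R := by
      have := Ideal.add_mem _ h1 (hKm hy)
      simp at this
    exact (IsLocalRing.maximalIdeal.isMaximal R).ne_top ((Ideal.eq_top_iff_one _).mpr h2)
  have h0 : x * (1 - y) = 0 := by rw [mul_sub, mul_one, ← hxy, sub_self]
  exact (hu.mul_left_eq_zero).mp h0
theorem app_basicOpen_injective {X Y : Scheme.{u}} (f : X ⟶ Y) [IsAffineHom f] {W : Y.Opens}
    (hW : IsAffineOpen W) (s : Γ(Y, W)) (hs : ∀ a : Γ(Y, W), f.app W a = 0 → s * a = 0) :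
    Function.Injective (f.app (Y.basicOpen s)) := by
  have hU : IsAffineOpen (f ⁻¹ᵁ W) := hW.preimage f
  have e1 : f ⁻¹ᵁ Y.basicOpen s = X.basicOpen (f.app W s) := Scheme.preimage_basicOpen f s
  haveI := hW.isLocalization_basicOpen s
  rw [injective_iff_map_eq_zero]
  intro z hz
  obtain ⟨⟨a, ⟨_, n, rfl⟩⟩, hza⟩ := IsLocalization.surj (Submonoid.powers s) z
  simp only at hza
  -- hza : z * algebraMap (s ^ n) = algebraMap a
  have hres : algebraMap Γ(Y, W) Γ(Y, Y.basicOpen s) =
    (Y.presheaf.map (homOfLE (Y.basicOpen_le s)).op).hom := rfl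
  have h1 : f.app (Y.basicOpen s) (algebraMap Γ(Y, W) Γ(Y, Y.basicOpen s) a) = 0 := by
    rw [← hza, map_mul, hz, zero_mul]
  rw [hres, ← CommRingCat.comp_apply, f.naturality, CommRingCat.comp_apply] at h1
  have h2 : (f.app W a) |_ (X.basicOpen (f.app W s)) = 0 := by
    have := congrArg (X.presheaf.map (eqToHom e1.symm).op).hom h1
    rw [map_zero, ← CommRingCat.comp_apply, ← Functor.map_comp] at this
    exact this
  obtain ⟨m, hm⟩ := exists_pow_mul_eq_zero_of_res_basicOpen_eq_zero_of_isAffineOpen X hU _ _ h2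
  have h3 : f.app W (s ^ m * a) = 0 := by rw [map_mul, map_pow, hm]
  have h4 := hs _ h3
  have h5 : algebraMap Γ(Y, W) Γ(Y, Y.basicOpen s) (s ^ (m + 1)) *
      algebraMap Γ(Y, W) Γ(Y, Y.basicOpen s) a = 0 := by
    rw [← map_mul, pow_succ', mul_assoc, h4, map_zero]
  have hu : IsUnit (algebraMap Γ(Y, W) Γ(Y, Y.basicOpen s) (s ^ (m + 1))) :=
    IsLocalization.map_units _ (⟨s ^ (m + 1), m + 1, rfl⟩ : Submonoid.powers s)
  have h6 : algebraMap Γ(Y, W) Γ(Y, Y.basicOpen s) a = 0 := (hu.mul_right_eq_zero).mp h5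
  rw [h6] at hza
  have hu' : IsUnit (algebraMap Γ(Y, W) Γ(Y, Y.basicOpen s) (s ^ n)) :=
    IsLocalization.map_units _ (⟨s ^ n, n, rfl⟩ : Submonoid.powers s)
  exact (hu'.mul_left_eq_zero).mp hza


/-- A closed immersion of finite presentation which is flat at a point x is an isomorphism over some
open neighbourhood of the image of x. -/
theorem result {X Y : Scheme.{u}} (f : X ⟶ Y) [IsClosedImmersion f]
    [LocallyOfFinitePresentation f] (x : X) (hflat : (f.stalkMap x).hom.Flat) :
    ∃ V : Y.Opens, f.base x ∈ V ∧ IsIso (f ∣_ V) := by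
  obtain ⟨_, ⟨W, hW, rfl⟩, hyW, -⟩ :=
    Y.isBasis_affineOpens.exists_subset_of_mem_open (Set.mem_univ (f.base x)) isOpen_univ
  have hU : IsAffineOpen (f ⁻¹ᵁ W) := hW.preimage f
  have hsurj : Function.Surjective (f.app W) := f.app_surjective W hW
  have hfp : (f.app W).hom.FinitePresentation := by
    rw [Scheme.Hom.app_eq_appLE]
    exact HasRingHomProperty.appLE (P := @LocallyOfFinitePresentation) f inferInstance
      ⟨W, hW⟩ ⟨f ⁻¹ᵁ W, hU⟩ le_rfl
  have hfg : (RingHom.ker (f.app W).hom).FG := by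
    letI := (f.app W).hom.toAlgebra
    haveI : Algebra.FinitePresentation Γ(Y, W) Γ(X, f ⁻¹ᵁ W) := hfp
    exact Algebra.FinitePresentation.ker_fG_of_surjective (Algebra.ofId Γ(Y, W) Γ(X, f ⁻¹ᵁ W)) hsurj
  -- the stalk map is injective
  have hinj : Function.Injective (f.stalkMap x) :=
    injective_of_flat_of_surjective (f.stalkMap x).hom hflat (f.stalkMap_surjective x)
  -- each element of the kernel is killed by some t with y ∈ D(t)
  have key : ∀ a : Γ(Y, W), f.app W a = 0 →
      ∃ t : Γ(Y, W), f.base x ∈ Y.basicOpen t ∧ t * a = 0 := by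
    intro a ha
    have h0 : Y.presheaf.germ W (f.base x) hyW a = 0 := by
      apply hinj
      rw [map_zero]
      have := Scheme.Hom.germ_stalkMap_apply f W x hyW a
      rw [this, ha, map_zero]
    letI := Y.presheaf.algebra_section_stalk ⟨f.base x, hyW⟩
    haveI := hW.isLocalization_stalk ⟨f.base x, hyW⟩
    obtain ⟨⟨t, ht⟩, hta⟩ := (IsLocalization.map_eq_zero_iff
      (hW.primeIdealOf ⟨f.base x, hyW⟩).asIdeal.primeCompl (Y.presheaf.stalk (f.base x)) a).mp h0
    refine ⟨t, ?_, hta⟩
    rw [Scheme.mem_basicOpen _ _ _ hyW]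
    exact IsLocalization.map_units (Y.presheaf.stalk (f.base x))
      (⟨t, ht⟩ : (hW.primeIdealOf ⟨f.base x, hyW⟩).asIdeal.primeCompl)
  obtain ⟨G, hG⟩ := hfg
  classical
  have key' : ∀ a : Γ(Y, W), ∃ t : Γ(Y, W), f.base x ∈ Y.basicOpen t ∧ (f.app W a = 0 → t * a = 0) := by
    intro a
    by_cases ha : f.app W a = 0
    · obtain ⟨t, ht, hta⟩ := key a ha
      exact ⟨t, ht, fun _ => hta⟩
    · exact ⟨1, by rw [Scheme.basicOpen_of_isUnit _ isUnit_one]; exact hyW, fun h => absurd h ha⟩
  choose t ht hta using key'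
  let s : Γ(Y, W) := ∏ a ∈ G, t a
  have hys : f.base x ∈ Y.basicOpen s := by
    rw [Scheme.mem_basicOpen _ _ _ hyW]
    simp only [s, map_prod]
    rw [IsUnit.prod_iff]
    intro a _
    exact (Scheme.mem_basicOpen _ _ _ hyW).mp (ht a)
  have hsa : ∀ a : Γ(Y, W), f.app W a = 0 → s * a = 0 := by
    intro a ha
    have haK : a ∈ RingHom.ker (f.app W).hom := ha
    rw [← hG] at haK
    refine Submodule.span_induction (p := fun a _ => s * a = 0) ?_ ?_ ?_ ?_ haK
    · intro b hb
      have hbK : f.app W b = 0 := by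
        have : b ∈ RingHom.ker (f.app W).hom := by rw [← hG]; exact Ideal.subset_span hb
        exact this
      have h1 := hta b hbK
      have : s = (∏ a ∈ G.erase b, t a) * t b := by
        rw [Finset.prod_erase_mul G t hb]
      rw [this, mul_assoc, h1, mul_zero]
    · exact mul_zero s
    · intro u v _ _ hu hv
      rw [mul_add, hu, hv, add_zero]
    · intro c u _ hu
      rw [smul_eq_mul, mul_left_comm, hu, mul_zero]
  refine ⟨Y.basicOpen s, hys, ?_⟩
  haveI : IsAffine (Y.basicOpen s).toScheme := hW.basicOpen s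
  apply IsClosedImmersion.isIso_of_injective_of_isAffine
  rw [morphismRestrict_appTop]
  have e : (Y.basicOpen s).ι ''ᵁ ⊤ = Y.basicOpen s := by simp
  have hinj' := app_basicOpen_injective f hW s hsa
  have hinj'' : ∀ V : Y.Opens, V = Y.basicOpen s → Function.Injective (f.app V) := by
    rintro V rfl; exact hinj'
  have h1 : Function.Injective (f.app ((Y.basicOpen s).ι ''ᵁ ⊤)) := hinj'' _ e
  have h2 : Function.Injective (X.presheaf.map
      (eqToHom (image_morphismRestrict_preimage f (Y.basicOpen s) ⊤)).op) :=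
    (ConcreteCategory.bijective_of_isIso _).1
  intro z w hzw
  exact h1 (h2 hzw)

end Groth.Agent.S10895
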