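import Groth.Statements.S10898
import Groth.Agent.Lib.Helper6.PolyPrimes

set_option autoImplicit false
universe u
open Polynomial
open WDiv

namespace Groth.Agent.S10898

/-- Let A be a Noetherian integral domain and P a prime ideal of height 1 of the polynomial ring A[X].
Then either P meets A in 0 only, or its contraction p = P ∩ A is a prime of height 1 of A and P is
the extension p·A[X]. (The published lemma also assumes A regular in codimension 1; that hypothesis
is not used for this assertion.) -/
theorem result (A : Type u) [CommRing A] [IsDomain A]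
    [IsNoetherianRing A] (P : Ideal A[X]) [P.IsPrime] (hP : P.height = 1) :
    P.comap (C : A →+* A[X]) = ⊥ ∨
      ((P.comap (C : A →+* A[X])).height = 1 ∧ P = (P.comap (C : A →+* A[X])).map C) := by
  classical
  set p : Ideal A := P.comap (C : A →+* A[X]) with hpdef
  by_cases hp0 : p = ⊥
  · exact Or.inl hp0
  · right
    haveI hpp : p.IsPrime := Ideal.comap_isPrime _ _
    haveI : P.LiesOver p := ⟨rfl⟩
    have hPeq : P = p.map (C : A →+* A[X]) := by
      by_contra hne
      have h := Groth.Agent.H6.PolyPrimes.height_eq_add_one p P hne
      rw [hP] at h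
      have hpos : p.height ≠ 0 := fun h0 => hp0 (Ideal.height_eq_zero_iff_eq_bot.mp h0)
      have h1 : (1 : ℕ∞) ≤ p.height := Order.one_le_iff_ne_zero.mpr hpos
      have h2 : (1 : ℕ∞) + 1 ≤ p.height + 1 := add_le_add_left h1 1
      rw [← h] at h2
      exact absurd h2 (by decide)
    refine ⟨?_, hPeq⟩
    rw [← Groth.Agent.H6.PolyPrimes.height_map_C p, ← hPeq, hP]

end Groth.Agent.S10898
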