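import Groth.Statements.S10899
import Groth.Agent.Lib.Helper6.PolyPrimes

set_option autoImplicit false
universe u
open Polynomial
open WDiv

namespace Groth.Agent.S10899

/-- Let A be a Noetherian integral domain which is regular in codimension 1, i.e. whose localization at
every prime ideal of height 1 is a discrete valuation ring. Then the polynomial ring A[X] is regular
in codimension 1 as well: its localization at every prime ideal of height 1 is a discrete valuation
ring. -/
theorem result (A : Type u) [CommRing A]
    [IsDomain A] [IsNoetherianRing A]
    (hR1 : ∀ (p : Ideal A) [p.IsPrime], p.height = 1 → IsDiscreteValuationRing (Localization.AtPrime p))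
    (P : Ideal A[X]) [P.IsPrime] (hP : P.height = 1) :
    IsDiscreteValuationRing (Localization.AtPrime P) := by
  have hprin := Groth.Agent.H6.PolyPrimes.isPrincipal_maximalIdeal_of_height_one hR1 P hP
  haveI : IsNoetherianRing (Localization.AtPrime P) :=
    IsLocalization.isNoetherianRing P.primeCompl _ inferInstance
  have hPne : P ≠ ⊥ := by
    intro h
    rw [h, Ideal.height_bot] at hP
    exact zero_ne_one hP
  have hnf : ¬ IsField (Localization.AtPrime P) :=
    IsLocalization.AtPrime.not_isField A[X] hPne (Localization.AtPrime P)
  exact ((IsDiscreteValuationRing.TFAE (Localization.AtPrime P) hnf).out 0 4).mpr hprin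

end Groth.Agent.S10899
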