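import Groth.Statements.S10913
import Groth.Agent.Lib.Helper2.ConstMorD

set_option autoImplicit false
universe u
open CategoryTheory CategoryTheory.Limits AlgebraicGeometry TopologicalSpace
open ProjDeg

namespace Groth.Agent.S10913

/-- Let k be a field and m < n natural numbers. Then every morphism of k-schemes from projective n-space
to projective m-space over k is constant: it factors through the structure morphism P^n_k → Spec k
followed by a k-rational point of P^m_k. -/
theorem result (k : Type u) [Field k] (n m : ℕ) (hmn : m < n)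
    (f : CohB1.ProjSpace n k ⟶ CohB1.ProjSpace m k)
    (hf : f ≫ CohB1.ProjSpace.toSpec m k = CohB1.ProjSpace.toSpec n k) :
    ∃ q : Spec (CommRingCat.of k) ⟶ CohB1.ProjSpace m k, f = CohB1.ProjSpace.toSpec n k ≫ q := by
  obtain ⟨i, hi⟩ := Groth.Agent.H2.ConstMor.exists_top_le_preimage k n m hmn f
  haveI : IsIso (CohB1.ProjSpace.toSpec n k).appTop := Groth.Agent.LD.PN.isIso_toSpec_appTop n k
  have hD : IsAffineOpen (Proj.basicOpen (CohB1.polyGrading m k) (MvPolynomial.X i)) :=
    Proj.isAffineOpen_basicOpen (CohB1.polyGrading m k) (MvPolynomial.X i)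
      (Groth.Agent.LD.PN.X_mem i) Nat.one_pos
  exact Groth.Agent.H2.ConstMor.exists_factor_of_le_affine (CohB1.ProjSpace.toSpec n k) f
    (Proj.basicOpen (CohB1.polyGrading m k) (MvPolynomial.X i)) hD hi

end Groth.Agent.S10913
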