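import Groth.Statements.S10927
import Groth.Agent.Lib.Helper3.OrbTrans
import Groth.Agent.Lib.Helper6.GenSmooth3
import Groth.Agent.Lib.Helper9.Misc.CAR5

set_option autoImplicit false
universe u
open CategoryTheory CategoryTheory.Limits MonoidalCategory CartesianMonoidalCategory MonObj GrpObj AlgebraicGeometry
open Variety

namespace Groth.Agent.S10927

/-- Let k be an algebraically closed field of characteristic zero, G a group variety over k (an
integral, separated k-group scheme of finite type) and X a homogeneous space for G: a k-variety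
(integral, separated, of finite type over k) with an action of G such that G(k) acts transitively on
X(k). Then for every k-point x of X the orbit map G → X, g ↦ g · x, is smooth. -/
theorem result (k : Type u) [Field k] [IsAlgClosed k] [CharZero k]
    (G X : Over (Spec (CommRingCat.of k))) [GrpObj G] (a : AlgGrp.Action G X)
    [IsIntegral G.left] [IsSeparated G.hom] [LocallyOfFiniteType G.hom] [QuasiCompact G.hom]
    [IsIntegral X.left] [IsSeparated X.hom] [LocallyOfFiniteType X.hom] [QuasiCompact X.hom]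
    (htrans : ∀ x x' : 𝟙_ (Over (Spec (CommRingCat.of k))) ⟶ X,
      ∃ σ : 𝟙_ (Over (Spec (CommRingCat.of k))) ⟶ G, CartesianMonoidalCategory.lift σ x ≫ a.act = x')
    (x : 𝟙_ (Over (Spec (CommRingCat.of k))) ⟶ X) :
    Smooth (a.orbitMap x).left := by
  classical
  haveI : Smooth G.hom := Groth.Agent.H9.CAR.S0353_main k G
  obtain ⟨V, hVne, hVs⟩ := Groth.Agent.H6.GenSmooth3.s10930 k G.hom X.hom (a.orbitMap x).left
    (Over.w (a.orbitMap x))
  set o := a.orbitMap x with ho
  haveI : JacobsonSpace ↥X.left := LocallyOfFiniteType.jacobsonSpace X.hom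
  -- each translate of `V` has the same property
  have key : ∀ σ : 𝟙_ (Over (Spec (CommRingCat.of k))) ⟶ G,
      Smooth (o.left ∣_ ((Groth.Agent.H3.OrbTrans.tact a σ).left ⁻¹ᵁ V)) := by
    intro σ
    haveI : IsIso (Groth.Agent.H3.AntiAff.ltrans G σ).left :=
      (Over.forget _).map_isIso (Groth.Agent.H3.AntiAff.ltrans G σ)
    haveI : IsIso (Groth.Agent.H3.OrbTrans.tact a σ).left :=
      (Over.forget _).map_isIso (Groth.Agent.H3.OrbTrans.tact a σ)
    have e : (Groth.Agent.H3.AntiAff.ltrans G σ).left ≫ o.left =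
        o.left ≫ (Groth.Agent.H3.OrbTrans.tact a σ).left := by
      rw [← Over.comp_left, ← Over.comp_left, ho, Groth.Agent.H3.OrbTrans.ltrans_comp_orbitMap]
    have h1 : Smooth ((Groth.Agent.H3.AntiAff.ltrans G σ).left ∣_ (o.left ⁻¹ᵁ V) ≫ o.left ∣_ V) :=
      (MorphismProperty.cancel_left_of_respectsIso @Smooth _ _).mpr hVs
    rw [← morphismRestrict_comp] at h1
    have h2 : Smooth ((o.left ≫ (Groth.Agent.H3.OrbTrans.tact a σ).left) ∣_ V) := by
      rw [← e]
      exact h1
    rw [morphismRestrict_comp] at h2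
    have h3 : Smooth (o.left ∣_ ((Groth.Agent.H3.OrbTrans.tact a σ).left ⁻¹ᵁ V) ≫
        (Groth.Agent.H3.OrbTrans.tact a σ).left ∣_ V) := h2
    exact (MorphismProperty.cancel_right_of_respectsIso @Smooth _ _).mp h3
  -- the translates cover `X`
  have hcov : (⨆ σ : 𝟙_ (Over (Spec (CommRingCat.of k))) ⟶ G,
      (Groth.Agent.H3.OrbTrans.tact a σ).left ⁻¹ᵁ V) = ⊤ := by
    by_contra hne
    have hne' : ((↑(⨆ σ : 𝟙_ (Over (Spec (CommRingCat.of k))) ⟶ G,
        (Groth.Agent.H3.OrbTrans.tact a σ).left ⁻¹ᵁ V) : Set ↥X.left)ᶜ).Nonempty := by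
      rw [Set.nonempty_compl]
      intro h
      exact hne (TopologicalSpace.Opens.ext h)
    obtain ⟨y, hyW, hycl⟩ := nonempty_inter_closedPoints hne'
      (⨆ σ : 𝟙_ (Over (Spec (CommRingCat.of k))) ⟶ G,
        (Groth.Agent.H3.OrbTrans.tact a σ).left ⁻¹ᵁ V).isOpen.isClosed_compl.isLocallyClosed
    obtain ⟨v, hvV, hvcl⟩ := nonempty_inter_closedPoints hVne V.isOpen.isLocallyClosed
    let py : 𝟙_ (Over (Spec (CommRingCat.of k))) ⟶ X :=
      Over.homMk (pointOfClosedPoint X.hom y hycl) (pointOfClosedPoint_comp X.hom y hycl)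
    let pv : 𝟙_ (Over (Spec (CommRingCat.of k))) ⟶ X :=
      Over.homMk (pointOfClosedPoint X.hom v hvcl) (pointOfClosedPoint_comp X.hom v hvcl)
    obtain ⟨σ, hσ⟩ := htrans py pv
    apply hyW
    have hmem : y ∈ (Groth.Agent.H3.OrbTrans.tact a σ).left ⁻¹ᵁ V := by
      change (Groth.Agent.H3.OrbTrans.tact a σ).left.base y ∈ V
      have h2 : py ≫ Groth.Agent.H3.OrbTrans.tact a σ = pv := by
        rw [Groth.Agent.H3.OrbTrans.pt_comp_tact, hσ]
      have h3 : (Groth.Agent.H3.OrbTrans.tact a σ).left.base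
          (py.left.base (IsLocalRing.closedPoint k)) = pv.left.base (IsLocalRing.closedPoint k) := by
        rw [← h2, Over.comp_left]
        rfl
      have h4 : py.left.base (IsLocalRing.closedPoint k) = y :=
        pointOfClosedPoint_apply X.hom y hycl _
      have h5 : pv.left.base (IsLocalRing.closedPoint k) = v :=
        pointOfClosedPoint_apply X.hom v hvcl _
      rw [h4, h5] at h3
      rw [h3]
      exact hvV
    exact (le_iSup (fun σ : 𝟙_ (Over (Spec (CommRingCat.of k))) ⟶ G =>
      (Groth.Agent.H3.OrbTrans.tact a σ).left ⁻¹ᵁ V) σ) hmem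
  exact IsZariskiLocalAtTarget.of_iSup_eq_top (P := @Smooth) _ hcov key

end Groth.Agent.S10927
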