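import Groth.Statements.S10928
import Groth.Agent.Lib.Helper3.Kleiman1
import Groth.Agent.Lib.Helper3.Kleiman2
import Groth.Agent.Lib.Helper3.Kleiman3
import Groth.Agent.Lib.Helper3.FBaseDim
import Groth.Agent.Lib.Helper1.FlatFibDim

set_option autoImplicit false
universe u
open CategoryTheory CategoryTheory.Limits MonoidalCategory CartesianMonoidalCategory MonObj GrpObj AlgebraicGeometry
open Variety

namespace Groth.Agent.S10928

/-- Let k be an algebraically closed field of characteristic zero, G a group variety over k (integral,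
separated k-group scheme of finite type), X a homogeneous space for G (a k-variety with a G-action
such that G(k) acts transitively on X(k)) of dimension n, and f : Y → X, g : Z → X morphisms of
k-schemes where Y and Z are nonsingular varieties over k (integral, separated, smooth of finite type
over k) of dimensions r and s. For a k-point σ of G write f^σ : Y → X for y ↦ σ · f(y). Then there
is a nonempty open subset V ⊆ G such that for every k-point σ of G lying in V the scheme Y^σ ×_X Z
(fibre product of f^σ and g) is smooth over k and is either empty or of dimension r + s − n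
(dimensions are topological Krull dimensions). -/
theorem result (k : Type u) [Field k] [IsAlgClosed k] [CharZero k]
    (G X : Over (Spec (CommRingCat.of k))) [GrpObj G] (a : AlgGrp.Action G X)
    [IsIntegral G.left] [IsSeparated G.hom] [LocallyOfFiniteType G.hom] [QuasiCompact G.hom]
    [IsIntegral X.left] [IsSeparated X.hom] [LocallyOfFiniteType X.hom] [QuasiCompact X.hom]
    (htrans : ∀ x x' : 𝟙_ (Over (Spec (CommRingCat.of k))) ⟶ X,
      ∃ σ : 𝟙_ (Over (Spec (CommRingCat.of k))) ⟶ G, CartesianMonoidalCategory.lift σ x ≫ a.act = x')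
    {Y Z : Scheme.{u}} (f : Y ⟶ X.left) (g : Z ⟶ X.left)
    [IsIntegral Y] [IsSeparated (f ≫ X.hom)] [QuasiCompact (f ≫ X.hom)] [Smooth (f ≫ X.hom)]
    [IsIntegral Z] [IsSeparated (g ≫ X.hom)] [QuasiCompact (g ≫ X.hom)] [Smooth (g ≫ X.hom)]
    (n r s : ℕ) (hn : topologicalKrullDim ↥X.left = n) (hr : topologicalKrullDim ↥Y = r)
    (hs : topologicalKrullDim ↥Z = s) :
    ∃ V : G.left.Opens, (V : Set ↥G.left).Nonempty ∧
      ∀ σ : 𝟙_ (Over (Spec (CommRingCat.of k))) ⟶ G, Set.range σ.left.base ⊆ (V : Set ↥G.left) →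
        ∀ fσ : Y ⟶ X.left,
          fσ = (CartesianMonoidalCategory.lift (CartesianMonoidalCategory.toUnit (Over.mk (f ≫ X.hom)) ≫ σ)
            (Over.homMk f) ≫ a.act).left →
          Smooth (pullback.fst fσ g ≫ f ≫ X.hom) ∧
            (IsEmpty ↥(pullback fσ g) ∨ (n ≤ r + s ∧ topologicalKrullDim ↥(pullback fσ g) = ((r + s - n : ℕ) : WithBot ℕ∞))) := by
  classical
  haveI hsm : Smooth (Groth.Agent.H3.Kleiman.hmap a f).left :=
    Groth.Agent.H3.Kleiman.smooth_hmap a htrans f
  obtain ⟨V, hVne, hVs⟩ := Groth.Agent.H3.Kleiman.exists_open_smooth_qmap a f g hsm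
  refine ⟨V, hVne, ?_⟩
  intro σ hσ fσ hfσ
  subst hfσ
  obtain ⟨j, sq⟩ := Groth.Agent.H3.Kleiman.exists_isPullback_fibre a f g σ
  obtain ⟨j', s', hj', hs', sq'⟩ := Groth.Agent.H3.Kleiman.isPullback_restrict sq V hσ
  haveI := hVs
  have hsmooth : Smooth (pullback.fst (CartesianMonoidalCategory.lift
      (CartesianMonoidalCategory.toUnit (Over.mk (f ≫ X.hom)) ≫ σ)
      (Over.homMk f) ≫ a.act).left g ≫ f ≫ X.hom) :=
    MorphismProperty.of_isPullback (P := @Smooth) sq' hVs
  refine ⟨hsmooth, ?_⟩
  by_cases hemp : IsEmpty ↥(pullback (CartesianMonoidalCategory.lift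
      (CartesianMonoidalCategory.toUnit (Over.mk (f ≫ X.hom)) ≫ σ)
      (Over.homMk f) ≫ a.act).left g)
  · left; exact hemp
  · right
    rw [not_isEmpty_iff] at hemp
    haveI := hemp
    haveI : LocallyOfFiniteType (f ≫ X.hom) := inferInstance
    haveI : LocallyOfFiniteType (g ≫ X.hom) := inferInstance
    haveI : LocallyOfFiniteType (Groth.Agent.H3.Kleiman.Yo f).hom :=
      ‹LocallyOfFiniteType (f ≫ X.hom)›
    obtain ⟨m, hm⟩ : ∃ m : ℕ, topologicalKrullDim ↥G.left = m := by
      obtain ⟨z⟩ : Nonempty ↥G.left := inferInstance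
      obtain ⟨d, hd⟩ := Groth.Agent.H1.FlatFibDim.exists_localDim_eq_natCast G.hom z
      exact ⟨d, by rw [← Groth.Agent.H1.EquiDim.localDim_eq_dim G.hom z, hd]⟩
    have hP : topologicalKrullDim ↥(G ⊗ Groth.Agent.H3.Kleiman.Yo f).left = ((m + r : ℕ) : WithBot ℕ∞) := by
      have h1 := Groth.Agent.H3.FBaseDim.dim_pullback G.hom (Groth.Agent.H3.Kleiman.Yo f).hom
      have h2 : topologicalKrullDim ↥(Groth.Agent.H3.Kleiman.Yo f).left = r := hr
      rw [hm, h2] at h1
      rw [show topologicalKrullDim ↥(G ⊗ Groth.Agent.H3.Kleiman.Yo f).left =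
        topologicalKrullDim ↥(pullback G.hom (Groth.Agent.H3.Kleiman.Yo f).hom) from rfl, h1]
      push_cast
      rfl
    haveI := Groth.Agent.H3.Kleiman.smooth_tensor_hom (G := G) f
    haveI := Groth.Agent.H3.Kleiman.isIntegral_tensor (G := G) f
    obtain ⟨e, he, hdim⟩ := Groth.Agent.H3.Kleiman.dim_fibre_eq G.hom X.hom (g ≫ X.hom)
      (G ⊗ Groth.Agent.H3.Kleiman.Yo f).hom (Groth.Agent.H3.Kleiman.hmap a f).left g _ V _ j' s' sq'
      m n s (m + r) hm hn hs hP
    refine ⟨by omega, ?_⟩
    rw [hdim]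
    congr 1
    have : e = r + s - n := by omega
    rw [this]

end Groth.Agent.S10928
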