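import Groth.Statements.S10932
import Groth.Agent.Lib.Helper1.RegExt

set_option autoImplicit false
universe u
open CategoryTheory
open CAlg

namespace Groth.Agent.S10932


/-- Let A be a (Noetherian) regular local ring of Krull dimension n and M a finitely generated A-module
such that Ext^j_A(M, A) = 0 for every j with 1 ≤ j ≤ n. Then M is projective, hence a free A-module. -/
theorem result (A : Type u) [CommRing A] [IsRegularLocalRing A]
    (n : ℕ) (hn : ringKrullDim A = n) (M : Type u) [AddCommGroup M] [Module A M] [Module.Finite A M]
    (h : ∀ j : ℕ, 1 ≤ j → j ≤ n →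
      Subsingleton (Abelian.Ext (ModuleCat.of A M) (ModuleCat.of A A) j)) :
    Module.Free A M := by
  haveI hS : HasProjectiveDimensionLT (ModuleCat.of A M) (n + 1) :=
    Groth.Agent.H1.Reg.hasProjectiveDimensionLT_of_isRegularLocalRing A n hn _
  have h' : ∀ i : ℕ, 0 < i →
      Subsingleton (Abelian.Ext (ModuleCat.of A M) (ModuleCat.of A A) i) := by
    intro i hi
    by_cases hin : i ≤ n
    · exact h i hi hin
    · exact HasProjectiveDimensionLT.subsingleton (ModuleCat.of A M) (n + 1) i (by omega) _
  have h1 : HasProjectiveDimensionLT (ModuleCat.of A M) (0 + 1) :=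
    Groth.Agent.H1.Reg.hasProjectiveDimensionLT_of_ext_self_of_lt M 0 h' n hS
  have hP : Projective (ModuleCat.of A M) :=
    (projective_iff_hasProjectiveDimensionLT_one (X := ModuleCat.of A M)).mpr h1
  haveI : Module.Projective A M := (IsProjective.iff_projective (R := A) (P := M)).mpr hP
  exact Module.free_of_flat_of_isLocalRing

end Groth.Agent.S10932
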