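import Groth.Statements.S10933
import Groth.Agent.Lib.Helper1.RegExt

set_option autoImplicit false
universe u
open CategoryTheory
open CAlg

namespace Groth.Agent.S10933


/-- Let A be a (Noetherian) regular local ring, M a finitely generated A-module and d a natural number.
Then the projective dimension of M equals d if and only if Ext^j_A(M, A) = 0 for every j > d and
Ext^d_A(M, A) ≠ 0. (Projective dimension valued in WithBot ℕ∞, the zero module having projective
dimension ⊥.) -/
theorem result (A : Type u) [CommRing A] [IsRegularLocalRing A]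
    (M : Type u) [AddCommGroup M] [Module A M] [Module.Finite A M] (d : ℕ) :
    projectiveDimension (ModuleCat.of A M) = (d : WithBot ℕ∞) ↔
      ((∀ j : ℕ, d < j → Subsingleton (Abelian.Ext (ModuleCat.of A M) (ModuleCat.of A A) j)) ∧
        Nontrivial (Abelian.Ext (ModuleCat.of A M) (ModuleCat.of A A) d)) := by
  have hd : ringKrullDim A = ((IsLocalRing.maximalIdeal A).spanFinrank : ℕ) :=
    (IsRegularLocalRing.spanFinrank_maximalIdeal (R := A)).symm
  rw [le_antisymm_iff, projectiveDimension_le_iff, projectiveDimension_ge_iff]
  constructor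
  · rintro ⟨h1, h2⟩
    haveI : HasProjectiveDimensionLT (ModuleCat.of A M) (d + 1) := h1
    refine ⟨fun j hj =>
      HasProjectiveDimensionLT.subsingleton (ModuleCat.of A M) (d + 1) j (by omega) _, ?_⟩
    rw [← not_subsingleton_iff_nontrivial]
    intro hs
    exact h2 (Groth.Agent.H1.Reg.hasProjectiveDimensionLT_of_ext_self M d hs)
  · rintro ⟨h1, h2⟩
    refine ⟨Groth.Agent.H1.Reg.hasProjectiveDimensionLT_of_ext_self_of_lt M d h1 _
      (Groth.Agent.H1.Reg.hasProjectiveDimensionLT_of_isRegularLocalRing A _ hd _), ?_⟩
    intro hlt
    haveI := hlt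
    have := HasProjectiveDimensionLT.subsingleton (ModuleCat.of A M) d d le_rfl
      (ModuleCat.of A A)
    exact not_subsingleton _ this

end Groth.Agent.S10933
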