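import Groth.Statements.S10935
import Groth.Agent.Lib.Helper3.AssFlatDim1
import Groth.Agent.Lib.Helper6.TD1

set_option autoImplicit false
universe u
open CategoryTheory CategoryTheory.Limits AlgebraicGeometry
open FlatMor

namespace Groth.Agent.S10935

/-- Let Y be an integral, regular (every local ring a regular local ring), one-dimensional scheme with
generic point η, X a Noetherian scheme and f : X → Y a morphism. Then f is flat if and only if every
associated point x of X — a point such that the maximal ideal of O_{X,x} is an associated prime of
O_{X,x} — satisfies f(x) = η. -/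
theorem result {X Y : Scheme.{u}} (f : X ⟶ Y)
    [IsIntegral Y] (hreg : ∀ y : Y, IsRegularLocalRing (Y.presheaf.stalk y))
    (hY : topologicalKrullDim ↥Y = 1) [IsNoetherian X] :
    Flat f ↔ ∀ x : X, Curv2.IsAssPoint (Coh.structureModule X) x → f.base x = genericPoint ↥Y := by
  constructor
  · intro hf x hx
    exact Groth.Agent.H3.AssFlatDim1.eq_genericPoint_of_flat_of_ass f x hx
  · intro h
    refine Groth.Agent.H3.AssFlatDim1.flat_of_ass f hreg
      (fun y => (Groth.Agent.H6.TD.ringKrullDim_stalk_le Y y).trans hY.le) ?_
    intro x hx
    have h1 : f x = genericPoint Y := h x hx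
    rw [h1]
    have : IsField (Y.presheaf.stalk (genericPoint Y)) := Field.toIsField Y.functionField
    exact ringKrullDim_eq_zero_of_isField this

end Groth.Agent.S10935
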