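import Groth.Statements.S10941
import Mathlib
import Groth.Agent.Lib.Helper1.FlatFibDim

set_option autoImplicit false
universe u
open CategoryTheory CategoryTheory.Limits AlgebraicGeometry
open FlatMor

namespace Groth.Agent.S10941

/-- Let k be a field, X, Y and Y' schemes of finite type over k with Y irreducible, f : X → Y a flat
k-morphism and n a natural number such that every irreducible component of X has dimension dim Y +
n. Let g : Y' → Y be a k-morphism and f' : X ×_Y Y' → Y' the base change of f. Then for every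
irreducible closed subset V of Y', every irreducible component of the preimage of V under f' (with
the subspace topology) has dimension dim V + n. In particular (Y' = Y) every irreducible component
of f⁻¹(V) has dimension dim V + n for every irreducible closed V ⊆ Y. -/
theorem result (k : Type u) [Field k]
    {X Y Y' : Scheme.{u}} (qX : X ⟶ Spec (CommRingCat.of k)) (qY : Y ⟶ Spec (CommRingCat.of k))
    (qY' : Y' ⟶ Spec (CommRingCat.of k))
    [LocallyOfFiniteType qX] [QuasiCompact qX] [LocallyOfFiniteType qY] [QuasiCompact qY]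
    [LocallyOfFiniteType qY'] [QuasiCompact qY']
    [IrreducibleSpace ↥Y] (f : X ⟶ Y) (hf : f ≫ qY = qX) [Flat f] (n : ℕ)
    (hX : ∀ Z : Set ↥X, Z ∈ irreducibleComponents ↥X →
      topologicalKrullDim ↥Z = topologicalKrullDim ↥Y + (n : WithBot ℕ∞))
    (g : Y' ⟶ Y) (hg : g ≫ qY = qY')
    (V : Set ↥Y') (hV : IsClosed V) (hVirr : IsIrreducible V)
    (W : Set ↥((pullback.snd f g).base ⁻¹' V))
    (hW : W ∈ irreducibleComponents ↥((pullback.snd f g).base ⁻¹' V)) :
    topologicalKrullDim ↥W = topologicalKrullDim ↥V + (n : WithBot ℕ∞) := by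
  subst hf
  subst hg
  haveI : LocallyOfFiniteType f := locallyOfFiniteType_of_comp f qY
  -- step 1: the fibres of `f` have relative dimension `n`
  have hfib : ∀ x : X, FlatMor.fibreDimAt f x = (n : WithBot ℕ∞) := by
    obtain ⟨y₀⟩ : Nonempty Y := inferInstance
    obtain ⟨d, hd⟩ := Groth.Agent.H1.FlatFibDim.exists_localDim_eq_natCast qY y₀
    rw [Groth.Agent.H1.EquiDim.localDim_eq_dim qY] at hd
    have hY : ∀ Z ∈ irreducibleComponents (Y : Type u),
        topologicalKrullDim Z = (d : WithBot ℕ∞) :=
      (Groth.Agent.H1.RelDim.forall_dim_irreducibleComponents_iff qY _).mpr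
        (fun z => by rw [Groth.Agent.H1.EquiDim.localDim_eq_dim qY, hd])
    have key :=
      Groth.Agent.H1.FlatFibDim.forall_dim_irreducibleComponents_iff_hasRelDim qY f d n hY
    rw [hd] at hX
    push_cast at key
    exact (Groth.Agent.H1.RelDim.hasRelDim_iff f n).mp (key.mp hX)
  -- step 2: the base change to `Y'`
  have hfib' : ∀ p : ↥(pullback f g), FlatMor.fibreDimAt (pullback.snd f g) p = (n : WithBot ℕ∞) := by
    intro p
    rw [Groth.Agent.H1.FibDimBC.fibreDimAt_eq_of_isPullback f g (pullback.fst f g) (pullback.snd f g)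
      (IsPullback.of_hasPullback f g) p]
    exact hfib _
  -- step 3: the reduced induced structure on `V`
  set I := Scheme.IdealSheafData.vanishingIdeal ⟨V, hV⟩ with hI
  set ι := I.subschemeι with hι
  have hrι : Set.range ι = V := by
    rw [hι, Scheme.IdealSheafData.range_subschemeι, hI,
      Scheme.IdealSheafData.coe_support_vanishingIdeal]
    rfl
  let eV : ↥I.subscheme ≃ₜ ↥V := ι.isEmbedding.toHomeomorph.trans (Homeomorph.setCongr hrι)
  haveI : IrreducibleSpace ↥V := Subtype.irreducibleSpace hVirr
  haveI : IrreducibleSpace ↥I.subscheme := eV.irreducibleSpace_iff.mpr inferInstance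
  have hdimV : topologicalKrullDim ↥I.subscheme = topologicalKrullDim ↥V :=
    IsHomeomorph.topologicalKrullDim_eq _ eV.isHomeomorph
  -- step 4: the base change to `V`
  have hfib'' : ∀ p : ↥(pullback (pullback.snd f g) ι), FlatMor.fibreDimAt (pullback.snd (pullback.snd f g) ι) p = (n : WithBot ℕ∞) := by
    intro p
    rw [Groth.Agent.H1.FibDimBC.fibreDimAt_eq_of_isPullback (pullback.snd f g) ι (pullback.fst (pullback.snd f g) ι) (pullback.snd (pullback.snd f g) ι)
      (IsPullback.of_hasPullback (pullback.snd f g) ι) p]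
    exact hfib' _
  let qV : I.subscheme ⟶ Spec (CommRingCat.of k) := ι ≫ g ≫ qY
  haveI : LocallyOfFiniteType qV := by
    haveI : LocallyOfFiniteType (g ≫ qY) := inferInstance
    infer_instance
  obtain ⟨v₀⟩ : Nonempty ↥I.subscheme := inferInstance
  obtain ⟨d, hd⟩ := Groth.Agent.H1.FlatFibDim.exists_localDim_eq_natCast qV v₀
  rw [Groth.Agent.H1.EquiDim.localDim_eq_dim qV] at hd
  have hYV : ∀ Z ∈ irreducibleComponents (I.subscheme : Type u),
      topologicalKrullDim Z = (d : WithBot ℕ∞) :=
    (Groth.Agent.H1.RelDim.forall_dim_irreducibleComponents_iff qV _).mpr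
      (fun z => by rw [Groth.Agent.H1.EquiDim.localDim_eq_dim qV, hd])
  have key := (Groth.Agent.H1.FlatFibDim.forall_dim_irreducibleComponents_iff_hasRelDim qV (pullback.snd (pullback.snd f g) ι) d n
    hYV).mpr ((Groth.Agent.H1.RelDim.hasRelDim_iff (pullback.snd (pullback.snd f g) ι) n).mpr hfib'')
  -- step 5: the homeomorphism with the preimage
  have hrange : Set.range (pullback.fst (pullback.snd f g) ι) = (pullback.snd f g).base ⁻¹' V := by
    rw [Scheme.Pullback.range_fst, hrι]
  let e : ↥(pullback (pullback.snd f g) ι) ≃ₜ ↥((pullback.snd f g).base ⁻¹' V) :=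
    (pullback.fst (pullback.snd f g) ι).isEmbedding.toHomeomorph.trans (Homeomorph.setCongr hrange)
  have hT : e ⁻¹' W ∈ irreducibleComponents ↥(pullback (pullback.snd f g) ι) := by
    obtain ⟨w, hw⟩ := hW.1.nonempty
    exact preimage_mem_irreducibleComponents hW e.isOpenEmbedding ⟨w, hw, e.surjective w⟩
  have hdimW : topologicalKrullDim ↥(e ⁻¹' W) = topologicalKrullDim ↥W := by
    rw [Groth.Agent.H1.RelDim.dim_preimage_eq_of_isEmbedding e.isEmbedding W, e.surjective.range_eq,
      Set.inter_univ]
  rw [← hdimW, key _ hT, ← hdimV, hd]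
  push_cast
  rfl

end Groth.Agent.S10941
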