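import Groth.Statements.S10943
import Groth.Agent.Lib.Lead.XS.Restr

set_option autoImplicit false
universe u
open CategoryTheory AlgebraicGeometry
open Coherent

namespace Groth.Agent.S10943

/-- Let X be a Noetherian scheme and F, G coherent O_X-modules. Then for every i the Ext sheaf Ext^i(F,
G) - the i-th right derived functor of the internal Hom functor Hom(F, -) on O_X-modules (its
existence and that of injective resolutions are the stated instance hypotheses, both true),
evaluated at G - is a coherent O_X-module (quasi-coherent of finite type). -/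
theorem result (X : Scheme.{u}) [IsNoetherian X] (F G : X.Modules)
    (hF : Coh.IsCoh F) (hG : Coh.IsCoh G)
    [ModSite.HasSheafHom (O := X.sheaf) F] [HasInjectiveResolutions (ModSite.Mod X.sheaf)] (i : ℕ) :
    Coh.IsCoh ((ModSite.extSh (O := X.sheaf) F i).obj G) := by
  haveI := hF.1
  haveI := hG.1
  apply Groth.Agent.H4.PSch4.isCoh_of_local
  intro x
  obtain ⟨U, hU, hxU, -⟩ := exists_isAffineOpen_mem_and_subset (x := x) (U := ⊤) trivial
  refine ⟨U.toScheme, U.ι, inferInstance, ?_, ?_⟩
  · rw [Scheme.Opens.range_ι]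
    exact hxU
  · haveI : IsAffine U.toScheme := hU
    haveI : IsLocallyNoetherian U.toScheme := isLocallyNoetherian_of_isOpenImmersion U.ι
    haveI : HasInjectiveResolutions (ModSite.Mod U.toScheme.sheaf) :=
      Groth.Agent.LD.QCQS.hasInjRes U.toScheme
    have e := Groth.Agent.LD.XS.extShRestrObjIso U.ι F i G
    have hFU : Coh.IsCoh (F.restrict U.ι) :=
      ⟨Groth.Agent.LD.QC.qc_restrict U.ι F, Groth.Agent.LD.QC.isFiniteType_restrict U.ι F hF.2⟩
    have hGU : Coh.IsCoh (G.restrict U.ι) :=
      ⟨Groth.Agent.LD.QC.qc_restrict U.ι G, Groth.Agent.LD.QC.isFiniteType_restrict U.ι G hG.2⟩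
    have hc := Groth.Agent.LD.XS.isCoh_extSh (Groth.Agent.LD.XS.hasRes_of_isAffine U.toScheme) i
      (F.restrict U.ι) hFU (G.restrict U.ι) hGU
    exact Groth.Agent.LD.QC.isCoh_of_iso e.symm hc

end Groth.Agent.S10943
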