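import Groth.Statements.S10945
import Groth.Agent.Lib.Lead.QC.FreeHom

set_option autoImplicit false
universe u
open CategoryTheory AlgebraicGeometry Opposite
open Coherent

namespace Groth.Agent.S10945

/-- Let X be a scheme and 0 → F' → F → F'' → 0 a short exact sequence of O_X-modules whose map on global
sections Γ(X, F) → Γ(X, F'') is surjective. If F' and F'' are generated by global sections (each is
a quotient of a free O_X-module), then F is generated by global sections. -/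
theorem result (X : Scheme.{u})
    (S : ShortComplex X.Modules) (hS : S.ShortExact)
    (hsurj : Function.Surjective (S.g.val.app (op ⊤)).hom)
    (h1 : Curv2.IsGloballyGenerated S.X₁) (h3 : Curv2.IsGloballyGenerated S.X₃) :
    Curv2.IsGloballyGenerated S.X₂ := by
  classical
  obtain ⟨K₁, p₁, hp₁⟩ := h1
  obtain ⟨K₃, p₃, hp₃⟩ := h3
  haveI := hS.mono_f
  haveI := hS.epi_g
  -- lifts of the generators of `X₃`
  have hlift : ∀ k : K₃, ∃ τ : Γ(S.X₂, ⊤), S.g.app ⊤ τ =
      LD.QC.sectionOfHom (show LD.QC.unitMod X ⟶ S.X₃ from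
        SheafOfModules.ιFree (R := X.ringCatSheaf) k ≫ p₃) := fun k => hsurj _
  choose τ hτ using hlift
  let c : K₁ ⊕ K₃ → (LD.QC.unitMod X ⟶ S.X₂) := fun k =>
    Sum.elim (fun k₁ => (show LD.QC.unitMod X ⟶ S.X₁ from
      SheafOfModules.ιFree (R := X.ringCatSheaf) k₁ ≫ p₁) ≫ S.f)
      (fun k₃ => LD.QC.homOfSection S.X₂ (τ k₃)) k
  let FK : X.Modules := SheafOfModules.free (R := X.ringCatSheaf) (K₁ ⊕ K₃)
  let p : FK ⟶ S.X₂ :=
    CategoryTheory.Limits.Cofan.IsColimit.desc (SheafOfModules.isColimitFreeCofan (R := X.ringCatSheaf) (K₁ ⊕ K₃)) c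
  have hpc : ∀ k, (show LD.QC.unitMod X ⟶ FK from SheafOfModules.ιFree (R := X.ringCatSheaf) k) ≫ p
      = c k := fun k =>
    CategoryTheory.Limits.Cofan.IsColimit.fac (SheafOfModules.isColimitFreeCofan (R := X.ringCatSheaf) (K₁ ⊕ K₃)) c k
  refine ⟨K₁ ⊕ K₃, p, ?_⟩
  refine @Preadditive.epi_of_cancel_zero X.Modules _ _ _ _ p (fun {Q} q hq => ?_)
  -- `S.f ≫ q = 0`
  have h1 : p₁ ≫ S.f ≫ q = 0 := by
    apply CategoryTheory.Limits.Cofan.IsColimit.hom_ext (SheafOfModules.isColimitFreeCofan (R := X.ringCatSheaf) K₁)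
    intro k₁
    have e1 := hpc (Sum.inl k₁)
    have e2 : c (Sum.inl k₁) ≫ q = 0 := by rw [← e1, Category.assoc, hq, CategoryTheory.Limits.comp_zero]
    change SheafOfModules.ιFree (R := X.ringCatSheaf) k₁ ≫ p₁ ≫ S.f ≫ q =
      SheafOfModules.ιFree (R := X.ringCatSheaf) k₁ ≫ 0
    rw [CategoryTheory.Limits.comp_zero]
    have e3 : c (Sum.inl k₁) = (show LD.QC.unitMod X ⟶ S.X₁ from
      SheafOfModules.ιFree (R := X.ringCatSheaf) k₁ ≫ p₁) ≫ S.f := rfl
    rw [e3, Category.assoc] at e2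
    exact (Category.assoc _ _ _).symm.trans e2
  have h2 : S.f ≫ q = 0 := (@cancel_epi _ _ _ _ _ p₁ hp₁ _ _).mp (h1.trans CategoryTheory.Limits.comp_zero.symm)
  -- factor through `S.g`
  let q' : S.X₃ ⟶ Q := hS.gIsCokernel.desc (CategoryTheory.Limits.CokernelCofork.ofπ q h2)
  have hq' : S.g ≫ q' = q := hS.gIsCokernel.fac (CategoryTheory.Limits.CokernelCofork.ofπ q h2) CategoryTheory.Limits.WalkingParallelPair.one
  have h3 : p₃ ≫ q' = 0 := by
    apply CategoryTheory.Limits.Cofan.IsColimit.hom_ext (SheafOfModules.isColimitFreeCofan (R := X.ringCatSheaf) K₃)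
    intro k₃
    change SheafOfModules.ιFree (R := X.ringCatSheaf) k₃ ≫ p₃ ≫ q' =
      SheafOfModules.ιFree (R := X.ringCatSheaf) k₃ ≫ 0
    rw [CategoryTheory.Limits.comp_zero]
    have e1 := hpc (Sum.inr k₃)
    have e2 : c (Sum.inr k₃) ≫ q = 0 := by rw [← e1, Category.assoc, hq, CategoryTheory.Limits.comp_zero]
    have e3 : c (Sum.inr k₃) = LD.QC.homOfSection S.X₂ (τ k₃) := rfl
    rw [e3, ← hq', ← Category.assoc, LD.QC.homOfSection_comp, hτ k₃,
      LD.QC.homOfSection_sectionOfHom] at e2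
    exact (Category.assoc _ _ _).symm.trans e2
  have h4 : q' = 0 := (@cancel_epi _ _ _ _ _ p₃ hp₃ _ _).mp (h3.trans CategoryTheory.Limits.comp_zero.symm)
  rw [← hq', h4, CategoryTheory.Limits.comp_zero]

end Groth.Agent.S10945
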