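import Groth.Statements.S10957
import Mathlib
-- import your own Groth.Agent.* helpers here

set_option autoImplicit false
universe u
open CAlg

namespace Groth.Agent.S10957

/-- Let A be a Noetherian local integral domain that is normal (integrally closed in its field of
fractions). If there is a nonzero element a of A such that the maximal ideal of A is an associated
prime of the A-module A/(a), then A is a discrete valuation ring. (The other conditions listed in
the published result — normal of dimension one, maximal ideal nonzero principal, regular of
dimension one — are the library's standard characterisations; this row records the criterion through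
an associated prime.) -/
theorem result
    (A : Type u) [CommRing A] [IsDomain A] [IsNoetherianRing A] [IsLocalRing A] [IsIntegrallyClosed A]
    (a : A) (ha : a ≠ 0)
    (hass : IsLocalRing.maximalIdeal A ∈ associatedPrimes A (A ⧸ Ideal.span ({a} : Set A))) :
    IsDiscreteValuationRing A := by
  classical
  obtain ⟨-, x, hx⟩ := (isAssociatedPrime_iff).mp hass
  obtain ⟨b, rfl⟩ := Ideal.Quotient.mk_surjective x
  have hm : ∀ r, r ∈ IsLocalRing.maximalIdeal A ↔ a ∣ r * b := by
    intro r
    rw [hx, Submodule.mem_colon_singleton, Submodule.mem_bot, ← Ideal.mem_span_singleton,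
      ← Ideal.Quotient.eq_zero_iff_mem, map_mul]
    rfl
  have hab : ¬ a ∣ b := by
    intro h
    have h1 : (1 : A) ∈ IsLocalRing.maximalIdeal A := (hm 1).mpr (by rwa [one_mul])
    exact (Ideal.ne_top_iff_one _).mp (IsLocalRing.maximalIdeal.isMaximal A).ne_top h1
  have ham : a ∈ IsLocalRing.maximalIdeal A := (hm a).mpr (Dvd.intro b rfl)
  have hnf : ¬ IsField A := by
    intro hF
    have := IsLocalRing.isField_iff_maximalIdeal_eq.mp hF
    rw [this] at ham
    exact ha ham
  refine ((IsDiscreteValuationRing.TFAE A hnf).out 0 4).mpr ?_
  by_cases hcase : ∃ t u : A, t ∈ IsLocalRing.maximalIdeal A ∧ IsUnit u ∧ t * b = a * u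
  · obtain ⟨t, u, ht, hu, htb⟩ := hcase
    refine ⟨⟨t, ?_⟩⟩
    apply le_antisymm
    · intro r hr
      obtain ⟨c, hc⟩ := (hm r).mp hr
      obtain ⟨v, hv⟩ := hu.exists_right_inv
      have h1 : a * (r * u) = a * (t * c) := by
        calc a * (r * u) = r * (a * u) := by ring
          _ = r * (t * b) := by rw [htb]
          _ = t * (r * b) := by ring
          _ = t * (a * c) := by rw [hc]
          _ = a * (t * c) := by ring
      have h2 : r * u = t * c := mul_left_cancel₀ ha h1
      show r ∈ Ideal.span {t}
      rw [Ideal.mem_span_singleton]
      refine ⟨c * v, ?_⟩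
      calc r = r * (u * v) := by rw [hv, mul_one]
        _ = (r * u) * v := by ring
        _ = t * (c * v) := by rw [h2]; ring
    · show Ideal.span {t} ≤ _
      rw [Ideal.span_singleton_le_iff_mem]
      exact ht
  · exfalso
    push Not at hcase
    apply hab
    set K := FractionRing A
    have haK : algebraMap A K a ≠ 0 := by
      rw [Ne, map_eq_zero_iff _ (IsFractionRing.injective A K)]; exact ha
    set z : K := algebraMap A K b / algebraMap A K a with hz
    have hzint : IsIntegral A z := by
      refine isIntegral_of_smul_mem_submodule (M := K)
        (Submodule.map (Algebra.linearMap A K) (IsLocalRing.maximalIdeal A)) ?_ ?_ z ?_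
      · intro h
        have h1 : algebraMap A K a ∈ Submodule.map (Algebra.linearMap A K)
            (IsLocalRing.maximalIdeal A) := ⟨a, ham, rfl⟩
        rw [h] at h1
        exact haK ((Submodule.mem_bot A).mp h1)
      · exact Submodule.FG.map _ (IsNoetherian.noetherian _)
      · rintro _ ⟨r, hr, rfl⟩
        obtain ⟨c, hc⟩ := (hm r).mp hr
        have hc' : c ∈ IsLocalRing.maximalIdeal A := by
          by_contra hcm
          have hcu : IsUnit c := by
            by_contra hnu
            exact hcm ((IsLocalRing.mem_maximalIdeal c).mpr hnu)
          exact hcase r c hr hcu hc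
        refine ⟨c, hc', ?_⟩
        show algebraMap A K c = z • algebraMap A K r
        rw [hz, smul_eq_mul, div_mul_eq_mul_div, eq_div_iff haK, ← map_mul, ← map_mul, mul_comm c,
          ← hc, mul_comm]
    obtain ⟨w, hw⟩ := IsIntegrallyClosed.algebraMap_eq_of_integral hzint
    refine ⟨w, ?_⟩
    apply IsFractionRing.injective A K
    rw [map_mul, hw, hz, mul_div_cancel₀ _ haK]

end Groth.Agent.S10957
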