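import Groth.Statements.S10967
import Groth.Agent.Lib.Lead.QC.QAffHom
import Groth.Agent.S4380
import Groth.Agent.S4381

set_option autoImplicit false
universe u
open CategoryTheory AlgebraicGeometry TopologicalSpace
open MoreMor

namespace Groth.Agent.S10967

/-- Quasi-affine over an affine base: call a morphism f : X → Y quasi-affine when Y has a cover by
affine opens V_i whose preimages f⁻¹(V_i) are quasi-affine schemes (quasi-compact open subschemes of
affine schemes; equivalently quasi-compact with X → Spec Γ(X, O_X) an immersion). If Y is affine and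
f is quasi-affine in this sense, then X is a quasi-affine scheme. -/
theorem result {X Y : Scheme.{u}} [IsAffine Y]
    (f : X ⟶ Y) {ι : Type u} (V : ι → Y.Opens) (hV : iSup V = ⊤) (hVa : ∀ i, IsAffineOpen (V i))
    (hq : ∀ i, Scheme.IsQuasiAffine (↑(f ⁻¹ᵁ V i) : Scheme.{u})) :
    X.IsQuasiAffine := by
  haveI hqc : QuasiCompact f := by
    apply IsZariskiLocalAtTarget.of_iSup_eq_top (P := @QuasiCompact) V hV
    intro i
    haveI := hq i
    haveI : IsAffine (V i : Scheme.{u}) := hVa i
    infer_instance
  have hrel : RelAmple.IsRelAmple f (Coh.structureModule X) := by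
    rw [Groth.Agent.S4380.result f _ V hV]
    intro i
    haveI : IsAffine (V i : Scheme.{u}) := hVa i
    rw [Groth.Agent.S4381.result]
    haveI := hq i
    exact LD.QC.isAmple_unit_restrict_of_isQuasiAffine _
  have hA : CohB1.IsAmple (Coh.structureModule X) := (Groth.Agent.S4381.result f _).mp hrel
  haveI : CompactSpace X := hA.2.1
  haveI : X.IsSeparated := LD.QC.isSeparated_of_affine_genLocus _ hA.1 hA.2.2
  exact (Groth.Agent.S2336.result X).mpr hA

end Groth.Agent.S10967
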