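import Groth.Statements.S11007
import Groth.Agent.Lib.Helper5.Geom.PthPower

set_option autoImplicit false
universe u v
open FunFld

namespace Groth.Agent.S11007

/-- In a geometric function field of one variable of characteristic `p > 0`, `kK^p` is the only
intermediate field over which `K` is purely inseparable of degree `p`. The companion assertion about
the natural map on Kähler differentials is not stated. -/
theorem result (k : Type u) (K : Type v) [Field k] [Field K] [Algebra k K] (p : ℕ) [Fact p.Prime] [CharP K p]
    (hK : FunFld.IsFunctionField k K) (hg : FunFld.IsGeometric k K) (K₀ : IntermediateField k K) :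
    (IsPurelyInseparable K₀ K ∧ Module.finrank K₀ K = p) ↔ K₀ = IntermediateField.adjoin k (Set.range fun y : K => y ^ p) := by
  have hp : p.Prime := Fact.out
  show _ ↔ K₀ = FunFld.Geom.kKp k K p
  constructor
  · rintro ⟨hpi, hfin⟩
    have hfd : FiniteDimensional K₀ K :=
      Module.finite_of_finrank_pos (by rw [hfin]; exact hp.pos)
    have hE : ExpChar K₀ p := by
      have : CharP K₀ p :=
        (RingHom.charP_iff (algebraMap K₀ K) (algebraMap K₀ K).injective p).2 inferInstance
      exact ExpChar.prime hp
    have hle : FunFld.Geom.kKp k K p ≤ K₀ := by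
      rw [FunFld.Geom.kKp, IntermediateField.adjoin_le_iff]
      rintro _ ⟨y, rfl⟩
      obtain ⟨n, c, hmin⟩ := IsPurelyInseparable.minpoly_eq_X_pow_sub_C K₀ p y
      have hdeg : (minpoly K₀ y).natDegree ≤ p := hfin ▸ minpoly.natDegree_le y
      rw [hmin, Polynomial.natDegree_X_pow_sub_C] at hdeg
      have hroot : y ^ p ^ n = (c : K) := by
        have := minpoly.aeval K₀ y
        rw [hmin, map_sub, map_pow, Polynomial.aeval_X, Polynomial.aeval_C, sub_eq_zero] at this
        exact this
      have hn : n ≤ 1 := by
        by_contra hlt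
        have : p ^ 2 ≤ p ^ n := Nat.pow_le_pow_right hp.pos (by omega)
        have h2 : p * 2 ≤ p ^ 2 := by rw [pow_two]; exact Nat.mul_le_mul_left p hp.two_le
        have := hp.pos
        omega
      rcases Nat.le_one_iff_eq_zero_or_eq_one.1 hn with rfl | rfl
      · rw [pow_zero, pow_one] at hroot
        show y ^ p ∈ K₀
        rw [hroot]
        exact pow_mem c.2 p
      · rw [pow_one] at hroot
        show y ^ p ∈ K₀
        rw [hroot]
        exact c.2
    have hfinM := FunFld.Geom.finrank_kKp p hK hg
    have hfdM : FiniteDimensional (FunFld.Geom.kKp k K p) K :=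
      Module.finite_of_finrank_pos (by rw [hfinM]; exact hp.pos)
    exact (IntermediateField.eq_of_le_of_finrank_eq' hle (by rw [hfinM, hfin])).symm
  · rintro rfl
    refine ⟨?_, FunFld.Geom.finrank_kKp p hK hg⟩
    have hE : ExpChar (FunFld.Geom.kKp k K p) p := by
      have : CharP (FunFld.Geom.kKp k K p) p :=
        (RingHom.charP_iff (algebraMap (FunFld.Geom.kKp k K p) K)
          (algebraMap (FunFld.Geom.kKp k K p) K).injective p).2 inferInstance
      exact ExpChar.prime hp
    rw [isPurelyInseparable_iff_pow_mem _ p]
    intro y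
    refine ⟨1, ⟨⟨y ^ p, IntermediateField.subset_adjoin k _ ⟨y, rfl⟩⟩, ?_⟩⟩
    rw [pow_one]
    rfl

end Groth.Agent.S11007
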