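import Groth.Statements.S11028
import Groth.Agent.Lib.Helper7.Old.AS2
-- import your own Groth.Agent.* helpers here

set_option autoImplicit false
open FunFld

namespace Groth.Agent.S11028

/-- For `k` perfect of characteristic `2` and `K = k(x, y)` with `y² + y = f(x)`, all poles of `f` of
odd order `2d_i - 1` at places `p_i` of `k(x)`, the genus of `K` is `-1 + ∑ d_i deg p_i`. -/
theorem result (k K : Type*) [Field k] [Field K] [PerfectField k] (h2 : ringChar k = 2) [Algebra k K]
    [Algebra (RatFunc k) K] [IsScalarTower k (RatFunc k) K] (hK : FunFld.IsFunctionField k K)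
    (hdeg : Module.finrank (RatFunc k) K = 2) (y : K) (hy : y ∉ Set.range (algebraMap (RatFunc k) K))
    (f : RatFunc k) (heq : y ^ 2 + y = algebraMap (RatFunc k) K f)
    (hodd : ∀ P : FunFld.Place k (RatFunc k), FunFld.div k f P < 0 → Odd (FunFld.div k f P)) :
    (FunFld.genus k K : ℤ) = -1 + ∑ P ∈ (FunFld.div k f).support with FunFld.div k f P < 0,
      (1 - FunFld.div k f P) / 2 * (P.deg : ℤ) := by
  classical
  have hF := Groth.Agent.H7.RF.isFunctionField (k := k)
  have hg0 : FunFld.genus k (RatFunc k) = 0 :=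
    FunFld.genus_eq_zero_of_adjoin_eq_top hF RatFunc.adjoin_X
  set S := (FunFld.div k f).support.filter (fun P => FunFld.div k f P < 0) with hS
  set A : FunFld.Divisor k (RatFunc k) :=
    ∑ P ∈ S, ((1 - FunFld.div k f P) / 2) • Finsupp.single P (1 : ℤ) with hAdef
  have hAapply : ∀ Q, A Q = if Q ∈ S then (1 - FunFld.div k f Q) / 2 else 0 := by
    intro Q
    rw [hAdef, Finsupp.finsetSum_apply]
    simp only [Finsupp.smul_apply, Finsupp.single_apply, smul_eq_mul, mul_ite, mul_one, mul_zero]
    rw [Finset.sum_ite_eq']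
  have hAdeg : A.deg = ∑ P ∈ S, (1 - FunFld.div k f P) / 2 * (P.deg : ℤ) := by
    rw [hAdef, ← FunFld.Divisor.degHom_apply, map_sum]
    refine Finset.sum_congr rfl (fun P _ => ?_)
    rw [FunFld.Divisor.degHom_apply, FunFld.Divisor.deg_zsmul, FunFld.Divisor.deg_single, one_mul]
  have hA : Groth.Agent.H7.AS.IsHalfPole f A := by
    intro P
    have hdiv : FunFld.div k f P = P.ord f := FunFld.div_apply hF f P
    constructor
    · intro hpole
      have hf0 : f ≠ 0 := by
        rintro rfl
        rw [map_zero] at hpole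
        exact absurd hpole (by simp)
      have hneg : P.ord f < 0 := by
        have := (P.v_le_one_iff hf0).not.1 (not_le.2 hpole)
        omega
      obtain ⟨i, hi⟩ := hodd P (by rw [hdiv]; exact hneg)
      rw [hdiv] at hi
      have hmem : P ∈ S := by
        rw [hS, Finset.mem_filter, Finsupp.mem_support_iff, hdiv]
        exact ⟨by omega, hneg⟩
      have hcast : ((-i - 1).toNat : ℤ) = -i - 1 := Int.toNat_of_nonneg (by omega)
      refine ⟨(-i - 1).toNat, ?_, ?_⟩
      · rw [hcast]; omega
      · rw [hAapply, if_pos hmem, hdiv, hi, hcast]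
        omega
    · intro hint
      rw [hAapply, if_neg]
      rw [hS, Finset.mem_filter, not_and, hdiv]
      intro _
      rcases eq_or_ne f 0 with rfl | hf0
      · simp [FunFld.Place.ord]
      · exact not_lt.2 ((P.v_le_one_iff hf0).1 hint)
  have hgen := Groth.Agent.H7.AS.genus_as hF hg0 hK hdeg h2 hy heq hA
  rw [hgen, hAdeg]
  ring

end Groth.Agent.S11028
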