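import Groth.Statements.S11034
import Groth.Agent.Lib.Helper7.QL1
import Groth.Agent.Lib.Helper7.RF1
-- import your own Groth.Agent.* helpers here

set_option autoImplicit false
open FunFld

namespace Groth.Agent.S11034

/-- For `char k ≠ 2` and `K = k(x, y)`, `y² = f(x)` with `f` squarefree, each irreducible factor `p` of
`f` has a unique place `P` of `K` above it, with `e(P|p) = 2`, `f(P|p) = 1` and `deg P = deg p`. The
zero divisor of `y` and the behaviour above the infinite place of `k(x)` are not stated. -/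
theorem result (k K : Type*) [Field k] [Field K] (h2 : ringChar k ≠ 2) [Algebra k K]
    [Algebra (RatFunc k) K] [IsScalarTower k (RatFunc k) K]
    (hdeg : Module.finrank (RatFunc k) K = 2) (y : K) (f : Polynomial k) (hf : Squarefree f)
    (hd : 1 ≤ f.natDegree)
    (heq : y ^ 2 = algebraMap (RatFunc k) K (algebraMap (Polynomial k) (RatFunc k) f))
    (p : Polynomial k) (hp : Irreducible p) (hpf : p ∣ f)
    (P₀ : FunFld.Place k (RatFunc k)) (hP₀ : P₀.1 (algebraMap (Polynomial k) (RatFunc k) p) < 1) :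
    (∃! P : FunFld.Place k K, FunFld.IsOver P P₀) ∧
    ∀ P : FunFld.Place k K, FunFld.IsOver P P₀ → FunFld.IsOverWith P P₀ 2 ∧ P.deg = P₀.deg := by
  have hF := Groth.Agent.H7.RF.isFunctionField (k := k)
  haveI := Groth.Agent.H7.QL.finiteDimensional_of_finrank hdeg
  have hX := Groth.Agent.H7.RF.v_X_le_one_of_lt P₀ hp.ne_zero hP₀
  have hfv : P₀.1 (algebraMap (Polynomial k) (RatFunc k) f) < 1 := by
    obtain ⟨g, rfl⟩ := hpf
    rw [map_mul, map_mul]
    calc P₀.1 (algebraMap (Polynomial k) (RatFunc k) p) *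
          P₀.1 (algebraMap (Polynomial k) (RatFunc k) g)
        ≤ P₀.1 (algebraMap (Polynomial k) (RatFunc k) p) * 1 :=
          mul_le_mul' le_rfl (Groth.Agent.H7.RF.v_poly_le_one P₀ hX g)
      _ < 1 := by rwa [mul_one]
  have hord := Groth.Agent.H7.RF.ord_squarefree P₀ hX hf hfv
  have hram : ∀ P : FunFld.Place k K, FunFld.IsOver P P₀ → FunFld.IsOverWith P P₀ 2 := fun P hP =>
    Groth.Agent.H7.QL.isOverWith_two_of_sq hF hdeg heq (by rw [hord]; exact odd_one) hP
  obtain ⟨Q, hQ⟩ := Groth.Agent.H7.QL.exists_isOver (K := K) hF P₀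
  have hu := Groth.Agent.H7.QL.unique_of_ramIdx_eq hF hQ (by rw [(hram Q hQ).ramIdx_eq, hdeg])
  refine ⟨⟨Q, hQ, fun Q' hQ' => hu.2 Q' hQ'⟩, fun P hP => ⟨hram P hP, ?_⟩⟩
  rw [hu.2 P hP]
  exact hu.1

end Groth.Agent.S11034
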