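import Groth.Statements.S11042
import Groth.Agent.Lib.Helper7.RHW
-- import your own Groth.Agent.* helpers here

set_option autoImplicit false
open FunFld

namespace Groth.Agent.S11042

/-- A function field of one variable of genus `g` over a finite field with `q` elements has `N` places
of degree one with `|N - q - 1| ≤ 2 g √q`. -/
theorem result
    (k K : Type*) [Field k] [Finite k] [Field K] [Algebra k K]
    (hK : FunFld.IsFunctionField k K) :
    |(Nat.card {P : FunFld.Place k K // P.deg = 1} : ℝ) - (Nat.card k : ℝ) - 1| ≤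
      2 * (FunFld.genus k K : ℝ) * Real.sqrt (Nat.card k : ℝ) := by
  obtain ⟨α, -, hα, hpair⟩ := Groth.Agent.H7.Zeta.S11040 hK
  have hN := Groth.Agent.H7.Zeta.Nm_eq hK α hα (m := 1) one_pos
  rw [Groth.Agent.H7.Zeta.Nm_one hK] at hN
  have hq0 : (0 : ℝ) ≤ (Nat.card k : ℝ) := Nat.cast_nonneg _
  have hnorm : ∀ i, ‖α i‖ = Real.sqrt (Nat.card k : ℝ) := fun i => by
    have := Groth.Agent.H7.RH.norm_sq_alpha hK α hα (fun i => ⟨Fin.rev i, hpair i⟩) i
    rw [← this, Real.sqrt_sq (norm_nonneg _)]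
  have h1 : (((Nat.card {P : FunFld.Place k K // P.deg = 1} : ℝ) - (Nat.card k : ℝ) - 1 : ℝ) : ℂ) =
      -∑ i, α i := by
    push_cast
    rw [hN]
    simp only [pow_one]
    ring
  have h2 : |(Nat.card {P : FunFld.Place k K // P.deg = 1} : ℝ) - (Nat.card k : ℝ) - 1| =
      ‖∑ i, α i‖ := by
    rw [← Real.norm_eq_abs, ← Complex.norm_real, h1, norm_neg]
  rw [h2]
  calc ‖∑ i, α i‖ ≤ ∑ i, ‖α i‖ := norm_sum_le _ _
    _ = ∑ _i : Fin (2 * FunFld.genus k K), Real.sqrt (Nat.card k : ℝ) := by simp only [hnorm]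
    _ = 2 * (FunFld.genus k K : ℝ) * Real.sqrt (Nat.card k : ℝ) := by
      rw [Finset.sum_const, Finset.card_univ, Fintype.card_fin, nsmul_eq_mul]
      push_cast
      ring

end Groth.Agent.S11042
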