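import Groth.Statements.S11044
import Groth.Agent.Lib.Helper5.FunFld.LinSeries2

set_option autoImplicit false
open FunFld

namespace Groth.Agent.S11044

/-- Over an algebraically closed constant field, if the genus `g` is positive and `D` has degree at
least `2g` or is canonical, then `ℓ(D - P) < ℓ(D)` for every place `P`; that is, `D` is the divisor
of the projective map given by `L(D)`. -/
theorem result
    (k K : Type*) [Field k] [IsAlgClosed k] [Field K] [Algebra k K]
    (hK : FunFld.IsFunctionField k K) (hg : 0 < FunFld.genus k K)
    (D : FunFld.Divisor k K)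
    (hD : 2 * (FunFld.genus k K : ℤ) ≤ D.deg ∨ FunFld.IsCanonical k K D) (P : FunFld.Place k K) :
    FunFld.ell (D - Finsupp.single P 1) < FunFld.ell D := by
  have hdP := FunFld.Place.deg_eq_one_of_isAlgClosed hK P
  rcases hD with hD | hC
  · have h1 := FunFld.ell_eq_of_large_deg hK (D := D) (by omega)
    have h2 := FunFld.ell_eq_of_large_deg hK (D := D - Finsupp.single P 1) (by
      rw [FunFld.Divisor.deg_sub, FunFld.Divisor.deg_single, hdP]; push_cast; omega)
    rw [FunFld.Divisor.deg_sub, FunFld.Divisor.deg_single, hdP] at h2
    push_cast at h2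
    have : (FunFld.ell (D - Finsupp.single P 1) : ℤ) < FunFld.ell D := by omega
    exact_mod_cast this
  · have h1 := FunFld.riemann_roch hK hC (D - Finsupp.single P 1)
    have h2 := FunFld.ell_canonical hK hC
    have h3 := FunFld.deg_canonical hK hC
    have e : D - (D - Finsupp.single P 1) = Finsupp.single P 1 := by abel
    rw [e, FunFld.Divisor.deg_sub, FunFld.Divisor.deg_single, hdP, h3] at h1
    have h4 := FunFld.ell_le_one_of_deg_eq_one hK hg (D := (Finsupp.single P 1 : FunFld.Divisor k K)) (by
      rw [FunFld.Divisor.deg_single, hdP]; norm_num)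
    have h5 : (FunFld.ell (Finsupp.single P 1 : FunFld.Divisor k K) : ℤ) ≤ 1 := by exact_mod_cast h4
    push_cast at h1
    have : (FunFld.ell (D - Finsupp.single P 1) : ℤ) < FunFld.ell D := by
      rw [h2]; omega
    exact_mod_cast this

end Groth.Agent.S11044
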