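import Groth.Statements.S11046
import Groth.Agent.Lib.Helper5.FunFld.Gaps

set_option autoImplicit false
open FunFld

namespace Groth.Agent.S11046

/-- Over an algebraically closed constant field, for a place `P` of a function field of genus `g` and a
natural number `n ≤ 2g - 2` one has `ℓ(nP) ≤ 1 + n/2` (Clifford's bound for multiples of a point). -/
theorem result
    (k K : Type*) [Field k] [IsAlgClosed k] [Field K] [Algebra k K]
    (hK : FunFld.IsFunctionField k K) (P : FunFld.Place k K) (n : ℕ)
    (hn : (n : ℤ) ≤ 2 * (FunFld.genus k K : ℤ) - 2) :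
    2 * FunFld.ell (Finsupp.single P (n : ℤ)) ≤ n + 2 := by
  have hdP := FunFld.Place.deg_eq_one_of_isAlgClosed hK P
  have h1 := FunFld.ell_add_gapCount hK P hdP n
  have hgpos : 1 ≤ FunFld.genus k K := by omega
  have hg := FunFld.gapCount_eq_genus hK P hdP (N := 2 * FunFld.genus k K - 1) (by
    rw [Nat.cast_sub (by omega)]; push_cast; omega)
  have hmono := FunFld.gapCount_mono P (n := n) (N := 2 * FunFld.genus k K - 1) (by omega)
  rcases Nat.lt_or_ge (FunFld.gapCount P n) (FunFld.genus k K) with hlt | hge
  · obtain ⟨m, hm1, -, hm3⟩ := FunFld.exists_gap_of_gapCount_lt P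
      (n := n) (N := 2 * FunFld.genus k K - 1) (by omega)
    have := FunFld.le_two_mul_gapCount P n ⟨m, hm1, hm3⟩
    omega
  · omega

end Groth.Agent.S11046
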