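import Groth.Statements.S11050
import Groth.Agent.Lib.Helper5.Geom.PthPower
import Groth.Agent.Lib.Helper5.FunFld.Geometric
import Groth.Agent.Lib.Helper5.FunFld.FF
import Mathlib.Algebra.Module.Submodule.Union

set_option autoImplicit false
open FunFld

namespace Groth.Agent.S11050

/-- Over an algebraically closed constant field, let `W` be a finite-dimensional subspace of the
function field `K` containing `1` and generating `K` over `k` (the span of an effective birational
projective map). Then `W` contains a separating variable `x`, and for each separating `x ∈ W` some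
`y ∈ W` gives `K = k(x, y)`. -/
theorem result
    (k K : Type*) [Field k] [IsAlgClosed k] [Field K] [Algebra k K]
    (hK : FunFld.IsFunctionField k K) (W : Submodule k K)
    [FiniteDimensional k W] (h1 : (1 : K) ∈ W)
    (hW : IntermediateField.adjoin k (W : Set K) = ⊤) :
    (∃ x ∈ W, Algebra.IsSeparable (IntermediateField.adjoin k ({x} : Set K)) K) ∧
    ∀ x ∈ W, Algebra.IsSeparable (IntermediateField.adjoin k ({x} : Set K)) K →
      ∃ y ∈ W, IntermediateField.adjoin k ({x, y} : Set K) = ⊤ := by
  have hg : FunFld.IsGeometric k K := FunFld.isGeometric_of_perfectField k K hK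
  constructor
  · by_contra hcon
    push Not at hcon
    obtain ⟨x₁, hx₁⟩ := FunFld.Geom.exists_D_ne_zero hK hg
    have hW' : (W : Set K) ⊆ FunFld.Geom.kerD (KaehlerDifferential.D k K) := by
      intro x hx
      by_contra hne
      exact hcon x hx (FunFld.Geom.isSeparable_of_D_ne_zero hK hg hne)
    have hle : IntermediateField.adjoin k (W : Set K) ≤
        FunFld.Geom.kerD (KaehlerDifferential.D k K) := IntermediateField.adjoin_le_iff.2 hW'
    rw [hW] at hle
    exact hx₁ (hle trivial)
  · intro x hxW hsep
    have htr := FunFld.Geom.transcendental_of_isSeparable hK hsep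
    have hfd : FiniteDimensional (IntermediateField.adjoin k ({x} : Set K)) K :=
      hK.finiteDimensional_adjoin htr
    have hfin : Finite (IntermediateField (IntermediateField.adjoin k ({x} : Set K)) K) :=
      Field.finite_intermediateField_of_exists_primitive_element _ _
        (Field.exists_primitive_element _ _)
    let ι := {L : IntermediateField (IntermediateField.adjoin k ({x} : Set K)) K // L ≠ ⊤}
    let p : ι → Submodule k W := fun L =>
      Submodule.comap W.subtype ((L.1.restrictScalars k).toSubalgebra.toSubmodule)
    have hp : ∀ L : ι, p L ≠ ⊤ := by
      intro L hL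
      apply L.2
      have hWL : (W : Set K) ⊆ L.1.restrictScalars k := by
        intro w hw
        have : (⟨w, hw⟩ : W) ∈ p L := hL ▸ Submodule.mem_top
        exact this
      have hle : IntermediateField.adjoin k (W : Set K) ≤ L.1.restrictScalars k :=
        IntermediateField.adjoin_le_iff.2 hWL
      rw [hW] at hle
      rw [← IntermediateField.restrictScalars_eq_top_iff (K := k)]
      exact top_le_iff.1 hle
    obtain ⟨y, hy⟩ := Submodule.exists_forall_notMem_of_forall_ne_top p hp
    refine ⟨y, y.2, ?_⟩
    have htop : IntermediateField.adjoin (IntermediateField.adjoin k ({x} : Set K))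
        ({(y : K)} : Set K) = ⊤ := by
      by_contra hne
      apply hy ⟨_, hne⟩
      show (y : K) ∈ IntermediateField.adjoin (IntermediateField.adjoin k ({x} : Set K))
        ({(y : K)} : Set K)
      exact IntermediateField.mem_adjoin_simple_self _ _
    have := IntermediateField.adjoin_adjoin_left k ({x} : Set K) ({(y : K)} : Set K)
    rw [htop, IntermediateField.restrictScalars_top, Set.singleton_union] at this
    exact this.symm

end Groth.Agent.S11050
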