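import Groth.Statements.S11053
import Groth.Agent.Lib.Helper7.SF3
-- import your own Groth.Agent.* helpers here

set_option autoImplicit false
open FunFld

namespace Groth.Agent.S11053

/-- Over an algebraically closed constant field, let `τ` be a `k`-embedding of the function field `K` of
genus `g` into itself, of degree `deg τ = [K : τ(K)]`. A place is a strong fixed point of `τ` when
`τ` maps its maximal ideal into the square of that ideal. For every integer `n > g` there are at
most `1 + deg τ + (n + deg τ / n) g + 2g²(g-1)/n` strong fixed points. -/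
theorem result
    (k K : Type*) [Field k] [IsAlgClosed k] [Field K] [Algebra k K]
    (hK : FunFld.IsFunctionField k K) (τ : K →ₐ[k] K) (n : ℕ)
    (hn : FunFld.genus k K < n) :
    {P : FunFld.Place k K | ∀ x : K, P.1 x < 1 → P.1 (τ x) ≤ WithZero.exp (-2)}.Finite ∧
    (Set.ncard {P : FunFld.Place k K | ∀ x : K, P.1 x < 1 → P.1 (τ x) ≤ WithZero.exp (-2)} : ℝ) ≤
      1 + Module.finrank τ.fieldRange K +
        (n + (Module.finrank τ.fieldRange K : ℝ) / n) * FunFld.genus k K +
        2 * (FunFld.genus k K : ℝ) ^ 2 * (FunFld.genus k K - 1) / n := by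
  classical
  have hn0 : 0 < n := by omega
  have hn' : (0 : ℝ) < (n : ℝ) := by exact_mod_cast hn0
  by_cases hex : ∃ P₀ : FunFld.Place k K, FunFld.IsStrongFixedPt τ P₀
  · obtain ⟨hfin, hb⟩ := Groth.Agent.H7.SF.strongFixed_bound_int hK τ n hn hex
    refine ⟨hfin, ?_⟩
    have hbR : ((n : ℤ) * (Set.ncard {P : FunFld.Place k K | FunFld.IsStrongFixedPt τ P} : ℤ) : ℝ) ≤
        ((((n : ℤ) + Module.finrank τ.fieldRange K) * ((n : ℤ) + FunFld.genus k K) +
        ((FunFld.genus k K : ℤ) - 1) * ((n : ℤ) * ((n : ℤ) - 1) +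
          2 * ((FunFld.genus k K : ℤ) * FunFld.genus k K)) : ℤ) : ℝ) := by
      exact_mod_cast hb
    push_cast at hbR
    change (Set.ncard {P : FunFld.Place k K | FunFld.IsStrongFixedPt τ P} : ℝ) ≤ _
    set N : ℝ := (Set.ncard {P : FunFld.Place k K | FunFld.IsStrongFixedPt τ P} : ℝ) with hN
    set d : ℝ := (Module.finrank τ.fieldRange K : ℝ) with hd
    set g : ℝ := (FunFld.genus k K : ℝ) with hg
    have key : N * n ≤ (1 + d + ((n : ℝ) + d / n) * g + 2 * g ^ 2 * (g - 1) / n) * n := by
      have h1 : (1 + d + ((n : ℝ) + d / n) * g + 2 * g ^ 2 * (g - 1) / n) * n =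
          n + d * n + (n : ℝ) ^ 2 * g + d * g + 2 * g ^ 2 * (g - 1) := by
        field_simp
        ring
      rw [h1]
      nlinarith [hbR]
    exact le_of_mul_le_mul_right key hn'
  · push Not at hex
    have hempty : {P : FunFld.Place k K | ∀ x : K, P.1 x < 1 → P.1 (τ x) ≤ WithZero.exp (-2)} = ∅ := by
      rw [Set.eq_empty_iff_forall_notMem]
      intro P hP
      exact hex P hP
    rw [hempty]
    refine ⟨Set.finite_empty, ?_⟩
    rw [Set.ncard_empty]
    have hd0 : (0 : ℝ) ≤ (Module.finrank τ.fieldRange K : ℝ) := Nat.cast_nonneg _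
    have hg0 : (0 : ℝ) ≤ (FunFld.genus k K : ℝ) := Nat.cast_nonneg _
    rcases Nat.eq_zero_or_pos (FunFld.genus k K) with h0 | hpos
    · rw [h0]
      simp only [Nat.cast_zero, mul_zero, add_zero]
      norm_num
      linarith
    · have hg1 : (1 : ℝ) ≤ (FunFld.genus k K : ℝ) := by exact_mod_cast hpos
      have h1 : (0 : ℝ) ≤ ((n : ℝ) + (Module.finrank τ.fieldRange K : ℝ) / n) * FunFld.genus k K :=
        mul_nonneg (add_nonneg hn'.le (div_nonneg hd0 hn'.le)) hg0
      have h2 : (0 : ℝ) ≤ 2 * (FunFld.genus k K : ℝ) ^ 2 * ((FunFld.genus k K : ℝ) - 1) / n :=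
        div_nonneg (mul_nonneg (by positivity) (by linarith)) hn'.le
      push_cast
      linarith

end Groth.Agent.S11053
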