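import Groth.Statements.S11063
import Groth.Agent.Lib.Helper5.FunFld.Gaps

set_option autoImplicit false
open FunFld

namespace Groth.Agent.S11063

/-- Over an algebraically closed constant field, for a place `P` of a function field of genus `g` and `1
≤ l ≤ g`, the `l`-th gap number at `P` is at most `2l - 1`, i.e. at least `l` of the integers `1 ≤ m
≤ 2l - 1` satisfy `L(mP) = L((m-1)P)`. (The published statement bounds the `l`-th order of the
canonical map at `P` by `2l`; the orders of the canonical map at `P` are the gap numbers at `P` less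
one, which gives the form stated here.) -/
theorem result
    (k K : Type*) [Field k] [IsAlgClosed k] [Field K] [Algebra k K]
    (hK : FunFld.IsFunctionField k K) (P : FunFld.Place k K) (l : ℕ)
    (hl : 1 ≤ l) (hlg : l ≤ FunFld.genus k K) :
    l ≤ Set.ncard {m : ℕ | 1 ≤ m ∧ m ≤ 2 * l - 1 ∧
      FunFld.L (Finsupp.single P (m : ℤ)) = FunFld.L (Finsupp.single P ((m : ℤ) - 1))} := by
  have hdP := FunFld.Place.deg_eq_one_of_isAlgClosed hK P
  have hset : {m : ℕ | 1 ≤ m ∧ m ≤ 2 * l - 1 ∧ FunFld.L (Finsupp.single P (m : ℤ)) = FunFld.L (Finsupp.single P ((m : ℤ) - 1))} =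
      {m : ℕ | 1 ≤ m ∧ m ≤ 2 * l - 1 ∧ FunFld.IsGap P (m : ℤ)} := rfl
  rw [hset, FunFld.ncard_gaps_le]
  by_contra hlt
  rw [not_le] at hlt
  have hg := FunFld.gapCount_eq_genus hK P hdP (N := 2 * FunFld.genus k K - 1) (by
    rw [Nat.cast_sub (by omega)]; push_cast; omega)
  obtain ⟨m, hm1, -, hm3⟩ := FunFld.exists_gap_of_gapCount_lt P
    (n := 2 * l - 1) (N := 2 * FunFld.genus k K - 1) (by omega)
  have := FunFld.le_two_mul_gapCount P (2 * l - 1) ⟨m, hm1, hm3⟩
  omega

end Groth.Agent.S11063
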