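import Groth.Statements.S11065
import Groth.Agent.Lib.Helper5.FunFld.LocRingFinite

set_option autoImplicit false
open FunFld

namespace Groth.Agent.S11065

/-- Over an algebraically closed constant field, a projective map `φ = (φ₀, …, φₙ)`, `n ≥ 1`, is
nonsingular at the place `P` if and only if its local ring at `P` lies in the valuation ring of no
place other than `P` and contains a local parameter at `P`. Here the local ring of a projective map
at a place consists of the quotients of polynomials over `k` in the ratios `φᵢ/φⱼ`, `φⱼ` of least
order at the place, with denominator a unit there; the map is nonsingular at the place when this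
ring is the whole valuation ring. (The published statement is for any projective map; the published
proof uses the finiteness property of the local ring that is established for birational maps, so `φ`
is taken birational here: the ratios `φᵢ/φ₀` generate `K` over `k`.) -/
theorem result
    (k K : Type*) [Field k] [IsAlgClosed k] [Field K] [Algebra k K]
    (hK : FunFld.IsFunctionField k K) {n : ℕ} (hn : 1 ≤ n)
    (φ : Fin (n + 1) → K) (hφ : LinearIndependent k φ)
    (hbir : IntermediateField.adjoin k (Set.range fun i => φ i / φ 0) = ⊤) (P : FunFld.Place k K) :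
    FunFld.IsNonsingularAt φ P ↔
      (∀ Q : FunFld.Place k K, (∀ z : K, FunFld.InLocRing φ P z → Q.1 z ≤ 1) → Q = P) ∧
        ∃ t : K, FunFld.InLocRing φ P t ∧ P.1 t = WithZero.exp (-1) := by
  classical
  have hφ0 : ∀ i, φ i ≠ 0 := fun i => hφ.ne_zero i
  constructor
  · intro hns
    refine ⟨fun Q hQ => ?_, ?_⟩
    · symm
      apply FunFld.Place.eq_of_O_le
      intro y hy
      exact hQ y (hns y hy)
    · obtain ⟨t, ht⟩ := P.exists_uniformizer
      exact ⟨t, hns t (by rw [ht, ← WithZero.exp_zero, WithZero.exp_le_exp]; norm_num), ht⟩
  · rintro ⟨hdom, hpar⟩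
    refine FunFld.isNonsingularAt_of_param hK hφ0 ?_ hdom hpar
    intro j
    obtain ⟨i, hij⟩ : ∃ i : Fin (n + 1), i ≠ j := by
      by_cases hj : j = 0
      · exact ⟨1, by rw [hj]; intro h; have := congrArg Fin.val h; simp at this; omega⟩
      · exact ⟨0, fun h => hj h.symm⟩
    refine ⟨i, ?_⟩
    rintro ⟨c, hc⟩
    have h1 : φ i = c • φ j := by
      rw [Algebra.smul_def, hc, div_mul_cancel₀ _ (hφ0 j)]
    have h2 := hφ.notMem_span_image (s := {j}) (x := i) (by simpa using hij)
    apply h2
    rw [Set.image_singleton, h1]
    exact Submodule.smul_mem _ _ (Submodule.subset_span rfl)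

end Groth.Agent.S11065
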