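import Groth.Statements.S11079
import Mathlib

set_option autoImplicit false
universe u
open CAlg

namespace Groth.Agent.S11079

/-- Let L/K be a finite Galois extension of fields, n a natural number, and B a map from the Galois
group of L over K to the invertible n × n matrices over L such that B(σ) · σ(B(τ)) = B(στ) for all
σ, τ, where σ acts on matrices entrywise and στ is the automorphism applying τ first. Then there is
an invertible matrix A over L with B(σ) = A⁻¹ · σ(A) for every σ; that is, every 1-cocycle of the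
Galois group with values in GL_n(L) is a coboundary. -/
theorem result (K L : Type u) [Field K] [Field L]
    [Algebra K L] [FiniteDimensional K L] [IsGalois K L] (n : ℕ)
    (B : (L ≃ₐ[K] L) → GL (Fin n) L)
    (hB : ∀ σ τ : L ≃ₐ[K] L,
      (B σ : Matrix (Fin n) (Fin n) L) * (B τ : Matrix (Fin n) (Fin n) L).map σ = (B (σ * τ) : Matrix (Fin n) (Fin n) L)) :
    ∃ A : GL (Fin n) L, ∀ σ : L ≃ₐ[K] L,
      (B σ : Matrix (Fin n) (Fin n) L) = ((A⁻¹ : GL (Fin n) L) : Matrix (Fin n) (Fin n) L) * (A : Matrix (Fin n) (Fin n) L).map σ := by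
  classical
  -- the Poincaré series on vectors
  let b : (Fin n → L) → (Fin n → L) := fun x =>
    ∑ σ : L ≃ₐ[K] L, (B σ : Matrix (Fin n) (Fin n) L).mulVec (fun i => σ (x i))
  have hspan : Submodule.span L (Set.range b) = ⊤ := by
    by_contra hne
    have hlt : Submodule.span L (Set.range b) < ⊤ := lt_top_iff_ne_top.mpr hne
    obtain ⟨f, hf0, hf⟩ := Submodule.exists_dual_map_eq_bot_of_lt_top hlt inferInstance
    have hfb : ∀ x, f (b x) = 0 := by
      intro x
      have : f (b x) ∈ (Submodule.span L (Set.range b)).map f :=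
        Submodule.mem_map_of_mem (Submodule.subset_span ⟨x, rfl⟩)
      rw [hf] at this
      exact (Submodule.mem_bot L).mp this
    apply hf0
    have key : ∀ x : Fin n → L, f ((B 1 : Matrix (Fin n) (Fin n) L).mulVec x) = 0 := by
      intro x
      let c : (L ≃ₐ[K] L) → L := fun σ =>
        f ((B σ : Matrix (Fin n) (Fin n) L).mulVec (fun i => σ (x i)))
      have hli : LinearIndependent L (fun σ : L ≃ₐ[K] L => (σ : L →ₐ[K] L).toLinearMap) := by
        have := linearIndependent_toLinearMap K L L
        exact this.comp (fun σ : L ≃ₐ[K] L => (σ : L →ₐ[K] L))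
          (fun σ τ h => AlgEquiv.coe_toAlgHom_injective h)
      rw [Fintype.linearIndependent_iff] at hli
      have hsum : ∑ σ : L ≃ₐ[K] L, c σ • (σ : L →ₐ[K] L).toLinearMap = 0 := by
        ext l
        have h1 := hfb (l • x)
        simp only [b, map_sum] at h1
        simp only [LinearMap.sum_apply, LinearMap.smul_apply,
          AlgHom.toLinearMap_apply, AlgEquiv.coe_toAlgHom, LinearMap.zero_apply, smul_eq_mul]
        rw [← h1]
        apply Finset.sum_congr rfl
        intro σ _
        have h2 : (fun i => σ ((l • x) i)) = σ l • fun i => σ (x i) := by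
          ext i
          simp
        rw [h2, Matrix.mulVec_smul, map_smul, smul_eq_mul, mul_comm]
      have := hli c hsum 1
      simpa [c] using this
    refine LinearMap.ext fun x => ?_
    let Bi : Matrix (Fin n) (Fin n) L := ((B 1)⁻¹ : GL (Fin n) L)
    have hx : x = (B 1 : Matrix (Fin n) (Fin n) L).mulVec (Bi.mulVec x) := by
      rw [Matrix.mulVec_mulVec, Units.mul_inv, Matrix.one_mulVec]
    rw [hx, key]
    rfl
  obtain ⟨g, hg1, -, hg3⟩ := Submodule.exists_fun_fin_finrank_span_eq L (Set.range b)
  have hm : Module.finrank L (Submodule.span L (Set.range b)) = n := by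
    rw [hspan, finrank_top, Module.finrank_fin_fun]
  choose x hx using hg1
  -- the matrix with columns x_j
  let g' : Fin n → Fin n → L := fun j => g (Fin.cast hm.symm j)
  have hg' : LinearIndependent L g' := hg3.comp _ (Fin.cast_injective _)
  let C : Matrix (Fin n) (Fin n) L := Matrix.of (fun i j => x (Fin.cast hm.symm j) i)
  let P : Matrix (Fin n) (Fin n) L :=
    ∑ σ : L ≃ₐ[K] L, (B σ : Matrix (Fin n) (Fin n) L) * C.map σ
  have hP : P = (Matrix.of g').transpose := by
    ext i j
    simp only [P, Matrix.transpose_apply, Matrix.of_apply, g']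
    rw [← hx (Fin.cast hm.symm j)]
    simp only [b, Matrix.sum_apply, Finset.sum_apply, Matrix.mul_apply, Matrix.mulVec, dotProduct,
      Matrix.map_apply, C, Matrix.of_apply]
  have hPunit : IsUnit P := by
    rw [hP, Matrix.isUnit_transpose]
    exact Matrix.linearIndependent_rows_iff_isUnit.mp hg'
  have hcoc : ∀ τ : L ≃ₐ[K] L, (B τ : Matrix (Fin n) (Fin n) L) * P.map τ = P := by
    intro τ
    have h1 : P.map τ = ∑ σ : L ≃ₐ[K] L, ((B σ : Matrix (Fin n) (Fin n) L).map τ) * C.map (τ * σ) := by
      have : P.map τ = (τ : L →+* L).mapMatrix P := rfl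
      rw [this]
      simp only [P, map_sum, map_mul]
      apply Finset.sum_congr rfl
      intro σ _
      congr 1
    rw [h1, Finset.mul_sum]
    simp only [← mul_assoc, hB]
    exact Fintype.sum_bijective (fun σ => τ * σ) (Group.mulLeft_bijective τ) _ _ (fun σ => rfl)
  refine ⟨hPunit.unit⁻¹, fun τ => ?_⟩
  have hPu : ((hPunit.unit⁻¹)⁻¹ : GL (Fin n) L) = hPunit.unit := inv_inv _
  rw [hPu]
  have hval : (hPunit.unit : Matrix (Fin n) (Fin n) L) = P := rfl
  rw [hval]
  have h2 : P.map τ * ((hPunit.unit⁻¹ : GL (Fin n) L) : Matrix (Fin n) (Fin n) L).map τ = 1 := by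
    have e1 : P.map τ = (τ : L →+* L).mapMatrix P := rfl
    have e2 : ((hPunit.unit⁻¹ : GL (Fin n) L) : Matrix (Fin n) (Fin n) L).map τ =
        (τ : L →+* L).mapMatrix ((hPunit.unit⁻¹ : GL (Fin n) L) : Matrix (Fin n) (Fin n) L) := rfl
    rw [e1, e2, ← map_mul]
    have : P * ((hPunit.unit⁻¹ : GL (Fin n) L) : Matrix (Fin n) (Fin n) L) = 1 :=
      hPunit.mul_val_inv
    rw [this, map_one]
  calc (B τ : Matrix (Fin n) (Fin n) L)
      = (B τ : Matrix (Fin n) (Fin n) L) * (P.map τ *
          ((hPunit.unit⁻¹ : GL (Fin n) L) : Matrix (Fin n) (Fin n) L).map τ) := by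
        rw [h2, mul_one]
    _ = P * ((hPunit.unit⁻¹ : GL (Fin n) L) : Matrix (Fin n) (Fin n) L).map τ := by
        rw [← mul_assoc, hcoc]

end Groth.Agent.S11079
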