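import Groth.Statements.S11082
import Mathlib
import Groth.Agent.Lib.Helper9.KaehlerFunField

set_option autoImplicit false
universe u v
open CAlg

namespace Groth.Agent.S11082

/-- Let k be an algebraically closed field, F a field extension of k which is finitely generated as a
field, and x a transcendence basis of F over k indexed by a type ι. Then F is a separable algebraic
extension of the subfield k(x) generated by the family (x is a separating transcendence basis) if
and only if the differentials d(x i) form a basis of the F-vector space of Kähler differentials of F
over k, i.e. they are linearly independent over F and span it. -/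
theorem result (k : Type u) (F : Type v)
    [Field k] [IsAlgClosed k] [Field F] [Algebra k F] (hF : (⊤ : IntermediateField k F).FG)
    {ι : Type v} (x : ι → F) (hx : IsTranscendenceBasis k x) :
    Algebra.IsSeparable (IntermediateField.adjoin k (Set.range x)) F ↔
      (LinearIndependent F (fun i : ι => KaehlerDifferential.D k F (x i)) ∧
        Submodule.span F (Set.range fun i : ι => KaehlerDifferential.D k F (x i)) = ⊤) := by
  classical
  constructor
  · intro hsep
    obtain ⟨b, hb⟩ := Groth.Agent.H9.KFF.exists_basis_of_isSeparable x hx.1
    have : (fun i : ι => KaehlerDifferential.D k F (x i)) = b := funext (fun i => (hb i).symm)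
    rw [this]
    exact ⟨b.linearIndependent, b.span_eq⟩
  · rintro ⟨-, hspan⟩
    have hess : Algebra.EssFiniteType k F := IntermediateField.fg_top_iff.mp hF
    let E := IntermediateField.adjoin k (Set.range x)
    have hessE : Algebra.EssFiniteType E F := Algebra.EssFiniteType.of_comp k E F
    have hsub : Subsingleton (Ω[F⁄E]) := by
      have hsurj := KaehlerDifferential.map_surjective k E F
      have hzero : KaehlerDifferential.map k E F F = 0 := by
        have hle : (⊤ : Submodule F (Ω[F⁄k])) ≤
            LinearMap.ker ((KaehlerDifferential.map k E F F).restrictScalars F) := by
          rw [← hspan, Submodule.span_le]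
          rintro _ ⟨i, rfl⟩
          rw [SetLike.mem_coe, LinearMap.mem_ker]
          show KaehlerDifferential.map k E F F (KaehlerDifferential.D k F (x i)) = 0
          rw [KaehlerDifferential.map_D]
          have hxi : x i = algebraMap E F ⟨x i, IntermediateField.subset_adjoin k _ ⟨i, rfl⟩⟩ := rfl
          simp only [Algebra.algebraMap_self, RingHom.id_apply]
          rw [hxi]
          exact (KaehlerDifferential.D E F).map_algebraMap _
        refine LinearMap.ext fun z => ?_
        have hz : z ∈ (⊤ : Submodule F (Ω[F⁄k])) := trivial
        exact LinearMap.mem_ker.mp (hle hz)
      constructor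
      intro a b
      obtain ⟨a', rfl⟩ := hsurj a
      obtain ⟨b', rfl⟩ := hsurj b
      rw [hzero]
      rfl
    have hunr : Algebra.FormallyUnramified E F := ⟨hsub⟩
    exact Algebra.FormallyUnramified.isSeparable E F

end Groth.Agent.S11082
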