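import Groth.Statements.S11083
import Mathlib
import Groth.Agent.Lib.Helper9.KaehlerFunField

set_option autoImplicit false
universe u v
open CAlg

namespace Groth.Agent.S11083

/-- Let k be an algebraically closed field, F a field extension of k which is finitely generated as a
field, and x a transcendence basis of F over k indexed by Fin d. Then the F-vector space of Kähler
differentials of F over k has F-rank exactly d: it is finite-dimensional of dimension the
transcendence degree. -/
theorem result (k : Type u) (F : Type v)
    [Field k] [IsAlgClosed k] [Field F] [Algebra k F] (hF : (⊤ : IntermediateField k F).FG)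
    (d : ℕ) (x : Fin d → F) (hx : IsTranscendenceBasis k x) :
    Module.rank F (Ω[F⁄k]) = d := by
  classical
  have hess : Algebra.EssFiniteType k F := IntermediateField.fg_top_iff.mp hF
  obtain ⟨s, hs1, hs2⟩ := exists_isTranscendenceBasis_and_isSeparable_of_perfectField k F
  have hrange : Set.range ((↑) : s → F) = (s : Set F) := Subtype.range_coe
  have key : ∀ E1 E2 : IntermediateField k F, E1 = E2 → Algebra.IsSeparable E1 F →
      Algebra.IsSeparable E2 F := by
    rintro E1 E2 rfl h
    exact h
  have hsep : Algebra.IsSeparable (IntermediateField.adjoin k (Set.range ((↑) : s → F))) F :=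
    key _ _ (congrArg (IntermediateField.adjoin k) hrange.symm) hs2
  obtain ⟨b, -⟩ := Groth.Agent.H9.KFF.exists_basis_of_isSeparable ((↑) : s → F) hs1.1
  rw [rank_eq_card_basis b]
  have hc := IsTranscendenceBasis.lift_cardinalMk_eq hx hs1
  simp only [Cardinal.mk_fin, Cardinal.lift_natCast, Cardinal.mk_coe_finset] at hc
  rw [Fintype.card_coe]
  exact hc.symm

end Groth.Agent.S11083
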