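import Groth.Statements.S11084
import Mathlib
import Groth.Agent.S11080

set_option autoImplicit false
universe u
open CAlg

namespace Groth.Agent.S11084

/-- Let k be a field and O a valuation subring of the field of rational functions k(x). Then O contains
the constants k and is different from k(x) if and only if O is the valuation ring of the P-adic
valuation at a nonzero prime P of the polynomial ring k[x], or O is the valuation ring of the
valuation at infinity (given by the degree). (The published statement has k algebraically closed, so
that these valuation rings correspond to the points of the projective line; the published proof does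
not use that k is algebraically closed. The published statement also asserts that distinct points
give distinct valuation rings, which this row does not state, and counts k(x) itself among the
valuation rings containing k; this row excludes it.) -/
theorem result (k : Type u) [Field k] [DecidableEq (RatFunc k)]
    (O : ValuationSubring (RatFunc k)) :
    ((algebraMap k (RatFunc k)).range ≤ O.toSubring ∧ O ≠ ⊤) ↔
      ((∃ v : IsDedekindDomain.HeightOneSpectrum (Polynomial k), O = (v.valuation (RatFunc k)).valuationSubring) ∨
        O = (RatFunc.inftyValuation k).valuationSubring) := by
  classical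
  constructor
  · rintro ⟨hk, hO⟩
    have hmem : ∀ c : k, algebraMap k (RatFunc k) c ∈ O := fun c => hk ⟨c, rfl⟩
    have htriv : O.valuation.IsTrivialOn k := ⟨fun a ha => by
      have h1' := (O.valuation_le_one_iff _).mpr (hmem a)
      have h2' := (O.valuation_le_one_iff _).mpr (hmem a⁻¹)
      have h3 : O.valuation (algebraMap k (RatFunc k) a) *
          O.valuation (algebraMap k (RatFunc k) a⁻¹) = 1 := by
        rw [← map_mul, ← map_mul, mul_inv_cancel₀ ha, map_one, map_one]
      exact eq_one_of_one_le_mul_left h1' h2' h3.ge⟩
    by_cases hX : RatFunc.X ∈ O
    · left
      have hle : O.valuation RatFunc.X ≤ 1 := (O.valuation_le_one_iff _).mpr hX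
      have hpoly : (algebraMap (Polynomial k) (RatFunc k)).range ≤ O.toSubring := by
        rintro _ ⟨p, rfl⟩
        exact (O.valuation_le_one_iff _).mp
          (Polynomial.valuation_le_one_of_valuation_X_le_one _ hle p)
      exact (Groth.Agent.S11080.result (Polynomial k) (RatFunc k) O).mp ⟨hpoly, hO⟩
    · right
      have hlt : 1 < O.valuation RatFunc.X := by
        rw [← not_le]
        exact fun h => hX ((O.valuation_le_one_iff _).mp h)
      have heq := RatFunc.valuation_isEquiv_inftyValuation_of_one_lt_valuation_X hlt
      rw [Valuation.isEquiv_iff_valuationSubring, O.valuationSubring_valuation] at heq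
      exact heq
  · rintro (⟨v, rfl⟩ | rfl)
    · have := (Groth.Agent.S11080.result (Polynomial k) (RatFunc k) _).mpr ⟨v, rfl⟩
      refine ⟨?_, this.2⟩
      rintro _ ⟨c, rfl⟩
      exact this.1 ⟨Polynomial.C c, by simp [RatFunc.algebraMap_C]⟩
    · refine ⟨?_, ?_⟩
      · rintro _ ⟨c, rfl⟩
        show algebraMap k (RatFunc k) c ∈ (RatFunc.inftyValuation k).valuationSubring
        rw [Valuation.mem_valuationSubring_iff]
        by_cases hc : c = 0
        · simp [hc]
        · rw [RatFunc.algebraMap_eq_C, RatFunc.inftyValuation.C k hc]
      · intro htop
        have hXtop : (RatFunc.X : RatFunc k) ∈ (⊤ : ValuationSubring (RatFunc k)) := trivial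
        rw [← htop, Valuation.mem_valuationSubring_iff, RatFunc.inftyValuation.X] at hXtop
        rw [← WithZero.exp_zero, WithZero.exp_le_exp] at hXtop
        omega

end Groth.Agent.S11084
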