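import Groth.Statements.S11085
import Groth.Agent.Lib.Helper9.Misc.ValFinA

set_option autoImplicit false
universe u
open CAlg

namespace Groth.Agent.S11085

/-- Let k be a field, A a finitely generated k-algebra which is an integral domain of Krull dimension
one (the coordinate ring of an affine curve), and F its field of fractions. Then the set of
valuation subrings of F which contain k but do not contain A is finite. (The published statement
speaks of all valuation rings of F different from F and not containing A, over an algebraically
closed k; valuation rings not containing k must be excluded — for k an algebraic closure of a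
rational function field in one variable t over a finite field and F = k(x), the t-adic valuation of
k has infinitely many extensions to F, none of whose rings contains A — and the published proof,
through the valuation at infinity of k(x), treats valuation rings containing k; it does not use that
k is algebraically closed.) -/
theorem result (k A F : Type u) [Field k]
    [CommRing A] [IsDomain A] [Algebra k A] [Algebra.FiniteType k A] (hA : ringKrullDim A = 1)
    [Field F] [Algebra A F] [IsFractionRing A F] [Algebra k F] [IsScalarTower k A F] :
    {O : ValuationSubring F | (algebraMap k F).range ≤ O.toSubring ∧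
        ¬ (algebraMap A F).range ≤ O.toSubring}.Finite := by
  classical
  obtain ⟨s, hs⟩ := (Algebra.FiniteType.out : (⊤ : Subalgebra k A).FG)
  have hfin : ∀ a : A, {O : ValuationSubring F | (algebraMap k F).range ≤ O.toSubring ∧
      algebraMap A F a ∉ O}.Finite := by
    intro a
    by_cases halg : IsAlgebraic k (algebraMap A F a)
    · convert Set.finite_empty
      ext O
      simp only [Set.mem_setOf_eq, Set.mem_empty_iff_false, iff_false, not_and, not_not]
      intro hk
      exact Groth.Agent.H9.ValFin.mem_of_isIntegral_of_le (R := k) O (fun r => hk ⟨r, rfl⟩) _
        halg.isIntegral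
    · have ht : Transcendental k (algebraMap A F a)⁻¹ := fun h => halg (by simpa using h.inv)
      have ht0 : (algebraMap A F a)⁻¹ ≠ 0 := fun h => ht (h ▸ isAlgebraic_zero)
      haveI := Groth.Agent.H9.ValFin.algebraic_finite k A F hA _ ht
      have h3 := Groth.Agent.H9.ValFin.finite_of_t k F (algebraMap A F a)⁻¹ ht0
      simpa only [inv_inv] using h3
  refine (Set.Finite.biUnion s.finite_toSet (fun a _ => hfin a)).subset ?_
  rintro O ⟨hk, hA'⟩
  have hex : ∃ a ∈ s, algebraMap A F a ∉ O := by
    by_contra hcon
    push_neg at hcon
    apply hA'
    rintro _ ⟨x, rfl⟩
    have hx : x ∈ Algebra.adjoin k (s : Set A) := by rw [hs]; trivial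
    refine Algebra.adjoin_induction (p := fun x _ => algebraMap A F x ∈ O) ?_ ?_ ?_ ?_ hx
    · intro y hy
      exact hcon y hy
    · intro r
      rw [← IsScalarTower.algebraMap_apply]
      exact hk ⟨r, rfl⟩
    · intro x y _ _ hx hy
      rw [map_add]
      exact O.add_mem _ _ hx hy
    · intro x y _ _ hx hy
      rw [map_mul]
      exact O.mul_mem _ _ hx hy
  obtain ⟨a, has, haO⟩ := hex
  exact Set.mem_biUnion (Finset.mem_coe.2 has) ⟨hk, haO⟩

end Groth.Agent.S11085
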