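import Groth.Statements.S11092
import Mathlib
import Groth.Agent.Lib.Helper9.KaehlerFunField

set_option autoImplicit false
universe u v
open CAlg

namespace Groth.Agent.S11092

/-- Let k be an algebraically closed field, K a field finitely generated over k admitting a one-element
transcendence basis over k (a function field of dimension one), and L a finite extension field of K
with the compatible k-algebra structure. Then the K-linear map from the Kähler differentials of K
over k to those of L over k induced by the inclusion is either the zero map or injective, and it is
injective if and only if L is separable over K. (The published statement takes K ⊆ L to be the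
function fields of two elliptic curves related by a nonzero homomorphism; its proof uses only that
they are function fields of dimension one over k.) -/
theorem result (k : Type u) (K L : Type v)
    [Field k] [IsAlgClosed k] [Field K] [Field L] [Algebra k K] [Algebra k L] [Algebra K L]
    [IsScalarTower k K L] (hK : (⊤ : IntermediateField k K).FG)
    (hx : ∃ x : K, IsTranscendenceBasis k (fun _ : Unit => x)) [FiniteDimensional K L] :
    (KaehlerDifferential.map k k K L = 0 ∨ Function.Injective (KaehlerDifferential.map k k K L)) ∧
      (Function.Injective (KaehlerDifferential.map k k K L) ↔ Algebra.IsSeparable K L) := by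
  classical
  have hessK : Algebra.EssFiniteType k K := IntermediateField.fg_top_iff.mp hK
  have hessL : Algebra.EssFiniteType k L := Algebra.EssFiniteType.comp k K L
  obtain ⟨x, hx⟩ := hx
  have hrK : Module.rank K (Ω[K⁄k]) = 1 := by
    rw [Groth.Agent.H9.KFF.rank_eq_trdeg]
    have := hx.lift_cardinalMk_eq_trdeg
    simpa using this.symm
  have hrL : Module.rank L (Ω[L⁄k]) = 1 := by
    rw [Groth.Agent.H9.KFF.rank_eq_trdeg, ← trdeg_add_eq k K (A := L),
      trdeg_eq_zero (R := K) (A := L), add_zero]
    have := hx.lift_cardinalMk_eq_trdeg
    simpa using this.symm
  have hfK : Module.finrank K (Ω[K⁄k]) = 1 := Module.finrank_eq_of_rank_eq hrK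
  have hfL : Module.finrank L (Ω[L⁄k]) = 1 := Module.finrank_eq_of_rank_eq hrL
  obtain ⟨ω, hω0, hω⟩ := finrank_eq_one_iff'.mp hfK
  set f := KaehlerDifferential.map k k K L with hf
  have hsmul : ∀ (c : K) (z : Ω[L⁄k]), c • z = algebraMap K L c • z :=
    fun c z => (algebraMap_smul L c z).symm
  have hzero : f ω = 0 → f = 0 := by
    intro h
    refine LinearMap.ext fun w => ?_
    obtain ⟨c, rfl⟩ := hω w
    rw [map_smul, h, smul_zero, LinearMap.zero_apply]
  have hinj : f ω ≠ 0 → Function.Injective f := by
    intro h
    rw [injective_iff_map_eq_zero]
    intro w hw
    obtain ⟨c, rfl⟩ := hω w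
    rw [map_smul, hsmul, smul_eq_zero] at hw
    rcases hw with hc | hc
    · have : c = 0 := (algebraMap K L).injective (by rw [hc, map_zero])
      rw [this, zero_smul]
    · exact absurd hc h
  refine ⟨?_, ?_⟩
  · by_cases h : f ω = 0
    · exact Or.inl (hzero h)
    · exact Or.inr (hinj h)
  · constructor
    · intro hi
      have hη : f ω ≠ 0 := fun h => hω0 (hi (by rw [h, map_zero]))
      have hspan := (finrank_eq_one_iff_of_nonzero' (f ω) hη).mp hfL
      have hcomp : ∀ w : Ω[K⁄k], KaehlerDifferential.map k K L L (f w) = 0 := by
        intro w
        have hw : w ∈ Submodule.span K (Set.range (KaehlerDifferential.D k K)) := by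
          rw [KaehlerDifferential.span_range_derivation]; trivial
        induction hw using Submodule.span_induction with
        | mem w hw =>
          obtain ⟨a, rfl⟩ := hw
          rw [hf, KaehlerDifferential.map_D, KaehlerDifferential.map_D]
          simp only [Algebra.algebraMap_self, RingHom.id_apply]
          exact (KaehlerDifferential.D K L).map_algebraMap a
        | zero => simp
        | add a b _ _ ha hb => rw [map_add, map_add, ha, hb, add_zero]
        | smul c a _ ha => rw [map_smul, hsmul, map_smul, ha, smul_zero]
      have hsub : Subsingleton (Ω[L⁄K]) := by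
        constructor
        intro a b
        obtain ⟨a', rfl⟩ := KaehlerDifferential.map_surjective k K L a
        obtain ⟨b', rfl⟩ := KaehlerDifferential.map_surjective k K L b
        obtain ⟨ca, rfl⟩ := hspan a'
        obtain ⟨cb, rfl⟩ := hspan b'
        rw [map_smul, map_smul, hcomp, smul_zero, smul_zero]
      have : Algebra.FormallyUnramified K L := ⟨hsub⟩
      exact Algebra.FormallyUnramified.isSeparable K L
    · intro hsep
      have : Algebra.FormallyEtale K L := Algebra.FormallyEtale.of_isSeparable K L
      let e := KaehlerDifferential.tensorKaehlerEquivOfFormallyEtale k K L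
      have h1 : ∀ w, f w = e ((1 : L) ⊗ₜ[K] w) := by
        intro w
        simp [e, hf, KaehlerDifferential.mapBaseChange_tmul]
      intro a b hab
      rw [h1, h1] at hab
      have := e.injective hab
      exact Module.FaithfullyFlat.tensorProduct_mk_injective (A := K) (B := L) (Ω[K⁄k]) this

end Groth.Agent.S11092
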