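import Groth.Statements.S11093
import Groth.Agent.Lib.Helper9.Misc.ASchA
import Groth.Agent.Lib.Helper9.Misc.ASchB
import Groth.Agent.Lib.Helper9.Misc.ASchC

set_option autoImplicit false
universe u
attribute [local instance] FractionRing.liftAlgebra
open CAlg

namespace Groth.Agent.S11093

/-- Second assertion: (Artin–Schreier normal form): let K be a perfect field of characteristic p > 0, A
= K[[t]] the power series ring with fraction field F, and B a Dedekind domain which is a finite
torsion-free A-algebra whose fraction field E is Galois of degree p over F and totally ramified: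
some maximal ideal of B has ramification index p over A. Then there are x in E generating E over F
and α in F with x^p − x + α = 0, where α = a / t^m for a power series a with nonzero constant term
and a positive integer m not divisible by p. -/
theorem result (p : ℕ) [Fact p.Prime] (K : Type u) [Field K]
    [CharP K p] [PerfectField K] (B : Type u) [CommRing B] [IsDedekindDomain B]
    [Algebra (PowerSeries K) B] [Module.Finite (PowerSeries K) B] [Module.IsTorsionFree (PowerSeries K) B]
    [IsGalois (FractionRing (PowerSeries K)) (FractionRing B)]
    (hdeg : Module.finrank (FractionRing (PowerSeries K)) (FractionRing B) = p)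
    (M : Ideal B) [M.IsMaximal] (hram : M.ramificationIdx (PowerSeries K) = p) :
    ∃ x : FractionRing B, ∃ m : ℕ, ∃ a : PowerSeries K,
      IntermediateField.adjoin (FractionRing (PowerSeries K)) {x} = ⊤ ∧ 0 < m ∧ ¬ p ∣ m ∧
      PowerSeries.constantCoeff a ≠ 0 ∧
      x ^ p - x + algebraMap (FractionRing (PowerSeries K)) (FractionRing B)
        (algebraMap (PowerSeries K) (FractionRing (PowerSeries K)) a /
          algebraMap (PowerSeries K) (FractionRing (PowerSeries K)) (PowerSeries.X ^ m)) = 0 := by
  haveI : CharP (FractionRing (PowerSeries K)) p :=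
    charP_of_injective_ringHom ((algebraMap (PowerSeries K)
      (FractionRing (PowerSeries K))).comp (PowerSeries.C (R := K))).injective p
  haveI : CharP (FractionRing B) p :=
    charP_of_injective_algebraMap
      (algebraMap (FractionRing (PowerSeries K)) (FractionRing B)).injective p
  obtain ⟨x₀, β₀, hgen, hx₀⟩ := Groth.Agent.H9.ASch.exists_as_gen p
    (FractionRing (PowerSeries K)) (FractionRing B) hdeg
  obtain ⟨y, hy⟩ := Groth.Agent.H9.ASch.pole_reduce p K
    (F := FractionRing (PowerSeries K)) (-β₀)
  have hxeq : ∀ γ : FractionRing (PowerSeries K), -β₀ + y ^ p - y = γ →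
      (x₀ - algebraMap (FractionRing (PowerSeries K)) (FractionRing B) y) ^ p -
        (x₀ - algebraMap (FractionRing (PowerSeries K)) (FractionRing B) y) +
        algebraMap (FractionRing (PowerSeries K)) (FractionRing B) γ = 0 := by
    intro γ hγ
    rw [← hγ, sub_pow_char, map_sub, map_add, map_neg, map_pow, ← hx₀]
    ring
  have hgen' : IntermediateField.adjoin (FractionRing (PowerSeries K))
      {x₀ - algebraMap (FractionRing (PowerSeries K)) (FractionRing B) y} = ⊤ := by
    rw [eq_top_iff, ← hgen, IntermediateField.adjoin_simple_le_iff]
    have h1 := (IntermediateField.adjoin (FractionRing (PowerSeries K))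
      {x₀ - algebraMap (FractionRing (PowerSeries K)) (FractionRing B) y}).add_mem
      (IntermediateField.mem_adjoin_simple_self _ _) (IntermediateField.algebraMap_mem _ y)
    rwa [sub_add_cancel] at h1
  rcases hy with ⟨b, hb⟩ | ⟨m, a, hm, hpm, ha, hma⟩
  · exfalso
    exact Groth.Agent.H9.ASch.no_integral_case p (PowerSeries K)
      (by rw [← map_natCast (PowerSeries.C (R := K)), CharP.cast_eq_zero, map_zero])
      B hdeg M hram _ hgen' b (hxeq _ hb)
  · exact ⟨_, m, a, hgen', hm, hpm, ha, hxeq _ hma⟩

end Groth.Agent.S11093
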