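import Groth.Statements.S11096
import Mathlib

set_option autoImplicit false
universe u
open Neron

namespace Groth.Agent.S11096

/-- Let a Weierstrass equation have coefficients in a commutative ring R and let I be an ideal with a₃,
a₄, a₆ ∈ I. If the discriminant Δ does not lie in I ^ 2, then a₆ does not lie in I ^ 2 and b₂ does
not lie in I. (For a discrete valuation ring with maximal ideal (π): if π divides a₃, a₄, a₆ and
v(Δ) = 1, then v(a₆) = 1 and π does not divide b₂.) -/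
theorem result {R : Type u} [CommRing R] (W : WeierstrassCurve R)
    (I : Ideal R) (h3 : W.a₃ ∈ I) (h4 : W.a₄ ∈ I) (h6 : W.a₆ ∈ I) (hΔ : W.Δ ∉ I ^ 2) :
    W.a₆ ∉ I ^ 2 ∧ W.b₂ ∉ I := by
  have hb4 : W.b₄ ∈ I := by
    rw [WeierstrassCurve.b₄]
    exact I.add_mem (I.mul_mem_left _ h4) (I.mul_mem_left _ h3)
  have hb6 : W.b₆ ∈ I := by
    rw [WeierstrassCurve.b₆]
    exact I.add_mem (by rw [sq]; exact I.mul_mem_left _ h3) (I.mul_mem_left _ h6)
  have key : W.Δ + W.b₂ ^ 3 * W.a₆ ∈ I ^ 2 := by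
    have h : W.Δ + W.b₂ ^ 3 * W.a₆ =
        W.a₃ * W.a₄ * (W.b₂ ^ 2 * W.a₁) + W.a₃ * W.a₃ * (-(W.b₂ ^ 2 * W.a₂)) +
          W.a₄ * W.a₄ * W.b₂ ^ 2 + W.b₄ * W.b₄ * (-8 * W.b₄) + W.b₆ * W.b₆ * (-27) +
          W.b₄ * W.b₆ * (9 * W.b₂) := by
      simp only [WeierstrassCurve.Δ, WeierstrassCurve.b₂, WeierstrassCurve.b₄,
        WeierstrassCurve.b₆, WeierstrassCurve.b₈]
      ring
    rw [h, sq]
    refine Ideal.add_mem _ (Ideal.add_mem _ (Ideal.add_mem _ (Ideal.add_mem _ (Ideal.add_mem _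
      ?_ ?_) ?_) ?_) ?_) ?_
    · exact Ideal.mul_mem_right _ _ (Ideal.mul_mem_mul h3 h4)
    · exact Ideal.mul_mem_right _ _ (Ideal.mul_mem_mul h3 h3)
    · exact Ideal.mul_mem_right _ _ (Ideal.mul_mem_mul h4 h4)
    · exact Ideal.mul_mem_right _ _ (Ideal.mul_mem_mul hb4 hb4)
    · exact Ideal.mul_mem_right _ _ (Ideal.mul_mem_mul hb6 hb6)
    · exact Ideal.mul_mem_right _ _ (Ideal.mul_mem_mul hb4 hb6)
  constructor
  · intro h
    apply hΔ
    have : W.Δ = (W.Δ + W.b₂ ^ 3 * W.a₆) - W.b₂ ^ 3 * W.a₆ := by ring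
    rw [this]
    exact Ideal.sub_mem _ key (Ideal.mul_mem_left _ _ h)
  · intro h
    apply hΔ
    have : W.Δ = (W.Δ + W.b₂ ^ 3 * W.a₆) - W.b₂ * W.a₆ * W.b₂ ^ 2 := by ring
    rw [this]
    refine Ideal.sub_mem _ key ?_
    rw [sq I]
    exact Ideal.mul_mem_right _ _ (Ideal.mul_mem_mul h h6)

end Groth.Agent.S11096
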