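import Groth.Statements.S11098
import Mathlib

set_option autoImplicit false
universe u
open CategoryTheory CategoryTheory.Limits AlgebraicGeometry
open Neron

namespace Groth.Agent.S11098

namespace H1.S11098aux

theorem main (R : Type u) [CommRing R] [IsDedekindDomain R]
    (A : Over (Spec (CommRingCat.of (FractionRing R))))
    (N₁ N₂ : Over (Spec (CommRingCat.of R)))
    (e₁ : (Neron.genericFibre R).obj N₁ ≅ A) (e₂ : (Neron.genericFibre R).obj N₂ ≅ A)
    (h₁ : Neron.IsNeronModelOf R N₁ A e₁) (h₂ : Neron.IsNeronModelOf R N₂ A e₂) :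
    (∃! ψ : N₁ ⟶ N₂, (Neron.genericFibre R).map ψ ≫ e₂.hom = e₁.hom) ∧
      ∀ ψ : N₁ ⟶ N₂, (Neron.genericFibre R).map ψ ≫ e₂.hom = e₁.hom → IsIso ψ := by
  obtain ⟨hs1, -, -, -, hb1⟩ := h₁
  obtain ⟨hs2, -, -, -, hb2⟩ := h₂
  have b12 := hb2 N₁ hs1
  have b21 := hb1 N₂ hs2
  have b11 := hb1 N₁ hs1
  have b22 := hb2 N₂ hs2
  refine ⟨?_, ?_⟩
  · obtain ⟨ψ, hψ⟩ := b12.2 e₁.hom
    refine ⟨ψ, hψ, ?_⟩
    intro ψ' hψ'
    have hψ2 : (Neron.genericFibre R).map ψ ≫ e₂.hom = e₁.hom := hψ
    exact b12.1 (by simp only; rw [hψ', hψ2])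
  · intro ψ hψ
    obtain ⟨ψ', hψ'⟩ := b21.2 e₂.hom
    simp only at hψ'
    refine ⟨ψ', ?_, ?_⟩
    · apply b11.1
      simp only [Functor.map_comp, Category.assoc, hψ', hψ]
      rw [CategoryTheory.Functor.map_id, Category.id_comp]
    · apply b22.1
      simp only [Functor.map_comp, Category.assoc, hψ', hψ]
      rw [CategoryTheory.Functor.map_id, Category.id_comp]

end H1.S11098aux

/-- Take a Dedekind domain R, write K for its fraction field, and suppose N₁, N₂ are Néron models over
Spec R of the same K-scheme A, through identifications e₁, e₂ of their generic fibres with A. Then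
there is a unique R-morphism N₁ → N₂ whose restriction to generic fibres is compatible with e₁ and
e₂, and any such morphism is an isomorphism: the Néron model is unique up to unique isomorphism.
(The published statement concerns Néron models of an elliptic curve, with the mapping property asked
for rational maps; this row allows any K-scheme A and uses the mapping property for morphisms from
smooth R-schemes.) -/
theorem result (R : Type u) [CommRing R] [IsDedekindDomain R]
    (A : Over (Spec (CommRingCat.of (FractionRing R))))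
    (N₁ N₂ : Over (Spec (CommRingCat.of R)))
    (e₁ : (Neron.genericFibre R).obj N₁ ≅ A) (e₂ : (Neron.genericFibre R).obj N₂ ≅ A)
    (h₁ : Neron.IsNeronModelOf R N₁ A e₁) (h₂ : Neron.IsNeronModelOf R N₂ A e₂) :
    (∃! ψ : N₁ ⟶ N₂, (Neron.genericFibre R).map ψ ≫ e₂.hom = e₁.hom) ∧
      ∀ ψ : N₁ ⟶ N₂, (Neron.genericFibre R).map ψ ≫ e₂.hom = e₁.hom → IsIso ψ := by
  exact H1.S11098aux.main R A N₁ N₂ e₁ e₂ h₁ h₂

end Groth.Agent.S11098
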