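import Groth.Statements.S1110
import Groth.Agent.Lib.Lead.QC.TorsionFreeCover
import Groth.Agent.Lib.Lead.QC.PullInv
import Groth.Agent.Lib.Lead.QC.Push
import Groth.Agent.Lib.Lead.QC.Pullback
import Groth.Agent.Lib.Lead.QC.LocFree

set_option autoImplicit false
universe u
open CategoryTheory AlgebraicGeometry
open Perf

namespace Groth.Agent.S1110

/-- For an affine morphism f : X ⟶ Y over a quasi-compact, quasi-separated Y, the resolution property
passes from Y up to X. (The source also treats quasi-affine f.) -/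
theorem result {X Y : Scheme.{u}} (f : X ⟶ Y) [IsAffineHom f] [CompactSpace ↥Y] [QuasiSeparatedSpace ↥Y]
    (hY : PerfAux.HasResolutionProperty Y) : PerfAux.HasResolutionProperty X := by
  classical
  intro M hMq hMft
  haveI : M.IsQuasicoherent := hMq
  haveI hPq : ((Scheme.Modules.pushforward f).obj M).IsQuasicoherent :=
    Groth.Agent.LD.QC.qc_pushforward f M
  obtain ⟨t, ht, e⟩ := (isCompact_and_isOpen_iff_finite_and_eq_biUnion_affineOpens
    (X := Y) (U := Set.univ)).mp ⟨isCompact_univ, isOpen_univ⟩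
  have hgen : ∀ V : Y.affineOpens, ∃ S : Finset Γ(M, f ⁻¹ᵁ V.1),
      Submodule.span Γ(X, f ⁻¹ᵁ V.1) (S : Set Γ(M, f ⁻¹ᵁ V.1)) = ⊤ := by
    intro V
    haveI := Groth.Agent.LD.QC.finite_sections_of_isFiniteType M hMft (V.2.preimage f)
    exact Module.Finite.fg_top
  choose S hS using hgen
  obtain ⟨N, u, hu, hNq, hNft, hmem⟩ := Groth.Agent.LD.QC.exists_sub_finiteType_of_sections
    ((Scheme.Modules.pushforward f).obj M)
    (ι := Σ V : Y.affineOpens, Γ(M, f ⁻¹ᵁ V.1)) (ht.toFinset.sigma S) (fun p => p.1)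
    (fun p => (show Γ((Scheme.Modules.pushforward f).obj M, p.1.1) from p.2))
  obtain ⟨E, π, hE, hπ⟩ := hY N hNq hNft
  haveI := hπ
  haveI hEq : E.IsQuasicoherent := Groth.Agent.LD.QC.qc_of_isFinLocFree E hE
  haveI := hNq
  haveI : ((Scheme.Modules.pullback f).obj E).IsQuasicoherent :=
    Groth.Agent.LD.QC.qc_pullback f E
  refine ⟨(Scheme.Modules.pullback f).obj E,
    ((Scheme.Modules.pullbackPushforwardAdjunction f).homEquiv E M).symm (π ≫ u),
    Groth.Agent.LD.QC.isFinLocFree_pullback f E hE, ?_⟩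
  apply Groth.Agent.H5.Lim.epi_of_surjective_affine_cover
  intro x
  have hx : f x ∈ (Set.univ : Set Y) := trivial
  rw [e] at hx
  obtain ⟨V, hV, hxV⟩ := Set.mem_iUnion₂.mp hx
  refine ⟨f ⁻¹ᵁ V.1, V.2.preimage f, hxV, ?_⟩
  obtain ⟨ψ, hψ⟩ : ∃ ψ, ψ = ((Scheme.Modules.pullbackPushforwardAdjunction f).homEquiv E M).symm
    (π ≫ u) := ⟨_, rfl⟩
  rw [← hψ]
  have hrange : LinearMap.range (Groth.Agent.LD.QC.appLinear ψ (f ⁻¹ᵁ V.1)) = ⊤ := by
    rw [eq_top_iff, ← hS V, Submodule.span_le]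
    intro m hm
    obtain ⟨g, hg⟩ := hmem ⟨V, m⟩
      (Finset.mem_sigma.mpr ⟨ht.mem_toFinset.mpr hV, Finset.mem_coe.mp hm⟩)
    obtain ⟨e', he'⟩ := Groth.Agent.LD.QC.epi_app_affine hEq hNq π V.2 g
    refine ⟨Groth.Agent.LD.QC.unitSec f E V.1 e', ?_⟩
    have e1 : Groth.Agent.LD.QC.appLinear ψ (f ⁻¹ᵁ V.1) (Groth.Agent.LD.QC.unitSec f E V.1 e') =
      ψ.app (f ⁻¹ᵁ V.1) (Groth.Agent.LD.QC.unitSec f E V.1 e') := rfl
    have e2 := Groth.Agent.LD.QC.homEquiv_symm_unitSec (g := f) (π ≫ u) V.1 e'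
    rw [← hψ] at e2
    rw [e1]
    refine e2.trans ?_
    change u.app V.1 (π.app V.1 e') = m
    rw [he']
    exact hg
  intro m
  obtain ⟨g, hg⟩ := (LinearMap.range_eq_top.mp hrange) m
  exact ⟨g, hg⟩

end Groth.Agent.S1110
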