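import Groth.Statements.S11124
import Groth.Agent.Lib.Helper7.LR11
import Groth.Agent.Lib.Helper6.RpRes1
import Groth.Agent.Lib.Lead.QCQS.BaseChange
-- import your own Groth.Agent.* helpers here

set_option autoImplicit false
universe u
open CategoryTheory CategoryTheory.Limits AlgebraicGeometry
attribute [local instance] HasDerivedCategory.standard
open Perf

namespace Groth.Agent.S11124

/-- Let f : X ⟶ Y be a morphism of schemes, B a K-injective cochain complex of O_X-modules and U an open
subset of Y, and assume the unbounded derived functor of global sections on U exists. Then the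
termwise direct image f_*B, restricted to U, is acyclic for global sections: the canonical map Γ(U,
f_*B) ⟶ RΓ(U, (f_*B)|_U) in D(Ab), the unit of the total right derived functor at this complex, is
an isomorphism. (The published statement is for ringed spaces; this row is the case of schemes.) -/
theorem result {X Y : Scheme.{u}} (f : X ⟶ Y) (B : CochainComplex X.Modules ℤ)
    [B.IsKInjective] (U : Y.Opens) [DCoh.HasRΓ (U : Scheme.{u})] :
    IsIso (((DCoh.gammaKh (U : Scheme.{u})).totalRightDerivedUnit DerivedCategory.Qh
      (HomotopyCategory.quasiIso (U : Scheme.{u}).Modules (ComplexShape.up ℤ))).app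
      ((HomotopyCategory.quotient (U : Scheme.{u}).Modules (ComplexShape.up ℤ)).obj
        ((DCoh.restrictCx U).obj (((Scheme.Modules.pushforward f).mapHomologicalComplex (ComplexShape.up ℤ)).obj B)))) := by
  haveI := Groth.Agent.H6.RpRes.isKInjective_restrict (f ⁻¹ᵁ U).ι B
  have h := Groth.Agent.Helper7.LR11.isIso_unit_gamma_push (f ∣_ U)
    (((Scheme.Modules.restrictFunctor (f ⁻¹ᵁ U).ι).mapHomologicalComplex (ComplexShape.up ℤ)).obj B)
  let e : (DCoh.restrictCx U).obj
      (((Scheme.Modules.pushforward f).mapHomologicalComplex (ComplexShape.up ℤ)).obj B) ≅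
      ((Scheme.Modules.pushforward (f ∣_ U)).mapHomologicalComplex (ComplexShape.up ℤ)).obj
        (((Scheme.Modules.restrictFunctor (f ⁻¹ᵁ U).ι).mapHomologicalComplex
          (ComplexShape.up ℤ)).obj B) :=
    (Functor.mapHomologicalComplexCompIso (Groth.Agent.LD.QCQS.baseChangeIso f U)
      (ComplexShape.up ℤ)).app B ≪≫
    ((Functor.mapHomologicalComplexCompIso
      (Iso.refl (Scheme.Modules.restrictFunctor (f ⁻¹ᵁ U).ι ⋙
        Scheme.Modules.pushforward (f ∣_ U))) (ComplexShape.up ℤ)).app B).symm
  have hn := ((DCoh.gammaKh (U : Scheme.{u})).totalRightDerivedUnit DerivedCategory.Qh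
      (HomotopyCategory.quasiIso (U : Scheme.{u}).Modules (ComplexShape.up ℤ))).naturality
    ((HomotopyCategory.quotient (U : Scheme.{u}).Modules (ComplexShape.up ℤ)).map e.hom)
  haveI : IsIso (((DCoh.gammaKh (U : Scheme.{u})).totalRightDerivedUnit DerivedCategory.Qh
      (HomotopyCategory.quasiIso (U : Scheme.{u}).Modules (ComplexShape.up ℤ))).app
      ((HomotopyCategory.quotient (U : Scheme.{u}).Modules (ComplexShape.up ℤ)).obj
        (((Scheme.Modules.pushforward (f ∣_ U)).mapHomologicalComplex (ComplexShape.up ℤ)).obj
          (((Scheme.Modules.restrictFunctor (f ⁻¹ᵁ U).ι).mapHomologicalComplex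
            (ComplexShape.up ℤ)).obj B)))) := h
  have h2 : ((DCoh.gammaKh (U : Scheme.{u})).totalRightDerivedUnit DerivedCategory.Qh
      (HomotopyCategory.quasiIso (U : Scheme.{u}).Modules (ComplexShape.up ℤ))).app
      ((HomotopyCategory.quotient (U : Scheme.{u}).Modules (ComplexShape.up ℤ)).obj
        ((DCoh.restrictCx U).obj
          (((Scheme.Modules.pushforward f).mapHomologicalComplex (ComplexShape.up ℤ)).obj B))) =
      (DCoh.gammaKh (U : Scheme.{u})).map
        ((HomotopyCategory.quotient (U : Scheme.{u}).Modules (ComplexShape.up ℤ)).map e.hom) ≫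
      ((DCoh.gammaKh (U : Scheme.{u})).totalRightDerivedUnit DerivedCategory.Qh
      (HomotopyCategory.quasiIso (U : Scheme.{u}).Modules (ComplexShape.up ℤ))).app
      ((HomotopyCategory.quotient (U : Scheme.{u}).Modules (ComplexShape.up ℤ)).obj
        (((Scheme.Modules.pushforward (f ∣_ U)).mapHomologicalComplex (ComplexShape.up ℤ)).obj
          (((Scheme.Modules.restrictFunctor (f ⁻¹ᵁ U).ι).mapHomologicalComplex
            (ComplexShape.up ℤ)).obj B))) ≫
      inv ((DerivedCategory.Qh ⋙ DCoh.RΓ (U : Scheme.{u})).map
        ((HomotopyCategory.quotient (U : Scheme.{u}).Modules (ComplexShape.up ℤ)).map e.hom)) := by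
    rw [← Category.assoc, hn, Category.assoc, IsIso.hom_inv_id, Category.comp_id]
  rw [h2]
  infer_instance

end Groth.Agent.S11124
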