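import Groth.Statements.S11128
import Groth.Agent.Lib.Helper2.Gab3

set_option autoImplicit false
universe w u₁ u₂
open CategoryTheory CategoryTheory.Limits
open CohDer

namespace Groth.Agent.S11128

/-- Suppose A is an abelian category that has small hom-sets and all small colimits, B is a Grothendieck
abelian category, and F : A ⥤ B is a faithful exact functor with a right adjoint G preserving
filtered colimits. Then A is a Grothendieck abelian category. -/
theorem result
    {A : Type u₁} [Category.{w} A] [Abelian A] [HasColimitsOfSize.{w, w} A]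
    {B : Type u₂} [Category.{w} B] [Abelian B] [IsGrothendieckAbelian.{w} B]
    (F : A ⥤ B) (G : B ⥤ A) (adj : F ⊣ G) [F.Additive] [F.Faithful]
    [PreservesFiniteLimits F] [PreservesFiniteColimits F] [PreservesFilteredColimitsOfSize.{w, w} G] :
    IsGrothendieckAbelian.{w} A := by
  let s : PUnit.{w + 1} → B := fun _ => separator B
  have hsep : ∀ ⦃X Y : B⦄ (f g : X ⟶ Y),
      (∀ (i : PUnit.{w + 1}) (h : s i ⟶ X), h ≫ f = h ≫ g) → f = g :=
    fun X Y f g h => (isSeparator_separator B).def _ _ (fun h' => h ⟨⟩ h')
  haveI := H2.Gab.essentiallySmall_fg s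
  obtain ⟨κ, t, -, ht⟩ := H2.Gab.exists_small_separating F G adj s hsep (H2.Gab.good_fg s)
  haveI := H2.Gab.ab5 F G adj
  have hS : ObjectProperty.IsSeparating (.ofObj t) := by
    intro X Y f g H
    apply ht
    intro k h
    exact H _ ⟨k⟩ h
  have : HasSeparator A := ⟨∐ t, (isSeparator_sigma t).2 hS⟩
  exact {}

end Groth.Agent.S11128
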