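import Groth.Statements.S11129
import Groth.Agent.Lib.Lead.MV.QCohNoeth

set_option autoImplicit false
universe u
open CategoryTheory AlgebraicGeometry
open QCohCat

namespace Groth.Agent.S11129

/-- For a noetherian scheme Y, an object M of the category QCoh(O_Y) of quasi-coherent O_Y-modules (a
full subcategory of all O_Y-modules) is a noetherian object of that category if and only if M is
coherent (quasi-coherent of finite type). (The published statement also records that QCoh(O_Y) is a
locally noetherian category; only the characterisation of its noetherian objects is stated here.) -/
theorem result (Y : Scheme.{u}) [IsNoetherian Y] (M : QCohCat.QCoh Y) :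
    IsNoetherianObject M ↔ Coh.IsCoh M.obj := by
  constructor
  · intro h
    haveI := h
    exact And.intro M.property (Groth.Agent.LD.QCohNoeth.isFiniteType_of_isNoetherianObject M)
  · rintro ⟨-, hft⟩
    exact Groth.Agent.LD.QCohNoeth.isNoetherianObject_of_isCoh M hft

end Groth.Agent.S11129
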