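import Groth.Statements.S16001
-- import your own Groth.Agent.* helpers here

set_option autoImplicit false
universe u
open FrobAlg

namespace Groth.Agent.S16001

open scoped TensorProduct

theorem relFrob_tmul (p : ℕ) [Fact p.Prime] (A : Type u) [CommRing A] [CharP A p]
    (B : Type u) [CommRing B] [Algebra A B] [CharP B p] (b : B) (s : FrobAlg.Twist p A) :
    FrobAlg.relFrob p A B (b ⊗ₜ s) = b ^ p * algebraMap A B ((FrobAlg.toTwist p A).symm s) := by
  simp [FrobAlg.relFrob, FrobAlg.frobHom, FrobAlg.inclHom, Algebra.TensorProduct.lift_tmul]
  rfl


/-- Let A be a commutative ring of prime characteristic p and B a commutative A-algebra of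
characteristic p such that the relative Frobenius B ⊗_{A,Frob} A → B, b ⊗ a ↦ b^p a, is bijective
(that is, Spec B → Spec A is relatively perfect; no finiteness condition is imposed). Then B is
formally étale over A. (The source proves that every perfect algebraic stack over an algebraic space
of characteristic p is formally étale over it; this is the case of an affine scheme over an affine
base.) -/
theorem result (p : ℕ) [Fact p.Prime] (A : Type u) [CommRing A] [CharP A p]
    (B : Type u) [CommRing B] [Algebra A B] [CharP B p]
    (h : Function.Bijective (FrobAlg.relFrob p A B)) : Algebra.FormallyEtale A B := by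
  rw [Algebra.FormallyEtale.iff_comp_bijective]
  intro C _ _ I hI
  have hp : p.Prime := Fact.out
  rcases subsingleton_or_nontrivial C with hC | hC
  · constructor
    · intro f g _
      ext b
      exact Subsingleton.elim _ _
    · intro g
      refine ⟨⟨⟨⟨⟨fun _ => 0, Subsingleton.elim _ _⟩, fun _ _ => Subsingleton.elim _ _⟩,
        Subsingleton.elim _ _, fun _ _ => Subsingleton.elim _ _⟩, fun _ => Subsingleton.elim _ _⟩, ?_⟩
      ext b
      exact Subsingleton.elim _ _
  · have hpC : (p : C) = 0 := by
      calc (p : C) = algebraMap A C (p : A) := (map_natCast (algebraMap A C) p).symm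
        _ = 0 := by rw [CharP.cast_eq_zero A p, map_zero]
    have : CharP C p := (CharP.charP_iff_prime_eq_zero hp).mpr hpC
    have hF : ∀ x ∈ I, frobenius C p x = 0 := by
      intro x hx
      rw [frobenius_def]
      have h2 : x ^ 2 ∈ I ^ 2 := Ideal.pow_mem_pow hx 2
      rw [hI] at h2
      have h2' : x ^ 2 = 0 := h2
      have : p = 2 + (p - 2) := by have := hp.two_le; omega
      rw [this, pow_add, h2', zero_mul]
    let φ : C ⧸ I →+* C := Ideal.Quotient.lift I (frobenius C p) hF
    have hφ : ∀ c : C, φ (Ideal.Quotient.mk I c) = c ^ p := fun c => by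
      simp [φ, frobenius_def]
    have hφ' : ∀ x : C ⧸ I, Ideal.Quotient.mk I (φ x) = x ^ p := by
      intro x
      obtain ⟨c, rfl⟩ := Ideal.Quotient.mk_surjective x
      rw [hφ, map_pow]
    constructor
    · intro h1 h2 h12
      have key : ∀ b : B, h1 b ^ p = h2 b ^ p := by
        intro b
        have := congrArg (fun f : B →ₐ[A] C ⧸ I => φ (f b)) h12
        simpa [hφ] using this
      ext b
      obtain ⟨z, rfl⟩ := h.2 b
      induction z using TensorProduct.induction_on with
      | zero => simp
      | tmul b s => rw [relFrob_tmul, map_mul, map_mul, map_pow, map_pow, key, AlgHom.commutes, AlgHom.commutes]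
      | add z z' hz hz' => rw [map_add, map_add, map_add, hz, hz']
    · intro g
      let β : B →ₐ[A] FrobAlg.Target p A C :=
        { toRingHom := ((FrobAlg.toTarget p A C : C →+* FrobAlg.Target p A C).comp φ).comp g.toRingHom
          commutes' := by
            intro a
            change FrobAlg.toTarget p A C (φ (g (algebraMap A B a))) = _
            rw [AlgHom.commutes, FrobAlg.algebraMap_target]
            exact congrArg (FrobAlg.toTarget p A C) (hφ _) }
      let ψ : FrobAlg.BaseChange p A B →+* C :=
        ((FrobAlg.toTarget p A C).symm : FrobAlg.Target p A C →+* C).comp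
          (Algebra.TensorProduct.lift β (FrobAlg.inclHom p A C) (fun _ _ => Commute.all _ _)).toRingHom
      have hψ : ∀ (b : B) (s : FrobAlg.Twist p A),
          ψ (b ⊗ₜ s) = φ (g b) * algebraMap A C ((FrobAlg.toTwist p A).symm s) := by
        intro b s
        simp [ψ, β, FrobAlg.inclHom, Algebra.TensorProduct.lift_tmul]
      let e : FrobAlg.BaseChange p A B ≃+* B := RingEquiv.ofBijective (FrobAlg.relFrob p A B) h
      have hcomm : ∀ a : A, (ψ.comp (e.symm : B →+* FrobAlg.BaseChange p A B)) (algebraMap A B a) = algebraMap A C a := by
        intro a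
        have : e.symm (algebraMap A B a) = (1 : B) ⊗ₜ FrobAlg.toTwist p A a := by
          apply e.injective
          rw [RingEquiv.apply_symm_apply]
          change _ = FrobAlg.relFrob p A B ((1 : B) ⊗ₜ FrobAlg.toTwist p A a)
          rw [relFrob_tmul]
          simp
        change ψ (e.symm (algebraMap A B a)) = _
        rw [this, hψ]
        simp
      refine ⟨{ toRingHom := ψ.comp (e.symm : B →+* FrobAlg.BaseChange p A B), commutes' := hcomm }, ?_⟩
      ext b
      obtain ⟨z, rfl⟩ := h.2 b
      change Ideal.Quotient.mk I (ψ (e.symm (e z))) = g (e z)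
      rw [RingEquiv.symm_apply_apply]
      change _ = g (FrobAlg.relFrob p A B z)
      induction z using TensorProduct.induction_on with
      | zero => simp
      | tmul b s =>
        rw [hψ, relFrob_tmul, map_mul, map_mul, hφ', map_pow, AlgHom.commutes]
        rfl
      | add z z' hz hz' => rw [map_add, map_add, map_add, map_add, hz, hz']

end Groth.Agent.S16001
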