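import Groth.Statements.S11165
import Groth.Agent.S4456
import Groth.Agent.S0028
import Groth.Agent.Lib.Lead.RP.Compare2
import Groth.Agent.Lib.Lead.RP.LemmaA
import Groth.Agent.Lib.Lead.QC.SubExtRestrict

set_option autoImplicit false
universe u
open CategoryTheory CategoryTheory.Limits AlgebraicGeometry
open Coherent

namespace Groth.Agent.S11165

/-- Let f : X ⟶ Y be a separated morphism of schemes, U an open of X on which f restricts to an affine
morphism, i : U ⟶ X the inclusion and F a quasi-coherent O_X-module. Then i_*(F|_U) is acyclic for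
f_*: its higher direct images R^j f_* vanish for j > 0. (The binder asserting injective resolutions
of O_X-modules always holds.) -/
theorem result {X Y : Scheme.{u}} (f : X ⟶ Y) [IsSeparated f]
    (U : X.Opens) [IsAffineHom (U.ι ≫ f)] (F : X.Modules) (hF : Coh.IsQCoh F)
    [HasInjectiveResolutions X.Modules] (j : ℕ) (hj : 0 < j) :
    IsZero ((Coh.Rpush f j).obj ((Scheme.Modules.pushforward U.ι).obj ((Scheme.Modules.restrictFunctor U.ι).obj F))) := by
  haveI : AlgebraicGeometry.IsAffineHom U.ι := AlgebraicGeometry.IsAffineHom.of_comp U.ι f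
  haveI : F.IsQuasicoherent := hF
  haveI hG : Coh.IsQCoh (F.restrict U.ι) := LD.QC.qc_restrict U.ι F
  obtain ⟨e⟩ := LD.RP.nonempty_toAb_Rpush_iso f
    ((AlgebraicGeometry.Scheme.Modules.pushforward U.ι).obj
      ((AlgebraicGeometry.Scheme.Modules.restrictFunctor U.ι).obj F)) j
  apply LD.RP.isZero_of_isZero_τ
  refine CategoryTheory.Limits.IsZero.of_iso ?_ e
  obtain ⟨e2⟩ := Groth.Agent.S4456.result U.ι f (F.restrict U.ι) j
  exact CategoryTheory.Limits.IsZero.of_iso
    (Groth.Agent.S0028.result (U.ι ≫ f) (F.restrict U.ι) j hj) e2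

end Groth.Agent.S11165
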