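import Groth.Statements.S11166
import Groth.Agent.Lib.Lead.Inj.HullB
import Groth.Agent.S11160
import Groth.Agent.S11161
import Groth.Agent.Lib.Lead.QC.Ext

set_option autoImplicit false
universe u
open CategoryTheory CategoryTheory.Limits AlgebraicGeometry
attribute [local instance] HasDerivedCategory.standard
open Coherent

namespace Groth.Agent.S11166

/-- For a locally Noetherian scheme X the natural functor D⁺(QCoh(X)) ⥤ D⁺_qc(O_X) is an equivalence:
granting that quasi-coherent modules form an abelian full subcategory of all O_X-modules with exact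
inclusion (instance hypotheses that always hold), the induced functor D(QCoh(X)) ⥤ D(O_X) is fully
faithful on cohomologically bounded below objects, and every object of D(O_X) with Hⁱ = 0 for i < a
and quasi-coherent cohomology sheaves is isomorphic to the image of an object of D(QCoh(X)) with Hⁱ
= 0 for i < a. -/
theorem result (X : Scheme.{u}) [IsLocallyNoetherian X]
    [ObjectProperty.ContainsZero (fun M : X.Modules => Coh.IsQCoh M)] [ObjectProperty.IsClosedUnderKernels (fun M : X.Modules => Coh.IsQCoh M)]
    [ObjectProperty.IsClosedUnderCokernels (fun M : X.Modules => Coh.IsQCoh M)] [ObjectProperty.IsClosedUnderFiniteProducts (fun M : X.Modules => Coh.IsQCoh M)]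
    [PreservesFiniteLimits (ObjectProperty.ι (fun M : X.Modules => Coh.IsQCoh M))] [PreservesFiniteColimits (ObjectProperty.ι (fun M : X.Modules => Coh.IsQCoh M))] :
    (∀ (M N : DerivedCategory (ObjectProperty.FullSubcategory (fun M : X.Modules => Coh.IsQCoh M))) (a b : ℤ), M.IsGE a → N.IsGE b →
        Function.Bijective (fun f : M ⟶ N => (ObjectProperty.ι (fun M : X.Modules => Coh.IsQCoh M)).mapDerivedCategory.map f)) ∧
      ∀ (K : DCoh.D X) (a : ℤ), K.IsGE a → DCoh.IsQCohD K →
        ∃ M : DerivedCategory (ObjectProperty.FullSubcategory (fun M : X.Modules => Coh.IsQCoh M)), M.IsGE a ∧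
          Nonempty ((ObjectProperty.ι (fun M : X.Modules => Coh.IsQCoh M)).mapDerivedCategory.obj M ≅ K) := by
  have hess_iff : ∀ M : X.Modules,
      (ObjectProperty.ι (fun M : X.Modules => Coh.IsQCoh M)).essImage M ↔ Coh.IsQCoh M := by
    intro M
    constructor
    · rintro ⟨M', ⟨e⟩⟩
      exact ObjectProperty.prop_of_iso (SheafOfModules.isQuasicoherent X.ringCatSheaf) e M'.property
    · intro h
      exact ⟨⟨M, h⟩, ⟨Iso.refl _⟩⟩
  have hext : ∀ S : ShortComplex X.Modules, S.ShortExact →
      (ObjectProperty.ι (fun M : X.Modules => Coh.IsQCoh M)).essImage S.X₁ →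
      (ObjectProperty.ι (fun M : X.Modules => Coh.IsQCoh M)).essImage S.X₃ →
      (ObjectProperty.ι (fun M : X.Modules => Coh.IsQCoh M)).essImage S.X₂ := by
    intro S hS h1 h3
    rw [hess_iff] at h1 h3 ⊢
    exact Groth.Agent.LD.QC.qc_of_shortExact S hS h1 h3
  have hinj : ∀ X' : ObjectProperty.FullSubcategory (fun M : X.Modules => Coh.IsQCoh M),
      ∃ (Y' : ObjectProperty.FullSubcategory (fun M : X.Modules => Coh.IsQCoh M)) (i : X' ⟶ Y'),
        Mono i ∧ Injective ((ObjectProperty.ι (fun M : X.Modules => Coh.IsQCoh M)).obj Y') := by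
    intro X'
    obtain ⟨E, i, hi, hinj, hq⟩ := Groth.Agent.LD.HullB.exists_qcoh_injective X'.obj X'.property
    refine ⟨⟨E, hq⟩, (ObjectProperty.fullyFaithfulι (fun M : X.Modules => Coh.IsQCoh M)).preimage
      (X := X') (Y := ⟨E, hq⟩) i, ?_, hinj⟩
    apply Functor.mono_of_mono_map (ObjectProperty.ι (fun M : X.Modules => Coh.IsQCoh M))
    rw [(ObjectProperty.fullyFaithfulι (fun M : X.Modules => Coh.IsQCoh M)).map_preimage
      (X := X') (Y := ⟨E, hq⟩) i]
    exact hi
  refine ⟨?_, ?_⟩
  · intro M N a b hM hN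
    haveI := hM
    haveI := hN
    exact Groth.Agent.S11160.result (ObjectProperty.ι (fun M : X.Modules => Coh.IsQCoh M))
      hext hinj M N a b
  · intro K a hK hKq
    haveI := hK
    obtain ⟨I, hI, -, ⟨e⟩⟩ := Groth.Agent.S11161.result
      (ObjectProperty.ι (fun M : X.Modules => Coh.IsQCoh M)) hext hinj K a
      (fun i => (hess_iff _).2 (hKq i))
    haveI := hI
    exact ⟨DerivedCategory.Q.obj I, inferInstance, ⟨e⟩⟩

end Groth.Agent.S11166
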