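import Groth.Statements.S11221
import Mathlib.RingTheory.Ideal.AssociatedPrime.Localization

set_option autoImplicit false
universe u
open CategoryTheory MonoidalCategory CartesianMonoidalCategory MonObj GrpObj AlgebraicGeometry
open scoped TensorProduct
open AGF

namespace Groth.Agent.S11221

/-- Let R be a Noetherian integrally closed domain with fraction field K and let p be a prime ideal of R
of height one. Then there is f ∈ K which is not in R but lies in the local ring R_q ⊆ K of every
height-one prime q ≠ p (f = a/b with b ∉ q): a rational function on Spec R with a pole along V(p)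
only. (The published statement is for the coordinate ring of a normal affine variety; this row is
for any Noetherian integrally closed domain, which is all the argument uses.) -/
theorem result (R : Type u) [CommRing R] [IsDomain R] [IsNoetherianRing R] [IsIntegrallyClosed R]
    (p : Ideal R) [p.IsPrime] (hp : p.height = 1) :
    ∃ f : FractionRing R, f ∉ Set.range ⇑(algebraMap R (FractionRing R)) ∧
      ∀ q : Ideal R, q.IsPrime → q.height = 1 → q ≠ p →
        ∃ a b : R, b ∉ q ∧ f * algebraMap R (FractionRing R) b = algebraMap R (FractionRing R) a := by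
  classical
  -- a nonzero element of p
  have hpne : p ≠ ⊥ := by
    intro h
    rw [h, Ideal.height_bot] at hp
    exact zero_ne_one hp
  obtain ⟨a, hap, ha0⟩ := Submodule.exists_mem_ne_zero_of_ne_bot hpne
  -- p is minimal over (a)
  have hpfin : p.FiniteHeight := by
    rw [Ideal.finiteHeight_iff]; right; rw [hp]; exact ENat.one_ne_top
  have hmin : p ∈ (Ideal.span {a}).minimalPrimes := by
    refine ⟨⟨inferInstance, (Ideal.span_singleton_le_iff_mem _).mpr hap⟩, ?_⟩
    rintro q ⟨hq, haq⟩ hqp
    by_contra hnot
    have hlt : q < p := lt_of_le_of_ne hqp (fun h => hnot (h ▸ le_refl _))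
    have := hq
    have h1 : q.height < p.height := Ideal.height_strict_mono_of_isPrime_of_isPrime hlt
    rw [hp] at h1
    have h0 : q.height = 0 := by
      have := Order.lt_one_iff.mp h1
      exact this
    rw [Ideal.height_eq_zero_iff_eq_bot] at h0
    have : a ∈ q := (Ideal.span_singleton_le_iff_mem _).mp haq
    rw [h0] at this
    exact ha0 (by simpa using this)
  have hann : Module.annihilator R (R ⧸ Ideal.span {a}) = Ideal.span {a} :=
    Ideal.annihilator_quotient
  have hass : p ∈ associatedPrimes R (R ⧸ Ideal.span {a}) := by
    apply Module.associatedPrimes.minimalPrimes_annihilator_subset_associatedPrimes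
    rw [hann]; exact hmin
  obtain ⟨-, x, hx⟩ := (isAssociatedPrime_iff).mp hass
  obtain ⟨b, rfl⟩ := Ideal.Quotient.mk_surjective x
  -- p = {r | r * b ∈ (a)}
  have hmem : ∀ r : R, r ∈ p ↔ ∃ c, r * b = a * c := by
    intro r
    rw [hx, Submodule.mem_colon_singleton]
    rw [Submodule.mem_bot]
    show r • (Ideal.Quotient.mk (Ideal.span {a}) b) = 0 ↔ _
    rw [Algebra.smul_def, Ideal.Quotient.algebraMap_eq, ← map_mul, Ideal.Quotient.eq_zero_iff_mem,
      Ideal.mem_span_singleton']
    constructor
    · rintro ⟨c, hc⟩; exact ⟨c, by rw [← hc]; ring⟩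
    · rintro ⟨c, hc⟩; exact ⟨c, by rw [hc]; ring⟩
  have ha0' : algebraMap R (FractionRing R) a ≠ 0 := by
    simpa using ha0
  refine ⟨algebraMap R (FractionRing R) b / algebraMap R (FractionRing R) a, ?_, ?_⟩
  · rintro ⟨c, hc⟩
    -- then b = a * c, so 1 ∈ p
    have : b = a * c := by
      apply IsFractionRing.injective R (FractionRing R)
      rw [map_mul, hc]; field_simp
    have h1 : (1 : R) ∈ p := (hmem 1).mpr ⟨c, by rw [_root_.one_mul, this]⟩
    exact (Ideal.IsPrime.ne_top inferInstance) ((Ideal.eq_top_iff_one p).mpr h1)
  · intro q hq hq1 hqp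
    have := hq
    have hqfin : q.FiniteHeight := by
      rw [Ideal.finiteHeight_iff]; right; rw [hq1]; exact ENat.one_ne_top
    -- p is not contained in q
    have hnle : ¬ p ≤ q := by
      intro hle
      have : p = q := Ideal.eq_of_le_of_height_le p hle (by rw [hp, hq1])
      exact hqp this.symm
    obtain ⟨s, hsp, hsq⟩ := Set.not_subset.mp hnle
    obtain ⟨c, hc⟩ := (hmem s).mp hsp
    refine ⟨c, s, hsq, ?_⟩
    have : algebraMap R (FractionRing R) s * algebraMap R (FractionRing R) b =
        algebraMap R (FractionRing R) a * algebraMap R (FractionRing R) c := by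
      rw [← map_mul, ← map_mul, hc]
    field_simp
    rw [mul_comm, this]

end Groth.Agent.S11221
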