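import Groth.Statements.S11223
import Mathlib

set_option autoImplicit false
universe u
open CAlg

namespace Groth.Agent.S11223

/-- Let k be a field, let z_1, ..., z_m be homogeneous polynomials of positive degree in the polynomial
ring k[x_1, ..., x_n], and suppose the radical of the ideal (z_1, ..., z_m) is the ideal (x_1, ...,
x_n) generated by the variables. Then the polynomial ring is integral over the subalgebra generated
by z_1, ..., z_m. (The published statement is over an algebraically closed field; this row takes any
field, which its proof allows.) -/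
theorem result (k : Type u) [Field k] (n m : ℕ)
    (z : Fin m → MvPolynomial (Fin n) k) (d : Fin m → ℕ) (hd : ∀ i, 0 < d i)
    (hz : ∀ i, (z i).IsHomogeneous (d i))
    (hrad : (Ideal.span (Set.range z)).radical =
      Ideal.span (Set.range (MvPolynomial.X : Fin n → MvPolynomial (Fin n) k))) :
    Algebra.IsIntegral (Algebra.adjoin k (Set.range z)) (MvPolynomial (Fin n) k) := by
  classical
  let _ : GradedAlgebra (MvPolynomial.homogeneousSubmodule (Fin n) k) := MvPolynomial.gradedAlgebra
  have hMfg : (Ideal.span (Set.range (MvPolynomial.X : Fin n → MvPolynomial (Fin n) k))).FG :=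
    ⟨Finset.univ.image MvPolynomial.X, by simp⟩
  obtain ⟨N, hN⟩ := Ideal.exists_pow_le_of_le_radical_of_fg (hrad.symm.le) hMfg
  let gens : Set (MvPolynomial (Fin n) k) :=
    (fun m' : Fin n →₀ ℕ => MvPolynomial.monomial m' (1 : k)) '' {m' | m'.degree < N}
  have hgens : gens.Finite := (Finsupp.finite_of_degree_lt N).image _
  let T : Submodule (Algebra.adjoin k (Set.range z)) (MvPolynomial (Fin n) k) :=
    Submodule.span _ gens
  -- monomials of large degree lie in I
  have hmonM : ∀ m' : Fin n →₀ ℕ, N ≤ m'.degree →
      MvPolynomial.monomial m' (1 : k) ∈ Ideal.span (Set.range z) := by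
    intro m' hm'
    apply hN
    apply Ideal.pow_le_pow_right hm'
    rw [MvPolynomial.monomial_eq, map_one, one_mul, Finsupp.prod, Finsupp.degree_apply,
      ← Finset.prod_pow_eq_pow_sum]
    apply Ideal.prod_mem_prod
    intro i _
    exact Ideal.pow_mem_pow (Ideal.subset_span (Set.mem_range_self i)) _
  -- smul by scalars of k
  have hksmul : ∀ (c : k) (f : MvPolynomial (Fin n) k), f ∈ T → c • f ∈ T := by
    intro c f hf
    have : c • f = (algebraMap k (Algebra.adjoin k (Set.range z)) c) • f := by
      rw [algebraMap_smul]
    rw [this]
    exact T.smul_mem _ hf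
  have hzsmul : ∀ (j : Fin m) (f : MvPolynomial (Fin n) k), f ∈ T → f * z j ∈ T := by
    intro j f hf
    have : f * z j = (⟨z j, Algebra.subset_adjoin ⟨j, rfl⟩⟩ : Algebra.adjoin k (Set.range z)) • f := by
      rw [mul_comm]; rfl
    rw [this]
    exact T.smul_mem _ hf
  -- all monomials are in T
  have hmon : ∀ (D : ℕ) (m' : Fin n →₀ ℕ), m'.degree = D → MvPolynomial.monomial m' (1 : k) ∈ T := by
    intro D
    induction D using Nat.strong_induction_on with
    | _ D ih =>
      intro m' hm'
      by_cases hlt : m'.degree < N
      · exact Submodule.subset_span ⟨m', hlt, rfl⟩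
      push Not at hlt
      obtain ⟨g, hg⟩ := (Ideal.mem_span_range_iff_exists_fun).1 (hmonM m' hlt)
      have hhom : MvPolynomial.monomial m' (1 : k) ∈ MvPolynomial.homogeneousSubmodule (Fin n) k D :=
        MvPolynomial.isHomogeneous_monomial _ hm'
      have hdec := congrArg (fun f => (DirectSum.decompose (MvPolynomial.homogeneousSubmodule (Fin n) k) f D :
        MvPolynomial (Fin n) k)) hg
      simp only [DirectSum.decompose_sum] at hdec
      rw [DFinsupp.finsetSum_apply, AddSubmonoidClass.coe_finsetSum,
        DirectSum.decompose_of_mem_same _ hhom] at hdec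
      rw [← hdec]
      apply T.sum_mem
      intro j _
      rw [DirectSum.coe_decompose_mul_of_right_mem _ D (hz j)]
      split_ifs with hle
      · apply hzsmul
        set h := (DirectSum.decompose (MvPolynomial.homogeneousSubmodule (Fin n) k) (g j) (D - d j) :
          MvPolynomial (Fin n) k) with hh
        have hhh : h.IsHomogeneous (D - d j) :=
          (DirectSum.decompose (MvPolynomial.homogeneousSubmodule (Fin n) k) (g j) (D - d j)).2
        rw [MvPolynomial.as_sum h]
        apply T.sum_mem
        intro m'' hm''
        have hdeg : m''.degree = D - d j := by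
          rw [Finsupp.degree_eq_weight_one]
          exact hhh (MvPolynomial.mem_support_iff.1 hm'')
        have : MvPolynomial.monomial m'' (MvPolynomial.coeff m'' h)
            = (MvPolynomial.coeff m'' h) • MvPolynomial.monomial m'' (1 : k) := by
          rw [MvPolynomial.smul_monomial, smul_eq_mul, mul_one]
        rw [this]
        apply hksmul
        exact ih (D - d j) (by have := hd j; omega) m'' hdeg
      · exact T.zero_mem
  have hTtop : T = ⊤ := by
    rw [eq_top_iff]
    intro f _
    rw [MvPolynomial.as_sum f]
    apply T.sum_mem
    intro m'' _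
    have : MvPolynomial.monomial m'' (MvPolynomial.coeff m'' f)
        = (MvPolynomial.coeff m'' f) • MvPolynomial.monomial m'' (1 : k) := by
      rw [MvPolynomial.smul_monomial, smul_eq_mul, mul_one]
    rw [this]
    exact hksmul _ _ (hmon _ m'' rfl)
  have : Module.Finite (Algebra.adjoin k (Set.range z)) (MvPolynomial (Fin n) k) :=
    ⟨⟨hgens.toFinset, by rw [Set.Finite.coe_toFinset]; exact hTtop⟩⟩
  exact Algebra.IsIntegral.of_finite _ _

end Groth.Agent.S11223
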