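import Groth.Statements.S11233
import Mathlib

set_option autoImplicit false
universe u
open CAlg

namespace Groth.Agent.S11233

/-- Let k be an algebraically closed field, A an integral domain which is a k-algebra, T an m by m
matrix over A with invertible determinant, and let the additive group k^m act on the polynomial ring
A[y_1, ..., y_m] by the A-algebra maps y_s ↦ y_s + Σ_r h_r T_rs. Then the only invariant polynomials
are the constants: a polynomial fixed by all these substitutions lies in A. -/
theorem result (k : Type u) [Field k] [IsAlgClosed k]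
    (A : Type u) [CommRing A] [IsDomain A] [Algebra k A] (m : ℕ) (T : Matrix (Fin m) (Fin m) A)
    (hT : IsUnit T.det) (f : MvPolynomial (Fin m) A)
    (hf : ∀ h : Fin m → k, MvPolynomial.aeval
      (fun s : Fin m => MvPolynomial.X s + MvPolynomial.C (∑ r : Fin m, algebraMap k A (h r) * T r s)) f = f) :
    ∃ a : A, f = MvPolynomial.C a := by
  classical
  have hkinf : Infinite k := IsAlgClosed.instInfinite
  let g : Fin m → MvPolynomial (Fin m) (MvPolynomial (Fin m) A) := fun s =>
    MvPolynomial.C (MvPolynomial.X s) + ∑ r : Fin m, MvPolynomial.X r * MvPolynomial.C (MvPolynomial.C (T r s))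
  let Φ : MvPolynomial (Fin m) (MvPolynomial (Fin m) A) := MvPolynomial.aeval g f
  let Ψ : MvPolynomial (Fin m) (MvPolynomial (Fin m) A) := MvPolynomial.C f
  have hevalΦ : ∀ x : Fin m → MvPolynomial (Fin m) A, MvPolynomial.eval x Φ
      = MvPolynomial.aeval (fun s => MvPolynomial.X s + ∑ r : Fin m, x r * MvPolynomial.C (T r s)) f := by
    intro x
    have h1 : MvPolynomial.eval x Φ = ((MvPolynomial.aeval x : MvPolynomial (Fin m) (MvPolynomial (Fin m) A) →ₐ[MvPolynomial (Fin m) A] MvPolynomial (Fin m) A).restrictScalars A) (MvPolynomial.aeval g f) := by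
      rw [← MvPolynomial.coe_aeval_eq_eval]; rfl
    rw [h1, ← AlgHom.comp_apply, MvPolynomial.comp_aeval]
    refine congrArg (fun v => MvPolynomial.aeval v f) (funext fun s => ?_)
    simp [g]
  have hΦΨ : Φ = Ψ := by
    apply MvPolynomial.funext_set (fun _ : Fin m => Set.range (algebraMap k (MvPolynomial (Fin m) A)))
    · intro _
      exact Set.infinite_range_of_injective (algebraMap k (MvPolynomial (Fin m) A)).injective
    · intro x hx
      have hx' : ∀ r, ∃ c : k, algebraMap k (MvPolynomial (Fin m) A) c = x r := fun r => hx r (Set.mem_univ r)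
      choose h hh using hx'
      rw [hevalΦ]
      simp only [Ψ, MvPolynomial.eval_C]
      have := hf h
      refine Eq.trans (congrArg (fun v => MvPolynomial.aeval v f) (funext fun s => ?_)) this
      rw [map_sum]
      congr 1
      refine Finset.sum_congr rfl fun r _ => ?_
      rw [← hh r, map_mul]
      rfl
  -- specialize
  let τ : Fin m → MvPolynomial (Fin m) A := fun r => -∑ s : Fin m, MvPolynomial.X s * MvPolynomial.C (T⁻¹ s r)
  have h2 := congrArg (MvPolynomial.eval τ) hΦΨ
  rw [hevalΦ] at h2
  simp only [Ψ, MvPolynomial.eval_C] at h2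
  have hzero : (fun s => (MvPolynomial.X s : MvPolynomial (Fin m) A) + ∑ r : Fin m, τ r * MvPolynomial.C (T r s)) = 0 := by
    funext s
    simp only [τ, Pi.zero_apply, neg_mul, Finset.sum_neg_distrib, Finset.sum_mul]
    rw [Finset.sum_comm]
    have : ∀ s' : Fin m, ∑ r : Fin m, (MvPolynomial.X s' : MvPolynomial (Fin m) A) * MvPolynomial.C (T⁻¹ s' r) * MvPolynomial.C (T r s)
        = MvPolynomial.X s' * MvPolynomial.C ((T⁻¹ * T) s' s) := by
      intro s'
      rw [Matrix.mul_apply, map_sum, Finset.mul_sum]
      refine Finset.sum_congr rfl fun r _ => ?_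
      rw [map_mul, mul_assoc]
    simp_rw [this]
    rw [Matrix.nonsing_inv_mul T hT]
    simp [Matrix.one_apply]
  rw [hzero, MvPolynomial.aeval_zero] at h2
  exact ⟨MvPolynomial.constantCoeff f, h2.symm⟩

end Groth.Agent.S11233
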