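import Groth.Statements.S11235
import Mathlib

set_option autoImplicit false
universe u
open CAlg

namespace Groth.Agent.S11235

/-- Let k be an algebraically closed field, A a commutative k-algebra, α ∈ k, and M a maximal ideal of
the polynomial ring A[x] containing x - α. Let I ⊆ M be an ideal whose zero set in Spec A[x] is
invariant under the automorphisms x ↦ c·x, c ∈ k nonzero (equivalently: the image of I under each
such A-algebra automorphism has the same radical as I). Then there is a maximal ideal of A[x]
containing I and x. -/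
theorem result (k : Type u) [Field k] [IsAlgClosed k]
    (A : Type u) [CommRing A] [Algebra k A] (α : k)
    (M : Ideal (Polynomial A)) (hM : M.IsMaximal)
    (hα : Polynomial.X - Polynomial.C (algebraMap k A α) ∈ M)
    (I : Ideal (Polynomial A)) (hIM : I ≤ M)
    (hI : ∀ c : kˣ, (I.map (Polynomial.aeval (R := A)
      (algebraMap k A (c : k) • (Polynomial.X : Polynomial A)))).radical = I.radical) :
    ∃ N : Ideal (Polynomial A), N.IsMaximal ∧ I ≤ N ∧ Polynomial.X ∈ N := by
  classical
  have hkinf : Infinite k := IsAlgClosed.instInfinite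
  let _ : Field (Polynomial A ⧸ M) := Ideal.Quotient.field M
  let φ : Polynomial A →+* (Polynomial A ⧸ M) := Ideal.Quotient.mk M
  let j : A →+* (Polynomial A ⧸ M) := φ.comp Polynomial.C
  let ι : k →+* (Polynomial A ⧸ M) := j.comp (algebraMap k A)
  have hφX : φ Polynomial.X = ι α := by
    have := Ideal.Quotient.eq.2 hα
    exact this
  -- j is surjective
  have hjsurj : Function.Surjective j := by
    intro y
    obtain ⟨g, rfl⟩ := Ideal.Quotient.mk_surjective y
    refine ⟨g.eval (algebraMap k A α), ?_⟩
    symm
    show φ g = φ (Polynomial.C (g.eval (algebraMap k A α)))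
    rw [Ideal.Quotient.eq]
    have hdvd : (Polynomial.X - Polynomial.C (algebraMap k A α)) ∣ g - Polynomial.C (g.eval (algebraMap k A α)) := by
      rw [Polynomial.dvd_iff_isRoot]
      simp
    obtain ⟨q, hq⟩ := hdvd
    rw [hq]
    exact M.mul_mem_right _ hα
  let ψ : Polynomial A →+* (Polynomial A ⧸ M) := Polynomial.eval₂RingHom j 0
  have hψsurj : Function.Surjective ψ := by
    intro y
    obtain ⟨a, rfl⟩ := hjsurj y
    exact ⟨Polynomial.C a, by simp [ψ]⟩
  refine ⟨RingHom.ker ψ, RingHom.ker_isMaximal_of_surjective ψ hψsurj, ?_, ?_⟩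
  swap
  · rw [RingHom.mem_ker]; simp [ψ]
  intro f hf
  rw [RingHom.mem_ker]
  show Polynomial.eval₂ j 0 f = 0
  rw [← Polynomial.eval_map]
  set fbar := f.map j with hfbar
  -- roots of fbar
  have hroot : ∀ c : kˣ, fbar.eval (ι ((c : k) * α)) = 0 := by
    intro c
    have h1 : Polynomial.aeval (algebraMap k A (c : k) • (Polynomial.X : Polynomial A)) f ∈ M := by
      have h2 : Polynomial.aeval (algebraMap k A (c : k) • (Polynomial.X : Polynomial A)) f ∈
          (I.map (Polynomial.aeval (R := A) (algebraMap k A (c : k) • (Polynomial.X : Polynomial A)))).radical :=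
        Ideal.le_radical (Ideal.mem_map_of_mem _ hf)
      rw [hI c] at h2
      exact (hM.isPrime.radical_le_iff.2 hIM) h2
    have h3 : φ (Polynomial.aeval (algebraMap k A (c : k) • (Polynomial.X : Polynomial A)) f) = 0 :=
      Ideal.Quotient.eq_zero_iff_mem.2 h1
    rw [Polynomial.aeval_def, Polynomial.hom_eval₂, ← Polynomial.eval_map] at h3
    have h4 : φ (algebraMap k A (c : k) • (Polynomial.X : Polynomial A)) = ι ((c : k) * α) := by
      rw [Polynomial.smul_eq_C_mul, map_mul, hφX, map_mul]
      rfl
    rw [h4] at h3
    exact h3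
  by_cases hα0 : α = 0
  · have := hroot 1
    rw [hα0, mul_zero, map_zero] at this
    exact this
  · have hzero : fbar = 0 := by
      apply Polynomial.eq_zero_of_infinite_isRoot
      have hinf : (ι '' ({0}ᶜ : Set k)).Infinite :=
        (Set.finite_singleton (0 : k)).infinite_compl.image ι.injective.injOn
      apply hinf.mono
      rintro _ ⟨b, hb, rfl⟩
      have hb0 : b ≠ 0 := hb
      have := hroot (Units.mk0 (b / α) (div_ne_zero hb0 hα0))
      rw [Units.val_mk0, div_mul_cancel₀ _ hα0] at this
      exact this
    rw [hzero, Polynomial.eval_zero]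

end Groth.Agent.S11235
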