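import Groth.Statements.S11239
import Mathlib

set_option autoImplicit false
universe u
open AGF

namespace Groth.Agent.S11239

/-- Let X be an m × n matrix over a commutative ring, u an upper triangular n × n matrix with ones on
the diagonal, t a diagonal n × n matrix and p ≤ n. For any choice of p rows, the minor of X·t·u
formed with these rows and the first p columns equals (t_11 ⋯ t_pp) times the corresponding minor of
X: the minors on the first p columns are semi-invariant of weight ω_p under right multiplication by
the upper triangular group. (The published statement is for the generic matrix over an algebraically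
closed field; this row states the identity over any commutative ring.) -/
theorem result (R : Type u) [CommRing R] (m n p : ℕ) (hp : p ≤ n)
    (X : Matrix (Fin m) (Fin n) R) (d : Fin n → R) (u : Matrix (Fin n) (Fin n) R)
    (hu1 : ∀ i, u i i = 1) (hu0 : ∀ i j, j < i → u i j = 0) (I : Fin p → Fin m) :
    ((X * Matrix.diagonal d * u).submatrix I (Fin.castLE hp)).det =
      (∏ i : Fin p, d (Fin.castLE hp i)) * (X.submatrix I (Fin.castLE hp)).det := by
  set c := Fin.castLE hp with hc
  set M := Matrix.diagonal d * u with hM
  have hMij : ∀ i j, M i j = d i * u i j := fun i j => Matrix.diagonal_mul d u i j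
  have hcinj : Function.Injective c := Fin.castLE_injective hp
  have hfac : (X * Matrix.diagonal d * u).submatrix I c = X.submatrix I c * M.submatrix c c := by
    rw [Matrix.mul_assoc, ← hM]
    ext a b
    rw [Matrix.submatrix_apply, Matrix.mul_apply, Matrix.mul_apply]
    symm
    apply Fintype.sum_of_injective c hcinj
    · intro i hi
      have : c b < i := by
        by_contra hcon
        push Not at hcon
        apply hi
        refine ⟨⟨i, lt_of_le_of_lt (Fin.le_def.1 hcon) ?_⟩, ?_⟩
        · simp [hc]
        · ext; simp [hc]
      rw [hMij, hu0 i (c b) this, mul_zero, mul_zero]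
    · intro i
      rfl
  rw [hfac, Matrix.det_mul, mul_comm]
  congr 1
  rw [Matrix.det_of_isUpperTriangular]
  · refine Finset.prod_congr rfl fun i _ => ?_
    rw [Matrix.submatrix_apply, hMij, hu1, mul_one]
  · intro i j hij
    rw [Matrix.submatrix_apply, hMij, hu0, mul_zero]
    exact hij

end Groth.Agent.S11239
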