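import Groth.Statements.S1124
import Mathlib
import Groth.Agent.Lib.Helper1.FpqcDescent

set_option autoImplicit false
open CategoryTheory CategoryTheory.Limits AlgebraicGeometry Opposite
universe u
open Desc

namespace Groth.Agent.S1124

/-- the map to the scheme-theoretic image of a quasi-compact morphism is scheme-theoretically
dominant. -/
theorem isSchemeTheoreticallyDominant_toImage {X Y : Scheme.{u}} (f : X ⟶ Y) [QuasiCompact f] :
    IsSchemeTheoreticallyDominant f.toImage := by
  rw [isSchemeTheoreticallyDominant_iff]
  refine Scheme.IdealSheafData.ext_of_iSup_eq_top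
    (fun U : Y.affineOpens ↦ ⟨f.imageι ⁻¹ᵁ U.1, U.2.preimage f.imageι⟩) ?_ ?_
  · rw [eq_top_iff]
    intro x _
    obtain ⟨_, ⟨U, hU, rfl⟩, hxU, -⟩ :=
      Y.isBasis_affineOpens.exists_subset_of_mem_open (Set.mem_univ (f.imageι x)) isOpen_univ
    exact TopologicalSpace.Opens.mem_iSup.mpr ⟨⟨U, hU⟩, hxU⟩
  · intro U
    rw [Scheme.Hom.ker_apply]
    simp only [Scheme.IdealSheafData.ideal_bot, Pi.bot_apply]
    exact (RingHom.injective_iff_ker_eq_bot _).mp (f.toImage_app_injective U)

/-- a quasi-compact scheme-theoretically dominant immersion is an open immersion. -/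
theorem isOpenImmersion_of_isImmersion_of_dominant {X Y : Scheme.{u}} (f : X ⟶ Y)
    [IsImmersion f] [QuasiCompact f] [IsSchemeTheoreticallyDominant f] : IsOpenImmersion f := by
  have h1 : IsIso f.imageι := (Scheme.isIso_subschemeι_iff_eq_bot _).mpr f.ker_eq_bot
  rw [← f.toImage_imageι]
  infer_instance

/-- If the base change of a morphism of schemes along a quasi-compact, flat, surjective morphism is a
quasi-compact immersion, then the morphism itself is a quasi-compact immersion. (Stated for a single
quasi-compact flat surjective base change; together with Zariski-locality on the target this is fpqc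
descent for quasi-compact immersions.) -/
theorem result :
    MorphismProperty.DescendsAlong (@IsImmersion ⊓ @QuasiCompact : MorphismProperty Scheme.{u})
      (@Surjective ⊓ @Flat ⊓ @QuasiCompact : MorphismProperty Scheme.{u}) := by
  constructor
  intro A X Y Z fst snd f g h hf hfst
  obtain ⟨hi, hqc⟩ := hfst
  haveI : Surjective f := hf.1.1
  haveI : Flat f := hf.1.2
  haveI : QuasiCompact f := hf.2
  haveI : IsImmersion fst := hi
  haveI : QuasiCompact fst := hqc
  haveI : QuasiCompact g :=
    haveI := Groth.Agent.H1.descendsAlong_quasiCompact.{u}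
    MorphismProperty.of_isPullback_of_descendsAlong (P := @QuasiCompact)
      (Q := (@Surjective ⊓ @Flat ⊓ @QuasiCompact : MorphismProperty Scheme.{u})) h hf hqc
  refine ⟨?_, inferInstance⟩
  let i := g.imageι
  let t := g.toImage
  have hti : t ≫ i = g := g.toImage_imageι
  let f₁ : pullback f i ⟶ g.image := pullback.snd f i
  let i₁ : pullback f i ⟶ X := pullback.fst f i
  let t' : A ⟶ pullback f i := pullback.lift fst (snd ≫ t) (by rw [Category.assoc, hti]; exact h.w)
  have ht'1 : t' ≫ i₁ = fst := pullback.lift_fst _ _ _
  have ht'2 : t' ≫ f₁ = snd ≫ t := pullback.lift_snd _ _ _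
  have hleft : IsPullback t' snd f₁ t := by
    refine IsPullback.of_right ?_ ht'2 (IsPullback.of_hasPullback f i)
    rw [ht'1, hti]
    exact h
  haveI : IsSchemeTheoreticallyDominant t := isSchemeTheoreticallyDominant_toImage g
  haveI : QuasiCompact t := inferInstance
  haveI : Flat f₁ := inferInstance
  haveI : Surjective f₁ := inferInstance
  haveI : QuasiCompact f₁ := inferInstance
  haveI : IsSchemeTheoreticallyDominant t' := IsSchemeTheoreticallyDominant.of_isPullback hleft.flip
  haveI : QuasiCompact t' := MorphismProperty.of_isPullback (P := @QuasiCompact) hleft.flip inferInstance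
  haveI : IsImmersion (t' ≫ i₁) := by rw [ht'1]; infer_instance
  haveI : IsImmersion t' := IsImmersion.of_comp t' i₁
  haveI : IsOpenImmersion t' := isOpenImmersion_of_isImmersion_of_dominant t'
  haveI : IsOpenImmersion t :=
    MorphismProperty.of_isPullback_of_descendsAlong (P := @IsOpenImmersion)
      (Q := (@Surjective ⊓ @Flat ⊓ @QuasiCompact : MorphismProperty Scheme.{u}))
      hleft ⟨⟨inferInstance, inferInstance⟩, inferInstance⟩ inferInstance
  rw [← hti]
  infer_instance

end Groth.Agent.S1124
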