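import Groth.Statements.S11240
import Mathlib

set_option autoImplicit false
universe u
open AGF

namespace Groth.Agent.S11240

/-- For a single root subgroup: let k be an algebraically closed field and X = (x_ab) the generic n × m
matrix over the polynomial ring k[x_ab]. Let i ≠ j be row indices and let I (rows) and J (columns)
be strictly increasing sequences of length p. The minor of X with rows I and columns J is invariant
under replacing X by (1 + b·E_ij)·X for every b ∈ k (the one-parameter unipotent group adding b
times row j to row i) if and only if j occurs in I whenever i does. (The published statement gives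
the criterion for the group generated by several such root subgroups, which is the conjunction of
these.) -/
theorem result (k : Type u) [Field k] [IsAlgClosed k] (n m p : ℕ)
    (i j : Fin n) (hij : i ≠ j) (I : Fin p ↪o Fin n) (J : Fin p ↪o Fin m) :
    (∀ b : k, ((Matrix.transvection i j (MvPolynomial.C b) *
        (Matrix.of fun a c => (MvPolynomial.X (a, c) : MvPolynomial (Fin n × Fin m) k))).submatrix I J).det =
        ((Matrix.of fun a c => (MvPolynomial.X (a, c) : MvPolynomial (Fin n × Fin m) k)).submatrix I J).det) ↔
      (i ∈ Set.range I → j ∈ Set.range I) := by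
  classical
  set X : Matrix (Fin n) (Fin m) (MvPolynomial (Fin n × Fin m) k) :=
    Matrix.of fun a c => (MvPolynomial.X (a, c) : MvPolynomial (Fin n × Fin m) k) with hX
  let Y : k → Matrix (Fin n) (Fin m) (MvPolynomial (Fin n × Fin m) k) := fun b =>
    @HMul.hMul (Matrix (Fin n) (Fin n) (MvPolynomial (Fin n × Fin m) k))
      (Matrix (Fin n) (Fin m) (MvPolynomial (Fin n × Fin m) k))
      (Matrix (Fin n) (Fin m) (MvPolynomial (Fin n × Fin m) k)) Matrix.instHMulOfFintypeOfMulOfAddCommMonoid
      (Matrix.transvection i j (MvPolynomial.C b)) X
  have hYsame : ∀ (b : k) (c : Fin m), Y b i c = X i c + MvPolynomial.C b * X j c := fun b c =>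
    Matrix.transvection_mul_apply_same i j c (MvPolynomial.C b) X
  have hYne : ∀ (b : k) (a : Fin n) (c : Fin m), a ≠ i → Y b a c = X a c := fun b a c ha =>
    Matrix.transvection_mul_apply_of_ne i j a c ha (MvPolynomial.C b) X
  -- nonvanishing of generic minors
  have hgen : ∀ (r : Fin p → Fin n) (c : Fin p → Fin m), Function.Injective r → Function.Injective c →
      (X.submatrix r c).det ≠ 0 := by
    intro r c hr hc
    let φ : Fin p × Fin p → Fin n × Fin m := fun ab => (r ab.1, c ab.2)
    have hφ : Function.Injective φ := by
      rintro ⟨a, b⟩ ⟨a', b'⟩ h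
      simp only [φ, Prod.mk.injEq] at h
      rw [hr h.1, hc h.2]
    have : X.submatrix r c = (MvPolynomial.rename φ).toRingHom.mapMatrix (Matrix.mvPolynomialX (Fin p) (Fin p) k) := by
      ext a b
      simp [X, Matrix.mvPolynomialX, φ]
    rw [this, ← RingHom.map_det]
    intro h0
    apply Matrix.det_mvPolynomialX_ne_zero (Fin p) (R := k)
    apply MvPolynomial.rename_injective φ hφ
    rw [map_zero]
    exact h0
  -- the case i ∉ range I
  have hnot : i ∉ Set.range I → ∀ b : k,
      (Y b).submatrix I J = X.submatrix I J := by
    intro hi b
    refine Matrix.ext fun a c => ?_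
    rw [Matrix.submatrix_apply, Matrix.submatrix_apply, hYne]
    rintro h
    exact hi ⟨a, h⟩
  -- the case i = I a0
  have hyes : ∀ a0 : Fin p, I a0 = i → ∀ b : k,
      ((Y b).submatrix I J).det
        = (X.submatrix I J).det + MvPolynomial.C b *
          (Matrix.updateRow (X.submatrix I J) a0 (fun c => X j (J c))).det := by
    intro a0 ha0 b
    have : (Y b).submatrix I J
        = Matrix.updateRow (X.submatrix I J) a0
          ((X.submatrix I J) a0 + (MvPolynomial.C b : MvPolynomial (Fin n × Fin m) k) • (fun c => X j (J c))) := by
      refine Matrix.ext fun a c => ?_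
      by_cases ha : a = a0
      · subst ha
        rw [Matrix.updateRow_self, Matrix.submatrix_apply, ha0, hYsame]
        simp [ha0]
      · rw [Matrix.updateRow_ne ha, Matrix.submatrix_apply, Matrix.submatrix_apply, hYne]
        intro h
        exact ha (I.injective (h.trans ha0.symm))
    rw [this, Matrix.det_updateRow_add, Matrix.det_updateRow_smul, Matrix.updateRow_eq_self]
  constructor
  · intro hall0 hi
    have hall : ∀ b : k, ((Y b).submatrix I J).det = (X.submatrix I J).det := hall0
    obtain ⟨a0, ha0⟩ := hi
    by_contra hj
    have h1 := (hyes a0 ha0 1).symm.trans (hall 1)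
    rw [map_one, one_mul, add_eq_left] at h1
    let r : Fin p → Fin n := Function.update I a0 j
    have hr : Function.Injective r := by
      intro a a' h
      by_cases ha : a = a0 <;> by_cases ha' : a' = a0
      · rw [ha, ha']
      · exfalso
        simp only [r, ha, Function.update_self, Function.update_of_ne ha'] at h
        exact hj ⟨a', h.symm⟩
      · exfalso
        simp only [r, ha', Function.update_self, Function.update_of_ne ha] at h
        exact hj ⟨a, h⟩
      · simp only [r, Function.update_of_ne ha, Function.update_of_ne ha'] at h
        exact I.injective h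
    apply hgen r J hr J.injective
    rw [← h1]
    congr 1
    refine Matrix.ext fun a c => ?_
    by_cases ha : a = a0
    · subst ha
      simp [r]
    · simp [r, ha]
  · intro himp b
    show ((Y b).submatrix I J).det = (X.submatrix I J).det
    by_cases hi : i ∈ Set.range I
    · obtain ⟨a0, ha0⟩ := hi
      obtain ⟨a1, ha1⟩ := himp ⟨a0, ha0⟩
      have hne : a0 ≠ a1 := by
        rintro rfl
        exact hij (ha0.symm.trans ha1)
      refine (hyes a0 ha0 b).trans ?_
      have hz : (Matrix.updateRow (X.submatrix I J) a0 (fun c => X j (J c))).det = 0 := by
        apply Matrix.det_zero_of_row_eq hne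
        rw [Matrix.updateRow_self, Matrix.updateRow_ne hne.symm]
        funext c
        simp [ha1]
      rw [hz, mul_zero, add_zero]
    · exact congrArg Matrix.det (hnot hi b)

end Groth.Agent.S11240
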