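import Groth.Statements.S5491
-- import your own Groth.Agent.* helpers here

set_option autoImplicit false
open RootD

namespace Groth.Agent.S5491

open Classical in
/-- With ρ^v the half-sum of the positive coroots, the order (height) of any root α relative to the
simple system equals (ρ^v, α); equivalently 2·height(α) = Σ_{β > 0} (β^v, α). -/
theorem result {ι M N : Type*} [AddCommGroup M] [AddCommGroup N]
    (P : RootPairing ι ℤ M N) [Finite ι] [Fintype ι] [P.IsReduced] (b : P.Base) (i : ι) :
    2 * b.height i = ∑ j, if b.IsPos j then P.pairing i j else 0 := by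
  classical
  -- the key: for a simple root `d`, the sum is `2`
  have key : ∀ d ∈ b.support, (∑ j, if b.IsPos j then P.pairing d j else 0) = 2 := by
    intro d hd
    rw [← Finset.sum_filter]
    have hdF : d ∈ Finset.univ.filter (fun j => b.IsPos j) := by
      simp [RootPairing.Base.isPos_of_mem_support hd]
    rw [← Finset.add_sum_erase _ _ hdF, P.pairing_same]
    suffices h : ∑ x ∈ (Finset.univ.filter (fun j => b.IsPos j)).erase d, P.pairing d x = 0 by
      rw [h, add_zero]
    have hg₁ : ∀ a, P.pairing d a + P.pairing d (P.reflectionPerm d a) = 0 := by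
      intro a
      rw [P.pairing_reflectionPerm, P.pairing_reflectionPerm_self_left]; ring
    refine Finset.sum_involution (fun a _ => P.reflectionPerm d a) (fun a _ => hg₁ a)
      (fun a _ hne heq => ?_) (fun a ha => ?_) (fun a _ => P.reflectionPerm_self d a)
    · have := hg₁ a
      rw [heq] at this
      apply hne; omega
    · rw [Finset.mem_erase, Finset.mem_filter] at ha ⊢
      obtain ⟨hne, -, hpos⟩ := ha
      refine ⟨fun heq => ?_, Finset.mem_univ _, hpos.reflectionPerm hd hne⟩
      have h1 : a = P.reflectionPerm d d := by
        have := P.reflectionPerm_self d a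
        rw [heq] at this; exact this.symm
      have h2 := b.height_reflectionPerm_self d
      rw [RootPairing.Base.height_one_of_mem_support hd] at h2
      rw [RootPairing.Base.isPos_iff, h1] at hpos
      have h3 : b.height (P.reflectionPerm d d) = -1 := h2
      omega
  obtain ⟨f, -, -, hf⟩ := b.exists_root_eq_sum_int i
  rw [RootPairing.Base.height_eq_sum hf]
  have hp : ∀ j, P.pairing i j = ∑ d ∈ b.support, f d * P.pairing d j := by
    intro j
    rw [← P.root_coroot_eq_pairing, hf]
    simp [P.root_coroot_eq_pairing]
  calc 2 * ∑ d ∈ b.support, f d = ∑ d ∈ b.support, f d * 2 := by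
        rw [Finset.mul_sum]; exact Finset.sum_congr rfl fun _ _ => mul_comm _ _
    _ = ∑ d ∈ b.support, f d * ∑ j, (if b.IsPos j then P.pairing d j else 0) :=
        Finset.sum_congr rfl fun d hd => by rw [key d hd]
    _ = ∑ j, ∑ d ∈ b.support, (if b.IsPos j then f d * P.pairing d j else 0) := by
        rw [Finset.sum_comm]
        refine Finset.sum_congr rfl fun d _ => ?_
        rw [Finset.mul_sum]
        refine Finset.sum_congr rfl fun j _ => ?_
        split_ifs <;> simp
    _ = ∑ j, (if b.IsPos j then P.pairing i j else 0) := by
        refine Finset.sum_congr rfl fun j _ => ?_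
        split_ifs
        · rw [hp j]
        · simp

end Groth.Agent.S5491
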