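import Groth.Statements.S11243
import Groth.Agent.S5491
import Groth.Agent.Lib.Lead.RootD12

set_option autoImplicit false
universe u v w
open RootD

namespace Groth.Agent.S11243

/-- (b), for a connected group, as a statement about its root datum: let P be a finite reduced
crystallographic root pairing over ℤ with weight lattice M, and b a base of P (simple roots,
determining the positive roots). Then there is an additive map h : M → ℤ which is positive on every
positive root (so that h strictly increases along the dominance order) and non-negative on every
dominant weight, i.e. on every ω ∈ M pairing non-negatively with all simple coroots. (Part (c),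
invariance under the component group of a disconnected group, is not stated.) -/
theorem result {ι : Type u} {M : Type v} {N : Type w}
    [Fintype ι] [AddCommGroup M] [AddCommGroup N]
    (P : RootPairing ι ℤ M N) [P.IsReduced] [P.IsCrystallographic] (b : P.Base) :
    ∃ h : M →+ ℤ, (∀ i : ι, b.IsPos i → 0 < h (P.root i)) ∧
      ∀ ω : M, (∀ j ∈ b.support, 0 ≤ P.toLinearMap ω (P.coroot j)) → 0 ≤ h ω := by
  classical
  have _ : Finite ι := inferInstance
  let h : M →+ ℤ := ∑ j : ι, if b.IsPos j then ((P.coroot' j : M →ₗ[ℤ] ℤ) : M →+ ℤ) else 0
  have hval : ∀ m : M, h m = ∑ j : ι, if b.IsPos j then P.coroot' j m else 0 := by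
    intro m
    simp only [h, AddMonoidHom.finsetSum_apply]
    refine Finset.sum_congr rfl fun j _ => ?_
    split_ifs <;> simp
  refine ⟨h, fun i hi => ?_, fun ω hω => ?_⟩
  · have h5 := Groth.Agent.S5491.result P b i
    have : h (P.root i) = 2 * b.height i := by
      rw [hval, h5]
      refine Finset.sum_congr rfl fun j _ => ?_
      congr 1
    rw [this]
    have := (RootPairing.Base.isPos_iff b).1 hi
    omega
  · rw [hval]
    refine Finset.sum_nonneg fun j _ => ?_
    split_ifs with hj
    · -- positive root: induction
      refine hj.induction_on_add (p := fun j => 0 ≤ P.coroot' j ω) (fun i hi => hω i hi) ?_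
      intro i j k hk hi hj
      have hlen := Groth.Agent.LD.RD.len_mul_coroot'_add hk ω
      have hj' : 0 ≤ P.coroot' j ω := hω j hj
      have h1 := Groth.Agent.LD.RD.len_pos (P := P) i
      have h2 := Groth.Agent.LD.RD.len_pos (P := P) j
      have h3 := Groth.Agent.LD.RD.len_pos (P := P) k
      have : 0 ≤ P.RootForm (P.root k) (P.root k) * P.coroot' k ω := by
        rw [hlen]; positivity
      exact nonneg_of_mul_nonneg_right this h3
    · exact le_refl _

end Groth.Agent.S11243
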