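import Groth.Statements.S1125
import Mathlib
import Groth.Agent.Lib.Helper1.FpqcDescent

set_option autoImplicit false
open CategoryTheory CategoryTheory.Limits AlgebraicGeometry Opposite
universe u
open Desc

namespace Groth.Agent.S1125

/-- If the base change of a morphism along a flat, surjective morphism locally of finite presentation is
an immersion, then the morphism is an immersion. (Single-cover form of the fppf-local statement;
Zariski-locality on the target gives the covering form.) -/
theorem result :
    MorphismProperty.DescendsAlong (@IsImmersion : MorphismProperty Scheme.{u})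
      (@Surjective ⊓ @Flat ⊓ @LocallyOfFinitePresentation : MorphismProperty Scheme.{u}) := by
  constructor
  intro A X Y Z fst snd f g h hf hfst
  haveI : Surjective f := hf.1.1
  haveI : Flat f := hf.1.2
  haveI : LocallyOfFinitePresentation f := hf.2
  haveI : IsImmersion fst := hfst
  haveI : UniversallyOpen f := inferInstance
  have hopen : IsOpenMap f := f.isOpenMap
  have hquot : Topology.IsQuotientMap f := hopen.isQuotientMap f.continuous f.surjective
  -- range fst = f⁻¹ (range g)
  have hrange : Set.range fst = f ⁻¹' Set.range g := by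
    rw [← h.isoPullback_hom_fst, Scheme.Hom.comp_base, TopCat.coe_comp, Set.range_comp,
      Set.range_eq_univ.mpr h.isoPullback.hom.surjective, Set.image_univ,
      Scheme.Pullback.range_fst]
  -- the boundary
  let B : Set Z := closure (Set.range g) \ Set.range g
  have hB : f ⁻¹' B = closure (Set.range fst) \ Set.range fst := by
    rw [Set.preimage_sdiff, hopen.preimage_closure_eq_closure_preimage f.continuous, ← hrange]
  have hBcl : IsClosed B := by
    rw [← hquot.isClosed_preimage, hB]
    have := fst.isLocallyClosed_range.isOpen_coborder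
    rw [coborder] at this
    exact isOpen_compl_iff.mp this
  let U : Z.Opens := ⟨Bᶜ, hBcl.isOpen_compl⟩
  have hgU : Set.range g ⊆ U := by
    rintro _ ⟨y, rfl⟩ hy
    exact hy.2 ⟨y, rfl⟩
  let gU : Y ⟶ U := IsOpenImmersion.lift U.ι g (by simpa using hgU)
  have hgU' : gU ≫ U.ι = g := IsOpenImmersion.lift_fac _ _ _
  have hfstU : Set.range fst ⊆ ((f ⁻¹ᵁ U : X.Opens) : Set X) := by
    rintro _ ⟨a, rfl⟩
    change f (fst a) ∈ U
    have : f (fst a) = g (snd a) := by
      rw [← Scheme.Hom.comp_apply, h.w, Scheme.Hom.comp_apply]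
    rw [this]
    exact hgU ⟨_, rfl⟩
  let fstU : A ⟶ f ⁻¹ᵁ U := IsOpenImmersion.lift (f ⁻¹ᵁ U).ι fst (by simpa using hfstU)
  have hfstU' : fstU ≫ (f ⁻¹ᵁ U).ι = fst := IsOpenImmersion.lift_fac _ _ _
  have hsq : fstU ≫ (f ∣_ U) = snd ≫ gU := by
    rw [← cancel_mono U.ι, Category.assoc, Category.assoc, hgU', morphismRestrict_ι,
      reassoc_of% hfstU', h.w]
  have hleft : IsPullback fstU snd (f ∣_ U) gU := by
    refine IsPullback.of_right ?_ hsq (isPullback_morphismRestrict f U).flip
    rw [hfstU', hgU']
    exact h
  haveI : IsImmersion (fstU ≫ (f ⁻¹ᵁ U).ι) := by rw [hfstU']; infer_instance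
  haveI : IsImmersion fstU := IsImmersion.of_comp fstU (f ⁻¹ᵁ U).ι
  have hcl : IsClosed (Set.range fstU) := by
    have h1 : Set.range fstU = (f ⁻¹ᵁ U).ι ⁻¹' (closure (Set.range fst)) := by
      ext x
      constructor
      · rintro ⟨a, rfl⟩
        apply subset_closure
        refine ⟨a, ?_⟩
        rw [← hfstU', Scheme.Hom.comp_apply]
      · intro hx
        have hxU : f ((f ⁻¹ᵁ U).ι x) ∈ U := x.2
        have hx2 : (f ⁻¹ᵁ U).ι x ∈ Set.range fst := by
          by_contra hx3
          have : (f ⁻¹ᵁ U).ι x ∈ f ⁻¹' B := by rw [hB]; exact ⟨hx, hx3⟩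
          exact hxU this
        obtain ⟨a, ha⟩ := hx2
        refine ⟨a, ?_⟩
        apply (f ⁻¹ᵁ U).ι.injective
        rw [← ha, ← hfstU', Scheme.Hom.comp_apply]
    rw [h1]
    exact isClosed_closure.preimage (f ⁻¹ᵁ U).ι.continuous
  haveI : IsClosedImmersion fstU := IsClosedImmersion.of_isPreimmersion _ hcl
  haveI := Groth.Agent.H1.descendsAlong_isClosedImmersion.{u}
  haveI : Surjective (f ∣_ U) :=
    MorphismProperty.of_isPullback (P := @Surjective) (isPullback_morphismRestrict f U).flip
      inferInstance
  haveI : IsClosedImmersion gU :=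
    MorphismProperty.of_isPullback_of_descendsAlong (P := @IsClosedImmersion)
      (Q := (@Surjective ⊓ @Flat ⊓ @LocallyOfFinitePresentation : MorphismProperty Scheme.{u}))
      hleft ⟨⟨inferInstance, inferInstance⟩, inferInstance⟩ inferInstance
  rw [← hgU']
  infer_instance

end Groth.Agent.S1125
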