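import Groth.Statements.S11277
import Mathlib

set_option autoImplicit false
universe u v
open W4bk4grassmannian

namespace Groth.Agent.S11277

/-- Let K be a field, R = ⊕_{i ≥ 0} R_i an ℕ-graded commutative K-algebra which is an integral domain,
and s ∈ R_e a homogeneous element of degree e > 0. Let R_(s) ⊆ R[1/s] be the homogeneous
localization (fractions f / s^k with f homogeneous of degree k e). Then the image of s in R[1/s] is
transcendental over R_(s). -/
theorem result (K : Type u) [Field K] (R : Type v) [CommRing R]
    [IsDomain R] [Algebra K R] (𝒜 : ℕ → Submodule K R) [GradedAlgebra 𝒜] (e : ℕ) (he : 0 < e) (s : R)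
    (hs : s ∈ 𝒜 e) :
    Transcendental (HomogeneousLocalization.Away 𝒜 s) (algebraMap R (Localization.Away s) s) := by
  classical
  rintro ⟨P, hP0, hP⟩
  by_cases hs0 : s = 0
  · have : Subsingleton (HomogeneousLocalization.Away 𝒜 s) :=
      HomogeneousLocalization.subsingleton 𝒜 ⟨1, by show s ^ 1 = 0; rw [pow_one, hs0]⟩
    exact hP0 (Subsingleton.elim _ _)
  have hinj : Function.Injective (algebraMap R (Localization.Away s)) :=
    IsLocalization.injective _ (powers_le_nonZeroDivisors_of_noZeroDivisors hs0)
  set x := algebraMap R (Localization.Away s) s with hx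
  have hxunit : IsUnit x := IsLocalization.Away.algebraMap_isUnit s
  -- a common denominator
  have hev : ∀ᶠ n in Filter.atTop, ∀ i ∈ P.support,
      s ^ n • (P.coeff i).val ∈ algebraMap R (Localization.Away s) '' (𝒜 (n • e) : Set R) := by
    rw [Filter.eventually_all_finset]
    intro i _
    exact HomogeneousLocalization.Away.eventually_smul_mem hs (P.coeff i)
  obtain ⟨N, hN⟩ := hev.exists
  choose! g hg using hN
  -- the equation in R
  have hsum : ∑ i ∈ P.support, g i * s ^ i = 0 := by
    apply hinj
    rw [map_zero, map_sum]
    have h1 : x ^ N * Polynomial.aeval x P = 0 := by rw [hP, mul_zero]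
    rw [Polynomial.aeval_eq_sum_range, ← Finset.sum_subset (s₁ := P.support)] at h1
    rotate_left
    · intro i hi
      rw [Finset.mem_range, Nat.lt_succ_iff]
      exact Polynomial.le_natDegree_of_mem_supp _ hi
    · intro i _ hi
      rw [Polynomial.notMem_support_iff.1 hi]
      exact zero_smul (HomogeneousLocalization.Away 𝒜 s) (x ^ i)
    rw [Finset.mul_sum] at h1
    rw [← h1]
    refine Finset.sum_congr rfl fun i hi => ?_
    rw [map_mul, map_pow, (hg i hi).2, Algebra.smul_def, Algebra.smul_def, map_pow,
      HomogeneousLocalization.algebraMap_apply]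
    ring
  have hcoef : ∀ j ∈ P.support, g j * s ^ j = 0 := by
    intro j hj
    have hmem : ∀ i ∈ P.support, g i * s ^ i ∈ 𝒜 (N • e + i • e) := fun i hi =>
      SetLike.mul_mem_graded (hg i hi).1 (SetLike.pow_mem_graded i hs)
    have := congrArg (fun r => (DirectSum.decompose 𝒜 r (N • e + j • e) : R)) hsum
    simp only [DirectSum.decompose_sum, DirectSum.decompose_zero] at this
    rw [DFinsupp.finsetSum_apply, AddSubmonoidClass.coe_finsetSum, DirectSum.zero_apply,
      ZeroMemClass.coe_zero, Finset.sum_eq_single j] at this
    · rwa [DirectSum.decompose_of_mem_same 𝒜 (hmem j hj)] at this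
    · intro i hi hij
      rw [DirectSum.decompose_of_mem_ne 𝒜 (hmem i hi)]
      intro h
      apply hij
      have : i • e = j • e := Nat.add_left_cancel h
      exact Nat.eq_of_mul_eq_mul_right he this
    · intro h; exact absurd hj h
  apply hP0
  refine Polynomial.ext fun j => ?_
  rw [Polynomial.coeff_zero]
  by_contra hne
  have hj : j ∈ P.support := Polynomial.mem_support_iff.2 hne
  have h1 := hcoef j hj
  have h2 : g j = 0 := by
    rcases mul_eq_zero.1 h1 with h | h
    · exact h
    · exact absurd (pow_eq_zero_iff (n := j) (by
        rintro rfl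
        rw [pow_zero] at h
        exact one_ne_zero h) |>.1 h) hs0
  have h3 := (hg j hj).2
  rw [h2, map_zero, Algebra.smul_def, map_pow] at h3
  have h4 : (P.coeff j).val = 0 := by
    have := (hxunit.pow N).mul_left_cancel (a := x ^ N) (b := (P.coeff j).val) (c := 0)
    apply this
    rw [mul_zero]
    exact h3.symm
  exact hne (HomogeneousLocalization.val_injective _ (by rw [h4, HomogeneousLocalization.val_zero]))

end Groth.Agent.S11277
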