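import Groth.Statements.S11288
import Mathlib
import Groth.Agent.Lib.Helper6.DerivationExists

set_option autoImplicit false
universe u
open Deform

namespace Groth.Agent.S11288

/-- Let K be a field, R' a local Artinian K-algebra with residue field K, and t a nonzero element of the
maximal ideal m' of R' with m' t = 0, so that R' → R = R'/(t) is a small extension of R. Then the
extension is trivial, i.e. the projection admits a section which is a K-algebra map, if and only if
t is not in m'^2; equivalently, iff the surjection m'/m'^2 → m_R/m_R^2 induced on cotangent spaces,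
whose kernel is spanned by the class of t, is not bijective. For instance K[t]/(t^(n+1)) →
K[t]/(t^n) is a non-trivial small extension for n ≥ 2. (The published example allows any local
K-algebra with residue field K; the row takes R' Artinian, the case in which the subalgebra
generated by lifts of a basis of the cotangent space maps onto R.) -/
theorem result
    {K : Type u} [Field K]
    {R' : Type u} [CommRing R'] [Algebra K R'] [IsLocalRing R'] [IsArtinianRing R']
    (hres : ∀ a : R', ∃ c : K, a - algebraMap K R' c ∈ IsLocalRing.maximalIdeal R')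
    (t : R') (ht : t ∈ IsLocalRing.maximalIdeal R') (ht0 : t ≠ 0)
    (htm : ∀ a ∈ IsLocalRing.maximalIdeal R', a * t = 0) :
    (∃ s : (R' ⧸ Ideal.span {t}) →ₐ[K] R', ∀ x, Ideal.Quotient.mk (Ideal.span {t}) (s x) = x) ↔
      t ∉ IsLocalRing.maximalIdeal R' ^ 2 := by
  constructor
  · rintro ⟨s, hs⟩ htsq
    apply ht0
    let e : R' →ₐ[K] R' := s.comp (Ideal.Quotient.mkₐ K (Ideal.span {t}))
    have het : e t = 0 := by
      change s (Ideal.Quotient.mk _ t) = 0
      have h0 : Ideal.Quotient.mk (Ideal.span {t}) t = 0 :=
        Ideal.Quotient.eq_zero_iff_mem.2 (Ideal.mem_span_singleton_self t)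
      rw [h0, map_zero]
    have hdiff : ∀ a : R', ∃ r : R', e a = a + r * t := by
      intro a
      have h1 : Ideal.Quotient.mk (Ideal.span {t}) (e a) = Ideal.Quotient.mk _ a := hs _
      rw [Ideal.Quotient.eq] at h1
      obtain ⟨r, hr⟩ := Ideal.mem_span_singleton'.1 h1
      exact ⟨r, by rw [hr]; ring⟩
    have hfix : ∀ x ∈ IsLocalRing.maximalIdeal R' ^ 2, e x = x := by
      intro x hx
      rw [pow_two] at hx
      refine Submodule.mul_induction_on hx (fun a ha b hb => ?_) (fun x y hx hy => ?_)
      · obtain ⟨r, hr⟩ := hdiff a
        obtain ⟨r', hr'⟩ := hdiff b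
        rw [map_mul, hr, hr']
        have h1 : a * t = 0 := htm a ha
        have h2 : b * t = 0 := htm b hb
        have h3 : t * t = 0 := htm t ht
        linear_combination r' * h1 + r * h2 + r * r' * h3
      · rw [map_add, hx, hy]
    rw [← hfix t htsq, het]
  · intro htsq
    -- residue map to K
    have hbij : Function.Bijective (algebraMap K (IsLocalRing.ResidueField R')) := by
      refine ⟨(algebraMap K (IsLocalRing.ResidueField R')).injective, ?_⟩
      intro z
      obtain ⟨a, rfl⟩ := IsLocalRing.residue_surjective z
      obtain ⟨c, hc⟩ := hres a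
      refine ⟨c, ?_⟩
      rw [IsScalarTower.algebraMap_apply K R' (IsLocalRing.ResidueField R')]
      symm
      rw [← sub_eq_zero]
      change IsLocalRing.residue R' a - IsLocalRing.residue R' (algebraMap K R' c) = 0
      rw [← map_sub]
      exact (IsLocalRing.residue_eq_zero_iff _).2 hc
    let eK : K ≃+* IsLocalRing.ResidueField R' := RingEquiv.ofBijective _ hbij
    let ρ : R' →+* K := (eK.symm : IsLocalRing.ResidueField R' →+* K).comp (IsLocalRing.residue R')
    have hρalg : ∀ c : K, ρ (algebraMap K R' c) = c := by
      intro c
      change eK.symm (IsLocalRing.residue R' (algebraMap K R' c)) = c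
      rw [RingEquiv.symm_apply_eq]
      exact (IsScalarTower.algebraMap_apply K R' (IsLocalRing.ResidueField R') c).symm
    have hρker : ∀ a : R', ρ a = 0 ↔ a ∈ IsLocalRing.maximalIdeal R' := by
      intro a
      change eK.symm (IsLocalRing.residue R' a) = 0 ↔ _
      rw [map_eq_zero_iff _ eK.symm.injective, IsLocalRing.residue_eq_zero_iff]
    letI : Algebra R' K := ρ.toAlgebra
    haveI : IsScalarTower K R' K := IsScalarTower.of_algebraMap_eq (fun c => (hρalg c).symm)
    have hx : t ∉ Ideal.map (algebraMap K R') (IsLocalRing.maximalIdeal K) ⊔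
        IsLocalRing.maximalIdeal R' ^ 2 := by
      rw [IsLocalRing.maximalIdeal_eq_bot, Ideal.map_bot, bot_sup_eq]
      exact htsq
    obtain ⟨D, hD⟩ := Groth.Agent.H6.DerEx.exists_derivation (R := K) (S := R') (K := K)
      (fun c => ⟨c, rfl⟩) ht hx
    -- a * t = ρ a • t
    have hat : ∀ a : R', a * t = algebraMap K R' (ρ a) * t := by
      intro a
      have : a - algebraMap K R' (ρ a) ∈ IsLocalRing.maximalIdeal R' := by
        rw [← hρker, map_sub, hρalg, sub_self]
      have := htm _ this
      linear_combination this
    have htt : t * t = 0 := htm t ht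
    have hDmul : ∀ a b : R', D (a * b) = ρ a * D b + ρ b * D a := by
      intro a b
      rw [D.leibniz]
      rfl
    let c0 : K := (D t)⁻¹
    let s'fun : R' → R' := fun a => a - algebraMap K R' (c0 * D a) * t
    let s' : R' →ₐ[K] R' :=
      { toFun := s'fun
        map_one' := by simp [s'fun]
        map_mul' := fun a b => by
          simp only [s'fun, hDmul]
          have h1 := hat a
          have h2 := hat b
          simp only [map_mul, map_add] at *
          linear_combination ((algebraMap K R' c0) * algebraMap K R' (D b)) * h1 +
            ((algebraMap K R' c0) * algebraMap K R' (D a)) * h2 -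
            (algebraMap K R' c0 * algebraMap K R' (D a) * algebraMap K R' c0 * algebraMap K R' (D b)) * htt
        map_zero' := by simp [s'fun]
        map_add' := fun a b => by simp only [s'fun, map_add, mul_add]; ring
        commutes' := fun c => by
          simp [s'fun] }
    have hs't : s' t = 0 := by
      change t - algebraMap K R' (c0 * D t) * t = 0
      rw [inv_mul_cancel₀ hD, map_one, one_mul, sub_self]
    let s : (R' ⧸ Ideal.span {t}) →ₐ[K] R' := Ideal.Quotient.liftₐ (Ideal.span {t}) s' (by
      intro a ha
      obtain ⟨r, rfl⟩ := Ideal.mem_span_singleton'.1 ha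
      rw [map_mul, hs't, mul_zero])
    refine ⟨s, fun x => ?_⟩
    obtain ⟨a, rfl⟩ := Ideal.Quotient.mk_surjective x
    change Ideal.Quotient.mk _ (a - algebraMap K R' (c0 * D a) * t) = _
    rw [Ideal.Quotient.eq]
    have : a - algebraMap K R' (c0 * D a) * t - a = -(algebraMap K R' (c0 * D a)) * t := by ring
    rw [this]
    exact Ideal.mul_mem_left _ _ (Ideal.subset_span rfl)

end Groth.Agent.S11288
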