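import Groth.Statements.S11294
import Mathlib

set_option autoImplicit false
universe u
open Deform

namespace Groth.Agent.S11294

open TrivSqZeroExt in
/-- Let P be a commutative ring, J an ideal, and P[ε] the ring of dual numbers over P. First-order
embedded deformations of Spec(P/J) in Spec P, namely ideals J' of P[ε] lifting J (the image of J'
under ε ↦ 0 is J) with P[ε]/J' flat over the dual numbers — flatness being replaced by the condition
that every element of P[ε]/J' annihilated by ε is a multiple of ε (equivalent to flatness over k[ε]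
when P is an algebra over a field k) — are in canonical bijection with Hom_P(J, P/J) =
Hom_{P/J}(J/J^2, P/J), the normal module: to φ corresponds the ideal of all a + εb with a in J and b
reducing to φ(a) modulo J. The first clause says this rule defines exactly one ideal for each φ; the
second says an ideal J' is a flat lift of J precisely when its membership is given by this rule for
some φ. (The published statement is the global one, identifying first-order deformations of a closed
subscheme X of an algebraic scheme Y with H^0(X, N_{X/Y}); this row is the affine computation in its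
proof, valid for every commutative ring P.) -/
theorem result (P : Type u) [CommRing P] (J : Ideal P) :
    (∀ φ : J →ₗ[P] (P ⧸ J), ∃! J' : Ideal (DualNumber P),
        ∀ a b : P, (inl a + inr b : DualNumber P) ∈ J' ↔ ∃ h : a ∈ J, Ideal.Quotient.mk J b = φ ⟨a, h⟩) ∧
    (∀ J' : Ideal (DualNumber P),
      (J'.map (TrivSqZeroExt.fstHom P P P) = J ∧
        ∀ m : DualNumber P ⧸ J', Ideal.Quotient.mk J' DualNumber.eps * m = 0 →
          ∃ m' : DualNumber P ⧸ J', m = Ideal.Quotient.mk J' DualNumber.eps * m') ↔
      ∃ φ : J →ₗ[P] (P ⧸ J), ∀ a b : P,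
        (inl a + inr b : DualNumber P) ∈ J' ↔ ∃ h : a ∈ J, Ideal.Quotient.mk J b = φ ⟨a, h⟩) := by
  have hrep : ∀ x : DualNumber P, x = inl x.fst + inr x.snd := fun x =>
    (TrivSqZeroExt.inl_fst_add_inr_snd_eq x).symm
  have hmul : ∀ a b c d : P,
      (inl c + inr d : DualNumber P) * (inl a + inr b) = inl (c * a) + inr (c * b + d * a) := by
    intro a b c d
    ext
    · simp
    · simp [mul_comm, add_comm]
  have heps : ∀ a b : P, (DualNumber.eps : DualNumber P) * (inl a + inr b) = inl 0 + inr a := by
    intro a b
    have := hmul a b 0 1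
    rw [inl_zero, zero_add] at this
    rw [DualNumber.eps, this]
    simp
  have hfst : ∀ a b : P, TrivSqZeroExt.fstHom P P P (inl a + inr b : DualNumber P) = a := by
    intro a b; simp
  have hmapmem : ∀ (J' : Ideal (DualNumber P)) (a : P),
      a ∈ J'.map (TrivSqZeroExt.fstHom P P P) ↔ ∃ b : P, (inl a + inr b : DualNumber P) ∈ J' := by
    intro J' a
    have hsurj : Function.Surjective (TrivSqZeroExt.fstHom P P P) := fun a => ⟨inl a, by simp⟩
    rw [Ideal.mem_map_iff_of_surjective _ hsurj]
    constructor
    · rintro ⟨x, hx, rfl⟩
      refine ⟨x.snd, ?_⟩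
      have := hrep x
      simp only [fstHom_apply]
      rwa [← this]
    · rintro ⟨b, hb⟩
      exact ⟨_, hb, hfst a b⟩
  refine ⟨?_, ?_⟩
  · intro φ
    let J' : Ideal (DualNumber P) :=
      { carrier := {x | ∃ a b : P, x = inl a + inr b ∧ ∃ h : a ∈ J, Ideal.Quotient.mk J b = φ ⟨a, h⟩}
        add_mem' := by
          rintro _ _ ⟨a, b, rfl, ha, hb⟩ ⟨a', b', rfl, ha', hb'⟩
          refine ⟨a + a', b + b', by ext <;> simp, J.add_mem ha ha', ?_⟩
          rw [map_add, hb, hb', ← map_add]
          rfl
        zero_mem' := ⟨0, 0, by ext <;> simp, J.zero_mem, by rw [map_zero]; exact (map_zero φ).symm⟩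
        smul_mem' := by
          rintro c _ ⟨a, b, rfl, ha, hb⟩
          refine ⟨c.fst * a, c.fst * b + c.snd * a, ?_, J.mul_mem_left _ ha, ?_⟩
          · rw [smul_eq_mul]
            conv_lhs => rw [hrep c]
            exact hmul a b c.fst c.snd
          · rw [map_add, map_mul, hb]
            have h1 : Ideal.Quotient.mk J (c.snd * a) = 0 := by
              rw [Ideal.Quotient.eq_zero_iff_mem]
              exact J.mul_mem_left _ ha
            rw [h1, add_zero]
            have : (⟨c.fst * a, J.mul_mem_left _ ha⟩ : J) = c.fst • ⟨a, ha⟩ := rfl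
            rw [this, map_smul]
            rfl }
    have hJ' : ∀ a b : P, (inl a + inr b : DualNumber P) ∈ J' ↔
        ∃ h : a ∈ J, Ideal.Quotient.mk J b = φ ⟨a, h⟩ := by
      intro a b
      constructor
      · rintro ⟨a', b', he, ha', hb'⟩
        have h1 : a = a' := by simpa using congrArg TrivSqZeroExt.fst he
        have h2 : b = b' := by simpa using congrArg TrivSqZeroExt.snd he
        subst h1 h2
        exact ⟨ha', hb'⟩
      · rintro ⟨ha, hb⟩
        exact ⟨a, b, rfl, ha, hb⟩
    refine ⟨J', hJ', ?_⟩
    intro J'' hJ''
    ext x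
    rw [hrep x, hJ'', hJ']
  · intro J'
    constructor
    · rintro ⟨hmap, htors⟩
      -- elements ε j for j ∈ J lie in J'
      have hepsJ : ∀ j ∈ J, (inl 0 + inr j : DualNumber P) ∈ J' := by
        intro j hj
        rw [← hmap, hmapmem] at hj
        obtain ⟨d, hd⟩ := hj
        rw [← heps j d]
        exact J'.mul_mem_left _ hd
      -- if ε b ∈ J' then b ∈ J
      have hJeps : ∀ b : P, (inl 0 + inr b : DualNumber P) ∈ J' → b ∈ J := by
        intro b hb
        have h0 : Ideal.Quotient.mk J' DualNumber.eps * Ideal.Quotient.mk J' (inl b + inr 0) = 0 := by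
          rw [← map_mul, heps, Ideal.Quotient.eq_zero_iff_mem]
          exact hb
        obtain ⟨m', hm'⟩ := htors _ h0
        obtain ⟨y, rfl⟩ := Ideal.Quotient.mk_surjective m'
        rw [← map_mul, hrep y, heps, Ideal.Quotient.eq] at hm'
        have : (inl b + inr 0 - (inl 0 + inr y.fst) : DualNumber P) = inl b + inr (-y.fst) := by
          ext <;> simp
        rw [this] at hm'
        rw [← hmap, hmapmem]
        exact ⟨_, hm'⟩
      have hex : ∀ a : J, ∃ b : P, (inl (a : P) + inr b : DualNumber P) ∈ J' := by
        intro a
        exact (hmapmem J' (a : P)).1 (by rw [hmap]; exact a.2)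
      choose f hf using hex
      have hchar : ∀ (a : P) (b : P) (h : a ∈ J), (inl a + inr b : DualNumber P) ∈ J' ↔
          Ideal.Quotient.mk J b = Ideal.Quotient.mk J (f ⟨a, h⟩) := by
        intro a b h
        have h0 := hf ⟨a, h⟩
        have hdiff : (inl a + inr b : DualNumber P) - (inl a + inr (f ⟨a, h⟩)) = inl 0 + inr (b - f ⟨a, h⟩) := by
          ext <;> simp
        constructor
        · intro hb
          rw [Ideal.Quotient.eq]
          apply hJeps
          rw [← hdiff]
          exact J'.sub_mem hb h0
        · intro hb
          rw [Ideal.Quotient.eq] at hb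
          have := J'.add_mem (hepsJ _ hb) h0
          rw [← hdiff, sub_add_cancel] at this
          exact this
      have hmemJ : ∀ a b : P, (inl a + inr b : DualNumber P) ∈ J' → a ∈ J := by
        intro a b hab
        rw [← hmap, hmapmem]
        exact ⟨b, hab⟩
      let φ : J →ₗ[P] (P ⧸ J) :=
        { toFun := fun a => Ideal.Quotient.mk J (f a)
          map_add' := by
            intro a a'
            have := J'.add_mem (hf a) (hf a')
            have e : (inl (a : P) + inr (f a) : DualNumber P) + (inl (a' : P) + inr (f a'))
                = inl ((a + a' : J) : P) + inr (f a + f a') := by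
              ext <;> simp
            rw [e, hchar _ _ (a + a').2] at this
            rw [← map_add, this]
          map_smul' := by
            intro c a
            have := J'.mul_mem_left (inl c + inr 0) (hf a)
            rw [hmul] at this
            have e : (inl (c * (a : P)) + inr (c * f a + 0 * (a : P)) : DualNumber P)
                = inl ((c • a : J) : P) + inr (c * f a) := by
              ext <;> simp
            rw [e, hchar _ _ (c • a).2] at this
            rw [RingHom.id_apply, ← this, map_mul]
            rfl }
      refine ⟨φ, fun a b => ?_⟩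
      constructor
      · intro hab
        have ha := hmemJ a b hab
        exact ⟨ha, (hchar a b ha).1 hab⟩
      · rintro ⟨ha, hb⟩
        exact (hchar a b ha).2 hb
    · rintro ⟨φ, hφ⟩
      refine ⟨?_, ?_⟩
      · ext a
        rw [hmapmem]
        constructor
        · rintro ⟨b, hb⟩
          exact ((hφ a b).1 hb).1
        · intro ha
          obtain ⟨b, hb⟩ := Ideal.Quotient.mk_surjective (φ ⟨a, ha⟩)
          exact ⟨b, (hφ a b).2 ⟨ha, hb⟩⟩
      · intro m hm
        obtain ⟨x, rfl⟩ := Ideal.Quotient.mk_surjective m
        rw [← map_mul, hrep x, heps, Ideal.Quotient.eq_zero_iff_mem, hφ] at hm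
        obtain ⟨h0, hm'⟩ := hm
        have hzero : φ ⟨0, h0⟩ = 0 := map_zero φ
        rw [hzero, Ideal.Quotient.eq_zero_iff_mem] at hm'
        obtain ⟨c, hc⟩ := Ideal.Quotient.mk_surjective (Ideal.Quotient.mk J x.snd - φ ⟨x.fst, hm'⟩)
        refine ⟨Ideal.Quotient.mk J' (inl c + inr 0), ?_⟩
        rw [← map_mul, heps, Ideal.Quotient.eq]
        have : (x - (inl 0 + inr c) : DualNumber P) = inl x.fst + inr (x.snd - c) := by
          ext <;> simp
        rw [this, hφ]
        refine ⟨hm', ?_⟩
        rw [map_sub, hc]
        ring

end Groth.Agent.S11294
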