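import Groth.Statements.S11306
import Mathlib

set_option autoImplicit false
universe u
open TensorProduct
open CAlg

namespace Groth.Agent.S11306

/-- Take a Noetherian local domain A, with residue field k and fraction field K, and let M be a finitely
generated A-module. If k ⊗_A M and K ⊗_A M have the same dimension r (over k and over K
respectively), then M is a free A-module of rank r. -/
theorem result (A : Type u) [CommRing A] [IsDomain A]
    [IsNoetherianRing A] [IsLocalRing A] (M : Type u) [AddCommGroup M] [Module A M] [Module.Finite A M] (r : ℕ)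
    (hk : Module.finrank (IsLocalRing.ResidueField A) (IsLocalRing.ResidueField A ⊗[A] M) = r)
    (hK : Module.finrank (FractionRing A) (FractionRing A ⊗[A] M) = r) :
    Module.Free A M ∧ Module.finrank A M = r := by
  classical
  let k := IsLocalRing.ResidueField A
  let K := FractionRing A
  let b : Module.Basis (Fin r) k (k ⊗[A] M) := Module.finBasisOfFinrankEq k (k ⊗[A] M) hk
  have hsurj : Function.Surjective (TensorProduct.mk A k M 1) :=
    TensorProduct.mk_surjective A M k IsLocalRing.residue_surjective
  choose f hf using fun i => hsurj (b i)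
  have hspan : Submodule.span A (Set.range f) = ⊤ :=
    IsLocalRing.span_eq_top_of_tmul_eq_basis f b hf
  let π : (Fin r → A) →ₗ[A] M := Fintype.linearCombination A f
  have hπ : Function.Surjective π := by
    rw [← LinearMap.range_eq_top, Fintype.range_linearCombination, hspan]
  let Φ : (Fin r → K) →ₗ[K] K ⊗[A] M := Fintype.linearCombination K (fun i => (1 : K) ⊗ₜ[A] f i)
  have hΦπ : ∀ x : Fin r → A, Φ (fun i => algebraMap A K (x i)) = (1 : K) ⊗ₜ[A] π x := by
    intro x
    simp only [Φ, π, Fintype.linearCombination_apply, TensorProduct.tmul_sum]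
    apply Finset.sum_congr rfl
    intro i _
    rw [TensorProduct.tmul_smul]
    exact algebraMap_smul K (x i) ((1 : K) ⊗ₜ[A] f i)
  have hΦsurj : Function.Surjective Φ := by
    rw [← LinearMap.range_eq_top, eq_top_iff]
    intro z _
    induction z using TensorProduct.induction_on with
    | zero => exact Submodule.zero_mem _
    | add x y hx hy => exact Submodule.add_mem _ (hx trivial) (hy trivial)
    | tmul c m =>
      obtain ⟨x, rfl⟩ := hπ m
      have : c ⊗ₜ[A] π x = c • ((1 : K) ⊗ₜ[A] π x) := by
        rw [TensorProduct.smul_tmul', smul_eq_mul, mul_one]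
      rw [this, ← hΦπ]
      exact Submodule.smul_mem _ _ ⟨_, rfl⟩
  have hΦinj : Function.Injective Φ := by
    have hfin : Module.finrank K (Fin r → K) = Module.finrank K (K ⊗[A] M) := by
      rw [Module.finrank_fin_fun, hK]
    exact (LinearMap.injective_iff_surjective_of_finrank_eq_finrank hfin).mpr hΦsurj
  have hπinj : Function.Injective π := by
    rw [← LinearMap.ker_eq_bot, LinearMap.ker_eq_bot']
    intro x hx
    have h1 : Φ (fun i => algebraMap A K (x i)) = 0 := by
      rw [hΦπ, hx, TensorProduct.tmul_zero]
    have h2 : (fun i => algebraMap A K (x i)) = 0 := hΦinj (h1.trans (map_zero Φ).symm)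
    funext i
    have h3 := congrFun h2 i
    exact IsFractionRing.injective A K (h3.trans (map_zero _).symm)
  let e : (Fin r → A) ≃ₗ[A] M := LinearEquiv.ofBijective π ⟨hπinj, hπ⟩
  refine ⟨Module.Free.of_equiv e, ?_⟩
  rw [← e.finrank_eq, Module.finrank_fin_fun]

end Groth.Agent.S11306
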