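import Groth.Statements.S11347
import Groth.Agent.Lib.Helper5.Curve6.Ext2
import Groth.Agent.Lib.Helper5.Eig.RegSm

set_option autoImplicit false
universe u
open CategoryTheory CategoryTheory.Limits AlgebraicGeometry
open Curves

namespace Groth.Agent.S11347

open Groth.Agent.LD Groth.Agent.LD.QC Groth.Agent.H5.Curve2 Groth.Agent.H5.Curve4 Groth.Agent.H5.DegC Groth.Agent.H5.Curve6 Groth.Agent.H5.IntN Groth.Agent.H5.Snap

/-- Let C be a genus-g curve over an algebraically closed field k (integral, proper over k, of dimension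
one, all local rings regular), and E a locally free O_C-module of rank 2 which is normalized —
H^0(C, E) ≠ 0 while H^0(C, E ⊗ M) = 0 for every invertible M with deg M < 0 — and indecomposable —
not isomorphic to a direct sum of two invertible modules. Then the invariant e = -deg E of the ruled
surface P(E) satisfies -2g ≤ e ≤ 2g - 2; here deg E = χ(E) - 2 χ(O_C). -/
theorem result (k : Type u) [Field k] [IsAlgClosed k] (C : Scheme.{u}) [C.Over (Spec (CommRingCat.of k))]
    [IsIntegral C] [IsProper (C ↘ (Spec (CommRingCat.of k)))] (hdimC : topologicalKrullDim C = 1)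
    (hregC : ∀ x : C, IsRegularLocalRing (C.presheaf.stalk x))
    (E : C.Modules) (hE : FlatMod.IsFinLocFreeOfRank 2 E)
    (hn0 : Nontrivial (Coh.HH C E 0))
    (hneg : ∀ M : C.Modules, PicF.IsInvertible M → Curv2.deg k C M 1 < 0 → Subsingleton (Coh.HH C (CohB1.tensorMod E M) 0))
    (hind : ∀ L₁ L₂ : C.Modules, PicF.IsInvertible L₁ → PicF.IsInvertible L₂ → IsEmpty (E ≅ L₁ ⊞ L₂)) :
    2 - 2 * (Curv2.genus k C : ℤ) ≤ Curv2.deg k C E 2 ∧ Curv2.deg k C E 2 ≤ 2 * (Curv2.genus k C : ℤ) := by
  haveI := Curve.isLocallyNoetherian k C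
  haveI : Smooth (C ↘ Spec (CommRingCat.of k)) :=
    Groth.Agent.H5.Eig.smooth_of_regular k C _ hregC
  have hEc : Coh.IsCoh E := Curve.isCoh_of_rank hE
  haveI := hEc.1
  obtain ⟨s, hs⟩ := exists_section_ne_zero_of_nontrivial_H0 k C E hn0
  obtain ⟨M, i, hi, hM, hQ, hdle, hdeg, -, -⟩ :=
    exists_sat_line k C hdimC.le (isInvertible_unit C) hE s hs
  haveI := hi
  have h0 : Curv2.deg k C (unitMod C) 1 = 0 := Curve.deg_structureModule k C
  rw [h0] at hdle
  haveI : M.IsQuasicoherent := qc_of_isInvertible _ hM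
  -- `deg M = 0`
  have hM0 : Curv2.deg k C M 1 = 0 := by
    by_contra hne
    have hpos : 0 < Curv2.deg k C M 1 := lt_of_le_of_ne hdle (Ne.symm hne)
    obtain ⟨M', hM', ⟨e⟩⟩ := Groth.Agent.H5.Glue.exists_inverse _ hM
    haveI : M'.IsQuasicoherent := qc_of_isInvertible _ hM'
    have hd1 := deg_tensor k C hdimC.le hM hM'
    have hd2 := Curve.deg_iso k C e 1
    rw [Curve.deg_structureModule] at hd2
    change Curv2.deg k C (CohB1.tensorMod M M') 1 = 0 at hd2
    have hsub := hneg M' hM' (by linarith)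
    haveI := mono_tensorMap_of_isInvertible i M' hM'
    haveI : Mono (e.inv ≫ KoszTw.tensorMap i (𝟙 M')) := mono_comp _ _
    have hne' := ne_zero_of_mono_of_isInvertible (isInvertible_unit C)
      (e.inv ≫ KoszTw.tensorMap i (𝟙 M'))
    haveI := nontrivial_H0_of_section_ne_zero _ _ hne'
    exact false_of_nontrivial_of_subsingleton (Coh.HH C (CohB1.tensorMod E M') 0)
  constructor
  · have h1 := deg_sub_le_of_nonsplit k C hdimC i hM hQ (hind M (cokernel i) hM hQ)
    linarith
  · -- twist by the ideal of a closed point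
    haveI : Nonempty C := nonempty_of_dim_eq_one C hdimC
    haveI := Curve.compactSpace k C
    obtain ⟨x, -, hx⟩ := (isClosed_univ (X := C)).exists_closed_singleton Set.univ_nonempty
    obtain ⟨hI, L, hL, e, σ, -, -, hdegL⟩ := exists_point_bundle k C hdimC hregC x hx
    have hd1 := deg_tensor k C hdimC.le hI hL
    have hd2 := Curve.deg_iso k C e 1
    rw [Curve.deg_structureModule] at hd2
    change Curv2.deg k C (CohB1.tensorMod (ClSub.idealMod (vI x)) L) 1 = 0 at hd2
    have hdI : Curv2.deg k C (ClSub.idealMod (vI x)) 1 = -1 := by linarith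
    have hsub := hneg _ hI (by linarith)
    have hI1 : FlatMod.IsFinLocFreeOfRank 1 (ClSub.idealMod (vI x)) := (isInvertible_iff _).mp hI
    have hdT := deg_tensorMod k hdimC.le 2 1 E _ hE hI1
    haveI : (ClSub.idealMod (vI x)).IsQuasicoherent := qc_of_isInvertible _ hI
    haveI : (CohB1.tensorMod E (ClSub.idealMod (vI x))).IsQuasicoherent :=
      tensorMod_isQuasicoherent _ _
    have heu := Curve.euler_eq_sub k C hdimC.le (CohB1.tensorMod E (ClSub.idealMod (vI x)))
    have h00 : Module.finrank k (Coh.HH C (CohB1.tensorMod E (ClSub.idealMod (vI x))) 0) = 0 :=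
      Module.finrank_zero_of_subsingleton
    rw [h00] at heu
    have hOc : Coh.IsCoh (unitMod C) := Groth.Agent.H5.Curve2.isCoh_of_isInvertible (isInvertible_unit C)
    haveI : (Coh.structureModule C).IsQuasicoherent := hOc.1
    have eO := Curve.euler_eq_sub k C hdimC.le (Coh.structureModule C)
    have eO0 : Module.finrank k (Coh.HH C (Coh.structureModule C) 0) = 1 :=
      Groth.Agent.H5.Curve3.finrank_HH0_eq_one_of_isAlgClosed k C
    have hg : (Curv2.genus k C : ℤ) =
        Module.finrank k (Coh.HH C (Coh.structureModule C) 1) := rfl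
    rw [mul_one, hdI] at hdT
    unfold Curv2.deg at hdT ⊢
    rw [eO, eO0, ← hg] at hdT ⊢
    push_cast at hdT heu ⊢
    have hnn : (0 : ℤ) ≤
        Module.finrank k (Coh.HH C (CohB1.tensorMod E (ClSub.idealMod (vI x))) 1) :=
      Int.natCast_nonneg _
    linarith

end Groth.Agent.S11347
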