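import Groth.Statements.S11348
import Groth.Agent.S11347
import Groth.Agent.Lib.Helper5.Curve6.Ell1
import Groth.Agent.Lib.Helper5.Curve6.Ext2
import Groth.Agent.Lib.Helper5.Eig.RegSm

set_option autoImplicit false
universe u
open CategoryTheory CategoryTheory.Limits AlgebraicGeometry
open Curves

namespace Groth.Agent.S11348

open Groth.Agent.LD Groth.Agent.LD.QC Groth.Agent.H5.Curve2 Groth.Agent.H5.Curve4 Groth.Agent.H5.DegC Groth.Agent.H5.Curve6 Groth.Agent.H5.IntN Groth.Agent.H5.Snap

/-- Let C be an elliptic curve over an algebraically closed field k — integral, proper over k, of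
dimension one, all local rings regular, of genus dim_k H^1(C, O_C) = 1 — and E a locally free
O_C-module of rank 2 which is normalized (H^0(C, E) ≠ 0 while H^0(C, E ⊗ M) = 0 for every invertible
M of negative degree) and indecomposable (not isomorphic to a direct sum of two invertible modules).
Then the invariant e = -deg E is 0 or -1, i.e. deg E ∈ {0, 1}, with deg E = χ(E) - 2 χ(O_C). -/
theorem result (k : Type u) [Field k] [IsAlgClosed k] (C : Scheme.{u}) [C.Over (Spec (CommRingCat.of k))]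
    [IsIntegral C] [IsProper (C ↘ (Spec (CommRingCat.of k)))] (hdimC : topologicalKrullDim C = 1)
    (hregC : ∀ x : C, IsRegularLocalRing (C.presheaf.stalk x)) (hg : Curv2.genus k C = 1)
    (E : C.Modules) (hE : FlatMod.IsFinLocFreeOfRank 2 E)
    (hn0 : Nontrivial (Coh.HH C E 0))
    (hneg : ∀ M : C.Modules, PicF.IsInvertible M → Curv2.deg k C M 1 < 0 → Subsingleton (Coh.HH C (CohB1.tensorMod E M) 0))
    (hind : ∀ L₁ L₂ : C.Modules, PicF.IsInvertible L₁ → PicF.IsInvertible L₂ → IsEmpty (E ≅ L₁ ⊞ L₂)) :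
    Curv2.deg k C E 2 = 0 ∨ Curv2.deg k C E 2 = 1 := by
  obtain ⟨hlo, hhi⟩ := Groth.Agent.S11347.result k C hdimC hregC E hE hn0 hneg hind
  rw [hg] at hlo hhi
  push_cast at hlo hhi
  by_contra hcon
  push Not at hcon
  have hd2 : Curv2.deg k C E 2 = 2 := by omega
  haveI := Curve.isLocallyNoetherian k C
  haveI : Smooth (C ↘ Spec (CommRingCat.of k)) :=
    Groth.Agent.H5.Eig.smooth_of_regular k C _ hregC
  have hEc : Coh.IsCoh E := Curve.isCoh_of_rank hE
  haveI := hEc.1
  obtain ⟨z, hz⟩ := exists_ne (0 : Coh.HH C E 0)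
  obtain ⟨s, hsz, hs0⟩ := exists_hom_of_class k E z
  have hs : s ≠ 0 := fun h => hz (hs0 h)
  obtain ⟨M, i, hi, hM, hQ, hdle, hdeg, j, hj⟩ :=
    exists_sat_line k C hdimC.le (isInvertible_unit C) hE s hs
  haveI := hi
  have h0 : Curv2.deg k C (unitMod C) 1 = 0 := Curve.deg_structureModule k C
  rw [h0] at hdle
  haveI : M.IsQuasicoherent := qc_of_isInvertible _ hM
  -- `deg M = 0`
  have hM0 : Curv2.deg k C M 1 = 0 := by
    by_contra hne
    have hpos : 0 < Curv2.deg k C M 1 := lt_of_le_of_ne hdle (Ne.symm hne)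
    obtain ⟨M', hM', ⟨e⟩⟩ := Groth.Agent.H5.Glue.exists_inverse _ hM
    haveI : M'.IsQuasicoherent := qc_of_isInvertible _ hM'
    have hd1 := deg_tensor k C hdimC.le hM hM'
    have hd2 := Curve.deg_iso k C e 1
    rw [Curve.deg_structureModule] at hd2
    change Curv2.deg k C (CohB1.tensorMod M M') 1 = 0 at hd2
    have hsub := hneg M' hM' (by linarith)
    haveI := mono_tensorMap_of_isInvertible i M' hM'
    haveI : Mono (e.inv ≫ KoszTw.tensorMap i (𝟙 M')) := mono_comp _ _
    have hne' := ne_zero_of_mono_of_isInvertible (isInvertible_unit C)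
      (e.inv ≫ KoszTw.tensorMap i (𝟙 M'))
    haveI := nontrivial_H0_of_section_ne_zero _ _ hne'
    exact false_of_nontrivial_of_subsingleton (Coh.HH C (CohB1.tensorMod E M') 0)
  have hQ2 : Curv2.deg k C (cokernel i) 1 = 2 := by linarith
  have hOc : Coh.IsCoh (unitMod C) :=
    Groth.Agent.H5.Curve2.isCoh_of_isInvertible (isInvertible_unit C)
  haveI : (Coh.structureModule C).IsQuasicoherent := hOc.1
  have eO := Curve.euler_eq_sub k C hdimC.le (Coh.structureModule C)
  have eO0 : Module.finrank k (Coh.HH C (Coh.structureModule C) 0) = 1 :=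
    Groth.Agent.H5.Curve3.finrank_HH0_eq_one_of_isAlgClosed k C
  have hgdef : (Curv2.genus k C : ℤ) =
      Module.finrank k (Coh.HH C (Coh.structureModule C) 1) := rfl
  -- `h⁰(E) ≥ 2`
  have heuE := Curve.euler_eq_sub k C hdimC.le E
  have hE2 : 2 ≤ Module.finrank k (Coh.HH C E 0) := by
    unfold Curv2.deg at hd2
    rw [eO, eO0, ← hgdef, hg, heuE] at hd2
    push_cast at hd2
    omega
  -- `h⁰(M) ≤ 1`
  have hjne : j ≠ 0 := fun h => hs (by rw [← hj, h, zero_comp])
  have hM1 : Module.finrank k (Coh.HH C M 0) ≤ 1 := by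
    have := (finrank_H0_le_deg_add_one k C hdimC.le eO0 hM j hjne).1
    rw [hM0] at this
    omega
  let S : ShortComplex C.Modules := ShortComplex.mk i (cokernel.π i) (cokernel.condition i)
  have hS : S.ShortExact :=
    { exact := ShortComplex.exact_cokernel i
      mono_f := hi
      epi_g := inferInstanceAs (Epi (cokernel.π i)) }
  haveI : Module.Finite k (Coh.HH C E 0) := Curve.finite_HH k C _ hEc 0
  have hMc := Groth.Agent.H5.Curve2.isCoh_of_isInvertible hM
  haveI : Module.Finite k (Coh.HH C M 0) := Curve.finite_HH k C _ hMc 0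
  obtain ⟨x₀, hx₀⟩ : ∃ x₀ : Coh.HH C E 0, x₀ ∉ LinearMap.range (CL.HHmap k i 0) := by
    by_contra hall
    push Not at hall
    have htop : LinearMap.range (CL.HHmap k i 0) = ⊤ := by
      rw [eq_top_iff]; intro x _; exact hall x
    have h1 := LinearMap.finrank_range_le (CL.HHmap k i 0)
    rw [htop, finrank_top] at h1
    omega
  have hy : CL.HHmap k (cokernel.π i) 0 x₀ ≠ 0 := by
    intro h
    obtain ⟨m, hm⟩ := CL.exact₂ hS k 0 x₀ h
    exact hx₀ ⟨m, hm⟩
  obtain ⟨t, hty, ht0⟩ := exists_hom_of_class k (cokernel i) (CL.HHmap k (cokernel.π i) 0 x₀)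
  have ht : t ≠ 0 := fun h => hy (ht0 h)
  obtain ⟨P, hPt⟩ : ∃ P : C, P ∉ CohB1.genLocus (cokernel i) t := by
    by_contra hcon'
    push Not at hcon'
    have htop : CohB1.genLocus (cokernel i) t = ⊤ := by
      rw [eq_top_iff]; intro z _; exact hcon' z
    haveI : IsIso t := Groth.Agent.H5.Glue.isIso_of_genLocus_eq_top t htop
    have := Curve.deg_iso k C (asIso t) 1
    rw [Curve.deg_structureModule] at this
    change (0 : ℤ) = Curv2.deg k C (cokernel i) 1 at this
    omega
  have hPne : P ≠ genericPoint C := fun h => hPt (h ▸ genericPoint_mem_genLocus hQ t ht)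
  have hP : IsClosed ({P} : Set C) :=
    Curve.isClosed_singleton_of_ne_genericPoint hdimC.le P hPne
  obtain ⟨hI, L, hL, e, σ, -, -, hdegL⟩ := exists_point_bundle k C hdimC hregC P hP
  have hd1 := deg_tensor k C hdimC.le hI hL
  have hd2' := Curve.deg_iso k C e 1
  rw [Curve.deg_structureModule] at hd2'
  change Curv2.deg k C (CohB1.tensorMod (ClSub.idealMod (vI P)) L) 1 = 0 at hd2'
  have hdI : Curv2.deg k C (ClSub.idealMod (vI P)) 1 = -1 := by linarith
  have hsub := hneg _ hI (by linarith)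
  -- the evaluation at `P`
  let T := ClSub.quotMod (vI P)
  let πP : unitMod C ⟶ T := ClSub.toSubscheme (vI P)
  have hb := twistBy_quotMod_eq_zero k C (cokernel i) hQ t P hP hPt
  have hcomm := section_twistBy_comm t πP
  rw [hb, comp_zero, zero_comp] at hcomm
  have hnat := twistBy_naturality (cokernel.π i) πP
  let φ := KoszTw.tensorMap (cokernel.π i) (𝟙 T)
  let ev := CL.HHmap k (twistBy E πP) 0
  have hcomp : ∀ {A B D : C.Modules} (f : A ⟶ B) (g : B ⟶ D) (x : Coh.HH C A 0),
      CL.HHmap k (f ≫ g) 0 x = CL.HHmap k g 0 (CL.HHmap k f 0 x) := by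
    intro A B D f g x
    rw [CL.HHmap_comp]
    rfl
  have hzero : ∀ {A B : C.Modules} (x : Coh.HH C A 0),
      CL.HHmap k (0 : A ⟶ B) 0 x = 0 := by
    intro A B x
    exact CL.HHmapZ_zero 0 x
  have h1 : CL.HHmap k φ 0 (ev z) = 0 := by
    rw [← hsz, ← hj]
    change CL.HHmap k φ 0 (CL.HHmap k (twistBy E πP) 0 (CL.HHmap k (j ≫ i) 0 (oneClass C))) = 0
    rw [← hcomp, ← hcomp]
    have h0 : (j ≫ i) ≫ twistBy E πP ≫ φ = 0 := by
      rw [← hnat]
      simp
    rw [h0, hzero]
  have h2 : CL.HHmap k φ 0 (ev x₀) = 0 := by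
    change CL.HHmap k φ 0 (CL.HHmap k (twistBy E πP) 0 x₀) = 0
    rw [← hcomp, ← hnat, hcomp, ← hty, ← hcomp, hcomm,
      hzero]
  have hETc : Coh.IsCoh (CohB1.tensorMod E T) := isCoh_tensorMod' hEc (isCoh_quotMod (vI P))
  haveI : Module.Finite k (Coh.HH C (CohB1.tensorMod E T) 0) := Curve.finite_HH k C _ hETc 0
  let K := LinearMap.ker (CL.HHmap k φ 0)
  have hK : Module.finrank k K ≤ 1 :=
    finrank_ker_eval_le_one k C hdimC.le hE hQ (cokernel.π i) P hP
  let v1 : K := ⟨ev z, h1⟩
  let v2 : K := ⟨ev x₀, h2⟩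
  have hdep : ¬ LinearIndependent k ![v1, v2] := by
    intro hli
    have := hli.fintype_card_le_finrank
    simp only [Fintype.card_fin] at this
    omega
  rw [LinearIndependent.pair_iff] at hdep
  push Not at hdep
  obtain ⟨a, b, hab, hne⟩ := hdep
  have hab' : a • ev z + b • ev x₀ = 0 := by
    have h5 : ((a • v1 + b • v2 : K) : Coh.HH C (CohB1.tensorMod E T) 0) = ((0 : K) : _) :=
      congrArg Subtype.val hab
    rw [Submodule.coe_add, Submodule.coe_smul, Submodule.coe_smul, Submodule.coe_zero] at h5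
    exact h5
  let w := a • z + b • x₀
  have hw : w ≠ 0 := by
    intro hw0
    by_cases hb0 : b = 0
    · have ha0 : a ≠ 0 := fun h => hne h hb0
      rw [show w = a • z + b • x₀ from rfl, hb0, zero_smul, add_zero] at hw0
      exact hz ((smul_eq_zero.mp hw0).resolve_left ha0)
    · apply hx₀
      have hx : x₀ = (-(b⁻¹ * a)) • z := by
        have h3 : b • x₀ = -(a • z) := by
          rw [eq_neg_iff_add_eq_zero, add_comm]; exact hw0
        calc x₀ = b⁻¹ • (b • x₀) := by rw [smul_smul, inv_mul_cancel₀ hb0, one_smul]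
          _ = _ := by rw [h3, smul_neg, smul_smul, neg_smul]
      rw [hx]
      apply Submodule.smul_mem
      refine ⟨CL.HHmap k j 0 (oneClass C), ?_⟩
      rw [← hcomp, hj, hsz]
  have hev : CL.HHmap k (twistBy E (ClSub.toSubscheme (vI P))) 0 w = 0 := by
    change ev (a • z + b • x₀) = 0
    rw [map_add, map_smul, map_smul]
    exact hab'
  haveI := nontrivial_H0_tensor_ideal_of_eval_eq_zero k E (Curve.isFinLocFree_of_rank hE)
    (vI P) w hw hev
  exact false_of_nontrivial_of_subsingleton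
    (Coh.HH C (CohB1.tensorMod E (ClSub.idealMod (vI P))) 0)

end Groth.Agent.S11348
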