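import Groth.Statements.S11355
import Groth.Agent.Lib.Helper5.Curve6.Pencil
import Groth.Agent.Lib.Helper5.IntN.Pow

set_option autoImplicit false
universe u
open CategoryTheory CategoryTheory.Limits AlgebraicGeometry
open Curves

namespace Groth.Agent.S11355

open Groth.Agent.LD Groth.Agent.LD.QC Groth.Agent.H5.Curve2 Groth.Agent.H5.Curve4 Groth.Agent.H5.DegC Groth.Agent.H5.Curve6 Groth.Agent.H5.IntN Groth.Agent.H5.Snap

/-- Let k be an algebraically closed field and X a curve over k (an integral scheme, proper over k, of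
dimension one, with all local rings regular), of genus g ≥ 2. If X is hyperelliptic its g^1_2 is
unique: for any two linear series (M, s), (M', s') of degree 2 and dimension 1 on X (invertible
modules of degree 2, each with two k-linearly independent global sections), M ≅ M' (existence of an
isomorphism; for g ≥ 2 such a module has exactly a 2-dimensional space of sections, so the linear
series coincide). -/
theorem result (k : Type u) [Field k] [IsAlgClosed k] (X : Scheme.{u}) [X.Over (Spec (CommRingCat.of k))]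
    [IsIntegral X] [IsProper (X ↘ (Spec (CommRingCat.of k)))] (hdim : topologicalKrullDim X = 1)
    (hreg : ∀ x : X, IsRegularLocalRing (X.presheaf.stalk x)) (hg : 2 ≤ Curv2.genus k X)
    (M : X.Modules) (s : Fin 2 → LinSer.Sect X M) (hM : LinSer.IsLinSer k X M 2 1 s)
    (M' : X.Modules) (s' : Fin 2 → LinSer.Sect X M') (hM' : LinSer.IsLinSer k X M' 2 1 s') :
    Nonempty (M ≅ M') := by
  haveI := Curve.isLocallyNoetherian k X
  obtain ⟨hMi, hMd, hMs⟩ := hM
  obtain ⟨hMi', hMd', hMs'⟩ := hM'
  push_cast at hMd hMd'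
  haveI : M.IsQuasicoherent := qc_of_isInvertible M hMi
  haveI : M'.IsQuasicoherent := qc_of_isInvertible M' hMi'
  have hMc := Groth.Agent.H5.Curve2.isCoh_of_isInvertible hMi
  have hMc' := Groth.Agent.H5.Curve2.isCoh_of_isInvertible hMi'
  haveI : Module.Finite k (Coh.HH X M 0) := Curve.finite_HH k X _ hMc 0
  haveI : Module.Finite k (Coh.HH X M' 0) := Curve.finite_HH k X _ hMc' 0
  have h2 : 2 ≤ Module.finrank k (Coh.HH X M 0) := le_finrank_H0_of_linIndep k M s hMs
  have h2' : 2 ≤ Module.finrank k (Coh.HH X M' 0) := le_finrank_H0_of_linIndep k M' s' hMs'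
  obtain ⟨K, hK, hKd, hKP⟩ := pencil_trick k X hdim hreg (by omega) M hMi hMd s hMs
  haveI : K.IsQuasicoherent := qc_of_isInvertible K hK
  -- key: for invertible `N` of degree two with `h⁰ ≥ 2`, `N ⊗ K ≅ O`
  have key : ∀ N : X.Modules, PicF.IsInvertible N → Curv2.deg k X N 1 = 2 →
      2 ≤ Module.finrank k (Coh.HH X N 0) → Nonempty (CohB1.tensorMod N K ≅ unitMod X) := by
    intro N hN hNd hN2
    haveI : N.IsQuasicoherent := qc_of_isInvertible N hN
    have hD : PicF.IsInvertible (CohB1.tensorMod N M) := isInvertible_tensorMod hN hMi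
    have hE : PicF.IsInvertible (CohB1.tensorMod N K) := isInvertible_tensorMod hN hK
    haveI : (CohB1.tensorMod N M).IsQuasicoherent := qc_of_isInvertible _ hD
    have hDd : Curv2.deg k X (CohB1.tensorMod N M) 1 = 4 := by
      rw [deg_tensor k X hdim.le hN hMi]; omega
    have hEd : Curv2.deg k X (CohB1.tensorMod N K) 1 = 0 := by
      rw [deg_tensor k X hdim.le hN hK]; omega
    have hP := hKP N hN
    have hD3 : Module.finrank k (Coh.HH X (CohB1.tensorMod N M) 0) ≤ 3 := by
      by_contra hcon
      push Not at hcon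
      have hde := deg_eq_h0_sub_h1 k X hdim (CohB1.tensorMod N M)
      by_cases h1 : Module.finrank k (Coh.HH X (CohB1.tensorMod N M) 1) = 0
      · rw [h1] at hde
        push_cast at hde
        omega
      · have hc := two_mul_h0_le_deg_add_two k X hdim hreg _ hD (by omega) (by omega)
        omega
    have hE1 : 1 ≤ Module.finrank k (Coh.HH X (CohB1.tensorMod N K) 0) := by omega
    have hnt : Nontrivial (Coh.HH X (CohB1.tensorMod N K) 0) :=
      Module.nontrivial_of_finrank_pos (R := k) (by omega)
    obtain ⟨τ, hτ⟩ := exists_section_ne_zero_of_nontrivial_H0 k X _ hnt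
    obtain ⟨-, hiso⟩ := Curve.deg_le_of_ne_zero k X hdim.le (isInvertible_unit X) hE τ hτ
    haveI : IsIso τ := hiso (by rw [hEd]; exact Curve.deg_structureModule k X)
    exact ⟨(asIso τ).symm⟩
  obtain ⟨e₁⟩ := key M hMi hMd h2
  obtain ⟨e₂⟩ := key M' hMi' hMd' h2'
  exact ⟨(cancelIso M' K M e₂).symm ≪≫
    tensorIso' (Iso.refl K) (tensorCommAll M' M) ≪≫ cancelIso M K M' e₁⟩

end Groth.Agent.S11355
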