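import Groth.Statements.S11368
import Groth.Agent.Lib.Lead.PN.AmpleDev2

set_option autoImplicit false
universe u
open CategoryTheory CategoryTheory.Limits AlgebraicGeometry TopologicalSpace
open Variety

namespace Groth.Agent.S11368

/-- For X proper over an algebraically closed field k and L an invertible O_X-module, L is ample on X if
and only if for every irreducible component X_i of X, with its reduced closed subscheme structure
(the vanishing ideal of the closed set X_i), the pullback of L to X_i is ample. -/
theorem result (k : Type u) [Field k] [IsAlgClosed k] (X : Scheme.{u})
    [X.Over (Spec (CommRingCat.of k))] [IsProper (X ↘ (Spec (CommRingCat.of k)))]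
    (L : X.Modules) (hL : PicF.IsInvertible L) :
    CohB1.IsAmple L ↔
      ∀ Z : Closeds X, (Z : Set X) ∈ irreducibleComponents X →
        CohB1.IsAmple ((Scheme.Modules.pullback
          (Scheme.IdealSheafData.vanishingIdeal Z).subschemeι).obj L) := by
  constructor
  · intro hA Z _
    exact Groth.Agent.LD.PN.AmD.isAmple_pullback_of_isAffineHom _ L hA
  · intro h
    apply Groth.Agent.LD.PN.AmD.isAmple_of_integral_closed k (X ↘ (Spec (CommRingCat.of k))) L hL
    intro Z' i hi hZ
    haveI := hi
    haveI := hZ
    let T : Closeds X := ⟨irreducibleComponent (i (genericPoint Z')), isClosed_irreducibleComponent⟩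
    have hT : (T : Set X) ∈ irreducibleComponents X :=
      irreducibleComponent_mem_irreducibleComponents _
    have hsub : Set.range i ⊆ ((Scheme.IdealSheafData.vanishingIdeal T).support : Set X) := by
      rw [Scheme.IdealSheafData.coe_support_vanishingIdeal]
      rintro _ ⟨z, rfl⟩
      have h1 : z ∈ closure {genericPoint Z'} := by
        rw [(genericPoint_spec Z').def]; trivial
      have h2 : i z ∈ closure {i (genericPoint Z')} := by
        have := image_closure_subset_closure_image i.continuous (Set.mem_image_of_mem i h1)
        rwa [Set.image_singleton] at this
      exact (isClosed_irreducibleComponent.closure_subset_iff.mpr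
        (Set.singleton_subset_iff.mpr mem_irreducibleComponent)) h2
    exact Groth.Agent.LD.PN.AmD.isAmple_pullback_of_lift i
      (Scheme.IdealSheafData.vanishingIdeal T) hsub L (h T hT)

end Groth.Agent.S11368
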