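import Groth.Statements.S11418
import Groth.Agent.Lib.Helper9.AlgGrpAct

set_option autoImplicit false
universe u
open CategoryTheory MonoidalCategory CartesianMonoidalCategory MonObj GrpObj AlgebraicGeometry CategoryTheory.Limits
open AlgGrp

namespace Groth.Agent.S11418

/-- Over an algebraically closed field k, let G be an affine algebraic group (smooth affine k-group
scheme of finite type) and π : X → Y a principal G-bundle of k-schemes of finite type: G acts on X,
π is G-invariant, faithfully flat, and the square formed by the action, the second projection G × X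
→ X and π is cartesian. Then the map θ sending a G-equivariant morphism f : X → G (for the
conjugation action on G, i.e. f(g·x) = g f(x) g⁻¹ on points) to the automorphism x ↦ f(x)·x is a
bijection onto the bundle automorphisms: every G-equivariant automorphism φ of X with π ∘ φ = π
equals θ(f) for exactly one such f. -/
theorem result (k : Type u) [Field k] [IsAlgClosed k]
    (G X Y : Over (Spec (CommRingCat.of k))) [GrpObj G] [Smooth G.hom] [QuasiCompact G.hom] [IsAffine G.left]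
    [LocallyOfFiniteType X.hom] [QuasiCompact X.hom] [LocallyOfFiniteType Y.hom] [QuasiCompact Y.hom]
    (a : AlgGrp.Action G X) (π : X ⟶ Y) (hinv : a.act ≫ π = snd G X ≫ π) [Flat π.left] [Surjective π.left]
    (hcart : IsPullback (snd G X) a.act π π)
    (φ : X ≅ X) (hφ : φ.hom ≫ π = π) (hφeq : (G ◁ φ.hom) ≫ a.act = a.act ≫ φ.hom) :
    ∃! f : X ⟶ G, (∀ (S : Over (Spec (CommRingCat.of k))) (g : S ⟶ G) (x : S ⟶ X),
        lift g x ≫ a.act ≫ f = g * (x ≫ f) * g⁻¹) ∧ φ.hom = lift f (𝟙 X) ≫ a.act := by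
  have hcond : 𝟙 X ≫ π = φ.hom ≫ π := by rw [Category.id_comp, hφ]
  obtain ⟨ψ, hψ₁, hψ₂⟩ : ∃ ψ : X ⟶ G ⊗ X, ψ ≫ snd G X = 𝟙 X ∧ ψ ≫ a.act = φ.hom :=
    ⟨hcart.lift _ _ hcond, hcart.lift_fst _ _ _, hcart.lift_snd _ _ _⟩
  have hψ : lift (ψ ≫ fst G X) (𝟙 X) = ψ := by
    apply CartesianMonoidalCategory.hom_ext
    · rw [lift_fst]
    · rw [lift_snd, hψ₁]
  have hfφ : lift (ψ ≫ fst G X) (𝟙 X) ≫ a.act = φ.hom := by rw [hψ, hψ₂]
  refine ⟨ψ ≫ fst G X, ⟨?_, hfφ.symm⟩, ?_⟩
  · intro S g x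
    obtain ⟨f, hf⟩ : ∃ f : X ⟶ G, f = ψ ≫ fst G X := ⟨_, rfl⟩
    rw [← hf] at hfφ ⊢
    have hpt : ∀ z : S ⟶ X, lift (z ≫ f) z ≫ a.act = z ≫ φ.hom := by
      intro z
      have : lift (z ≫ f) z = z ≫ lift f (𝟙 X) := by
        rw [comp_lift, Category.comp_id]
      rw [this, Category.assoc, hfφ]
    obtain ⟨y, hy⟩ : ∃ y : S ⟶ X, y = lift g x ≫ a.act := ⟨_, rfl⟩
    have hP : lift (y ≫ f) y = lift (g * (x ≫ f) * g⁻¹) y := by
      apply hcart.hom_ext
      · rw [lift_snd, lift_snd]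
      · rw [hpt y]
        have h1 : lift (g * (x ≫ f) * g⁻¹) y ≫ a.act =
            lift (g * (x ≫ f) * g⁻¹ * g) x ≫ a.act := by
          rw [hy, ← Groth.Agent.H9.AlgGrpAct.lift_mul_act]
        rw [h1, inv_mul_cancel_right, Groth.Agent.H9.AlgGrpAct.lift_mul_act, hpt x,
          ← lift_whiskerLeft, Category.assoc, hφeq, ← Category.assoc, ← hy]
    have h2 := congrArg (fun t => t ≫ fst G X) hP
    simp only [lift_fst] at h2
    rw [← Category.assoc, ← hy]
    exact h2
  · rintro f' ⟨-, hf'⟩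
    have h3 : lift f' (𝟙 X) = ψ := by
      apply hcart.hom_ext
      · rw [lift_snd, hψ₁]
      · rw [← hf', hψ₂]
    rw [← h3, lift_fst]

end Groth.Agent.S11418
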