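import Groth.Statements.S11427
import Groth.Agent.Lib.Helper9.Misc.SchQuot2

set_option autoImplicit false
universe u
open CategoryTheory MonoidalCategory CartesianMonoidalCategory MonObj GrpObj AlgebraicGeometry Topology
open GIT

namespace Groth.Agent.S11427

/-- A geometric quotient of X by G is a categorical quotient, and a universal geometric quotient is a
universal categorical quotient. -/
theorem result (S : Scheme.{u}) (G X Y : Over S) [GrpObj G] (a : AlgGrp.Action G X)
    (φ : X ⟶ Y) (h : GIT.IsGeomQuot a φ) :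
    GIT.IsCatQuot a φ ∧ (GIT.IsUnivGeomQuot a φ → GIT.IsUnivCatQuot a φ) := by
  have key : ∀ {X Y : Over S} (a : AlgGrp.Action G X) (φ : X ⟶ Y), GIT.IsGeomQuot a φ →
      GIT.IsCatQuot a φ := by
    intro X Y a φ h
    refine ⟨h.inv, ?_⟩
    intro Z ψ hψ
    have hq : Topology.IsQuotientMap φ.left.base :=
      MorphismProperty.universally_le _ _ h.subm
    have horb : ∀ x y : X.left, φ.left.base x = φ.left.base y →
        ∃ w : (G ⊗ X).left, a.act.left.base w = x ∧ (snd G X).left.base w = y := by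
      intro x y hxy
      obtain ⟨z, hz1, hz2⟩ := Scheme.Pullback.exists_preimage_pullback x y hxy
      obtain ⟨w, rfl⟩ := h.orbit z
      refine ⟨w, ?_, ?_⟩
      · rw [← hz1]
        have e1 := congrArg (fun m => m.base w)
          (Limits.pullback.lift_fst a.act.left (snd G X).left h.inv.left)
        exact e1.symm
      · rw [← hz2]
        have e1 := congrArg (fun m => m.base w)
          (Limits.pullback.lift_snd a.act.left (snd G X).left h.inv.left)
        exact e1.symm
    have hinj : ∀ O : Y.left.Opens, Function.Injective (φ.left.app O) :=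
      fun U => (h.sections U).1
    have hsec : ∀ (O : Y.left.Opens) (f : Γ(X.left, φ.left ⁻¹ᵁ O)),
        a.act.left.appLE (φ.left ⁻¹ᵁ O)
            (a.act.left ⁻¹ᵁ (φ.left ⁻¹ᵁ O) ⊓ (snd G X).left ⁻¹ᵁ (φ.left ⁻¹ᵁ O)) inf_le_left f =
          (snd G X).left.appLE (φ.left ⁻¹ᵁ O)
            (a.act.left ⁻¹ᵁ (φ.left ⁻¹ᵁ O) ⊓ (snd G X).left ⁻¹ᵁ (φ.left ⁻¹ᵁ O)) inf_le_right f →
        f ∈ Set.range (φ.left.app O) := by
      intro O f hf
      rw [(h.sections O).2]
      exact hf
    obtain ⟨χ, hχ⟩ := Groth.Agent.H9.SchQ2.exists_desc a.act.left (snd G X).left φ.left ψ.left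
      (GIT.IsInvariant.left hψ) h.surj hq horb hinj hsec
    have hepi := Groth.Agent.H9.SchQ2.epi_of_surj_inj φ.left h.surj hinj
    have hw : χ ≫ Z.hom = Y.hom := by
      apply hepi
      rw [← Category.assoc, hχ, Over.w, Over.w]
    refine ⟨Over.homMk χ hw, ?_, ?_⟩
    · ext
      rw [Over.comp_left]
      exact hχ
    · intro χ' hχ'
      ext
      apply hepi
      show φ.left ≫ χ'.left = φ.left ≫ χ
      rw [hχ, ← Over.comp_left, hχ']
  refine ⟨key a φ h, ?_⟩
  intro hU
  refine ⟨key a φ h, ?_⟩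
  intro X' Y' pr φ' g hg hpb a' ha' hinv'
  exact key a' φ' (hU.2 pr φ' g hg hpb a' ha' hinv')

end Groth.Agent.S11427
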