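import Groth.Statements.S11428
import Groth.Agent.Lib.Helper9.Misc.SepQuot

set_option autoImplicit false
universe u
open CategoryTheory MonoidalCategory CartesianMonoidalCategory MonObj GrpObj AlgebraicGeometry Topology
open GIT

namespace Groth.Agent.S11428

/-- If (Y, φ) is a geometric quotient of X by G over S, then Y is separated over S exactly when the
action is separated, i.e. the image of (σ, p₂) : G ×_S X → X ×_S X is closed. -/
theorem result (S : Scheme.{u}) (G X Y : Over S) [GrpObj G]
    (a : AlgGrp.Action G X) (φ : X ⟶ Y) (h : GIT.IsGeomQuot a φ) :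
    IsSeparated Y.hom ↔ IsClosed (Set.range (GIT.psi a (𝟙 X)).left.base) := by
  have hpsi : GIT.psi a (𝟙 X) = lift a.act (snd G X) := by
    rw [GIT.psi, whiskerLeft_id, Category.id_comp]
  have hΨ1 : (GIT.psi a (𝟙 X)).left ≫ Limits.pullback.fst X.hom X.hom = a.act.left := by
    have e := congrArg (fun m => Over.Hom.left m) (lift_fst a.act (snd G X))
    simp only [Over.comp_left] at e
    rw [hpsi]
    exact e
  have hΨ2 : (GIT.psi a (𝟙 X)).left ≫ Limits.pullback.snd X.hom X.hom = (snd G X).left := by
    have e := congrArg (fun m => Over.Hom.left m) (lift_snd a.act (snd G X))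
    simp only [Over.comp_left] at e
    rw [hpsi]
    exact e
  exact Groth.Agent.H9.SepQuot.main X.hom Y.hom φ.left (Over.w φ) a.act.left (snd G X).left
    h.inv.left h.subm h.orbit (GIT.psi a (𝟙 X)).left hΨ1 hΨ2

end Groth.Agent.S11428
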