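import Groth.Statements.S11435
import Groth.Agent.Lib.Helper9.Misc.OrbProper

set_option autoImplicit false
universe u
open CategoryTheory MonoidalCategory CartesianMonoidalCategory MonObj GrpObj AlgebraicGeometry Topology
open GIT

namespace Groth.Agent.S11435

/-- Over an algebraically closed field k, let a group scheme G of finite type act on a scheme X of
finite type and let x be a k-rational point of X. Then the orbit morphism ψ_x : G × Spec k → X ×
Spec k, g ↦ (g · x, pt), is proper if and only if the orbit of x (the image of ψ_x) is closed and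
the stabilizer of x (the fibre of ψ_x over (x, pt)) is proper over k. -/
theorem result (k : Type u) [Field k] [IsAlgClosed k]
    (G X : Over (Spec (CommRingCat.of k))) [GrpObj G] [LocallyOfFiniteType G.hom] [QuasiCompact G.hom]
    [LocallyOfFiniteType X.hom] [QuasiCompact X.hom] (a : AlgGrp.Action G X)
    (x : 𝟙_ (Over (Spec (CommRingCat.of k))) ⟶ X) :
    IsProper (GIT.psi a x).left ↔
      IsClosed (Set.range (GIT.psi a x).left.base) ∧
        IsProper (Limits.pullback.snd (GIT.psi a x).left (lift x (𝟙 (𝟙_ (Over (Spec (CommRingCat.of k)))))).left ≫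
          (𝟙_ (Over (Spec (CommRingCat.of k)))).hom) := by
  have hpsi : GIT.psi a x = (ρ_ G).hom ≫ a.orbitMap x ≫ (ρ_ X).inv := by
    unfold GIT.psi AlgGrp.Action.orbitMap
    apply CartesianMonoidalCategory.hom_ext
    · rw [lift_fst]
      simp only [Category.assoc, rightUnitor_inv_fst, Category.comp_id]
      rw [← Category.assoc]
      congr 1
      apply CartesianMonoidalCategory.hom_ext
      · simp
        exact (CartesianMonoidalCategory.rightUnitor_hom G).symm
      · simp only [Category.assoc, lift_snd, whiskerLeft_snd]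
        rw [← Category.assoc]
        congr 1
        exact toUnit_unique _ _
    · exact toUnit_unique _ _
  have hlift : lift x (𝟙 (𝟙_ (Over (Spec (CommRingCat.of k))))) = x ≫ (ρ_ X).inv := by
    apply CartesianMonoidalCategory.hom_ext
    · simp
    · exact toUnit_unique _ _
  let eG : (G ⊗ 𝟙_ (Over (Spec (CommRingCat.of k)))).left ≅ G.left :=
    (Over.forget (Spec (CommRingCat.of k))).mapIso (ρ_ G)
  let eX : (X ⊗ 𝟙_ (Over (Spec (CommRingCat.of k)))).left ≅ X.left :=
    (Over.forget (Spec (CommRingCat.of k))).mapIso (ρ_ X)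
  have heG : eG.hom = (ρ_ G).hom.left := rfl
  have heX : eX.inv = (ρ_ X).inv.left := rfl
  have hpsiL : (GIT.psi a x).left = eG.hom ≫ (a.orbitMap x).left ≫ eX.inv := by
    rw [hpsi, heG, heX]; rfl
  have hliftL : (lift x (𝟙 (𝟙_ (Over (Spec (CommRingCat.of k)))))).left = x.left ≫ eX.inv := by
    rw [hlift, heX]; rfl
  have hpb : IsPullback
      (Limits.pullback.fst (GIT.psi a x).left
        (lift x (𝟙 (𝟙_ (Over (Spec (CommRingCat.of k)))))).left ≫ eG.hom)
      (Limits.pullback.snd (GIT.psi a x).left (lift x (𝟙 (𝟙_ (Over (Spec (CommRingCat.of k)))))).left)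
      (a.orbitMap x).left x.left :=
    IsPullback.of_iso (IsPullback.of_hasPullback (GIT.psi a x).left
      (lift x (𝟙 (𝟙_ (Over (Spec (CommRingCat.of k)))))).left) (Iso.refl _) eG (Iso.refl _) eX
      (by simp) (by simp) (by rw [hpsiL]; simp) (by rw [hliftL]; simp)
  have key := Groth.Agent.H9.OrbProper.main k G X a x _ _ _ hpb
  have h1 : IsProper (GIT.psi a x).left ↔ IsProper (a.orbitMap x).left := by
    rw [hpsiL, MorphismProperty.cancel_left_of_respectsIso (P := @IsProper),
      MorphismProperty.cancel_right_of_respectsIso (P := @IsProper)]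
  have h2 : IsClosed (Set.range (GIT.psi a x).left.base) ↔
      IsClosed (Set.range (a.orbitMap x).left) := by
    have : Set.range (GIT.psi a x).left.base = eX.inv '' Set.range (a.orbitMap x).left := by
      rw [hpsiL, Scheme.Hom.comp_base, TopCat.coe_comp, Set.range_comp,
        Set.range_eq_univ.mpr eG.hom.surjective, Set.image_univ, Scheme.Hom.comp_base,
        TopCat.coe_comp, Set.range_comp]
    rw [this]
    exact eX.inv.homeomorph.isClosed_image
  have h3 : (Limits.pullback.snd (GIT.psi a x).left
      (lift x (𝟙 (𝟙_ (Over (Spec (CommRingCat.of k)))))).left ≫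
        (𝟙_ (Over (Spec (CommRingCat.of k)))).hom) =
      Limits.pullback.snd (GIT.psi a x).left (lift x (𝟙 (𝟙_ (Over (Spec (CommRingCat.of k)))))).left :=
    Category.comp_id _
  rw [h1, h2, h3]
  exact key

end Groth.Agent.S11435
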