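import Groth.Statements.S11441
import Groth.Agent.Lib.Helper9.Misc.ClosedAct

set_option autoImplicit false
universe u
open CategoryTheory MonoidalCategory CartesianMonoidalCategory MonObj GrpObj AlgebraicGeometry Topology
open GIT

namespace Groth.Agent.S11441

/-- If a geometric quotient of X by G over S exists, then the action of G on X is closed (orbits of
geometric points are closed in the geometric fibres). -/
theorem result (S : Scheme.{u}) (G X Y : Over S) [GrpObj G]
    (a : AlgGrp.Action G X) (φ : X ⟶ Y) (h : GIT.IsGeomQuot a φ) : GIT.IsClosedAction a := by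
  intro Ω _ _ T e f
  have hψ1 : (GIT.psi a f).left ≫ Limits.pullback.fst X.hom T.hom =
      (G ◁ f).left ≫ a.act.left := by
    have e := congrArg (fun m => Over.Hom.left m) (lift_fst ((G ◁ f) ≫ a.act) (snd G T))
    simp only [Over.comp_left] at e
    exact e
  have hψ2 : (GIT.psi a f).left ≫ Limits.pullback.snd X.hom T.hom = (snd G T).left := by
    have e := congrArg (fun m => Over.Hom.left m) (lift_snd ((G ◁ f) ≫ a.act) (snd G T))
    simp only [Over.comp_left] at e
    exact e
  have hQ : IsPullback (G ◁ f).left (snd G T).left (snd G X).left f.left :=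
    Groth.Agent.H9.ClosedAct.isPullback_map G.hom X.hom T.hom f.left (Over.w f)
  exact Groth.Agent.H9.ClosedAct.main X.hom Y.hom T.hom φ.left (Over.w φ) f.left (Over.w f)
    a.act.left (snd G X).left h.inv.left h.orbit (G ◁ f).left (snd G T).left hQ
    (GIT.psi a f).left hψ1 hψ2 Ω e

end Groth.Agent.S11441
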