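import Groth.Statements.S11445
import Groth.Agent.Lib.Helper9.Misc.SchQuot3

set_option autoImplicit false
universe u
open CategoryTheory MonoidalCategory CartesianMonoidalCategory MonObj GrpObj AlgebraicGeometry Topology
open GIT

namespace Groth.Agent.S11445

/-- Let G act on X over S and let φ : X → Y over S satisfy (i) φ ∘ σ = φ ∘ p₂, (ii) O_Y is the sheaf of
invariant functions (each Γ(U, O_Y) → Γ(φ⁻¹U, O_X) injective with image the invariant sections),
(iii) the image of every closed invariant subset of X is closed and φ(⋂ W_i) = ⋂ φ(W_i) for every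
family of closed invariant subsets. Then (Y, φ) is a categorical quotient of X by G, and φ is
submersive. -/
theorem result (S : Scheme.{u}) (G X Y : Over S) [GrpObj G]
    (a : AlgGrp.Action G X) (φ : X ⟶ Y) (hi : GIT.IsInvariant a φ)
    (hii : ∀ U : Y.left.Opens,
      Function.Injective (φ.left.app U) ∧ Set.range (φ.left.app U) = {f | GIT.IsInvSection a φ U f})
    (hiii : ∀ W : Set X.left, IsClosed W → a.act.left.base '' ((snd G X).left.base ⁻¹' W) ⊆ W →
      IsClosed (φ.left.base '' W))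
    (hiii' : ∀ (J : Type u) (W : J → Set X.left),
      (∀ i, IsClosed (W i) ∧ a.act.left.base '' ((snd G X).left.base ⁻¹' W i) ⊆ W i) →
      φ.left.base '' (⋂ i, W i) = ⋂ i, φ.left.base '' W i) :
    GIT.IsCatQuot a φ ∧ IsQuotientMap φ.left.base := by
  have hinj : ∀ O : Y.left.Opens, Function.Injective (φ.left.app O) :=
    fun U => (hii U).1
  have hsec : ∀ (O : Y.left.Opens) (f : Γ(X.left, φ.left ⁻¹ᵁ O)),
      a.act.left.appLE (φ.left ⁻¹ᵁ O)
          (a.act.left ⁻¹ᵁ (φ.left ⁻¹ᵁ O) ⊓ (snd G X).left ⁻¹ᵁ (φ.left ⁻¹ᵁ O)) inf_le_left f =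
        (snd G X).left.appLE (φ.left ⁻¹ᵁ O)
          (a.act.left ⁻¹ᵁ (φ.left ⁻¹ᵁ O) ⊓ (snd G X).left ⁻¹ᵁ (φ.left ⁻¹ᵁ O)) inf_le_right f →
      f ∈ Set.range (φ.left.app O) := by
    intro O f hf
    rw [(hii O).2]
    exact hf
  have hsurj := Groth.Agent.H9.SchQ3.surjective_of_iInter a.act.left (snd G X).left φ.left hiii'
  have hq := Groth.Agent.H9.SchQ3.isQuotientMap_of_closed a.act.left (snd G X).left φ.left
    (GIT.IsInvariant.left hi) hsurj hiii
  refine ⟨⟨hi, ?_⟩, hq⟩
  intro Z ψ hψ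
  obtain ⟨χ, hχ⟩ := Groth.Agent.H9.SchQ3.main a.act.left (snd G X).left φ.left ψ.left
    (GIT.IsInvariant.left hi) (GIT.IsInvariant.left hψ) hinj hsec hiii hiii'
  have hepi := Groth.Agent.H9.SchQ2.epi_of_surj_inj φ.left hsurj hinj
  have hw : χ ≫ Z.hom = Y.hom := by
    apply hepi
    rw [← Category.assoc, hχ, Over.w, Over.w]
  refine ⟨Over.homMk χ hw, ?_, ?_⟩
  · ext
    rw [Over.comp_left]
    exact hχ
  · intro χ' hχ'
    ext
    apply hepi
    show φ.left ≫ χ'.left = φ.left ≫ χ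
    rw [hχ, ← Over.comp_left, hχ']

end Groth.Agent.S11445
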