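import Groth.Statements.S11450
import Groth.Agent.Lib.Helper2.TorOne

set_option autoImplicit false
universe u
open CategoryTheory
open DefT

namespace Groth.Agent.S11450

/-- A module M over a Noetherian commutative ring A is flat if and only if Tor_1^A(M, A/p) vanishes for
every prime ideal p of A. -/
theorem result (A : Type u) [CommRing A]
    [IsNoetherianRing A] (M : Type u) [AddCommGroup M] [Module A M] :
    Module.Flat A M ↔ ∀ p : Ideal A, p.IsPrime →
      Limits.IsZero (((CategoryTheory.Tor (ModuleCat.{u} A) 1).obj (ModuleCat.of A M)).obj (ModuleCat.of A (A ⧸ p))) := by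
  have key : ∀ I : Ideal A,
      Limits.IsZero (((CategoryTheory.Tor (ModuleCat.{u} A) 1).obj (ModuleCat.of A M)).obj
        (ModuleCat.of A (A ⧸ I))) ↔ Function.Injective (I.subtype.lTensor M) := fun I =>
    Groth.Agent.H2.TorOne.isZero_tor_one_iff M (A ⧸ I) (Submodule.subtype I) (Submodule.mkQ I)
      (Submodule.subtype_injective I) (LinearMap.exact_subtype_mkQ I) (Submodule.mkQ_surjective I)
  constructor
  · intro h p _
    exact (key p).2 (Module.Flat.lTensor_preserves_injective_linearMap _
      (Submodule.subtype_injective p))
  · intro h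
    obtain ⟨L, _, _, d, ε, hd, hdε, hε⟩ : ∃ (L : Type u) (_ : AddCommGroup L) (_ : Module A L)
        (d : L →ₗ[A] (M →₀ A)) (ε : (M →₀ A) →ₗ[A] M),
        Function.Injective d ∧ Function.Exact d ε ∧ Function.Surjective ε :=
      ⟨LinearMap.ker (Finsupp.linearCombination A (id : M → M)), inferInstance, inferInstance,
        (LinearMap.ker (Finsupp.linearCombination A (id : M → M))).subtype,
        Finsupp.linearCombination A id, Submodule.subtype_injective _,
        LinearMap.exact_subtype_ker_map _, Finsupp.linearCombination_id_surjective A M⟩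
    have hP : ∀ p : Ideal A, p.IsPrime → Function.Injective (d.lTensor (A ⧸ p)) := by
      intro p hp
      have h1 : Function.Injective (p.subtype.lTensor M) := (key p).1 (h p hp)
      have h2 : Function.Injective (d.rTensor (A ⧸ p)) :=
        Groth.Agent.H2.FlatAlg.rTensor_injective_of_lTensor_injective d ε hd hdε hε
          p.subtype p.mkQ (LinearMap.exact_subtype_mkQ p) p.mkQ_surjective h1
      exact (LinearMap.lTensor_inj_iff_rTensor_inj _ _).2 h2
    have hN : ∀ (N : Type u) [AddCommGroup N] [Module A N] [Module.Finite A N],
        Function.Injective (d.lTensor N) := by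
      intro N _ _ hfin
      induction hfin using IsNoetherianRing.induction_on_isQuotientEquivQuotientPrime A with
      | subsingleton N =>
        intro a b _
        exact Subsingleton.elim _ _
      | quotient N p e =>
        exact Groth.Agent.H2.FlatAlg.lTensor_injective_of_equiv d e (hP p.1 p.2)
      | exact N₁ N₂ N₃ f g hf hg hfg h₁ h₃ =>
        exact Groth.Agent.H2.FlatAlg.lTensor_injective_of_exact d f g hf hfg hg h₁ h₃
    rw [Module.Flat.iff_rTensor_injective]
    intro I hI
    exact Groth.Agent.H2.FlatAlg.rTensor_injective_of_lTensor_injective I.subtype I.mkQ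
      (Submodule.subtype_injective I) (LinearMap.exact_subtype_mkQ I) I.mkQ_surjective d ε hdε hε
      (hN (A ⧸ I))

end Groth.Agent.S11450
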