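import Groth.Statements.S11482
import Groth.Agent.Lib.Helper5.Curve6.Ext3

set_option autoImplicit false
universe u
open CategoryTheory CategoryTheory.Limits AlgebraicGeometry
open Curves

namespace Groth.Agent.S11482

open Groth.Agent.LD Groth.Agent.LD.QC Groth.Agent.H5.Curve2 Groth.Agent.H5.Curve4 Groth.Agent.H5.DegC Groth.Agent.H5.Curve6 Groth.Agent.H5.IntN Groth.Agent.H5.Snap

/-- Fix an algebraically closed field k and a nonsingular projective curve X over k of genus g (smooth,
proper, integral, of dimension one, g = dim H¹(X, O_X)) and E a locally free sheaf of rank 2 and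
degree d (degree = χ(E) − 2χ(O_X)) that is indecomposable: in any decomposition E ≅ E₁ ⊕ E₂ one
summand is zero. Then (a) every invertible subsheaf L ⊆ E has 2·deg L ≤ d + 2g − 2, and (b) there is
an invertible subsheaf L ⊆ E with d − 2g ≤ 2·deg L. (The published statement is that indecomposable
bundles of fixed rank and degree form a bounded family; this row states, in rank two, the degree
bounds for invertible subsheaves on which its proof rests.) -/
theorem result (k : Type u) [Field k] [IsAlgClosed k]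
    (X : Scheme.{u}) [X.Over (Spec (CommRingCat.of k))] (hX : Curve.IsSmoothProperCurve k X (X ↘ Spec (CommRingCat.of k)))
    (E : X.Modules) (hE : FlatMod.IsFinLocFreeOfRank 2 E)
    (hind : ∀ (E₁ E₂ : X.Modules), Nonempty (E ≅ E₁ ⊞ E₂) → IsZero E₁ ∨ IsZero E₂) :
    (∀ (L : X.Modules) (ι : L ⟶ E), PicF.IsInvertible L → Mono ι →
        2 * Curv2.deg k X L 1 ≤ Curv2.deg k X E 2 + 2 * (Curv2.genus k X : ℤ) - 2) ∧
      ∃ (L : X.Modules) (ι : L ⟶ E), PicF.IsInvertible L ∧ Mono ι ∧
        Curv2.deg k X E 2 - 2 * (Curv2.genus k X : ℤ) ≤ 2 * Curv2.deg k X L 1 := by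
  obtain ⟨hprop, hsm, hint, hdim⟩ := hX
  haveI := hprop
  haveI := hsm
  haveI := hint
  haveI := Groth.Agent.LD.Curve.isLocallyNoetherian k X
  have hEc : Coh.IsCoh E := Groth.Agent.LD.Curve.isCoh_of_rank hE
  haveI := hEc.1
  have hreg := regular_stalks k X
  constructor
  · intro L ι hL hι
    haveI := hι
    have hne := ne_zero_of_mono_of_isInvertible hL ι
    obtain ⟨M, i, hi, hM, hQ, hdle, hdeg, -, -⟩ := exists_sat_line k X hdim.le hL hE ι hne
    haveI := hi
    have hns : IsEmpty (E ≅ M ⊞ cokernel i) := by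
      refine ⟨fun e => ?_⟩
      rcases hind M (cokernel i) ⟨e⟩ with h | h
      · exact Groth.Agent.H5.Curve6.not_isZero_of_isInvertible hM h
      · exact Groth.Agent.H5.Curve6.not_isZero_of_isInvertible hQ h
    have h1 := deg_sub_le_of_nonsplit k X hdim i hM hQ hns
    linarith
  · -- existence
    obtain ⟨n, hn1, hn2⟩ : ∃ n : ℤ, Curv2.deg k X E 2 - 2 * (Curv2.genus k X : ℤ) ≤ 2 * n ∧
        2 * n ≤ Curv2.deg k X E 2 - 2 * (Curv2.genus k X : ℤ) + 1 :=
      ⟨(Curv2.deg k X E 2 - 2 * (Curv2.genus k X : ℤ) + 1) / 2, by omega, by omega⟩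
    obtain ⟨N, hN, hdN⟩ := exists_invertible_deg k X hdim hreg n
    obtain ⟨N', hN', ⟨e⟩⟩ := Groth.Agent.H5.Glue.exists_inverse N hN
    haveI : N'.IsQuasicoherent := qc_of_isInvertible _ hN'
    have hd1 := deg_tensor k X hdim.le hN hN'
    have hd2 := Groth.Agent.LD.Curve.deg_iso k X e 1
    rw [Groth.Agent.LD.Curve.deg_structureModule] at hd2
    change Curv2.deg k X (CohB1.tensorMod N N') 1 = 0 at hd2
    have hdN' : Curv2.deg k X N' 1 = -n := by linarith
    have hN'1 : FlatMod.IsFinLocFreeOfRank 1 N' := (isInvertible_iff _).mp hN'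
    have hdT := deg_tensorMod k hdim.le 2 1 E N' hE hN'1
    haveI : (CohB1.tensorMod E N').IsQuasicoherent := tensorMod_isQuasicoherent _ _
    have hOc : Coh.IsCoh (unitMod X) := Groth.Agent.H5.Curve2.isCoh_of_isInvertible (isInvertible_unit X)
    haveI : (Coh.structureModule X).IsQuasicoherent := hOc.1
    have eO := Groth.Agent.LD.Curve.euler_eq_sub k X hdim.le (Coh.structureModule X)
    have eO0 : Module.finrank k (Coh.HH X (Coh.structureModule X) 0) = 1 :=
      Groth.Agent.H5.Curve3.finrank_HH0_eq_one_of_isAlgClosed k X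
    have hg : (Curv2.genus k X : ℤ) =
        Module.finrank k (Coh.HH X (Coh.structureModule X) 1) := rfl
    have hχ : 0 < Curv2.euler k X (CohB1.tensorMod E N') := by
      rw [mul_one, hdN'] at hdT
      have hdE : Curv2.deg k X E 2 = Curv2.euler k X E - 2 * Curv2.euler k X (Coh.structureModule X) := by
        unfold Curv2.deg; push_cast; ring
      unfold Curv2.deg at hdT
      rw [hdE] at hn2
      rw [eO, eO0, ← hg] at hdT hn2
      push_cast at hdT hn2
      linarith
    obtain ⟨s, hs⟩ := exists_section_ne_zero_of_euler_pos k X hdim.le _ hχ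
    obtain ⟨φ, hφ⟩ := exists_hom_ne_zero_of_section X hN hN' e s hs
    have hmono := mono_of_ne_zero_of_isInvertible k X hdim.le hN 2 hE φ hφ
    exact ⟨N, φ, hN, hmono, by rw [hdN]; exact hn1⟩

end Groth.Agent.S11482
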