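import Groth.Statements.S11489
import Groth.Agent.Lib.Helper2.DetTrivC
import Groth.Agent.Lib.Lead.PN.GlobalFn

set_option autoImplicit false
universe u
open VBPn

namespace Groth.Agent.S11489

open CategoryTheory CategoryTheory.Limits AlgebraicGeometry in
/-- Let k be a characteristic-zero algebraically closed field and E a finite locally free O-module of
rank r on P^n_k. If E is globally generated (there is an epimorphism O^N → E for some N) and its
first Chern class vanishes, in the sense that an r-th exterior power det E of E is isomorphic to O,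
then E ≅ O^r. -/
theorem result (k : Type u) [Field k] [IsAlgClosed k] [CharZero k]
    (n r : ℕ) (E : (CohB1.ProjSpace n k).Modules) (hE : FlatMod.IsFinLocFreeOfRank r E)
    (hgen : ∃ (N : ℕ) (φ : FlatMod.freeMod (CohB1.ProjSpace n k) N ⟶ E), Epi φ)
    (hdet : ∃ L : (CohB1.ProjSpace n k).Modules, ExtPow.IsExtPow r E L ∧
      Nonempty (L ≅ Coh.structureModule (CohB1.ProjSpace n k))) :
    Nonempty (E ≅ FlatMod.freeMod (CohB1.ProjSpace n k) r) := by
  obtain ⟨N, ψ, hψ⟩ := hgen
  obtain ⟨L, hL, ⟨α⟩⟩ := hdet
  have hbij := Groth.Agent.LD.PN.toGlobal_bijective n k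
  have hX : ∀ c : Γ(CohB1.ProjSpace n k, ⊤), c = 0 ∨ IsUnit c := by
    intro c
    obtain ⟨t, ht⟩ := hbij.2 c
    by_cases h0 : t = 0
    · left
      rw [← ht, h0]
      exact map_zero (Coh.toGlobal (CohB1.ProjSpace.toSpec n k))
    · right
      rw [← ht]
      exact (Ne.isUnit h0).map (Coh.toGlobal (CohB1.ProjSpace.toSpec n k))
  haveI : Nonempty (CohB1.ProjSpace n k) := by
    by_contra hne
    rw [not_nonempty_iff] at hne
    have htop : (⊤ : (CohB1.ProjSpace n k).Opens) = ⊥ := by
      ext x
      exact (hne.false x).elim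
    have hsub : Subsingleton Γ(CohB1.ProjSpace n k, ⊤) := by
      rw [htop]
      infer_instance
    have h01 : (0 : k) = 1 := hbij.1 (hsub.elim _ _)
    exact zero_ne_one h01
  exact Groth.Agent.H2.DetTriv.nonempty_iso_freeMod hX r E hE N ψ L hL α

end Groth.Agent.S11489
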