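import Groth.Statements.S11499
import Mathlib

set_option autoImplicit false
universe u
open TensorProduct
open VBPn

namespace Groth.Agent.S11499

/-- Let A be an integral domain with fraction field K and M a finitely generated torsion-free A-module
of rank r (K ⊗_A M is r-dimensional over K). Then there is an injective A-linear map M → A^r. The
published statement is for torsion-free coherent sheaves on a complex manifold, locally near a
point; this row is its statement for one stalk, over any domain. -/
theorem result (A : Type u) [CommRing A] [IsDomain A]
    (M : Type u) [AddCommGroup M] [Module A M] [Module.Finite A M] [NoZeroSMulDivisors A M] (r : ℕ)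
    (hr : Module.finrank (FractionRing A) (FractionRing A ⊗[A] M) = r) :
    ∃ f : M →ₗ[A] (Fin r → A), Function.Injective f := by
  classical
  let K := FractionRing A
  let ι : M →ₗ[A] K ⊗[A] M := TensorProduct.mk A K M 1
  have hloc : IsLocalizedModule (nonZeroDivisors A) ι :=
    (isLocalizedModule_iff_isBaseChange (nonZeroDivisors A) K ι).mpr
      (TensorProduct.isBaseChange A M K)
  have hinj : Function.Injective ι := by
    rw [← LinearMap.ker_eq_bot, LinearMap.ker_eq_bot']
    intro m hm
    obtain ⟨s, hs⟩ := (IsLocalizedModule.eq_zero_iff (nonZeroDivisors A) ι).mp hm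
    exact (smul_eq_zero.mp hs).resolve_left (nonZeroDivisors.coe_ne_zero s)
  let b := Module.finBasisOfFinrankEq K (K ⊗[A] M) hr
  obtain ⟨s, hs⟩ := Module.Finite.fg_top (R := A) (M := M)
  let T : Finset K := (s ×ˢ (Finset.univ : Finset (Fin r))).image (fun p => b.equivFun (ι p.1) p.2)
  obtain ⟨d, hd⟩ := IsLocalization.exist_integer_multiples_of_finset (nonZeroDivisors A) T
  let g : M →ₗ[A] (Fin r → K) :=
    (d : A) • ((b.equivFun.toLinearMap.restrictScalars A).comp ι)
  let L : (Fin r → A) →ₗ[A] (Fin r → K) := LinearMap.compLeft (Algebra.linearMap A K) (Fin r)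
  have hL : Function.Injective L := by
    intro x y hxy
    funext j
    have := congrFun hxy j
    exact IsFractionRing.injective A K this
  have hrange : ∀ m, g m ∈ LinearMap.range L := by
    have : (⊤ : Submodule A M) ≤ (LinearMap.range L).comap g := by
      rw [← hs, Submodule.span_le]
      intro m hm
      have h1 : ∀ j : Fin r, ∃ a : A, algebraMap A K a = (d : A) • b.equivFun (ι m) j := by
        intro j
        exact hd _ (Finset.mem_image.mpr ⟨(m, j), Finset.mem_product.mpr ⟨hm, Finset.mem_univ _⟩, rfl⟩)
      choose a ha using h1
      refine ⟨a, ?_⟩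
      funext j
      exact ha j
    intro m
    exact this (Submodule.mem_top)
  have hginj : Function.Injective g := by
    rw [← LinearMap.ker_eq_bot, LinearMap.ker_eq_bot']
    intro m hm
    have h1 : (d : A) • b.equivFun (ι m) = 0 := hm
    have h2 : b.equivFun (ι m) = 0 := by
      funext j
      have h3 := congrFun h1 j
      have h4 : algebraMap A K (d : A) * b.equivFun (ι m) j = 0 := by
        rw [← Algebra.smul_def]; exact h3
      rcases mul_eq_zero.mp h4 with h5 | h5
      · exact absurd ((map_eq_zero_iff _ (IsFractionRing.injective A K)).mp h5)
          (nonZeroDivisors.coe_ne_zero d)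
      · exact h5
    have h3 : ι m = 0 := b.equivFun.map_eq_zero_iff.mp h2
    exact hinj (h3.trans (map_zero ι).symm)
  refine ⟨(LinearEquiv.ofInjective L hL).symm.toLinearMap.comp
    (g.codRestrict (LinearMap.range L) hrange), ?_⟩
  intro x y hxy
  apply hginj
  have := (LinearEquiv.ofInjective L hL).symm.injective hxy
  exact congrArg Subtype.val this

end Groth.Agent.S11499
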