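import Groth.Statements.S11503
import Groth.Agent.Lib.Helper2.NonSimpleA
import Groth.Agent.Lib.Helper2.HypCohA
import Groth.Agent.Lib.Helper2.ConstMorD

set_option autoImplicit false
universe u
open VBPn

namespace Groth.Agent.S11503

open CategoryTheory CategoryTheory.Limits AlgebraicGeometry in
/-- Let k be a characteristic-zero algebraically closed field and E a finite locally free O-module of
rank r > 1 on P^n_k. If E has a nonzero section (a nonzero morphism O → E) and its dual has a
nonzero section (a nonzero morphism E → O), then E is not simple: there is an endomorphism of E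
which is not a homothety, i.e. whose underlying map of abelian sheaves is not multiplication by any
scalar c ∈ k. -/
theorem result (k : Type u) [Field k] [IsAlgClosed k] [CharZero k]
    (n r : ℕ) (hr : 1 < r) (E : (CohB1.ProjSpace n k).Modules) (hE : FlatMod.IsFinLocFreeOfRank r E)
    (s : Coh.structureModule (CohB1.ProjSpace n k) ⟶ E) (hs : s ≠ 0)
    (t : E ⟶ Coh.structureModule (CohB1.ProjSpace n k)) (ht : t ≠ 0) :
    ∃ φ : E ⟶ E, ∀ c : k, (SheafOfModules.toSheaf (CohB1.ProjSpace n k).ringCatSheaf).map φ ≠
      Coh.smulAb E (Coh.toGlobal (CohB1.ProjSpace.toSpec n k) c) := by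
  haveI : IsIntegral (CohB1.ProjSpace n k) := Groth.Agent.H2.HypCoh.isIntegral_proj k n
  haveI : Nonempty (CohB1.ProjSpace n k) := Groth.Agent.H2.ConstMor.nonempty_projSpace k n
  have hE' : FlatMod.IsFinLocFree E := fun x => by
    obtain ⟨U, hxU, hU⟩ := hE x
    exact ⟨U, r, hxU, hU⟩
  refine ⟨t ≫ s, fun c h => ?_⟩
  by_cases hc : c = 0
  · subst hc
    rw [map_zero, Coh.smulAb_zero] at h
    have h' : t ≫ s = 0 := by
      apply (SheafOfModules.toSheaf (CohB1.ProjSpace n k).ringCatSheaf).map_injective
      rw [h]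
      exact ((SheafOfModules.toSheaf (CohB1.ProjSpace n k).ringCatSheaf).map_zero E E).symm
    exact Groth.Agent.H2.NonSimple.comp_ne_zero E hE' s hs t ht h'
  · have hu : IsUnit (Coh.toGlobal (CohB1.ProjSpace.toSpec n k) c) := (IsUnit.mk0 c hc).map _
    have h' : t ≫ s = Groth.Agent.LD.Ann.smulEnd E (Coh.toGlobal (CohB1.ProjSpace.toSpec n k) c) := by
      apply (SheafOfModules.toSheaf (CohB1.ProjSpace n k).ringCatSheaf).map_injective
      rw [h, Groth.Agent.LD.Ann.toSheaf_map_smulEnd]
    exact Groth.Agent.H2.NonSimple.comp_ne_smulEnd_of_isUnit r hr E hE s t _ hu h'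

end Groth.Agent.S11503
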