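import Groth.Statements.S11516
import Groth.Agent.Lib.Helper2.EulerPbE

set_option autoImplicit false
universe u
open VBPn

namespace Groth.Agent.S11516

open CategoryTheory CategoryTheory.Limits AlgebraicGeometry in
/-- Let k be an algebraically closed field of characteristic zero, n ≥ 1, and i : P^{n−1}_k → P^n_k a
closed immersion of k-schemes along which O(1) pulls back to O(1), the embedding of a hyperplane H.
Then i^*Ω^1_{P^n_k} ≅ Ω^1_{P^{n−1}_k} ⊕ O(−1), where Ω^1 denotes the sheaf of differentials over k;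
dually, the restricted tangent bundle splits as T_{P^n}|H ≅ T_H ⊕ O_H(1). -/
theorem result (k : Type u) [Field k] [IsAlgClosed k] [CharZero k]
    (n : ℕ) (hn : 1 ≤ n) (i : CohB1.ProjSpace (n - 1) k ⟶ CohB1.ProjSpace n k) [IsClosedImmersion i]
    (hi : i ≫ CohB1.ProjSpace.toSpec n k = CohB1.ProjSpace.toSpec (n - 1) k)
    (hO : Nonempty ((Scheme.Modules.pullback i).obj (Twist.twistProjSpace n k 1) ≅ Twist.twistProjSpace (n - 1) k 1)) :
    Nonempty ((Scheme.Modules.pullback i).obj (Omega.sheaf (CohB1.ProjSpace.toSpec n k)) ≅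
      Omega.sheaf (CohB1.ProjSpace.toSpec (n - 1) k) ⊞ Twist.twistProjSpace (n - 1) k (-1)) := by
  obtain ⟨e⟩ := Groth.Agent.H2.Euler.nonempty_pullback_omega_iso (m := n - 1) (n := n) (k := k) i
    (by omega) hO
  have h1 : n - (n - 1) = 1 := by omega
  rw [h1] at e
  have e2 : (⨁ fun _ : Fin 1 => Twist.twist (CohB1.polyGrading (n - 1) k) (-1)) ≅
      Twist.twist (CohB1.polyGrading (n - 1) k) (-1) := biproductUniqueIso _
  have e3 := biprod.mapIso e2 (Iso.refl (Omega.sheaf (Groth.Agent.H2.Euler.pS (n - 1) k)))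
  have e4 : Twist.twist (CohB1.polyGrading (n - 1) k) (-1) ⊞
        Omega.sheaf (Groth.Agent.H2.Euler.pS (n - 1) k) ≅
      Omega.sheaf (Groth.Agent.H2.Euler.pS (n - 1) k) ⊞
        Twist.twist (CohB1.polyGrading (n - 1) k) (-1) := biprod.braiding _ _
  exact ⟨e ≪≫ e3 ≪≫ e4⟩

end Groth.Agent.S11516
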