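import Groth.Statements.S11545
import Mathlib

set_option autoImplicit false
universe u
open AdicRing

namespace Groth.Agent.S11545

namespace Aux

section gen
variable {R : Type*} [CommRing R] (I : Ideal R) {S : Type*} [CommRing S] [Algebra R S]
  {B : Type*} [CommRing B] [Algebra R B]

local notation "J" => I.map (algebraMap R S)
local notation "Cpl" => AdicCompletion (I.map (algebraMap R S)) S

/-- density of `S` in its completion, modulo `I^n`. -/
theorem exists_sub_mem (hI : I.FG) (x : Cpl) (n : ℕ) :
    ∃ s : S, x - AdicCompletion.of J S s ∈ (I ^ n).map (algebraMap R Cpl) := by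
  obtain ⟨s, hs⟩ := Submodule.Quotient.mk_surjective _ (AdicCompletion.eval J S n x)
  refine ⟨s, ?_⟩
  have h0 : AdicCompletion.eval J S n (x - AdicCompletion.of J S s) = 0 := by
    rw [map_sub, AdicCompletion.eval_of, ← hs]
    simp
  have h1 : x - AdicCompletion.of J S s ∈ (J ^ n • ⊤ : Submodule S Cpl) := by
    rw [AdicCompletion.pow_smul_top_eq_ker_eval (hI.map _)]
    exact h0
  have key : ∀ y ∈ (J ^ n • ⊤ : Submodule S Cpl), y ∈ (I ^ n).map (algebraMap R Cpl) := by
    intro y hy
    refine Submodule.smul_induction_on hy ?_ ?_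
    · intro a ha z _
      rw [← Ideal.map_pow] at ha
      refine Submodule.span_induction ?_ ?_ ?_ ?_ ha
      · rintro _ ⟨r, hr, rfl⟩
        rw [algebraMap_smul, Algebra.smul_def]
        exact Ideal.mul_mem_right _ _ (Ideal.mem_map_of_mem _ hr)
      · simp
      · intro a b _ _ ha hb
        rw [add_smul]
        exact Ideal.add_mem _ ha hb
      · intro c a _ ha
        rw [smul_eq_mul, mul_smul, Algebra.smul_def]
        exact Ideal.mul_mem_left _ _ ha
    · intro a b ha hb
      exact Ideal.add_mem _ ha hb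
  exact key _ h1

theorem algHom_map_mem (χ : Cpl →ₐ[R] B) (n : ℕ) (y : Cpl)
    (hy : y ∈ (I ^ n).map (algebraMap R Cpl)) : χ y ∈ (I.map (algebraMap R B)) ^ n := by
  have h1 : ((I ^ n).map (algebraMap R Cpl)).map (χ : Cpl →+* B) = (I.map (algebraMap R B)) ^ n := by
    rw [Ideal.map_map, ← Ideal.map_pow]
    congr 1
    exact χ.comp_algebraMap
  rw [← h1]
  exact Ideal.mem_map_of_mem _ hy

/-- uniqueness of algebra maps from the completion to a separated algebra. -/
theorem algHom_ext_of_of (hI : I.FG) [IsHausdorff (I.map (algebraMap R B)) B]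
    (χ₁ χ₂ : Cpl →ₐ[R] B)
    (h : ∀ s : S, χ₁ (AdicCompletion.of J S s) = χ₂ (AdicCompletion.of J S s)) : χ₁ = χ₂ := by
  apply DFunLike.coe_injective
  apply IsHausdorff.funext' (I.map (algebraMap R B))
  intro n x
  obtain ⟨s, hs⟩ := exists_sub_mem I hI x n
  rw [Ideal.Quotient.eq]
  have e : χ₁ x - χ₂ x = χ₁ (x - AdicCompletion.of J S s) - χ₂ (x - AdicCompletion.of J S s) := by
    rw [map_sub, map_sub, h s]; ring
  rw [e]
  exact Ideal.sub_mem _ (algHom_map_mem I χ₁ n _ hs) (algHom_map_mem I χ₂ n _ hs)

end gen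

end Aux

/-- Let R be a base ring of class (N) or (V) for the ideal I, A an admissible R-algebra, f_0, ..., f_r
elements generating an open ideal 𝔞 of A, and A_i = C_i/(f_i-power torsion) the i-th chart algebra
of the formal blowing-up of 𝔞. Let B be an R-algebra complete and separated for the I-adic topology
and φ : A → B an R-algebra homomorphism such that the ideal 𝔞B is generated by φ(f_i), a
non-zero-divisor of B. Then there is exactly one R-algebra homomorphism A_i → B whose composite with
A → A_i is φ. -/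
theorem result
    (R : Type u) [CommRing R] (I : Ideal R) (hR : AdicRing.IsBase R I)
    (A : Type u) [CommRing A] [Algebra R A] (hA : AdicRing.Admissible R I A)
    (r : ℕ) (f : Fin (r + 1) → A) (k : ℕ)
    (hopen : (I ^ k).map (algebraMap R A) ≤ Ideal.span (Set.range f)) (i : Fin (r + 1))
    (B : Type u) [CommRing B] [Algebra R B] [IsAdicComplete (I.map (algebraMap R B)) B]
    (φ : A →ₐ[R] B) (hnzd : φ (f i) ∈ nonZeroDivisors B)
    (hgen : (Ideal.span (Set.range f)).map φ = Ideal.span {φ (f i)}) :
    ∃! ψ : AdicRing.chartAdm I f i →ₐ[R] B,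
      ψ.comp (IsScalarTower.toAlgHom R A (AdicRing.chartAdm I f i)) = φ := by
  classical
  -- I is finitely generated
  have hIfg : I.FG := by
    rcases hR.2 with ⟨hN, _⟩ | ⟨_, _, _, t, _, rfl⟩
    · exact IsNoetherian.noetherian I
    · exact ⟨{t}, by simp⟩
  -- the coefficients b j
  have hb : ∀ j : Fin (r + 1), ∃ b : B, b * φ (f i) = φ (f j) := by
    intro j
    have : φ (f j) ∈ (Ideal.span (Set.range f)).map φ :=
      Ideal.mem_map_of_mem _ (Ideal.subset_span ⟨j, rfl⟩)
    rw [hgen] at this
    exact Ideal.mem_span_singleton'.mp this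
  choose b hb using hb
  let σ := {j : Fin (r + 1) // j ≠ i}
  let K : Ideal (MvPolynomial σ A) := Ideal.span (Set.range fun j : σ =>
    MvPolynomial.C (f i) * MvPolynomial.X j - MvPolynomial.C (f j.1))
  let g₀ : MvPolynomial σ A →+* B := MvPolynomial.eval₂Hom (φ : A →+* B) (fun j => b j.1)
  have hg₀ : ∀ a ∈ K, g₀ a = 0 := by
    intro a ha
    refine Submodule.span_induction ?_ ?_ ?_ ?_ ha
    · rintro _ ⟨j, rfl⟩
      simp only [g₀, map_sub, map_mul, MvPolynomial.eval₂Hom_C, MvPolynomial.eval₂Hom_X']
      have := hb j.1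
      simp only [RingHom.coe_coe]
      rw [← this, mul_comm, sub_self]
    · simp
    · intro x y _ _ hx hy; rw [map_add, hx, hy, add_zero]
    · intro c x _ hx; rw [smul_eq_mul, map_mul, hx, mul_zero]
  let g₁r : chartAlg f i →+* B := Ideal.Quotient.lift K g₀ hg₀
  have hg₁C : ∀ a : A, g₁r (algebraMap A (chartAlg f i) a) = φ a := by
    intro a
    show g₁r (Ideal.Quotient.mk K (MvPolynomial.C a)) = φ a
    simp [g₁r, g₀]
  let g₁ : chartAlg f i →ₐ[R] B :=
    { g₁r with
      commutes' := fun x => by
        show g₁r (algebraMap R (chartAlg f i) x) = _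
        rw [IsScalarTower.algebraMap_apply R A (chartAlg f i), hg₁C]
        exact φ.commutes x }
  have hg₁C' : ∀ a : A, g₁ (algebraMap A (chartAlg f i) a) = φ a := hg₁C
  let J : Ideal (chartAlg f i) := I.map (algebraMap R (chartAlg f i))
  let IB : Ideal B := I.map (algebraMap R B)
  have hJ : ∀ n, J ^ n ≤ (IB ^ n).comap g₁ := by
    intro n
    rw [← Ideal.map_le_iff_le_comap, Ideal.map_pow]
    refine Ideal.pow_right_mono ?_ n
    show (I.map (algebraMap R (chartAlg f i))).map (g₁ : chartAlg f i →+* B) ≤ _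
    rw [Ideal.map_map, g₁.comp_algebraMap]
  let h : ∀ n, chartCompl I f i →ₐ[R] B ⧸ IB ^ n := fun n =>
    (Ideal.quotientMapₐ (IB ^ n) g₁ (hJ n)).comp ((AdicCompletion.evalₐ J n).restrictScalars R)
  have hcompat : ∀ {m n : ℕ} (hle : m ≤ n),
      (Ideal.Quotient.factorₐ R (Ideal.pow_le_pow_right hle)).comp (h n) = h m := by
    intro m n hle
    ext x
    obtain ⟨c, rfl⟩ := AdicCompletion.mk_surjective J _ x
    simp only [h, AlgHom.comp_apply, AlgHom.restrictScalars_apply, AdicCompletion.evalₐ_mk]
    show Ideal.Quotient.mk (IB ^ m) (g₁ (c n)) = Ideal.Quotient.mk (IB ^ m) (g₁ (c m))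
    rw [Ideal.Quotient.eq, ← map_sub]
    apply hJ m
    have hc := c.property hle
    rw [SModEq.sub_mem] at hc
    have hc' : (c m - c n) ∈ J ^ m := by simpa using hc
    have := Ideal.neg_mem_iff (J ^ m) |>.mpr hc'
    simpa using this
  let ψ₀ : chartCompl I f i →ₐ[R] B := IsAdicComplete.liftAlgHom IB h hcompat
  have hψ₀of : ∀ s : chartAlg f i, ψ₀ (AdicCompletion.of J _ s) = g₁ s := by
    have : (fun s : chartAlg f i => ψ₀ (AdicCompletion.of J _ s)) = fun s => g₁ s := by
      apply IsHausdorff.funext' IB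
      intro n s
      simp only [ψ₀]
      rw [IsAdicComplete.mk_liftAlgHom IB h hcompat n]
      simp only [h, AlgHom.comp_apply, AlgHom.restrictScalars_apply, AdicCompletion.evalₐ_of]
      rfl
    exact fun s => congrFun this s
  have hψ₀A : ∀ a : A, ψ₀ (algebraMap A (chartCompl I f i) a) = φ a := by
    intro a
    rw [AdicCompletion.algebraMap_apply, hψ₀of, hg₁C']
  let T : Ideal (chartCompl I f i) := (⨆ n : ℕ, Submodule.torsionBy (chartCompl I f i)
    (chartCompl I f i) (algebraMap A (chartCompl I f i) (f i) ^ n) : Ideal (chartCompl I f i))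
  have hT : ∀ x ∈ T, ψ₀ x = 0 := by
    have : T ≤ RingHom.ker (ψ₀ : chartCompl I f i →+* B) := by
      refine iSup_le fun n => ?_
      intro y hy
      rw [Submodule.mem_torsionBy_iff] at hy
      rw [RingHom.mem_ker]
      have h1 := congrArg ψ₀ hy
      rw [smul_eq_mul, map_mul, map_pow, hψ₀A, map_zero] at h1
      exact (mul_left_mem_nonZeroDivisors_eq_zero_iff (pow_mem hnzd n)).mp h1
    intro x hx
    exact this hx
  let ψ : chartAdm I f i →ₐ[R] B := Ideal.Quotient.liftₐ T ψ₀ hT
  have hψmk : ∀ x : chartCompl I f i, ψ (Ideal.Quotient.mk T x) = ψ₀ x := fun x => rfl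
  refine ⟨ψ, ?_, ?_⟩
  · ext a
    show ψ (algebraMap A (chartAdm I f i) a) = φ a
    exact hψ₀A a
  · intro ψ' hψ'
    have hψ'A : ∀ a : A, ψ' (algebraMap A (chartAdm I f i) a) = φ a := fun a =>
      congrArg (fun F : A →ₐ[R] B => F a) hψ'
    let χ' : chartCompl I f i →ₐ[R] B := ψ'.comp (Ideal.Quotient.mkₐ R T)
    have hrel : ∀ j : σ, (Ideal.Quotient.mk K (MvPolynomial.C (f i) * MvPolynomial.X j) : chartAlg f i)
        = Ideal.Quotient.mk K (MvPolynomial.C (f j.1)) := by
      intro j
      rw [Ideal.Quotient.eq]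
      exact Ideal.subset_span ⟨j, rfl⟩
    have hring : (χ' : chartCompl I f i →+* B).comp (algebraMap (chartAlg f i) (chartCompl I f i))
        = g₁r := by
      apply Ideal.Quotient.ringHom_ext
      apply MvPolynomial.ringHom_ext
      · intro a
        have e1 : g₁r (Ideal.Quotient.mk K (MvPolynomial.C a)) = φ a := hg₁C a
        have e2 : χ' (algebraMap (chartAlg f i) (chartCompl I f i)
            (Ideal.Quotient.mk K (MvPolynomial.C a))) = φ a := hψ'A a
        simpa using e2.trans e1.symm
      · intro j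
        have e1 : g₁r (Ideal.Quotient.mk K (MvPolynomial.X j)) = b j.1 := by
          simp [g₁r, g₀]
        have e2 : φ (f i) * χ' (algebraMap (chartAlg f i) (chartCompl I f i)
            (Ideal.Quotient.mk K (MvPolynomial.X j))) = b j.1 * φ (f i) := by
          rw [hb j.1, ← hψ'A (f i), ← hψ'A (f j.1)]
          have : (algebraMap A (chartAdm I f i) (f i)) * (Ideal.Quotient.mk T
              (algebraMap (chartAlg f i) (chartCompl I f i)
                (Ideal.Quotient.mk K (MvPolynomial.X j)))) =
              algebraMap A (chartAdm I f i) (f j.1) := by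
            show Ideal.Quotient.mk T (algebraMap (chartAlg f i) (chartCompl I f i)
                (Ideal.Quotient.mk K (MvPolynomial.C (f i)))) * _ =
              Ideal.Quotient.mk T (algebraMap (chartAlg f i) (chartCompl I f i)
                (Ideal.Quotient.mk K (MvPolynomial.C (f j.1))))
            rw [← map_mul, ← map_mul, ← map_mul, hrel j]
          rw [← this, map_mul]
          rfl
        have e3 : χ' (algebraMap (chartAlg f i) (chartCompl I f i)
            (Ideal.Quotient.mk K (MvPolynomial.X j))) = b j.1 := by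
          rw [mul_comm] at e2
          exact (mul_cancel_right_mem_nonZeroDivisors hnzd).mp e2
        simpa using e3.trans e1.symm
    have key : χ' = ψ₀ := by
      apply Aux.algHom_ext_of_of I hIfg
      intro s
      rw [hψ₀of]
      exact congrArg (fun F : chartAlg f i →+* B => F s) hring
    apply AlgHom.ext
    intro z
    obtain ⟨x, rfl⟩ := Ideal.Quotient.mk_surjective z
    rw [hψmk]
    exact congrArg (fun F : chartCompl I f i →ₐ[R] B => F x) key

end Groth.Agent.S11545
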