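import Groth.Statements.S8917
import Groth.Agent.Lib.Helper3.OmFin
import Groth.Agent.S8872

set_option autoImplicit false
universe u
open CategoryTheory CategoryTheory.Limits AlgebraicGeometry TopologicalSpace
open SDiv

namespace Groth.Agent.S8917

/-- Let f : X ⟶ S be locally of finite type and quasi-separated and let g : S' ⟶ S be a morphism, X' = X
×_S S' with projections g' : X' ⟶ X and f' : X' ⟶ S'. Then for every i the inverse image ideal sheaf
under g' of the i-th Fitting ideal of Ω_{X/S} is the i-th Fitting ideal of Ω_{X'/S'}: the Fitting
subschemes of Ω are compatible with base change. The published statement does not assume f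
quasi-separated; this row does, because the module Ω_{X/S} used here is defined for quasi-separated
f. -/
theorem result {X S S' : Scheme.{u}} (f : X ⟶ S) [LocallyOfFiniteType f] [QuasiSeparated f] (g : S' ⟶ S)
    (i : ℕ) :
    (Fitt.sheafIdeal (Omega.sheaf f) i).comap (pullback.fst f g) = Fitt.sheafIdeal (Omega.sheaf (pullback.snd f g)) i := by
  haveI : QuasiSeparated (pullback.snd f g) := MorphismProperty.pullback_snd f g inferInstance
  obtain ⟨e⟩ := Groth.Agent.H3.Om.nonempty_pullback_omega_iso f (IsPullback.of_hasPullback f g)
  rw [Groth.Agent.S8872.result (pullback.fst f g) (Omega.sheaf f) (Groth.Agent.H3.Om.qc_omega f) (Groth.Agent.H3.Om.isFiniteType_omega f) i]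
  exact Groth.Agent.H3.Om.fitt_sheafIdeal_eq_of_iso e i

end Groth.Agent.S8917
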