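import Groth.Statements.S1162
import Mathlib
import Groth.Agent.Lib.Helper1.PBU

set_option autoImplicit false
open CategoryTheory CategoryTheory.Limits AlgebraicGeometry Opposite
universe u
open Desc

namespace Groth.Agent.S1162

/-- A generalizing map of quasi-sober T0 spaces sends generic points of irreducible components to
generic points of irreducible components. -/
theorem closure_map_mem_irreducibleComponents {W X : Type*} [TopologicalSpace W]
    [TopologicalSpace X] [QuasiSober X] [T0Space W] (p : W → X) (hp : GeneralizingMap p)
    (η : W) (hη : closure ({η} : Set W) ∈ irreducibleComponents W) :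
    closure ({p η} : Set X) ∈ irreducibleComponents X := by
  refine ⟨isIrreducible_singleton.closure, ?_⟩
  intro T hT hle
  -- generic point of closure T
  obtain ⟨ξ', hξ'⟩ := QuasiSober.sober hT.closure isClosed_closure
  have h1 : ξ' ⤳ p η := by
    rw [specializes_iff_mem_closure, hξ'.def]
    exact subset_closure (hle (subset_closure rfl))
  obtain ⟨η', hη', hpη'⟩ := hp h1
  have h2 : closure ({η} : Set W) ⊆ closure ({η'} : Set W) :=
    (specializes_iff_closure_subset).mp hη'
  have h3 : closure ({η'} : Set W) ⊆ closure ({η} : Set W) :=
    hη.2 isIrreducible_singleton.closure h2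
  have h4 : η ⤳ η' := specializes_iff_closure_subset.mpr h3
  have h5 : η' = η := (hη'.antisymm h4).eq
  subst h5
  rw [hpη', hξ'.def]
  exact subset_closure

/-- Let f : X ⟶ Y be flat and separated. Write X⁰ for the generic points of the irreducible components
of X. If for every ξ in X⁰ the residue field extension κ(f ξ) ⊆ κ(ξ) is trivial and f is injective
on X⁰, then f is universally injective. -/
theorem result {X Y : Scheme.{u}} (f : X ⟶ Y) [Flat f] [IsSeparated f]
    (h2 : ∀ ξ : X, closure ({ξ} : Set X) ∈ irreducibleComponents (X : Type u) →
      Function.Surjective (f.residueFieldMap ξ).hom)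
    (h3 : Set.InjOn f.base {ξ : X | closure ({ξ} : Set X) ∈ irreducibleComponents (X : Type u)}) :
    UniversallyInjective f := by
  rw [UniversallyInjective.iff_diagonal]
  constructor
  intro z
  obtain ⟨η, hη⟩ := QuasiSober.sober (isIrreducible_irreducibleComponent (x := z))
    isClosed_irreducibleComponent
  have hηc : closure ({η} : Set ↥(pullback f f)) ∈ irreducibleComponents ↥(pullback f f) := by
    rw [hη.def]; exact irreducibleComponent_mem_irreducibleComponents z
  have hz : z ∈ closure ({η} : Set ↥(pullback f f)) := by
    rw [hη.def]; exact mem_irreducibleComponent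
  have h1 := closure_map_mem_irreducibleComponents (pullback.fst f f)
    (Flat.generalizingMap (pullback.fst f f)) η hηc
  have h1' := closure_map_mem_irreducibleComponents (pullback.snd f f)
    (Flat.generalizingMap (pullback.snd f f)) η hηc
  have hcond : f (pullback.fst f f η) = f (pullback.snd f f η) := by
    rw [← Scheme.Hom.comp_apply, ← Scheme.Hom.comp_apply, pullback.condition]
  have heq : pullback.fst f f η = pullback.snd f f η := h3 h1 h1' hcond
  have hΔ : η = pullback.diagonal f (pullback.fst f f η) := by
    apply Groth.Agent.H1.PBU.eq_of_fst_eq_of_snd_eq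
    · exact ⟨(f.residueFieldMap _).hom.injective, h2 _ h1'⟩
    · rw [← Scheme.Hom.comp_apply, pullback.diagonal_fst]; rfl
    · rw [← Scheme.Hom.comp_apply, pullback.diagonal_snd]; exact heq.symm
  have hcl : IsClosed (Set.range (pullback.diagonal f)) :=
    (pullback.diagonal f).isClosedEmbedding.isClosed_range
  have : closure ({η} : Set ↥(pullback f f)) ⊆ Set.range (pullback.diagonal f) := by
    apply hcl.closure_subset_iff.mpr
    rw [Set.singleton_subset_iff, hΔ]
    exact ⟨_, rfl⟩
  exact this hz

end Groth.Agent.S1162
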