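import Groth.Statements.S1164
import Mathlib
import Groth.Agent.Lib.Helper1.FlatSource

set_option autoImplicit false
universe u
open Desc

namespace Groth.Agent.S1164

namespace H1.S1164aux
open TensorProduct

/-- Stacks 092C for étale algebras: an algebra over an étale `R`-algebra `E` which is flat over
`R` is flat over `E`. -/
theorem flat_of_etale_of_flat (R E M : Type u) [CommRing R] [CommRing E] [CommRing M]
    [Algebra R E] [Algebra.Etale R E] [Algebra R M] [Algebra E M] [IsScalarTower R E M]
    [Module.Flat R M] : Module.Flat E M := by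
  letI : Algebra M (E ⊗[R] M) := Algebra.TensorProduct.rightAlgebra
  let e : M ⊗[R] E ≃ₐ[M] E ⊗[R] M :=
    { __ := Algebra.TensorProduct.comm R M E, commutes' := fun _ => rfl }
  haveI : Algebra.Etale M (E ⊗[R] M) := Algebra.Etale.of_equiv e
  let μ : E ⊗[R] M →ₐ[E] M :=
    Algebra.TensorProduct.lift (Algebra.ofId E M) (AlgHom.id R M) (fun _ _ => Commute.all _ _)
  algebraize [μ.toRingHom]
  haveI : IsScalarTower M (E ⊗[R] M) M := IsScalarTower.of_algebraMap_eq' (by
    ext m
    change m = μ ((1 : E) ⊗ₜ[R] m)
    simp [μ])
  haveI : IsScalarTower E (E ⊗[R] M) M := IsScalarTower.of_algebraMap_eq' (by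
    ext x
    exact (μ.commutes x).symm)
  haveI : Algebra.Etale (E ⊗[R] M) M := Algebra.Etale.of_restrictScalars M (E ⊗[R] M) M
  haveI : Module.Flat (E ⊗[R] M) M := Algebra.Smooth.flat (E ⊗[R] M) M
  exact Module.Flat.trans E (E ⊗[R] M) M


theorem main (R S R' S' : Type u) [CommRing R] [CommRing S] [CommRing R'] [CommRing S']
    [IsLocalRing R] [IsLocalRing S] [IsLocalRing R'] [IsLocalRing S']
    [Algebra R S] [IsLocalHom (algebraMap R S)] [Algebra R R'] [IsLocalHom (algebraMap R R')]
    [Algebra S S'] [IsLocalHom (algebraMap S S')] [Algebra R' S'] [Algebra R S']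
    [IsScalarTower R R' S'] [IsScalarTower R S S']
    (E : Type u) [CommRing E] [Algebra R E] [Algebra.Etale R E] (P : Ideal E) [P.IsPrime]
    [Algebra E R'] [IsScalarTower R E R'] [IsLocalization.AtPrime R' P]
    (F : Type u) [CommRing F] [Algebra S F] [Algebra.Etale S F] (Q : Ideal F) [Q.IsPrime]
    [Algebra F S'] [IsScalarTower S F S'] [IsLocalization.AtPrime S' Q] :
    Module.Flat R S ↔ Module.Flat R' S' := by
  haveI : Module.Flat S F := Algebra.Smooth.flat S F
  haveI : Module.Flat F S' := IsLocalization.flat S' Q.primeCompl
  haveI : Module.Flat S S' := Module.Flat.trans S F S'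
  haveI : Module.Flat R E := Algebra.Smooth.flat R E
  haveI : Module.Flat E R' := IsLocalization.flat R' P.primeCompl
  haveI : Module.Flat R R' := Module.Flat.trans R E R'
  constructor
  · intro h
    haveI : Module.Flat R S' := Module.Flat.trans R S S'
    letI : Algebra E S' := ((algebraMap R' S').comp (algebraMap E R')).toAlgebra
    haveI : IsScalarTower E R' S' := IsScalarTower.of_algebraMap_eq' rfl
    haveI : IsScalarTower R E S' := IsScalarTower.of_algebraMap_eq' (by
      rw [IsScalarTower.algebraMap_eq R R' S', IsScalarTower.algebraMap_eq R E R']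
      rfl)
    haveI : Module.Flat E S' := flat_of_etale_of_flat R E S'
    exact (Module.flat_iff_of_isLocalization (R := E) R' P.primeCompl S').mpr inferInstance
  · intro h
    haveI : Module.Flat R S' := Module.Flat.trans R R' S'
    haveI : Module.FaithfullyFlat S S' := Module.FaithfullyFlat.of_flat_of_isLocalHom
    exact Groth.Agent.H1.flat_of_flat_of_faithfullyFlat R S S'

end H1.S1164aux

/-- Let R → S be a local homomorphism of local rings. Let R' be a local ring which is a localization at
a prime of an etale R-algebra, with R → R' local, and similarly S' for S, and suppose S' is an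
R'-algebra compatibly with the given maps. Then R → S is flat if and only if R' → S' is flat. (This
is the statement that flatness of a morphism of germs is etale local on source and target together.) -/
theorem result (R S R' S' : Type u) [CommRing R] [CommRing S] [CommRing R'] [CommRing S']
    [IsLocalRing R] [IsLocalRing S] [IsLocalRing R'] [IsLocalRing S']
    [Algebra R S] [IsLocalHom (algebraMap R S)] [Algebra R R'] [IsLocalHom (algebraMap R R')]
    [Algebra S S'] [IsLocalHom (algebraMap S S')] [Algebra R' S'] [Algebra R S']
    [IsScalarTower R R' S'] [IsScalarTower R S S']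
    (E : Type u) [CommRing E] [Algebra R E] [Algebra.Etale R E] (P : Ideal E) [P.IsPrime]
    [Algebra E R'] [IsScalarTower R E R'] [IsLocalization.AtPrime R' P]
    (F : Type u) [CommRing F] [Algebra S F] [Algebra.Etale S F] (Q : Ideal F) [Q.IsPrime]
    [Algebra F S'] [IsScalarTower S F S'] [IsLocalization.AtPrime S' Q] :
    Module.Flat R S ↔ Module.Flat R' S' := by
  exact H1.S1164aux.main R S R' S' E P F Q

end Groth.Agent.S1164
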