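import Groth.Statements.S1179
import Mathlib
import Groth.Agent.Lib.Helper1.SourceDescent

set_option autoImplicit false
open CategoryTheory CategoryTheory.Limits AlgebraicGeometry Opposite
universe u
open Desc

namespace Groth.Agent.S1179

namespace H1.S1179aux

theorem isDiscrete_of_preimage {X Y : Type*} [TopologicalSpace X] [TopologicalSpace Y]
    (f : X → Y) (hf : IsOpenMap f) (hs : Function.Surjective f) (Z : Set Y)
    (hZ : IsDiscrete (f ⁻¹' Z)) : IsDiscrete Z := by
  rw [isDiscrete_iff_forall_mem_exists_isOpen] at hZ ⊢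
  intro z hz
  obtain ⟨x, rfl⟩ := hs z
  obtain ⟨u, hu, hux⟩ := hZ x hz
  refine ⟨f '' u, hf u hu, ?_⟩
  ext y
  constructor
  · rintro ⟨⟨x', hx', rfl⟩, hy⟩
    have : x' ∈ u ∩ f ⁻¹' Z := ⟨hx', hy⟩
    rw [hux] at this
    rw [Set.mem_singleton_iff.mp this]
    exact rfl
  · intro hy
    rw [Set.mem_singleton_iff.mp hy]
    have : x ∈ u ∩ f ⁻¹' Z := by rw [hux]; exact rfl
    exact ⟨⟨x, this.1, rfl⟩, hz⟩

end H1.S1179aux

/-- Let f : X' ⟶ X be etale and surjective and g : X ⟶ Y a morphism. If f ≫ g is locally quasi-finite,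
then g is locally quasi-finite; with stability under precomposition by etale maps this says that
local quasi-finiteness is etale local on the source. -/
theorem result {X' X Y : Scheme.{u}} (f : X' ⟶ X) (g : X ⟶ Y) [Etale f] [Surjective f]
    [LocallyQuasiFinite (f ≫ g)] [LocallyOfFiniteType (f ≫ g)] : LocallyQuasiFinite g ∧ LocallyOfFiniteType g := by
  haveI : LocallyOfFiniteType g := Groth.Agent.H1.SourceDescent.locallyOfFiniteType_of_comp f g
  refine ⟨?_, inferInstance⟩
  rw [locallyQuasiFinite_iff_isDiscrete_preimage_singleton]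
  intro y
  apply H1.S1179aux.isDiscrete_of_preimage f.base f.isOpenMap f.surjective
  have := (f ≫ g).isDiscrete_preimage_singleton y
  exact this

end Groth.Agent.S1179
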