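import Groth.Statements.S1183
import Groth.Agent.Lib.Helper2.RkSmooth

set_option autoImplicit false
universe u
open Desc

namespace Groth.Agent.S1183

/-- Let A → B be a smooth ring map of Noetherian rings and k a natural number. If A satisfies (R_k) then
so does B; and if moreover A → B is faithfully flat and B satisfies (R_k), then A does. -/
theorem result (A B : Type u) [CommRing A] [CommRing B] [IsNoetherianRing A] [IsNoetherianRing B]
    [Algebra A B] [Algebra.Smooth A B] (k : ℕ) :
    (LocCoh.HasRk k A → LocCoh.HasRk k B) ∧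
    (Module.FaithfullyFlat A B → LocCoh.HasRk k B → LocCoh.HasRk k A) := by
  constructor
  · intro hA
    rw [Groth.Agent.H2.RkSm.hasRk_iff_forall_rkBelow] at hA ⊢
    intro Q hQ
    exact Groth.Agent.H2.RkSm.regular_ascent k Q (hA _)
  · intro hff hB
    rw [Groth.Agent.H2.RkSm.hasRk_iff_forall_rkBelow] at hB ⊢
    intro p hp
    obtain ⟨Q, hQ, hQo⟩ := Ideal.exists_isPrime_liesOver_of_faithfullyFlat (B := B) p
    have h1 := Groth.Agent.H2.RkSm.regular_descent (A := A) k Q (hB Q)
    have h2 : Q.comap (algebraMap A B) = p := hQo.over.symm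
    rw [h2] at h1
    exact h1

end Groth.Agent.S1183
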