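import Groth.Statements.S1190
import Mathlib
import Groth.Agent.Lib.Helper1.Gal4

set_option autoImplicit false
universe u v w
open CategoryTheory PreGaloisCategory
open Pi1

namespace Groth.Agent.S1190

namespace Aux
open Groth.Agent.Lib.Helper1.Gal CategoryTheory.Limits

variable {C C' C'' : Type u} [Category.{v} C] [Category.{v} C'] [Category.{v} C'']
    [GaloisCategory C] [GaloisCategory C'] [GaloisCategory C'']
    (H : C ⥤ C') (H' : C' ⥤ C'')
    (F'' : C'' ⥤ FintypeCat.{w}) [FiberFunctor F''] [FiberFunctor (H' ⋙ F'')]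
    [FiberFunctor (H ⋙ (H' ⋙ F''))]

/-- the closed normal subgroup generated by the image of `h'` -/
abbrev N : Subgroup (Aut (H' ⋙ F'')) :=
  (Subgroup.normalClosure (Set.range (Pi1X.autWhisker H' F''))).topologicalClosure

omit [GaloisCategory C'] [GaloisCategory C''] [FiberFunctor F''] [FiberFunctor (H' ⋙ F'')] in
lemma N_le_of_normal_closed (M : Subgroup (Aut (H' ⋙ F''))) [M.Normal]
    (hM : IsClosed (M : Set (Aut (H' ⋙ F''))))
    (hle : ∀ σ'' : Aut F'', Pi1X.autWhisker H' F'' σ'' ∈ M) : N H' F'' ≤ M := by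
  refine Subgroup.topologicalClosure_minimal _ ?_ hM
  refine Subgroup.normalClosure_le_normal ?_
  rintro _ ⟨σ'', rfl⟩
  exact hle σ''

/-- kernel of the action on a fibre -/
def actKer (X' : C') : Subgroup (Aut (H' ⋙ F'')) :=
  (MulAction.toPermHom (Aut (H' ⋙ F'')) ((H' ⋙ F'').obj X')).ker

instance (X' : C') : (actKer H' F'' X').Normal := by
  unfold actKer; infer_instance

omit [GaloisCategory C''] [FiberFunctor F''] in
lemma mem_actKer_iff (X' : C') (σ' : Aut (H' ⋙ F'')) :
    σ' ∈ actKer H' F'' X' ↔ ∀ y : (H' ⋙ F'').obj X', σ' • y = y := by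
  unfold actKer
  rw [MonoidHom.mem_ker]
  constructor
  · intro h y
    exact congrFun (congrArg (fun e : Equiv.Perm _ => (e : _ → _)) h) y
  · intro h
    ext y
    exact h y

omit [GaloisCategory C''] [FiberFunctor F''] in
lemma isClosed_actKer (X' : C') : IsClosed (actKer H' F'' X' : Set (Aut (H' ⋙ F''))) := by
  have : (actKer H' F'' X' : Set (Aut (H' ⋙ F''))) =
      ⋂ y : (H' ⋙ F'').obj X', (MulAction.stabilizer (Aut (H' ⋙ F'')) y : Set _) := by
    ext σ'
    simp only [SetLike.mem_coe, Set.mem_iInter, MulAction.mem_stabilizer_iff]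
    exact mem_actKer_iff H' F'' X' σ'
  rw [this]
  exact isClosed_iInter (fun y =>
    Subgroup.isClosed_of_isOpen _ (stabilizer_isOpen (Aut (H' ⋙ F'')) y))

end Aux

/-- Let H : C ⥤ C' and H' : C' ⥤ C'' be exact functors between Galois categories, F'' a fibre functor on
C'' with F'' ∘ H' and F'' ∘ H' ∘ H fibre functors, and h', h the induced homomorphisms of
fundamental groups. Then: h is surjective, h ∘ h' is trivial and the kernel of h is the closed
normal subgroup generated by the image of h', if and only if H is fully faithful and its essential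
image consists exactly of those X' in C' for which H'(X') is a finite coproduct of copies of the
final object. -/
theorem result {C C' C'' : Type u} [Category.{v} C] [Category.{v} C'] [Category.{v} C'']
    [GaloisCategory C] [GaloisCategory C'] [GaloisCategory C'']
    (H : C ⥤ C') [Limits.PreservesFiniteLimits H] [Limits.PreservesFiniteColimits H]
    (H' : C' ⥤ C'') [Limits.PreservesFiniteLimits H'] [Limits.PreservesFiniteColimits H']
    (F'' : C'' ⥤ FintypeCat.{w}) [FiberFunctor F''] [FiberFunctor (H' ⋙ F'')] [FiberFunctor (H ⋙ (H' ⋙ F''))] :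
    (Function.Surjective (Pi1X.autWhisker H (H' ⋙ F'')) ∧
      (∀ σ : Aut F'', Pi1X.autWhisker H (H' ⋙ F'') (Pi1X.autWhisker H' F'' σ) = 1) ∧
      (Pi1X.autWhisker H (H' ⋙ F'')).ker = (Subgroup.normalClosure (Set.range (Pi1X.autWhisker H' F''))).topologicalClosure) ↔
    ((H.Full ∧ H.Faithful) ∧
      ∀ X' : C', (∃ X : C, Nonempty (H.obj X ≅ X')) ↔ ∃ n : ℕ, Nonempty (H'.obj X' ≅ ∐ fun _ : Fin n => ⊤_ C'')) := by
  constructor
  · rintro ⟨hs, ht, hk⟩
    refine ⟨⟨Groth.Agent.Lib.Helper1.Gal.full_of_surjective H (H' ⋙ F'') hs,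
      Groth.Agent.Lib.Helper1.Gal.faithful_of_fiberFunctor H (H' ⋙ F'')⟩, fun X' => ⟨?_, ?_⟩⟩
    · rintro ⟨X, ⟨j⟩⟩
      refine Groth.Agent.Lib.Helper1.Gal.exists_iso_sigma_terminal_of_trivial_action F''
        (H'.obj X') (fun σ y => ?_)
      refine Groth.Agent.Lib.Helper1.Gal.smul_fixed_of_iso F'' (H'.mapIso j) σ (fun z => ?_) y
      have h1 := ht σ
      have h2 : (Pi1X.autWhisker H (H' ⋙ F'') (Pi1X.autWhisker H' F'' σ)) •
          (show (H ⋙ (H' ⋙ F'')).obj X from z) = (show (H ⋙ (H' ⋙ F'')).obj X from z) := by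
        rw [h1, one_smul]
      exact h2
    · rintro ⟨n, ⟨i⟩⟩
      refine Groth.Agent.Lib.Helper1.Gal.exists_obj_iso_of_ker_trivial H (H' ⋙ F'') hs X' ?_
      intro σ' hσ' y
      rw [hk] at hσ'
      have hN : Aux.N H' F'' ≤ Aux.actKer H' F'' X' := by
        refine Aux.N_le_of_normal_closed H' F'' _ (Aux.isClosed_actKer H' F'' X') (fun σ'' => ?_)
        rw [Aux.mem_actKer_iff]
        intro y
        exact Groth.Agent.Lib.Helper1.Gal.trivial_action_of_iso_sigma_terminal F''
          (H'.obj X') n i σ'' y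
      exact (Aux.mem_actKer_iff H' F'' X' σ').1 (hN hσ') y
  · rintro ⟨⟨hfull, hfaith⟩, hess⟩
    haveI := hfull
    have hs : Function.Surjective (Pi1X.autWhisker H (H' ⋙ F'')) :=
      Groth.Agent.Lib.Helper1.Gal.surjective_of_full H (H' ⋙ F'')
    have ht : ∀ σ : Aut F'', Pi1X.autWhisker H (H' ⋙ F'') (Pi1X.autWhisker H' F'' σ) = 1 := by
      intro σ
      apply Groth.Agent.Lib.Helper1.Gal.aut_eq_one_of_smul
      intro X x
      obtain ⟨n, ⟨i⟩⟩ := (hess (H.obj X)).1 ⟨X, ⟨Iso.refl _⟩⟩
      exact Groth.Agent.Lib.Helper1.Gal.trivial_action_of_iso_sigma_terminal F''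
        (H'.obj (H.obj X)) n i σ x
    refine ⟨hs, ht, le_antisymm ?_ ?_⟩
    · -- ker h ≤ N
      let Nc : ClosedSubgroup (Aut (H' ⋙ F'')) :=
        { toSubgroup := Aux.N H' F''
          isClosed' := Subgroup.isClosed_topologicalClosure _ }
      have hNc := ProfiniteGrp.closedSubgroup_eq_sInf_open Nc
      show _ ≤ (Nc : Subgroup (Aut (H' ⋙ F'')))
      rw [hNc]
      refine le_sInf ?_
      rintro U' ⟨hU'open, hNU'⟩
      obtain ⟨X', a', hX', hstab⟩ :=
        Groth.Agent.Lib.Helper1.Gal.exists_connected_of_openSubgroup (H' ⋙ F'') U' hU'open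
      haveI : (Aux.N H' F'').Normal := Subgroup.is_normal_topologicalClosure _
      have htriv : ∀ (σ'' : Aut F'') (y : F''.obj (H'.obj X')), σ'' • y = y := by
        intro σ'' y
        obtain ⟨τ, hτ⟩ := Groth.Agent.Lib.Helper1.Gal.pretransitive_of_isConnected
          (H' ⋙ F'') X' a' y
        have h0 : Pi1X.autWhisker H' F'' σ'' ∈ Aux.N H' F'' :=
          Subgroup.le_topologicalClosure _ (Subgroup.subset_normalClosure ⟨σ'', rfl⟩)
        have h1 : τ⁻¹ * Pi1X.autWhisker H' F'' σ'' * τ ∈ Aux.N H' F'' := by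
          have := (inferInstance : (Aux.N H' F'').Normal).conj_mem _ h0 τ⁻¹
          simpa using this
        have h2 : τ⁻¹ * Pi1X.autWhisker H' F'' σ'' * τ ∈ U' := hNU' h1
        rw [← hstab, MulAction.mem_stabilizer_iff, mul_smul, mul_smul, hτ, inv_smul_eq_iff,
          hτ] at h2
        exact h2
      obtain ⟨X, ⟨j⟩⟩ := (hess X').2
        (Groth.Agent.Lib.Helper1.Gal.exists_iso_sigma_terminal_of_trivial_action F''
          (H'.obj X') htriv)
      intro σ' hσ'
      rw [Groth.Agent.Lib.Helper1.Gal.mem_ker_autWhisker_iff] at hσ'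
      rw [← hstab, MulAction.mem_stabilizer_iff]
      exact Groth.Agent.Lib.Helper1.Gal.smul_fixed_of_iso (H' ⋙ F'') j σ' (hσ' X) a'
    · -- N ≤ ker h
      refine Aux.N_le_of_normal_closed H' F'' _ ?_ (fun σ'' => MonoidHom.mem_ker.2 (ht σ''))
      have : ((Pi1X.autWhisker H (H' ⋙ F'')).ker : Set (Aut (H' ⋙ F''))) =
          (Pi1X.autWhisker H (H' ⋙ F'')) ⁻¹' {1} := by
        ext σ'
        simp [MonoidHom.mem_ker]
      rw [this]
      exact isClosed_singleton.preimage
        (Groth.Agent.Lib.Helper1.Gal.continuous_autWhisker H (H' ⋙ F''))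

end Groth.Agent.S1190
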