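import Groth.Statements.S1191
import Groth.Agent.Lib.Helper1.AssFibre

set_option autoImplicit false
universe u
open FlatMor

namespace Groth.Agent.S1191

attribute [local instance] Algebra.TensorProduct.rightAlgebra in
open TensorProduct in
theorem main_S1191 {R S : Type u} [CommRing R] [CommRing S] [Algebra R S] [Algebra.FinitePresentation R S]
    (N : Type u) [AddCommGroup N] [Module S N] [Module R N] [IsScalarTower R S N] [Module.FinitePresentation S N]
    (p : Ideal R) [p.IsPrime] (q : Ideal S) [q.IsPrime] [q.LiesOver p] :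
    ∃ g : S, g ∉ q ∧ ∀ r ∈ associatedPrimes (p.Fiber S) (FlatCA.fiberMod p S N),
      ¬ r ≤ FlatCA.fiberIdeal p q → (1 : p.ResidueField) ⊗ₜ[R] g ∈ r := by
  classical
  haveI : IsNoetherianRing (p.Fiber S) :=
    Algebra.FiniteType.isNoetherianRing p.ResidueField (p.Fiber S)
  haveI : Module.Finite (p.Fiber S) (FlatCA.fiberMod p S N) :=
    inferInstanceAs (Module.Finite (p.Fiber S) ((p.Fiber S) ⊗[S] N))
  have hfin : (associatedPrimes (p.Fiber S) (FlatCA.fiberMod p S N)).Finite :=
    associatedPrimes.finite (p.Fiber S) (FlatCA.fiberMod p S N)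
  have hch : ∀ r : Ideal (p.Fiber S), ¬ r ≤ FlatCA.fiberIdeal p q →
      ∃ s : S, s ∉ q ∧ Groth.Agent.H1.AssFibre.inc p S s ∈ r := by
    intro r hr
    obtain ⟨x, hxr, hxq⟩ := SetLike.not_le_iff_exists.mp hr
    obtain ⟨a, ha, s, e⟩ := Ideal.Fiber.exists_smul_eq_one_tmul p x
    refine ⟨s, ?_, ?_⟩
    · intro hs
      apply hxq
      have h1 : Groth.Agent.H1.AssFibre.inc p S s ∈ FlatCA.fiberIdeal p q :=
        Ideal.mem_map_of_mem _ hs
      rw [Groth.Agent.H1.AssFibre.inc_apply, ← e] at h1
      exact Groth.Agent.H1.AssFibre.mem_of_smul_mem p S _ a ha x h1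
    · rw [Groth.Agent.H1.AssFibre.inc_apply, ← e, Algebra.smul_def]
      exact r.mul_mem_left _ hxr
  choose! σ hσq hσr using hch
  let A : Finset (Ideal (p.Fiber S)) := hfin.toFinset.filter fun r => ¬ r ≤ FlatCA.fiberIdeal p q
  refine ⟨∏ r ∈ A, σ r, ?_, ?_⟩
  · intro hmem
    obtain ⟨r, hrA, hr⟩ := (Ideal.IsPrime.prod_mem_iff (hp := ‹q.IsPrime›)).mp hmem
    exact hσq r (Finset.mem_filter.mp hrA).2 hr
  · intro r hr hrq
    have hrA : r ∈ A := Finset.mem_filter.mpr ⟨hfin.mem_toFinset.mpr hr, hrq⟩
    change Groth.Agent.H1.AssFibre.inc p S (∏ r ∈ A, σ r) ∈ r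
    rw [map_prod, ← Finset.mul_prod_erase A _ hrA]
    exact r.mul_mem_right _ (hσr r hrq)

open TensorProduct in
/-- For a finitely presented algebra S over R, a finitely presented S-module N and a prime q of S over
p, some element of S outside q maps into every associated prime of the fibre module of N over p that
is not contained in the extension of q to the fibre ring. -/
theorem result {R S : Type u} [CommRing R] [CommRing S] [Algebra R S] [Algebra.FinitePresentation R S]
    (N : Type u) [AddCommGroup N] [Module S N] [Module R N] [IsScalarTower R S N] [Module.FinitePresentation S N]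
    (p : Ideal R) [p.IsPrime] (q : Ideal S) [q.IsPrime] [q.LiesOver p] :
    ∃ g : S, g ∉ q ∧ ∀ r ∈ associatedPrimes (p.Fiber S) (FlatCA.fiberMod p S N),
      ¬ r ≤ FlatCA.fiberIdeal p q → (1 : p.ResidueField) ⊗ₜ[R] g ∈ r := by
  exact main_S1191 N p q

end Groth.Agent.S1191
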