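import Groth.Statements.S1193
import Groth.Agent.Lib.Helper1.SemiLoc

set_option autoImplicit false
universe u
open FlatMor

namespace Groth.Agent.S1193

namespace Groth.Agent.H1.S1193aux

open TensorProduct

attribute [local instance] Algebra.TensorProduct.rightAlgebra

variable {R : Type u} [CommRing R] (p : Ideal R) [p.IsPrime] (S : Type u) [CommRing S]
  [Algebra R S] (N : Type u) [AddCommGroup N] [Module S N] [Module R N] [IsScalarTower R S N]

omit [Module R N] [IsScalarTower R S N] in
theorem isScalarTower0 : IsScalarTower S (p.Fiber S) ((p.Fiber S) ⊗[S] N) := inferInstance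

theorem isScalarTower : IsScalarTower S (p.Fiber S) (FlatCA.fiberMod p S N) :=
  isScalarTower0 p S N

theorem main' [IsNoetherianRing (p.Fiber S)]
    [Module.Finite (p.Fiber S) (FlatCA.fiberMod p S N)] :
    (∀ (q : Ideal S) [q.IsPrime],
        Disjoint (q : Set S) (nonZeroSMulDivisors S (FlatCA.fiberMod p S N)) ↔
        ∃ q' ∈ associatedPrimes S (FlatCA.fiberMod p S N), q ≤ q') ∧
    {Q : Ideal (Localization (nonZeroSMulDivisors S (FlatCA.fiberMod p S N))) | Q.IsMaximal}.Finite ∧
    (∀ Q : Ideal (Localization (nonZeroSMulDivisors S (FlatCA.fiberMod p S N))),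
      Q.IsMaximal ↔ (Q.IsPrime ∧
        Maximal (fun r => r ∈ associatedPrimes S (FlatCA.fiberMod p S N))
          (Q.comap (algebraMap S (Localization (nonZeroSMulDivisors S (FlatCA.fiberMod p S N))))))) := by
  haveI := isScalarTower p S N
  exact Groth.Agent.H1.SemiLoc.main (p.Fiber S) (FlatCA.fiberMod p S N)
    (Localization (nonZeroSMulDivisors S (FlatCA.fiberMod p S N)))

end Groth.Agent.H1.S1193aux

open IsLocalRing in
/-- Let R be a local ring, S an R-algebra whose closed fibre ring is Noetherian and N an S-module whose
closed fibre module N/𝔪N is finite. Let Σ be the set of elements of S acting injectively on N/𝔪N.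
Then a prime of S is disjoint from Σ exactly when it lies inside an associated prime of N/𝔪N (the
primes of the localization at Σ), the localization of S at Σ has finitely many maximal ideals, and
an ideal of that localization is maximal exactly when it is prime and contracts to a maximal member
of the set of associated primes of N/𝔪N. -/
theorem result {R S : Type u} [CommRing R] [IsLocalRing R] [CommRing S] [Algebra R S]
    (N : Type u) [AddCommGroup N] [Module S N] [Module R N] [IsScalarTower R S N]
    [IsNoetherianRing ((maximalIdeal R).Fiber S)]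
    [Module.Finite ((maximalIdeal R).Fiber S) (FlatCA.fiberMod (maximalIdeal R) S N)] :
    (∀ (q : Ideal S) [q.IsPrime], Disjoint (q : Set S) (FlatCA.nzdFiber R S N) ↔
        ∃ q' ∈ associatedPrimes S (FlatCA.fiberMod (maximalIdeal R) S N), q ≤ q') ∧
    {Q : Ideal (Localization (FlatCA.nzdFiber R S N)) | Q.IsMaximal}.Finite ∧
    (∀ Q : Ideal (Localization (FlatCA.nzdFiber R S N)), Q.IsMaximal ↔ (Q.IsPrime ∧
        Maximal (fun r => r ∈ associatedPrimes S (FlatCA.fiberMod (maximalIdeal R) S N))
          (Q.comap (algebraMap S (Localization (FlatCA.nzdFiber R S N)))))) := by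
  exact Groth.Agent.H1.S1193aux.main' (maximalIdeal R) S N

end Groth.Agent.S1193
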