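import Groth.Statements.S1194
import Groth.Agent.Lib.Helper1.UnivInjFib

set_option autoImplicit false
universe u
open FlatMor

namespace Groth.Agent.S1194


open IsLocalRing in
/-- Let R → S be a local homomorphism of local rings which is essentially of finite presentation, and N
a finitely presented S-module flat over R. Then multiplication by any element of S acting
injectively on N/𝔪_R N is a universally injective map of R-modules on N, and the localization map
from N to its localization at all such elements is universally injective over R. -/
theorem result {R S : Type u} [CommRing R] [IsLocalRing R] [CommRing S] [IsLocalRing S] [Algebra R S]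
    [IsLocalHom (algebraMap R S)] (hS : FlatCA.EssFinitePresentation R S)
    (N : Type u) [AddCommGroup N] [Module S N] [Module R N] [IsScalarTower R S N] [Module.FinitePresentation S N] [Module.Flat R N] :
    (∀ s ∈ FlatCA.nzdFiber R S N, FlatCA.UnivInj R ((LinearMap.lsmul S N s).restrictScalars R)) ∧
    FlatCA.UnivInj R ((LocalizedModule.mkLinearMap (FlatCA.nzdFiber R S N) N).restrictScalars R) := by
  obtain ⟨S₀, _, _, _, _, Mon, hfp, hloc⟩ := hS
  have key : ∀ s ∈ FlatCA.nzdFiber R S N,
      FlatCA.UnivInj R ((LinearMap.lsmul S N s).restrictScalars R) := by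
    intro s hs
    obtain ⟨hinj, hflat⟩ := Groth.Agent.H1.FibInj.fibInj_of_isLocalization (R := R) (S₀ := S₀)
      (S := S) Mon (LinearMap.lsmul S N s)
      (fun x hx => Groth.Agent.H1.UnivInjFib.fibre_cond_of_mem_nzdFiber N s hs x hx)
    exact Groth.Agent.H1.UnivInjFib.univInj_of_injective_of_flat_coker _ hinj hflat
  refine ⟨key, ?_⟩
  intro Q _ _
  rw [← LinearMap.ker_eq_bot, LinearMap.ker_eq_bot']
  intro z hz
  obtain ⟨s, hs, h⟩ := Groth.Agent.H1.UnivInjFib.exists_smul_eq_zero_of_lTensor_mk_eq_zero N
    (FlatCA.nzdFiber R S N) Q z hz
  exact key s hs Q (h.trans (map_zero _).symm)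

end Groth.Agent.S1194
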