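import Groth.Statements.S1196
import Groth.Agent.S1193
import Groth.Agent.S1194
import Groth.Agent.Lib.Helper1.MinimalPrimesFlat

set_option autoImplicit false
universe u
open FlatMor

namespace Groth.Agent.S1196

namespace Groth.Agent.H1.S1196aux

open TensorProduct

section flat

variable {S : Type u} [CommRing S] (S' : Type u) [CommRing S'] [Algebra S S'] [Module.Flat S S']
  {P : Type u} [AddCommGroup P] [Module S P]

theorem one_mem_of_one_tmul_eq_zero (x : P) (hx : (1 : S') ⊗ₜ[S] x = 0) :
    (1 : S') ∈ (LinearMap.ker (LinearMap.toSpanSingleton S P x)) • (⊤ : Submodule S S') := by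
  set I : Ideal S := LinearMap.ker (LinearMap.toSpanSingleton S P x) with hI
  let φ : S ⧸ I →ₗ[S] P := I.liftQ (LinearMap.toSpanSingleton S P x) le_rfl
  have hφ : Function.Injective φ := by
    rw [← LinearMap.ker_eq_bot]
    exact Submodule.ker_liftQ_eq_bot' _ _ rfl
  have h2 := Module.Flat.lTensor_preserves_injective_linearMap (M := S') φ hφ
  have h3 : (1 : S') ⊗ₜ[S] (Ideal.Quotient.mk I 1) = 0 := by
    apply h2
    rw [LinearMap.lTensor_tmul, map_zero]
    have : φ (Ideal.Quotient.mk I 1) = x := by
      change I.liftQ _ _ (Submodule.Quotient.mk 1) = x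
      rw [Submodule.liftQ_apply]
      simp
    rw [this, hx]
  have h4 := congrArg (TensorProduct.tensorQuotEquivQuotSMul S' I) h3
  rw [TensorProduct.tensorQuotEquivQuotSMul_tmul_mk, map_zero, one_smul,
    Submodule.Quotient.mk_eq_zero] at h4
  exact h4

theorem injective_mk_of_flat (T : Submonoid S) (A : Set (Ideal S))
    (hT : ∀ s ∈ T, ∀ y : P, s • y = 0 → y = 0)
    (hA : ∀ (q : Ideal S) [q.IsPrime], Disjoint (q : Set S) (T : Set S) → ∃ q' ∈ A, q ≤ q')
    (hS' : ∀ q ∈ A, ∃ q' : Ideal S', q'.IsPrime ∧ q'.comap (algebraMap S S') = q) :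
    Function.Injective (TensorProduct.mk S S' P 1) := by
  rw [injective_iff_map_eq_zero]
  intro x hx
  by_contra hx0
  have h1 := one_mem_of_one_tmul_eq_zero S' x hx
  set I : Ideal S := LinearMap.ker (LinearMap.toSpanSingleton S P x) with hI
  have hdisj : Disjoint (I : Set S) (T : Set S) := by
    rw [Set.disjoint_left]
    intro s hsI hsT
    refine hx0 (hT s hsT x ?_)
    have : LinearMap.toSpanSingleton S P x s = 0 := hsI
    simpa using this
  obtain ⟨q, hqp, hIq, hqT⟩ := Ideal.exists_le_prime_disjoint I T hdisj
  obtain ⟨q', hq'A, hqq'⟩ := hA q hqT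
  obtain ⟨q'', hq''p, hq''⟩ := hS' q' hq'A
  have h2 : I • (⊤ : Submodule S S') ≤ q''.restrictScalars S := by
    rw [Submodule.smul_le]
    intro a ha s' _
    have : a ∈ q''.comap (algebraMap S S') := by
      rw [hq'']
      exact hqq' (hIq ha)
    rw [Submodule.restrictScalars_mem, Algebra.smul_def]
    exact q''.mul_mem_right _ this
  exact hq''p.ne_top ((Ideal.eq_top_iff_one _).mpr (h2 h1))

end flat

section main

variable {R S S' : Type u} [CommRing R] [CommRing S] [CommRing S'] [Algebra R S] [Algebra S S']
  [Algebra R S'] [IsScalarTower R S S'] [Module.Flat S S']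
  (N : Type u) [AddCommGroup N] [Module S N] [Module R N] [IsScalarTower R S N]

theorem univInj_mk (T : Submonoid S) (A : Set (Ideal S))
    (hT : ∀ s ∈ T, FlatCA.UnivInj R ((LinearMap.lsmul S N s).restrictScalars R))
    (hA : ∀ (q : Ideal S) [q.IsPrime], Disjoint (q : Set S) (T : Set S) → ∃ q' ∈ A, q ≤ q')
    (hS' : ∀ q ∈ A, ∃ q' : Ideal S', q'.IsPrime ∧ q'.comap (algebraMap S S') = q) :
    FlatCA.UnivInj R ((TensorProduct.mk S S' N 1).restrictScalars R) := by
  intro Q _ _
  have hP : ∀ s ∈ T, ∀ y : N ⊗[R] Q, s • y = 0 → y = 0 := by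
    intro s hs y hy
    have h2 : ∀ w : N ⊗[R] Q, ((LinearMap.lsmul S N (s : S)).restrictScalars R).rTensor Q w =
        (s : S) • w := by
      intro w
      induction w using TensorProduct.induction_on with
      | zero => simp
      | add a b ha hb => rw [map_add, ha, hb, smul_add]
      | tmul n q => rw [LinearMap.rTensor_tmul, TensorProduct.smul_tmul']; rfl
    have h3 := hT s hs Q
    have h4 : ((LinearMap.lsmul S N (s : S)).restrictScalars R).lTensor Q
        ((TensorProduct.comm R N Q) y) = 0 := by
      apply (TensorProduct.comm R Q N).injective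
      rw [Groth.Agent.H1.UnivInjFib.comm_lTensor, map_zero]
      have : (TensorProduct.comm R Q N) ((TensorProduct.comm R N Q) y) = y := by
        exact (TensorProduct.comm R N Q).symm_apply_apply y
      rw [this, h2, hy]
    have h5 := h3 (h4.trans (map_zero _).symm)
    exact (TensorProduct.comm R N Q).injective (h5.trans (map_zero _).symm)
  have hinj := injective_mk_of_flat S' (P := N ⊗[R] Q) T A hP hA hS'
  have hcomp : ∀ z : Q ⊗[R] N,
      (AlgebraTensorModule.assoc R S S S' N Q) (TensorProduct.comm R Q (S' ⊗[S] N)
        (((TensorProduct.mk S S' N 1).restrictScalars R).lTensor Q z)) =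
      TensorProduct.mk S S' (N ⊗[R] Q) 1 (TensorProduct.comm R Q N z) := by
    intro z
    induction z using TensorProduct.induction_on with
    | zero => simp
    | add a b ha hb => simp only [map_add, ha, hb]
    | tmul q n => simp
  intro z1 z2 h
  apply (TensorProduct.comm R Q N).injective
  apply hinj
  rw [← hcomp, ← hcomp, h]

end main

section noeth

attribute [local instance] Algebra.TensorProduct.rightAlgebra

variable {R S : Type u} [CommRing R] [CommRing S] [Algebra R S]

theorem isNoetherianRing_fiber_of_ess (hS : FlatCA.EssFinitePresentation R S) (p : Ideal R)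
    [p.IsPrime] : IsNoetherianRing (p.Fiber S) := by
  obtain ⟨S₀, _, _, _, _, Mon, hfp, hloc⟩ := hS
  haveI : Algebra.FiniteType R S₀ := inferInstance
  haveI h0 : IsNoetherianRing (p.Fiber S₀) := Groth.Agent.H1.isNoetherianRing_fiber p
  letI : Algebra (p.ResidueField ⊗[R] S₀) (p.ResidueField ⊗[R] S) :=
    (Algebra.TensorProduct.map (AlgHom.id p.ResidueField p.ResidueField)
      (IsScalarTower.toAlgHom R S₀ S)).toRingHom.toAlgebra
  haveI : IsScalarTower p.ResidueField (p.ResidueField ⊗[R] S₀) (p.ResidueField ⊗[R] S) :=
    IsScalarTower.of_algebraMap_eq' (by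
      ext x
      simp [RingHom.algebraMap_toAlgebra])
  haveI := IsLocalization.tensorProduct_tensorProduct_right R p.ResidueField Mon S (by
    ext x
    simp [RingHom.algebraMap_toAlgebra])
  exact IsLocalization.isNoetherianRing (Mon.map (Algebra.TensorProduct.includeRight
    (R := R) (A := p.ResidueField))) (p.ResidueField ⊗[R] S) h0

theorem finite_fiberMod (p : Ideal R) [p.IsPrime]
    (N : Type u) [AddCommGroup N] [Module S N] [Module R N] [IsScalarTower R S N]
    [Module.Finite S N] : Module.Finite (p.Fiber S) (FlatCA.fiberMod p S N) :=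
  Module.Finite.base_change S (p.Fiber S) N

end noeth

end Groth.Agent.H1.S1196aux

open TensorProduct IsLocalRing in
/-- Let R → S be a local homomorphism of local rings, essentially of finite presentation, N a finitely
presented S-module flat over R, and S' a flat S-algebra such that every prime of S which is an
associated prime of N/𝔪_R N is the contraction of a prime of S'. Then N → S' ⊗_S N is universally
injective as a map of R-modules. -/
theorem result {R S S' : Type u} [CommRing R] [IsLocalRing R] [CommRing S] [IsLocalRing S] [CommRing S'] [Algebra R S] [IsLocalHom (algebraMap R S)] [Algebra S S'] [Algebra R S'] [IsScalarTower R S S']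
    (hS : FlatCA.EssFinitePresentation R S) [Module.Flat S S']
    (N : Type u) [AddCommGroup N] [Module S N] [Module R N] [IsScalarTower R S N] [Module.FinitePresentation S N] [Module.Flat R N]
    (h : ∀ q ∈ associatedPrimes S (FlatCA.fiberMod (maximalIdeal R) S N),
      ∃ q' : Ideal S', q'.IsPrime ∧ q'.comap (algebraMap S S') = q) :
    FlatCA.UnivInj R ((TensorProduct.mk S S' N 1).restrictScalars R) := by
  haveI := Groth.Agent.H1.S1196aux.isNoetherianRing_fiber_of_ess hS (maximalIdeal R)
  haveI := Groth.Agent.H1.S1196aux.finite_fiberMod (S := S) (maximalIdeal R) N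
  have h93 := (Groth.Agent.S1193.result (R := R) (S := S) N).1
  have h94 := (Groth.Agent.S1194.result hS N).1
  exact Groth.Agent.H1.S1196aux.univInj_mk N (FlatCA.nzdFiber R S N) _ h94
    (fun q _ hq => (h93 q).mp hq) h

end Groth.Agent.S1196
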