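import Groth.Statements.S1198
import Groth.Agent.Lib.Helper1.ComplSplit
import Groth.Agent.Lib.Helper1.ComplFlat3

set_option autoImplicit false
universe u
open FlatMor

namespace Groth.Agent.S1198

namespace Groth.Agent.H1.S1198aux

open TensorProduct

theorem piRightHom_rTensor {R : Type u} [CommRing R] {A B : Type u} [AddCommGroup A] [Module R A]
    [AddCommGroup B] [Module R B] (φ : A →ₗ[R] B) {ι : Type u} (Q : ι → Type u)
    [∀ i, AddCommGroup (Q i)] [∀ i, Module R (Q i)] (z : A ⊗[R] (∀ i, Q i)) (i : ι) :
    TensorProduct.piRightHom R R B Q (φ.rTensor (∀ i, Q i) z) i =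
      φ.rTensor (Q i) (TensorProduct.piRightHom R R A Q z i) := by
  induction z using TensorProduct.induction_on with
  | zero => simp
  | add a b ha hb => simp only [map_add, Pi.add_apply, ha, hb]
  | tmul a q => simp

/-- a retract of a Mittag-Leffler module is Mittag-Leffler -/
theorem isMittagLeffler_of_retract {R : Type u} [CommRing R] {A B : Type u} [AddCommGroup A]
    [Module R A] [AddCommGroup B] [Module R B] (s : A →ₗ[R] B) (r : B →ₗ[R] A)
    (hrs : r ∘ₗ s = LinearMap.id) (hB : CAlg.IsMittagLeffler R B) : CAlg.IsMittagLeffler R A := by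
  intro ι Q _ _
  rw [injective_iff_map_eq_zero]
  intro z hz
  have h1 : TensorProduct.piRightHom R R B Q (s.rTensor (∀ i, Q i) z) = 0 := by
    funext i
    rw [piRightHom_rTensor, hz]
    simp
  have h2 : s.rTensor (∀ i, Q i) z = 0 := hB ι Q (h1.trans (map_zero _).symm)
  have h3 : r.rTensor (∀ i, Q i) (s.rTensor (∀ i, Q i) z) = z := by
    rw [← LinearMap.comp_apply, ← LinearMap.rTensor_comp, hrs, LinearMap.rTensor_id,
      LinearMap.id_apply]
  rw [← h3, h2, map_zero]

end Groth.Agent.H1.S1198aux

/-- Let R be a Noetherian ring complete with respect to an ideal I and M a flat R-module whose reduction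
M/IM is projective over R/I. Then M's I-adic completion is a flat and Mittag-Leffler R-module. -/
theorem result (R : Type u) [CommRing R] [IsNoetherianRing R] (I : Ideal R) [IsAdicComplete I R]
    (M : Type u) [AddCommGroup M] [Module R M] [Module.Flat R M]
    [Module.Projective (R ⧸ I) (M ⧸ (I • ⊤ : Submodule R M))] :
    Module.Flat R (AdicCompletion I M) ∧ CAlg.IsMittagLeffler R (AdicCompletion I M) := by
  refine ⟨Groth.Agent.H1.ComplFlat.flat_adicCompletion_of_flat I M, ?_⟩
  let π : (M →₀ R) →ₗ[R] M := Finsupp.linearCombination R id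
  have hπ : Function.Surjective π := Finsupp.linearCombination_id_surjective R M
  obtain ⟨s, hs⟩ := Groth.Agent.H1.ComplSplit.exists_section I π hπ
  refine Groth.Agent.H1.S1198aux.isMittagLeffler_of_retract (s.restrictScalars R)
    ((AdicCompletion.map I π).restrictScalars R) ?_ ?_
  · apply LinearMap.ext
    intro x
    exact LinearMap.congr_fun hs x
  · intro ι Q _ _
    exact Groth.Agent.H1.ComplFlat.injective_piRightHom_adicCompletion_free I M ι Q

end Groth.Agent.S1198
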