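import Groth.Statements.S1200
import Groth.Agent.Lib.Helper1.AssFibre
import Groth.Agent.Lib.Helper1.UnivInjLib

set_option autoImplicit false
universe u
open FlatMor

namespace Groth.Agent.S1200


/-- Let R → S be a map of Noetherian rings, I an ideal of R and N a finite S-module which is flat over
R. Assume that for every prime q of S, over p in R, whose extension to the fibre ring over p is an
associated prime of the fibre module of N, the ideal IS + q is proper. Then the canonical map from N
to its I-adic completion is universally injective as a map of R-modules. -/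
theorem result {R S : Type u} [CommRing R] [CommRing S] [Algebra R S] [IsNoetherianRing R] [IsNoetherianRing S] (I : Ideal R)
    (N : Type u) [AddCommGroup N] [Module S N] [Module R N] [IsScalarTower R S N] [Module.Finite S N] [Module.Flat R N]
    (h : ∀ (p : Ideal R) (q : Ideal S) [p.IsPrime] [q.IsPrime] [q.LiesOver p],
      FlatCA.fiberIdeal p q ∈ associatedPrimes (p.Fiber S) (FlatCA.fiberMod p S N) → I.map (algebraMap R S) ⊔ q ≠ ⊤) :
    FlatCA.UnivInj R (AdicCompletion.of I N) := by
  refine Groth.Agent.H1.UnivInjLib.univInj_of_adicCompletion (S := S) N I fun Q _ _ hQ q hq => ?_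
  haveI : q.IsPrime := IsAssociatedPrime.isPrime hq
  haveI : (q.comap (algebraMap R S)).IsPrime := Ideal.comap_isPrime _ _
  haveI : q.LiesOver (q.comap (algebraMap R S)) := ⟨rfl⟩
  haveI : Module.Finite R Q := hQ
  have h1 := Groth.Agent.H1.AssFlat.mem_associatedPrimes_quot_comap_of_finite N Q q hq
  exact h (q.comap (algebraMap R S)) q
    (Groth.Agent.H1.AssFibre.fiberIdeal_mem_associatedPrimes (q.comap (algebraMap R S)) S N q h1)

end Groth.Agent.S1200
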