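import Groth.Statements.S1203
import Mathlib
import Groth.Agent.S1200
import Groth.Agent.S1198
import Groth.Agent.Lib.Helper1.MLProj

set_option autoImplicit false
universe u
open FlatMor

namespace Groth.Agent.S1203

namespace H1.S1203aux

open scoped Pointwise

theorem countablyGenerated_of_finiteType {R S : Type u} [CommRing R] [CommRing S] [Algebra R S]
    [Algebra.FiniteType R S] : ∃ s : Set S, s.Countable ∧ Submodule.span R s = ⊤ := by
  obtain ⟨n, f, hf⟩ := Algebra.FiniteType.iff_quotient_mvPolynomial''.mp ‹Algebra.FiniteType R S›
  refine ⟨Set.range fun m : Fin n →₀ ℕ => f (MvPolynomial.monomial m 1), Set.countable_range _, ?_⟩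
  rw [eq_top_iff]
  intro x _
  obtain ⟨p, rfl⟩ := hf x
  clear ‹f p ∈ (⊤ : Submodule R S)›
  induction p using MvPolynomial.induction_on' with
  | monomial m a =>
    have : (MvPolynomial.monomial m a : MvPolynomial (Fin n) R) = a • MvPolynomial.monomial m 1 := by
      rw [MvPolynomial.smul_monomial, smul_eq_mul, mul_one]
    rw [this, map_smul]
    exact Submodule.smul_mem _ _ (Submodule.subset_span ⟨m, rfl⟩)
  | add p q hp hq =>
    rw [map_add]
    exact Submodule.add_mem _ hp hq

theorem countablyGenerated_tower {R S : Type u} [CommRing R] [CommRing S] [Algebra R S]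
    (hS : ∃ s : Set S, s.Countable ∧ Submodule.span R s = ⊤)
    (N : Type u) [AddCommGroup N] [Module S N] [Module R N] [IsScalarTower R S N]
    [Module.Finite S N] : CAlg.IsCountablyGenerated R N := by
  obtain ⟨s, hs, hspan⟩ := hS
  obtain ⟨t, ht⟩ := (Module.Finite.fg_top : (⊤ : Submodule S N).FG)
  refine ⟨s • (t : Set N), ?_, ?_⟩
  · exact hs.image2 (Finset.countable_toSet t) _
  · rw [Submodule.span_smul_of_span_eq_top hspan, ht]
    rfl

theorem univInj_iff {R : Type u} [CommRing R] {M N : Type u} [AddCommGroup M] [AddCommGroup N]
    [Module R M] [Module R N] (f : M →ₗ[R] N) (h : FlatCA.UnivInj R f) :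
    CAlgX.UniversallyInjective R f := by
  intro Q _ _
  rw [← LinearMap.lTensor_inj_iff_rTensor_inj]
  exact h Q

end H1.S1203aux

/-- Let R be a Noetherian ring complete with respect to an ideal I, S a finite type R-algebra and N a
finite S-module which is flat over R, such that N/IN is a projective R/I-module and such that for
every prime q of S, over p in R, whose extension to the fibre ring over p is an associated prime of
the fibre module of N, the ideal IS + q is proper. Then N is a projective R-module. -/
theorem result {R S : Type u} [CommRing R] [CommRing S] [Algebra R S] [IsNoetherianRing R] (I : Ideal R) [IsAdicComplete I R]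
    [Algebra.FiniteType R S]
    (N : Type u) [AddCommGroup N] [Module S N] [Module R N] [IsScalarTower R S N] [Module.Finite S N] [Module.Flat R N]
    [Module.Projective (R ⧸ I) (N ⧸ (I • ⊤ : Submodule R N))]
    (h : ∀ (p : Ideal R) (q : Ideal S) [p.IsPrime] [q.IsPrime] [q.LiesOver p],
      FlatCA.fiberIdeal p q ∈ associatedPrimes (p.Fiber S) (FlatCA.fiberMod p S N) → I.map (algebraMap R S) ⊔ q ≠ ⊤) :
    Module.Projective R N := by
  haveI : IsNoetherianRing S := Algebra.FiniteType.isNoetherianRing R S
  have h1 := Groth.Agent.S1200.result I N h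
  have h2 := Groth.Agent.S1198.result R I N
  have hML : CAlg.IsMittagLeffler R N :=
    Groth.Agent.LD.ML.isML_of_universallyInjective _ (H1.S1203aux.univInj_iff _ h1) h2.2
  exact Groth.Agent.H1.MLProj.projective_of_flat_ML_countable inferInstance hML
    (H1.S1203aux.countablyGenerated_tower (H1.S1203aux.countablyGenerated_of_finiteType (R := R) (S := S)) N)

end Groth.Agent.S1203
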