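import Groth.Statements.S12067
import Mathlib
import Groth.Agent.Lib.Helper9.ComodFlag

set_option autoImplicit false
universe u
open TensorProduct
open SGA3t2b

namespace Groth.Agent.S12067

/-- In Hopf-algebra form, let k be a field and A a finitely generated commutative Hopf algebra over k
(an affine algebraic group G) which is unipotent: every nonzero finite-dimensional comodule has a
nonzero fixed vector. Then every finite-dimensional comodule V (a finite-dimensional representation
of G), of dimension n, has a flag of subcomodules 0 = V_0 ⊂ V_1 ⊂ ⋯ ⊂ V_n = V with one-dimensional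
successive quotients on which G acts trivially: for v ∈ V_(i+1) the coaction of v is congruent to v
⊗ 1 modulo V_i ⊗ A. -/
theorem result (k : Type u) [Field k] (A : Type u) [CommRing A]
    [HopfAlgebra k A] [Algebra.FiniteType k A] (hU : HopfRep.IsUnipotent k A)
    (V : Type u) [AddCommGroup V] [Module k V] [HopfRep.Comod k A V] [Module.Finite k V] :
    ∃ F : Fin (Module.finrank k V + 1) → Submodule k V,
      F 0 = ⊥ ∧ F (Fin.last _) = ⊤ ∧
      (∀ i : Fin (Module.finrank k V + 1), HopfRep.IsSubcomod (k := k) (A := A) (F i)) ∧
      ∀ i : Fin (Module.finrank k V), F i.castSucc ≤ F i.succ ∧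
        Module.finrank k ↥(F i.succ) = Module.finrank k ↥(F i.castSucc) + 1 ∧
        ∀ v ∈ F i.succ, HopfRep.Comod.coact (k := k) (A := A) v - v ⊗ₜ[k] (1 : A) ∈
          LinearMap.range ((F i.castSucc).subtype.rTensor A) := by
  obtain ⟨F, hmono, hsub, hrank, htop, hstep⟩ :=
    Groth.Agent.H9.Comod.exists_flag_of_isUnipotent hU V
  refine ⟨fun i => F i.val, ?_, ?_, fun i => hsub i.val, fun i => ⟨?_, ?_, ?_⟩⟩
  · exact Submodule.finrank_eq_zero.mp (hrank 0 (Nat.zero_le _))
  · exact htop _ le_rfl
  · exact hmono (by simp)
  · show Module.finrank k (F (i.succ : Fin _).val) = Module.finrank k (F (i.castSucc : Fin _).val) + 1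
    rw [Fin.val_succ, Fin.val_castSucc, hrank _ (by omega), hrank _ (by omega)]
  · intro v hv
    have := hstep i.val v hv
    exact this

end Groth.Agent.S12067
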