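import Groth.Statements.S12071
import Mathlib

set_option autoImplicit false
open RootD

namespace Groth.Agent.S12071

/-- Let G be the group generated by two elements x, y subject to x² = y² = 1 (the infinite dihedral
group; here Mathlib's DihedralGroup 0 with x = sr 0 and y = sr 1, so that x y = r 1). Then every
normal subgroup of G containing neither x nor y is generated by an element (x y)^n with n > 0; such
a subgroup is cyclic, generated by r n. (The published statement does not exclude the trivial
subgroup, for which no n > 0 works; this row assumes the subgroup nontrivial.) -/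
theorem result (N : Subgroup (DihedralGroup 0)) [N.Normal]
    (hN : N ≠ ⊥) (hx : DihedralGroup.sr (0 : ZMod 0) ∉ N) (hy : DihedralGroup.sr (1 : ZMod 0) ∉ N) :
    ∃ n : ℕ, 0 < n ∧ N = Subgroup.zpowers (DihedralGroup.r (n : ZMod 0)) := by
  classical
  -- no reflection lies in N
  have hsr : ∀ j : ZMod 0, DihedralGroup.sr j ∉ N := by
    intro j hj
    have hconj : ∀ k : ZMod 0, DihedralGroup.sr (j - 2 * k) ∈ N := by
      intro k
      have := ‹N.Normal›.conj_mem _ hj (DihedralGroup.r k)
      rw [DihedralGroup.r_mul_sr, DihedralGroup.inv_r, DihedralGroup.sr_mul_r] at this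
      convert this using 2
      ring
    change ℤ at j
    rcases Int.even_or_odd' j with ⟨m, hm | hm⟩
    · apply hx
      have := hconj (m : ℤ)
      convert this using 2
      change (0 : ℤ) = j - 2 * m
      omega
    · apply hy
      have := hconj (m : ℤ)
      convert this using 2
      change (1 : ℤ) = j - 2 * m
      omega
  -- the additive subgroup of rotation indices
  let H : AddSubgroup ℤ :=
    { carrier := {i : ℤ | DihedralGroup.r (i : ZMod 0) ∈ N}
      zero_mem' := by
        change DihedralGroup.r (0 : ZMod 0) ∈ N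
        rw [DihedralGroup.r_zero]; exact N.one_mem
      add_mem' := by
        intro a b ha hb
        change DihedralGroup.r ((a + b : ℤ) : ZMod 0) ∈ N
        have := N.mul_mem ha hb
        rwa [DihedralGroup.r_mul_r] at this
      neg_mem' := by
        intro a ha
        change DihedralGroup.r ((-a : ℤ) : ZMod 0) ∈ N
        have := N.inv_mem ha
        rwa [DihedralGroup.inv_r] at this }
  have hH : ∀ i : ℤ, i ∈ H ↔ DihedralGroup.r (i : ZMod 0) ∈ N := fun i => Iff.rfl
  obtain ⟨a, ha⟩ := Int.subgroup_cyclic H
  have hmemN : ∀ g : DihedralGroup 0, g ∈ N ↔ ∃ i : ℤ, i ∈ H ∧ g = DihedralGroup.r (i : ZMod 0) := by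
    intro g
    constructor
    · intro hg
      cases g with
      | r i => exact ⟨i, hg, rfl⟩
      | sr i => exact absurd hg (hsr i)
    · rintro ⟨i, hi, rfl⟩
      exact hi
  have ha0 : a ≠ 0 := by
    rintro rfl
    apply hN
    rw [eq_bot_iff]
    intro g hg
    obtain ⟨i, hi, rfl⟩ := (hmemN g).mp hg
    rw [ha, AddSubgroup.mem_closure_singleton] at hi
    obtain ⟨k, hk⟩ := hi
    simp only [smul_zero] at hk
    subst hk
    rw [Subgroup.mem_bot]
    exact DihedralGroup.r_zero
  refine ⟨a.natAbs, Int.natAbs_pos.mpr ha0, ?_⟩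
  ext g
  rw [hmemN, Subgroup.mem_zpowers_iff]
  constructor
  · rintro ⟨i, hi, rfl⟩
    rw [ha, AddSubgroup.mem_closure_singleton] at hi
    obtain ⟨k, hk⟩ := hi
    rcases Int.natAbs_eq a with h | h
    · refine ⟨k, ?_⟩
      rw [DihedralGroup.r_zpow]
      congr 1
      change ((a.natAbs : ℤ) * k : ℤ) = i
      rw [← hk, ← h, smul_eq_mul, mul_comm]
    · refine ⟨-k, ?_⟩
      rw [DihedralGroup.r_zpow]
      congr 1
      change ((a.natAbs : ℤ) * (-k) : ℤ) = i
      rw [← hk, smul_eq_mul]
      rw [h]
      simp
      ring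
  · rintro ⟨k, rfl⟩
    rw [DihedralGroup.r_zpow]
    refine ⟨(a.natAbs : ℤ) * k, ?_, rfl⟩
    rw [ha, AddSubgroup.mem_closure_singleton]
    rcases Int.natAbs_eq a with h | h
    · exact ⟨k, by rw [← h, smul_eq_mul, mul_comm]⟩
    · refine ⟨-k, ?_⟩
      rw [smul_eq_mul]
      have : (a.natAbs : ℤ) = -a := by omega
      rw [this]; ring

end Groth.Agent.S12071
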