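import Groth.Statements.S12076
import Mathlib.Algebra.Order.Group.PiLex
import Mathlib.LinearAlgebra.Basis.Basic
import Mathlib.LinearAlgebra.StdBasis

set_option autoImplicit false
open RootD

namespace Groth.Agent.S12076

/-- Let Δ be a system of simple roots (a base b of a root pairing P over ℤ) and Γ₀ the subgroup
generated by the roots. Then Γ₀ has a structure of totally ordered group for which the roots > 0 are
exactly the positive roots defined by Δ and for which the height (the additive function with value 1
on each simple root) is monotone. The order is given here by its positive cone C ⊆ Γ₀: 0 ∉ C, C + C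
⊆ C, and for every x ≠ 0 exactly one of x, −x lies in C (x < y meaning y − x ∈ C). -/
theorem result {ι M N : Type*} [AddCommGroup M] [AddCommGroup N]
    (P : RootPairing ι ℤ M N) [Finite ι] (b : P.Base) :
    ∃ C : Set ↥(Submodule.span ℤ (Set.range P.root)),
      0 ∉ C ∧ (∀ x ∈ C, ∀ y ∈ C, x + y ∈ C) ∧ (∀ x, x ≠ 0 → (x ∈ C ∨ -x ∈ C)) ∧ (∀ x ∈ C, -x ∉ C) ∧
      (∀ i : ι, (⟨P.root i, Submodule.subset_span (Set.mem_range_self i)⟩ : ↥(Submodule.span ℤ (Set.range P.root))) ∈ C ↔
        b.IsPos i) ∧
      ∀ φ : ↥(Submodule.span ℤ (Set.range P.root)) →+ ℤ,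
        (∀ j ∈ b.support, φ ⟨P.root j, Submodule.subset_span (Set.mem_range_self j)⟩ = 1) →
        ∀ x y : ↥(Submodule.span ℤ (Set.range P.root)), y - x ∈ C → φ x ≤ φ y := by
  classical
  set Γ := ↥(Submodule.span ℤ (Set.range P.root)) with hΓ
  let n := b.support.card
  let e : Fin n ≃ b.support := (b.support.equivFin).symm
  -- basis of Γ from simple roots
  let a : Fin n → Γ := fun i => ⟨P.root (e i : ι), Submodule.subset_span (Set.mem_range_self _)⟩
  have ha : LinearIndependent ℤ a := by
    have h1 : LinearIndependent ℤ (fun x : b.support => P.root x) := b.linearIndepOn_root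
    have h2 : LinearIndependent ℤ (fun i : Fin n => P.root (e i : ι)) := h1.comp e e.injective
    exact LinearIndependent.of_comp (Submodule.subtype _) h2
  have hspan : ⊤ ≤ Submodule.span ℤ (Set.range a) := by
    intro x _
    have hx : (x : M) ∈ Submodule.span ℤ (P.root '' (b.support : Set ι)) := by
      rw [b.span_int_root_support]; exact x.2
    have hmap : Submodule.span ℤ (P.root '' (b.support : Set ι)) =
        (Submodule.span ℤ (Set.range a)).map (Submodule.subtype _) := by
      rw [Submodule.map_span, ← Set.range_comp]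
      congr 1
      ext y
      constructor
      · rintro ⟨j, hj, rfl⟩; exact ⟨e.symm ⟨j, hj⟩, by simp [a]⟩
      · rintro ⟨i, rfl⟩; exact ⟨e i, (e i).2, rfl⟩
    rw [hmap] at hx
    obtain ⟨y, hy, hyx⟩ := hx
    have : y = x := Subtype.ext hyx
    rwa [← this]
  let B : Module.Basis (Fin n) ℤ Γ := Module.Basis.mk ha hspan
  have hB : ∀ i, B i = a i := fun i => by simp [B]
  let co : Γ →ₗ[ℤ] (Fin n → ℤ) := (B.equivFun : Γ ≃ₗ[ℤ] (Fin n → ℤ))
  have hco_inj : Function.Injective co := B.equivFun.injective
  let ht : Γ →+ ℤ := ((∑ i : Fin n, LinearMap.proj i : (Fin n → ℤ) →ₗ[ℤ] ℤ).comp co : Γ →ₗ[ℤ] ℤ)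
  have hht : ∀ x, ht x = ∑ i, co x i := fun x => by simp [ht]
  let v : Γ → Lex (Fin (n + 1) → ℤ) := fun x => toLex (Fin.cons (ht x) (co x))
  have hv_add : ∀ x y, v (x + y) = v x + v y := by
    intro x y
    show toLex _ = toLex _ + toLex _
    rw [← toLex_add]
    congr 1
    funext k
    refine Fin.cases ?_ (fun k => ?_) k
    · simp
    · simp
  have hv_zero : v 0 = 0 := by
    show toLex _ = 0
    rw [← toLex_zero]
    congr 1
    funext k
    refine Fin.cases ?_ (fun k => ?_) k
    · simp
    · simp
  have hv_neg : ∀ x, v (-x) = -v x := by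
    intro x
    have := hv_add x (-x)
    rw [add_neg_cancel, hv_zero] at this
    exact (neg_eq_of_add_eq_zero_right this.symm).symm
  have z0 : ∀ k, (0 : Lex (Fin (n + 1) → ℤ)) k = 0 := fun k => rfl
  have hv_inj : ∀ x, v x = 0 → x = 0 := by
    intro x hx
    apply hco_inj
    rw [map_zero]
    funext k
    have := congrFun (congrArg ofLex hx) k.succ
    simpa [v, z0] using this
  have hv0 : ∀ x, 0 < v x → 0 ≤ ht x := by
    intro x hx
    obtain ⟨k, hk1, hk2⟩ := hx
    by_cases hk : k = 0
    · subst hk
      have : (0 : ℤ) < ht x := by simpa [v, z0] using hk2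
      exact this.le
    · have h0 := hk1 0 (Fin.pos_iff_ne_zero.mpr hk)
      have : (0 : ℤ) = ht x := by simpa [v, z0] using h0
      exact this ▸ le_refl _
  have hvpos : ∀ x, 0 < ht x → 0 < v x := by
    intro x hx
    refine ⟨0, fun j hj => absurd hj (Fin.not_lt_zero j), ?_⟩
    simpa [v, z0] using hx
  refine ⟨{x | 0 < v x}, ?_, ?_, ?_, ?_, ?_, ?_⟩
  · show ¬ 0 < v 0
    rw [hv_zero]; exact lt_irrefl _
  · intro x hx y hy
    show 0 < v (x + y)
    rw [hv_add]; exact add_pos hx hy
  · intro x hx
    rcases lt_or_gt_of_ne (fun h => hx (hv_inj x h)) with h | h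
    · right; show 0 < v (-x); rw [hv_neg]; exact neg_pos.mpr h
    · left; exact h
  · intro x hx hnx
    have : 0 < -v x := by rw [← hv_neg]; exact hnx
    exact lt_asymm hx (neg_pos.mp this)
  · intro i
    -- height of a root
    have hheight : b.height i = ht ⟨P.root i, Submodule.subset_span (Set.mem_range_self i)⟩ := by
      set x : Γ := ⟨P.root i, Submodule.subset_span (Set.mem_range_self i)⟩ with hx
      have hx_sum : x = ∑ k, co x k • a k := by
        have := B.sum_equivFun x
        simp only [hB] at this
        exact this.symm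
      have hroot : P.root i = ∑ j ∈ b.support,
          (fun j => if h : j ∈ b.support then co x (e.symm ⟨j, h⟩) else 0) j • P.root j := by
        have h1 := congrArg (Submodule.subtype _) hx_sum
        simp only [Submodule.subtype_apply, map_sum, map_smul] at h1
        rw [show ((x : Γ) : M) = P.root i from rfl] at h1
        rw [h1, ← Finset.sum_coe_sort b.support]
        rw [← Equiv.sum_comp e]
        refine Finset.sum_congr rfl fun k _ => ?_
        simp [a]
      rw [RootPairing.Base.height_eq_sum hroot, hht, ← Finset.sum_coe_sort b.support,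
        ← Equiv.sum_comp e]
      refine Finset.sum_congr rfl fun k _ => ?_
      simp
    show 0 < v _ ↔ b.IsPos i
    rw [RootPairing.Base.isPos_iff, hheight]
    constructor
    · intro h
      have h1 := hv0 _ h
      have h2 := b.height_ne_zero i
      rw [hheight] at h2
      omega
    · exact hvpos _
  · intro φ hφ x y hxy
    have hφht : ∀ z, φ z = ht z := by
      intro z
      have hz : z = ∑ k, co z k • a k := by
        have := B.sum_equivFun z
        simp only [hB] at this
        exact this.symm
      have h1 : φ z = ∑ k, co z k * φ (a k) := by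
        conv_lhs => rw [hz]
        simp [map_sum, map_zsmul]
      rw [h1, hht]
      refine Finset.sum_congr rfl fun k _ => ?_
      rw [hφ (e k) (e k).2, mul_one]
    have h1 := hv0 _ hxy
    rw [← hφht, map_sub] at h1
    linarith

end Groth.Agent.S12076
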