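import Groth.Statements.S12078
import Mathlib

set_option autoImplicit false
universe u
open CAlg

namespace Groth.Agent.S12078

/-- An elementary divisor domain is Bézout. Here `R` is a domain such that for all `n, m ≥ 1` and every
`n × m` matrix `A` there are invertible matrices `U` (`n × n`) and `V` (`m × m`) with `U * A * V`
zero off the diagonal and with diagonal entries `f 0 ∣ f 1 ∣ f 2 ∣ …`; the conclusion is that every
finitely generated ideal of `R` is principal. -/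
theorem result (R : Type u) [CommRing R] [IsDomain R]
    (hR : ∀ n m : ℕ, 1 ≤ n → 1 ≤ m → ∀ A : Matrix (Fin n) (Fin m) R,
      ∃ (U : (Matrix (Fin n) (Fin n) R)ˣ) (V : (Matrix (Fin m) (Fin m) R)ˣ) (f : ℕ → R),
        (∀ k : ℕ, f k ∣ f (k + 1)) ∧
        ∀ (i : Fin n) (j : Fin m), ((U : Matrix (Fin n) (Fin n) R) * A * (V : Matrix (Fin m) (Fin m) R)) i j =
          if (i : ℕ) = (j : ℕ) then f i else 0) :
    IsBezout R := by
  classical
  rw [IsBezout.iff_span_pair_isPrincipal]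
  intro a b
  obtain ⟨U, V, f, -, hUV⟩ := hR 1 2 le_rfl (by norm_num) (Matrix.of ![![a, b]])
  set A : Matrix (Fin 1) (Fin 2) R := Matrix.of ![![a, b]] with hA
  set W : Matrix (Fin 1) (Fin 2) R := (U : Matrix (Fin 1) (Fin 1) R) * A * (V : Matrix (Fin 2) (Fin 2) R)
    with hW
  have hW00 : W 0 0 = f 0 := by
    have := hUV 0 0
    simpa using this
  have hW01 : W 0 1 = 0 := by
    have := hUV 0 1
    simpa using this
  have hAW : A = ((U⁻¹ : (Matrix (Fin 1) (Fin 1) R)ˣ) : Matrix (Fin 1) (Fin 1) R) * W *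
      ((V⁻¹ : (Matrix (Fin 2) (Fin 2) R)ˣ) : Matrix (Fin 2) (Fin 2) R) := by
    rw [hW]
    simp only [Matrix.mul_assoc, Units.mul_inv, Matrix.mul_one]
    rw [← Matrix.mul_assoc, Units.inv_mul, Matrix.one_mul]
  have ha : a = A 0 0 := by simp [hA]
  have hb : b = A 0 1 := by simp [hA]
  have hfa : f 0 ∣ a := by
    rw [ha, hAW]
    simp only [Matrix.mul_apply, Fin.sum_univ_two, Finset.univ_unique, Fin.default_eq_zero,
      Finset.sum_singleton, Fin.isValue, hW00, hW01]
    refine ⟨((U⁻¹ : (Matrix (Fin 1) (Fin 1) R)ˣ) : Matrix (Fin 1) (Fin 1) R) 0 0 *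
        ((V⁻¹ : (Matrix (Fin 2) (Fin 2) R)ˣ) : Matrix (Fin 2) (Fin 2) R) 0 0, ?_⟩
    ring
  have hfb : f 0 ∣ b := by
    rw [hb, hAW]
    simp only [Matrix.mul_apply, Fin.sum_univ_two, Finset.univ_unique, Fin.default_eq_zero,
      Finset.sum_singleton, Fin.isValue, hW00, hW01]
    refine ⟨((U⁻¹ : (Matrix (Fin 1) (Fin 1) R)ˣ) : Matrix (Fin 1) (Fin 1) R) 0 0 *
        ((V⁻¹ : (Matrix (Fin 2) (Fin 2) R)ˣ) : Matrix (Fin 2) (Fin 2) R) 0 1, ?_⟩
    ring
  have hf : f 0 ∈ Ideal.span ({a, b} : Set R) := by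
    rw [← hW00, hW]
    simp only [Matrix.mul_apply, Fin.sum_univ_two, Finset.univ_unique, Fin.default_eq_zero,
      Finset.sum_singleton, Fin.isValue, ← ha, ← hb]
    rw [Ideal.mem_span_pair]
    exact ⟨(U : Matrix (Fin 1) (Fin 1) R) 0 0 * (V : Matrix (Fin 2) (Fin 2) R) 0 0,
      (U : Matrix (Fin 1) (Fin 1) R) 0 0 * (V : Matrix (Fin 2) (Fin 2) R) 1 0, by ring⟩
  refine ⟨f 0, ?_⟩
  apply le_antisymm
  · rw [Ideal.span_le]
    intro x hx
    rcases hx with rfl | hx
    · exact Ideal.mem_span_singleton.mpr hfa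
    · rw [Set.mem_singleton_iff] at hx; subst hx
      exact Ideal.mem_span_singleton.mpr hfb
  · change Ideal.span {f 0} ≤ _
    rw [Ideal.span_le]
    intro x hx
    rw [Set.mem_singleton_iff] at hx; subst hx
    exact hf

end Groth.Agent.S12078
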