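import Groth.Statements.S12079
import Mathlib

set_option autoImplicit false
universe u
open TensorProduct
open CAlg

namespace Groth.Agent.S12079

/-- For a finitely presented `R`-module `M`, any `R`-module `N` and a flat `R`-module `L`, the canonical
map `Hom_R(M, N) ⊗_R L → Hom_R(M, N ⊗_R L)` sending `f ⊗ l` to `m ↦ f m ⊗ l` is bijective. -/
theorem result (R : Type u) [CommRing R]
    (M N L : Type u) [AddCommGroup M] [Module R M] [AddCommGroup N] [Module R N] [AddCommGroup L] [Module R L]
    [Module.FinitePresentation R M] [Module.Flat R L] :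
    Function.Bijective (TensorProduct.rTensorHomToHomRTensor (RingHom.id R) M N L) := by
  obtain ⟨n, m, f, g, hf, hfg⟩ := Module.FinitePresentation.exists_fin' R M
  have hfree : ∀ k : ℕ, Function.Bijective
      (TensorProduct.rTensorHomToHomRTensor (RingHom.id R) (Fin k → R) N L) := by
    intro k
    rw [← rTensorHomEquivHomRTensor_toLinearMap]
    exact (rTensorHomEquivHomRTensor R (Fin k → R) N L).bijective
  refine LinearMap.bijective_of_bijective_of_injective_of_left_exact
    ((f.lcomp R N).rTensor L) ((g.lcomp R N).rTensor L)
    (f.lcomp R (N ⊗[R] L)) (g.lcomp R (N ⊗[R] L))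
    (TensorProduct.rTensorHomToHomRTensor (RingHom.id R) M N L)
    (TensorProduct.rTensorHomToHomRTensor (RingHom.id R) (Fin n → R) N L)
    (TensorProduct.rTensorHomToHomRTensor (RingHom.id R) (Fin m → R) N L)
    ?_ ?_ ?_ ?_ (hfree n) (hfree m).1 ?_ ?_
  · apply TensorProduct.ext'
    intro φ l
    ext x
    simp
  · apply TensorProduct.ext'
    intro φ l
    ext x
    simp
  · exact Module.Flat.rTensor_exact L (LinearMap.exact_lcomp_of_exact_of_surjective _ hfg hf)
  · exact LinearMap.exact_lcomp_of_exact_of_surjective _ hfg hf
  · exact Module.Flat.rTensor_preserves_injective_linearMap _ (LinearMap.lcomp_injective_of_surjective f hf)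
  · exact LinearMap.lcomp_injective_of_surjective f hf

end Groth.Agent.S12079
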