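import Groth.Statements.S12080
import Mathlib

set_option autoImplicit false
universe u
open TensorProduct
open CAlg

namespace Groth.Agent.S12080

/-- (1) ⇒ (2): let `M` be a finite locally free `R`-module of rank `1`, i.e. there is a set `s ⊆ R`
generating the unit ideal with `M_f ≅ R_f` as `R_f`-modules for every `f ∈ s`. Then the evaluation
map `Hom_R(M, R) ⊗_R M → R` is bijective, so `M` is invertible with inverse its dual. -/
theorem result (R : Type u) [CommRing R] (M : Type u) [AddCommGroup M]
    [Module R M] (s : Set R) (hs : Ideal.span s = ⊤)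
    (hfree : ∀ f ∈ s, Nonempty (LocalizedModule.Away f M ≃ₗ[Localization.Away f] Localization.Away f)) :
    Module.Invertible R M := by
  -- M is finitely presented
  have hfp : Module.FinitePresentation R M := by
    apply Module.FinitePresentation.of_localizationSpan s hs
    intro g
    obtain ⟨e⟩ := hfree g.1 g.2
    exact Module.FinitePresentation.of_equiv e.symm
  constructor
  -- localize
  refine bijective_of_isLocalized_span s hs
    (fun r : s => (LocalizedModule.Away r.1 M →ₗ[R] Localization.Away r.1) ⊗[R]
      LocalizedModule.Away r.1 M)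
    (fun r : s => TensorProduct.map
      (IsLocalizedModule.map (.powers r.1) (LocalizedModule.mkLinearMap (.powers r.1) M)
        (Algebra.linearMap R (Localization.Away r.1)))
      (LocalizedModule.mkLinearMap (.powers r.1) M))
    (fun r : s => Localization.Away r.1)
    (fun r : s => Algebra.linearMap R (Localization.Away r.1))
    (contractLeft R M) ?_
  intro r
  obtain ⟨e⟩ := hfree r.1 r.2
  set A := Localization.Away r.1 with hA
  set Mr := LocalizedModule.Away r.1 M with hMr
  set ℓ := LocalizedModule.mkLinearMap (.powers r.1) M with hℓ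
  set ℓD := IsLocalizedModule.map (.powers r.1) ℓ (Algebra.linearMap R A) with hℓD
  -- the explicit localized map
  let c' : (Mr →ₗ[R] A) ⊗[R] Mr →ₗ[R] A := TensorProduct.lift (LinearMap.id)
  have hc' : IsLocalizedModule.map (.powers r.1) (TensorProduct.map ℓD ℓ) (Algebra.linearMap R A)
      (contractLeft R M) = c' := by
    apply IsLocalizedModule.ext (.powers r.1) (TensorProduct.map ℓD ℓ)
      (IsLocalizedModule.map_units (Algebra.linearMap R A))
    rw [IsLocalizedModule.map_comp]
    apply TensorProduct.ext'
    intro φ x
    simp [c', ℓD, IsLocalizedModule.map_apply]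
  rw [hc']
  let ev : (Mr →ₗ[R] A) ≃ₗ[R] A :=
    ((LinearMap.extendScalarsOfIsLocalizationEquiv (.powers r.1) A (M := Mr) (N := A)).trans
      ((LinearEquiv.congrLeft A A e).trans (LinearMap.ringLmapEquivSelf A A A))).restrictScalars R
  have hev : ∀ φ : Mr →ₗ[R] A, ev φ = φ (e.symm 1) := by
    intro φ
    simp [ev, LinearEquiv.congrLeft]
  have hlin : ∀ (φ : Mr →ₗ[R] A) (a : A) (x : Mr), φ (a • x) = a * φ x := by
    intro φ a x
    exact (φ.extendScalarsOfIsLocalization (.powers r.1) A).map_smul a x
  have hfac : c' = (LinearMap.mul' R A) ∘ₗ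
      (TensorProduct.congr ev (e.restrictScalars R)).toLinearMap := by
    apply TensorProduct.ext'
    intro φ x
    have hx : x = (e x) • e.symm 1 := by
      rw [← map_smul, smul_eq_mul, mul_one, LinearEquiv.symm_apply_apply]
    simp only [c', TensorProduct.lift.tmul, LinearMap.id_coe, id_eq, LinearMap.comp_apply,
      LinearEquiv.coe_coe, TensorProduct.congr_tmul, LinearMap.mul'_apply, hev,
      LinearEquiv.restrictScalars_apply]
    conv_lhs => rw [hx]
    rw [hlin, mul_comm]
  rw [hfac]
  exact (IsLocalization.bijective_linearMap_mul' (.powers r.1) A).comp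
    (TensorProduct.congr ev (e.restrictScalars R)).bijective

end Groth.Agent.S12080
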