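import Groth.Statements.S12084
import Mathlib
import Groth.Agent.H4.Fitting2
import Groth.Agent.H4.Fitting5

set_option autoImplicit false
universe u
open Fitt

namespace Groth.Agent.S12084

universe v
open Groth.Agent.H4.Fitting

/-- determinant of a matrix whose rows are each supported on the left or on the right block of
columns: it vanishes unless the number of left rows is the size of the left block -/
theorem det_eq_zero_of_card_ne {R : Type*} [CommRing R] {α β : Type*} [Fintype α] [Fintype β]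
    [DecidableEq α] [DecidableEq β] (b : Matrix (α ⊕ β) (α ⊕ β) R) (L : Finset (α ⊕ β))
    (hL : ∀ i, i ∈ L → ∀ j', b i (Sum.inr j') = 0) (hR : ∀ i, i ∉ L → ∀ j, b i (Sum.inl j) = 0)
    (hcard : L.card ≠ Fintype.card α) : b.det = 0 := by
  rw [Matrix.det_apply]
  refine Finset.sum_eq_zero (fun σ _ => ?_)
  suffices h : ∃ i, b (σ i) i = 0 by
    obtain ⟨i, hi⟩ := h
    have : ∏ k, b (σ k) k = 0 := Finset.prod_eq_zero (Finset.mem_univ i) hi
    rw [this, smul_zero]
  by_contra hne
  push Not at hne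
  apply hcard
  have h1 : ∀ j, σ (Sum.inl j) ∈ L := by
    intro j
    by_contra h
    exact hne (Sum.inl j) (hR _ h j)
  have h2 : ∀ j', σ (Sum.inr j') ∉ L := by
    intro j' h
    exact hne (Sum.inr j') (hL _ h j')
  have : L = Finset.univ.map ((Function.Embedding.inl : α ↪ α ⊕ β).trans σ.toEmbedding) := by
    ext i
    simp only [Finset.mem_map, Finset.mem_univ, true_and, Function.Embedding.trans_apply,
      Function.Embedding.inl_apply, Equiv.coe_toEmbedding]
    constructor
    · intro hi
      obtain ⟨k, rfl⟩ := σ.surjective i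
      rcases k with j | j'
      · exact ⟨j, rfl⟩
      · exact absurd hi (h2 j')
    · rintro ⟨j, rfl⟩
      exact h1 j
  rw [this, Finset.card_map, Finset.card_univ]

theorem det_eq_mul_of_card_eq {R : Type*} [CommRing R] {α β : Type*} [Fintype α] [Fintype β]
    [DecidableEq α] [DecidableEq β] (b : Matrix (α ⊕ β) (α ⊕ β) R) (L : Finset (α ⊕ β))
    (hL : ∀ i, i ∈ L → ∀ j', b i (Sum.inr j') = 0) (hR : ∀ i, i ∉ L → ∀ j, b i (Sum.inl j) = 0)
    (eL : α ≃ {i // i ∈ L}) (eR : β ≃ {i // i ∉ L}) :
    ∃ u : R, b.det = u * ((Matrix.of fun a j => b (eL a).1 (Sum.inl j)).det *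
      (Matrix.of fun a' j' => b (eR a').1 (Sum.inr j')).det) := by
  let τ : Equiv.Perm (α ⊕ β) := (Equiv.sumCongr eL eR).trans (Equiv.sumCompl (· ∈ L))
  have hτl : ∀ a, τ (Sum.inl a) = (eL a).1 := fun a => by simp [τ]
  have hτr : ∀ a', τ (Sum.inr a') = (eR a').1 := fun a' => by simp [τ]
  have hsub : b.submatrix τ id = Matrix.fromBlocks
      (Matrix.of fun a j => b (eL a).1 (Sum.inl j)) 0 0
      (Matrix.of fun a' j' => b (eR a').1 (Sum.inr j')) := by
    ext i j
    rcases i with a | a' <;> rcases j with j | j'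
    · simp [hτl]
    · simp [hτl, hL _ (eL a).2]
    · simp [hτr, hR _ (eR a').2]
    · simp [hτr]
  have hdet := Matrix.det_permute τ b
  rw [hsub, Matrix.det_fromBlocks_zero₁₂] at hdet
  refine ⟨(Equiv.Perm.sign τ : ℤˣ), ?_⟩
  rw [hdet, ← mul_assoc]
  rcases Int.units_eq_one_or (Equiv.Perm.sign τ) with h | h <;> simp [h]

section
variable {R : Type u} [CommRing R] {M : Type v} {M' : Type v} [AddCommGroup M] [Module R M]
  [AddCommGroup M'] [Module R M'] {n n' : ℕ}

/-- generating family of the product -/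
def X (x : Fin n → M) (x' : Fin n' → M') : Fin n ⊕ Fin n' → M × M' :=
  Sum.elim (fun i => (x i, 0)) (fun i' => (0, x' i'))

theorem sum_X (x : Fin n → M) (x' : Fin n' → M') (z : Fin n ⊕ Fin n' → R) :
    ∑ j, z j • X x x' j = (∑ i, z (Sum.inl i) • x i, ∑ i', z (Sum.inr i') • x' i') := by
  rw [Fintype.sum_sum_type]
  refine Prod.ext ?_ ?_
  · simp [X, Prod.fst_sum]
  · simp [X, Prod.snd_sum]

theorem span_X (x : Fin n → M) (x' : Fin n' → M') (hx : Submodule.span R (Set.range x) = ⊤)
    (hx' : Submodule.span R (Set.range x') = ⊤) :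
    Submodule.span R (Set.range (X x x')) = ⊤ := by
  have h1 : Set.range (X x x') = (LinearMap.inl R M M') '' Set.range x ∪
      (LinearMap.inr R M M') '' Set.range x' := by
    rw [X, Set.Sum.elim_range, ← Set.range_comp, ← Set.range_comp]
    rfl
  rw [h1, Submodule.span_union, ← Submodule.map_span, ← Submodule.map_span, hx, hx',
    Submodule.map_top, Submodule.map_top, LinearMap.sup_range_inl_inr]

theorem G_mono {ι : Type*} [Fintype ι] [DecidableEq ι] {N : Type*} [AddCommGroup N] [Module R N]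
    (y : ι → N) {k k' : ℕ} (h : k ≤ k') : (G k y : Ideal R) ≤ G k' y := by
  rw [G_le_iff]
  intro a T hT hr
  exact det_mem_G a T (hT.trans h) hr

theorem mul_le (x : Fin n → M) (x' : Fin n' → M') (k k' : ℕ) :
    (G k x : Ideal R) * G k' x' ≤ G (k + k') (X x x') := by
  unfold G
  rw [Ideal.span_mul_span']
  refine Ideal.span_le.mpr ?_
  rintro _ ⟨_, ⟨a, T, hT, hr, rfl⟩, _, ⟨a', T', hT', hr', rfl⟩, rfl⟩
  have hdet : (Matrix.fromBlocks a 0 0 a').det = a.det * a'.det :=
    Matrix.det_fromBlocks_zero₁₂ _ _ _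
  show a.det * a'.det ∈ (G (k + k') (X x x') : Ideal R)
  rw [← hdet]
  refine det_mem_G _ (T.disjSum T') (by rw [Finset.card_disjSum]; omega) ?_
  intro i hi
  rw [sum_X]
  rcases i with i | i'
  · have hi' : i ∉ T := fun h => hi (Finset.inl_mem_disjSum.mpr h)
    simp [hr i hi']
  · have hi' : i' ∉ T' := fun h => hi (Finset.inr_mem_disjSum.mpr h)
    simp [hr' i' hi']

theorem le_sum (x : Fin n → M) (x' : Fin n' → M') (l : ℕ) :
    (G l (X x x') : Ideal R) ≤ ∑ k ∈ Finset.range (l + 1), (G k x : Ideal R) * G (l - k) x' := by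
  classical
  let S0 : Set (Fin n ⊕ Fin n' → R) := {z | ((∀ j', z (Sum.inr j') = 0) ∧ ∑ i, z (Sum.inl i) • x i = 0) ∨
    ((∀ j, z (Sum.inl j) = 0) ∧ ∑ i', z (Sum.inr i') • x' i' = 0)}
  have hS0 : Submodule.span R S0 = rel (X x x') := by
    apply le_antisymm
    · refine Submodule.span_le.mpr ?_
      rintro z (⟨h1, h2⟩ | ⟨h1, h2⟩)
      · rw [SetLike.mem_coe, mem_rel, sum_X, h2]
        simp [h1]
      · rw [SetLike.mem_coe, mem_rel, sum_X, h2]
        simp [h1]
    · intro z hz
      rw [mem_rel, sum_X, Prod.mk_eq_zero] at hz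
      have : z = (fun j => Sum.elim (fun i => z (Sum.inl i)) (fun _ => 0) j) +
          (fun j => Sum.elim (fun _ => 0) (fun i' => z (Sum.inr i')) j) := by
        ext j
        rcases j with j | j <;> simp
      rw [this]
      refine Submodule.add_mem _ (Submodule.subset_span (Or.inl ⟨?_, ?_⟩))
        (Submodule.subset_span (Or.inr ⟨?_, ?_⟩))
      · intro j'; simp
      · simpa using hz.1
      · intro j; simp
      · simpa using hz.2
  rw [G_eq_span_of_span l (X x x') S0 hS0]
  refine Ideal.span_le.mpr ?_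
  rintro d ⟨b, T, hT, h1, h2, rfl⟩
  let L : Finset (Fin n ⊕ Fin n') := Finset.univ.filter (fun i => ∀ j', b i (Sum.inr j') = 0)
  have hL : ∀ i, i ∈ L → ∀ j', b i (Sum.inr j') = 0 := by
    intro i hi
    simpa [L] using hi
  have hR : ∀ i, i ∉ L → ∀ j, b i (Sum.inl j) = 0 := by
    intro i hi j
    have hi' : ¬ ∀ j', b i (Sum.inr j') = 0 := by simpa [L] using hi
    by_cases hiT : i ∈ T
    · obtain ⟨j0, hj0⟩ := h2 i hiT
      rcases j0 with j0 | j0
      · exfalso
        apply hi'
        intro j'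
        rw [hj0]
        simp
      · rw [hj0]
        simp
    · rcases h1 i hiT with ⟨h3, _⟩ | ⟨h3, _⟩
      · exact absurd h3 hi'
      · exact h3 j
  by_cases hcard : L.card = Fintype.card (Fin n)
  swap
  · rw [SetLike.mem_coe, det_eq_zero_of_card_ne b L hL hR hcard]
    exact Ideal.zero_mem _
  have hcardR : Fintype.card {i // i ∉ L} = Fintype.card (Fin n') := by
    rw [Fintype.card_subtype_compl, Fintype.card_coe, hcard]
    simp
  let eL : Fin n ≃ {i // i ∈ L} := Fintype.equivOfCardEq (by rw [Fintype.card_coe, hcard])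
  let eR : Fin n' ≃ {i // i ∉ L} := Fintype.equivOfCardEq hcardR.symm
  obtain ⟨u, hu⟩ := det_eq_mul_of_card_eq b L hL hR eL eR
  rw [SetLike.mem_coe, hu]
  refine Ideal.mul_mem_left _ _ ?_
  let TA : Finset (Fin n) := Finset.univ.filter (fun a => (eL a).1 ∈ T)
  let TD : Finset (Fin n') := Finset.univ.filter (fun a' => (eR a').1 ∈ T)
  have hTA : TA.card ≤ (T.filter (· ∈ L)).card := by
    refine Finset.card_le_card_of_injOn (fun a => (eL a).1) (fun a ha => ?_) ?_
    · have : (eL a).1 ∈ T := by simpa [TA] using ha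
      simp [this, (eL a).2]
    · intro a _ a' _ h
      exact eL.injective (Subtype.ext h)
  have hTD : TD.card ≤ (T.filter (fun i => ¬ i ∈ L)).card := by
    refine Finset.card_le_card_of_injOn (fun a => (eR a).1) (fun a ha => ?_) ?_
    · have : (eR a).1 ∈ T := by simpa [TD] using ha
      simp [this, (eR a).2]
    · intro a _ a' _ h
      exact eR.injective (Subtype.ext h)
  have hsum : TA.card + TD.card ≤ l := by
    have := Finset.card_filter_add_card_filter_not (s := T) (fun i => i ∈ L)
    omega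
  have hA : (Matrix.of fun a j => b (eL a).1 (Sum.inl j)).det ∈ (G TA.card x : Ideal R) := by
    refine det_mem_G _ TA le_rfl ?_
    intro a ha
    have haT : (eL a).1 ∉ T := by simpa [TA] using ha
    rcases h1 _ haT with ⟨_, h4⟩ | ⟨h3, _⟩
    · exact h4
    · simp [h3]
  have hD : (Matrix.of fun a' j' => b (eR a').1 (Sum.inr j')).det ∈ (G TD.card x' : Ideal R) := by
    refine det_mem_G _ TD le_rfl ?_
    intro a ha
    have haT : (eR a).1 ∉ T := by simpa [TD] using ha
    rcases h1 _ haT with ⟨h3, _⟩ | ⟨_, h4⟩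
    · simp [h3]
    · exact h4
  have hmem : (Matrix.of fun a j => b (eL a).1 (Sum.inl j)).det *
      (Matrix.of fun a' j' => b (eR a').1 (Sum.inr j')).det ∈
      (G TA.card x : Ideal R) * G (l - TA.card) x' :=
    Ideal.mul_mem_mul hA (G_mono x' (by omega) hD)
  rw [Ideal.sum_eq_sup]
  have hle : (G TA.card x : Ideal R) * G (l - TA.card) x' ≤
      (Finset.range (l + 1)).sup (fun k => (G k x : Ideal R) * G (l - k) x') :=
    Finset.le_sup (f := fun k => (G k x : Ideal R) * G (l - k) x')
      (Finset.mem_range.mpr (by omega : TA.card < l + 1))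
  exact hle hmem

end

/-- For finite `R`-modules `M`, `M'` and every `l`, the `l`-th Fitting ideal of `M ⊕ M'` equals `∑_{k +
k' = l} Fit_k(M) · Fit_{k'}(M')`; in particular `Fit_0(M ⊕ M') = Fit_0(M) · Fit_0(M')`. -/
theorem result (R : Type u) [CommRing R] (M M' : Type u) [AddCommGroup M] [Module R M]
    [AddCommGroup M'] [Module R M'] [Module.Finite R M] [Module.Finite R M'] (l : ℕ) :
    Fitt.ideal R (M × M') l = ∑ k ∈ Finset.range (l + 1), Fitt.ideal R M k * Fitt.ideal R M' (l - k) := by
  obtain ⟨n, x, hx⟩ := Module.Finite.exists_fin (R := R) (M := M)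
  obtain ⟨n', x', hx'⟩ := Module.Finite.exists_fin (R := R) (M := M')
  rw [ideal_eq_G l (X x x') (span_X x x' hx hx')]
  have h1 : ∀ k, Fitt.ideal R M k = G k x := fun k => ideal_eq_G k x hx
  have h2 : ∀ k, Fitt.ideal R M' k = G k x' := fun k => ideal_eq_G k x' hx'
  simp_rw [h1, h2]
  apply le_antisymm (le_sum x x' l)
  rw [Ideal.sum_eq_sup]
  refine Finset.sup_le (fun k hk => ?_)
  have hk' : k + (l - k) = l := by
    have := Finset.mem_range.mp hk
    omega
  have := mul_le (R := R) x x' k (l - k)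
  rwa [hk'] at this


end Groth.Agent.S12084
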