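import Groth.Statements.S12105
import Groth.Agent.Lib.Lead.GSS.Groth2
import Groth.Agent.Lib.Lead.CechExt.Free

set_option autoImplicit false
universe u
open CategoryTheory
open CohSite

namespace Groth.Agent.S12105

open CategoryTheory.Limits in
/-- On a small site (C, J), for a presheaf of sets R on C and an abelian sheaf M there is a bounded E_2
spectral sequence of abelian groups with E_2^{p,q} isomorphic to H^p(R, H^q(M)) — the cohomology, in
the topos of presheaves (sheaves for the trivial topology), of the presheaf V ↦ H^q(V, M) with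
respect to R, i.e. the p-th Ext out of the free abelian presheaf on R — for p, q ≥ 0 and zero
otherwise, with abutment data whose filtrations are finite on H^n(aR, M), the cohomology of M with
respect to the sheaf of sets associated to R (n ≥ 0; zero for n < 0). The E_2 identifications and
abutment isomorphisms are asserted to exist only, not pinned to the canonical maps, so edge maps and
functoriality in R and M are not part of this statement. -/
theorem result {C : Type u} [SmallCategory C]
    (J : GrothendieckTopology C) (R : Cᵒᵖ ⥤ Type u) (M : Sheaf J AddCommGrpCat.{u}) :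
    ∃ (E : E₂CohomologicalSpectralSequence AddCommGrpCat.{u})
      (a : SpSeq.Abutment E (fun n : ℤ =>
        if 0 ≤ n then AddCommGrpCat.of (CohCx.HK ((presheafToSheaf J (Type u)).obj R) M n.toNat)
        else AddCommGrpCat.of PUnit.{u + 1})),
      (∀ n, a.IsFinite n) ∧ SpSeq.IsBounded E ∧
      ∀ p q : ℤ, Nonempty ((E.page 2 le_rfl).X (p, q) ≅
        (if 0 ≤ p ∧ 0 ≤ q then
          AddCommGrpCat.of (CohCx.HK (J := (⊥ : GrothendieckTopology C)) ⟨R, Presheaf.isSheaf_bot _⟩
            ⟨M.cohomologyPresheaf q.toNat, Presheaf.isSheaf_bot _⟩ p.toNat)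
         else AddCommGrpCat.of PUnit.{u + 1})) := by
  have hZ : IsZero (AddCommGrpCat.of PUnit.{u + 1}) := by
    refine AddCommGrpCat.isZero_of_subsingleton _
  exact Groth.Agent.LD.GSS.exists_gss' (Groth.Agent.LD.CE.toBot J)
    (Groth.Agent.LD.CE.ZR (⊥ : GrothendieckTopology C) R)
    (Groth.Agent.LD.CE.ZR J ((presheafToSheaf J (Type u)).obj R).obj)
    (Groth.Agent.LD.CE.botHomIso J R)
    (fun Q hQ => by
      haveI := Groth.Agent.LD.CE.injective_toBot J Q hQ
      exact Groth.Agent.LD.GSS.pAcyc_of_injective _ _) M
    (fun q => Groth.Agent.LD.CE.packBot.obj (Sheaf.cohomologyPresheaf.{u} M q))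
    (fun q => Groth.Agent.LD.CE.nonempty_rightDerived_toBot_iso J M q) _ _ hZ hZ

end Groth.Agent.S12105
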