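import Groth.Statements.S12119
import Groth.Agent.Lib.Helper8.TFunArtin
-- import your own Groth.Agent.* helpers here

set_option autoImplicit false
universe u
open FlatCx

namespace Groth.Agent.S12119

open CategoryTheory CategoryTheory.Limits in
/-- Let A be a commutative Artinian local ring with residue field k, P a chain complex of flat A-modules
(terms not necessarily finitely generated), T_i(M) = H_i(P ⊗_A M), and suppose T_p(k) has finite
length d. If length T_p(A) = d · length A (lengths in ℕ∞), then T_p(A) → T_p(k), induced by the
projection A → k, is surjective and T_p(A) is a flat A-module. -/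
theorem result {A : Type u} [CommRing A] [IsArtinianRing A]
    [IsLocalRing A] (P : ChainComplex (ModuleCat.{u} A) ℤ) (hP : ∀ i, Module.Flat A (P.X i)) (p : ℤ)
    (hd : Module.length A (CohIII.T P p (ModuleCat.of A (IsLocalRing.ResidueField A))) ≠ ⊤)
    (hj : Module.length A (CohIII.T P p (ModuleCat.of A A)) =
      Module.length A (CohIII.T P p (ModuleCat.of A (IsLocalRing.ResidueField A))) * Module.length A A) :
    Function.Surjective ((CohIII.TFun P p).map
        (ModuleCat.ofHom (Algebra.linearMap A (IsLocalRing.ResidueField A)))).hom ∧
      Module.Flat A (CohIII.T P p (ModuleCat.of A A)) := by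
  open Groth.Agent.H8.TFun Groth.Agent.H8 in
  have hA : Module.length A A ≠ ⊤ := Module.length_ne_top
  have hfin : Module.length A ((CohIII.TFun P p).obj (ModuleCat.of A A)) ≠ ⊤ := by
    change Module.length A (CohIII.T P p (ModuleCat.of A A)) ≠ ⊤
    rw [hj]
    exact WithTop.mul_ne_top hd hA
  have hle1 := LengthExact.length_le_add_of_exact _ _
    (TFun_exact_middle P hP _ (residueSC_shortExact (A := A)) p)
  have hle2 := length_TFun_obj_le P hP p (IsLocalRing.maximalIdeal A)
  have heq : Module.length A ((CohIII.TFun P p).obj (ModuleCat.of A A)) =
      Module.length A ((CohIII.TFun P p).obj (ModuleCat.of A (IsLocalRing.maximalIdeal A))) +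
        Module.length A ((CohIII.TFun P p).obj (ModuleCat.of A (IsLocalRing.ResidueField A))) := by
    refine le_antisymm hle1 ?_
    calc Module.length A ((CohIII.TFun P p).obj (ModuleCat.of A (IsLocalRing.maximalIdeal A))) +
          Module.length A ((CohIII.TFun P p).obj (ModuleCat.of A (IsLocalRing.ResidueField A)))
        ≤ Module.length A ((CohIII.TFun P p).obj (ModuleCat.of A (IsLocalRing.ResidueField A))) *
            Module.length A (IsLocalRing.maximalIdeal A) +
          Module.length A ((CohIII.TFun P p).obj (ModuleCat.of A (IsLocalRing.ResidueField A))) :=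
          add_le_add hle2 le_rfl
      _ = Module.length A ((CohIII.TFun P p).obj (ModuleCat.of A (IsLocalRing.ResidueField A))) *
            Module.length A A := by
          rw [length_self_eq, mul_add, mul_one]
      _ = Module.length A ((CohIII.TFun P p).obj (ModuleCat.of A A)) := hj.symm
  obtain ⟨hm, hs⟩ := mono_and_surjective_of_length_eq P hP p hfin heq
  refine ⟨hs, ?_⟩
  have he := (preservesEpi_iff_surjective_residue_artinian P hP p).2 hs
  have hH := flat_homology_of_mono_maximal P hP p he hm
  exact Module.Flat.of_linearEquiv (TObjUnitIso P p).toLinearEquiv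

end Groth.Agent.S12119
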