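import Groth.Statements.S12129
import Groth.Agent.Lib.Helper6.Cv3

set_option autoImplicit false
universe u
open EGA2

namespace Groth.Agent.S12129

open AlgebraicGeometry CategoryTheory in
/-- Let X be a scheme of finite type over a field k. Then the local ring of X at every closed point has
dimension one if and only if the irreducible closed subsets of X other than its irreducible
components are exactly the (singletons of) closed points of X — that is, every irreducible closed
subset which is not an irreducible component is a closed point, and no closed point is by itself an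
irreducible component. -/
theorem result (k : Type u) [Field k] (X : Scheme.{u})
    [X.Over (Spec (CommRingCat.of k))] [LocallyOfFiniteType (X ↘ (Spec (CommRingCat.of k)))]
    [QuasiCompact (X ↘ (Spec (CommRingCat.of k)))] :
    (∀ x : X, IsClosed ({x} : Set X) → ringKrullDim (X.presheaf.stalk x) = 1) ↔
      ((∀ F : Set X, IsClosed F → IsIrreducible F → F ∉ irreducibleComponents (X : Type u) →
          ∃ x : X, IsClosed ({x} : Set X) ∧ F = {x}) ∧
        ∀ x : X, IsClosed ({x} : Set X) → ({x} : Set X) ∉ irreducibleComponents (X : Type u)) := by
  classical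
  let f := X ↘ Spec (CommRingCat.of k)
  have hcomp : CompactSpace X := QuasiCompact.compactSpace_of_compactSpace f
  constructor
  · intro hb
    constructor
    · intro F hFc hFi hFn
      obtain ⟨η, hη⟩ := QuasiSober.sober hFi hFc
      obtain ⟨c, hc, hcc⟩ := IsClosed.exists_closed_singleton hFc ⟨η, hη.mem⟩
      have hηc : η ⤳ c := hη.specializes hc
      obtain ⟨P, hP⟩ := Groth.Agent.H6.Cv.exists_prime_of_specializes c hηc
      have hdim1 : Ring.KrullDimLE 1 (X.presheaf.stalk c) :=
        Ring.krullDimLE_iff.mpr (le_of_eq (hb c hcc))
      have hPp : P.asIdeal.IsPrime := P.2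
      rcases Ring.krullDimLE_one_iff.1 hdim1 P.asIdeal hPp with hmin | hmax
      · exfalso
        apply hFn
        rw [← hη.def]
        apply (Groth.Agent.H6.Cv.closure_mem_irreducibleComponents_iff η).2
        rw [← hP]
        exact (Groth.Agent.H6.Cv.mem_minimalPrimes_iff_forall_specializes c P).1 hmin
      · have hηeq : η = c := by
          rw [← hP]
          exact (Groth.Agent.H6.Cv.fromSpecStalk_eq_iff_maximal c P).2
            (IsLocalRing.eq_maximalIdeal hmax)
        refine ⟨c, hcc, ?_⟩
        rw [← hη.def, hηeq, hcc.closure_eq]
    · intro x hxc hcomp'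
      have hmaxl := (Groth.Agent.H6.Cv.closure_mem_irreducibleComponents_iff x).1
        (by rw [hxc.closure_eq]; exact hcomp')
      have hdim := hb x hxc
      have hemb : Topology.IsEmbedding (X.fromSpecStalk x).base := (X.fromSpecStalk x).isEmbedding
      have hsub : Subsingleton (PrimeSpectrum (X.presheaf.stalk x)) := by
        constructor
        intro p q
        apply hemb.injective
        exact (hmaxl _ (Groth.Agent.H6.Cv.fromSpecStalk_specializes_base x p)).trans
          (hmaxl _ (Groth.Agent.H6.Cv.fromSpecStalk_specializes_base x q)).symm
      have hle : ringKrullDim (X.presheaf.stalk x) ≤ 0 := Order.krullDim_nonpos_of_subsingleton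
      rw [hdim] at hle
      exact absurd hle (by norm_num)
  · rintro ⟨hc1, hc2⟩ x hxc
    have h1 : Ring.KrullDimLE 1 (X.presheaf.stalk x) := by
      rw [Ring.krullDimLE_one_iff]
      intro I hI
      let P : ↥(Spec (X.presheaf.stalk x)) := ⟨I, hI⟩
      by_cases hy : closure {(X.fromSpecStalk x).base P} ∈ irreducibleComponents X
      · left
        exact (Groth.Agent.H6.Cv.mem_minimalPrimes_iff_forall_specializes x P).2
          ((Groth.Agent.H6.Cv.closure_mem_irreducibleComponents_iff _).1 hy)
      · right
        obtain ⟨z, hzc, hz⟩ := hc1 (closure {(X.fromSpecStalk x).base P}) isClosed_closure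
          isIrreducible_singleton.closure hy
        have hyz : (X.fromSpecStalk x).base P = z := by
          have : (X.fromSpecStalk x).base P ∈ closure {(X.fromSpecStalk x).base P} :=
            subset_closure rfl
          rw [hz] at this
          exact this
        have hyx : (X.fromSpecStalk x).base P ⤳ x :=
          Groth.Agent.H6.Cv.fromSpecStalk_specializes_base x P
        have hxy : x = (X.fromSpecStalk x).base P := by
          have : x ∈ closure {(X.fromSpecStalk x).base P} := specializes_iff_mem_closure.1 hyx
          rw [hz] at this
          rw [hyz]; exact this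
        have := (Groth.Agent.H6.Cv.fromSpecStalk_eq_iff_maximal x P).1 hxy.symm
        change I = IsLocalRing.maximalIdeal _ at this
        rw [this]
        exact IsLocalRing.maximalIdeal.isMaximal _
    have h2 : 1 ≤ ringKrullDim (X.presheaf.stalk x) := by
      have hnc := hc2 x hxc
      have hne : ¬ ∀ y : X, y ⤳ x → y = x := fun h => hnc (by
        rw [← hxc.closure_eq]
        exact (Groth.Agent.H6.Cv.closure_mem_irreducibleComponents_iff x).2 h)
      push Not at hne
      obtain ⟨ζ, hζx, hζne⟩ := hne
      obtain ⟨Q, hQ⟩ := Groth.Agent.H6.Cv.exists_prime_of_specializes x hζx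
      have hQp : Q.asIdeal.IsPrime := Q.2
      have hQm : Q.asIdeal < IsLocalRing.maximalIdeal (X.presheaf.stalk x) :=
        lt_of_le_of_ne (IsLocalRing.le_maximalIdeal hQp.ne_top) (fun h => hζne (by
          rw [← hQ]
          exact (Groth.Agent.H6.Cv.fromSpecStalk_eq_iff_maximal x Q).2 h))
      rw [ringKrullDim, Order.one_le_krullDim_iff]
      exact ⟨(⟨Q.asIdeal, hQp⟩ : PrimeSpectrum _), IsLocalRing.closedPoint _, hQm⟩
    exact le_antisymm (Ring.krullDimLE_iff.1 h1) h2

end Groth.Agent.S12129
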