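import Groth.Statements.S1214
-- import your own Groth.Agent.* helpers here

set_option autoImplicit false
universe u
open FlatMor

namespace Groth.Agent.S1214

namespace Groth.Agent.H1.S1214aux

open TensorProduct

section complete

variable {R : Type u} [CommRing R] (I : Ideal R) {N : Type u} [AddCommGroup N] [Module R N]

theorem pow_apply_mem (u : N →ₗ[R] N)
    (hu : ∀ k : ℕ, ∀ n ∈ (I ^ k • ⊤ : Submodule R N), u n ∈ (I ^ (k + 1) • ⊤ : Submodule R N))
    (k : ℕ) (n : N) : (u ^ k) n ∈ (I ^ k • ⊤ : Submodule R N) := by
  induction k with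
  | zero => simp
  | succ k ih =>
    have e1 : (u ^ (k + 1)) n = u ((u ^ k) n) := by
      rw [pow_succ']
      rfl
    rw [e1]
    exact hu k _ ih

/-- `1 - u` is bijective on a complete module when `u` raises the `I`-adic filtration -/
theorem bijective_one_sub [IsHausdorff I N] [IsPrecomplete I N] (u : N →ₗ[R] N)
    (hu : ∀ k : ℕ, ∀ n ∈ (I ^ k • ⊤ : Submodule R N), u n ∈ (I ^ (k + 1) • ⊤ : Submodule R N)) :
    Function.Bijective (LinearMap.id - u : N →ₗ[R] N) := by
  have hle : ∀ k : ℕ, ∀ n ∈ (I ^ k • ⊤ : Submodule R N), u n ∈ (I ^ k • ⊤ : Submodule R N) := by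
    intro k n hn
    exact Submodule.smul_mono_left (Ideal.pow_le_pow_right (Nat.le_succ k)) (hu k n hn)
  constructor
  · rw [injective_iff_map_eq_zero]
    intro n hn
    have h1 : u n = n := by
      have : n - u n = 0 := hn
      rw [sub_eq_zero] at this
      exact this.symm
    have h2 : ∀ k : ℕ, (u ^ k) n = n := by
      intro k
      induction k with
      | zero => simp
      | succ k ih =>
        rw [pow_succ, Module.End.mul_apply, h1, ih]
    apply IsHausdorff.haus ‹IsHausdorff I N›
    intro k
    rw [SModEq.sub_mem, sub_zero, ← h2 k]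
    exact pow_apply_mem I u hu k n
  · intro y
    let s : ℕ → N := fun k => ∑ i ∈ Finset.range k, (u ^ i) y
    have hs : ∀ k, s (k + 1) - s k = (u ^ k) y := by
      intro k
      simp only [s, Finset.sum_range_succ, add_sub_cancel_left]
    have hcauchy : ∀ (m n : ℕ), m ≤ n → s n - s m ∈ (I ^ m • ⊤ : Submodule R N) := by
      intro m n hmn
      induction n, hmn using Nat.le_induction with
      | base => rw [sub_self]; exact Submodule.zero_mem _
      | succ n hmn ih =>
        have e : s (n + 1) - s m = (s (n + 1) - s n) + (s n - s m) := by abel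
        rw [e, hs]
        refine Submodule.add_mem _ ?_ ih
        exact Submodule.smul_mono_left (Ideal.pow_le_pow_right hmn) (pow_apply_mem I u hu n y)
    obtain ⟨L, hL⟩ := IsPrecomplete.prec ‹IsPrecomplete I N› (f := s) (by
      intro m n hmn
      rw [SModEq.sub_mem]
      have := hcauchy m n hmn
      rw [← Submodule.neg_mem_iff, neg_sub] at this
      exact this)
    refine ⟨L, ?_⟩
    rw [← sub_eq_zero]
    apply IsHausdorff.haus ‹IsHausdorff I N›
    intro k
    rw [SModEq.sub_mem, sub_zero]
    have hLk : s k - L ∈ (I ^ k • ⊤ : Submodule R N) := by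
      rw [← SModEq.sub_mem]
      exact hL k
    have htel : ∀ k : ℕ, s k - u (s k) = y - (u ^ k) y := by
      intro k
      induction k with
      | zero => simp [s]
      | succ k ih =>
        have e1 : s (k + 1) = s k + (u ^ k) y := by rw [← hs k]; abel
        have e2 : (u ^ (k + 1)) y = u ((u ^ k) y) := by rw [pow_succ']; rfl
        rw [e1, map_add, e2]
        have : s k + (u ^ k) y - (u (s k) + u ((u ^ k) y)) =
            (s k - u (s k)) + (u ^ k) y - u ((u ^ k) y) := by abel
        rw [this, ih]
        abel
    have e : (LinearMap.id - u : N →ₗ[R] N) L - y =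
        -((s k - L) - u (s k - L)) - (u ^ k) y := by
      have h1 := htel k
      rw [LinearMap.sub_apply, LinearMap.id_apply, map_sub]
      have e3 : -(s k - L - (u (s k) - u L)) - (u ^ k) y =
          L - u L - (s k - u (s k)) - (u ^ k) y := by abel
      rw [e3, h1]
      abel
    rw [e]
    refine Submodule.sub_mem _ (Submodule.neg_mem _ (Submodule.sub_mem _ hLk (hle k _ hLk))) ?_
    exact pow_apply_mem I u hu k y

end complete

section main

variable {R S : Type u} [CommRing R] [CommRing S] [Algebra R S] (I : Ideal R)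
  (N : Type u) [AddCommGroup N] [Module S N] [Module R N] [IsScalarTower R S N]

theorem smul_mem_pow_smul_top (s : S) (k : ℕ) (n : N) (hn : n ∈ (I ^ k • ⊤ : Submodule R N)) :
    s • n ∈ (I ^ k • ⊤ : Submodule R N) := by
  refine Submodule.smul_induction_on hn ?_ ?_
  · intro r hr m _
    rw [smul_comm]
    exact Submodule.smul_mem_smul hr Submodule.mem_top
  · intro a b ha hb
    rw [smul_add]
    exact Submodule.add_mem _ ha hb

theorem map_smul_mem (g : S) (hg : g ∈ I.map (algebraMap R S)) (k : ℕ) (n : N)
    (hn : n ∈ (I ^ k • ⊤ : Submodule R N)) : g • n ∈ (I ^ (k + 1) • ⊤ : Submodule R N) := by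
  induction hg using Submodule.span_induction generalizing n with
  | mem g hg =>
    obtain ⟨x, hx, rfl⟩ := hg
    rw [algebraMap_smul, pow_succ', Submodule.mul_smul]
    exact Submodule.smul_mem_smul hx hn
  | zero => rw [zero_smul]; exact Submodule.zero_mem _
  | add a b _ _ ha hb =>
    rw [add_smul]
    exact Submodule.add_mem _ (ha n hn) (hb n hn)
  | smul s a _ ha =>
    rw [smul_eq_mul, mul_smul]
    exact smul_mem_pow_smul_top I N s (k + 1) _ (ha n hn)

theorem rTensor_lsmul (M : Type u) [AddCommGroup M] [Module R M] (f : S) (z : N ⊗[R] M) :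
    ((LinearMap.lsmul S N f).restrictScalars R).rTensor M z = f • z := by
  induction z using TensorProduct.induction_on with
  | zero => simp
  | add a b ha hb => rw [map_add, ha, hb, smul_add]
  | tmul n m => rw [LinearMap.rTensor_tmul, TensorProduct.smul_tmul']; rfl

end main

end Groth.Agent.H1.S1214aux

open TensorProduct in
/-- Let R → S be a ring map, I an ideal of R and N an S-module which is I-adically complete. Then for
every R-module M and every prime q of S which is the annihilator of an element of the S-module N ⊗_R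
M we have q + IS ≠ S. -/
theorem result {R S : Type u} [CommRing R] [CommRing S] [Algebra R S] (I : Ideal R)
    (N : Type u) [AddCommGroup N] [Module S N] [Module R N] [IsScalarTower R S N] [IsAdicComplete I N]
    (M : Type u) [AddCommGroup M] [Module R M]
    (q : Ideal S) [q.IsPrime] (hq : q ∈ FlatCA.ass S (N ⊗[R] M)) :
    q ⊔ I.map (algebraMap R S) ≠ ⊤ := by
  intro htop
  obtain ⟨hqp, z, hz⟩ := hq
  have h1 : (1 : S) ∈ q ⊔ I.map (algebraMap R S) := by rw [htop]; exact Submodule.mem_top
  obtain ⟨f, hf, g, hg, hfg⟩ := Submodule.mem_sup.mp h1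
  let u : N →ₗ[R] N := (LinearMap.lsmul S N g).restrictScalars R
  have hu : ∀ k : ℕ, ∀ n ∈ (I ^ k • ⊤ : Submodule R N), u n ∈ (I ^ (k + 1) • ⊤ : Submodule R N) :=
    fun k n hn => Groth.Agent.H1.S1214aux.map_smul_mem I N g hg k n hn
  have hbij := Groth.Agent.H1.S1214aux.bijective_one_sub I u hu
  have hfu : (LinearMap.lsmul S N f).restrictScalars R = LinearMap.id - u := by
    ext n
    change f • n = n - g • n
    have hf1 : f = 1 - g := eq_sub_of_add_eq hfg
    rw [hf1, sub_smul, one_smul]
  have hfz : f • z = 0 := by
    rw [hz] at hf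
    exact (Submodule.mem_annihilator_span_singleton z f).mp hf
  have h2 : (LinearMap.id - u).rTensor M z = 0 := by
    rw [← hfu, Groth.Agent.H1.S1214aux.rTensor_lsmul, hfz]
  let e : N ≃ₗ[R] N := LinearEquiv.ofBijective (LinearMap.id - u) hbij
  have h3 : (e.rTensor M) z = 0 := h2
  have hz0 : z = 0 := by
    have := congrArg (e.rTensor M).symm h3
    rwa [LinearEquiv.symm_apply_apply, map_zero] at this
  apply hqp.ne_top
  rw [hz, hz0, Submodule.span_zero_singleton, Submodule.annihilator_bot]

end Groth.Agent.S1214
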