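import Groth.Statements.S12160
import Mathlib
import Groth.Agent.H4.ProjSymL5

set_option autoImplicit false
universe u
open CategoryTheory CategoryTheory.Limits AlgebraicGeometry TopologicalSpace Opposite
open scoped HomogeneousIdeal
noncomputable section
open EGA2

namespace Groth.Agent.S12160

/-- Let Y be a quasi-compact scheme, q : X → Y a quasi-compact morphism, L an invertible O_X-module with
𝒮L = ⊕ L^{⊗n} (whose Proj is X), 𝒮 = colim 𝒮^i a filtered colimit of quasi-coherent positively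
graded O_Y-algebras along graded homomorphisms φ_i : 𝒮^i → 𝒮 (colimit taken on sections over affine
opens), ψ♭ = u : 𝒮 → q_*𝒮L a graded q-morphism and ψ_i♭ = u ∘ φ_i; let r = r_{L,ψ} : G(ψ) → Proj(𝒮)
and r_i = r_{L,ψ_i} : G(ψ_i) → Proj(𝒮^i). If all the r_i are dominant then r is dominant; the
converse holds when the φ_i are injective. -/
theorem result {Y X P PL : Scheme.{u}} (q : X ⟶ Y)
    (L : X.Modules) (hL : PicF.IsInvertible L) (hLq : Coh.IsQCoh L)
    (𝒮 : RelProj.QCGrAlg Y) (𝒮L : RelProj.QCGrAlg X) (j : L ⟶ 𝒮L.toModule) (hj : RelProj.IsGrSymAlg L 𝒮L j)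
    (u : RelProj.QGrHom q 𝒮 𝒮L)
    (p : P ⟶ Y) (chart : ∀ (U : Y.Opens) (hU : IsAffineOpen U), (((p ⁻¹ᵁ U : P.Opens) : Scheme.{u}) ≅ Proj (𝒮.deg U hU)))
    (hP : RelProj.IsRelProj 𝒮 p chart)
    (pL : PL ⟶ X) (chartL : ∀ (U : X.Opens) (hU : IsAffineOpen U), (((pL ⁻¹ᵁ U : PL.Opens) : Scheme.{u}) ≅ Proj (𝒮L.deg U hU)))
    (hPL : RelProj.IsRelProj 𝒮L pL chartL)
    [CompactSpace Y] [QuasiCompact q]
    (r : ((RelProj.domQ u pL chartL : PL.Opens) : Scheme.{u}) ⟶ P)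
    (hr : RelProj.IsProjQMapOn u p chart pL chartL (RelProj.domQ u pL chartL) r)
    (Λ : Type u) [Preorder Λ] [IsDirected Λ (· ≤ ·)] [Nonempty Λ]
    (𝒮i : Λ → RelProj.QCGrAlg Y) (φ : ∀ i, (𝒮i i).toQCAlg ⟶ 𝒮.toQCAlg) (hφ : ∀ i, RelProj.IsGradedHom (φ i))
    (t : ∀ i j, i ≤ j → ((𝒮i i).toQCAlg ⟶ (𝒮i j).toQCAlg)) (ht : ∀ i j (h : i ≤ j), RelProj.IsGradedHom (t i j h))
    (hφt : ∀ i j (h : i ≤ j), t i j h ≫ φ j = φ i)
    (hsurj : ∀ (U : Y.Opens), IsAffineOpen U → ∀ x : 𝒮.presheaf.obj (op U),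
      ∃ (i : Λ) (y : (𝒮i i).presheaf.obj (op U)), ((φ i).hom.app (op U)).hom y = x)
    (hker : ∀ (U : Y.Opens), IsAffineOpen U → ∀ (i : Λ) (y : (𝒮i i).presheaf.obj (op U)),
      ((φ i).hom.app (op U)).hom y = 0 → ∃ (j : Λ) (h : i ≤ j), ((t i j h).hom.app (op U)).hom y = 0)
    (ui : ∀ i, RelProj.QGrHom q (𝒮i i) 𝒮L) (hui : ∀ i (U : Y.Opens), (ui i).app U = (φ i).hom.app (op U) ≫ u.app U)
    (Pi : Λ → Scheme.{u}) (pi : ∀ i, Pi i ⟶ Y)
    (charti : ∀ i (U : Y.Opens) (hU : IsAffineOpen U), ((((pi i) ⁻¹ᵁ U : (Pi i).Opens) : Scheme.{u}) ≅ Proj ((𝒮i i).deg U hU)))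
    (hPi : ∀ i, RelProj.IsRelProj (𝒮i i) (pi i) (charti i))
    (ri : ∀ i, ((RelProj.domQ (ui i) pL chartL : PL.Opens) : Scheme.{u}) ⟶ Pi i)
    (hri : ∀ i, RelProj.IsProjQMapOn (ui i) (pi i) (charti i) pL chartL (RelProj.domQ (ui i) pL chartL) (ri i)) :
    ((∀ i, IsDominant (ri i)) → IsDominant r) ∧
      ((∀ i (U : Y.Opens), IsAffineOpen U → Function.Injective ((φ i).hom.app (op U)).hom) →
        IsDominant r → ∀ i, IsDominant (ri i)) := by
  have crit := Groth.Agent.H4.ProjSymL5.isDominant_iff_forall_affine q L hL hLq 𝒮 𝒮L j hj u p chart hP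
    pL chartL hPL r hr
  have criti := fun i => Groth.Agent.H4.ProjSymL5.isDominant_iff_forall_affine q L hL hLq (𝒮i i) 𝒮L j hj
    (ui i) (pi i) (charti i) (hPi i) pL chartL hPL (ri i) (hri i)
  have hcomp : ∀ i (U : Y.Opens) (V : X.Opens) (hVU : V ≤ q ⁻¹ᵁ U)
      (y : (𝒮i i).presheaf.obj (op U)),
      ((ui i).appLE U V hVU).hom y = (u.appLE U V hVU).hom (((φ i).hom.app (op U)).hom y) := by
    intro i U V hVU y
    have h1 : (ui i).appLE U V hVU = (φ i).hom.app (op U) ≫ u.appLE U V hVU := by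
      rw [RelSpec.QHom.appLE_eq, hui, Category.assoc]
      rfl
    rw [h1]
    rfl
  constructor
  · intro hdom
    rw [crit]
    intro U hU n hn s hs hloc
    obtain ⟨i, y, hy⟩ := hsurj U hU s
    have hmap := GradedRingHom.map_directSumDecompose ((𝒮i i).deg U hU) (𝒮.deg U hU)
      (RelProj.gradedHomAt (φ i) (hφ i) U hU) (x := y) (i := n)
    have hyn : ((DirectSum.decompose ((𝒮i i).deg U hU) y n : (𝒮i i).deg U hU n) :
        (𝒮i i).presheaf.obj (op U)) ∈ (𝒮i i).deg U hU n := SetLike.coe_mem _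
    have hφyn : ((φ i).hom.app (op U)).hom
        ((DirectSum.decompose ((𝒮i i).deg U hU) y n : (𝒮i i).deg U hU n) :
          (𝒮i i).presheaf.obj (op U)) = s := by
      have h2 : (RelProj.gradedHomAt (φ i) (hφ i) U hU) y = s := hy
      have h3 : ((φ i).hom.app (op U)).hom
        ((DirectSum.decompose ((𝒮i i).deg U hU) y n : (𝒮i i).deg U hU n) :
          (𝒮i i).presheaf.obj (op U)) =
          ((DirectSum.decompose (𝒮.deg U hU)
            ((RelProj.gradedHomAt (φ i) (hφ i) U hU) y) n : 𝒮.deg U hU n) :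
              𝒮.presheaf.obj (op U)) := hmap
      rw [h3, h2, DirectSum.decompose_of_mem_same (𝒮.deg U hU) hs]
    have h4 := (criti i).mp (hdom i) U hU n hn _ hyn (fun x hx => by
      obtain ⟨V, hV, hVU, hxV, hnil⟩ := hloc x hx
      refine ⟨V, hV, hVU, hxV, ?_⟩
      rw [hcomp, hφyn]
      exact hnil)
    rw [← hφyn]
    exact h4.map _
  · intro hinj hdom i
    rw [criti i]
    intro U hU n hn y hy hloc
    have hs : ((φ i).hom.app (op U)).hom y ∈ 𝒮.deg U hU n := hφ i U hU n y hy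
    have hnil := (crit.mp hdom) U hU n hn _ hs (fun x hx => by
      obtain ⟨V, hV, hVU, hxV, hnil⟩ := hloc x hx
      refine ⟨V, hV, hVU, hxV, ?_⟩
      rw [← hcomp]
      exact hnil)
    obtain ⟨k, hk⟩ := hnil
    refine ⟨k, hinj i U hU ?_⟩
    rw [map_pow, hk, map_zero]

end Groth.Agent.S12160
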