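import Groth.Statements.S12187
import Groth.Agent.Lib.Helper2.BLAlgDesc

set_option autoImplicit false
universe u
open TensorProduct
open EtAlg

namespace Groth.Agent.S12187

/-- Glueing along a glueing pair detects finite morphisms of affine schemes, stated for coordinate
rings. Let (R → R', f) be a glueing pair and φ : A → B a homomorphism of R-algebras with A and B
glueable as R-modules. Then φ is finite exactly when both induced maps A_f → B_f and R' ⊗_R A → R'
⊗_R B are finite. -/
theorem result (R : Type u) [CommRing R] (R' : Type u) [CommRing R'] [Algebra R R'] (f : R)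
    (hRR' : EtGlue.IsGlueingPair R R' f) (A B : Type u) [CommRing A] [Algebra R A] [CommRing B] [Algebra R B]
    (hA : EtGlue.IsGlueable R R' f A) (hB : EtGlue.IsGlueable R R' f B) (φ : A →ₐ[R] B) :
    φ.toRingHom.Finite ↔ (Localization.awayMap φ.toRingHom (algebraMap R A f)).Finite ∧
      (Algebra.TensorProduct.map (AlgHom.id R R') φ).toRingHom.Finite := by
  have hq := hRR'.1
  letI : Algebra A B := φ.toRingHom.toAlgebra
  haveI : IsScalarTower R A B := IsScalarTower.of_algebraMap_eq (fun r => (φ.commutes r).symm)
  have hφ : IsScalarTower.toAlgHom R A B = φ := AlgHom.ext fun _ => rfl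
  constructor
  · intro hfin
    have hfin' : Module.Finite A B := hfin
    refine ⟨RingHom.finite_localizationPreserves.away _ (algebraMap R A f) _ _ hfin, ?_⟩
    rw [← hφ]
    letI := Groth.Agent.H2.BL.tensorAlg R R' A B
    change Module.Finite (R' ⊗[R] A) (R' ⊗[R] B)
    letI := Algebra.TensorProduct.rightAlgebra (R := R) (A := R') (B := A)
    exact Module.Finite.equiv (Groth.Agent.H2.BL.tensorEquiv R R' A B).symm.toLinearEquiv
  · rintro ⟨h1, h3⟩
    rw [← hφ] at h3
    letI := Algebra.TensorProduct.rightAlgebra (R := R) (A := R') (B := A)
    have hq' := Groth.Agent.H2.BL.quotPowBijective_tensor A hq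
    have i1 : Module.Finite (R' ⊗[R] A) ((R' ⊗[R] A) ⊗[A] B) := by
      letI := Groth.Agent.H2.BL.tensorAlg R R' A B
      have h' : Module.Finite (R' ⊗[R] A) (R' ⊗[R] B) := h3
      exact Module.Finite.equiv (Groth.Agent.H2.BL.tensorEquiv R R' A B).toLinearEquiv
    have i4 : Module.Finite (Localization.Away (algebraMap R A f))
        (LocalizedModule (Submonoid.powers (algebraMap R A f)) B) := by
      letI := Groth.Agent.H2.BL.awayAlg A B (algebraMap R A f)
      have h1' : Module.Finite (Localization.Away (algebraMap R A f))
        (Localization.Away (algebraMap A B (algebraMap R A f))) := h1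
      have i3 : Module.Finite (Localization.Away (algebraMap R A f))
          (Localization.Away (algebraMap R A f) ⊗[A] B) :=
        Module.Finite.equiv
          (Groth.Agent.H2.BL.awayTensorEquiv A B (algebraMap R A f)).toLinearEquiv
      exact Module.Finite.equiv
        (LocalizedModule.equivTensorProduct (Submonoid.powers (algebraMap R A f)) B).symm
    exact Groth.Agent.H2.BL.finite_of_finite B hq'

end Groth.Agent.S12187
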