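import Groth.Statements.S12188
import Groth.Agent.Lib.Helper2.BLAlgDesc

set_option autoImplicit false
universe u
open TensorProduct
open EtAlg

namespace Groth.Agent.S12188

/-- Glueing along a glueing pair detects flat morphisms of affine schemes, stated for coordinate rings.
Let (R → R', f) be a glueing pair and φ : A → B a homomorphism of R-algebras with A and B glueable
as R-modules. Then φ is flat exactly when both induced maps A_f → B_f and R' ⊗_R A → R' ⊗_R B are
flat. -/
theorem result (R : Type u) [CommRing R] (R' : Type u) [CommRing R'] [Algebra R R'] (f : R)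
    (hRR' : EtGlue.IsGlueingPair R R' f) (A B : Type u) [CommRing A] [Algebra R A] [CommRing B] [Algebra R B]
    (hA : EtGlue.IsGlueable R R' f A) (hB : EtGlue.IsGlueable R R' f B) (φ : A →ₐ[R] B) :
    φ.toRingHom.Flat ↔ (Localization.awayMap φ.toRingHom (algebraMap R A f)).Flat ∧
      (Algebra.TensorProduct.map (AlgHom.id R R') φ).toRingHom.Flat := by
  have hq := hRR'.1
  letI : Algebra A B := φ.toRingHom.toAlgebra
  haveI : IsScalarTower R A B := IsScalarTower.of_algebraMap_eq (fun r => (φ.commutes r).symm)
  have hφ : IsScalarTower.toAlgHom R A B = φ := AlgHom.ext fun _ => rfl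
  constructor
  · intro hfl
    have hfl' : Module.Flat A B := hfl
    refine ⟨RingHom.Flat.isStableUnderBaseChange.localizationPreserves.away _
      (algebraMap R A f) _ _ hfl, ?_⟩
    rw [← hφ]; exact Groth.Agent.H2.BL.ringHom_flat_of_flat
  · rintro ⟨h1, h3⟩
    rw [← hφ] at h3
    letI := Algebra.TensorProduct.rightAlgebra (R := R) (A := R') (B := A)
    have hGP := Groth.Agent.H2.BL.isGlueingPair_tensor A hq hA
    have i1 := Groth.Agent.H2.BL.flat_tensor_of_ringHom_flat h3
    letI := Groth.Agent.H2.BL.awayAlg A B (algebraMap R A f)
    have h1' : Module.Flat (Localization.Away (algebraMap R A f))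
      (Localization.Away (algebraMap A B (algebraMap R A f))) := h1
    have i3 : Module.Flat (Localization.Away (algebraMap R A f))
        (Localization.Away (algebraMap R A f) ⊗[A] B) :=
      Module.Flat.of_linearEquiv
        (Groth.Agent.H2.BL.awayTensorEquiv A B (algebraMap R A f)).symm.toLinearEquiv
    have i4 : Module.Flat (Localization.Away (algebraMap R A f))
        (LocalizedModule (Submonoid.powers (algebraMap R A f)) B) :=
      Module.Flat.of_linearEquiv
        (LocalizedModule.equivTensorProduct (Submonoid.powers (algebraMap R A f)) B)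
    exact Groth.Agent.H2.BL.flat_of_flat hGP B

end Groth.Agent.S12188
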