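import Groth.Statements.S12205
import Mathlib
import Groth.Agent.H4.TorLES
import Groth.Agent.H4.TorFlat

set_option autoImplicit false
universe u
open CategoryTheory
open scoped TensorProduct
open CAlg

namespace Groth.Agent.S12205

open CategoryTheory CategoryTheory.Limits TensorProduct

open Groth.Agent.H4.TorLES Groth.Agent.H4.TorFlat

theorem shortExact_of {R : Type u} [CommRing R] {M₁ M₂ M₃ : Type u} [AddCommGroup M₁] [AddCommGroup M₂]
    [AddCommGroup M₃] [Module R M₁] [Module R M₂] [Module R M₃] (a : M₁ →ₗ[R] M₂) (b : M₂ →ₗ[R] M₃)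
    (hinj : Function.Injective a) (hex : Function.Exact a b) (hsurj : Function.Surjective b) :
    (ShortComplex.mk (ModuleCat.ofHom a) (ModuleCat.ofHom b) (by
      ext x; exact hex.apply_apply_eq_zero x)).ShortExact where
  exact := (ShortComplex.ShortExact.moduleCat_exact_iff_function_exact _).2 hex
  mono_f := (ModuleCat.mono_iff_injective _).2 hinj
  epi_g := (ModuleCat.epi_iff_surjective _).2 hsurj

/-- degree one exactness of the Tor complex as a statement about linear maps -/
theorem isZero_homology_one_iff {R : Type u} [CommRing R] (N M : Type u) [AddCommGroup N] [Module R N]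
    [AddCommGroup M] [Module R M] :
    IsZero ((torCx (ModuleCat.of R N) (ModuleCat.of R M)).homology 1) ↔
      Function.Exact
        (LinearMap.lTensor N ((projectiveResolution (ModuleCat.of R M)).complex.d 2 1).hom)
        (LinearMap.lTensor N ((projectiveResolution (ModuleCat.of R M)).complex.d 1 0).hom) := by
  rw [← HomologicalComplex.exactAt_iff_isZero_homology]
  rw [HomologicalComplex.exactAt_iff' _ 2 1 0 (by simp only [ChainComplex.prev]; rfl) (by simp)]
  rw [ShortComplex.ShortExact.moduleCat_exact_iff_function_exact]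
  rfl


/-- Step A: `N` killed by `I`. -/
theorem tor1_of_killed (R : Type u) [CommRing R] (I : Ideal R) (M : Type u)
    [AddCommGroup M] [Module R M] [Module.Flat (R ⧸ I) ((R ⧸ I) ⊗[R] M)]
    (h : Limits.IsZero (((CategoryTheory.Tor (ModuleCat.{u} R) 1).obj (ModuleCat.of R (R ⧸ I))).obj (ModuleCat.of R M)))
    (N : Type u) [AddCommGroup N] [Module R N] (hN : ∀ a : R, a ∈ I → ∀ x : N, a • x = 0) :
    IsZero ((torCx (ModuleCat.of R N) (ModuleCat.of R M)).homology 1) := by
  rw [isZero_homology_one_iff]
  rw [isZero_Tor_iff, isZero_homology_one_iff] at h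
  let P := projectiveResolution (ModuleCat.of R M)
  let ε : P.complex.X 0 →ₗ[R] M := (P.π.f 0).hom
  have h₀ : Function.Exact (P.complex.d 1 0).hom ε := by
    have hex : (ShortComplex.mk (P.complex.d 1 0) (P.π.f 0) P.complex_d_comp_π_f_zero).Exact :=
      ShortComplex.exact_of_g_is_cokernel _ P.isColimitCokernelCofork
    exact (ShortComplex.ShortExact.moduleCat_exact_iff_function_exact _).1 hex
  have hε : Function.Surjective ε := (ModuleCat.epi_iff_surjective (P.π.f 0)).1 inferInstance
  have htors : Module.IsTorsionBySet R N (I : Set R) := by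
    intro x a
    exact hN a.1 a.2 x
  letI : Module (R ⧸ I) N := htors.module
  haveI : IsScalarTower R (R ⧸ I) N := htors.isScalarTower
  exact exact_lTensor_of_baseChange (A := R ⧸ I) _ _ ε h h₀ hε N

/-- Let I be an ideal of a commutative ring R and M an R-module such that M/IM is flat over R/I and
Tor_1^R(R/I, M) = 0. Then Tor_1^R(N, M) = 0 for every R-module N annihilated by I^m for some m ≥ 0.
Here Tor_1^R(N, M) is the first left derived functor of N ⊗_R − evaluated at M. -/
theorem result (R : Type u) [CommRing R] (I : Ideal R) (M : Type u)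
    [AddCommGroup M] [Module R M] [Module.Flat (R ⧸ I) ((R ⧸ I) ⊗[R] M)]
    (h : Limits.IsZero (((CategoryTheory.Tor (ModuleCat.{u} R) 1).obj (ModuleCat.of R (R ⧸ I))).obj (ModuleCat.of R M)))
    (N : Type u) [AddCommGroup N] [Module R N] (m : ℕ) (hN : ∀ a : R, a ∈ I ^ m → ∀ x : N, a • x = 0) :
    Limits.IsZero (((CategoryTheory.Tor (ModuleCat.{u} R) 1).obj (ModuleCat.of R N)).obj (ModuleCat.of R M)) := by
  rw [isZero_Tor_iff]
  induction m generalizing N with
  | zero =>
    haveI : Subsingleton N := ⟨fun x y => by
      have hx := hN 1 (by simp) x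
      have hy := hN 1 (by simp) y
      rw [one_smul] at hx hy
      rw [hx, hy]⟩
    exact isZero_of_flat _ _ 0
  | succ m ih =>
    let N₀ : Submodule R N := I • ⊤
    have hT := shortExact_of (R := R) N₀.subtype N₀.mkQ N₀.subtype_injective
      (by
        intro x
        rw [Submodule.mkQ_apply, Submodule.Quotient.mk_eq_zero]
        constructor
        · intro hx; exact ⟨⟨x, hx⟩, rfl⟩
        · rintro ⟨y, rfl⟩; exact y.2) N₀.mkQ_surjective
    refine isZero_mid _ hT (ModuleCat.of R M) 1 ?_ ?_
    · apply ih
      rintro a ha ⟨x, hx⟩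
      apply Subtype.ext
      change a • x = 0
      refine Submodule.smul_induction_on hx ?_ ?_
      · intro r hr n _
        rw [smul_smul]
        apply hN
        rw [pow_succ]
        exact Ideal.mul_mem_mul ha hr
      · intro x y hx hy
        rw [smul_add, hx, hy, add_zero]
    · apply tor1_of_killed R I M h
      intro a ha x
      obtain ⟨x, rfl⟩ := N₀.mkQ_surjective x
      rw [← map_smul, Submodule.mkQ_apply, Submodule.Quotient.mk_eq_zero]
      exact Submodule.smul_mem_smul ha Submodule.mem_top


end Groth.Agent.S12205
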