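import Groth.Statements.S12209
import Mathlib

set_option autoImplicit false
universe u
open CAlg

namespace Groth.Agent.S12209

/-- Let (R_i) be a system of commutative rings over a nonempty directed preorder, with colimit R, and
let M be an R-module which is flat as an R_i-module for every i (the R_i-module structure being
restriction of scalars along R_i → R). Then M is flat as an R-module. -/
theorem result {ι : Type u} [Preorder ι] [Nonempty ι] [IsDirectedOrder ι]
    (G : ι → Type u) [∀ i, CommRing (G i)] (f : ∀ i j, i ≤ j → G i →+* G j)
    [DirectedSystem G fun i j h => f i j h]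
    (M : Type u) [AddCommGroup M] [Module (Ring.DirectLimit G fun i j h => f i j h) M]
    (hflat : ∀ i, letI : Module (G i) M := Module.compHom M (Ring.DirectLimit.of G (fun i j h => f i j h) i);
      Module.Flat (G i) M) :
    Module.Flat (Ring.DirectLimit G fun i j h => f i j h) M := by
  classical
  rw [Module.Flat.iff_forall_isTrivialRelation]
  intro l r x hrx
  -- a common index for the finitely many coefficients
  have hex : ∀ t : Fin l, ∃ i, ∃ s : G i, Ring.DirectLimit.of G (fun i j h => f i j h) i s = r t :=
    fun t => Ring.DirectLimit.exists_of (r t)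
  choose idx s hs using hex
  obtain ⟨i0, hi0⟩ := Finset.exists_le (Finset.univ.image idx)
  have hi0' : ∀ t, idx t ≤ i0 := fun t => hi0 _ (Finset.mem_image_of_mem _ (Finset.mem_univ t))
  let s0 : Fin l → G i0 := fun t => f (idx t) i0 (hi0' t) (s t)
  have hs0 : ∀ t, Ring.DirectLimit.of G (fun i j h => f i j h) i0 (s0 t) = r t := by
    intro t
    simp only [s0]
    rw [Ring.DirectLimit.of_f, hs]
  letI : Module (G i0) M := Module.compHom M (Ring.DirectLimit.of G (fun i j h => f i j h) i0)
  have hfl : Module.Flat (G i0) M := hflat i0
  rw [Module.Flat.iff_forall_isTrivialRelation] at hfl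
  have hsm : ∀ (c : G i0) (m : M),
      c • m = (Ring.DirectLimit.of G (fun i j h => f i j h) i0 c) • m := fun c m => rfl
  have hrel : ∑ t, s0 t • x t = 0 := by
    rw [← hrx]
    refine Finset.sum_congr rfl fun t _ => ?_
    rw [hsm, hs0]
  obtain ⟨k, a, y, hxy, hsa⟩ := hfl hrel
  refine ⟨k, fun t j => Ring.DirectLimit.of G (fun i j h => f i j h) i0 (a t j), y, ?_, ?_⟩
  · intro t
    rw [hxy t]
    refine Finset.sum_congr rfl fun j _ => ?_
    rw [hsm]
  · intro j
    have := congrArg (Ring.DirectLimit.of G (fun i j h => f i j h) i0) (hsa j)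
    rw [map_sum, map_zero] at this
    rw [← this]
    refine Finset.sum_congr rfl fun t _ => ?_
    rw [map_mul, hs0]

end Groth.Agent.S12209
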