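import Groth.Statements.S12211
import Mathlib
import Groth.Agent.Lib.Helper1.HS6

set_option autoImplicit false
universe u
open IntMult

namespace Groth.Agent.S12211

open Filter Groth.Agent.Lib.Helper1.HS in
/-- The squeeze argument. -/
theorem tendsto_of_sandwich (d : ℕ) (a b c : ℕ → ℕ) (c₀ : ℕ)
    (h1 : ∀ t, b (t + c₀) + a t ≤ c (t + c₀)) (h2 : ∀ t, c t ≤ b t + a t) (e' e'' : ℝ)
    (ha : Tendsto (fun t : ℕ => (d.factorial : ℝ) * (a t : ℝ) / (t : ℝ) ^ d) atTop (nhds e'))
    (hb : Tendsto (fun t : ℕ => (d.factorial : ℝ) * (b t : ℝ) / (t : ℝ) ^ d) atTop (nhds e'')) :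
    Tendsto (fun t : ℕ => (d.factorial : ℝ) * (c t : ℝ) / (t : ℝ) ^ d) atTop (nhds (e' + e'')) := by
  rw [← tendsto_add_atTop_iff_nat c₀]
  have hb' := (tendsto_add_atTop_iff_nat c₀).mpr hb
  have ha' := (tendsto_add_atTop_iff_nat c₀).mpr ha
  have hratio : Tendsto (fun t : ℕ => ((t : ℝ) / ((t : ℝ) + (c₀ : ℝ))) ^ d) atTop (nhds 1) := by
    have := (tendsto_natCast_div_add_atTop (c₀ : ℝ)).pow d
    simpa using this
  have hlow : Tendsto (fun t : ℕ => (d.factorial : ℝ) * (b (t + c₀) : ℝ) / ((t + c₀ : ℕ) : ℝ) ^ d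
      + ((d.factorial : ℝ) * (a t : ℝ) / (t : ℝ) ^ d) * ((t : ℝ) / ((t : ℝ) + (c₀ : ℝ))) ^ d)
      atTop (nhds (e' + e'')) := by
    have := hb'.add (ha.mul hratio)
    rw [mul_one, add_comm e'' e'] at this
    exact this
  have hupp : Tendsto (fun t : ℕ => (d.factorial : ℝ) * (a (t + c₀) : ℝ) / ((t + c₀ : ℕ) : ℝ) ^ d
      + (d.factorial : ℝ) * (b (t + c₀) : ℝ) / ((t + c₀ : ℕ) : ℝ) ^ d)
      atTop (nhds (e' + e'')) := ha'.add hb'
  refine tendsto_of_tendsto_of_tendsto_of_le_of_le' hlow hupp ?_ ?_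
  · filter_upwards [eventually_gt_atTop 0] with t ht
    have htpos : (0 : ℝ) < (t : ℝ) := by exact_mod_cast ht
    have htc : (0 : ℝ) < ((t + c₀ : ℕ) : ℝ) := by positivity
    have hcast : ((t + c₀ : ℕ) : ℝ) = (t : ℝ) + (c₀ : ℝ) := by push_cast; ring
    have e1 : ((d.factorial : ℝ) * (a t : ℝ) / (t : ℝ) ^ d) * ((t : ℝ) / ((t : ℝ) + (c₀ : ℝ))) ^ d
        = (d.factorial : ℝ) * (a t : ℝ) / ((t + c₀ : ℕ) : ℝ) ^ d := by
      rw [hcast, div_pow]
      field_simp
    rw [e1, ← add_div, ← mul_add]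
    apply div_le_div_of_nonneg_right _ (by positivity)
    apply mul_le_mul_of_nonneg_left _ (by positivity)
    exact_mod_cast h1 t
  · filter_upwards with t
    rw [← add_div, ← mul_add]
    apply div_le_div_of_nonneg_right _ (by positivity)
    apply mul_le_mul_of_nonneg_left _ (by positivity)
    have := h2 (t + c₀)
    rw [add_comm (b _)] at this
    exact_mod_cast this

/-- Suppose A is a local Noetherian ring and I ⊆ A is an ideal of definition. Given a short exact
sequence 0 → M' → M → M'' → 0 of finite A-modules and a number d with dim Supp(M) ≤ d, we have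
e_I(M, d) = e_I(M', d) + e_I(M'', d), where e_I(N, d) denotes the limit as t → ∞ of d! ·
length_A(N/I^t N)/t^d. Concretely: whenever these limits for M' and M'' exist and equal e' and e'',
the corresponding limit for M exists and equals e' + e''. -/
theorem result (A : Type u) [CommRing A] [IsNoetherianRing A] [IsLocalRing A]
    (I : Ideal A) (hI : I ≤ IsLocalRing.maximalIdeal A ∧ ∃ n : ℕ, IsLocalRing.maximalIdeal A ^ n ≤ I)
    {M' M M'' : Type u} [AddCommGroup M'] [Module A M'] [AddCommGroup M] [Module A M]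
    [AddCommGroup M''] [Module A M''] [Module.Finite A M'] [Module.Finite A M] [Module.Finite A M'']
    (f : M' →ₗ[A] M) (g : M →ₗ[A] M'') (hf : Function.Injective f) (hg : Function.Surjective g)
    (hfg : LinearMap.range f = LinearMap.ker g)
    (d : ℕ) (hd : Module.supportDim A M ≤ d) (e' e'' : ℝ)
    (h' : Filter.Tendsto (fun t : ℕ => (d.factorial : ℝ) * ((Module.length A (M' ⧸ (I ^ t • (⊤ : Submodule A M')))).toNat : ℝ) / (t : ℝ) ^ d) Filter.atTop (nhds e'))
    (h'' : Filter.Tendsto (fun t : ℕ => (d.factorial : ℝ) * ((Module.length A (M'' ⧸ (I ^ t • (⊤ : Submodule A M'')))).toNat : ℝ) / (t : ℝ) ^ d) Filter.atTop (nhds e'')) :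
    Filter.Tendsto (fun t : ℕ => (d.factorial : ℝ) * ((Module.length A (M ⧸ (I ^ t • (⊤ : Submodule A M)))).toNat : ℝ) / (t : ℝ) ^ d) Filter.atTop (nhds (e' + e'')) := by
  have hAI := Groth.Agent.Lib.Helper1.HS.isFiniteLength_quotient_of_pow_le I hI.2
  have hfin := fun (N : Type u) [AddCommGroup N] [Module A N] [Module.Finite A N] =>
    Groth.Agent.Lib.Helper1.HS.isFiniteLength_quotient_pow
      (Groth.Agent.Lib.Helper1.HS.isFiniteLength_quotient_smul_top hAI N)
  obtain ⟨c₀, hc₀⟩ := Groth.Agent.Lib.Helper1.HS.exists_chi_exact (I := I) f g hf hg hfg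
    (hfin M) (hfin M') (hfin M'')
  exact tendsto_of_sandwich d (Groth.Agent.Lib.Helper1.HS.chi I M')
    (Groth.Agent.Lib.Helper1.HS.chi I M'') (Groth.Agent.Lib.Helper1.HS.chi I M) c₀
    (fun t => (hc₀ t).1) (fun t => (hc₀ t).2) e' e'' h' h''

end Groth.Agent.S12211
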