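import Groth.Statements.S12212
import Mathlib
import Groth.Agent.Lib.Helper1.HS8
import Groth.Agent.S12211

set_option autoImplicit false
universe u
open IntMult

namespace Groth.Agent.S12212

open Filter Groth.Agent.Lib.Helper1.HS Polynomial

local notation "χ" => Groth.Agent.Lib.Helper1.HS.chi

section

variable {A : Type u} [CommRing A] [IsNoetherianRing A] [IsLocalRing A] (d : ℕ)
  (e : PrimeSpectrum A → ℝ)

/-- The local-length weights. -/
noncomputable def G (N : Type u) [AddCommGroup N] [Module A N] (p : PrimeSpectrum A) : ℝ :=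
  open Classical in
  if ringKrullDim (A ⧸ p.asIdeal) = d then
    ((Module.length (Localization.AtPrime p.asIdeal)
      (LocalizedModule p.asIdeal.primeCompl N)).toNat : ℝ) * e p
  else 0

omit [IsNoetherianRing A] [IsLocalRing A] in
theorem finsum_eq_G (N : Type u) [AddCommGroup N] [Module A N] :
    (∑ᶠ (p : PrimeSpectrum A) (_ : ringKrullDim (A ⧸ p.asIdeal) = d),
      ((Module.length (Localization.AtPrime p.asIdeal)
        (LocalizedModule p.asIdeal.primeCompl N)).toNat : ℝ) * e p) = ∑ᶠ p, G d e N p := by
  classical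
  refine finsum_congr fun p => ?_
  rw [finsum_eq_if, G]

omit [IsLocalRing A] in
/-- Primes of coheight `d` below which the support has nothing else. -/
theorem eq_of_le_of_supportDim_le (N : Type u) [AddCommGroup N] [Module A N] [Module.Finite A N]
    (hN : Module.supportDim A N ≤ d) (p : PrimeSpectrum A)
    (hp : ringKrullDim (A ⧸ p.asIdeal) = d) (q : PrimeSpectrum A) (hq : q ∈ Module.support A N)
    (hqp : q.asIdeal ≤ p.asIdeal) : q.asIdeal = p.asIdeal := by
  by_contra hne
  have hlt : q.asIdeal < p.asIdeal := lt_of_le_of_ne hqp hne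
  have h1 := ringKrullDim_quotient_succ_le_of_lt q.asIdeal p.asIdeal hlt
  have h2 := Groth.Agent.H6.CM.ringKrullDim_quotient_le_supportDim N q.asIdeal
    (Module.mem_support_iff_of_finite.mp hq)
  rw [hp] at h1
  have h3 : ((d : WithBot ℕ∞) + 1) ≤ d := h1.trans (h2.trans hN)
  have h4 : ((d + 1 : ℕ) : WithBot ℕ∞) ≤ (d : ℕ) := by exact_mod_cast h3
  have h5 : d + 1 ≤ d := by exact_mod_cast h4
  omega

omit [IsLocalRing A] in
theorem length_ne_top (N : Type u) [AddCommGroup N] [Module A N] [Module.Finite A N]
    (hN : Module.supportDim A N ≤ d) (p : PrimeSpectrum A)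
    (hp : ringKrullDim (A ⧸ p.asIdeal) = d) :
    Module.length (Localization.AtPrime p.asIdeal) (LocalizedModule p.asIdeal.primeCompl N) ≠ ⊤ :=
  Module.length_ne_top_iff.mpr (isFiniteLength_localizedModule N p.asIdeal
    (fun q hq hqp => eq_of_le_of_supportDim_le d N hN p hp q hq hqp))

omit [IsLocalRing A] in
theorem finite_support_G (N : Type u) [AddCommGroup N] [Module A N] [Module.Finite A N]
    (hN : Module.supportDim A N ≤ d) : (Function.support (G d e N)).Finite := by
  classical
  have hfin := (Module.annihilator A N).finite_minimalPrimes_of_isNoetherianRing A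
  refine (hfin.preimage (f := fun p : PrimeSpectrum A => p.asIdeal)
    (fun a _ b _ hab => PrimeSpectrum.ext hab)).subset ?_
  intro p hp
  rw [Function.mem_support, G] at hp
  split_ifs at hp with hc
  · have hne : Module.length (Localization.AtPrime p.asIdeal)
        (LocalizedModule p.asIdeal.primeCompl N) ≠ 0 := by
      intro h0
      rw [h0] at hp
      simp at hp
    rw [Ne, Module.length_eq_zero_iff, not_subsingleton_iff_nontrivial] at hne
    have hps : p ∈ Module.support A N := Module.mem_support_iff.mpr hne
    refine ⟨⟨p.2, Module.mem_support_iff_of_finite.mp hps⟩, ?_⟩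
    intro q ⟨hq1, hq2⟩ hqp
    have := eq_of_le_of_supportDim_le d N hN p hc ⟨q, hq1⟩
      (Module.mem_support_iff_of_finite.mpr hq2) hqp
    exact this.ge
  · exact absurd rfl hp

omit [IsNoetherianRing A] [IsLocalRing A] in
theorem chi_congr (I : Ideal A) {N N' : Type u} [AddCommGroup N] [Module A N] [AddCommGroup N']
    [Module A N'] (f : N ≃ₗ[A] N') (t : ℕ) : χ I N t = χ I N' t := by
  unfold Groth.Agent.Lib.Helper1.HS.chi
  congr 1
  refine (Submodule.Quotient.equiv _ _ f ?_).length_eq
  rw [Submodule.map_smul'', Submodule.map_top, LinearEquiv.range]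

omit [IsNoetherianRing A] [IsLocalRing A] in
theorem G_congr {N N' : Type u} [AddCommGroup N] [Module A N] [AddCommGroup N']
    [Module A N'] (f : N ≃ₗ[A] N') (p : PrimeSpectrum A) : G d e N p = G d e N' p := by
  have : Module.length (Localization.AtPrime p.asIdeal) (LocalizedModule p.asIdeal.primeCompl N)
      = Module.length (Localization.AtPrime p.asIdeal)
        (LocalizedModule p.asIdeal.primeCompl N') := by
    apply le_antisymm
    · exact Module.length_le_of_injective (LocalizedModule.map p.asIdeal.primeCompl f.toLinearMap)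
        (LocalizedModule.map_injective _ _ f.injective)
    · exact Module.length_le_of_injective
        (LocalizedModule.map p.asIdeal.primeCompl f.symm.toLinearMap)
        (LocalizedModule.map_injective _ _ f.symm.injective)
  unfold G
  rw [this]

omit [IsNoetherianRing A] [IsLocalRing A] in
theorem G_subsingleton (N : Type u) [AddCommGroup N] [Module A N] [Subsingleton N]
    (p : PrimeSpectrum A) : G d e N p = 0 := by
  have : Subsingleton (LocalizedModule p.asIdeal.primeCompl N) := by
    constructor
    intro a b
    induction a using LocalizedModule.induction_on with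
    | h m s =>
      induction b using LocalizedModule.induction_on with
      | h m' s' =>
        rw [Subsingleton.elim m 0, Subsingleton.elim m' 0, LocalizedModule.zero_mk,
          LocalizedModule.zero_mk]
  unfold G
  rw [Module.length_eq_zero_iff.mpr this]
  simp

omit [IsNoetherianRing A] [IsLocalRing A] in
theorem chi_subsingleton (I : Ideal A) (N : Type u) [AddCommGroup N] [Module A N] [Subsingleton N]
    (t : ℕ) : χ I N t = 0 := by
  unfold Groth.Agent.Lib.Helper1.HS.chi
  rw [Module.length_eq_zero_iff.mpr inferInstance]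
  rfl

omit [IsLocalRing A] in
theorem G_add {N₁ N₂ N₃ : Type u} [AddCommGroup N₁] [Module A N₁] [Module.Finite A N₁]
    [AddCommGroup N₂] [Module A N₂] [Module.Finite A N₂] [AddCommGroup N₃] [Module A N₃]
    [Module.Finite A N₃]
    (f : N₁ →ₗ[A] N₂) (g : N₂ →ₗ[A] N₃) (hf : Function.Injective f) (hg : Function.Surjective g)
    (hfg : Function.Exact f g) (hN : Module.supportDim A N₂ ≤ d) (p : PrimeSpectrum A) :
    G d e N₂ p = G d e N₁ p + G d e N₃ p := by
  unfold G
  split_ifs with hc
  · have h2 := length_ne_top d N₂ hN p hc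
    have h1 := length_ne_top d N₁ ((Module.supportDim_le_of_injective f hf).trans hN) p hc
    have h3 := length_ne_top d N₃ ((Module.supportDim_le_of_surjective g hg).trans hN) p hc
    have hadd := length_localizedModule_of_exact f g hf hg hfg p.asIdeal.primeCompl
    have : (Module.length (Localization.AtPrime p.asIdeal)
        (LocalizedModule p.asIdeal.primeCompl N₂)).toNat =
        (Module.length (Localization.AtPrime p.asIdeal)
          (LocalizedModule p.asIdeal.primeCompl N₁)).toNat +
        (Module.length (Localization.AtPrime p.asIdeal)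
          (LocalizedModule p.asIdeal.primeCompl N₃)).toNat := by
      rw [← ENat.toNat_add h1 h3]
      exact congrArg ENat.toNat hadd
    rw [this]
    push_cast
    ring
  · simp

omit [IsLocalRing A] in
/-- The weights of `A/q` when `dim A/q = d`. -/
theorem G_quotient_of_eq (q : PrimeSpectrum A) (hq : ringKrullDim (A ⧸ q.asIdeal) = d)
    (p : PrimeSpectrum A) (hpq : p ≠ q) : G d e (A ⧸ q.asIdeal) p = 0 := by
  unfold G
  split_ifs with hc
  · by_cases hle : q.asIdeal ≤ p.asIdeal
    · exfalso
      have hlt : q.asIdeal < p.asIdeal :=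
        lt_of_le_of_ne hle (fun h => hpq (PrimeSpectrum.ext h.symm))
      have h1 := ringKrullDim_quotient_succ_le_of_lt q.asIdeal p.asIdeal hlt
      rw [hc, hq] at h1
      have h4 : ((d + 1 : ℕ) : WithBot ℕ∞) ≤ (d : ℕ) := by exact_mod_cast h1
      have h5 : d + 1 ≤ d := by exact_mod_cast h4
      omega
    · have := subsingleton_localizedModule_quotient q.asIdeal p.asIdeal hle
      rw [Module.length_eq_zero_iff.mpr this]
      simp
  · rfl

omit [IsNoetherianRing A] [IsLocalRing A] in
theorem G_quotient_self (q : PrimeSpectrum A) (hq : ringKrullDim (A ⧸ q.asIdeal) = d) :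
    G d e (A ⧸ q.asIdeal) q = e q := by
  unfold G
  rw [if_pos hq, length_localizedModule_quotient_self]
  simp

omit [IsNoetherianRing A] [IsLocalRing A] in
/-- The weights of `A/q` when `dim A/q < d`. -/
theorem G_quotient_of_lt (q : PrimeSpectrum A) (hq : ringKrullDim (A ⧸ q.asIdeal) < d)
    (p : PrimeSpectrum A) : G d e (A ⧸ q.asIdeal) p = 0 := by
  unfold G
  split_ifs with hc
  · by_cases hle : q.asIdeal ≤ p.asIdeal
    · exfalso
      have h1 : ringKrullDim (A ⧸ p.asIdeal) ≤ ringKrullDim (A ⧸ q.asIdeal) :=
        ringKrullDim_le_of_surjective (Ideal.Quotient.factor hle)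
          (Ideal.Quotient.factor_surjective hle)
      rw [hc] at h1
      exact absurd (lt_of_le_of_lt h1 hq) (lt_irrefl _)
    · have := subsingleton_localizedModule_quotient q.asIdeal p.asIdeal hle
      rw [Module.length_eq_zero_iff.mpr this]
      simp
  · rfl

theorem main (I : Ideal A)
    (hI : I ≤ IsLocalRing.maximalIdeal A ∧ ∃ n : ℕ, IsLocalRing.maximalIdeal A ^ n ≤ I)
    (he : ∀ p : PrimeSpectrum A, ringKrullDim (A ⧸ p.asIdeal) = d →
      Tendsto (fun t : ℕ => (d.factorial : ℝ) * (χ I (A ⧸ p.asIdeal) t : ℝ) / (t : ℝ) ^ d)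
        atTop (nhds (e p)))
    (M : Type u) [AddCommGroup M] [Module A M] [hM : Module.Finite A M] :
    Module.supportDim A M ≤ d →
      Tendsto (fun t : ℕ => (d.factorial : ℝ) * (χ I M t : ℝ) / (t : ℝ) ^ d) atTop
        (nhds (∑ᶠ p, G d e M p)) := by
  have hAI := isFiniteLength_quotient_of_pow_le I hI.2
  have hfin := fun (N : Type u) [AddCommGroup N] [Module A N] [Module.Finite A N] =>
    isFiniteLength_quotient_pow (isFiniteLength_quotient_smul_top hAI N)
  induction hM using IsNoetherianRing.induction_on_isQuotientEquivQuotientPrime A with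
  | subsingleton N =>
    intro _
    simp_rw [G_subsingleton, chi_subsingleton]
    simp
  | quotient N q f =>
    intro hN
    simp_rw [chi_congr I f, G_congr d e f]
    have hdim : ringKrullDim (A ⧸ q.asIdeal) ≤ d := by
      rw [← Module.supportDim_quotient_eq_ringKrullDim, ← Module.supportDim_eq_of_equiv f]
      exact hN
    rcases hdim.lt_or_eq with hlt | heq
    · simp_rw [G_quotient_of_lt d e q hlt]
      rw [finsum_zero]
      have hnt : Nontrivial (A ⧸ q.asIdeal) := Ideal.Quotient.nontrivial_iff.mpr q.2.ne_top
      have hdeg := natDegree_hsPoly_of_local I hI (A ⧸ q.asIdeal)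
      rw [Module.supportDim_quotient_eq_ringKrullDim] at hdeg
      have hdeglt : (hsPoly I (A ⧸ q.asIdeal)).natDegree < d := by
        rw [← hdeg] at hlt
        exact_mod_cast hlt
      have := tendsto_chi (isHSPoly_hsPoly (isFiniteLength_quotient_smul_top hAI (A ⧸ q.asIdeal)))
        d hdeglt.le
      rw [coeff_eq_zero_of_natDegree_lt hdeglt] at this
      simpa using this
    · rw [finsum_eq_single _ q (fun p hp => G_quotient_of_eq d e q heq p hp),
        G_quotient_self d e q heq]
      exact he q heq
  | exact N₁ N₂ N₃ f g hf hg hfg h₁ h₃ =>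
    intro hN
    have hN₁ := (Module.supportDim_le_of_injective f hf).trans hN
    have hN₃ := (Module.supportDim_le_of_surjective g hg).trans hN
    have hsum : ∑ᶠ p, G d e N₂ p = ∑ᶠ p, G d e N₁ p + ∑ᶠ p, G d e N₃ p := by
      rw [← finsum_add_distrib (finite_support_G d e N₁ hN₁) (finite_support_G d e N₃ hN₃)]
      exact finsum_congr fun p => G_add d e f g hf hg hfg hN p
    rw [hsum]
    obtain ⟨c₀, hc₀⟩ := exists_chi_exact (I := I) f g hf hg
      ((LinearMap.exact_iff.mp hfg).symm) (hfin N₂) (hfin N₁) (hfin N₃)
    exact Groth.Agent.S12211.tendsto_of_sandwich d (χ I N₁) (χ I N₃) (χ I N₂) c₀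
      (fun t => (hc₀ t).1) (fun t => (hc₀ t).2) _ _ (h₁ hN₁) (h₃ hN₃)

end

/-- Suppose A is a local Noetherian ring with an ideal of definition I, take M to be a finite A-module,
and fix d with dim Supp(M) ≤ d. Then e_I(M, d) equals Σ_p length_{A_p}(M_p) · e_I(A/p, d), where p
ranges over the primes satisfying dim(A/p) = d (all but finitely many summands vanish); here e_I(N,
d) denotes the limit of d! · length_A(N/I^t N)/t^d, and the formal version says: assuming these
limits e_p exist for the A-modules A/p, the limit attached to M is the sum shown. -/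
theorem result (A : Type u) [CommRing A] [IsNoetherianRing A] [IsLocalRing A]
    (I : Ideal A) (hI : I ≤ IsLocalRing.maximalIdeal A ∧ ∃ n : ℕ, IsLocalRing.maximalIdeal A ^ n ≤ I)
    (M : Type u) [AddCommGroup M] [Module A M] [Module.Finite A M]
    (d : ℕ) (hd : Module.supportDim A M ≤ d) (e : PrimeSpectrum A → ℝ)
    (he : ∀ p : PrimeSpectrum A, ringKrullDim (A ⧸ p.asIdeal) = d →
      Filter.Tendsto (fun t : ℕ => (d.factorial : ℝ) *
        ((Module.length A ((A ⧸ p.asIdeal) ⧸ (I ^ t • (⊤ : Submodule A (A ⧸ p.asIdeal))))).toNat : ℝ) / (t : ℝ) ^ d)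
        Filter.atTop (nhds (e p))) :
    Filter.Tendsto (fun t : ℕ => (d.factorial : ℝ) * ((Module.length A (M ⧸ (I ^ t • (⊤ : Submodule A M)))).toNat : ℝ) / (t : ℝ) ^ d) Filter.atTop
      (nhds (∑ᶠ (p : PrimeSpectrum A) (_ : ringKrullDim (A ⧸ p.asIdeal) = d),
        ((Module.length (Localization.AtPrime p.asIdeal) (LocalizedModule p.asIdeal.primeCompl M)).toNat : ℝ) * e p)) := by
  rw [finsum_eq_G]
  exact main d e I hI he M hd

end Groth.Agent.S12212
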