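import Groth.Statements.S12215
import Groth.Agent.Lib.Lead.QC.WeakAss
import Groth.Agent.Lib.Lead.QC.WeakAssIso

set_option autoImplicit false
universe u
open CategoryTheory CategoryTheory.Limits AlgebraicGeometry
open Divisors

namespace Groth.Agent.S12215

/-- Let M be a module over a ring A, M~ the associated quasi-coherent module on Spec A and p a prime of
A. Then p is weakly associated to M — p is minimal among the prime ideals containing the annihilator
of some element of M — if and only if the point p of Spec A is weakly associated to M~, i.e. some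
element of the stalk of M~ at p has annihilator whose radical is the maximal ideal of the local
ring. -/
theorem result (A : CommRingCat.{u}) (M : ModuleCat.{u} A) (p : Spec A) :
    p.asIdeal ∈ FlatCA.weakAss A M ↔ Curv2.IsWeakAssPoint (tilde M) p := by
  have hU := isAffineOpen_top (Spec A)
  rw [LD.QC.isWeakAssPoint_iff_mem_weakAss (tilde M) hU p trivial]
  have hbij : Function.Bijective (algebraMap A Γ(Spec A, ⊤)) := by
    rw [AlgebraicGeometry.IsAffineOpen.algebraMap_Spec_obj]
    have hid : (homOfLE (le_top : (⊤ : (Spec A).Opens) ≤ ⊤)) = 𝟙 _ := Subsingleton.elim _ _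
    have : IsIso ((Scheme.ΓSpecIso A).inv ≫ (Spec A).presheaf.map (homOfLE (le_top : (⊤ : (Spec A).Opens) ≤ ⊤)).op) := by
      rw [hid, op_id, CategoryTheory.Functor.map_id, Category.comp_id]
      infer_instance
    exact (ConcreteCategory.isIso_iff_bijective _).mp this
  rw [LD.QC.mem_weakAss_iff_comap_of_bijective (algebraMap A Γ(Spec A, ⊤)) hbij
    (N := Γ(tilde M, ⊤)) (fun a n => rfl)]
  have hcomap : Ideal.comap (algebraMap A Γ(Spec A, ⊤)) (hU.primeIdealOf ⟨p, trivial⟩).asIdeal =
      p.asIdeal := by
    have h1 := hU.fromSpec_primeIdealOf ⟨p, trivial⟩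
    rw [IsAffineOpen.fromSpec_top, Scheme.isoSpec_Spec_inv] at h1
    have h2 := congrArg PrimeSpectrum.asIdeal h1
    rw [← h2]
    have hid : (homOfLE (le_top : (⊤ : (Spec A).Opens) ≤ ⊤)) = 𝟙 _ := Subsingleton.elim _ _
    rw [AlgebraicGeometry.IsAffineOpen.algebraMap_Spec_obj, hid, op_id,
      CategoryTheory.Functor.map_id, Category.comp_id]
    rfl
  rw [hcomap]
  let e := (tilde.isoTop M).toLinearEquiv
  rw [LD.QC.weakAss_eq_of_addEquiv (R := A) (M := M) (N := Γ(tilde M, ⊤)) e.toAddEquiv
    (fun r m => e.map_smul r m)]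

end Groth.Agent.S12215
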