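import Groth.Statements.S1224
import Groth.Agent.Lib.Helper1.WeakAssFibre

set_option autoImplicit false
universe u
open FlatMor

namespace Groth.Agent.S1224

namespace Groth.Agent.H1.S1224aux

open TensorProduct Groth.Agent.H1.AssFibre Groth.Agent.H1.WeakAssFibre

attribute [local instance] Algebra.TensorProduct.rightAlgebra

theorem algebraMap_mem_annihilator {B B' : Type u} [CommRing B] [CommRing B'] [Algebra B B']
    {N N' : Type u} [AddCommGroup N] [Module B N] [AddCommGroup N'] [Module B' N'] [Module B N']
    [IsScalarTower B B' N'] (f : N →ₗ[B] N') (hf : IsBaseChange B' f) (b : B)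
    (hb : b ∈ Module.annihilator B N) : algebraMap B B' b ∈ Module.annihilator B' N' := by
  rw [Module.mem_annihilator]
  intro n'
  induction n' using hf.inductionOn with
  | zero => exact smul_zero _
  | tmul n =>
    rw [algebraMap_smul, ← map_smul, (Module.mem_annihilator.mp hb) n, map_zero]
  | smul b' n' h => rw [smul_comm, h, smul_zero]
  | add x y hx hy => rw [smul_add, hx, hy, add_zero]

theorem inc_smul_eq_zero {A' B' : Type u} [CommRing A'] [CommRing B'] [Algebra A' B']
    (t' : Ideal A') [t'.IsPrime] (N' : Type u) [AddCommGroup N'] [Module B' N'] (b' : B')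
    (hb' : b' ∈ Module.annihilator B' N') (z : (t'.Fiber B') ⊗[B'] N') :
    inc t' B' b' • z = 0 := by
  induction z using TensorProduct.induction_on with
  | zero => exact smul_zero _
  | add x y hx hy => rw [smul_add, hx, hy, add_zero]
  | tmul x n' =>
    rw [TensorProduct.smul_tmul', smul_eq_mul, mul_comm]
    have : x * inc t' B' b' = b' • x := by
      rw [Algebra.smul_def, mul_comm]
      rfl
    rw [this, TensorProduct.smul_tmul, (Module.mem_annihilator.mp hb') n', tmul_zero]

theorem inc_mem_annihilator {A' B' : Type u} [CommRing A'] [CommRing B'] [Algebra A' B']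
    (t' : Ideal A') [t'.IsPrime] (N' : Type u) [AddCommGroup N'] [Module B' N'] (b' : B')
    (hb' : b' ∈ Module.annihilator B' N') :
    inc t' B' b' ∈ (⊤ : Submodule (t'.Fiber B') (FlatCA.fiberMod t' B' N')).annihilator := by
  rw [Submodule.mem_annihilator]
  intro z _
  exact inc_smul_eq_zero t' N' b' hb' z

theorem isIntegral_quotient {A B A' B' : Type u} [CommRing A] [CommRing B] [Algebra A B]
    [CommRing A'] [CommRing B'] [Algebra A A'] [Algebra B B'] [Algebra A' B'] [Algebra A B']
    [IsScalarTower A B B'] [IsScalarTower A A' B'] (hpush : Algebra.IsPushout A B A' B')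
    (J : Ideal B) [Module.Finite A (B ⧸ J)] :
    Algebra.IsIntegral A' (B' ⧸ J.map (algebraMap B B')) := by
  constructor
  intro y
  obtain ⟨x, rfl⟩ := Ideal.Quotient.mk_surjective y
  induction x using hpush.symm.out.inductionOn with
  | zero => rw [map_zero]; exact isIntegral_zero
  | tmul b =>
    let g : B ⧸ J →ₐ[A] B' ⧸ J.map (algebraMap B B') :=
      Ideal.quotientMapₐ (J.map (algebraMap B B')) (IsScalarTower.toAlgHom A B B')
        (Ideal.le_comap_map)
    have h1 : IsIntegral A (Ideal.Quotient.mk J b) := Algebra.IsIntegral.isIntegral _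
    have h2 : IsIntegral A (g (Ideal.Quotient.mk J b)) := h1.map g
    exact h2.tower_top
  | smul a' x hx =>
    have : Ideal.Quotient.mk (J.map (algebraMap B B')) (a' • x) =
        a' • Ideal.Quotient.mk (J.map (algebraMap B B')) x := rfl
    rw [this]
    exact hx.smul a'
  | add x y hx hy => rw [map_add]; exact hx.add hy

end Groth.Agent.H1.S1224aux

/-- Ring form, X = Spec B affine, where proper support means finite support: let B be a finite type
A-algebra and N a finite B-module such that B modulo the annihilator of N is finite over A. Then N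
is universally pure relative to Spec A. -/
theorem result {A B : Type u} [CommRing A] [CommRing B] [Algebra A B] [Algebra.FiniteType A B]
    (N : Type u) [AddCommGroup N] [Module B N] [Module A N] [IsScalarTower A B N] [Module.Finite B N]
    [Module.Finite A (B ⧸ Module.annihilator B N)] : FlatCA.IsUnivPure A B N := by
  intro p hp A' B' N' _ _ _ _ _ _ _ _ _ _ _ _ _ _ f t' t ht' ht P hP himp
  obtain ⟨hpush, hbc, hle, hover, hPover, hass, hno⟩ := himp
  set J' : Ideal B' := (Module.annihilator B N).map (algebraMap B B') with hJ'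
  -- J' ≤ P
  have hJP : J' ≤ P := by
    rw [hJ', Ideal.map_le_iff_le_comap]
    intro b hb
    rw [Ideal.mem_comap]
    have h1 := Groth.Agent.H1.S1224aux.algebraMap_mem_annihilator f hbc b hb
    have h2 := Groth.Agent.H1.S1224aux.inc_mem_annihilator t' N' _ h1
    have h3 := hass.annihilator_le h2
    exact (Groth.Agent.H1.WeakAssFibre.inc_mem_fiberIdeal_iff t' B' P _).mp h3
  haveI := Groth.Agent.H1.S1224aux.isIntegral_quotient hpush (Module.annihilator B N)
  have hsurj : Function.Surjective (Ideal.Quotient.mk J') := Ideal.Quotient.mk_surjective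
  have hker : RingHom.ker (Ideal.Quotient.mk J') ≤ P := by rw [Ideal.mk_ker]; exact hJP
  haveI hPbar : (P.map (Ideal.Quotient.mk J')).IsPrime := Ideal.map_isPrime_of_surjective hsurj hker
  have hcomap : (P.map (Ideal.Quotient.mk J')).comap (Ideal.Quotient.mk J') = P :=
    Ideal.comap_map_of_surjective' _ hsurj P |>.trans (by rw [Ideal.mk_ker]; exact sup_eq_left.mpr hJP)
  have hcomap' : (P.map (Ideal.Quotient.mk J')).comap (algebraMap A' (B' ⧸ J')) ≤ t := by
    have : algebraMap A' (B' ⧸ J') = (Ideal.Quotient.mk J').comp (algebraMap A' B') := rfl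
    rw [this, ← Ideal.comap_comap, hcomap]
    have := hPover.over
    rw [Ideal.under_def] at this
    rw [← this]
    exact hle
  obtain ⟨Q', hQ'ge, hQ'prime, hQ'over⟩ :=
    Ideal.exists_ideal_over_prime_of_isIntegral_of_isPrime t (P.map (Ideal.Quotient.mk J')) hcomap'
  haveI : (Q'.comap (Ideal.Quotient.mk J')).IsPrime := Ideal.comap_isPrime _ _
  refine hno (Q'.comap (Ideal.Quotient.mk J')) ?_ ?_
  · calc P = (P.map (Ideal.Quotient.mk J')).comap (Ideal.Quotient.mk J') := hcomap.symm
      _ ≤ Q'.comap (Ideal.Quotient.mk J') := Ideal.comap_mono hQ'ge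
  · constructor
    rw [Ideal.under_def, Ideal.comap_comap]
    exact hQ'over.symm

end Groth.Agent.S1224
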