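import Groth.Statements.S1222
import Groth.Agent.Lib.Helper9.Misc.PureP
import Groth.Agent.Lib.Helper9.Misc.PureB
import Groth.Agent.S1224

set_option autoImplicit false
universe u
open FlatMor

namespace Groth.Agent.S1222

/-- Ring form, X = Spec B affine hence separated over Spec A: let B be a finite type A-algebra and N a
finite B-module such that for every prime p of A the fibre module of N over p has finite support.
Then the following are equivalent: N is pure relative to Spec A; the scheme-theoretic support of N,
namely B modulo the annihilator of N, is finite over A; N is universally pure relative to Spec A. -/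
theorem result {A B : Type u} [CommRing A] [CommRing B] [Algebra A B] [Algebra.FiniteType A B]
    (N : Type u) [AddCommGroup N] [Module B N] [Module A N] [IsScalarTower A B N] [Module.Finite B N]
    (hfin : ∀ (p : Ideal A) [p.IsPrime], (Module.support (p.Fiber B) (FlatCA.fiberMod p B N)).Finite) :
    [FlatCA.IsPure A B N, Module.Finite A (B ⧸ Module.annihilator B N), FlatCA.IsUnivPure A B N].TFAE := by
  classical
  letI instMod : Module (B ⧸ Module.annihilator B N) N := Module.quotientAnnihilator
  haveI : IsScalarTower B (B ⧸ Module.annihilator B N) N :=
    (Module.isTorsionBySet_annihilator B N).isScalarTower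
  have hBC : Function.Surjective (algebraMap B (B ⧸ Module.annihilator B N)) :=
    Ideal.Quotient.mk_surjective
  tfae_have 2 → 3 := fun h => by
    haveI := h
    exact Groth.Agent.S1224.result N
  tfae_have 3 → 1 := by
    intro h p hp A' B' N' _ _ _ _ _ _ _ _ _ _ _ _ _ _ f t' t _ _ P _ _
    exact h p A' B' N' f t' t P
  tfae_have 1 → 2 := by
    intro hpure
    haveI : Algebra.FiniteType A (B ⧸ Module.annihilator B N) :=
      Algebra.FiniteType.of_surjective (Ideal.Quotient.mkₐ A (Module.annihilator B N))
        (Ideal.Quotient.mkₐ_surjective A _)
    haveI hqf : Algebra.QuasiFinite A (B ⧸ Module.annihilator B N) :=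
      Groth.Agent.H9.PureA.qf_of_fin hBC N (by
        intro b hb
        rw [RingHom.mem_ker]
        exact Ideal.Quotient.eq_zero_iff_mem.mpr hb) hfin
    haveI : Module.Finite (B ⧸ Module.annihilator B N) N :=
      Module.Finite.of_restrictScalars_finite B _ N
    have hpureC : FlatCA.IsPure A (B ⧸ Module.annihilator B N) N := fun p hp =>
      (Groth.Agent.H9.PureA.main hBC N p).1.mpr (hpure p)
    have hsupp : ∀ Q : PrimeSpectrum (B ⧸ Module.annihilator B N),
        Q ∈ Module.support (B ⧸ Module.annihilator B N) N := by
      intro Q
      rw [Module.mem_support_iff_of_finite]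
      intro c hc
      obtain ⟨b, rfl⟩ := Ideal.Quotient.mk_surjective c
      have hb : b ∈ Module.annihilator B N := by
        rw [Module.mem_annihilator]
        intro n
        exact Module.mem_annihilator.mp hc n
      rw [Ideal.Quotient.eq_zero_iff_mem.mpr hb]
      exact zero_mem _
    exact Groth.Agent.H9.PureA.finite_of_pure N hsupp hpureC
  tfae_finish

end Groth.Agent.S1222
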