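import Groth.Statements.S1223
import Mathlib

set_option autoImplicit false
universe u
open FlatMor

namespace Groth.Agent.S1223

namespace H1.S1223aux

open AlgebraicGeometry CategoryTheory TensorProduct

/-- geometrically integral fibres: every field-valued fibre ring is a domain -/
theorem isDomain_tensor {R S : Type u} [CommRing R] [CommRing S] [Algebra R S]
    (h : FlatCA.GeomIntegralFibres R S) (K : Type u) [Field K] [Algebra R K] :
    IsDomain (S ⊗[R] K) := by
  have h1 := (CommRingCat.isPushout_tensorProduct R S K)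
  have h2 := isPullback_SpecMap_of_isPushout _ _ _ _ h1
  have h3 : IsIntegral (Spec (CommRingCat.of (S ⊗[R] K))) :=
    h.geometrically_isIntegral _ _ _ h2
  exact (affine_isIntegral_iff _).mp h3

theorem geomIntegral_baseChange {A B A' B' : Type u} [CommRing A] [CommRing B] [CommRing A']
    [CommRing B'] [Algebra A B] [Algebra A A'] [Algebra B B'] [Algebra A' B'] [Algebra A B']
    [IsScalarTower A B B'] [IsScalarTower A A' B'] [Algebra.IsPushout A B A' B']
    (h : FlatCA.GeomIntegralFibres A B) : FlatCA.GeomIntegralFibres A' B' := by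
  have h1 := CommRingCat.isPushout_of_isPushout A B A' B'
  have h2 := isPullback_SpecMap_of_isPushout _ _ _ _ h1
  exact MorphismProperty.of_isPullback (P := @GeometricallyIntegral) h2 h

theorem eq_bot_of_isAssociatedPrime_self {F : Type u} [CommRing F] [IsDomain F] (I : Ideal F)
    (h : IsAssociatedPrime I F) : I = ⊥ := by
  obtain ⟨hI, x, hx⟩ := h
  have hx0 : x ≠ 0 := by
    rintro rfl
    apply hI.ne_top
    rw [hx, Ideal.radical_eq_top, eq_top_iff]
    intro r _
    rw [Submodule.mem_colon_singleton, smul_zero]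
    exact Submodule.zero_mem _
  have hc : (Submodule.colon (⊥ : Submodule F F) {x}) = ⊥ := by
    rw [eq_bot_iff]
    intro r hr
    rw [Submodule.mem_colon_singleton, Submodule.mem_bot, smul_eq_mul] at hr
    rcases mul_eq_zero.mp hr with h | h
    · exact h
    · exact absurd h hx0
  rw [hx, hc]
  exact (Ideal.isPrime_bot (α := F)).isRadical.radical

end H1.S1223aux

/-- Ring form, X = Spec B affine: a finite type, flat A-algebra B with geometrically integral fibres is
universally pure relative to Spec A. -/
theorem result {A B : Type u} [CommRing A] [CommRing B] [Algebra A B] [Algebra.FiniteType A B] [Module.Flat A B]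
    (h : FlatCA.GeomIntegralFibres A B) : FlatCA.IsUnivPure A B B := by
  intro p _ A' B' N' _ _ _ _ _ _ _ _ _ _ _ _ _ _ f t' t _ _ P _ himp
  obtain ⟨hpush, hbc, hle, htp, hPt', hass, hno⟩ := himp
  have hgi : FlatCA.GeomIntegralFibres A' B' := H1.S1223aux.geomIntegral_baseChange h
  -- the fibre rings are domains
  have hdom : ∀ (s : Ideal A') [s.IsPrime], IsDomain (s.Fiber B') := by
    intro s _
    haveI := H1.S1223aux.isDomain_tensor hgi s.ResidueField
    exact (Algebra.TensorProduct.comm A' s.ResidueField B').toMulEquiv.isDomain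
  haveI := hdom t'
  haveI := hdom t
  -- flatness of B' over A'
  haveI : Module.Flat A' B' := by
    have := (Algebra.IsPushout.symm hpush).out
    exact Module.Flat.isBaseChange (R := A) (S := A') (M := B) B' this
  -- the module is the fibre ring itself
  letI : Algebra B' (t'.Fiber B') := Algebra.TensorProduct.rightAlgebra
  have hbot : FlatCA.fiberIdeal t' P = ⊥ := by
    let e1 : N' ≃ₗ[B'] B' := hbc.equiv.symm.trans (TensorProduct.AlgebraTensorModule.rid B B' B')
    let e2 : TensorProduct B' (t'.Fiber B') N' ≃ₗ[t'.Fiber B'] (t'.Fiber B') :=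
      (TensorProduct.AlgebraTensorModule.congr (LinearEquiv.refl (t'.Fiber B') (t'.Fiber B')) e1).trans
        (TensorProduct.AlgebraTensorModule.rid B' (t'.Fiber B') (t'.Fiber B'))
    have h1 : IsAssociatedPrime (FlatCA.fiberIdeal t' P) (TensorProduct B' (t'.Fiber B') N') := hass
    exact H1.S1223aux.eq_bot_of_isAssociatedPrime_self _ ((LinearEquiv.isAssociatedPrime_iff e2).mp h1)
  -- a prime over `t`
  let q0 : PrimeSpectrum (t.Fiber B') := ⟨⊥, Ideal.isPrime_bot⟩
  let Qs := (PrimeSpectrum.primesOverOrderIsoFiber A' B' t).symm q0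
  haveI hQp : Qs.1.IsPrime := Qs.2.1
  haveI hQo : Qs.1.LiesOver t := Qs.2.2
  obtain ⟨Q', hQ'le, hQ'p, hQ'o⟩ := Ideal.exists_ideal_le_liesOver_of_le (p := t') (q := t) Qs.1 hle
  have hPQ' : P ≤ Q' := by
    let qs := PrimeSpectrum.primesOverOrderIsoFiber A' B' t' ⟨Q', hQ'p, hQ'o⟩
    have h1 : ((PrimeSpectrum.primesOverOrderIsoFiber A' B' t').symm qs).1 = Q' := by
      rw [OrderIso.symm_apply_apply]
    rw [PrimeSpectrum.coe_primesOverOrderIsoFiber_symm_apply] at h1
    intro x hx
    rw [← h1, Ideal.mem_comap]
    have h2 : (Algebra.TensorProduct.includeRight (R := A') (A := t'.ResidueField) (B := B')) x ∈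
        FlatCA.fiberIdeal t' P := Ideal.mem_map_of_mem _ hx
    rw [hbot, Ideal.mem_bot] at h2
    rw [h2]
    exact Ideal.zero_mem _
  exact hno Qs.1 (hPQ'.trans hQ'le) hQo

end Groth.Agent.S1223
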