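import Groth.Statements.S12249
import Groth.Agent.Lib.Helper6.ArtFunProrep

set_option autoImplicit false
universe u v
open CategoryTheory
open Deform

namespace Groth.Agent.S12249

/-- Let k be an algebraically closed field and F a set-valued functor on local Artinian k-algebras with
residue field k such that F(k) is a single point. If F has a semiuniversal formal element and its
tangent space F(k[ε]) is reduced to one element, then F(A) consists of exactly one element for every
A: F is the constant one-point functor h_k. -/
theorem result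
    {k : Type u} [Field k] [IsAlgClosed k]
    (F : ArtFun.Art k k ⥤ Type v) (h0 : ArtFun.H0 F) (hF : ArtFun.HasHull F)
    (ht : Subsingleton (ArtFun.TangentSpace F)) (A : ArtFun.Art k k) :
    Nonempty (F.obj A) ∧ Subsingleton (F.obj A) := by
  obtain ⟨⟨R, ξ, hξ⟩⟩ := hF
  haveI : Module.Finite k k := inferInstance
  -- the trivial family to the one-point functor
  let G : ArtFun.Art k k ⥤ Type u := (CategoryTheory.Functor.const _).obj PUnit
  let ξ' : ArtFun.Family R.carrier R.res G := { app := fun _ _ => PUnit.unit, natural := fun _ _ => rfl }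
  have hsub : Subsingleton (ArtFun.HomSet R.carrier R.res (ArtFun.Art.dual k k)) := by
    refine ⟨fun φ ψ => hξ.2.1 ?_⟩
    exact ht.elim _ _
  have hinj := Groth.Agent.H6.injective_app_of_hsq ξ'
    (fun _ _ _ p₁ p₂ f h _ x y _ => Subsingleton.elim (α := PUnit) x y)
    (fun φ ψ _ => hsub.elim φ ψ) A
  have hsurj := Groth.Agent.H6.versal_surjective_app ξ hξ.1 h0 A
  constructor
  · obtain ⟨x₀⟩ := h0.1
    let σ : ArtFun.Art.base k k ⟶ A :=
      ⟨Algebra.ofId k A, AlgHom.ext fun a => by
        change A.res (algebraMap k A a) = a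
        rw [AlgHom.commutes]
        rfl⟩
    exact ⟨F.map σ x₀⟩
  · refine ⟨fun x y => ?_⟩
    obtain ⟨φ, rfl⟩ := hsurj x
    obtain ⟨ψ, rfl⟩ := hsurj y
    rw [hinj (a₁ := φ) (a₂ := ψ) rfl]

end Groth.Agent.S12249
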