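import Groth.Statements.S12253
import Groth.Agent.Lib.Helper6.ArtFunSchlessinger
import Groth.Agent.Lib.Helper6.ArtFunProrep

set_option autoImplicit false
universe u v
open CategoryTheory
open Deform

namespace Groth.Agent.S12253

/-- Let k be an algebraically closed field, Λ a complete local Noetherian k-algebra with residue field k
and F a set-valued functor on local Artinian Λ-algebras with residue field k such that F(k) is a
single point, with its k-vector-space structure on F(k[ε]) given as data compatible with ε ↦ cε and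
(ε₁, ε₂) ↦ (ε, ε). Then F is prorepresentable by a complete local Noetherian Λ-algebra with residue
field k if and only if F is left exact, i.e. the comparison map F(A' ×_A A'') → F(A') ×_{F(A)}
F(A'') is bijective for every fibre-product square, and F(k[ε]) is finite-dimensional. -/
theorem result
    {k Λ : Type u} [Field k] [IsAlgClosed k] [CommRing Λ] [IsLocalRing Λ] [IsNoetherianRing Λ]
    [IsAdicComplete (IsLocalRing.maximalIdeal Λ) Λ] [Algebra k Λ] [Algebra Λ k] [IsScalarTower k Λ k]
    (F : ArtFun.Art Λ k ⥤ Type v) [ArtFun.TangentStr F] (h0 : ArtFun.H0 F) :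
    ArtFun.IsProrepresentable F ↔ (ArtFun.IsLeftExact F ∧ ArtFun.Hfin F) := by
  have hk : Function.Surjective (algebraMap Λ k) := fun a =>
    ⟨algebraMap k Λ a, by rw [← IsScalarTower.algebraMap_apply]; simp⟩
  haveI : Module.Finite Λ k := Module.Finite.of_surjective (Algebra.linearMap Λ k) hk
  constructor
  · rintro ⟨⟨R, ξ, hξ⟩⟩
    exact ⟨Groth.Agent.H6.isLeftExact_of_isUniversal ξ hξ,
      Groth.Agent.H6.hfin_of_tangent_bijective R ξ (hξ _)⟩
  · rintro ⟨hle, hfin⟩
    have h1 : ArtFun.S1 F := fun _ _ _ _ p' p'' f' f'' h _ => (hle p' p'' f' f'' h).2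
    have heps : ArtFun.Heps F := fun _ _ p' p'' h => hle p' p'' _ _ h
    let f : MvPolynomial (Fin 0) Λ →ₐ[Λ] k := MvPolynomial.aeval Fin.elim0
    have hf : Function.Surjective f := fun a => by
      obtain ⟨l, rfl⟩ := hk a
      exact ⟨MvPolynomial.C l, by simp [f]⟩
    obtain ⟨R, ξ, hvers, hinj⟩ := Groth.Agent.H6.exists_versal_aux h0 h1 heps hfin f hf
    exact ⟨⟨R, ξ, Groth.Agent.H6.isUniversal_of_isVersal_of_hsq ξ hvers h0
      (fun _ _ _ p₁ p₂ f h _ => (hle p₁ p₂ f f h).1) (hinj rfl)⟩⟩

end Groth.Agent.S12253
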