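import Groth.Statements.S12286
import Mathlib

set_option autoImplicit false
universe u w m
open scoped TensorProduct
open DefT

namespace Groth.Agent.S12286

/-- Let A → B be a ring homomorphism, P a presentation of B over A and M a B-module. The canonical
B-linear map from the A-derivations Der_A(B, M) = Hom_B(Ω_{B/A}, M) to T^0(B/A, M) (the kernel of
Hom_B(L₀, M) → Hom_B(L₁, M), L₀ = B ⊗_R Ω_{R/A}), sending a derivation D to b ⊗ dr ↦ b·D(r̄), is
bijective. -/
theorem result
    (A B : Type u) [CommRing A] [CommRing B] [Algebra A B] (ι σ : Type w) (P : Algebra.Presentation A B ι σ)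
    (M : Type m) [AddCommGroup M] [Module B M] [Module A M] [IsScalarTower A B M] :
    Function.Bijective (CotT.derToT0 P M) := by
  constructor
  · -- injectivity
    rw [← LinearMap.ker_eq_bot, LinearMap.ker_eq_bot']
    intro D hD
    have h0 : CotT.derLift P M D = 0 := by
      have := congrArg Subtype.val hD
      simpa using this
    ext b
    obtain ⟨r, rfl⟩ := P.toExtension.algebraMap_surjective b
    have := CotT.derLift_tmul_D P M D 1 r
    rw [h0, LinearMap.zero_apply, one_smul] at this
    rw [← this, Derivation.coe_zero, Pi.zero_apply]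
  · -- surjectivity
    rintro ⟨φ, hφ⟩
    rw [LinearMap.mem_ker, CotT.d1Star_apply] at hφ
    have htoCot : Function.Surjective (CotT.toCot P) := by
      intro x
      obtain ⟨k, rfl⟩ := Algebra.Extension.Cotangent.mk_surjective x
      have hk : (k : P.toExtension.Ring) ∈ LinearMap.range (CotT.jmap P) := by
        rw [CotT.range_jmap]; exact k.2
      obtain ⟨f, hf⟩ := hk
      refine ⟨(1 : B) ⊗ₜ f, ?_⟩
      rw [CotT.toCot_tmul, one_smul]
      congr 1
      exact Subtype.ext hf
    have hφ2 : φ ∘ₗ P.toExtension.cotangentComplex = 0 := by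
      ext x
      obtain ⟨y, rfl⟩ := htoCot x
      have := LinearMap.congr_fun hφ y
      simpa [CotT.d1] using this
    have hker : LinearMap.ker P.toExtension.toKaehler ≤ LinearMap.ker φ := by
      rw [LinearMap.exact_iff.mp P.toExtension.exact_cotangentComplex_toKaehler]
      rintro _ ⟨x, rfl⟩
      exact LinearMap.congr_fun hφ2 x
    let e := LinearMap.quotKerEquivOfSurjective P.toExtension.toKaehler P.toExtension.toKaehler_surjective
    let ψ : Ω[B⁄A] →ₗ[B] M := (Submodule.liftQ _ φ hker) ∘ₗ e.symm.toLinearMap
    have hψ : ∀ x, ψ (P.toExtension.toKaehler x) = φ x := by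
      intro x
      have : e.symm (P.toExtension.toKaehler x) = Submodule.Quotient.mk x := by
        rw [LinearEquiv.symm_apply_eq]
        rfl
      simp only [ψ, LinearMap.comp_apply, LinearEquiv.coe_coe, this, Submodule.liftQ_apply]
    refine ⟨ψ.compDer (KaehlerDifferential.D A B), Subtype.ext ?_⟩
    rw [CotT.derToT0_apply]
    refine (P.cotangentSpaceBasis).ext fun i => ?_
    rw [CotT.derLift_basis, ← hψ, Algebra.Generators.toKaehler_cotangentSpaceBasis]
    rfl

end Groth.Agent.S12286
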