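import Groth.Statements.S12287
import Groth.Agent.Lib.Helper6.CotTHom3

set_option autoImplicit false
universe u w m
open scoped TensorProduct
open DefT

namespace Groth.Agent.S12287

/-- Let B be an A-algebra that is isomorphic over A to a polynomial ring A[x_j] in some set of
variables. Then for every B-module M the modules T^1(B/A, M) and T^2(B/A, M), computed from the
choice-free presentation of B over A (every element of B a variable, every element of the kernel a
relation), are zero. -/
theorem result
    (A B : Type u) [CommRing A] [CommRing B] [Algebra A B] (κ : Type u) (e : MvPolynomial κ A ≃ₐ[A] B)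
    (M : Type u) [AddCommGroup M] [Module B M] :
    Subsingleton (CotT.T1 (CotT.canon A B) M) ∧ Subsingleton (CotT.T2 (CotT.canon A B) M) := by
  have hsurj : Function.Surjective (e : MvPolynomial κ A →ₐ[A] B) := e.surjective
  let G : Algebra.Generators A B κ := Algebra.Generators.ofAlgHom (e : MvPolynomial κ A →ₐ[A] B) hsurj
  have hker : G.ker = ⊥ := by
    have h1 := Algebra.Generators.ker_ofAlgHom (e : MvPolynomial κ A →ₐ[A] B) hsurj
    refine h1.trans ?_
    exact (RingHom.injective_iff_ker_eq_bot _).mp e.injective
  let P0 : Algebra.Presentation A B κ PEmpty.{u+1} :=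
    { toGenerators := G
      relation := PEmpty.elim
      span_range_relation_eq_ker := by
        rw [hker, Set.range_eq_empty, Ideal.span_empty] }
  obtain ⟨e1⟩ := Groth.Agent.H6.CotTHom.nonempty_T1equiv (CotT.canon A B) P0 M
  obtain ⟨e2⟩ := Groth.Agent.H6.CotTHom.nonempty_T2equiv (CotT.canon A B) P0 M
  haveI := Groth.Agent.H6.CotTHom.T1_subsingleton_of_isEmpty P0 M
  haveI := Groth.Agent.H6.CotTHom.T2_subsingleton_of_isEmpty P0 M
  exact ⟨e1.toEquiv.subsingleton, e2.toEquiv.subsingleton⟩

end Groth.Agent.S12287
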