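import Groth.Statements.S12288
import Groth.Agent.Lib.Helper6.CotTHom3
import Groth.Agent.Lib.Helper6.CotTKos

set_option autoImplicit false
universe u w m
open scoped TensorProduct
open DefT

namespace Groth.Agent.S12288

/-- Let A be a local ring and A → B a surjective ring homomorphism whose kernel is generated by a
regular sequence a_1, …, a_r on A (each a_i is a non-zero-divisor on A/(a_1, …, a_{i-1}) and the
ideal is proper). Then T^2(B/A, M) = 0 for every B-module M, the module being computed from the
choice-free presentation of B over A. -/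
theorem result
    (A B : Type u) [CommRing A] [IsLocalRing A] [CommRing B] [Algebra A B]
    (hs : Function.Surjective (algebraMap A B)) (rs : List A) (hreg : RingTheory.Sequence.IsRegular A rs)
    (hI : RingHom.ker (algebraMap A B) = Ideal.ofList rs) (M : Type u) [AddCommGroup M] [Module B M] :
    Subsingleton (CotT.T2 (CotT.canon A B) M) := by
  let G : Algebra.Generators A B PEmpty.{u+1} := Algebra.Generators.ofSurjectiveAlgebraMap hs
  let e : MvPolynomial PEmpty.{u+1} A ≃+* A := MvPolynomial.isEmptyRingEquiv A PEmpty.{u+1}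
  have heC : ∀ a : A, e (MvPolynomial.C a) = a := by
    intro a
    simp [e]
    exact MvPolynomial.coeff_zero_C a
  have hCe : ∀ x : MvPolynomial PEmpty.{u+1} A, MvPolynomial.C (e x) = x := by
    intro x
    exact e.injective (heC (e x))
  have halg : ∀ x : G.toExtension.Ring, algebraMap G.toExtension.Ring B x = algebraMap A B (e x) := by
    intro x
    rw [← hCe x, heC]
    exact (IsScalarTower.algebraMap_apply A G.toExtension.Ring B (e x)).symm
  let n := rs.length
  let r : Fin n → A := fun i => rs[i]
  let r' : Fin n → G.toExtension.Ring := fun i => MvPolynomial.C (r i)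
  have hrange : (Set.range r) = {x | x ∈ rs} := by
    ext x
    simp only [Set.mem_range, Set.mem_setOf_eq, r]
    constructor
    · rintro ⟨i, rfl⟩
      exact List.getElem_mem _
    · intro hx
      obtain ⟨i, hi, rfl⟩ := List.getElem_of_mem hx
      exact ⟨⟨i, hi⟩, rfl⟩
  have hker : Ideal.span (Set.range r') = G.ker := by
    ext x
    change x ∈ Ideal.span (Set.range r') ↔ x ∈ RingHom.ker (algebraMap G.toExtension.Ring B)
    rw [RingHom.mem_ker, halg, ← RingHom.mem_ker, hI, Ideal.ofList, ← hrange]
    have h1 : Ideal.span (Set.range r') =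
        Ideal.map (MvPolynomial.C : A →+* MvPolynomial PEmpty.{u+1} A) (Ideal.span (Set.range r)) := by
      rw [Ideal.map_span, ← Set.range_comp]; rfl
    rw [h1]
    constructor
    · intro hx
      have := Ideal.mem_map_of_mem (e : MvPolynomial PEmpty.{u+1} A →+* A) hx
      rw [Ideal.map_map] at this
      have h2 : ((e : MvPolynomial PEmpty.{u+1} A →+* A).comp (MvPolynomial.C : A →+* MvPolynomial PEmpty.{u+1} A)) = RingHom.id A :=
        RingHom.ext fun a => heC a
      rwa [h2, Ideal.map_id] at this
    · intro hx
      have := Ideal.mem_map_of_mem (MvPolynomial.C : A →+* MvPolynomial PEmpty.{u+1} A) hx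
      have h3 := hCe x
      exact h3 ▸ this
  let P0 : Algebra.Presentation A B PEmpty.{u+1} (Fin n) :=
    { toGenerators := G
      relation := r'
      span_range_relation_eq_ker := hker }
  -- regularity in A
  have hregA : ∀ k : Fin n, ∀ a : A, a * r k ∈ Ideal.span (r '' {i | i < k}) → a ∈ Ideal.span (r '' {i | i < k}) := by
    intro k a ha
    have h1 := hreg.toIsWeaklyRegular.regular_mod_prev k.val k.2
    have hset : Ideal.span (r '' {i | i < k}) = Ideal.ofList (rs.take k.val) := by
      rw [Ideal.ofList]
      congr 1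
      ext x
      simp only [Set.mem_image, Set.mem_setOf_eq, r]
      constructor
      · rintro ⟨i, hi, rfl⟩
        rw [List.mem_take_iff_getElem]
        exact ⟨i.val, by have : i.val < k.val := hi; omega, rfl⟩
      · intro hx
        rw [List.mem_take_iff_getElem] at hx
        obtain ⟨i, hi, rfl⟩ := hx
        exact ⟨⟨i, by omega⟩, by change i < k.val; omega, rfl⟩
    rw [hset] at ha ⊢
    have h2 : (Ideal.ofList (rs.take k.val) • ⊤ : Submodule A A) = Ideal.ofList (rs.take k.val) := by
      rw [smul_eq_mul, Ideal.mul_top]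
    have h3 := isSMulRegular_iff_right_eq_zero_of_smul.mp h1 (Submodule.Quotient.mk a)
    rw [← Submodule.Quotient.mk_smul, Submodule.Quotient.mk_eq_zero, Submodule.Quotient.mk_eq_zero, h2] at h3
    refine h3 ?_
    rw [smul_eq_mul, mul_comm]
    exact ha
  -- regularity in the polynomial ring on no variables
  have hregR : ∀ k : Fin n, ∀ a : G.toExtension.Ring, a * r' k ∈ Ideal.span (r' '' {i | i < k}) →
      a ∈ Ideal.span (r' '' {i | i < k}) := by
    intro k a ha
    have h1 : Ideal.span (r' '' {i | i < k}) =
        Ideal.map (MvPolynomial.C : A →+* MvPolynomial PEmpty.{u+1} A) (Ideal.span (r '' {i | i < k})) := by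
      rw [Ideal.map_span, ← Set.image_comp]; rfl
    rw [h1] at ha ⊢
    have h2 : ((e : MvPolynomial PEmpty.{u+1} A →+* A).comp (MvPolynomial.C : A →+* MvPolynomial PEmpty.{u+1} A)) = RingHom.id A :=
      RingHom.ext fun a => heC a
    have h3 := Ideal.mem_map_of_mem (e : MvPolynomial PEmpty.{u+1} A →+* A) ha
    rw [Ideal.map_map, h2, Ideal.map_id] at h3
    have h4 : (e : MvPolynomial PEmpty.{u+1} A →+* A) (a * r' k) = e a * r k := by
      have h40 : (e : MvPolynomial PEmpty.{u+1} A →+* A) (a * r' k) =
          (e : MvPolynomial PEmpty.{u+1} A →+* A) a * (e : MvPolynomial PEmpty.{u+1} A →+* A) (r' k) := map_mul _ _ _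
      rw [h40]
      congr 1
      exact heC (r k)
    rw [h4] at h3
    have h5 := hregA k (e a) h3
    have h6 := Ideal.mem_map_of_mem (MvPolynomial.C : A →+* MvPolynomial PEmpty.{u+1} A) h5
    have h7 := hCe a
    exact h7 ▸ h6
  have hle : CotT.relKer P0 ≤ CotT.trivRel P0 := Groth.Agent.H6.CotTKos.ker_le_triv r' hregR
  obtain ⟨e2⟩ := Groth.Agent.H6.CotTHom.nonempty_T2equiv (CotT.canon A B) P0 M
  haveI := Groth.Agent.H6.CotTHom.T2_subsingleton_of_relKer_le P0 M hle
  exact e2.toEquiv.subsingleton

end Groth.Agent.S12288
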