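import Groth.Statements.S12289
import Groth.Agent.Lib.Helper6.CotTLib

set_option autoImplicit false
universe u w m
open scoped TensorProduct
open DefT

namespace Groth.Agent.S12289

/-- Let k be a commutative ring and B a k-algebra presented as R/I with R = k[x_i] a polynomial ring
(any set of variables) and chosen generators of I, and let M be a B-module; T^0(B/k, M) and T^1(B/k,
M) are computed from this presentation. Then the sequence 0 → T^0(B/k, M) → Hom_B(Ω_{R/k} ⊗_R B, M)
→ Hom_B(I/I², M) → T^1(B/k, M) → 0 is exact, where the middle map is composition with the conormal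
map d : I/I² → Ω_{R/k} ⊗_R B and the last map sends φ to the class of φ ∘ (F/IF → I/I²): the
submodule T^0(B/k, M) of Hom_B(Ω_{R/k} ⊗ B, M) is the kernel of composition with d, the kernel of
Hom_B(I/I², M) → T^1(B/k, M) is the image of composition with d, and Hom_B(I/I², M) → T^1(B/k, M) is
surjective. (The published statement takes finitely many variables over a field and adds that the
same holds over any base ring; this row allows any base ring and any set of variables.) -/
theorem result
    (k B : Type u) [CommRing k] [CommRing B] [Algebra k B] (ι σ : Type w) (P : Algebra.Presentation k B ι σ)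
    (M : Type m) [AddCommGroup M] [Module B M] :
    LinearMap.ker (CotT.d1Star P M) = LinearMap.ker (LinearMap.lcomp B M P.toExtension.cotangentComplex) ∧
    LinearMap.ker (CotT.homToT1 P M) = LinearMap.range (LinearMap.lcomp B M P.toExtension.cotangentComplex) ∧
    Function.Surjective (CotT.homToT1 P M) := by
  refine ⟨?_, ?_, ?_⟩
  · ext φ
    rw [LinearMap.mem_ker, LinearMap.mem_ker, CotT.d1Star_apply, LinearMap.lcomp_apply']
    exact Groth.Agent.H6.CotTLib.comp_cotangentComplex_eq_zero_iff P M φ
  · ext φ
    rw [LinearMap.mem_ker, LinearMap.mem_range]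
    unfold CotT.homToT1
    rw [LinearMap.comp_apply, Submodule.mkQ_apply, Submodule.Quotient.mk_eq_zero]
    show (∃ ψ, CotT.d1Star P M ψ = φ ∘ₗ CotT.toCot P) ↔ _
    constructor
    · rintro ⟨ψ, hψ⟩
      refine ⟨ψ, ?_⟩
      rw [LinearMap.lcomp_apply']
      rw [CotT.d1Star_apply, CotT.d1, ← LinearMap.comp_assoc] at hψ
      ext x
      obtain ⟨y, rfl⟩ := Groth.Agent.H6.CotTLib.toCot_surjective P x
      exact LinearMap.congr_fun hψ y
    · rintro ⟨ψ, hψ⟩
      refine ⟨ψ, ?_⟩
      rw [LinearMap.lcomp_apply'] at hψ
      rw [CotT.d1Star_apply, CotT.d1, ← LinearMap.comp_assoc, hψ]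
  · intro t
    obtain ⟨⟨c, hc⟩, rfl⟩ := Submodule.Quotient.mk_surjective _ t
    have hc' : c ∘ₗ CotT.d2 P = 0 := by
      have := hc
      rwa [LinearMap.mem_ker, CotT.d2Star_apply] at this
    obtain ⟨φ, hφ⟩ := Groth.Agent.H6.CotTLib.exists_factor_toCot P M c hc'
    refine ⟨φ, ?_⟩
    unfold CotT.homToT1
    rw [LinearMap.comp_apply, Submodule.mkQ_apply]
    congr 1
    exact Subtype.ext hφ

end Groth.Agent.S12289
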