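import Groth.Statements.S12291
import Groth.Agent.Lib.Helper6.NineCor
import Groth.Agent.Lib.Helper6.CotTP0
import Groth.Agent.Lib.Helper6.H1Reg
import Groth.Agent.Lib.Helper6.CMKit
import Groth.Agent.Lib.Helper1.CMFlat
import Groth.Agent.S12288
import Groth.Agent.Lib.Helper6.CotTHom

set_option autoImplicit false
universe u w m
open scoped TensorProduct
open DefT

namespace Groth.Agent.S12291

/-- Let k be an algebraically closed field and A a regular local k-algebra with residue field k such
that T^1(A/k, N) = 0 and T^2(A/k, N) = 0 for all A-modules N; let I be a proper ideal of A and B =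
A/I. Then B is cut out of A as a local complete intersection — meaning I is generated by some list
of r elements with r + dim B = dim A, i.e. by dim A − dim B elements — exactly when T^2(B/k, M)
vanishes for each B-module M. The T^i are computed from the choice-free presentations. (The
published statement assumes only that A is a regular local k-algebra with residue field k; its proof
uses the vanishing of T^1(A/k, −) and T^2(A/k, −), which holds when A is essentially of finite type
over k and which this row carries as a hypothesis.) -/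
theorem result
    (k A : Type u) [Field k] [IsAlgClosed k] [CommRing A] [IsRegularLocalRing A] [Algebra k A]
    (hres : Function.Surjective (algebraMap k (IsLocalRing.ResidueField A)))
    (hT : ∀ (N : Type u) [AddCommGroup N] [Module A N],
      Subsingleton (CotT.T1 (CotT.canon k A) N) ∧ Subsingleton (CotT.T2 (CotT.canon k A) N))
    (I : Ideal A) (hI : I ≠ ⊤) :
    (∃ rs : List A, Ideal.ofList rs = I ∧ (rs.length : WithBot ℕ∞) + ringKrullDim (A ⧸ I) = ringKrullDim A) ↔
      ∀ (M : Type u) [AddCommGroup M] [Module (A ⧸ I) M], Subsingleton (CotT.T2 (CotT.canon k (A ⧸ I)) M) := by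
  haveI : Nontrivial (A ⧸ I) := Ideal.Quotient.nontrivial_iff.mpr hI
  haveI : IsLocalRing (A ⧸ I) :=
    IsLocalRing.of_surjective' (Ideal.Quotient.mk I) Ideal.Quotient.mk_surjective
  have hs : Function.Surjective (algebraMap A (A ⧸ I)) := Ideal.Quotient.mk_surjective
  have hkerI : RingHom.ker (algebraMap A (A ⧸ I)) = I := Ideal.mk_ker
  have hIm : I ≤ IsLocalRing.maximalIdeal A := IsLocalRing.le_maximalIdeal hI
  -- reduction to `T²((A/I)/A, M)`
  have red : ∀ (M : Type u) [AddCommGroup M] [Module (A ⧸ I) M],
      Subsingleton (CotT.T2 (CotT.canon A (A ⧸ I)) M) ↔ Subsingleton (CotT.T2 (CotT.canon k (A ⧸ I)) M) := by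
    intro M _ _
    letI : Module A M := Module.compHom M (algebraMap A (A ⧸ I))
    haveI : IsScalarTower A (A ⧸ I) M := IsScalarTower.of_algebraMap_smul fun _ _ => rfl
    obtain ⟨h1, h2⟩ := hT M
    exact Groth.Agent.H6.NineCor.T2_subsingleton_iff k A (A ⧸ I) M h1 h2
  constructor
  · rintro ⟨rs, hrs, hdim⟩ M _ _
    rw [← red M]
    have hmem : ∀ r ∈ rs, r ∈ IsLocalRing.maximalIdeal A := by
      intro r hr
      apply hIm
      rw [← hrs]
      exact Ideal.subset_span hr
    have hCM : LocCoh.IsCohenMacaulayModule A A :=
      (Groth.Agent.H1.CMFlat.isCohenMacaulayLocalRing_of_isRegularLocalRing A).supportDim_eq_depth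
    have hd : Module.supportDim A (A ⧸ (Ideal.ofList rs • (⊤ : Submodule A A))) + rs.length =
        Module.supportDim A A := by
      have eq : Ideal.ofList rs = Ideal.ofList rs • (⊤ : Ideal A) := by simp
      rw [Module.supportDim_self_eq_ringKrullDim, Module.supportDim_quotient_eq_ringKrullDim,
        ← ringKrullDim_eq_of_ringEquiv (Ideal.quotientEquivAlgOfEq A eq).toRingEquiv, hrs, add_comm]
      exact hdim
    have hw := Groth.Agent.H6.CM.isWeaklyRegular_of_supportDim rs A hCM hmem hd
    have hreg : RingTheory.Sequence.IsRegular A rs :=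
      (IsLocalRing.isRegular_iff_isWeaklyRegular_of_subset_maximalIdeal hmem).mpr hw
    exact Groth.Agent.S12288.result A (A ⧸ I) hs rs hreg (hkerI.trans hrs.symm) M
  · intro hT2
    have hT2' : ∀ (M : Type u) [AddCommGroup M] [Module (A ⧸ I) M],
        Subsingleton (CotT.T2 (CotT.canon A (A ⧸ I)) M) := by
      intro M _ _
      rw [red M]
      exact hT2 M
    obtain ⟨n, a, hspan, hmin⟩ := Groth.Agent.H6.H1Reg.exists_minimal_generators I
      (IsNoetherian.noetherian I)
    have hker : RingHom.ker (algebraMap A (A ⧸ I)) = Ideal.span (Set.range a) := hkerI.trans hspan.symm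
    have hP0 : ∀ (M : Type u) [AddCommGroup M] [Module (A ⧸ I) M],
        Subsingleton (CotT.T2 (Groth.Agent.H6.CotTP0.P0 hs a hker) M) := by
      intro M _ _
      obtain ⟨e2⟩ := Groth.Agent.H6.CotTHom.nonempty_T2equiv (CotT.canon A (A ⧸ I))
        (Groth.Agent.H6.CotTP0.P0 hs a hker) M
      haveI := hT2' M
      exact e2.symm.toEquiv.subsingleton
    have h1 := Groth.Agent.H6.CotTP0.relKer_le_trivRel hs a hker hmin hP0
    have h2 := Groth.Agent.H6.CotTP0.ker_le_TT_of_relKer_le hs a hker h1
    have ham : ∀ i, a i ∈ IsLocalRing.maximalIdeal A := by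
      intro i
      apply hIm
      rw [← hspan]
      exact Ideal.subset_span ⟨i, rfl⟩
    obtain ⟨rs, hlen, hof, hw⟩ := Groth.Agent.H6.H1Reg.exists_isWeaklyRegular n a ham h2
    have hmem : ∀ r ∈ rs, r ∈ IsLocalRing.maximalIdeal A := by
      intro r hr
      apply hIm
      rw [← hspan, ← hof]
      exact Ideal.subset_span hr
    have hreg : RingTheory.Sequence.IsRegular A rs :=
      (IsLocalRing.isRegular_iff_isWeaklyRegular_of_subset_maximalIdeal hmem).mpr hw
    have hrsI : Ideal.ofList rs = I := hof.trans hspan
    refine ⟨rs, hrsI, ?_⟩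
    have h3 := ringKrullDim_add_length_eq_ringKrullDim_of_isRegular rs hreg
    rw [hrsI, add_comm] at h3
    exact h3

end Groth.Agent.S12291
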