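import Groth.Statements.S12295
import Groth.Agent.Lib.Helper6.CotTHom

set_option autoImplicit false
universe u w m
open scoped TensorProduct
open DefT

namespace Groth.Agent.S12295

/-- Let k be a commutative ring, B a k-algebra and P a presentation of B over k with polynomial ring R =
k[x_i] (any set of variables), so that B = R/I; let P' be a presentation of B over R with no
polynomial variables (R itself mapping onto B, with chosen generators of I), and M a B-module. Then
T^2(B/R, M), computed from P', and T^2(B/k, M), computed from P, are isomorphic B-modules.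
(Existence of a B-linear isomorphism only; the published statement has finitely many variables over
a field and notes that any base ring works.) -/
theorem result
    (k B : Type u) [CommRing k] [CommRing B] [Algebra k B] (ι σ ι' σ' : Type w)
    (P : Algebra.Presentation k B ι σ) [IsEmpty ι']
    (P' : Algebra.Presentation P.toExtension.Ring B ι' σ')
    (M : Type m) [AddCommGroup M] [Module B M] :
    Nonempty (CotT.T2 P' M ≃ₗ[B] CotT.T2 P M) := by
  -- the ring map R → R' = R[∅]
  let τ : P.toExtension.Ring →+* P'.toExtension.Ring :=
    (MvPolynomial.C : P.toExtension.Ring →+* MvPolynomial ι' P.toExtension.Ring)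
  have hτ : ∀ r, algebraMap P'.toExtension.Ring B (τ r) = algebraMap P.toExtension.Ring B r := by
    intro r
    exact (IsScalarTower.algebraMap_apply P.toExtension.Ring P'.toExtension.Ring B r).symm
  have hr : ∀ s : σ, ∃ f : CotT.relMod P', CotT.jmap P' f = τ (CotT.rel P s) := by
    intro s
    have : τ (CotT.rel P s) ∈ LinearMap.range (CotT.jmap P') := by
      rw [CotT.range_jmap]
      change _ ∈ RingHom.ker (algebraMap P'.toExtension.Ring B)
      rw [RingHom.mem_ker, hτ, CotT.algebraMap_rel]
    exact this
  choose rv hrv using hr
  let h : Groth.Agent.H6.CotTHom.AM P P' := ⟨τ, hτ, rv, hrv⟩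
  -- the inverse ring map
  let e : P'.toExtension.Ring →+* P.toExtension.Ring :=
    ((MvPolynomial.isEmptyAlgEquiv P.toExtension.Ring ι' : MvPolynomial ι' P.toExtension.Ring ≃ₐ[P.toExtension.Ring] P.toExtension.Ring) :
      MvPolynomial ι' P.toExtension.Ring →+* P.toExtension.Ring)
  have heC : ∀ r : P.toExtension.Ring, e (τ r) = r := by
    intro r
    change (MvPolynomial.isEmptyAlgEquiv P.toExtension.Ring ι') (MvPolynomial.C r) = r
    simp
    exact MvPolynomial.coeff_zero_C r
  have hτe : ∀ x : P'.toExtension.Ring, τ (e x) = x := by
    intro x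
    have : (τ.comp e : MvPolynomial ι' P.toExtension.Ring →+* MvPolynomial ι' P.toExtension.Ring) = RingHom.id _ := by
      refine MvPolynomial.ringHom_ext (fun a => ?_) (fun i => isEmptyElim i)
      change τ (e (τ a)) = τ a
      rw [heC]
    exact RingHom.congr_fun this x
  have he : ∀ x, algebraMap P.toExtension.Ring B (e x) = algebraMap P'.toExtension.Ring B x := by
    intro x
    rw [← hτ, hτe]
  have hr' : ∀ s : σ', ∃ f : CotT.relMod P, CotT.jmap P f = e (CotT.rel P' s) := by
    intro s
    have : e (CotT.rel P' s) ∈ LinearMap.range (CotT.jmap P) := by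
      rw [CotT.range_jmap]
      change _ ∈ RingHom.ker (algebraMap P.toExtension.Ring B)
      rw [RingHom.mem_ker, he, CotT.algebraMap_rel]
    exact this
  choose rv' hrv' using hr'
  let g : Groth.Agent.H6.CotTHom.AM P' P := ⟨e, he, rv', hrv'⟩
  refine ⟨(Groth.Agent.H6.CotTHom.T2equiv h g (fun a => ?_) (fun a => ?_) M).symm⟩
  · exact heC _
  · exact hτe _

end Groth.Agent.S12295
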