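import Groth.Statements.S1231
-- import your own Groth.Agent.* helpers here

set_option autoImplicit false
universe u
open FlatMor

namespace Groth.Agent.S1231

namespace Groth.Agent.H1.S1231aux

open TensorProduct

section

variable {R T : Type u} [CommRing R] [CommRing T] [Algebra R T]
  (N : Type u) [AddCommGroup N] [Module T N] [Module R N] [IsScalarTower R T N]

/-- `Φ (a ⊗ b) n = a ⊗ b • n` -/
noncomputable def Φ : T ⊗[R] T →ₗ[R] (N →ₗ[R] T ⊗[R] N) :=
  TensorProduct.lift (LinearMap.mk₂ R
    (fun a b => (TensorProduct.mk R T N a) ∘ₗ ((LinearMap.lsmul T N b).restrictScalars R))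
    (by intros; ext; simp)
    (by intros; ext; simp [smul_tmul'])
    (by intros; ext; simp [tmul_add])
    (by intros; ext; simp))

@[simp] theorem Φ_tmul (a b : T) (n : N) : Φ N (a ⊗ₜ[R] b) n = a ⊗ₜ[R] (b • n) := by
  simp [Φ]

theorem Φ_mul_right (x : T ⊗[R] T) (t : T) (n : N) :
    Φ N (x * (1 ⊗ₜ[R] t)) n = Φ N x (t • n) := by
  induction x using TensorProduct.induction_on with
  | zero => simp
  | add a b ha hb => rw [add_mul, map_add, map_add, LinearMap.add_apply, LinearMap.add_apply, ha, hb]
  | tmul a b =>
    rw [Algebra.TensorProduct.tmul_mul_tmul, mul_one, Φ_tmul, Φ_tmul, mul_smul]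

theorem Φ_mul_left (x : T ⊗[R] T) (t : T) (n : N) :
    Φ N ((t ⊗ₜ[R] 1) * x) n = t • Φ N x n := by
  induction x using TensorProduct.induction_on with
  | zero => simp
  | add a b ha hb =>
    rw [mul_add, map_add, map_add, LinearMap.add_apply, LinearMap.add_apply, ha, hb, smul_add]
  | tmul a b =>
    rw [Algebra.TensorProduct.tmul_mul_tmul, one_mul, Φ_tmul, Φ_tmul, smul_tmul', smul_eq_mul]

theorem lift_Φ (x : T ⊗[R] T) (n : N) :
    LinearMap.liftBaseChange T (LinearMap.id : N →ₗ[R] N) (Φ N x n) =
      Algebra.TensorProduct.lmul' R x • n := by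
  induction x using TensorProduct.induction_on with
  | zero => simp
  | add a b ha hb =>
    rw [map_add, LinearMap.add_apply, map_add, ha, hb, map_add, add_smul]
  | tmul a b =>
    rw [Φ_tmul, LinearMap.liftBaseChange_tmul, Algebra.TensorProduct.lmul'_apply_tmul, LinearMap.id_apply,
      mul_smul]

theorem flat_of_flat_of_unramified [Algebra.EssFiniteType R T] [Algebra.FormallyUnramified R T]
    [Module.Flat R N] : Module.Flat T N := by
  let e := Algebra.FormallyUnramified.elem R T
  let s : N →ₗ[T] T ⊗[R] N :=
    { toFun := fun n => Φ N e n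
      map_add' := fun a b => map_add _ a b
      map_smul' := fun t n => by
        simp only [RingHom.id_apply]
        rw [← Φ_mul_right, mul_comm, Algebra.FormallyUnramified.one_tmul_mul_elem, Φ_mul_left] }
  refine Module.Flat.of_retract (R := T) (M := T ⊗[R] N) s
    (LinearMap.liftBaseChange T (LinearMap.id : N →ₗ[R] N)) ?_
  ext n
  change LinearMap.liftBaseChange T (LinearMap.id : N →ₗ[R] N) (Φ N e n) = n
  rw [lift_Φ, Algebra.FormallyUnramified.lmul_elem, one_smul]

theorem flat_iff_of_etale [Algebra.Etale R T] : Module.Flat R N ↔ Module.Flat T N := by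
  constructor
  · intro h
    exact flat_of_flat_of_unramified (R := R) N
  · intro h
    exact Module.Flat.trans R T N

end

end Groth.Agent.H1.S1231aux

/-- Let R → T be an étale ring map, C a T-algebra, N a C-module and q a prime of C. Then the
localization N_q is flat over R if and only if it is flat over T. In particular N is flat over R if
and only if it is flat over T. -/
theorem result {R T C : Type u} [CommRing R] [CommRing T] [CommRing C] [Algebra R T] [Algebra.Etale R T]
    [Algebra T C] [Algebra R C] [IsScalarTower R T C]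
    (N : Type u) [AddCommGroup N] [Module C N] [Module T N] [Module R N] [IsScalarTower T C N] [IsScalarTower R C N] [IsScalarTower R T N]
    (q : Ideal C) [q.IsPrime] :
    (FlatCA.FlatAt R q N ↔ FlatCA.FlatAt T q N) ∧ (Module.Flat R N ↔ Module.Flat T N) := by
  refine ⟨?_, Groth.Agent.H1.S1231aux.flat_iff_of_etale N⟩
  unfold FlatCA.FlatAt
  exact Groth.Agent.H1.S1231aux.flat_iff_of_etale (LocalizedModule q.primeCompl N)

end Groth.Agent.S1231
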