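import Groth.Statements.S1232
import Groth.Agent.Lib.Lead.QC.WeakAssFiniteFlat

set_option autoImplicit false
universe u
open FlatMor

namespace Groth.Agent.S1232

open TensorProduct in
/-- Let A → B be a finite flat ring map, M an A-module and t a prime of B lying over the prime p of A.
Then t is a weakly associated prime of the B-module B ⊗_A M if and only if p is a weakly associated
prime of M. -/
theorem result {A B : Type u} [CommRing A] [CommRing B] [Algebra A B] [Module.Finite A B] [Module.Flat A B]
    (M : Type u) [AddCommGroup M] [Module A M] (p : Ideal A) [p.IsPrime] (t : Ideal B) [t.IsPrime] [t.LiesOver p] :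
    t ∈ FlatCA.weakAss B (B ⊗[A] M) ↔ p ∈ FlatCA.weakAss A M := by
  have hpt : Ideal.comap (algebraMap A B) t = p := (Ideal.over_def t p).symm
  constructor
  · intro h
    have h1 := LD.QC.comap_mem_weakAss_of_finite (A := A) (B := B) (N := B ⊗[A] M) t h
    rw [hpt] at h1
    exact LD.QC.weakAss_tensor_subset_of_finite_flat M p h1
  · intro h
    rw [LD.QC.mem_weakAss_iff] at h ⊢
    obtain ⟨m, hm⟩ := h
    refine ⟨(TensorProduct.mk A B M 1) m, ?_⟩
    rw [LD.QC.ker_toSpanSingleton_baseChange_of_flat (TensorProduct.mk A B M 1)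
      (TensorProduct.isBaseChange A M B) m]
    refine ⟨⟨inferInstance, ?_⟩, ?_⟩
    · rw [Ideal.map_le_iff_le_comap, hpt]
      exact hm.1.2
    · rintro Q ⟨hQ, hIQ⟩ hQt
      haveI := hQ
      have h1 : p ≤ Ideal.comap (algebraMap A B) Q :=
        hm.2 ⟨Ideal.comap_isPrime _ Q, Ideal.map_le_iff_le_comap.mp hIQ⟩
          (hpt ▸ Ideal.comap_mono hQt)
      by_contra hne
      have hlt : Q < t := lt_of_le_of_ne hQt (fun h => hne (h ▸ le_rfl))
      have h2 := Ideal.IsIntegral.comap_lt_comap (R := A) hlt
      rw [hpt] at h2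
      exact absurd h1 (not_le_of_gt h2)

end Groth.Agent.S1232
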