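import Groth.Statements.S1240
import Mathlib
import Groth.Agent.Lib.Helper1.FlatDim2

set_option autoImplicit false
universe u
open FlatMor

namespace Groth.Agent.S1240

open AlgebraicGeometry CategoryTheory in
/-- Let f : X → S be flat and locally of finite type and U ⊆ S a dense open such that the fibres of f at
points over U have local dimension at most e everywhere. If f is locally of finite presentation, or
U is retrocompact in S, then every fibre of f has local dimension at most e at every point. -/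
theorem result {X S : Scheme.{u}} (f : X ⟶ S) [Flat f] [LocallyOfFiniteType f]
    (U : S.Opens) (hU : Dense (U : Set S)) (e : ℕ)
    (hle : ∀ x : X, f.base x ∈ U → FlatMor.fibreDimAt f x ≤ e)
    (h : LocallyOfFinitePresentation f ∨ IsRetrocompact (U : Set S)) (x : X) :
    FlatMor.fibreDimAt f x ≤ e := by
  -- affine neighbourhoods
  obtain ⟨W, hW, hsW⟩ : ∃ W : S.Opens, IsAffineOpen W ∧ f x ∈ W := by
    obtain ⟨_, ⟨W, hW, rfl⟩, hsW, -⟩ :=
      S.isBasis_affineOpens.exists_subset_of_mem_open (Set.mem_univ (f x)) isOpen_univ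
    exact ⟨W, hW, hsW⟩
  obtain ⟨V, hV, hxV, hVW⟩ : ∃ V : X.Opens, IsAffineOpen V ∧ x ∈ V ∧ V ≤ f ⁻¹ᵁ W := by
    obtain ⟨_, ⟨V, hV, rfl⟩, hxV, hVW⟩ :=
      X.isBasis_affineOpens.exists_subset_of_mem_open (a := x) (show x ∈ f ⁻¹ᵁ W from hsW)
        (f ⁻¹ᵁ W).isOpen
    exact ⟨V, hV, hxV, hVW⟩
  letI := (f.appLE W V hVW).hom.toAlgebra
  haveI : Algebra.FiniteType Γ(S, W) Γ(X, V) := LocallyOfFiniteType.finiteType_appLE f hW hV hVW
  haveI : Module.Flat Γ(S, W) Γ(X, V) := f.flat_appLE hW hV hVW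
  -- the dense open of the spectrum
  set O : Set (PrimeSpectrum Γ(S, W)) := hW.fromSpec ⁻¹' (U : Set S) with hO
  have hOo : IsOpen O := U.isOpen.preimage hW.fromSpec.continuous
  have hOd : Dense O := hU.preimage hW.fromSpec.isOpenEmbedding.isOpenMap
  -- the dimension of the pieces of the fibres
  have hpiece : ∀ (y : S) (hy : y ∈ W),
      topologicalKrullDim ↥((f.fiberι y) ⁻¹' (V : Set X)) =
        Groth.Agent.H1.FibDim.fibDim Γ(S, W) Γ(X, V) (hW.primeIdealOf ⟨y, hy⟩) := by
    intro y hy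
    letI := (S.evaluation W y hy).hom.toAlgebra
    rw [Groth.Agent.H1.GenFib.topologicalKrullDim_fiberPiece f hV hW hVW y hy]
    exact Groth.Agent.H1.FibDim.ringKrullDim_tensor_eq_fibDim Γ(S, W) Γ(X, V) (S.residueField y)
      (hW.primeIdealOf ⟨y, hy⟩) (Groth.Agent.H1.FibDim.ker_evaluation hW y hy)
  -- the bound over the dense open
  have hbound : ∀ (y : S) (hy : y ∈ W), y ∈ U →
      topologicalKrullDim ↥((f.fiberι y) ⁻¹' (V : Set X)) ≤ e := by
    intro y hy hyU
    refine Groth.Agent.H1.FlatDim.dim_opens_le_of_localDim_le ((f.fiberι y) ⁻¹ᵁ V) e (fun z _ => ?_)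
    rw [Groth.Agent.H1.Chev.localDim_fiber_eq_fibreDimAt f (f.fiberι y z) y (Groth.Agent.H1.GenFib.fiberι_apply_mem f y z) z rfl]
    apply hle
    rw [Groth.Agent.H1.GenFib.fiberι_apply_mem f y z]
    exact hyU
  -- the local dimension at `x`
  have hx : FlatMor.fibreDimAt f x ≤ Groth.Agent.H1.FibDim.fibDim Γ(S, W) Γ(X, V) (hW.primeIdealOf ⟨f x, hsW⟩) := by
    rw [← hpiece (f x) hsW]
    refine Groth.Agent.H3.TopDim.localDim_le_dim_of_mem ((f.fiberι (f x)) ⁻¹ᵁ V) ?_
    change f.fiberι (f x) (f.asFiber x) ∈ V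
    rw [f.fiberι_asFiber]
    exact hxV
  -- a point of the dense open with larger fibre dimension
  obtain ⟨q, hqO, hq⟩ : ∃ q ∈ O, Groth.Agent.H1.FibDim.fibDim Γ(S, W) Γ(X, V) (hW.primeIdealOf ⟨f x, hsW⟩) ≤
      Groth.Agent.H1.FibDim.fibDim Γ(S, W) Γ(X, V) q := by
    rcases h with h | h
    · haveI : Algebra.FinitePresentation Γ(S, W) Γ(X, V) := f.finitePresentation_appLE hW hV hVW
      exact Groth.Agent.H1.FlatDim.exists_mem_fibDim_le_of_dense _ _ _ O hOo hOd
    · have hOc : IsCompact O := by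
        have h1 : IsCompact ((U : Set S) ∩ (W : Set S)) := h hW.isCompact W.isOpen
        have h2 : O = hW.fromSpec ⁻¹' ((U : Set S) ∩ (W : Set S)) := by
          ext p
          change hW.fromSpec p ∈ (U : Set S) ↔ hW.fromSpec p ∈ (U : Set S) ∩ W
          refine ⟨fun hp => ⟨hp, ?_⟩, fun hp => hp.1⟩
          rw [← hW.range_fromSpec]
          exact ⟨p, rfl⟩
        rw [h2]
        refine (hW.fromSpec.isOpenEmbedding.isEmbedding.isCompact_preimage_iff ?_).mpr h1
        rw [hW.range_fromSpec]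
        exact Set.inter_subset_right
      obtain ⟨q, hqO, hqp⟩ := Groth.Agent.H1.FlatDim.exists_le_mem_of_dense_of_isCompact _ _ O hOo hOc hOd
      exact ⟨q, hqO, Groth.Agent.H1.FlatDim.fibDim_le_of_le _ _ _ q hqp⟩
  refine hx.trans (hq.trans ?_)
  have hyW : hW.fromSpec q ∈ W := by
    rw [← SetLike.mem_coe, ← hW.range_fromSpec]
    exact ⟨q, rfl⟩
  have : hW.primeIdealOf ⟨hW.fromSpec q, hyW⟩ = q := by
    apply hW.fromSpec.isOpenEmbedding.injective
    rw [hW.fromSpec_primeIdealOf]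
  rw [← this, ← hpiece _ hyW]
  exact hbound _ hyW hqO

end Groth.Agent.S1240
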