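import Groth.Statements.S12416
import Mathlib
import Groth.Agent.S12478
import Groth.Agent.H4.FTImm4
import Groth.Agent.S5729
import Groth.Agent.S8259
import Groth.Agent.Lib.Lead.QC.AmpleFamily
import Groth.Agent.Lib.Lead.QC.TensorPow

set_option autoImplicit false
universe u
open CategoryTheory CategoryTheory.Limits AlgebraicGeometry
open RelProj

namespace Groth.Agent.S12416

/-- Over a quasi-compact and quasi-separated base scheme S, a morphism f : X → S which is proper and
quasi-projective (of finite type with an f-ample invertible module) is projective, i.e. X is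
isomorphic over S to the relative homogeneous spectrum of a quasi-coherent graded algebra generated
by its degree-one part, with degree-one part of finite type. -/
theorem result {X S : Scheme.{u}} (f : X ⟶ S)
    [CompactSpace S] [QuasiSeparatedSpace S] [IsProper f] (hq : RelProj.IsQuasiProjective f) :
    RelProj.IsProjective f := by
  obtain ⟨hlft, hqc, L, hL⟩ := hq
  haveI := hlft
  haveI := hqc
  have hinv : PicF.IsInvertible L := Groth.Agent.LD.QC.isInvertible_of_isRelAmple f L hL
  obtain ⟨n₀, -, hva⟩ := Groth.Agent.S12478.result f L hinv hL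
  have hva' := hva n₀ le_rfl
  have hinvn : PicF.IsInvertible (CohB1.tensorPow L n₀) :=
    Groth.Agent.LD.QC.isInvertible_tensorPow hinv n₀
  obtain ⟨E, 𝒯, j, P, p, chart, O1, lam, i, hE, hft, hj, hP, -, hi, hip, -⟩ :=
    Groth.Agent.H4.FTImm4.main_qcqs f (CohB1.tensorPow L n₀) hinvn hva'
  haveI : IsSeparated p := Groth.Agent.S8259.result 𝒯 p chart hP
  haveI : IsProper (i ≫ p) := by rw [hip]; infer_instance
  haveI : IsProper i := IsProper.of_comp i p
  haveI := hi
  have hcl : IsClosed (Set.range i) := by
    rw [← Set.image_univ]
    exact i.isClosedMap _ isClosed_univ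
  exact (Groth.Agent.S5729.result f).mpr
    ⟨E, 𝒯, j, P, p, chart, i, hE, hft, hj, hP, IsClosedImmersion.of_isPreimmersion i hcl, hip⟩

end Groth.Agent.S12416
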