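import Groth.Statements.S12447
import Groth.Agent.Lib.Helper6.Cat2

set_option autoImplicit false
universe u
open CategoryTheory AlgebraicGeometry
open Props

namespace Groth.Agent.S12447

/-- Let S be a locally Noetherian scheme. Then the underlying topological space of S is catenary if and
only if locally in the Zariski topology there is a dimension function, i.e. every point has an open
neighbourhood U carrying a function δ : U → ℤ which strictly decreases along nontrivial
specializations and drops by exactly one along immediate specializations. -/
theorem result (S : Scheme.{u}) [IsLocallyNoetherian S] :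
    PtTop.IsCatenarySpace S ↔
      ∀ s : S, ∃ U : S.Opens, s ∈ U ∧ ∃ δ : U → ℤ, PtTop.IsDimensionFunction δ := by
  constructor
  · intro hC s
    obtain ⟨U₀, hU₀, hs, -⟩ := AlgebraicGeometry.exists_isAffineOpen_mem_and_subset (x := s)
      (U := ⊤) trivial
    have : IsNoetherianRing Γ(S, U₀) := IsLocallyNoetherian.component_noetherian ⟨U₀, hU₀⟩
    exact @Groth.Agent.H6.Cat.exists_dimFun_of_cat _ _ _ _ hC s U₀ hs
      (noetherianSpace_of_isAffineOpen U₀ hU₀)
  · intro h
    exact Groth.Agent.H6.Cat.cat_of_dimFun h

end Groth.Agent.S12447
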