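import Groth.Statements.S12456
import Groth.Agent.Lib.Helper3.Thk1

set_option autoImplicit false
universe u
open CategoryTheory AlgebraicGeometry
open OmegaSh

namespace Groth.Agent.S12456

/-- Let i : Z → X be an immersion, written as the closed subscheme of an open U ⊆ X cut out by an ideal
sheaf I followed by the inclusion of U. Then the first order infinitesimal neighbourhood of Z in X —
the closed subscheme of U cut out by I² — together with Z ⊂ V(I²) and V(I²) → U → X is a universal
first order thickening of Z over X. (The inequality I² ≤ I is carried as an argument h; it always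
holds.) -/
theorem result {X : Scheme.{u}} (U : X.Opens) (I : (U : Scheme.{u}).IdealSheafData)
    (h : I ^ 2 ≤ I) :
    OmegaSh.IsUnivThickening (I.subschemeι ≫ U.ι) (Scheme.IdealSheafData.inclusion h)
      ((I ^ 2).subschemeι ≫ U.ι) := by
  haveI hcl : IsClosedImmersion (Scheme.IdealSheafData.inclusion h) :=
    IsClosedImmersion.of_comp (Scheme.IdealSheafData.inclusion h) (I ^ 2).subschemeι
  have hsurj : Function.Surjective (Scheme.IdealSheafData.inclusion h) := by
    intro z
    have hz : (I ^ 2).subschemeι z ∈ Set.range I.subschemeι := by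
      rw [Scheme.IdealSheafData.range_subschemeι, ← Scheme.IdealSheafData.support_pow I 2 (by norm_num),
        ← Scheme.IdealSheafData.range_subschemeι]
      exact ⟨z, rfl⟩
    obtain ⟨w, hw⟩ := hz
    refine ⟨w, ?_⟩
    apply (I ^ 2).subschemeι.isClosedEmbedding.injective
    rw [← hw, ← Scheme.Hom.comp_apply, Scheme.IdealSheafData.inclusion_subschemeι]
  refine ⟨⟨⟨hcl, ⟨hsurj⟩⟩, ?_⟩, ?_, ?_⟩
  · have hI1 : (Scheme.IdealSheafData.inclusion h ≫ (I ^ 2).subschemeι).ker = I := by
      rw [Scheme.IdealSheafData.inclusion_subschemeι, Scheme.IdealSheafData.ker_subschemeι]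
    refine Scheme.IdealSheafData.ext_of_iSup_eq_top
      (fun V : (U : Scheme.{u}).affineOpens =>
        (⟨(I ^ 2).subschemeι ⁻¹ᵁ V.1, V.2.preimage (I ^ 2).subschemeι⟩ :
          (I ^ 2).subscheme.affineOpens)) ?_ ?_
    · rw [eq_top_iff]
      intro z _
      have hz : (I ^ 2).subschemeι z ∈ (⊤ : (U : Scheme.{u}).Opens) := trivial
      rw [← iSup_affineOpens_eq_top] at hz
      obtain ⟨V, hV⟩ := TopologicalSpace.Opens.mem_iSup.mp hz
      exact TopologicalSpace.Opens.mem_iSup.mpr ⟨V, hV⟩
    · intro V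
      rw [Scheme.IdealSheafData.ideal_mul, Pi.mul_apply, Scheme.IdealSheafData.ideal_bot,
        Pi.bot_apply, ← le_bot_iff, Ideal.mul_le]
      intro x hx y hy
      rw [Scheme.Hom.ker_apply, RingHom.mem_ker] at hx hy
      obtain ⟨x₀, rfl⟩ := (I ^ 2).subschemeι.app_surjective V.1 V.2 x
      obtain ⟨y₀, rfl⟩ := (I ^ 2).subschemeι.app_surjective V.1 V.2 y
      have hx₀ : x₀ ∈ I.ideal V := by
        rw [← hI1, Scheme.Hom.ker_apply, RingHom.mem_ker, Scheme.Hom.comp_app]
        exact hx
      have hy₀ : y₀ ∈ I.ideal V := by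
        rw [← hI1, Scheme.Hom.ker_apply, RingHom.mem_ker, Scheme.Hom.comp_app]
        exact hy
      have h2 : x₀ * y₀ ∈ (I ^ 2).ideal V := by
        rw [Scheme.IdealSheafData.ideal_pow, Pi.pow_apply, pow_two]
        exact Ideal.mul_mem_mul hx₀ hy₀
      rw [← (I ^ 2).ker_subschemeι, Scheme.Hom.ker_apply, RingHom.mem_ker, map_mul] at h2
      exact h2
  · rw [Scheme.IdealSheafData.inclusion_subschemeι_assoc]
  · intro T T' j b a hj hb
    have hjs : Function.Surjective j := hj.1.2.surj
    have hrange : Set.range b ⊆ Set.range U.ι := by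
      rintro _ ⟨t', rfl⟩
      obtain ⟨t, rfl⟩ := hjs t'
      rw [← Scheme.Hom.comp_apply, hb]
      exact ⟨_, rfl⟩
    let bU : T' ⟶ U := IsOpenImmersion.lift U.ι b hrange
    have hbU : bU ≫ U.ι = b := IsOpenImmersion.lift_fac _ _ _
    have hjb : j ≫ bU = a ≫ I.subschemeι := by
      rw [← cancel_mono U.ι, Category.assoc, hbU, hb, Category.assoc]
    have hI : I ≤ (j ≫ bU).ker := by
      rw [hjb]
      conv_lhs => rw [← I.ker_subschemeι]
      exact Scheme.Hom.le_ker_comp a I.subschemeι
    have hker : I ^ 2 ≤ bU.ker := by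
      rw [Scheme.Hom.ker, Scheme.IdealSheafData.le_ofIdeals_iff]
      intro V
      rw [Scheme.IdealSheafData.ideal_pow, Pi.pow_apply, pow_two, Ideal.mul_le]
      intro r hr s hs
      rw [RingHom.mem_ker, map_mul]
      have h1 : ∀ r ∈ I.ideal V, (j.app (bU ⁻¹ᵁ V.1)).hom ((bU.app V.1).hom r) = 0 := by
        intro r hr
        have := Scheme.Hom.ideal_ker_le (j ≫ bU) V (hI V hr)
        rw [RingHom.mem_ker] at this
        rw [Scheme.Hom.comp_app] at this
        exact this
      exact Groth.Agent.H3.Thk.mul_eq_zero_of_app_eq_zero j hj _ _ _ (h1 r hr) (h1 s hs)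
    let a' : T' ⟶ (I ^ 2).subscheme :=
      IsClosedImmersion.lift (I ^ 2).subschemeι bU (by rw [Scheme.IdealSheafData.ker_subschemeι]; exact hker)
    have ha' : a' ≫ (I ^ 2).subschemeι = bU := IsClosedImmersion.lift_fac _ _ _
    refine ⟨a', ⟨?_, ?_⟩, ?_⟩
    · rw [← cancel_mono (I ^ 2).subschemeι, Category.assoc, ha', Category.assoc,
        Scheme.IdealSheafData.inclusion_subschemeι, hjb]
    · rw [← Category.assoc, ha', hbU]
    · rintro a'' ⟨h1, h2⟩
      have h3 : a'' ≫ (I ^ 2).subschemeι ≫ U.ι = a' ≫ (I ^ 2).subschemeι ≫ U.ι := by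
        rw [h2, ← Category.assoc, ha', hbU]
      rw [← Category.assoc, ← Category.assoc, cancel_mono, cancel_mono] at h3
      exact h3

end Groth.Agent.S12456
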