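import Groth.Statements.S12491
import Groth.Agent.Lib.Helper6.Syz1
import Groth.Agent.Lib.Helper1.RegLoc
import Groth.Agent.Lib.Helper1.RegGlobal

set_option autoImplicit false
universe u
open VBPn

namespace Groth.Agent.S12491

/-- Let A be a regular local ring, k ≥ 0, and N_0, N_1, … A-modules with N_0 finitely generated and N_1,
…, N_k finitely generated and free, with linear maps d_i : N_i → N_{i+1} such that d_0 is injective
and the sequence 0 → N_0 → N_1 → ⋯ → N_k is exact. Then for every prime ideal p of A of height at
most k the localization of N_0 at p is a free module over A_p. The published statement is for a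
coherent analytic sheaf on a complex manifold that is locally a k-th syzygy sheaf and says its set
of non-free stalks has codimension greater than k; this row is the statement at one stalk, over any
regular local ring. -/
theorem result (A : Type u) [CommRing A] [IsRegularLocalRing A]
    (k : ℕ) (N : ℕ → Type u) [∀ i, AddCommGroup (N i)] [∀ i, Module A (N i)] [Module.Finite A (N 0)]
    (hfree : ∀ i, 1 ≤ i → i ≤ k → Module.Free A (N i) ∧ Module.Finite A (N i))
    (d : ∀ i, N i →ₗ[A] N (i + 1)) (hinj : Function.Injective (d 0))
    (hex : ∀ i, i + 1 < k → LinearMap.range (d i) = LinearMap.ker (d (i + 1)))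
    (p : Ideal A) [p.IsPrime] (hp : p.height ≤ k) :
    Module.Free (Localization.AtPrime p) (LocalizedModule p.primeCompl (N 0)) := by
  haveI : IsRegularLocalRing (Localization.AtPrime p) :=
    Groth.Agent.H1.Reg.isRegularLocalRing_localization A p
  obtain ⟨h, hh⟩ : ∃ h : ℕ, p.height = h := by
    have : p.height ≠ ⊤ := ne_top_of_le_ne_top (ENat.coe_ne_top k) hp
    exact ⟨p.height.toNat, (ENat.coe_toNat this).symm⟩
  have hhk : h ≤ k := by
    rw [hh] at hp
    exact_mod_cast hp
  have hdim : ringKrullDim (Localization.AtPrime p) = (h : WithBot ℕ∞) := by
    rw [IsLocalization.AtPrime.ringKrullDim_eq_height p (Localization.AtPrime p), hh]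
    rfl
  have gd : ∀ X : ModuleCat.{u} (Localization.AtPrime p),
      CategoryTheory.HasProjectiveDimensionLT X (k + 1) := by
    intro X
    have := Groth.Agent.H1.Reg.hasProjectiveDimensionLT_of_isRegularLocalRing
      (Localization.AtPrime p) h hdim X
    exact CategoryTheory.hasProjectiveDimensionLT_of_ge X (h + 1) (k + 1) (by omega)
  haveI : Module.Projective (Localization.AtPrime p) (LocalizedModule p.primeCompl (N 0)) := by
    refine Groth.Agent.H6.Syz.projective_of_exact k
      (fun i => LocalizedModule p.primeCompl (N i))
      (fun i => LocalizedModule.map p.primeCompl (d i)) ?_ ?_ ?_ gd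
    · exact LocalizedModule.map_injective p.primeCompl (d 0) hinj
    · intro i hi
      have h1 : Function.Exact (d i) (d (i + 1)) := by
        intro y
        rw [← LinearMap.mem_ker, ← hex i hi]
        rfl
      have h2 := LocalizedModule.map_exact p.primeCompl (d i) (d (i + 1)) h1
      ext y
      rw [LinearMap.mem_ker]
      exact (h2 y).symm
    · intro i h1 h2
      obtain ⟨hf1, hf2⟩ := hfree i h1 h2
      infer_instance
  haveI : Module.Finite (Localization.AtPrime p) (LocalizedModule p.primeCompl (N 0)) :=
    Module.Finite.of_isLocalizedModule p.primeCompl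
      (LocalizedModule.mkLinearMap p.primeCompl (N 0))
  exact Module.free_of_flat_of_isLocalRing

end Groth.Agent.S12491
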