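import Groth.Statements.S12515
import Groth.Agent.Lib.Helper5.Quad.Basic

set_option autoImplicit false
open FunFld

namespace Groth.Agent.S12515

/-- If `char k ≠ 2` and `K` has degree `2` over the rational function field `k(x)`, then `K = k(x)(y)`
for some `y` with `y² = f(x)`, `f` a squarefree polynomial over `k`. -/
theorem result (k K : Type*) [Field k] [Field K] (h2 : ringChar k ≠ 2)
    [Algebra (RatFunc k) K] (hdeg : Module.finrank (RatFunc k) K = 2) :
    ∃ (y : K) (f : Polynomial k), Squarefree f ∧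
      y ^ 2 = algebraMap (RatFunc k) K (algebraMap (Polynomial k) (RatFunc k) f) ∧
      IntermediateField.adjoin (RatFunc k) ({y} : Set K) = ⊤ := by
  classical
  have h2k : (2 : k) ≠ 0 := Ring.two_ne_zero h2
  have h2E : (2 : RatFunc k) ≠ 0 := by
    have : (2 : RatFunc k) = algebraMap k (RatFunc k) 2 := (map_ofNat _ 2).symm
    rw [this, Ne, map_eq_zero]; exact h2k
  have h2K : (2 : K) ≠ 0 := by
    have : (2 : K) = algebraMap (RatFunc k) K 2 := (map_ofNat _ 2).symm
    rw [this, Ne, map_eq_zero]; exact h2E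
  obtain ⟨z, hz⟩ := Quad.exists_notMem_range hdeg
  obtain ⟨b, c, hrel, -⟩ := Quad.exists_quadratic hdeg hz
  set ι := algebraMap (RatFunc k) K with hι
  set y₀ : K := z + ι (b / 2) with hy₀
  set d : RatFunc k := b ^ 2 / 4 - c with hd
  have hy₀sq : y₀ ^ 2 = ι d := by
    rw [hy₀, hd, map_sub, map_div₀, map_div₀, map_pow]
    have h4 : ι 4 = 4 := map_ofNat ι 4
    have h2' : ι 2 = 2 := map_ofNat ι 2
    have h4K : (4 : K) ≠ 0 := by
      rw [show (4 : K) = 2 * 2 by norm_num]; exact mul_ne_zero h2K h2K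
    rw [h4, h2']
    field_simp
    linear_combination 16 * hrel
  have hy₀mem : y₀ ∉ Set.range ι := by
    rintro ⟨w, hw⟩
    apply hz
    refine ⟨w - b / 2, ?_⟩
    rw [map_sub, hw, hy₀]; ring
  have hd0 : d ≠ 0 := by
    intro h0
    rw [h0, map_zero] at hy₀sq
    apply hy₀mem
    exact ⟨0, by rw [map_zero]; exact (pow_eq_zero_iff (two_ne_zero)).mp hy₀sq |>.symm⟩
  set n := d.num with hn
  set m := d.denom with hm
  have hm0 : m ≠ 0 := RatFunc.denom_ne_zero d
  have hn0 : n ≠ 0 := RatFunc.num_ne_zero hd0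
  have hnm : algebraMap (Polynomial k) (RatFunc k) n / algebraMap (Polynomial k) (RatFunc k) m = d :=
    RatFunc.num_div_denom d
  obtain ⟨g, f, hg0, hf, hgf⟩ := Quad.exists_sq_mul_squarefree (n * m) (mul_ne_zero hn0 hm0)
  set j := algebraMap (Polynomial k) (RatFunc k) with hj
  have hjm : j m ≠ 0 := by
    rw [Ne, map_eq_zero_iff _ (IsFractionRing.injective (Polynomial k) (RatFunc k))]; exact hm0
  have hjg : j g ≠ 0 := by
    rw [Ne, map_eq_zero_iff _ (IsFractionRing.injective (Polynomial k) (RatFunc k))]; exact hg0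
  have hιm : ι (j m) ≠ 0 := by rwa [Ne, map_eq_zero]
  have hιg : ι (j g) ≠ 0 := by rwa [Ne, map_eq_zero]
  refine ⟨ι (j m / j g) * y₀, f, hf, ?_, ?_⟩
  · rw [mul_pow, hy₀sq, ← map_pow, ← map_mul]
    congr 1
    have h1 : j (n * m) = j (g ^ 2 * f) := by rw [hgf]
    rw [map_mul, map_mul, map_pow] at h1
    rw [← hnm, div_pow]
    field_simp
    linear_combination h1
  · apply Quad.adjoin_eq_top_of_notMem hdeg
    rintro ⟨w, hw⟩
    apply hy₀mem
    refine ⟨w * (j g / j m), ?_⟩
    rw [map_mul, hw, map_div₀, map_div₀]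
    field_simp

end Groth.Agent.S12515
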