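import Groth.Statements.S12516
import Groth.Agent.Lib.Helper7.QL1
import Groth.Agent.Lib.Helper7.RF1
-- import your own Groth.Agent.* helpers here

set_option autoImplicit false
open FunFld

namespace Groth.Agent.S12516

/-- Let `char k ≠ 2`, `K` of degree `2` over `k(x)`, `y ∈ K` with `y² = f(x)` for a squarefree
polynomial `f` of degree `≥ 1`, and `P∞` the place of `k(x)` at which `x` has a pole. If `deg f` is
odd there is a unique place of `K` above `P∞`; it has ramification index `2` and degree `1`. If `deg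
f` is even, every place of `K` above `P∞` is unramified and the conorm of `P∞` has degree `2` (so it
is one place of degree `2` or the sum of two places of degree `1`). -/
theorem result (k K : Type*) [Field k] [Field K] (h2 : ringChar k ≠ 2) [Algebra k K]
    [Algebra (RatFunc k) K] [IsScalarTower k (RatFunc k) K]
    (hdeg : Module.finrank (RatFunc k) K = 2) (y : K) (f : Polynomial k) (hf : Squarefree f)
    (hd : 1 ≤ f.natDegree)
    (heq : y ^ 2 = algebraMap (RatFunc k) K (algebraMap (Polynomial k) (RatFunc k) f))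
    (Pinf : FunFld.Place k (RatFunc k)) (hinf : Pinf.ord (RatFunc.X : RatFunc k) < 0) :
    (Odd f.natDegree → (∃! P : FunFld.Place k K, FunFld.IsOver P Pinf) ∧
      ∀ P : FunFld.Place k K, FunFld.IsOver P Pinf → FunFld.IsOverWith P Pinf 2 ∧ P.deg = 1) ∧
    (Even f.natDegree → (FunFld.conorm K (Finsupp.single Pinf 1)).deg = 2 ∧
      ∀ P : FunFld.Place k K, FunFld.IsOver P Pinf → FunFld.IsOverWith P Pinf 1) := by
  have hF := Groth.Agent.H7.RF.isFunctionField (k := k)
  haveI := Groth.Agent.H7.QL.finiteDimensional_of_finrank hdeg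
  have hX0 : (RatFunc.X : RatFunc k) ≠ 0 := RatFunc.X_ne_zero
  have hX : 1 < Pinf.1 (RatFunc.X : RatFunc k) := by
    rw [← not_le, Pinf.v_le_one_iff hX0]
    omega
  have hordX := Groth.Agent.H7.RF.ord_X_of_pole Pinf hX
  have hdeg1 := Groth.Agent.H7.RF.deg_of_pole Pinf hX
  have hf0 := hf.ne_zero
  have hordf : Pinf.ord (algebraMap (Polynomial k) (RatFunc k) f) = -(f.natDegree : ℤ) := by
    rw [Groth.Agent.H7.RF.ord_poly_of_pole Pinf hX hf0, hordX]
    ring
  refine ⟨?_, ?_⟩
  · intro hodd
    have hram : ∀ P : FunFld.Place k K, FunFld.IsOver P Pinf → FunFld.IsOverWith P Pinf 2 :=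
      fun P hP => Groth.Agent.H7.QL.isOverWith_two_of_sq hF hdeg heq
        (by rw [hordf]; exact ((Int.odd_coe_nat _).2 hodd).neg) hP
    obtain ⟨Q, hQ⟩ := Groth.Agent.H7.QL.exists_isOver (K := K) hF Pinf
    have hu := Groth.Agent.H7.QL.unique_of_ramIdx_eq hF hQ (by rw [(hram Q hQ).ramIdx_eq, hdeg])
    refine ⟨⟨Q, hQ, fun Q' hQ' => hu.2 Q' hQ'⟩, fun P hP => ⟨hram P hP, ?_⟩⟩
    rw [hu.2 P hP, hu.1, hdeg1]
  · rintro ⟨m, hm⟩
    refine ⟨?_, ?_⟩
    · rw [FunFld.deg_conorm hF, FunFld.Divisor.deg_single, hdeg, hdeg1]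
      norm_num
    · intro P hP
      have hy := Groth.Agent.H7.RF.notMem_range_of_sq hf hd heq
      have hXm : algebraMap (RatFunc k) K ((RatFunc.X : RatFunc k) ^ m) ≠ 0 := by
        rw [Ne, map_eq_zero_iff _ (algebraMap (RatFunc k) K).injective]
        exact pow_ne_zero _ hX0
      have hy' : y / algebraMap (RatFunc k) K ((RatFunc.X : RatFunc k) ^ m) ∉
          Set.range (algebraMap (RatFunc k) K) := by
        rintro ⟨w, hw⟩
        apply hy
        refine ⟨w * (RatFunc.X : RatFunc k) ^ m, ?_⟩
        rw [map_mul, hw]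
        field_simp
      have heq' : (y / algebraMap (RatFunc k) K ((RatFunc.X : RatFunc k) ^ m)) ^ 2 +
          algebraMap (RatFunc k) K 0 *
            (y / algebraMap (RatFunc k) K ((RatFunc.X : RatFunc k) ^ m)) =
          algebraMap (RatFunc k) K (algebraMap (Polynomial k) (RatFunc k) f /
            ((RatFunc.X : RatFunc k) ^ m) ^ 2) := by
        rw [map_zero, zero_mul, add_zero, _root_.div_pow, heq, ← map_pow, ← map_div₀]
      have hu1 : Pinf.1 (algebraMap (Polynomial k) (RatFunc k) f /
            ((RatFunc.X : RatFunc k) ^ m) ^ 2) = 1 := by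
        rw [Pinf.v_eq_one_iff (div_ne_zero (RatFunc.algebraMap_ne_zero hf0)
          (pow_ne_zero _ (pow_ne_zero _ hX0))), Pinf.ord_div (RatFunc.algebraMap_ne_zero hf0)
          (pow_ne_zero _ (pow_ne_zero _ hX0)), hordf, Pinf.ord_pow, Pinf.ord_pow, hordX, hm]
        push_cast
        ring
      have h4 : Pinf.1 (4 : RatFunc k) = 1 := by
        have h4' : (4 : RatFunc k) = algebraMap k (RatFunc k) 4 := (map_ofNat _ 4).symm
        rw [h4']
        apply Pinf.v_algebraMap
        have h2' := Ring.two_ne_zero h2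
        intro h
        apply h2'
        have h22 : (4 : k) = 2 * 2 := by norm_num
        rw [h22] at h
        exact mul_self_eq_zero.1 h
      exact Groth.Agent.H7.QL.isOverWith_one_of_disc hF hdeg hy' heq' (by simp) hu1.le
        (by rw [zero_pow two_ne_zero, zero_add, map_mul, h4, hu1, one_mul]) hP

end Groth.Agent.S12516
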