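import Groth.Statements.S12517
import Groth.Agent.Lib.Helper5.Quad.Basic

set_option autoImplicit false
open FunFld

namespace Groth.Agent.S12517

/-- If `k` is perfect of characteristic `2` and `K` is a separable extension of degree `2` of the
rational function field `k(x)`, then `K = k(x)(y)` for some `y` with `y² + y = f(x)`, `f ∈ k(x)`.
The correspondence between such extensions and cosets of `{a² + a}` in `k(x)` is not stated. -/
theorem result (k K : Type*) [Field k] [Field K] [PerfectField k]
    (h2 : ringChar k = 2) [Algebra (RatFunc k) K] (hdeg : Module.finrank (RatFunc k) K = 2)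
    [Algebra.IsSeparable (RatFunc k) K] :
    ∃ (y : K) (f : RatFunc k), y ^ 2 + y = algebraMap (RatFunc k) K f ∧
      IntermediateField.adjoin (RatFunc k) ({y} : Set K) = ⊤ := by
  classical
  have : CharP k 2 := ringChar.of_eq h2
  have : CharP (RatFunc k) 2 := charP_of_injective_algebraMap (algebraMap k (RatFunc k)).injective 2
  have : CharP K 2 := charP_of_injective_algebraMap (algebraMap (RatFunc k) K).injective 2
  obtain ⟨z, hz⟩ := Quad.exists_notMem_range hdeg
  obtain ⟨b, c, hrel, hmin⟩ := Quad.exists_quadratic hdeg hz
  have hsep : (minpoly (RatFunc k) z).Separable := Algebra.IsSeparable.isSeparable (RatFunc k) z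
  have hb : b ≠ 0 := by
    intro hb
    rw [hmin, hb] at hsep
    have hder : Polynomial.derivative (Polynomial.X ^ 2 + Polynomial.C (0 : RatFunc k) * Polynomial.X +
        Polynomial.C c) = 0 := by
      simp only [map_zero, zero_mul, add_zero, Polynomial.derivative_add, Polynomial.derivative_X_pow,
        Polynomial.derivative_C]
      have h := CharP.cast_eq_zero (RatFunc k) 2
      rw [h, map_zero, zero_mul]
    rw [Polynomial.separable_def, hder, isCoprime_zero_right] at hsep
    have := Polynomial.natDegree_eq_zero_of_isUnit hsep
    have h2' : (Polynomial.X ^ 2 + Polynomial.C (0 : RatFunc k) * Polynomial.X +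
        Polynomial.C c).natDegree = 2 := by
      rw [map_zero, zero_mul, add_zero, Polynomial.natDegree_X_pow_add_C]
    omega
  have hbK : algebraMap (RatFunc k) K b ≠ 0 := by
    rwa [Ne, map_eq_zero]
  refine ⟨z / algebraMap (RatFunc k) K b, c / b ^ 2, ?_, ?_⟩
  · rw [map_div₀, map_pow, eq_div_iff (pow_ne_zero 2 hbK)]
    have h2K : (2 : K) = 0 := by
      have := CharP.cast_eq_zero K 2
      exact_mod_cast this
    have hneg : -algebraMap (RatFunc k) K c = algebraMap (RatFunc k) K c := by
      rw [neg_eq_iff_add_eq_zero, ← two_mul, h2K, zero_mul]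
    have : z ^ 2 + algebraMap (RatFunc k) K b * z = algebraMap (RatFunc k) K c := by
      rw [← hneg]; linear_combination hrel
    rw [← this]
    field_simp
  · apply Quad.adjoin_eq_top_of_notMem hdeg
    rintro ⟨w, hw⟩
    apply hz
    refine ⟨w * b, ?_⟩
    rw [map_mul, hw, div_mul_cancel₀ _ hbK]

end Groth.Agent.S12517
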