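import Groth.Statements.S12518
import Groth.Agent.Lib.Helper7.Old.AS1
-- import your own Groth.Agent.* helpers here

set_option autoImplicit false
open FunFld

namespace Groth.Agent.S12518

/-- If `k` is perfect of characteristic `2` and `K` is a separable extension of degree `2` of `k(x)`,
then `K = k(x)(y)` for some `y` with `y² + y = f(x)` such that every pole of `f`, at any place of
`k(x)/k` including the infinite one, has odd order. -/
theorem result (k K : Type*) [Field k] [Field K] [PerfectField k] (h2 : ringChar k = 2)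
    [Algebra k K] [Algebra (RatFunc k) K] [IsScalarTower k (RatFunc k) K]
    (hdeg : Module.finrank (RatFunc k) K = 2) [Algebra.IsSeparable (RatFunc k) K] :
    ∃ (y : K) (f : RatFunc k), y ^ 2 + y = algebraMap (RatFunc k) K f ∧
      IntermediateField.adjoin (RatFunc k) ({y} : Set K) = ⊤ ∧
      ∀ P : FunFld.Place k (RatFunc k), P.ord f < 0 → Odd (P.ord f) := by
  have hF := Groth.Agent.H7.RF.isFunctionField (k := k)
  have hg0 : FunFld.genus k (RatFunc k) = 0 :=
    FunFld.genus_eq_zero_of_adjoin_eq_top hF RatFunc.adjoin_X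
  obtain ⟨y₀, f₀, hy₀, heq₀⟩ := Groth.Agent.H7.AS.exists_as_generator hdeg h2
  obtain ⟨y, f, hy, heq, hodd⟩ :=
    Groth.Agent.H7.AS.exists_odd_poles hF h2 hg0 _ y₀ f₀ hy₀ heq₀ rfl
  refine ⟨y, f, heq, ?_, hodd⟩
  rw [eq_top_iff]
  intro z _
  obtain ⟨a, b, rfl⟩ := Groth.Agent.H7.QL.exists_repr hdeg hy z
  exact add_mem (IntermediateField.algebraMap_mem _ a)
    (mul_mem (IntermediateField.algebraMap_mem _ b)
      (IntermediateField.mem_adjoin_simple_self (RatFunc k) y))

end Groth.Agent.S12518
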