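import Groth.Statements.S12519
import Groth.Agent.Lib.Helper7.QL1
import Groth.Agent.Lib.Helper7.RF1
-- import your own Groth.Agent.* helpers here

set_option autoImplicit false
open FunFld

namespace Groth.Agent.S12519

/-- Let `k` be perfect of characteristic `2`, `K` separable of degree `2` over `k(x)`, and `y ∈ K \
k(x)` with `y² + y = f(x)`. At a place `p` of `k(x)/k` where `f` has a pole of odd order there is a
unique place `P` of `K` above `p`, with `e(P|p) = 2` and `deg P = deg p` (residue degree `1`); at a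
place where `f` has no pole, every place of `K` above it is unramified. The different is not stated. -/
theorem result (k K : Type*) [Field k] [Field K] [PerfectField k] (h2 : ringChar k = 2)
    [Algebra k K] [Algebra (RatFunc k) K] [IsScalarTower k (RatFunc k) K]
    (hdeg : Module.finrank (RatFunc k) K = 2) [Algebra.IsSeparable (RatFunc k) K]
    (y : K) (hy : y ∉ Set.range (algebraMap (RatFunc k) K))
    (f : RatFunc k) (heq : y ^ 2 + y = algebraMap (RatFunc k) K f)
    (P₀ : FunFld.Place k (RatFunc k)) :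
    ((P₀.ord f < 0 ∧ Odd (P₀.ord f)) → (∃! P : FunFld.Place k K, FunFld.IsOver P P₀) ∧
      ∀ P : FunFld.Place k K, FunFld.IsOver P P₀ → FunFld.IsOverWith P P₀ 2 ∧ P.deg = P₀.deg) ∧
    (0 ≤ P₀.ord f → ∀ P : FunFld.Place k K, FunFld.IsOver P P₀ → FunFld.IsOverWith P P₀ 1) := by
  have hF := Groth.Agent.H7.RF.isFunctionField (k := k)
  haveI := Groth.Agent.H7.QL.finiteDimensional_of_finrank hdeg
  refine ⟨?_, ?_⟩
  · rintro ⟨hneg, hodd⟩
    have hram : ∀ P : FunFld.Place k K, FunFld.IsOver P P₀ → FunFld.IsOverWith P P₀ 2 :=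
      fun P hP => Groth.Agent.H7.QL.isOverWith_two_of_as hF hdeg heq hneg hodd hP
    obtain ⟨Q, hQ⟩ := Groth.Agent.H7.QL.exists_isOver (K := K) hF P₀
    have hu := Groth.Agent.H7.QL.unique_of_ramIdx_eq hF hQ (by rw [(hram Q hQ).ramIdx_eq, hdeg])
    refine ⟨⟨Q, hQ, fun Q' hQ' => hu.2 Q' hQ'⟩, fun P hP => ⟨hram P hP, ?_⟩⟩
    rw [hu.2 P hP]
    exact hu.1
  · intro hnn P hP
    haveI : CharP k 2 := ringChar.of_eq h2
    have h2k : (2 : k) = 0 := CharTwo.two_eq_zero
    have h4 : (4 : RatFunc k) = 0 := by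
      have : (4 : RatFunc k) = algebraMap k (RatFunc k) (2 * 2) := by
        rw [map_mul, map_ofNat]; norm_num
      rw [this, h2k, zero_mul, map_zero]
    refine Groth.Agent.H7.QL.isOverWith_one_of_disc hF hdeg hy (b := 1) (c := f)
      (by rw [map_one, one_mul]; exact heq) (by rw [map_one]) ?_ ?_ hP
    · rcases eq_or_ne f 0 with rfl | hf0
      · simp
      · exact (P₀.v_le_one_iff hf0).2 hnn
    · rw [h4, zero_mul, add_zero, one_pow, map_one]

end Groth.Agent.S12519
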