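import Groth.Statements.S12535
import Groth.Agent.Lib.Helper7.QL1
import Groth.Agent.Lib.Helper7.RF1
-- import your own Groth.Agent.* helpers here

set_option autoImplicit false
open FunFld

namespace Groth.Agent.S12535

/-- Let `char k ≠ 2`, `K` of degree `2` over `k(x)`, and `y ∈ K` with `y² = f(x)`, `f` a squarefree
polynomial of degree `≥ 1`. Then a place `P` of `K` is a zero of `y` exactly when it lies over a
finite place of `k(x)` where `f` has a zero, and in that case `ord_P(y) = 1`: the divisor of zeros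
of `y` is `Σ P_i`, one place over each irreducible factor of `f`, with multiplicity one. -/
theorem result (k K : Type*) [Field k] [Field K] (h2 : ringChar k ≠ 2) [Algebra k K]
    [Algebra (RatFunc k) K] [IsScalarTower k (RatFunc k) K]
    (hdeg : Module.finrank (RatFunc k) K = 2) (y : K) (f : Polynomial k) (hf : Squarefree f)
    (hd : 1 ≤ f.natDegree)
    (heq : y ^ 2 = algebraMap (RatFunc k) K (algebraMap (Polynomial k) (RatFunc k) f)) (P : FunFld.Place k K) :
    (0 < P.ord y → P.ord y = 1) ∧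
    (0 < P.ord y ↔ ∃ P₀ : FunFld.Place k (RatFunc k), FunFld.IsOver P P₀ ∧ 0 ≤ P₀.ord (RatFunc.X : RatFunc k) ∧
      0 < P₀.ord (algebraMap (Polynomial k) (RatFunc k) f)) := by
  have hF := Groth.Agent.H7.RF.isFunctionField (k := k)
  haveI := Groth.Agent.H7.QL.finiteDimensional_of_finrank hdeg
  have hf0 : f ≠ 0 := hf.ne_zero
  have hφf : algebraMap (Polynomial k) (RatFunc k) f ≠ 0 := RatFunc.algebraMap_ne_zero hf0
  obtain ⟨P₀, e, he⟩ := FunFld.exists_isOverWith hF.isFF1 P
  have h2 : 2 * P.ord y = e * P₀.ord (algebraMap (Polynomial k) (RatFunc k) f) := by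
    have := he.ord_eq (algebraMap (Polynomial k) (RatFunc k) f)
    rw [← heq, P.ord_pow] at this
    exact_mod_cast this
  have he0 : (0 : ℤ) < e := by
    exact_mod_cast Nat.pos_of_ne_zero (FunFld.isOverWith_ne_zero he)
  have key : 0 < P.ord y → 0 ≤ P₀.ord (RatFunc.X : RatFunc k) ∧
      P₀.ord (algebraMap (Polynomial k) (RatFunc k) f) = 1 ∧ P.ord y = 1 := by
    intro hpos
    have h3 : 0 < P₀.ord (algebraMap (Polynomial k) (RatFunc k) f) := by
      by_contra hle
      rw [not_lt] at hle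
      nlinarith
    have hfv : P₀.1 (algebraMap (Polynomial k) (RatFunc k) f) < 1 := (P₀.v_lt_one_iff hφf).2 h3
    have hX := Groth.Agent.H7.RF.v_X_le_one_of_lt P₀ hf0 hfv
    have hord := Groth.Agent.H7.RF.ord_squarefree P₀ hX hf hfv
    have hram := Groth.Agent.H7.QL.isOverWith_two_of_sq hF hdeg heq (by rw [hord]; exact odd_one)
      ⟨e, he⟩
    have he2 : e = 2 := (he.unique hram).2
    refine ⟨(P₀.v_le_one_iff RatFunc.X_ne_zero).1 hX, hord, ?_⟩
    rw [hord, he2] at h2
    push_cast at h2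
    omega
  refine ⟨fun h => (key h).2.2, ⟨fun h => ⟨P₀, ⟨e, he⟩, (key h).1, by rw [(key h).2.1]; norm_num⟩, ?_⟩⟩
  rintro ⟨P₁, ⟨e₁, he₁⟩, -, hpos⟩
  have h4 := he₁.ord_eq (algebraMap (Polynomial k) (RatFunc k) f)
  rw [← heq, P.ord_pow] at h4
  have he1 : (0 : ℤ) < e₁ := by
    exact_mod_cast Nat.pos_of_ne_zero (FunFld.isOverWith_ne_zero he₁)
  push_cast at h4
  nlinarith

end Groth.Agent.S12535
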