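import Groth.Statements.S12550
import Mathlib

set_option autoImplicit false
universe u
open GIT

namespace Groth.Agent.S12550

/-- Let V be a finite-dimensional vector space over a field K and x_0, …, x_m non-zero vectors, a
configuration of m + 1 points of the projective space P(V). If for every subspace L with 0 ≠ L ≠ V
the number of indices i with x_i ∈ L, multiplied by dim V, is less than dim L · (m + 1) (the
configuration is stable), then no two proper subspaces L', L'' with L' ∩ L'' = 0 contain between
them all the x_i. -/
theorem result (K : Type u) [Field K]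
    (V : Type u) [AddCommGroup V] [Module K V] [FiniteDimensional K V]
    (m : ℕ) (x : Fin (m + 1) → V) (hx : ∀ i, x i ≠ 0)
    (hst : ∀ L : Submodule K V, L ≠ ⊥ → L ≠ ⊤ →
      Set.ncard {i : Fin (m + 1) | x i ∈ L} * Module.finrank K V < Module.finrank K L * (m + 1)) :
    ¬ ∃ L' L'' : Submodule K V, L' ≠ ⊤ ∧ L'' ≠ ⊤ ∧ Disjoint L' L'' ∧ ∀ i, x i ∈ L' ∨ x i ∈ L'' := by
  classical
  rintro ⟨L', L'', hL', hL'', hdisj, hcov⟩
  have hcard : (Set.univ : Set (Fin (m + 1))).ncard = m + 1 := by
    rw [Set.ncard_univ, Nat.card_eq_fintype_card, Fintype.card_fin]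
  have hle : ∀ L : Submodule K V, Module.finrank K L ≤ Module.finrank K V :=
    fun L => Submodule.finrank_le L
  -- if one of them contains all points
  have hall : ∀ L : Submodule K V, L ≠ ⊤ → (∀ i, x i ∈ L) → False := by
    intro L hLtop hall
    have hLbot : L ≠ ⊥ := by
      rintro rfl
      exact hx 0 ((Submodule.mem_bot K).mp (hall 0))
    have h := hst L hLbot hLtop
    have hset : {i : Fin (m + 1) | x i ∈ L} = Set.univ := by
      ext i; simp [hall i]
    rw [hset, hcard] at h
    have := hle L
    nlinarith
  by_cases h1 : L' = ⊥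
  · apply hall L'' hL''
    intro i
    rcases hcov i with h | h
    · rw [h1] at h
      exact absurd ((Submodule.mem_bot K).mp h) (hx i)
    · exact h
  by_cases h2 : L'' = ⊥
  · apply hall L' hL'
    intro i
    rcases hcov i with h | h
    · exact h
    · rw [h2] at h
      exact absurd ((Submodule.mem_bot K).mp h) (hx i)
  have hA := hst L' h1 hL'
  have hB := hst L'' h2 hL''
  have hunion : {i : Fin (m + 1) | x i ∈ L'} ∪ {i : Fin (m + 1) | x i ∈ L''} = Set.univ := by
    ext i
    simp only [Set.mem_union, Set.mem_setOf_eq, Set.mem_univ, iff_true]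
    exact hcov i
  have hN : m + 1 ≤ Set.ncard {i : Fin (m + 1) | x i ∈ L'} +
      Set.ncard {i : Fin (m + 1) | x i ∈ L''} := by
    have h := Set.ncard_union_le {i : Fin (m + 1) | x i ∈ L'} {i : Fin (m + 1) | x i ∈ L''}
    rw [hunion, hcard] at h
    exact h
  have hdim : Module.finrank K L' + Module.finrank K L'' ≤ Module.finrank K V := by
    have h := Submodule.finrank_sup_add_finrank_inf_eq L' L''
    rw [disjoint_iff.mp hdisj, finrank_bot, add_zero] at h
    rw [← h]
    exact hle _
  nlinarith

end Groth.Agent.S12550
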