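import Groth.Statements.S12555
import Mathlib
import Groth.Agent.Lib.Helper9.ComodReynolds

set_option autoImplicit false
universe u
open TensorProduct
open GIT

namespace Groth.Agent.S12555

/-- Let k be a field, G = Spec A a linearly reductive affine group (A a commutative Hopf algebra whose
finite-dimensional comodules are all semisimple) and V a representation of G of any dimension (an
A-comodule). Then there is exactly one linear map E : V → V commuting with the coaction, with E ∘ E
= E, and with E x = x exactly for the invariant vectors x. -/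
theorem result (k : Type u) [Field k] (A : Type u) [CommRing A] [HopfAlgebra k A]
    (hG : HopfRep.IsLinearlyReductive k A) (V : Type u) [AddCommGroup V] [Module k V] [HopfRep.Comod k A V] :
    ∃! E : V →ₗ[k] V, Hoch.IsComodHom A E ∧ E ∘ₗ E = E ∧ ∀ x : V, E x = x ↔ x ∈ HopfRep.fixedPts k A V := by
  have hV : HopfRep.IsSemisimpleComod k A V :=
    Groth.Agent.H9.Comod.isSemisimpleComod_of_fd_semisimple (fun X _ _ _ hX => hG X hX)
  obtain ⟨E, hE₁, hE₂, hE₃⟩ := Groth.Agent.H9.Comod.exists_reynolds hV
  refine ⟨E, ⟨hE₁, hE₂, hE₃⟩, ?_⟩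
  rintro E' ⟨hE'₁, hE'₂, hE'₃⟩
  have := Groth.Agent.H9.Comod.reynolds_comm hV E hE₁ hE₂ hE₃ E' hE'₁ hE'₂ hE'₃ LinearMap.id
    Groth.Agent.H9.Comod.isComodHom_id
  rw [LinearMap.comp_id, LinearMap.id_comp] at this
  exact this

end Groth.Agent.S12555
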