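import Groth.Statements.S12556
import Mathlib
import Groth.Agent.Lib.Helper9.ComodReynolds

set_option autoImplicit false
universe u
open TensorProduct
open GIT

namespace Groth.Agent.S12556

/-- Let k be a field, G = Spec A a linearly reductive affine group (A a commutative Hopf algebra whose
finite-dimensional comodules are all semisimple) acting on the affine scheme Spec R (a
multiplicative coaction of A on the commutative k-algebra R), and E : R → R a linear map commuting
with the coaction, idempotent, and fixing exactly the invariant elements. Then E(x · y) = E(x) · y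
for all x in R and all invariant y. -/
theorem result (k : Type u) [Field k] (A : Type u) [CommRing A] [HopfAlgebra k A]
    (hG : HopfRep.IsLinearlyReductive k A)
    (R : Type u) [CommRing R] [Algebra k R] [HopfRep.Comod k A R] [GLin.IsCoactAlg k A R]
    (E : R →ₗ[k] R) (h₁ : Hoch.IsComodHom A E) (h₂ : E ∘ₗ E = E)
    (h₃ : ∀ x : R, E x = x ↔ x ∈ GLin.invariants k A R)
    (x y : R) (hy : y ∈ GLin.invariants k A R) : E (x * y) = E x * y := by
  have hV : HopfRep.IsSemisimpleComod k A R :=
    Groth.Agent.H9.Comod.isSemisimpleComod_of_fd_semisimple (fun X _ _ _ hX => hG X hX)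
  have h₃' : ∀ x : R, E x = x ↔ x ∈ HopfRep.fixedPts k A R := fun x => h₃ x
  have hu : Hoch.IsComodHom A (LinearMap.mulRight k y) := by
    rw [Groth.Agent.H9.Comod.isComodHom_iff]
    intro v
    have hy' : HopfRep.Comod.coact (k := k) (A := A) y = y ⊗ₜ[k] (1 : A) := hy
    rw [LinearMap.mulRight_apply, GLin.IsCoactAlg.coact_mul, hy']
    induction HopfRep.Comod.coact (k := k) (A := A) v using TensorProduct.induction_on with
    | zero => simp
    | tmul a b =>
      rw [Algebra.TensorProduct.tmul_mul_tmul, mul_one, LinearMap.rTensor_tmul,
        LinearMap.mulRight_apply]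
    | add a b ha hb => rw [add_mul, map_add, ha, hb]
  have := Groth.Agent.H9.Comod.reynolds_comm hV E h₁ h₂ h₃' E h₁ h₂ h₃' _ hu
  have h := LinearMap.congr_fun this x
  simpa using h

end Groth.Agent.S12556
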