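import Groth.Statements.S12557
import Mathlib
import Groth.Agent.Lib.Helper9.ComodInv

set_option autoImplicit false
universe u
open TensorProduct
open GIT

namespace Groth.Agent.S12557

/-- Let k be a field, G = Spec A a linearly reductive affine group (A a commutative Hopf algebra whose
finite-dimensional comodules are all semisimple) acting on the affine scheme Spec R, R_0 ⊆ R the
ring of invariants, and (𝔄_i) a family of ideals of R each stable under the coaction. Then the sum
of the 𝔄_i meets R_0 in the sum of the intersections 𝔄_i ∩ R_0. -/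
theorem result (k : Type u) [Field k] (A : Type u) [CommRing A] [HopfAlgebra k A]
    (hG : HopfRep.IsLinearlyReductive k A)
    (R : Type u) [CommRing R] [Algebra k R] [HopfRep.Comod k A R] [GLin.IsCoactAlg k A R]
    (ι : Type u) (𝔄 : ι → Ideal R) (h𝔄 : ∀ i, HopfRep.IsSubcomod (k := k) (A := A) ((𝔄 i).restrictScalars k)) :
    (⨆ i, (𝔄 i).restrictScalars k) ⊓ Subalgebra.toSubmodule (GLin.invariants k A R) =
      ⨆ i, ((𝔄 i).restrictScalars k ⊓ Subalgebra.toSubmodule (GLin.invariants k A R)) := by
  have hV : HopfRep.IsSemisimpleComod k A R :=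
    Groth.Agent.H9.Comod.isSemisimpleComod_of_fd_semisimple (fun X _ _ _ hX => hG X hX)
  obtain ⟨E, hE₁, hE₂, hE₃⟩ := Groth.Agent.H9.Comod.exists_reynolds hV
  apply le_antisymm
  · rintro x ⟨hx1, hx2⟩
    have hEx : E x = x := (hE₃ x).mpr hx2
    have key : ∀ y ∈ ⨆ i, (𝔄 i).restrictScalars k,
        E y ∈ ⨆ i, ((𝔄 i).restrictScalars k ⊓ Subalgebra.toSubmodule (GLin.invariants k A R)) := by
      intro y hy
      induction hy using Submodule.iSup_induction' with
      | mem i y hy =>
        apply Submodule.mem_iSup_of_mem i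
        exact ⟨Groth.Agent.H9.Comod.reynolds_mem_of_isSubcomod hV E hE₁ hE₂ hE₃ _ (h𝔄 i) hy,
          Groth.Agent.H9.Comod.reynolds_mem_fixedPts E hE₂ hE₃ y⟩
      | zero => rw [map_zero]; exact zero_mem _
      | add y z _ _ hy hz => rw [map_add]; exact add_mem hy hz
    rw [← hEx]
    exact key x hx1
  · exact iSup_le fun i => inf_le_inf_right _ (le_iSup (fun i => (𝔄 i).restrictScalars k) i)

end Groth.Agent.S12557
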