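import Groth.Statements.S12578
import Mathlib
import Groth.Agent.H4.TateComm
import Groth.Agent.H4.TateProd
import Groth.Agent.Lib.Helper7.IC2
import Groth.Agent.Lib.Helper5.FunFld.Approx

set_option autoImplicit false
universe u v w
open FunFld

namespace Groth.Agent.S12578

/-- For a geometric function field of one variable `K/k`, a finite separable extension `K'` with the
same constant field, a place `P` of `K` and `ω = y dx` with `y ∈ K'`, `x ∈ K`: `Res_P(tr_{K'/K}(y)
dx) = ∑_{Q | P} Res_Q(y dx)`; residues are read through Laurent expansions over `k` at `P` and at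
every `Q` over `P` (so these places are separable). -/
theorem result (k : Type u) (K K' : Type v) [Field k] [Field K] [Field K'] [Algebra k K] [Algebra K K'] [Algebra k K']
    [IsScalarTower k K K'] [FiniteDimensional K K'] [Algebra.IsSeparable K K']
    (hK : FunFld.IsFunctionField k K) (hg : FunFld.IsGeometric k K)
    (hK' : FunFld.IsFunctionField k K') (P : FunFld.Place k K)
    (F : Type w) [Field F] [Algebra k F] [FiniteDimensional k F]
    (φ : K →ₐ[k] LaurentSeries F) (hφ : LocRes.IsExpansionAt P.1 φ)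
    (Qs : Finset (FunFld.Place k K')) (hQs : ∀ Q, Q ∈ Qs ↔ FunFld.IsOver Q P)
    (F' : FunFld.Place k K' → Type w) [∀ Q, Field (F' Q)] [∀ Q, Algebra k (F' Q)] [∀ Q, FiniteDimensional k (F' Q)]
    (ψ : ∀ Q, K' →ₐ[k] LaurentSeries (F' Q)) (hψ : ∀ Q ∈ Qs, LocRes.IsExpansionAt Q.1 (ψ Q))
    (y : K') (x : K) :
    LocRes.locRes φ (Algebra.trace K K' y) x = ∑ Q ∈ Qs, LocRes.locRes (ψ Q) y (algebraMap K K' x) := by
  classical
  obtain ⟨m, hm, hli, hspan⟩ := Groth.Agent.H7.IC.exists_basis (K' := K') hK P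
  haveI : Nonempty (Fin (Module.finrank K K')) := Fin.pos_iff_nonempty.1 Module.finrank_pos
  let b := basisOfLinearIndependentOfCardEqFinrank hli (by simp)
  have hb : ∀ i, b i = m i := fun i => by simp [b]
  obtain ⟨πP, hπP⟩ := Tate.exists_isProj (Groth.Agent.H4.TateLoc.OSub hφ)
  let A : ↥Qs → Submodule k K' := fun Q => Groth.Agent.H4.TateLoc.OSub (hψ Q.1 Q.2)
  choose π hπ using fun Q : ↥Qs => Tate.exists_isProj (A Q)
  have hAB : Groth.Agent.H4.TateBlock.ASub b (Groth.Agent.H4.TateLoc.OSub hφ) = ⨅ Q : ↥Qs, A Q := by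
    ext z
    rw [Groth.Agent.H4.TateBlock.mem_ASub, Submodule.mem_iInf]
    constructor
    · intro hz Q
      show (Q.1).1 z ≤ 1
      have hInB : Groth.Agent.H7.IC.InB P z := by
        rw [← b.sum_repr z]
        refine Groth.Agent.H7.IC.InB.sum _ _ fun i _ => ?_
        rw [hb]
        exact Groth.Agent.H7.IC.InB.smul (show P.1 (b.repr z i) ≤ 1 from hz i) (hm.1 i)
      exact hInB Q.1 ((hQs Q.1).mp Q.2)
    · intro hz i
      have hInB : Groth.Agent.H7.IC.InB P z := fun Q hQ => hz ⟨Q, (hQs Q).mpr hQ⟩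
      obtain ⟨c, hc1, hc2⟩ := hspan z hInB
      show P.1 (b.repr z i) ≤ 1
      have h8 : b.repr z i = c i := by
        rw [hc2]
        have h7 : ∑ i, c i • m i = ∑ i, c i • b i :=
          Finset.sum_congr rfl fun i _ => by rw [hb]
        rw [h7, Module.Basis.repr_sum_self]
      rw [h8]
      exact hc1 i
  have hπ' : LinearMap.IsProj (⨅ Q : ↥Qs, A Q) (Groth.Agent.H4.TateBlock.projE b πP) := by
    rw [← hAB]
    exact Groth.Agent.H4.TateBlock.isProj_projE b hπP
  have happrox : ∀ a : ↥Qs → K', ∃ z : K', ∀ Q, a Q - z ∈ A Q := by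
    intro a
    obtain ⟨z, hz⟩ := FunFld.Place.exists_approx Qs (fun Q => if h : Q ∈ Qs then a ⟨Q, h⟩ else 0)
      (ε := 1) one_ne_zero
    refine ⟨z, fun Q => ?_⟩
    have h1 := hz Q.1 Q.2
    rw [dif_pos Q.2] at h1
    show (Q.1).1 (a Q - z) ≤ 1
    rw [Valuation.map_sub_swap]
    exact h1.le
  have hns : ∀ f : K, Tate.NearStable (Groth.Agent.H4.TateLoc.OSub hφ) (FunFld.mulK f) :=
    fun f => Groth.Agent.H4.TateComm.nearStable_OSub hφ f
  have hL : LocRes.locRes φ (Algebra.trace K K' y) x =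
      ∑ i, LocRes.locRes φ (b.repr (y * b i) i) x := by
    rw [Groth.Agent.H4.TateBlock.trace_eq_sum_repr b y]
    simp only [LocRes.locRes, LocRes.resExp, map_sum, Finset.sum_mul]
  rw [hL]
  simp only [← Groth.Agent.H4.TateLoc.local_tres_eq_locRes hφ hπP]
  rw [← Groth.Agent.H4.TateBlock.tres_block b hπP hns y x,
    Groth.Agent.H4.TateProd.tres_iInf_eq_sum A π hπ hπ' (FunFld.mulK_comm _ _)
      (fun Q => Groth.Agent.H4.TateComm.nearStable_OSub (hψ Q.1 Q.2) _)
      (fun Q => Groth.Agent.H4.TateComm.nearStable_OSub (hψ Q.1 Q.2) _) happrox]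
  rw [← Finset.sum_coe_sort Qs]
  refine Finset.sum_congr rfl fun Q _ => ?_
  exact Groth.Agent.H4.TateLoc.local_tres_eq_locRes (hψ Q.1 Q.2) (hπ Q) y (algebraMap K K' x)

end Groth.Agent.S12578
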