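import Groth.Statements.S12582
import Groth.Agent.Lib.Helper5.Geom.SepRes

set_option autoImplicit false
universe u v w
open FunFld

namespace Groth.Agent.S12582

/-- For a geometric function field of one variable `K/k` of genus `g`, the space `Ω_K(0)` of regular
differential forms (non-negative order at every place) has dimension `g` over `k`; written as the
space of `y ∈ K` with `y dx` regular, for a fixed `x` with `dx ≠ 0`, orders read through Laurent
expansions over `k` at every place (all places separable). -/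
theorem result (k : Type u) (K : Type v) [Field k] [Field K] [Algebra k K] (hK : FunFld.IsFunctionField k K) (hg : FunFld.IsGeometric k K)
    (F : FunFld.Place k K → Type w) [∀ P, Field (F P)] [∀ P, Algebra k (F P)] [∀ P, FiniteDimensional k (F P)]
    (φ : ∀ P, K →ₐ[k] LaurentSeries (F P)) (hφ : ∀ P, LocRes.IsExpansionAt P.1 (φ P))
    (x : K) (hx : KaehlerDifferential.D k K x ≠ 0) :
    Module.finrank k (Submodule.span k {y : K | ∀ P, LocRes.vDiff (φ P) y x ≤ 1}) = FunFld.genus k K := by
  have hnd : ∀ P (l : F P), l ≠ 0 → ∃ c : F P, Algebra.trace k (F P) (c * l) ≠ 0 :=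
    fun P l hl => FunFld.Geom.exists_trace_ne_zero hK hg hx (hφ P) l hl
  have hv' : ∀ P, LocRes.D (F P) (φ P x) ≠ 0 :=
    fun P => FunFld.Geom.D_expansion_ne_zero hK hg hx (hφ P)
  obtain ⟨hne, hfin, hdiv⟩ := FunFld.omegaDiff_isDivOf hK F φ hφ 1 x hnd one_ne_zero hv'
  let C : FunFld.Divisor k K := Finsupp.ofSupportFinite _ hfin
  have hC : ∀ P, C P = LocRes.ordDiff (φ P) 1 x := fun P => rfl
  have hcan : FunFld.IsCanonical k K C := ⟨_, hne, hdiv C hC⟩
  have hset : {y : K | ∀ P, LocRes.vDiff (φ P) y x ≤ 1} = (FunFld.L C : Set K) := by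
    ext y
    simp only [Set.mem_setOf_eq, SetLike.mem_coe]
    refine forall_congr' fun P => ?_
    have h0 : LocRes.vDiff (φ P) 1 x ≠ 0 := FunFld.vDiff_ne_zero F φ 1 x one_ne_zero (hv' P)
    have h1 : LocRes.vDiff (φ P) y x = P.1 y * LocRes.vDiff (φ P) 1 x := by
      rw [LocRes.vDiff, LocRes.vDiff, map_one, one_mul, map_mul, (hφ P).1]
    rw [h1, FunFld.vDiff_eq_exp_neg_ordDiff F φ 1 x h0, hC P]
    constructor
    · intro h
      calc P.1 y = P.1 y * WithZero.exp (-(LocRes.ordDiff (φ P) 1 x)) *
            WithZero.exp (LocRes.ordDiff (φ P) 1 x) := by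
            rw [mul_assoc, ← WithZero.exp_add, neg_add_cancel, WithZero.exp_zero, mul_one]
        _ ≤ 1 * WithZero.exp (LocRes.ordDiff (φ P) 1 x) := mul_le_mul_left h _
        _ = _ := one_mul _
    · intro h
      calc P.1 y * WithZero.exp (-(LocRes.ordDiff (φ P) 1 x))
          ≤ WithZero.exp (LocRes.ordDiff (φ P) 1 x) *
            WithZero.exp (-(LocRes.ordDiff (φ P) 1 x)) := mul_le_mul_left h _
        _ = 1 := by rw [← WithZero.exp_add, add_neg_cancel, WithZero.exp_zero]
  rw [hset, Submodule.span_eq]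
  exact FunFld.ell_canonical hK hcan

end Groth.Agent.S12582
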