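import Groth.Statements.S12589
import Groth.Agent.Lib.Helper7.Z4
import Groth.Agent.Lib.Helper7.IC3
-- import your own Groth.Agent.* helpers here

set_option autoImplicit false
universe u v
open FunFld

namespace Groth.Agent.S12589

/-- If a place `P` of a geometric function field of one variable `K/k` is nonsingular with respect to
the finite extension `k'/k` (the integral closure of `O_P` in `K' = k' ⊗_k K` is `O_P[k']`) and `Q`
is a place of `K'` above `P`, then `F_Q = k' F_P`. -/
theorem result (k k' : Type u) (K K' : Type v) [Field k] [Field k'] [Field K] [Field K']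
    [Algebra k k'] [FiniteDimensional k k'] [Algebra k K] [Algebra K K'] [Algebra k' K'] [Algebra k K']
    [IsScalarTower k k' K'] [IsScalarTower k K K']
    (h : Function.Bijective (Algebra.TensorProduct.productMap
      (IsScalarTower.toAlgHom k k' K') (IsScalarTower.toAlgHom k K K')))
    (hK : FunFld.IsFunctionField k K) (hg : FunFld.IsGeometric k K)
    (P : FunFld.Place k K) [Algebra P.O K'] [IsScalarTower P.O K K']
    (hns : (integralClosure P.O K').toSubring = (Algebra.adjoin P.O (Set.range (algebraMap k' K'))).toSubring)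
    (Q : FunFld.Place k K') [P.1.HasExtension Q.1] (hk' : ∀ c : k', Q.1 (algebraMap k' K' c) ≤ 1) :
    Algebra.adjoin (IsLocalRing.ResidueField P.O)
      (Set.range fun c : k' => IsLocalRing.residue Q.O ⟨algebraMap k' K' c, hk' c⟩) = ⊤ := by
  classical
  have hfd : FiniteDimensional K K' := Groth.Agent.H7.FF.finiteDimensional_constExt h
  -- `Q` lies over `P`
  have hQP : IsOver Q P := by
    obtain ⟨P', e, hP'⟩ := exists_isOverWith hK.isFF1 Q
    have : P' = P := Place.eq_of_O_le (fun x hx => by
      rw [← Valuation.HasExtension.val_map_le_one_iff P.1 Q.1, hP' x]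
      exact pow_le_one' hx e)
    exact ⟨e, this ▸ hP'⟩
  set A := Algebra.adjoin (IsLocalRing.ResidueField P.O)
      (Set.range fun c : k' => IsLocalRing.residue Q.O ⟨algebraMap k' K' c, hk' c⟩) with hA
  -- elements of `O_P[k']` have residues in `A`
  have key : ∀ z ∈ Algebra.adjoin P.O (Set.range (algebraMap k' K')),
      ∃ hz : Q.1 z ≤ 1, IsLocalRing.residue Q.O ⟨z, (Valuation.mem_valuationSubring_iff Q.1 z).2 hz⟩ ∈ A := by
    intro z hz
    induction hz using Algebra.adjoin_induction with
    | mem x hx =>
      obtain ⟨c, rfl⟩ := hx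
      exact ⟨hk' c, Algebra.subset_adjoin ⟨c, rfl⟩⟩
    | algebraMap a =>
      have e1 : algebraMap P.O K' a = algebraMap K K' (a : K) := by
        rw [IsScalarTower.algebraMap_apply P.O K K']; rfl
      have hle : Q.1 (algebraMap P.O K' a) ≤ 1 := by
        rw [e1, Valuation.HasExtension.val_map_le_one_iff P.1 Q.1]
        exact (Valuation.mem_valuationSubring_iff P.1 _).1 a.2
      refine ⟨hle, ?_⟩
      have : IsLocalRing.residue Q.O ⟨algebraMap P.O K' a, (Valuation.mem_valuationSubring_iff Q.1 _).2 hle⟩ =
          algebraMap (IsLocalRing.ResidueField P.O) (IsLocalRing.ResidueField Q.O)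
            (IsLocalRing.residue P.O a) := by
        rw [Valuation.HasExtension.algebraMap_residue_eq_residue_algebraMap]
        congr 1
        exact Subtype.ext e1
      rw [this]
      exact Subalgebra.algebraMap_mem A _
    | add x y _ _ hx hy =>
      obtain ⟨hx1, hx2⟩ := hx
      obtain ⟨hy1, hy2⟩ := hy
      refine ⟨(Valuation.map_add _ _ _).trans (max_le hx1 hy1), ?_⟩
      have := A.add_mem hx2 hy2
      rw [← map_add] at this
      exact this
    | mul x y _ _ hx hy =>
      obtain ⟨hx1, hx2⟩ := hx
      obtain ⟨hy1, hy2⟩ := hy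
      refine ⟨by rw [map_mul]; exact mul_le_one' hx1 hy1, ?_⟩
      have := A.mul_mem hx2 hy2
      rw [← map_mul] at this
      exact this
  rw [eq_top_iff]
  rintro ybar -
  obtain ⟨⟨y, hyO⟩, rfl⟩ := IsLocalRing.residue_surjective ybar
  have hy : Q.1 y ≤ 1 := (Valuation.mem_valuationSubring_iff Q.1 y).1 hyO
  -- approximate
  have hfin := finite_isOver (K' := K') hK.isFF1 P
  set Qs := hfin.toFinset with hQsdef
  have hQs : ∀ Q, Q ∈ Qs ↔ IsOver Q P := fun Q => by rw [hQsdef, Set.Finite.mem_toFinset]; rfl
  obtain ⟨z, hz⟩ := Place.exists_approx Qs (fun Q' => if Q' = Q then y else 0)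
    (ε := 1) one_ne_zero
  have hzQ : Q.1 (z - y) < 1 := by
    have := hz Q ((hQs Q).2 hQP)
    rwa [if_pos rfl] at this
  have hzB : Groth.Agent.H7.IC.InB P z := by
    intro Q' hQ'
    by_cases hne : Q' = Q
    · subst hne
      have : z = (z - y) + y := by ring
      rw [this]
      exact (Valuation.map_add _ _ _).trans (max_le hzQ.le hy)
    · have := hz Q' ((hQs Q').2 hQ')
      rw [if_neg hne, sub_zero] at this
      exact this.le
  have hzint : z ∈ integralClosure P.O K' := (Groth.Agent.H7.IC.mem_integralClosure_iff P hK z).2 hzB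
  have hzadj : z ∈ Algebra.adjoin P.O (Set.range (algebraMap k' K')) := by
    have : z ∈ (integralClosure P.O K').toSubring := hzint
    rw [hns] at this
    exact this
  obtain ⟨hz1, hz2⟩ := key z hzadj
  have heq : IsLocalRing.residue Q.O ⟨y, hyO⟩ =
      IsLocalRing.residue Q.O ⟨z, (Valuation.mem_valuationSubring_iff Q.1 z).2 hz1⟩ := by
    rw [← sub_eq_zero, ← map_sub, IsLocalRing.residue_eq_zero_iff, Q.mem_maximalIdeal_iff]
    change Q.1 (y - z) < 1
    rw [← Valuation.map_neg, neg_sub]
    exact hzQ
  rw [heq]
  exact hz2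

end Groth.Agent.S12589
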