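import Groth.Statements.S12595
import Groth.Agent.Lib.Helper5.SV.Hasse

set_option autoImplicit false
open FunFld

namespace Groth.Agent.S12595

/-- Over an algebraically closed constant field, let `φ` be a birational projective map of the function
field `K` (the ratios `φ i / φ 0` generate `K`), `τ` a `k`-endomorphism of `K` and `H` a total Hasse
derivative. Then the first `τ`-order of `φ` is positive — the column `φ` of `0`-th Hasse derivatives
lies in the `K`-span of the leading column `τ(φ)` — exactly when `τ` is the identity. -/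
theorem result
    (k K : Type*) [Field k] [IsAlgClosed k] [Field K] [Algebra k K]
    (hK : FunFld.IsFunctionField k K) {n : ℕ} (φ : Fin (n + 1) → K) (h0 : φ 0 ≠ 0)
    (hbir : IntermediateField.adjoin k (Set.range fun i => φ i / φ 0) = ⊤)
    (τ : K →ₐ[k] K) (s : K) (H : K →ₐ[k] PowerSeries K) (hH : LocRes.IsHasseFamily s H) :
    ¬ FunFld.IsJump K (FunFld.hcol τ H φ) 1 ↔ τ = AlgHom.id k K := by
  have h1 : (FunFld.hcol τ H φ) '' Set.Iio 1 = {fun i => τ (φ i)} := by
    ext w
    simp only [Set.mem_image, Set.mem_Iio, Nat.lt_one_iff, Set.mem_singleton_iff]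
    constructor
    · rintro ⟨j, rfl, rfl⟩; rfl
    · rintro rfl; exact ⟨0, rfl, rfl⟩
  have hc1 : FunFld.hcol τ H φ 1 = φ := funext fun i => FunFld.SV.hasseD_zero hH (φ i)
  unfold FunFld.IsJump
  rw [h1, hc1, not_not, Submodule.mem_span_singleton]
  constructor
  · rintro ⟨a, ha⟩
    have hi : ∀ i, a * τ (φ i) = φ i := fun i => congrFun ha i
    have ha0 : a ≠ 0 := by
      rintro rfl
      exact h0 (by rw [← hi 0, zero_mul])
    apply FunFld.SV.algHom_eq_id_of_adjoin hbir
    rintro _ ⟨i, rfl⟩
    show τ (φ i / φ 0) = φ i / φ 0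
    rw [map_div₀]
    conv_rhs => rw [← hi i, ← hi 0, mul_div_mul_left _ _ ha0]
  · rintro rfl
    exact ⟨1, by simp⟩

end Groth.Agent.S12595
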