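import Groth.Statements.S12629
import Groth.Agent.Lib.Helper5.Geom.WeilKaehler

set_option autoImplicit false
universe u v w
open FunFld

namespace Groth.Agent.S12629

/-- Let `K/k` be a geometric function field of one variable all of whose places carry a Laurent
expansion over `k` in a local parameter (so every place is separable), `v ∈ K` with `dv ≠ 0` and `D`
a divisor. The `k`-vector space of differentials `y dv` whose divisor is `≥ D` — the order of
`φ_P(y) · (φ_P v)′` is at least `D(P)` at every place `P`, written with the `X`-adic valuation so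
that `y = 0` qualifies — has the same dimension as the space of Weil differentials vanishing on
`A(D) + K`, the number `δ(D)` in Riemann's form of the Riemann–Roch equation. (The published
statement is over an algebraically closed field; this row is the form for any constant field under
the stated separability of all places.) -/
theorem result (k : Type u) (K : Type v) [Field k] [Field K] [Algebra k K]
    (hK : FunFld.IsFunctionField k K) (hg : FunFld.IsGeometric k K)
    (F : FunFld.Place k K → Type w) [∀ P, Field (F P)] [∀ P, Algebra k (F P)] [∀ P, FiniteDimensional k (F P)]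
    (φ : ∀ P, K →ₐ[k] LaurentSeries (F P)) (hφ : ∀ P, LocRes.IsExpansionAt P.1 (φ P))
    (v : K) (hv : KaehlerDifferential.D k K v ≠ 0) (D : FunFld.Divisor k K) :
    Module.finrank k (Submodule.span k {y : K | ∀ P, LocRes.vDiff (φ P) y v ≤ WithZero.exp (-(D P))}) =
      Module.finrank k (FunFld.WD D) := by
  obtain ⟨C, hC, hdiv, hne⟩ := FunFld.Geom.exists_divisor_dv hK hg F φ hφ v hv
  have hv' := FunFld.Geom.hv_of_geometric hK hg F φ hφ v hv
  have hset : {y : K | ∀ P, LocRes.vDiff (φ P) y v ≤ WithZero.exp (-(D P))} =
      (FunFld.L (C - D) : Set K) := by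
    ext y
    simp only [Set.mem_setOf_eq, SetLike.mem_coe]
    refine forall_congr' fun P => ?_
    have h0 : LocRes.vDiff (φ P) 1 v ≠ 0 := FunFld.vDiff_ne_zero F φ 1 v one_ne_zero (hv' P)
    rw [FunFld.Geom.vDiff_eq_mul F φ hφ v y P, FunFld.vDiff_eq_exp_neg_ordDiff F φ 1 v h0,
      ← hC P, Finsupp.coe_sub, Pi.sub_apply]
    constructor
    · intro h
      calc P.1 y = P.1 y * WithZero.exp (-(C P)) * WithZero.exp (C P) := by
            rw [mul_assoc, ← WithZero.exp_add, neg_add_cancel, WithZero.exp_zero, mul_one]
        _ ≤ WithZero.exp (-(D P)) * WithZero.exp (C P) := mul_le_mul_left h _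
        _ = WithZero.exp (C P - D P) := by rw [← WithZero.exp_add]; congr 1; ring
    · intro h
      calc P.1 y * WithZero.exp (-(C P))
          ≤ WithZero.exp (C P - D P) * WithZero.exp (-(C P)) := mul_le_mul_left h _
        _ = WithZero.exp (-(D P)) := by rw [← WithZero.exp_add]; congr 1; ring
  rw [hset, Submodule.span_eq, FunFld.finrank_WD_eq_ell hK hdiv D]
  rfl

end Groth.Agent.S12629
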