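import Groth.Statements.S12631
import Groth.Agent.Lib.Helper5.Geom.WeilKaehler

set_option autoImplicit false
universe u v w
open FunFld

namespace Groth.Agent.S12631

/-- Let `K/k` be a geometric function field of one variable of genus one all of whose places carry a
Laurent expansion over `k` in a local parameter (so every place is separable), and `v ∈ K` with `dv
≠ 0`. Then there is a nonzero `u ∈ K` whose differential `u dv` has divisor zero — the order of
`φ_P(u) · (φ_P v)′` is `0` at every place `P` — and such a `u` is unique up to a factor from `k`.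
(The published statement concerns elliptic curves over algebraically closed fields; this row is the
form for any constant field under the stated separability of all places.) -/
theorem result (k : Type u) (K : Type v) [Field k] [Field K] [Algebra k K]
    (hK : FunFld.IsFunctionField k K) (hg : FunFld.IsGeometric k K) (h1 : FunFld.genus k K = 1)
    (F : FunFld.Place k K → Type w) [∀ P, Field (F P)] [∀ P, Algebra k (F P)] [∀ P, FiniteDimensional k (F P)]
    (φ : ∀ P, K →ₐ[k] LaurentSeries (F P)) (hφ : ∀ P, LocRes.IsExpansionAt P.1 (φ P))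
    (v : K) (hv : KaehlerDifferential.D k K v ≠ 0) :
    (∃ u : K, u ≠ 0 ∧ ∀ P, LocRes.vDiff (φ P) u v = 1) ∧
      ∀ u u' : K, u ≠ 0 → (∀ P, LocRes.vDiff (φ P) u v = 1) → (∀ P, LocRes.vDiff (φ P) u' v = 1) →
        ∃ c : k, u' = c • u := by
  obtain ⟨C, hC, hdiv, hne⟩ := FunFld.Geom.exists_divisor_dv hK hg F φ hφ v hv
  have hv' := FunFld.Geom.hv_of_geometric hK hg F φ hφ v hv
  have hcan : FunFld.IsCanonical k K C := ⟨_, hne, hdiv⟩
  have hell : FunFld.ell C = 1 := by rw [FunFld.ell_canonical hK hcan, h1]
  have hdeg : C.deg = 0 := by rw [FunFld.deg_canonical hK hcan, h1]; norm_num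
  have hfd : FiniteDimensional k (FunFld.L C) := FunFld.finiteDimensional_L hK C
  -- key: `vDiff = 1` everywhere iff `u ∈ L(C)`, `u ≠ 0`
  have hvd : ∀ (u : K) (P : FunFld.Place k K),
      LocRes.vDiff (φ P) u v = P.1 u * WithZero.exp (-(C P)) := by
    intro u P
    have h0 : LocRes.vDiff (φ P) 1 v ≠ 0 := FunFld.vDiff_ne_zero F φ 1 v one_ne_zero (hv' P)
    rw [FunFld.Geom.vDiff_eq_mul F φ hφ v u P, FunFld.vDiff_eq_exp_neg_ordDiff F φ 1 v h0, ← hC P]
  have hmem : ∀ u : K, (∀ P, LocRes.vDiff (φ P) u v = 1) → u ∈ FunFld.L C := by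
    intro u hu P
    have := hu P
    rw [hvd] at this
    have h2 : P.1 u = WithZero.exp (C P) := by
      calc P.1 u = P.1 u * WithZero.exp (-(C P)) * WithZero.exp (C P) := by
            rw [mul_assoc, ← WithZero.exp_add, neg_add_cancel, WithZero.exp_zero, mul_one]
        _ = WithZero.exp (C P) := by rw [this, one_mul]
    exact h2.le
  have hone : ∀ u : K, u ≠ 0 → u ∈ FunFld.L C → ∀ P, LocRes.vDiff (φ P) u v = 1 := by
    intro u hu0 huL P
    have h1' : 0 ≤ C + FunFld.div k u := (FunFld.mem_L_iff_div hK hu0).1 huL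
    have h2 : (C + FunFld.div k u).deg = 0 := by
      rw [FunFld.Divisor.deg_add, hdeg, FunFld.deg_div hK, add_zero]
    have h3 := FunFld.Divisor.eq_zero_of_nonneg_of_deg_eq_zero hK h1' h2
    have h4 : C P + P.ord u = 0 := by
      have := congrArg (fun D : FunFld.Divisor k K => D P) h3
      simpa [FunFld.div_apply hK] using this
    rw [hvd, P.v_eq_exp_neg_ord hu0, ← WithZero.exp_add, ← WithZero.exp_zero]
    congr 1
    omega
  constructor
  · have hpos : 0 < Module.finrank k (FunFld.L C) := by
      show 0 < FunFld.ell C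
      rw [hell]; exact one_pos
    obtain ⟨u, hu⟩ := Module.finrank_pos_iff_exists_ne_zero.1 hpos
    refine ⟨u, fun h => hu (Subtype.ext h), hone u (fun h => hu (Subtype.ext h)) u.2⟩
  · intro u u' hu0 hu hu'
    have huL := hmem u hu
    have hu'L := hmem u' hu'
    have hne' : (⟨u, huL⟩ : FunFld.L C) ≠ 0 := fun h => hu0 (congrArg Subtype.val h)
    obtain ⟨c, hc⟩ := (finrank_eq_one_iff_of_nonzero' (⟨u, huL⟩ : FunFld.L C) hne').1 hell
      ⟨u', hu'L⟩
    exact ⟨c, (congrArg Subtype.val hc).symm⟩

end Groth.Agent.S12631
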