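import Groth.Statements.S1267
import Mathlib
import Groth.Agent.Lib.Helper1.FlatNilpotent

set_option autoImplicit false
universe u
open FlatMor

namespace Groth.Agent.S1267

namespace H1.S1267aux
open TensorProduct Function


/-- radical trick -/
lemma exists_pow_mem_of_forall_prime {A : Type*} [CommRing A] (𝔞 : Ideal A) (f : A)
    (h : ∀ p : PrimeSpectrum A, f ∉ p.asIdeal → ¬ 𝔞 ≤ p.asIdeal) : ∃ k : ℕ, f ^ k ∈ 𝔞 := by
  have : f ∈ 𝔞.radical := by
    rw [Ideal.radical_eq_sInf, Ideal.mem_sInf]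
    intro p hp
    by_contra hf
    exact h ⟨p, hp.2⟩ hf hp.1
  exact this

/-- kernel of `I ⊗ M → M` is killed by an element outside `p` when `M_p` is flat. -/
lemma exists_smul_eq_zero_of_flat_localized {A : Type u} [CommRing A] (I : Ideal A)
    (M : Type u) [AddCommGroup M] [Module A M] (p : Ideal A) [p.IsPrime]
    [Module.Flat A (LocalizedModule p.primeCompl M)]
    (w : I ⊗[A] M) (hw : (I.subtype.rTensor M) w = 0) : ∃ s : A, s ∉ p ∧ s • w = 0 := by
  let g := LocalizedModule.mkLinearMap p.primeCompl M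
  let rT := AlgebraTensorModule.rTensor A I g
  have hloc : IsLocalizedModule p.primeCompl rT := inferInstance
  have hinj : Injective (I.subtype.lTensor (LocalizedModule p.primeCompl M)) :=
    Module.Flat.lTensor_preserves_injective_linearMap _ Subtype.val_injective
  have hcomm : ∀ z : I ⊗[A] M, (I.subtype.lTensor (LocalizedModule p.primeCompl M))
      (rT (TensorProduct.comm A I M z)) =
      (g.rTensor A) (TensorProduct.comm A A M ((I.subtype.rTensor M) z)) := by
    intro z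
    induction z using TensorProduct.induction_on with
    | zero => simp
    | tmul x m => simp [rT]
    | add x y hx hy => simp only [map_add, hx, hy]
  have h0 : rT (TensorProduct.comm A I M w) = 0 := by
    apply hinj
    rw [hcomm, hw]; simp
  obtain ⟨c, hc⟩ := (IsLocalizedModule.eq_zero_iff p.primeCompl rT).mp h0
  refine ⟨c.1, c.2, ?_⟩
  apply (TensorProduct.comm A I M).injective
  rw [map_smul, map_zero]
  exact hc



section B
variable {B : Type u} [CommRing B] (J : Ideal B) (hJ : J * J = ⊥)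

include hJ in
lemma isTorsionBySet_self : Module.IsTorsionBySet B J (J : Set B) := by
  intro x a
  apply Subtype.ext
  have : (a : B) * (x : B) ∈ J * J := Ideal.mul_mem_mul a.2 x.2
  rw [hJ] at this
  simpa using this

include hJ in
/-- patching step: an element of `J ⊗ N` killed by all `b i` vanishes, if `J` has no such torsion
and `N/JN` is flat over `B/J`. -/
lemma eq_zero_of_forall_smul_eq_zero (N : Type u) [AddCommGroup N] [Module B N]
    [Module.Flat (B ⧸ J) ((B ⧸ J) ⊗[B] N)] {ι : Type*} [Fintype ι] [DecidableEq ι] (b : ι → B)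
    (hb : ∀ x ∈ J, (∀ i, b i * x = 0) → x = 0) (ξ : J ⊗[B] N) (hξ : ∀ i, b i • ξ = 0) : ξ = 0 := by
  letI : Module (B ⧸ J) J := (isTorsionBySet_self J hJ).module
  haveI : IsScalarTower B (B ⧸ J) J := (isTorsionBySet_self J hJ).isScalarTower
  let F := (B ⧸ J) ⊗[B] N
  let e : J ⊗[B ⧸ J] F ≃ₗ[B ⧸ J] J ⊗[B] N := AlgebraTensorModule.cancelBaseChange B (B ⧸ J) (B ⧸ J) J N
  let g : J →ₗ[B ⧸ J] (ι → J) :=
    LinearMap.pi (fun i => (Ideal.Quotient.mk J (b i)) • LinearMap.id)
  have hg : Injective g := by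
    rw [injective_iff_map_eq_zero]
    intro x hx
    apply Subtype.ext
    apply hb x.1 x.2
    intro i
    have := congrFun hx i
    simp only [g, LinearMap.pi_apply, LinearMap.smul_apply, LinearMap.id_apply, Pi.zero_apply] at this
    have h2 : (Ideal.Quotient.mk J (b i)) • x = b i • x := by
      rw [← Ideal.Quotient.algebraMap_eq, algebraMap_smul]
    rw [h2] at this
    simpa using congrArg Subtype.val this
  have hinj : Injective (g.rTensor F) := Module.Flat.rTensor_preserves_injective_linearMap g hg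
  set ξ' := e.symm ξ with hξ'
  have hξ'0 : ∀ i, (Ideal.Quotient.mk J (b i)) • ξ' = 0 := by
    intro i
    rw [hξ', ← map_smul]
    have : (Ideal.Quotient.mk J (b i)) • ξ = b i • ξ := by
      rw [← Ideal.Quotient.algebraMap_eq, algebraMap_smul]
    rw [this, hξ i, map_zero]
  have key : ∀ y : J ⊗[B ⧸ J] F, TensorProduct.piLeft (B ⧸ J) F (fun _ : ι => J) ((g.rTensor F) y) =
      fun i => (Ideal.Quotient.mk J (b i)) • y := by
    intro y
    induction y using TensorProduct.induction_on with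
    | zero => ext i; simp
    | tmul x m =>
      ext i
      simp [g, TensorProduct.smul_tmul']
    | add x y hx hy =>
      rw [map_add, map_add, hx, hy]; ext i; simp
  have : (g.rTensor F) ξ' = 0 := by
    apply (TensorProduct.piLeft (B ⧸ J) F (fun _ : ι => J)).injective
    rw [key, map_zero]
    ext i
    rw [hξ'0 i]; rfl
  have h0 : ξ' = 0 := hinj (by rw [this, map_zero])
  have : ξ = e ξ' := by rw [hξ', LinearEquiv.apply_symm_apply]
  rw [this, h0, map_zero]

end B



lemma flat_quot_tensor {A : Type u} [CommRing A] (I : Ideal A) (M : Type u) [AddCommGroup M]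
    [Module A M] [Module.Flat (A ⧸ I) (M ⧸ (I • ⊤ : Submodule A M))] :
    Module.Flat (A ⧸ I) ((A ⧸ I) ⊗[A] M) :=
  Module.Flat.of_linearEquiv
    ((quotTensorEquivQuotSMul M I).extendScalarsOfSurjective Ideal.Quotient.mk_surjective)

lemma flat_tensor_of_tower {A T₂ T₁ : Type u} [CommRing A] [CommRing T₂] [CommRing T₁] [Algebra A T₂]
    [Algebra A T₁] [Algebra T₂ T₁] [IsScalarTower A T₂ T₁] (M : Type u) [AddCommGroup M]
    [Module A M] [Module.Flat T₂ (T₂ ⊗[A] M)] : Module.Flat T₁ (T₁ ⊗[A] M) :=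
  Module.Flat.of_linearEquiv (AlgebraTensorModule.cancelBaseChange A T₂ T₁ T₁ M).symm

lemma flat_doubleQuot {A : Type u} [CommRing A] (I I₂ : Ideal A) (_h : I₂ ≤ I) (M : Type u)
    [AddCommGroup M] [Module A M] [Module.Flat (A ⧸ I) (M ⧸ (I • ⊤ : Submodule A M))] :
    Module.Flat ((A ⧸ I₂) ⧸ I.map (Ideal.Quotient.mk I₂))
      (((A ⧸ I₂) ⧸ I.map (Ideal.Quotient.mk I₂)) ⊗[A ⧸ I₂] (M ⧸ (I₂ • ⊤ : Submodule A M))) := by
  set S := A ⧸ I₂
  set J := I.map (Ideal.Quotient.mk I₂)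
  let ψ : A ⧸ I →+* S ⧸ J := Ideal.Quotient.lift I ((Ideal.Quotient.mk J).comp (Ideal.Quotient.mk I₂))
    (by
      intro a ha
      simp only [RingHom.comp_apply]
      rw [Ideal.Quotient.eq_zero_iff_mem]
      exact Ideal.mem_map_of_mem _ ha)
  letI : Algebra (A ⧸ I) (S ⧸ J) := ψ.toAlgebra
  haveI : IsScalarTower A (A ⧸ I) (S ⧸ J) := IsScalarTower.of_algebraMap_eq (fun a => rfl)
  haveI := flat_quot_tensor I M
  haveI : Module.Flat (S ⧸ J) ((S ⧸ J) ⊗[A] M) := flat_tensor_of_tower (T₂ := A ⧸ I) M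
  let e₁ : (M ⧸ (I₂ • ⊤ : Submodule A M)) ≃ₗ[S] S ⊗[A] M :=
    ((quotTensorEquivQuotSMul M I₂).extendScalarsOfSurjective Ideal.Quotient.mk_surjective).symm
  exact Module.Flat.of_linearEquiv
    ((AlgebraTensorModule.congr (LinearEquiv.refl (S ⧸ J) (S ⧸ J)) e₁).trans
      (AlgebraTensorModule.cancelBaseChange A S (S ⧸ J) (S ⧸ J) M))



section main
variable {A : Type u} [CommRing A] (I I₂ : Ideal A) (M : Type u) [AddCommGroup M] [Module A M]

/-- the multiplication map `I ⊗ M → M` -/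
noncomputable def mul : I ⊗[A] M →ₗ[A] M := (TensorProduct.lid A M).toLinearMap ∘ₗ I.subtype.rTensor M

@[simp] lemma mul_tmul (x : I) (m : M) : mul I M (x ⊗ₜ m) = (x : A) • m := by simp [mul]

/-- the comparison map `I ⊗_A M → J ⊗_S M'` -/
noncomputable def phi : I ⊗[A] M →ₗ[A]
    (I.map (Ideal.Quotient.mk I₂) : Ideal (A ⧸ I₂)) ⊗[A ⧸ I₂] (M ⧸ (I₂ • ⊤ : Submodule A M)) :=
  TensorProduct.lift
    { toFun := fun x =>
        { toFun := fun m => (⟨Ideal.Quotient.mk I₂ x.1, Ideal.mem_map_of_mem _ x.2⟩ :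
            (I.map (Ideal.Quotient.mk I₂) : Ideal (A ⧸ I₂))) ⊗ₜ[A ⧸ I₂] Submodule.Quotient.mk m
          map_add' := fun m m' => by simp [tmul_add]
          map_smul' := fun a m => by simp }
      map_add' := fun x y => by
        ext m
        simp only [LinearMap.coe_mk, AddHom.coe_mk, LinearMap.add_apply]
        rw [← add_tmul]
        rfl
      map_smul' := fun a x => by
        ext m
        simp only [LinearMap.coe_mk, AddHom.coe_mk, LinearMap.smul_apply, RingHom.id_apply]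
        rw [TensorProduct.smul_tmul']
        rfl }

lemma phi_tmul (x : I) (m : M) : phi I I₂ M (x ⊗ₜ m) =
    (⟨Ideal.Quotient.mk I₂ x.1, Ideal.mem_map_of_mem _ x.2⟩ :
      (I.map (Ideal.Quotient.mk I₂) : Ideal (A ⧸ I₂))) ⊗ₜ[A ⧸ I₂] Submodule.Quotient.mk m := rfl

lemma phi_surjective : Surjective (phi I I₂ M) := by
  intro y
  induction y using TensorProduct.induction_on with
  | zero => exact ⟨0, map_zero _⟩
  | tmul j m' =>
    obtain ⟨m, rfl⟩ := Submodule.Quotient.mk_surjective _ m'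
    obtain ⟨j, hj⟩ := j
    obtain ⟨x, hx, rfl⟩ := (Ideal.mem_map_iff_of_surjective _ Ideal.Quotient.mk_surjective).mp hj
    exact ⟨(⟨x, hx⟩ : I) ⊗ₜ m, rfl⟩
  | add y y' hy hy' =>
    obtain ⟨z, rfl⟩ := hy
    obtain ⟨z', rfl⟩ := hy'
    exact ⟨z + z', map_add _ _ _⟩

lemma lid_rTensor_phi (z : I ⊗[A] M) :
    TensorProduct.lid (A ⧸ I₂) _ (((I.map (Ideal.Quotient.mk I₂)).subtype.rTensor
      (M ⧸ (I₂ • ⊤ : Submodule A M))) (phi I I₂ M z)) = Submodule.Quotient.mk (mul I M z) := by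
  induction z using TensorProduct.induction_on with
  | zero => simp
  | tmul x m =>
    rw [phi_tmul, mul_tmul]
    simp only [LinearMap.rTensor_tmul, Submodule.subtype_apply, lid_tmul]
    rfl
  | add x y hx hy => simp only [map_add, hx, hy, Submodule.Quotient.mk_add]

variable {I I₂ M}

/-- elements of `I₂ M` are pushed into `I² M` by a power of `f`. -/
lemma exists_pow_smul_mem (U : Set (PrimeSpectrum A))
    (hI₂ : ∀ x : A, x ∈ I₂ → ∀ p ∈ U, ∃ s : A, s ∉ p.asIdeal ∧ s * x ∈ I ^ 2)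
    (f : A) (hf : ∀ p : PrimeSpectrum A, f ∉ p.asIdeal → p ∈ U)
    (y : M) (hy : y ∈ (I₂ • ⊤ : Submodule A M)) :
    ∃ k : ℕ, f ^ k • y ∈ ((I ^ 2) • ⊤ : Submodule A M) := by
  refine Submodule.smul_induction_on hy (fun a ha n _ => ?_) (fun x y hx hy => ?_)
  · obtain ⟨k, hk⟩ := exists_pow_mem_of_forall_prime (Submodule.colon (I ^ 2) {a}) f (by
      intro p hp hle
      obtain ⟨s, hs, hsa⟩ := hI₂ a ha p (hf p hp)
      apply hs
      apply hle
      rw [Submodule.mem_colon_singleton]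
      exact hsa)
    refine ⟨k, ?_⟩
    rw [← mul_smul]
    apply Submodule.smul_mem_smul _ Submodule.mem_top
    rw [Submodule.mem_colon_singleton] at hk
    exact hk
  · obtain ⟨k, hk⟩ := hx
    obtain ⟨l, hl⟩ := hy
    refine ⟨k + l, ?_⟩
    rw [smul_add]
    apply Submodule.add_mem
    · rw [pow_add, mul_comm, mul_smul]; exact Submodule.smul_mem _ _ hk
    · rw [pow_add, mul_smul]; exact Submodule.smul_mem _ _ hl

/-- elements of `I² M` lift to `I ⊗ M` with vanishing image under `phi`. -/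
lemma exists_lift_of_mem_sq (hle : I ^ 2 ≤ I₂) (hle' : I ^ 2 ≤ I) (y : M)
    (hy : y ∈ ((I ^ 2) • ⊤ : Submodule A M)) :
    ∃ ζ : I ⊗[A] M, mul I M ζ = y ∧ phi I I₂ M ζ = 0 := by
  refine Submodule.smul_induction_on hy (fun a ha n _ => ?_) (fun x y hx hy => ?_)
  · refine ⟨(⟨a, hle' ha⟩ : I) ⊗ₜ n, by simp, ?_⟩
    rw [phi_tmul]
    have : (⟨Ideal.Quotient.mk I₂ a, Ideal.mem_map_of_mem _ (hle' ha)⟩ :
        (I.map (Ideal.Quotient.mk I₂) : Ideal (A ⧸ I₂))) = 0 := by
      apply Subtype.ext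
      simp only [ZeroMemClass.coe_zero]
      exact Ideal.Quotient.eq_zero_iff_mem.mpr (hle ha)
    rw [this, zero_tmul]
  · obtain ⟨z, hz, hz'⟩ := hx
    obtain ⟨z', hz2, hz2'⟩ := hy
    exact ⟨z + z', by rw [map_add, hz, hz2], by rw [map_add, hz', hz2', add_zero]⟩

/-- Step A. -/
lemma exists_pow_smul_phi_eq_zero (U : Set (PrimeSpectrum A))
    (hflat : ∀ p ∈ U, Module.Flat A (LocalizedModule p.asIdeal.primeCompl M))
    (hI₂ : ∀ x : A, x ∈ I₂ → ∀ p ∈ U, ∃ s : A, s ∉ p.asIdeal ∧ s * x ∈ I ^ 2)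
    (hle : I ^ 2 ≤ I₂)
    (f : A) (hf : ∀ p : PrimeSpectrum A, f ∉ p.asIdeal → p ∈ U)
    (η : I ⊗[A] M) (hη : mul I M η ∈ (I₂ • ⊤ : Submodule A M)) :
    ∃ k : ℕ, f ^ k • phi I I₂ M η = 0 := by
  obtain ⟨k, hk⟩ := exists_pow_smul_mem U hI₂ f hf _ hη
  obtain ⟨ζ, hζ, hζ0⟩ := exists_lift_of_mem_sq hle (Ideal.pow_le_self two_ne_zero) _ hk
  have hw : (I.subtype.rTensor M) (f ^ k • η - ζ) = 0 := by
    apply (TensorProduct.lid A M).injective
    have : mul I M (f ^ k • η - ζ) = 0 := by rw [map_sub, map_smul, hζ, sub_self]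
    rw [map_zero]
    exact this
  obtain ⟨l, hl⟩ := exists_pow_mem_of_forall_prime
    (LinearMap.ker (LinearMap.toSpanSingleton A _ (f ^ k • η - ζ))) f (by
      intro p hp hle2
      haveI := hflat p (hf p hp)
      obtain ⟨s, hs, hs0⟩ := exists_smul_eq_zero_of_flat_localized I M p.asIdeal _ hw
      apply hs
      apply hle2
      simpa using hs0)
  refine ⟨l + k, ?_⟩
  have h1 : f ^ l • (f ^ k • η - ζ) = 0 := by simpa using hl
  have := congrArg (phi I I₂ M) h1
  rw [map_smul, map_sub, map_smul, hζ0, sub_zero, map_zero, ← mul_smul, ← pow_add] at this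
  exact this

end main


end H1.S1267aux

/-- Let A be a local ring, I an ideal, U a quasi-compact open subset of Spec A and M an A-module such
that M/IM is flat over A/I and M_p is flat over A for all p in U. Let I₂ be the kernel of I → Γ(U,
I/I²), that is the set of x ∈ I such that for every p ∈ U some s outside p has s·x ∈ I². Then M/I₂M
is flat over A/I₂. -/
theorem result {A : Type u} [CommRing A] [IsLocalRing A] (I : Ideal A)
    (U : Set (PrimeSpectrum A)) (hU : IsOpen U) (hUc : IsCompact U)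
    (M : Type u) [AddCommGroup M] [Module A M]
    [Module.Flat (A ⧸ I) (M ⧸ (I • ⊤ : Submodule A M))]
    (hflat : ∀ p ∈ U, Module.Flat A (LocalizedModule p.asIdeal.primeCompl M))
    (I₂ : Ideal A) (hI₂ : ∀ x : A, x ∈ I₂ ↔ x ∈ I ∧ ∀ p ∈ U, ∃ s : A, s ∉ p.asIdeal ∧ s * x ∈ I ^ 2) :
    Module.Flat (A ⧸ I₂) (M ⧸ (I₂ • ⊤ : Submodule A M)) := by
  classical
  obtain ⟨t, ht⟩ := PrimeSpectrum.isCompact_isOpen_iff.mp ⟨hUc, hU⟩
  have hmemU : ∀ p : PrimeSpectrum A, p ∈ U ↔ ∃ f ∈ t, f ∉ p.asIdeal := by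
    intro p
    rw [← ht, Set.mem_compl_iff, PrimeSpectrum.mem_zeroLocus, Set.not_subset]
    simp
  have hle2 : I ^ 2 ≤ I₂ := by
    intro x hx
    rw [hI₂]
    refine ⟨Ideal.pow_le_self two_ne_zero hx, fun p _ => ⟨1, ?_, by simpa using hx⟩⟩
    exact fun h => p.2.ne_top ((Ideal.eq_top_iff_one _).mpr h)
  have hle1 : I₂ ≤ I := fun x hx => ((hI₂ x).mp hx).1
  set J : Ideal (A ⧸ I₂) := I.map (Ideal.Quotient.mk I₂) with hJdef
  have hJJ : J * J = ⊥ := by
    rw [hJdef, ← Ideal.map_mul, ← pow_two, eq_bot_iff]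
    rw [Ideal.map_le_iff_le_comap]
    intro x hx
    rw [Ideal.mem_comap, Ideal.mem_bot, Ideal.Quotient.eq_zero_iff_mem]
    exact hle2 hx
  have hJnil : IsNilpotent J := ⟨2, by rw [pow_two, hJJ]; rfl⟩
  haveI := H1.S1267aux.flat_doubleQuot I I₂ hle1 M
  apply Groth.Agent.H1.flat_of_isNilpotent_of_flat_quotient J hJnil
  rw [injective_iff_map_eq_zero]
  intro ξ hξ
  obtain ⟨η, rfl⟩ := H1.S1267aux.phi_surjective I I₂ M ξ
  have hη : H1.S1267aux.mul I M η ∈ (I₂ • ⊤ : Submodule A M) := by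
    have := H1.S1267aux.lid_rTensor_phi I I₂ M η
    rw [hξ, map_zero] at this
    exact (Submodule.Quotient.mk_eq_zero _).mp this.symm
  -- Step A
  have hA : ∀ f ∈ t, ∃ k : ℕ, f ^ k • H1.S1267aux.phi I I₂ M η = 0 := by
    intro f hf
    exact H1.S1267aux.exists_pow_smul_phi_eq_zero U hflat (fun x hx => ((hI₂ x).mp hx).2) hle2 f
      (fun p hp => (hmemU p).mpr ⟨f, hf, hp⟩) η hη
  choose! k hk using hA
  apply H1.S1267aux.eq_zero_of_forall_smul_eq_zero J hJJ (M ⧸ (I₂ • ⊤ : Submodule A M))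
    (fun f : t => Ideal.Quotient.mk I₂ (f.1 ^ k f.1))
  · intro x hx hx0
    obtain ⟨a, ha, rfl⟩ := (Ideal.mem_map_iff_of_surjective _ Ideal.Quotient.mk_surjective).mp hx
    rw [Ideal.Quotient.eq_zero_iff_mem, hI₂]
    refine ⟨ha, fun p hp => ?_⟩
    obtain ⟨f, hft, hfp⟩ := (hmemU p).mp hp
    have h1 := hx0 ⟨f, hft⟩
    rw [← map_mul, Ideal.Quotient.eq_zero_iff_mem] at h1
    obtain ⟨s, hs, hs2⟩ := ((hI₂ _).mp h1).2 p hp
    refine ⟨s * f ^ k f, ?_, by rw [mul_assoc]; exact hs2⟩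
    intro hmem
    rcases p.2.mem_or_mem hmem with h | h
    · exact hs h
    · exact hfp (p.2.mem_of_pow_mem _ h)
  · intro f
    have := hk f.1 f.2
    rw [← this]
    exact algebraMap_smul (A ⧸ I₂) (f.1 ^ k f.1) (H1.S1267aux.phi I I₂ M η)

end Groth.Agent.S1267
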