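import Groth.Statements.S12736
import Groth.Agent.Lib.Helper6.ArtFun

set_option autoImplicit false
universe u v
open CategoryTheory
open ArtFun

namespace Groth.Agent.S12736

/-- For functors, let φ : F → G be a morphism of functors on Artinian local Λ-algebras with residue
field k whose values at k are points and which satisfy (S2), with the natural vector space
structures on their tangent spaces. Then the differential dφ : F(k[ε]) → G(k[ε]) is k-linear. -/
theorem result {Λ : Type u} {k : Type u} [CommRing Λ] [Field k] [Algebra Λ k]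
    [IsNoetherianRing Λ] [Module.Finite Λ k]
    {F G : ArtFun.Art Λ k ⥤ Type v} [ArtFun.TangentStr F] [ArtFun.TangentStr G]
    (hF0 : ArtFun.H0 F) (hF2 : ArtFun.Heps F) (hG0 : ArtFun.H0 G) (hG2 : ArtFun.Heps G) (φ : F ⟶ G) :
    ∃ f : ArtFun.TangentSpace F →ₗ[k] ArtFun.TangentSpace G, ⇑f = ArtFun.TangentSpace.map φ := by
  refine ⟨{ toFun := ArtFun.TangentSpace.map φ
            map_add' := ?_
            map_smul' := ?_ }, rfl⟩
  · intro x y
    -- lift (x, y) to F(k[ε₁, ε₂])
    have hs := (hF2 (ArtFun.Art.pr₁ (Λ := Λ) (k := k)) ArtFun.Art.pr₂ ArtFun.Art.isFibreProd_dual2).2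
    rw [Groth.Agent.H6.cmp_surjective_iff] at hs
    have hsub := hF0.2
    obtain ⟨z, hz1, hz2⟩ := hs x y (Subsingleton.elim _ _)
    have hxy : x + y = F.map ArtFun.Art.plus z := by
      rw [← hz1, ← hz2]
      exact ArtFun.TangentStr.add_eq z
    have hG := ArtFun.TangentStr.add_eq (F := G) (φ.app _ z)
    have e1 : ArtFun.TangentSpace.map φ x = G.map ArtFun.Art.pr₁ (φ.app _ z) := by
      change φ.app _ x = _
      rw [← hz1]
      exact CategoryTheory.NatTrans.naturality_apply φ _ z
    have e2 : ArtFun.TangentSpace.map φ y = G.map ArtFun.Art.pr₂ (φ.app _ z) := by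
      change φ.app _ y = _
      rw [← hz2]
      exact CategoryTheory.NatTrans.naturality_apply φ _ z
    have e3 : ArtFun.TangentSpace.map φ (x + y) = G.map ArtFun.Art.plus (φ.app _ z) := by
      change φ.app _ (x + y) = _
      rw [hxy]
      exact CategoryTheory.NatTrans.naturality_apply φ _ z
    rw [e1, e2, e3]
    exact hG.symm
  · intro c x
    have e1 : c • x = F.map (ArtFun.Art.scale c) x := ArtFun.TangentStr.smul_eq c x
    have e2 : c • ArtFun.TangentSpace.map φ x = G.map (ArtFun.Art.scale c) (φ.app _ x) :=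
      ArtFun.TangentStr.smul_eq (F := G) c (φ.app _ x)
    rw [RingHom.id_apply, e2]
    change φ.app _ (c • x) = _
    rw [e1]
    exact CategoryTheory.NatTrans.naturality_apply φ _ x

end Groth.Agent.S12736
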