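import Groth.Statements.S12742
import Groth.Agent.Lib.Helper6.ArtFunDelta

set_option autoImplicit false
universe u v
open CategoryTheory
open ArtFun

namespace Groth.Agent.S12742

/-- For functors, a morphism f : F → G of deformation functors on Artinian local Λ-algebras with residue
field k (values at k a point, condition (RS) for both) is smooth if and only if (1) it is surjective
on tangent spaces and (2) for every small extension A' → A and every x ∈ F(A) whose image in G(A)
lifts to G(A'), x lifts to F(A'). -/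
theorem result {Λ : Type u} {k : Type u} [CommRing Λ] [Field k] [Algebra Λ k]
    [IsNoetherianRing Λ] [Module.Finite Λ k]
    {F G : ArtFun.Art Λ k ⥤ Type v}
    (hF0 : ArtFun.H0 F) (hF : (∀ ⦃B A A' A'' : ArtFun.Art Λ k⦄ (p' : B ⟶ A') (p'' : B ⟶ A'') (f' : A' ⟶ A) (f'' : A'' ⟶ A)
        (h : ArtFun.Art.IsFibreProd p' p'' f' f''), Function.Surjective f'' → Function.Bijective (ArtFun.cmp F h)))
    (hG0 : ArtFun.H0 G) (hG : (∀ ⦃B A A' A'' : ArtFun.Art Λ k⦄ (p' : B ⟶ A') (p'' : B ⟶ A'') (f' : A' ⟶ A) (f'' : A'' ⟶ A)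
        (h : ArtFun.Art.IsFibreProd p' p'' f' f''), Function.Surjective f'' → Function.Bijective (ArtFun.cmp G h)))
    (f : F ⟶ G) :
    ArtFun.IsSmooth f ↔
      (Function.Surjective (ArtFun.TangentSpace.map f) ∧
        ∀ ⦃A' A : ArtFun.Art Λ k⦄ (μ : A' ⟶ A), ArtFun.Art.IsSmallExt μ → ∀ x : F.obj A,
          (∃ y' : G.obj A', G.map μ y' = f.app A x) → ∃ x' : F.obj A', F.map μ x' = x) := by
  have hF' : Groth.Agent.H6.RS F := hF
  have hG' : Groth.Agent.H6.RS G := hG
  constructor
  · intro hf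
    refine ⟨Groth.Agent.H6.isSmooth_tangent_surjective f hf hF0 hG0, ?_⟩
    intro A' A μ hμ x hy
    obtain ⟨y', hy'⟩ := hy
    obtain ⟨z, hz, -⟩ := (Groth.Agent.H6.isSmooth_iff f).mp hf μ hμ.1 x y' hy'.symm
    exact ⟨z, hz⟩
  · rintro ⟨h1, h2⟩
    exact Groth.Agent.H6.isSmooth_of_tangent_surjective_of_lift f hF0 hF'.heps hG'.s1 hG'.heps h1 h2

end Groth.Agent.S12742
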