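import Groth.Statements.S12744
import Groth.Agent.Lib.Helper6.ArtFun

set_option autoImplicit false
universe u v
open CategoryTheory
open ArtFun

namespace Groth.Agent.S12744

/-- For functors, if η : F → G is a smooth morphism of functors on Artinian local Λ-algebras with
residue field k and F(k) → G(k) is surjective, then for every complete local Noetherian R with
residue field k the induced map on formal elements over R (compatible systems of elements over the
truncations R/m^(n+1)) is surjective. -/
theorem result {Λ : Type u} {k : Type u} [CommRing Λ] [Field k] [Algebra Λ k]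
    [IsNoetherianRing Λ] [Module.Finite Λ k]
    {F G : ArtFun.Art Λ k ⥤ Type v} (η : F ⟶ G) (hη : ArtFun.IsSmooth η)
    (h0 : Function.Surjective (η.app (ArtFun.Art.base Λ k))) (R : ArtFun.CRing Λ k) :
    Function.Surjective (fun u : ArtFun.FormalElt F R => u.map η) := by
  classical
  intro w
  have hη' := (Groth.Agent.H6.isSmooth_iff η).mp hη
  have hsurjT : ∀ n, Function.Surjective (R.truncMap n) := by
    intro n x
    obtain ⟨a, rfl⟩ := Ideal.Quotient.mk_surjective x
    exact ⟨Ideal.Quotient.mk _ a, rfl⟩
  have hstep : ∀ n (v : F.obj (R.trunc n)), η.app _ v = w.elt n →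
      ∃ v' : F.obj (R.trunc (n + 1)), F.map (R.truncMap n) v' = v ∧ η.app _ v' = w.elt (n + 1) := by
    intro n v hv
    exact hη' (R.truncMap n) (hsurjT n) v (w.elt (n + 1)) (by rw [hv, w.compat])
  obtain ⟨v0, hv0⟩ := Groth.Agent.H6.isSmooth_surjective_app η hη h0 (R.trunc 0) (w.elt 0)
  let seq : ∀ n, {v : F.obj (R.trunc n) // η.app _ v = w.elt n} := fun n =>
    Nat.rec (motive := fun n => {v : F.obj (R.trunc n) // η.app _ v = w.elt n}) ⟨v0, hv0⟩
      (fun n v => ⟨(hstep n v.1 v.2).choose, (hstep n v.1 v.2).choose_spec.2⟩) n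
  have hseq : ∀ n, F.map (R.truncMap n) (seq (n + 1)).1 = (seq n).1 :=
    fun n => (hstep n (seq n).1 (seq n).2).choose_spec.1
  exact ⟨⟨fun n => (seq n).1, hseq⟩, ArtFun.FormalElt.ext' (fun n => (seq n).2)⟩

end Groth.Agent.S12744
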