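import Groth.Statements.S12748
import Groth.Agent.Lib.Helper5.FSm.PSComplete
-- import your own Groth.Agent.* helpers here

set_option autoImplicit false
universe u v
open CategoryTheory
open ArtFun ArtFun.CRing

namespace Groth.Agent.S12748

/-- Let R' → R be a morphism of complete local Noetherian Λ-algebras with residue field k with an
R'-algebra retraction ρ : R → R', so that R = R' ⊕ I for the ideal I = ker ρ; let x₁, …, x_r ∈ I map
to a basis of I/m_R I and let φ : R'[[X₁, …, X_r]] → R be an R'-algebra map sending X_i to x_i. If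
for all large n the induced map R'[[X]]/m^n → R/m_R^n has a left inverse — a Λ-algebra map g_n : R →
R'[[X]]/m^n with g_n ∘ φ equal to the quotient map — then φ is an isomorphism. -/
theorem result {Λ : Type u} {k : Type u} [CommRing Λ] [Field k] [Algebra Λ k]
    [IsNoetherianRing Λ] [Module.Finite Λ k]
    (R' R : ArtFun.CRing Λ k) [Algebra R'.carrier R.carrier] [IsScalarTower Λ R'.carrier R.carrier]
    (hc : R.res.comp (IsScalarTower.toAlgHom Λ R'.carrier R.carrier) = R'.res)
    (ρ : R.carrier →ₐ[R'.carrier] R'.carrier)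
    (r : ℕ) (x : Fin r → R.carrier) (hxI : ∀ i, ρ (x i) = 0)
    (hspan : Ideal.span (Set.range x) ⊔ IsLocalRing.maximalIdeal R.carrier * RingHom.ker ρ = RingHom.ker ρ)
    (hli : ∀ c : Fin r → R.carrier, (∑ i, c i * x i) ∈ IsLocalRing.maximalIdeal R.carrier * RingHom.ker ρ →
      ∀ i, c i ∈ IsLocalRing.maximalIdeal R.carrier)
    (φ : MvPowerSeries (Fin r) R'.carrier →ₐ[R'.carrier] R.carrier) (hφ : ∀ i, φ (MvPowerSeries.X i) = x i)
    (hinv : ∃ N : ℕ, ∀ n, N ≤ n →
      ∃ g : R.carrier →ₐ[Λ] (MvPowerSeries (Fin r) R'.carrier ⧸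
          IsLocalRing.maximalIdeal (MvPowerSeries (Fin r) R'.carrier) ^ n),
        ∀ s, g (φ s) = Ideal.Quotient.mk _ s) :
    Function.Bijective φ := by
  classical
  haveI := R'.isAdicComplete
  haveI := R.isAdicComplete
  let T := MvPowerSeries (Fin r) R'.carrier
  -- ρ is a retraction
  have hρi : ∀ a : R'.carrier, ρ (algebraMap R'.carrier R.carrier a) = a := fun a => by
    rw [AlgHom.commutes]; rfl
  have hkerm : RingHom.ker ρ ≤ IsLocalRing.maximalIdeal R.carrier :=
    IsLocalRing.le_maximalIdeal (RingHom.ker_ne_top _)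
  have hmemR : ∀ y : R.carrier, y ∈ IsLocalRing.maximalIdeal R.carrier ↔ R.res y = 0 := by
    intro y
    have hmax : (RingHom.ker (R.res : R.carrier →+* k)).IsMaximal :=
      RingHom.ker_isMaximal_of_surjective (R.res : R.carrier →+* k) R.res_surjective
    rw [← IsLocalRing.eq_maximalIdeal hmax, RingHom.mem_ker]
    rfl
  have hmemR' : ∀ y : R'.carrier, y ∈ IsLocalRing.maximalIdeal R'.carrier ↔ R'.res y = 0 := by
    intro y
    have hmax : (RingHom.ker (R'.res : R'.carrier →+* k)).IsMaximal :=
      RingHom.ker_isMaximal_of_surjective (R'.res : R'.carrier →+* k) R'.res_surjective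
    rw [← IsLocalRing.eq_maximalIdeal hmax, RingHom.mem_ker]
    rfl
  have hres : ∀ a : R'.carrier, R.res (algebraMap R'.carrier R.carrier a) = R'.res a := fun a =>
    congrArg (fun f : R'.carrier →ₐ[Λ] k => f a) hc
  have hφC : ∀ a : R'.carrier, φ (MvPowerSeries.C a) = algebraMap R'.carrier R.carrier a := by
    intro a
    have : (MvPowerSeries.C a : MvPowerSeries (Fin r) R'.carrier) = algebraMap R'.carrier _ a := by
      rw [MvPowerSeries.algebraMap_apply]; simp
    rw [this, AlgHom.commutes]
  -- the composite `T → R → k` is surjective, so its kernel is the maximal ideal of `T`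
  have hmemT : ∀ s : MvPowerSeries (Fin r) R'.carrier,
      s ∈ IsLocalRing.maximalIdeal (MvPowerSeries (Fin r) R'.carrier) ↔ R.res (φ s) = 0 := by
    intro s
    have hsurj : Function.Surjective ((R.res : R.carrier →+* k).comp φ.toRingHom) := by
      intro c
      obtain ⟨a, ha⟩ := R'.res_surjective c
      refine ⟨MvPowerSeries.C a, ?_⟩
      change R.res (φ (MvPowerSeries.C a)) = c
      rw [hφC, hres, ha]
    have hmax := RingHom.ker_isMaximal_of_surjective _ hsurj
    rw [← IsLocalRing.eq_maximalIdeal hmax, RingHom.mem_ker]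
    rfl
  -- the image of the maximal ideal of `T` generates the maximal ideal of `R`
  have hxspan : RingHom.ker ρ ≤ Ideal.span (Set.range x) := by
    have hfg : (RingHom.ker ρ : Ideal R.carrier).FG := IsNoetherian.noetherian _
    refine Submodule.le_of_le_smul_of_le_jacobson_bot hfg
      (IsLocalRing.maximalIdeal_le_jacobson ⊥) ?_
    rw [smul_eq_mul, hspan]
  have hmap : (IsLocalRing.maximalIdeal (MvPowerSeries (Fin r) R'.carrier)).map φ.toRingHom =
      IsLocalRing.maximalIdeal R.carrier := by
    apply le_antisymm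
    · rw [Ideal.map_le_iff_le_comap]
      intro s hs
      rw [Ideal.mem_comap, hmemR]
      exact (hmemT s).mp hs
    · intro y hy
      have h1 : y - algebraMap R'.carrier R.carrier (ρ y) ∈ RingHom.ker ρ := by
        rw [RingHom.mem_ker, map_sub, hρi, sub_self]
      have h2 : ρ y ∈ IsLocalRing.maximalIdeal R'.carrier := by
        rw [hmemR', ← hres]
        have h3 := (hmemR _).mp (hkerm h1)
        rw [map_sub, (hmemR y).mp hy, zero_sub, neg_eq_zero] at h3
        exact h3
      have h4 : y = (y - algebraMap R'.carrier R.carrier (ρ y)) +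
          algebraMap R'.carrier R.carrier (ρ y) := by ring
      rw [h4]
      refine Ideal.add_mem _ ?_ ?_
      · refine (Ideal.span_le.mpr ?_) (hxspan h1)
        rintro _ ⟨i, rfl⟩
        rw [← hφ i]
        refine Ideal.mem_map_of_mem φ.toRingHom ?_
        rw [hmemT, hφ, ← hmemR]
        exact hkerm ((RingHom.mem_ker).mpr (hxI i))
      · rw [← hφC]
        refine Ideal.mem_map_of_mem φ.toRingHom ?_
        rw [hmemT, hφC, hres, ← hmemR']
        exact h2
  constructor
  · -- injectivity
    rw [injective_iff_map_eq_zero]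
    intro s hs
    obtain ⟨N, hN⟩ := hinv
    have hmem : ∀ n, s ∈ IsLocalRing.maximalIdeal (MvPowerSeries (Fin r) R'.carrier) ^ n := by
      intro n
      obtain ⟨g, hg⟩ := hN (max n N) (le_max_right _ _)
      have h1 := hg s
      rw [hs, map_zero] at h1
      have h2 : s ∈ IsLocalRing.maximalIdeal (MvPowerSeries (Fin r) R'.carrier) ^ (max n N) :=
        Ideal.Quotient.eq_zero_iff_mem.mp h1.symm
      exact Ideal.pow_le_pow_right (le_max_left _ _) h2
    have hbot : (⨅ n, IsLocalRing.maximalIdeal (MvPowerSeries (Fin r) R'.carrier) ^ n) = ⊥ :=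
      Ideal.iInf_pow_eq_bot_of_isLocalRing _ (IsLocalRing.maximalIdeal.isMaximal _).ne_top
    have : s ∈ (⨅ n, IsLocalRing.maximalIdeal (MvPowerSeries (Fin r) R'.carrier) ^ n) :=
      (Ideal.mem_iInf).mpr hmem
    rw [hbot] at this
    exact this
  · -- surjectivity
    haveI : IsHausdorff ((IsLocalRing.maximalIdeal (MvPowerSeries (Fin r) R'.carrier)).map
        φ.toRingHom) R.carrier := by
      rw [hmap]; infer_instance
    have := surjective_of_mk_map_comp_surjective
      (I := IsLocalRing.maximalIdeal (MvPowerSeries (Fin r) R'.carrier)) φ.toRingHom ?_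
    · exact this
    · intro y
      obtain ⟨y', rfl⟩ := Ideal.Quotient.mk_surjective y
      refine ⟨MvPowerSeries.C (ρ y'), ?_⟩
      show Ideal.Quotient.mk _ (φ (MvPowerSeries.C (ρ y'))) = Ideal.Quotient.mk _ y'
      rw [hφC, Ideal.Quotient.eq, hmap]
      have h1 : y' - algebraMap R'.carrier R.carrier (ρ y') ∈ RingHom.ker ρ := by
        rw [RingHom.mem_ker, map_sub, hρi, sub_self]
      have := hkerm h1
      rw [← Ideal.neg_mem_iff] at this
      simpa using this

end Groth.Agent.S12748
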