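import Groth.Statements.S1276
import Mathlib
import Groth.Agent.Lib.Lead.QC.SuppPullback

set_option autoImplicit false
universe u
open FlatMor

namespace Groth.Agent.S1276

namespace H1.S1276aux

/-- over a Noetherian target, the extension of an ideal is already the extension of a finitely
generated subideal. -/
lemma exists_fg_le_map_eq {B F : Type*} [CommRing B] [CommRing F] [IsNoetherianRing F]
    (φ : B →+* F) (I : Ideal B) : ∃ J : Ideal B, J.FG ∧ J ≤ I ∧ J.map φ = I.map φ := by
  classical
  obtain ⟨T, hT⟩ := (isNoetherianRing_iff_ideal_fg F).mp inferInstance (I.map φ)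
  have hmem : ∀ t ∈ T, ∃ s : Finset B, (s : Set B) ⊆ I ∧ t ∈ Ideal.span (φ '' (s : Set B)) := by
    intro t ht
    have h1 : t ∈ I.map φ := by rw [← hT]; exact Ideal.subset_span ht
    rw [Ideal.map, Ideal.span] at h1
    obtain ⟨s', hs', hts'⟩ := Submodule.mem_span_finite_of_mem_span h1
    -- s' ⊆ φ '' I finite; pick preimages
    have : ∀ y ∈ s', ∃ x : B, x ∈ I ∧ φ x = y := fun y hy => hs' hy
    choose! pre hpre using this
    refine ⟨s'.image pre, ?_, ?_⟩
    · intro x hx
      simp only [Finset.coe_image, Set.mem_image, Finset.mem_coe] at hx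
      obtain ⟨y, hy, rfl⟩ := hx
      exact (hpre y hy).1
    · refine Submodule.span_mono ?_ hts'
      intro y hy
      refine ⟨pre y, ?_, (hpre y hy).2⟩
      simp only [Finset.coe_image, Set.mem_image, Finset.mem_coe]
      exact ⟨y, hy, rfl⟩
  choose! s hs using hmem
  refine ⟨Ideal.span (T.biUnion s : Set B), ⟨T.biUnion s, rfl⟩, ?_, ?_⟩
  · rw [Ideal.span_le]
    intro x hx
    simp only [Finset.coe_biUnion, Finset.mem_coe, Set.mem_iUnion, exists_prop] at hx
    obtain ⟨t, ht, hxt⟩ := hx
    exact (hs t ht).1 hxt
  · apply le_antisymm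
    · apply Ideal.map_mono
      rw [Ideal.span_le]
      intro x hx
      simp only [Finset.coe_biUnion, Finset.mem_coe, Set.mem_iUnion, exists_prop] at hx
      obtain ⟨t, ht, hxt⟩ := hx
      exact (hs t ht).1 hxt
    · rw [← hT, Ideal.span_le]
      intro t ht
      rw [Ideal.map_span]
      refine Submodule.span_mono ?_ (hs t ht).2
      apply Set.image_mono
      intro x hx
      simp only [Finset.coe_biUnion, Finset.mem_coe, Set.mem_iUnion, exists_prop]
      exact ⟨t, ht, hx⟩

end H1.S1276aux

/-- Let B be a finite type A-algebra, N a finite B-module and p a prime of A. Then there is a finitely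
generated ideal J of B annihilating N (so N is a module on the finitely presented closed subscheme
V(J) of Spec B) such that a point of the fibre Spec(κ(p) ⊗ B) lies in V(J) if and only if it lies in
the support of the fibre module of N. -/
theorem result {A B : Type u} [CommRing A] [CommRing B] [Algebra A B] [Algebra.FiniteType A B]
    (N : Type u) [AddCommGroup N] [Module B N] [Module A N] [IsScalarTower A B N] [Module.Finite B N] (p : Ideal A) [p.IsPrime] :
    ∃ J : Ideal B, J.FG ∧ J ≤ Module.annihilator B N ∧
      ∀ x : PrimeSpectrum (p.Fiber B), FlatCA.fiberIdeal p J ≤ x.asIdeal ↔ x ∈ Module.support (p.Fiber B) (FlatCA.fiberMod p B N) := by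
  haveI : IsNoetherianRing (p.Fiber B) :=
    Algebra.FiniteType.isNoetherianRing p.ResidueField (p.Fiber B)
  letI : Algebra B (p.Fiber B) := Algebra.TensorProduct.rightAlgebra
  obtain ⟨J, hJfg, hJle, hJmap⟩ := H1.S1276aux.exists_fg_le_map_eq
    (Algebra.TensorProduct.includeRight (R := A) (A := p.ResidueField) (B := B)).toRingHom
    (Module.annihilator B N)
  refine ⟨J, hJfg, hJle, fun x => ?_⟩
  have hsupp : Module.support (p.Fiber B) (FlatCA.fiberMod p B N) =
      PrimeSpectrum.comap (algebraMap B (p.Fiber B)) ⁻¹' Module.support B N :=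
    Groth.Agent.LD.QC.support_baseChange (A := B) (B := p.Fiber B) N
  rw [hsupp, Set.mem_preimage, Module.support_eq_zeroLocus, PrimeSpectrum.mem_zeroLocus]
  change J.map _ ≤ _ ↔ _
  rw [hJmap, Ideal.map_le_iff_le_comap]
  rfl

end Groth.Agent.S1276
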