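import Groth.Statements.S12760
import Groth.Agent.Lib.Helper3.AlgSt.SmoothLocally
import Groth.Agent.Lib.Helper3.QDiag.Main
import Groth.Agent.Lib.Helper3.QDiag.EtAtlas

set_option autoImplicit false
open CategoryTheory AlgebraicGeometry
universe u
open AlgSt

namespace Groth.Agent.S12760

/-- Let `u : 𝒰 ⟶ 𝒳` be a functor over `(Sch/S)` between stacks in groupoids (fppf topology). Suppose `u`
is smooth, surjective and representable by algebraic spaces, and that `𝒰` is representable by an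
algebraic space; then `𝒳` is an algebraic stack over `S`. -/
theorem result {S : Scheme.{u}} {𝒰 𝒳 : AlgSt.Cat S}
    (h𝒰 : Stk.IsStack (QuotSh.J Scheme.fppfPrecoverage S) 𝒰) (h𝒳 : Stk.IsStack (QuotSh.J Scheme.fppfPrecoverage S) 𝒳)
    (hU : AlgSt.RepByAlgSp 𝒰) (u : 𝒰 ⥤ᵇ 𝒳) (hsm : AlgSt.RepByAlgSpWith (AlgSp.LocP @Smooth) u)
    (hsurj : AlgSt.RepByAlgSpWith AlgSp.IsSurjectiveMor u) :
    AlgSt.IsAlgStack Scheme.fppfPrecoverage 𝒳 := by
  obtain ⟨F, e, he⟩ := hU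
  obtain ⟨W, p, hpe, hps⟩ := F.property.atlas
  have h1 : AlgSt.RepByAlgSpWith (AlgSp.LocP @Smooth) (BasedFunctor.comp e u) :=
    (Groth.Agent.H3.AlgStBridge2.repByAlgSpWith_comp_equiv_iff _ e he u).2 hsm
  have h2 : AlgSt.RepByAlgSpWith AlgSp.IsSurjectiveMor (BasedFunctor.comp e u) :=
    (Groth.Agent.H3.AlgStBridge2.repByAlgSpWith_comp_equiv_iff _ e he u).2 hsurj
  have hx1 : AlgSt.RepByAlgSpWith (AlgSp.LocP @Smooth)
      (BasedFunctor.comp (Groth.Agent.H3.AlgStSpaceDM.chartOf p) (BasedFunctor.comp e u)) :=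
    Groth.Agent.H3.AlgStProps.good_smooth.toC.repComp
      (Groth.Agent.H3.AlgStCharts.isFibGrpd_overCat W) (Stk.isFibGrpd_ofPsh _) _ _
      (Groth.Agent.H3.AlgStSmoothLoc.rep_smooth_chartOf p hpe) h1
  have hx3 : AlgSt.RepByAlgSpWith AlgSp.IsSurjectiveMor
      (BasedFunctor.comp (Groth.Agent.H3.AlgStSpaceDM.chartOf p) (BasedFunctor.comp e u)) :=
    Groth.Agent.H3.AlgStProps.good_isSurjectiveMor.toC.repComp
      (Groth.Agent.H3.AlgStCharts.isFibGrpd_overCat W) (Stk.isFibGrpd_ofPsh _) _ _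
      (Groth.Agent.H3.AlgStSmoothLoc.rep_surj_chartOf p hps) h2
  refine ⟨h𝒳, ?_, ⟨W, _, hx1, hx3⟩⟩
  have hw : AlgSt.RepByAlgSp1
      (BasedFunctor.comp (Groth.Agent.H3.AlgStSpaceDM.chartOf p) (BasedFunctor.comp e u)) :=
    fun T y => by
      obtain ⟨F, e, he, -⟩ := hx1 T y
      exact ⟨F, e, he⟩
  exact Groth.Agent.H3.QDiag.repByAlgSp1_diag _
    (Groth.Agent.H3.StackMore.isPrestack_of_isStack _ h𝒳) hw
    (Groth.Agent.H3.QDiag.locFac_of_smooth _ hx1 hx3)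

end Groth.Agent.S12760
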