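import Groth.Statements.S1277
import Groth.Agent.Lib.Helper8.FlatCA.Loc
import Groth.Agent.Lib.Helper8.FlatCA.Prime
-- import your own Groth.Agent.* helpers here

set_option autoImplicit false
universe u
open FlatMor

namespace Groth.Agent.S1277

open IsLocalRing in
/-- Let A be a local ring, A → B a local homomorphism of local rings, B → C a flat local homomorphism of
local rings, M a B-module and N = M ⊗_B C. For every local homomorphism of local rings A → A', with
base changes B' = B ⊗_A A', M', C' = C ⊗_A A', N' (any models): M' is flat over A' at every prime of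
B' containing 𝔪_{A'}B' + 𝔪_B B' if and only if N' is flat over A' at every prime of C' containing
𝔪_{A'}C' + 𝔪_C C'. -/
theorem result {A B C : Type u} [CommRing A] [IsLocalRing A] [CommRing B] [IsLocalRing B] [CommRing C] [IsLocalRing C]
    [Algebra A B] [IsLocalHom (algebraMap A B)] [Algebra B C] [IsLocalHom (algebraMap B C)] [Algebra A C] [IsScalarTower A B C] [Module.Flat B C]
    (M : Type u) [AddCommGroup M] [Module B M] (N : Type u) [AddCommGroup N] [Module C N] [Module B N] [IsScalarTower B C N]
    (g : M →ₗ[B] N) (hg : IsBaseChange C g)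
    (A' : Type u) [CommRing A'] [IsLocalRing A'] [Algebra A A'] [IsLocalHom (algebraMap A A')]
    (B' M' : Type u) [CommRing B'] [Algebra B B'] [Algebra A' B'] [Algebra A B'] [IsScalarTower A B B'] [IsScalarTower A A' B']
        [Algebra.IsPushout A B A' B']
        [AddCommGroup M'] [Module B' M'] [Module B M'] [IsScalarTower B B' M'] [Module A' M'] [IsScalarTower A' B' M']
        (fB : M →ₗ[B] M') (hfB : IsBaseChange B' fB)
    (C' N' : Type u) [CommRing C'] [Algebra C C'] [Algebra A' C'] [Algebra A C'] [IsScalarTower A C C'] [IsScalarTower A A' C']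
        [Algebra.IsPushout A C A' C']
        [AddCommGroup N'] [Module C' N'] [Module C N'] [IsScalarTower C C' N'] [Module A' N'] [IsScalarTower A' C' N']
        (fC : N →ₗ[C] N') (hfC : IsBaseChange C' fC) :
    FlatCA.FlatAboveClosedPoints B A' B' M' ↔ FlatCA.FlatAboveClosedPoints C A' C' N' := by
  classical
  -- the canonical map `B' → C'`
  letI algBC' : Algebra B C' := ((algebraMap C C').comp (algebraMap B C)).toAlgebra
  haveI t1 : IsScalarTower B C C' := IsScalarTower.of_algebraMap_eq (fun _ => rfl)
  haveI t2 : IsScalarTower A B C' := IsScalarTower.of_algebraMap_eq (fun a => by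
    show algebraMap A C' a = algebraMap C C' (algebraMap B C (algebraMap A B a))
    rw [← IsScalarTower.algebraMap_apply A B C, ← IsScalarTower.algebraMap_apply A C C'])
  let φ : B' →ₐ[A] C' := Algebra.pushoutDesc B' (IsScalarTower.toAlgHom A B C')
    (IsScalarTower.toAlgHom A A' C') (fun _ _ => mul_comm _ _)
  have hφl : ∀ b : B, φ (algebraMap B B' b) = algebraMap B C' b :=
    fun b => Algebra.pushoutDesc_left B' _ _ _ b
  have hφr : ∀ a : A', φ (algebraMap A' B' a) = algebraMap A' C' a :=
    fun a => Algebra.pushoutDesc_right B' _ _ _ a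
  letI algB'C' : Algebra B' C' := φ.toRingHom.toAlgebra
  haveI t3 : IsScalarTower B B' C' := IsScalarTower.of_algebraMap_eq (fun b => (hφl b).symm)
  haveI t4 : IsScalarTower A' B' C' := IsScalarTower.of_algebraMap_eq (fun a => (hφr a).symm)
  haveI t5 : IsScalarTower A B' C' := IsScalarTower.of_algebraMap_eq (fun a => (φ.commutes a).symm)
  haveI po : Algebra.IsPushout B C B' C' :=
    (Algebra.IsPushout.comp_iff A B A' B' (T := C) (T' := C')).mp inferInstance
  haveI flB'C' : Module.Flat B' C' := Module.Flat.isBaseChange B B' C C' po.symm.out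
  -- module structures on `N'`
  letI modBN' : Module B N' := Module.compHom N' (algebraMap B C)
  haveI t6 : IsScalarTower B C N' := IsScalarTower.of_algebraMap_smul (fun _ _ => rfl)
  letI modB'N' : Module B' N' := Module.compHom N' (algebraMap B' C')
  haveI t7 : IsScalarTower B' C' N' := IsScalarTower.of_algebraMap_smul (fun _ _ => rfl)
  haveI t9 : IsScalarTower B C' N' := IsScalarTower.of_algebraMap_smul (fun b x => by
    show algebraMap C C' (algebraMap B C b) • x = algebraMap B C b • x
    rw [algebraMap_smul])
  haveI t8 : IsScalarTower B B' N' := IsScalarTower.of_algebraMap_smul (fun b x => by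
    show algebraMap B' C' (algebraMap B B' b) • x = algebraMap B C b • x
    rw [← IsScalarTower.algebraMap_apply B B' C', IsScalarTower.algebraMap_apply B C C',
      algebraMap_smul])
  -- `M' → N'` is a base change along `B' → C'`
  have hg0 : IsBaseChange C' ((fC.restrictScalars B).comp g) := IsBaseChange.comp hg hfC
  have hg'c : ((hfB.lift ((fC.restrictScalars B).comp g)).restrictScalars B).comp fB =
      (fC.restrictScalars B).comp g := hfB.lift_comp _
  have hg' : IsBaseChange C' (hfB.lift ((fC.restrictScalars B).comp g)) :=
    IsBaseChange.of_comp hfB (by rw [hg'c]; exact hg0)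
  have hloc : (IsLocalRing.maximalIdeal B).map (algebraMap B C) ≤ IsLocalRing.maximalIdeal C :=
    ((IsLocalRing.local_hom_TFAE (algebraMap B C)).out 0 2).mp ‹IsLocalHom (algebraMap B C)›
  constructor
  · intro hM r hr hle
    have hq : (IsLocalRing.maximalIdeal A').map (algebraMap A' B') ⊔
        (IsLocalRing.maximalIdeal B).map (algebraMap B B') ≤ r.comap (algebraMap B' C') := by
      rw [sup_le_iff]
      constructor
      · rw [Ideal.map_le_iff_le_comap]
        intro a ha
        rw [Ideal.mem_comap, Ideal.mem_comap, ← IsScalarTower.algebraMap_apply A' B' C']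
        exact hle (Ideal.mem_sup_left (Ideal.mem_map_of_mem _ ha))
      · rw [Ideal.map_le_iff_le_comap]
        intro b hb
        rw [Ideal.mem_comap, Ideal.mem_comap, ← IsScalarTower.algebraMap_apply B B' C',
          IsScalarTower.algebraMap_apply B C C']
        exact hle (Ideal.mem_sup_right (Ideal.mem_map_of_mem _
          (hloc (Ideal.mem_map_of_mem _ hb))))
    have h1 := hM (r.comap (algebraMap B' C')) hq
    exact (Groth.Agent.H8.FlatCA.flat_localizedModule_iff (R := A') _ hg' r
      (r.comap (algebraMap B' C')) rfl).mp h1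
  · intro hN q hq hle
    obtain ⟨r, hr, hrq, hrC⟩ := Groth.Agent.H8.FlatCA.exists_prime_over (B := B) (C := C)
      (B' := B') (C' := C') q (le_sup_right.trans hle)
    have hr' : (IsLocalRing.maximalIdeal A').map (algebraMap A' C') ⊔
        (IsLocalRing.maximalIdeal C).map (algebraMap C C') ≤ r := by
      rw [sup_le_iff]
      refine ⟨?_, hrC⟩
      rw [Ideal.map_le_iff_le_comap]
      intro a ha
      rw [Ideal.mem_comap, IsScalarTower.algebraMap_apply A' B' C', ← Ideal.mem_comap, hrq]
      exact hle (Ideal.mem_sup_left (Ideal.mem_map_of_mem _ ha))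
    have h1 := hN r hr'
    exact (Groth.Agent.H8.FlatCA.flat_localizedModule_iff (R := A') _ hg' r q hrq.symm).mpr h1

end Groth.Agent.S1277
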