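import Groth.Statements.S1278
import Groth.Agent.Lib.Helper8.FlatCA.LocLoc
-- import your own Groth.Agent.* helpers here

set_option autoImplicit false
universe u
open FlatMor

namespace Groth.Agent.S1278

open IsLocalRing in
/-- Let A be a local ring and B → C a finite local homomorphism of local A-algebras (A → B local), and N
a C-module, viewed also as a B-module. For every local homomorphism of local rings A → A', with base
changes B', C' of B, C and base changes M' (of N over B') and N' (of N over C'): M' is flat over A'
at every prime of B' containing 𝔪_{A'}B' + 𝔪_B B' if and only if N' is flat over A' at every prime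
of C' containing 𝔪_{A'}C' + 𝔪_C C'. -/
theorem result {A B C : Type u} [CommRing A] [IsLocalRing A] [CommRing B] [IsLocalRing B] [CommRing C] [IsLocalRing C]
    [Algebra A B] [IsLocalHom (algebraMap A B)] [Algebra B C] [IsLocalHom (algebraMap B C)] [Algebra A C] [IsScalarTower A B C] [Module.Finite B C]
    (N : Type u) [AddCommGroup N] [Module C N] [Module B N] [IsScalarTower B C N]
    (A' : Type u) [CommRing A'] [IsLocalRing A'] [Algebra A A'] [IsLocalHom (algebraMap A A')]
    (B' M' : Type u) [CommRing B'] [Algebra B B'] [Algebra A' B'] [Algebra A B'] [IsScalarTower A B B'] [IsScalarTower A A' B']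
        [Algebra.IsPushout A B A' B']
        [AddCommGroup M'] [Module B' M'] [Module B M'] [IsScalarTower B B' M'] [Module A' M'] [IsScalarTower A' B' M']
        (fB : N →ₗ[B] M') (hfB : IsBaseChange B' fB)
    (C' N' : Type u) [CommRing C'] [Algebra C C'] [Algebra A' C'] [Algebra A C'] [IsScalarTower A C C'] [IsScalarTower A A' C']
        [Algebra.IsPushout A C A' C']
        [AddCommGroup N'] [Module C' N'] [Module C N'] [IsScalarTower C C' N'] [Module A' N'] [IsScalarTower A' C' N']
        (fC : N →ₗ[C] N') (hfC : IsBaseChange C' fC) :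
    FlatCA.FlatAboveClosedPoints B A' B' M' ↔ FlatCA.FlatAboveClosedPoints C A' C' N' := by
  classical
  -- the canonical map `B' → C'`
  letI algBC' : Algebra B C' := ((algebraMap C C').comp (algebraMap B C)).toAlgebra
  haveI t1 : IsScalarTower B C C' := IsScalarTower.of_algebraMap_eq (fun _ => rfl)
  haveI t2 : IsScalarTower A B C' := IsScalarTower.of_algebraMap_eq (fun a => by
    show algebraMap A C' a = algebraMap C C' (algebraMap B C (algebraMap A B a))
    rw [← IsScalarTower.algebraMap_apply A B C, ← IsScalarTower.algebraMap_apply A C C'])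
  let φ : B' →ₐ[A] C' := Algebra.pushoutDesc B' (IsScalarTower.toAlgHom A B C')
    (IsScalarTower.toAlgHom A A' C') (fun _ _ => mul_comm _ _)
  have hφl : ∀ b : B, φ (algebraMap B B' b) = algebraMap B C' b :=
    fun b => Algebra.pushoutDesc_left B' _ _ _ b
  have hφr : ∀ a : A', φ (algebraMap A' B' a) = algebraMap A' C' a :=
    fun a => Algebra.pushoutDesc_right B' _ _ _ a
  letI algB'C' : Algebra B' C' := φ.toRingHom.toAlgebra
  haveI t3 : IsScalarTower B B' C' := IsScalarTower.of_algebraMap_eq (fun b => (hφl b).symm)
  haveI t4 : IsScalarTower A' B' C' := IsScalarTower.of_algebraMap_eq (fun a => (hφr a).symm)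
  haveI t5 : IsScalarTower A B' C' := IsScalarTower.of_algebraMap_eq (fun a => (φ.commutes a).symm)
  haveI po : Algebra.IsPushout B C B' C' :=
    (Algebra.IsPushout.comp_iff A B A' B' (T := C) (T' := C')).mp inferInstance
  haveI po' : Algebra.IsPushout B B' C C' := po.symm
  -- `C'` is finite, hence integral, over `B'`
  haveI finB'C' : Module.Finite B' C' := Module.Finite.equiv po'.out.equiv
  haveI intB'C' : Algebra.IsIntegral B' C' := inferInstance
  haveI intBC : Algebra.IsIntegral B C := inferInstance
  -- module structures on `N'`
  letI modB'N' : Module B' N' := Module.compHom N' (algebraMap B' C')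
  haveI t7 : IsScalarTower B' C' N' := IsScalarTower.of_algebraMap_smul (fun _ _ => rfl)
  haveI t10 : IsScalarTower A' B' N' := IsScalarTower.of_algebraMap_smul (fun a x => by
    show algebraMap B' C' (algebraMap A' B' a) • x = a • x
    rw [← IsScalarTower.algebraMap_apply A' B' C', algebraMap_smul])
  -- the isomorphism `M' ≃ N'` of `B'`-modules
  let Θ : M' ≃ₗ[B'] N' := hfB.equiv.symm ≪≫ₗ
    (Algebra.IsPushout.cancelBaseChange B B' C C' N).symm ≪≫ₗ (hfC.equiv.restrictScalars B')
  have hΘ : ∀ (q : Ideal B') [q.IsPrime], Module.Flat A' (LocalizedModule q.primeCompl M') ↔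
      Module.Flat A' (LocalizedModule q.primeCompl N') := by
    intro q _
    exact Module.Flat.equiv_iff ((IsLocalizedModule.mapEquiv q.primeCompl
      (LocalizedModule.mkLinearMap q.primeCompl M') (LocalizedModule.mkLinearMap q.primeCompl N')
      (Localization.AtPrime q) Θ).restrictScalars A')
  have hloc : (IsLocalRing.maximalIdeal B).map (algebraMap B C) ≤ IsLocalRing.maximalIdeal C :=
    ((IsLocalRing.local_hom_TFAE (algebraMap B C)).out 0 2).mp ‹IsLocalHom (algebraMap B C)›
  constructor
  · intro hM r hr hle
    have hq : (IsLocalRing.maximalIdeal A').map (algebraMap A' B') ⊔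
        (IsLocalRing.maximalIdeal B).map (algebraMap B B') ≤ r.comap (algebraMap B' C') := by
      rw [sup_le_iff]
      constructor
      · rw [Ideal.map_le_iff_le_comap]
        intro a ha
        rw [Ideal.mem_comap, Ideal.mem_comap, ← IsScalarTower.algebraMap_apply A' B' C']
        exact hle (Ideal.mem_sup_left (Ideal.mem_map_of_mem _ ha))
      · rw [Ideal.map_le_iff_le_comap]
        intro b hb
        rw [Ideal.mem_comap, Ideal.mem_comap, ← IsScalarTower.algebraMap_apply B B' C',
          IsScalarTower.algebraMap_apply B C C']
        exact hle (Ideal.mem_sup_right (Ideal.mem_map_of_mem _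
          (hloc (Ideal.mem_map_of_mem _ hb))))
    have h1 : Module.Flat A' (LocalizedModule (r.comap (algebraMap B' C')).primeCompl M') :=
      hM (r.comap (algebraMap B' C')) hq
    haveI h2 : Module.Flat A' (LocalizedModule (r.comap (algebraMap B' C')).primeCompl N') :=
      (hΘ _).mp h1
    exact Groth.Agent.H8.FlatCA.flat_atPrime_of_comap (R := A') N' r
      (r.comap (algebraMap B' C')) rfl
  · intro hN q hq hle
    refine (hΘ q).mpr ?_
    refine Groth.Agent.H8.FlatCA.flat_atPrime_of_forall_over (R := A') (T := C') N' q ?_
    intro r hr hrq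
    have hr' : (IsLocalRing.maximalIdeal A').map (algebraMap A' C') ⊔
        (IsLocalRing.maximalIdeal C).map (algebraMap C C') ≤ r := by
      rw [sup_le_iff]
      constructor
      · rw [Ideal.map_le_iff_le_comap]
        intro a ha
        rw [Ideal.mem_comap, IsScalarTower.algebraMap_apply A' B' C', ← Ideal.mem_comap, hrq]
        exact hle (Ideal.mem_sup_left (Ideal.mem_map_of_mem _ ha))
      · rw [Ideal.map_le_iff_le_comap]
        haveI h𝔠 : (r.comap (algebraMap C C')).IsPrime := Ideal.comap_isPrime _ _
        have hcc : (r.comap (algebraMap C C')).comap (algebraMap B C) =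
            IsLocalRing.maximalIdeal B := by
          symm
          apply (IsLocalRing.maximalIdeal.isMaximal B).eq_of_le
          · exact Ideal.IsPrime.ne_top (Ideal.comap_isPrime _ _)
          · intro b hb
            rw [Ideal.mem_comap, Ideal.mem_comap, ← IsScalarTower.algebraMap_apply B C C',
              IsScalarTower.algebraMap_apply B B' C', ← Ideal.mem_comap, hrq]
            exact hle (Ideal.mem_sup_right (Ideal.mem_map_of_mem _ hb))
        have hmax : (r.comap (algebraMap C C')).IsMaximal :=
          Ideal.isMaximal_of_isIntegral_of_isMaximal_comap (R := B) _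
            (by rw [hcc]; exact IsLocalRing.maximalIdeal.isMaximal B)
        exact (IsLocalRing.eq_maximalIdeal hmax).ge
    exact hN r hr'

end Groth.Agent.S1278
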