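import Groth.Statements.S12912
import Groth.Agent.Lib.Helper5.Curve6.Ext3
import Groth.Agent.Lib.Helper5.IntN.Hilb
import Groth.Agent.Lib.Lead.PN.H0Lin
import Groth.Agent.Lib.Lead.PF.ProjFinite
import Groth.Agent.Lib.Lead.CohLES.PushEquiv

set_option autoImplicit false
universe u
open CategoryTheory CategoryTheory.Limits AlgebraicGeometry
open Curves

namespace Groth.Agent.S12912

open Groth.Agent.LD Groth.Agent.LD.QC Groth.Agent.H5.Curve2 Groth.Agent.H5.IntN

/-- Let k be an algebraically closed field and X a curve over k (integral, proper over k, of dimension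
one) with a closed immersion i : X → P^r_k over k whose image lies in no hyperplane: every nonzero
global section of O(1) on P^r_k pulls back to a nonzero global section of i^* O(1). Then deg i^*
O(1) ≥ r. -/
theorem result (k : Type u) [Field k] [IsAlgClosed k] (r : ℕ)
    (X : Scheme.{u}) [X.Over (Spec (CommRingCat.of k))] [IsIntegral X] [IsProper (X ↘ (Spec (CommRingCat.of k)))]
    (hdim : topologicalKrullDim X = 1)
    (i : X ⟶ CohB1.ProjSpace r k) [IsClosedImmersion i]
    (hi : i ≫ CohB1.ProjSpace.toSpec r k = (X ↘ (Spec (CommRingCat.of k))))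
    (hplane : ∀ s : LinSer.Sect (CohB1.ProjSpace r k) (Twist.twistProjSpace r k 1), s ≠ 0 →
      OmegaSh.pullSect i (Twist.twistProjSpace r k 1) ⊤ s ≠ 0) :
    (r : ℤ) ≤ Curv2.deg k X ((Scheme.Modules.pullback i).obj (Twist.twistProjSpace r k 1)) 1 := by
  haveI := Curve.isLocallyNoetherian k X
  haveI : i.IsOver (Spec (CommRingCat.of k)) := ⟨hi⟩
  have hL : PicF.IsInvertible ((Scheme.Modules.pullback i).obj (Twist.twistProjSpace r k 1)) :=
    isInvertible_pbTwist i 1
  have hLc := Groth.Agent.H5.Curve2.isCoh_of_isInvertible hL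
  haveI : Module.Finite k (Coh.HH X ((Scheme.Modules.pullback i).obj (Twist.twistProjSpace r k 1)) 0) :=
    Curve.finite_HH k X _ hLc 0
  letI m1 := PF.moduleΓ k (Twist.twistProjSpace r k 1)
  letI m2 := PF.moduleΓ k ((Scheme.Modules.pullback i).obj (Twist.twistProjSpace r k 1))
  -- the pullback of sections, as a linear map
  let ψ : (Twist.twistProjSpace r k 1).val.obj (Opposite.op ⊤) →ₗ[k]
      ((Scheme.Modules.pullback i).obj (Twist.twistProjSpace r k 1)).val.obj (Opposite.op ⊤) :=
    { toFun := fun s => OmegaSh.pullSect i (Twist.twistProjSpace r k 1) ⊤ s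
      map_add' := fun a b => map_add _ a b
      map_smul' := fun c s => by
        change OmegaSh.pullSect i (Twist.twistProjSpace r k 1) ⊤
            ((show Γ(CohB1.ProjSpace r k, ⊤) from
              Coh.toGlobal (CohB1.ProjSpace r k ↘ Spec (CommRingCat.of k)) c) • s) =
          (show Γ(X, i ⁻¹ᵁ ⊤) from Coh.toGlobal (X ↘ Spec (CommRingCat.of k)) c) •
            OmegaSh.pullSect i (Twist.twistProjSpace r k 1) ⊤ s
        rw [CL.toGlobal_eq_appTop i k c]
        exact OmegaSh.pullSect_smul i (Twist.twistProjSpace r k 1) ⊤ _ s }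
  have hψ : Function.Injective ψ := by
    rw [← LinearMap.ker_eq_bot, LinearMap.ker_eq_bot']
    intro s hs
    by_contra hne
    exact hplane s hne hs
  -- linearly independent linear forms
  let e1 := PN.H0LinearEquiv r k 1
  let e2 := PF.H0LinearEquivΓ k (Twist.twistProjSpace r k 1)
  let e3 := PF.H0LinearEquivΓ k ((Scheme.Modules.pullback i).obj (Twist.twistProjSpace r k 1))
  let v : Fin (r + 1) → MvPolynomial.homogeneousSubmodule (Fin (r + 1)) k 1 :=
    fun j => ⟨MvPolynomial.X j, MvPolynomial.isHomogeneous_X k j⟩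
  have hv : LinearIndependent k v := by
    apply LinearIndependent.of_comp (MvPolynomial.homogeneousSubmodule (Fin (r + 1)) k 1).subtype
    have h1 : ((MvPolynomial.homogeneousSubmodule (Fin (r + 1)) k 1).subtype ∘ v) =
        (MvPolynomial.basisMonomials (Fin (r + 1)) k) ∘
          (fun j : Fin (r + 1) => Finsupp.single j 1) := by
      funext j
      simp only [Function.comp_apply, MvPolynomial.coe_basisMonomials]
      rfl
    rw [h1]
    exact (MvPolynomial.basisMonomials (Fin (r + 1)) k).linearIndependent.comp _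
      (fun a b h => Finsupp.single_left_injective one_ne_zero h)
  let f : MvPolynomial.homogeneousSubmodule (Fin (r + 1)) k 1 →ₗ[k]
      Coh.HH X ((Scheme.Modules.pullback i).obj (Twist.twistProjSpace r k 1)) 0 :=
    e3.symm.toLinearMap ∘ₗ ψ ∘ₗ e2.toLinearMap ∘ₗ e1.symm.toLinearMap
  have hf : LinearMap.ker f = ⊥ := by
    rw [LinearMap.ker_eq_bot]
    exact e3.symm.injective.comp (hψ.comp (e2.injective.comp e1.symm.injective))
  have hw := (hv.map' f hf).fintype_card_le_finrank
  rw [Fintype.card_fin] at hw
  have h0 : Module.finrank k (Coh.HH X (Coh.structureModule X) 0) = 1 :=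
    Groth.Agent.H5.Curve3.finrank_HH0_eq_one_of_isAlgClosed k X
  have hnt : Nontrivial (Coh.HH X ((Scheme.Modules.pullback i).obj (Twist.twistProjSpace r k 1)) 0) :=
    Module.nontrivial_of_finrank_pos (R := k) (by omega)
  obtain ⟨s, hs⟩ := exists_section_ne_zero_of_nontrivial_H0 k X _ hnt
  have := (finrank_H0_le_deg_add_one k X hdim.le h0 hL s hs).1
  omega

end Groth.Agent.S12912
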