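import Groth.Statements.S12917
import Groth.Agent.Lib.Helper2.PtsRes5

set_option autoImplicit false
universe u
open CAlgX

namespace Groth.Agent.S12917

/-- Let k be a field, Z a finite set of nonzero vectors in k^3, regarded as points of the projective
plane, and I the homogeneous vanishing ideal of Z in S = k[x_0, x_1, x_2]: a polynomial belongs to I
exactly when each of its homogeneous components vanishes at every vector of Z. Then I has a free
resolution of length one: for some t there are a (t+1) × t matrix Ψ over S, injective as a map S^t →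
S^{t+1}, and an S-linear map π : S^{t+1} → S with ker π = im Ψ and im π = I. (The published
statement speaks of the minimal free resolution of I having length 1; stated here as the existence
of such a resolution.) -/
theorem result (k : Type u) [Field k]
    (Z : Finset (Fin 3 → k)) (hZ : ∀ p ∈ Z, p ≠ 0) (I : Ideal (MvPolynomial (Fin 3) k))
    (hI : ∀ f : MvPolynomial (Fin 3) k, f ∈ I ↔
      ∀ p ∈ Z, ∀ j : ℕ, MvPolynomial.eval p (MvPolynomial.homogeneousComponent j f) = 0) :
    ∃ (t : ℕ) (Ψ : Matrix (Fin (t + 1)) (Fin t) (MvPolynomial (Fin 3) k)) (π : (Fin (t + 1) → MvPolynomial (Fin 3) k) →ₗ[MvPolynomial (Fin 3) k] MvPolynomial (Fin 3) k),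
      LinearMap.ker Ψ.mulVecLin = ⊥ ∧ LinearMap.ker π = LinearMap.range Ψ.mulVecLin ∧ LinearMap.range π = I := by
  classical
  obtain ⟨n1, n2, Ψ, π, hΨ, hker, hrange⟩ := Groth.Agent.H2.PtsRes.main Z I hI hZ
  have hIne : I ≠ ⊥ := Groth.Agent.H2.PtsRes.I_ne_bot Z I hI
  -- rank count
  have hrk := LinearMap.rank_range_add_rank_ker π
  have h1 : Module.rank (MvPolynomial (Fin 3) k) (LinearMap.range π) = 1 := by
    rw [hrange]
    apply le_antisymm
    · have := Submodule.rank_le (R := MvPolynomial (Fin 3) k) (M := MvPolynomial (Fin 3) k) I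
      rwa [Module.rank_self] at this
    · rw [Cardinal.one_le_iff_pos, rank_pos_iff_exists_ne_zero]
      obtain ⟨x, hx, hx0⟩ := (Submodule.ne_bot_iff _).1 hIne
      exact ⟨⟨x, hx⟩, fun h => hx0 (congrArg Subtype.val h)⟩
  have h2 : Module.rank (MvPolynomial (Fin 3) k) (LinearMap.ker π) = n2 := by
    rw [hker, rank_range_of_injective _ (LinearMap.ker_eq_bot.1 hΨ), rank_fun']
    simp
  have h3 : Module.rank (MvPolynomial (Fin 3) k) (Fin n1 → MvPolynomial (Fin 3) k) = n1 := by
    rw [rank_fun']
    simp
  rw [h1, h2, h3] at hrk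
  have hn : n1 = n2 + 1 := by
    have : ((1 + n2 : ℕ) : Cardinal) = (n1 : ℕ) := by
      push_cast
      exact hrk
    have := Nat.cast_injective this
    omega
  subst hn
  exact ⟨n2, Ψ, π, hΨ, hker, hrange⟩

end Groth.Agent.S12917
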