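import Groth.Statements.S12918
import Mathlib
import Groth.Agent.Lib.Helper9.TameRetract

set_option autoImplicit false
universe u v w
open HopfRep

namespace Groth.Agent.S12918

/-- Let `k` be a commutative ring, `A` a commutative Hopf algebra over `k`, flat as a `k`-module and `B`
a commutative `k`-algebra with a coaction `ρ : B → B ⊗ A` that is an algebra map (an action of the
affine group scheme `Spec A` on `Spec B`). Then the action admits a total integral — a comodule map
`α : A → B`, for the regular coaction on `A`, with `α 1 = 1` — if and only if `ρ` has a left inverse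
`B ⊗ A → B` which is a comodule map for the coaction `id ⊗ Δ` on `B ⊗ A`. -/
theorem result
    (k : Type u) [CommRing k] (A : Type v) [CommRing A] [HopfAlgebra k A] [Module.Flat k A]
    (B : Type w) [CommRing B] [Algebra k B] [HopfRep.Comod k A B] [GLin.IsCoactAlg k A B] :
    (∃ α : A →ₗ[k] B, Hoch.IsComodHom A α ∧ α 1 = 1) ↔
      ∃ lam : Hoch.Ind k A B →ₗ[k] B, Hoch.IsComodHom A lam ∧ lam ∘ₗ Hoch.toInd k A B = LinearMap.id := by
  constructor
  · rintro ⟨α, hα, hα1⟩
    exact Groth.Agent.H9.Tame.exists_retraction_of_totalIntegral hα hα1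
  · rintro ⟨lam, hlam, hret⟩
    refine ⟨lam ∘ₗ Groth.Agent.H9.Comod.indMk k A (1 : B),
      Groth.Agent.H9.Comod.isComodHom_comp hlam (Groth.Agent.H9.Comod.isComodHom_indMk (1 : B)), ?_⟩
    have h1 : Hoch.toInd k A B (1 : B) = Groth.Agent.H9.Comod.indMk k A (1 : B) (1 : A) := by
      show (Hoch.Ind.equiv k A B) (HopfRep.Comod.coact (k := k) (A := A) (1 : B)) = _
      rw [GLin.IsCoactAlg.coact_one (k := k) (A := A) (R := B), Algebra.TensorProduct.one_def]
      rfl
    rw [LinearMap.comp_apply, ← h1]
    exact LinearMap.congr_fun hret 1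

end Groth.Agent.S12918
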