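import Groth.Statements.S12923
import Mathlib
import Groth.Agent.Lib.Helper9.Tame

set_option autoImplicit false
universe u v w
open HopfRep

namespace Groth.Agent.S12923

/-- Let `k` be a commutative ring, `A` a commutative Hopf algebra over `k`, flat as a `k`-module, `B` a
commutative `k`-algebra with a coaction of `A` that is an algebra map and admits a total integral (a
comodule map `α : A → B` with `α 1 = 1`), `C = B^A`, and `b` an ideal of `B` which is a subcomodule
(a closed subscheme of `Spec B` stable under the action). Then the image of `V(b)` under `Spec B →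
Spec C` is the closed set `V(b ∩ C)`. (The published statement assumes only that taking invariants
is exact on `(B, A)`-modules; a total integral, assumed here, gives that exactness.) -/
theorem result
    (k : Type u) [CommRing k] (A : Type v) [CommRing A] [HopfAlgebra k A] [Module.Flat k A]
    (B : Type w) [CommRing B] [Algebra k B] [HopfRep.Comod k A B] [GLin.IsCoactAlg k A B]
    (htame : ∃ α : A →ₗ[k] B, Hoch.IsComodHom A α ∧ α 1 = 1)
    (b : Ideal B) (hb : HopfRep.IsSubcomod (k := k) (A := A) (b.restrictScalars k)) :
    PrimeSpectrum.comap (algebraMap (GLin.invariants k A B) B) '' PrimeSpectrum.zeroLocus (b : Set B) =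
      PrimeSpectrum.zeroLocus ((b.comap (algebraMap (GLin.invariants k A B) B) : Ideal (GLin.invariants k A B)) : Set (GLin.invariants k A B)) := by
  obtain ⟨α, hα, hα1⟩ := htame
  set C := GLin.invariants k A B with hC
  -- Reynolds operator
  let E : B →ₗ[C] C := Groth.Agent.H9.Tame.reynoldsInv hα
  have hE1 : ∀ c : C, E (c : B) = c := fun c => Groth.Agent.H9.Tame.reynoldsInv_coe hα hα1 c
  -- E preserves b
  have hEb : ∀ y ∈ b, ((E y : C) : B) ∈ b := by
    intro y hy
    show TameAct.reynolds k A B B α y ∈ b
    rw [Groth.Agent.H9.Tame.reynolds_eq]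
    obtain ⟨x, hx⟩ := hb y hy
    rw [← hx]
    clear hx
    induction x using TensorProduct.induction_on with
    | zero => simp
    | tmul u a =>
      rw [LinearMap.rTensor_tmul, Groth.Agent.H9.Tame.act_tmul]
      exact b.mul_mem_left _ u.2
    | add x z hx hz => rw [map_add, map_add]; exact b.add_mem hx hz
  apply Set.Subset.antisymm
  · rintro _ ⟨p, hp, rfl⟩
    rw [PrimeSpectrum.mem_zeroLocus] at hp ⊢
    intro c hc
    exact hp hc
  · intro q hq
    rw [PrimeSpectrum.mem_zeroLocus] at hq
    -- the ideal qB + b
    let I : Ideal B := q.asIdeal.map (algebraMap C B) ⊔ b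
    let S : Submonoid B := (q.asIdeal.primeCompl).map (algebraMap C B)
    have hIC : ∀ x : C, (x : B) ∈ I → x ∈ q.asIdeal := by
      intro x hx
      obtain ⟨y, hy, z, hz, hyz⟩ := Submodule.mem_sup.mp hx
      -- E y ∈ q
      have key : ∀ y ∈ q.asIdeal.map (algebraMap C B), ∀ r : B, E (r * y) ∈ q.asIdeal := by
        intro y hy
        induction hy using Submodule.span_induction with
        | mem y hy =>
          obtain ⟨c, hc, rfl⟩ := hy
          intro r
          have : r * algebraMap C B c = c • r := by
            rw [mul_comm]; rfl
          rw [this, map_smul]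
          exact q.asIdeal.mul_mem_right _ hc
        | zero => intro r; simp
        | add y z _ _ hy hz => intro r; rw [mul_add, map_add]; exact q.asIdeal.add_mem (hy r) (hz r)
        | smul s y _ hy => intro r; rw [smul_eq_mul, ← mul_assoc]; exact hy _
      have h1 : E y ∈ q.asIdeal := by
        have := key y hy 1
        rwa [one_mul] at this
      have h2 : E z ∈ q.asIdeal := by
        apply hq
        show (E z : B) ∈ b
        exact hEb z hz
      have h3 : x = E y + E z := by
        rw [← map_add, hyz, hE1]
      rw [h3]
      exact q.asIdeal.add_mem h1 h2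
    have hdisj : Disjoint (I : Set B) (S : Set B) := by
      rw [Set.disjoint_left]
      rintro _ hxI ⟨c, hc, rfl⟩
      exact hc (hIC c hxI)
    obtain ⟨p, hp, hIp, hpS⟩ := Ideal.exists_le_prime_disjoint I S hdisj
    refine ⟨⟨p, hp⟩, ?_, ?_⟩
    · rw [PrimeSpectrum.mem_zeroLocus]
      intro y hy
      exact hIp (Submodule.mem_sup_right hy)
    · apply PrimeSpectrum.ext
      apply le_antisymm
      · intro c hc
        by_contra hcq
        have hcS : algebraMap C B c ∈ (S : Set B) := ⟨c, hcq, rfl⟩
        exact Set.disjoint_left.mp hpS hc hcS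
      · intro c hc
        show algebraMap C B c ∈ p
        exact hIp (Submodule.mem_sup_left (Ideal.mem_map_of_mem _ hc))

end Groth.Agent.S12923
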