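import Groth.Statements.S12925
import Mathlib
import Groth.Agent.Lib.Helper9.Tame

set_option autoImplicit false
universe u w
open HopfRep

namespace Groth.Agent.S12925

/-- Let `k` be a commutative ring, `M` a commutative group and `B` a commutative `k`-algebra with a
coaction of the group algebra `k[M]` that is an algebra map (an action of the diagonalizable group
scheme `D(M) = Spec k[M]` on `Spec B`). Then the action is tame: there is a comodule map `α : k[M] →
B`, for the regular coaction on `k[M]`, with `α 1 = 1`. -/
theorem result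
    (k : Type u) [CommRing k] (M : Type u) [CommGroup M]
    (B : Type w) [CommRing B] [Algebra k B] [HopfRep.Comod k (MonoidAlgebra k M) B]
    [GLin.IsCoactAlg k (MonoidAlgebra k M) B] :
    ∃ α : MonoidAlgebra k M →ₗ[k] B, Hoch.IsComodHom (MonoidAlgebra k M) α ∧ α 1 = 1 := by
  classical
  let ev : MonoidAlgebra k M →ₗ[k] k :=
    Finsupp.lapply (1 : M) ∘ₗ (MonoidAlgebra.coeffLinearEquiv k).toLinearMap
  have hev : ∀ (m : M) (c : k), ev (MonoidAlgebra.single m c) = if m = 1 then c else 0 := by
    intro m c
    show (MonoidAlgebra.single m c).coeff 1 = _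
    rw [MonoidAlgebra.coeff_single, Finsupp.single_apply]
  refine ⟨Algebra.linearMap k B ∘ₗ ev, ?_, ?_⟩
  · show HopfRep.Comod.coact (k := k) (A := MonoidAlgebra k M) ∘ₗ (Algebra.linearMap k B ∘ₗ ev) =
      (Algebra.linearMap k B ∘ₗ ev).rTensor (MonoidAlgebra k M) ∘ₗ
        HopfRep.Comod.coact (k := k) (A := MonoidAlgebra k M)
    apply MonoidAlgebra.lhom_ext'
    intro m
    apply LinearMap.ext
    intro c
    simp only [LinearMap.comp_apply, MonoidAlgebra.lsingle_apply]
    show HopfRep.Comod.coact (k := k) (A := MonoidAlgebra k M)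
        (algebraMap k B (ev (MonoidAlgebra.single m c))) =
      (Algebra.linearMap k B ∘ₗ ev).rTensor (MonoidAlgebra k M)
        (CoalgebraStruct.comul (R := k) (MonoidAlgebra.single m c))
    rw [MonoidAlgebra.comul_single, hev]
    have hk : CoalgebraStruct.comul (R := k) (A := k) c = (1 : k) ⊗ₜ[k] c := rfl
    rw [hk, TensorProduct.map_tmul, LinearMap.rTensor_tmul, MonoidAlgebra.lsingle_apply,
      MonoidAlgebra.lsingle_apply, LinearMap.comp_apply, hev]
    by_cases hm : m = 1
    · subst hm
      rw [if_pos rfl, if_pos rfl, Algebra.linearMap_apply, Algebra.algebraMap_eq_smul_one, map_smul,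
        GLin.IsCoactAlg.coact_one (k := k) (A := MonoidAlgebra k M) (R := B),
        Algebra.TensorProduct.one_def, map_one, MonoidAlgebra.one_def, ← TensorProduct.tmul_smul,
        MonoidAlgebra.smul_single, smul_eq_mul, mul_one]
    · rw [if_neg hm, if_neg hm, map_zero, map_zero, map_zero, TensorProduct.zero_tmul]
  · rw [LinearMap.comp_apply, MonoidAlgebra.one_def, hev, if_pos rfl, Algebra.linearMap_apply,
      map_one]

end Groth.Agent.S12925
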