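import Groth.Statements.S12926
import Mathlib
import Groth.Agent.Lib.Helper9.Comod

set_option autoImplicit false
universe u v
open HopfRep

namespace Groth.Agent.S12926

/-- Let `k` be a commutative ring and `A` a commutative bialgebra over `k`, flat as a `k`-module. If the
submodule `k · 1` of the regular comodule `A` has a complement `H` which is a subcomodule — the case
used when `A` is cosemisimple, i.e. every subcomodule of every comodule is a direct summand as a
comodule — then the trivial action of `Spec A` on `Spec k` is tame: there is a comodule map `α : A →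
k`, for the regular coaction on `A` and the trivial coaction `r ↦ r ⊗ 1` on `k`, with `α 1 = 1`. -/
theorem result
    (k : Type u) [CommRing k] (A : Type v) [CommRing A] [Bialgebra k A] [Module.Flat k A]
    (H : Submodule k A) (hH : HopfRep.IsSubcomod (k := k) (A := A) H)
    (hc : IsCompl (Submodule.span k {(1 : A)}) H) :
    ∃ α : A →ₗ[k] k, @Hoch.IsComodHom k _ A _ _ _ A _ _ _ k _ _ (HopfRep.Comod.trivial k A k) α ∧ α 1 = 1 := by
  classical
  let P := Submodule.linearProjOfIsCompl _ _ hc
  let α : A →ₗ[k] k := Coalgebra.counit (R := k) (A := A) ∘ₗ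
    (Submodule.span k {(1 : A)}).subtype ∘ₗ P
  have h1mem : (1 : A) ∈ Submodule.span k {(1 : A)} := Submodule.mem_span_singleton_self 1
  have hα1 : α 1 = 1 := by
    have : P 1 = ⟨1, h1mem⟩ := Submodule.linearProjOfIsCompl_apply_left hc ⟨1, h1mem⟩
    simp only [α, LinearMap.comp_apply, this, Submodule.subtype_apply]
    exact Bialgebra.counit_one
  have hαH : ∀ h ∈ H, α h = 0 := by
    intro h hh
    have : P h = 0 := (Submodule.linearProjOfIsCompl_apply_eq_zero_iff hc).mpr hh
    simp only [α, LinearMap.comp_apply, this, map_zero]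
  refine ⟨α, ?_, hα1⟩
  letI := HopfRep.Comod.trivial k A k
  apply LinearMap.ext
  intro a
  have hsum : a ∈ Submodule.span k {(1 : A)} ⊔ H := by rw [hc.sup_eq_top]; trivial
  obtain ⟨x, hx, h, hh, rfl⟩ := Submodule.mem_sup.mp hsum
  obtain ⟨c, rfl⟩ := Submodule.mem_span_singleton.mp hx
  obtain ⟨y, hy⟩ := hH h hh
  have h0 : α ∘ₗ H.subtype = 0 := by
    apply LinearMap.ext
    intro z
    exact hαH z z.2
  show (TensorProduct.mk k k A).flip 1 (α (c • 1 + h)) =
    α.rTensor A (CoalgebraStruct.comul (R := k) (c • (1 : A) + h))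
  have hy' : CoalgebraStruct.comul (R := k) h = H.subtype.rTensor A y := hy.symm
  have e1 : CoalgebraStruct.comul (R := k) (c • (1 : A) + h) =
      c • ((1 : A) ⊗ₜ[k] (1 : A)) + H.subtype.rTensor A y := by
    rw [map_add, map_smul, Bialgebra.comul_one, hy', Algebra.TensorProduct.one_def]
  have e2 : α.rTensor A (c • ((1 : A) ⊗ₜ[k] (1 : A)) + H.subtype.rTensor A y) =
      c • ((1 : k) ⊗ₜ[k] (1 : A)) := by
    rw [map_add, map_smul, LinearMap.rTensor_tmul, hα1, ← LinearMap.comp_apply,
      ← LinearMap.rTensor_comp, h0, LinearMap.rTensor_zero, LinearMap.zero_apply, add_zero]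
  have e3 : α (c • (1 : A) + h) = c := by
    rw [map_add, map_smul, hα1, hαH h hh, add_zero, smul_eq_mul, mul_one]
  rw [e1, e2, e3, LinearMap.flip_apply, TensorProduct.mk_apply, TensorProduct.smul_tmul',
    smul_eq_mul, mul_one]

end Groth.Agent.S12926
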