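import Groth.Statements.S12929
import Mathlib
import Groth.Agent.Lib.Helper9.Comod

set_option autoImplicit false
universe u v w w'
open HopfRep

namespace Groth.Agent.S12929

open scoped TensorProduct

/-- Let `k` be a commutative ring, `A` a commutative Hopf algebra over `k`, `M` a right `A`-comodule and
`N` a `k`-module; give `N ⊗ A` the coaction `id ⊗ Δ`. Then for every `k`-linear map `h : M → N` the
composite `(h ⊗ id_A) ∘ ρ_M : M → N ⊗ A` is a comodule map, and every comodule map `f : M → N ⊗ A`
is of this form for exactly one `h` (which is `(id_N ⊗ ε) ∘ f`): comodule maps `M → N ⊗ A`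
correspond bijectively to linear maps `M → N`. -/
theorem result
    (k : Type u) [CommRing k] (A : Type v) [CommRing A] [HopfAlgebra k A]
    (M : Type w) [AddCommGroup M] [Module k M] [HopfRep.Comod k A M]
    (N : Type w') [AddCommGroup N] [Module k N] :
    (∀ h : M →ₗ[k] N, Hoch.IsComodHom A
        ((Hoch.Ind.equiv k A N).toLinearMap ∘ₗ h.rTensor A ∘ₗ HopfRep.Comod.coact (k := k) (A := A))) ∧
      ∀ f : M →ₗ[k] Hoch.Ind k A N, Hoch.IsComodHom A f →
        ∃! h : M →ₗ[k] N,
          f = (Hoch.Ind.equiv k A N).toLinearMap ∘ₗ h.rTensor A ∘ₗ HopfRep.Comod.coact (k := k) (A := A) := by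
  -- work with plain tensor products: Ind.equiv is the identity
  have hcoactInd : ∀ x : N ⊗[k] A,
      HopfRep.Comod.coact (k := k) (A := A) (V := Hoch.Ind k A N) (Hoch.Ind.equiv k A N x) =
      (TensorProduct.assoc k N A A).symm ((CoalgebraStruct.comul (R := k) (A := A)).lTensor N x) :=
    fun x => rfl
  -- key identity: ((rid ∘ (id ⊗ ε)) ⊗ id) ∘ assoc.symm ∘ (id ⊗ Δ) = id on N ⊗ A
  have hkey : ∀ x : N ⊗[k] A,
      ((TensorProduct.rid k N).toLinearMap ∘ₗ
        (Coalgebra.counit (R := k) (A := A)).lTensor N).rTensor A
        ((TensorProduct.assoc k N A A).symm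
          ((CoalgebraStruct.comul (R := k) (A := A)).lTensor N x)) = x := by
    intro x
    induction x using TensorProduct.induction_on with
    | zero => simp
    | tmul n a =>
      rw [LinearMap.lTensor_tmul]
      have h1 : ∀ y : A ⊗[k] A, ((TensorProduct.rid k N).toLinearMap ∘ₗ
          (Coalgebra.counit (R := k) (A := A)).lTensor N).rTensor A
          ((TensorProduct.assoc k N A A).symm (n ⊗ₜ[k] y)) =
          n ⊗ₜ[k] (TensorProduct.lid k A ((Coalgebra.counit (R := k) (A := A)).rTensor A y)) := by
        intro y
        induction y using TensorProduct.induction_on with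
        | zero => simp
        | tmul a₁ a₂ =>
          simp only [TensorProduct.assoc_symm_tmul, LinearMap.rTensor_tmul, LinearMap.comp_apply,
            LinearMap.lTensor_tmul, LinearEquiv.coe_coe, TensorProduct.rid_tmul,
            TensorProduct.lid_tmul, TensorProduct.smul_tmul]
        | add y z hy hz => simp only [TensorProduct.tmul_add, map_add, hy, hz]
      rw [h1, Coalgebra.rTensor_counit_comul, TensorProduct.lid_tmul, one_smul]
    | add y z hy hz => simp only [map_add, hy, hz]
  constructor
  · intro h
    rw [Groth.Agent.H9.Comod.isComodHom_iff]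
    intro m
    have hc := LinearMap.congr_fun (HopfRep.Comod.coassoc (k := k) (A := A) (V := M)) m
    simp only [LinearMap.comp_apply, LinearEquiv.coe_coe] at hc
    show (TensorProduct.assoc k N A A).symm ((CoalgebraStruct.comul (R := k) (A := A)).lTensor N
        (h.rTensor A (HopfRep.Comod.coact (k := k) (A := A) m))) =
      (h.rTensor A ∘ₗ HopfRep.Comod.coact (k := k) (A := A)).rTensor A
        (HopfRep.Comod.coact (k := k) (A := A) m)
    have e1 : (CoalgebraStruct.comul (R := k) (A := A)).lTensor N
        (h.rTensor A (HopfRep.Comod.coact (k := k) (A := A) m)) =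
        h.rTensor (A ⊗[k] A) ((CoalgebraStruct.comul (R := k) (A := A)).lTensor M
          (HopfRep.Comod.coact (k := k) (A := A) m)) := by
      generalize HopfRep.Comod.coact (k := k) (A := A) m = x
      induction x using TensorProduct.induction_on with
      | zero => simp
      | tmul m' a => simp only [LinearMap.rTensor_tmul, LinearMap.lTensor_tmul]
      | add y z hy hz => simp only [map_add, hy, hz]
    rw [e1, ← hc]
    have e2 : ∀ z : (M ⊗[k] A) ⊗[k] A, (TensorProduct.assoc k N A A).symm
        (h.rTensor (A ⊗[k] A) (TensorProduct.assoc k M A A z)) = (h.rTensor A).rTensor A z := by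
      intro z
      have := TensorProduct.map_map_assoc_symm h (LinearMap.id : A →ₗ[k] A)
        (LinearMap.id : A →ₗ[k] A) (TensorProduct.assoc k M A A z)
      rw [LinearEquiv.symm_apply_apply, TensorProduct.map_id] at this
      exact this.symm
    rw [e2, ← LinearMap.comp_apply, ← LinearMap.rTensor_comp]
  · intro f hf
    have hcounit : ∀ h' : M →ₗ[k] N, ∀ m : M,
        (TensorProduct.rid k N) ((Coalgebra.counit (R := k) (A := A)).lTensor N
          (h'.rTensor A (HopfRep.Comod.coact (k := k) (A := A) m))) = h' m := by
      intro h' m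
      have hc := LinearMap.congr_fun (HopfRep.Comod.counit_comp (k := k) (A := A) (V := M)) m
      simp only [LinearMap.comp_apply, LinearMap.flip_apply, TensorProduct.mk_apply] at hc
      have e1 : (Coalgebra.counit (R := k) (A := A)).lTensor N
          (h'.rTensor A (HopfRep.Comod.coact (k := k) (A := A) m)) =
          h'.rTensor k ((Coalgebra.counit (R := k) (A := A)).lTensor M
            (HopfRep.Comod.coact (k := k) (A := A) m)) := by
        generalize HopfRep.Comod.coact (k := k) (A := A) m = x
        induction x using TensorProduct.induction_on with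
        | zero => simp
        | tmul m' a => simp only [LinearMap.rTensor_tmul, LinearMap.lTensor_tmul]
        | add y z hy hz => simp only [map_add, hy, hz]
      rw [e1, hc, LinearMap.rTensor_tmul, TensorProduct.rid_tmul, one_smul]
    refine ⟨Hoch.Ind.counit k A N ∘ₗ f, ?_, ?_⟩
    · apply LinearMap.ext
      intro m
      have h1 := (Groth.Agent.H9.Comod.isComodHom_iff f).mp hf m
      show f m = (Hoch.Ind.counit k A N ∘ₗ f).rTensor A (HopfRep.Comod.coact (k := k) (A := A) m)
      rw [LinearMap.rTensor_comp, LinearMap.comp_apply, ← h1]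
      exact (hkey (f m)).symm
    · intro h' hh'
      apply LinearMap.ext
      intro m
      rw [hh']
      exact (hcounit h' m).symm

end Groth.Agent.S12929
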