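import Groth.Statements.S12931
import Mathlib

set_option autoImplicit false
universe u v w
open HopfRep

namespace Groth.Agent.S12931

/-- Let `R` be a commutative ring, `Γ` a finite set and `T` a commutative `R`-algebra which is
connected: nonzero, with no idempotents other than `0` and `1`. Then `γ ↦ (evaluation at γ : (Γ → R)
→ R → T)` is a bijection from `Γ` onto the `R`-algebra maps `(Γ → R) → T`: every such map sends
exactly one of the indicator functions to `1` and the others to `0`. (Only the bijection of sets is
stated; when `Γ` is a group, the compatibility with the group structures on both sides is not.) -/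
theorem result
    (R : Type u) [CommRing R] (Γ : Type v) [Finite Γ]
    (T : Type w) [CommRing T] [Algebra R T] [Nontrivial T]
    (hT : ∀ e : T, IsIdempotentElem e → e = 0 ∨ e = 1) :
    Function.Bijective (fun γ : Γ => (Algebra.ofId R T).comp (Pi.evalAlgHom R (fun _ : Γ => R) γ)) := by
  classical
  cases nonempty_fintype Γ
  constructor
  · intro γ γ' h
    by_contra hne
    have := congrArg (fun φ : (Γ → R) →ₐ[R] T => φ (Pi.single γ (1 : R))) h
    simp only [AlgHom.comp_apply, Pi.evalAlgHom_apply, Pi.single_eq_same,
      Pi.single_eq_of_ne (Ne.symm hne), map_one, map_zero] at this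
    exact one_ne_zero this
  · intro φ
    have hid : ∀ γ, IsIdempotentElem (φ (Pi.single γ (1 : R))) := by
      intro γ
      change φ _ * φ _ = φ _
      rw [← map_mul, ← Pi.single_mul, mul_one]
    have hsum : ∑ γ, φ (Pi.single γ (1 : R)) = 1 := by
      rw [← map_sum, Finset.univ_sum_single]
      exact map_one φ
    obtain ⟨γ0, h0⟩ : ∃ γ0, φ (Pi.single γ0 (1 : R)) = 1 := by
      by_contra hcon
      push Not at hcon
      have : ∑ γ, φ (Pi.single γ (1 : R)) = 0 := by
        refine Finset.sum_eq_zero fun γ _ => ?_
        rcases hT _ (hid γ) with h | h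
        · exact h
        · exact absurd h (hcon γ)
      rw [hsum] at this
      exact one_ne_zero this
    have hne : ∀ γ, γ ≠ γ0 → φ (Pi.single γ (1 : R)) = 0 := by
      intro γ hγ
      have : φ (Pi.single γ (1 : R)) = φ (Pi.single γ (1 : R)) * φ (Pi.single γ0 (1 : R)) := by
        rw [h0, mul_one]
      rw [this, ← map_mul]
      have hz : (Pi.single γ (1 : R) : Γ → R) * Pi.single γ0 (1 : R) = 0 := by
        ext i
        simp only [Pi.mul_apply, Pi.zero_apply]
        by_cases hi : i = γ
        · subst hi
          rw [Pi.single_eq_of_ne hγ, mul_zero]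
        · rw [Pi.single_eq_of_ne hi, zero_mul]
      rw [hz, map_zero]
    refine ⟨γ0, ?_⟩
    ext g
    simp only [AlgHom.comp_apply, Pi.evalAlgHom_apply]
    conv_rhs => rw [← Finset.univ_sum_single g, map_sum]
    rw [Finset.sum_eq_single γ0]
    · have : (Pi.single γ0 (g γ0) : Γ → R) = g γ0 • Pi.single γ0 (1 : R) := by
        rw [← Pi.single_smul, smul_eq_mul, mul_one]
      rw [this, map_smul, h0, Algebra.ofId_apply, Algebra.algebraMap_eq_smul_one]
    · intro γ _ hγ
      have : (Pi.single γ (g γ) : Γ → R) = g γ • Pi.single γ (1 : R) := by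
        rw [← Pi.single_smul, smul_eq_mul, mul_one]
      rw [this, map_smul, hne γ hγ, smul_zero]
    · intro h; exact absurd (Finset.mem_univ _) h

end Groth.Agent.S12931
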