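import Groth.Statements.S12933
import Mathlib

set_option autoImplicit false
universe u v w w'
open TensorProduct
open InvTh

namespace Groth.Agent.S12933

/-- Let `R` be a commutative ring, `B` a commutative `R`-algebra with an action of a finite group `Γ` by
`R`-algebra automorphisms, and `R'` a flat commutative `R`-algebra; let `Γ` act on `R' ⊗_R B`
through the factor `B`. Then an element of `R' ⊗_R B` is fixed by every element of `Γ` if and only
if it lies in the `R'`-submodule spanned by the tensors `1 ⊗ b` with `b ∈ B^Γ`: taking invariants
commutes with flat base change (the map `R' ⊗_R B^Γ → R' ⊗_R B` being moreover injective by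
flatness). -/
theorem result
    (R : Type u) [CommRing R] (B : Type v) [CommRing B] [Algebra R B]
    (Γ : Type w) [Group Γ] [Finite Γ] [MulSemiringAction Γ B] [SMulCommClass Γ R B]
    (R' : Type w') [CommRing R'] [Algebra R R'] [Module.Flat R R']
    (x : R' ⊗[R] B) :
    (∀ γ : Γ, Algebra.TensorProduct.map (AlgHom.id R R') (MulSemiringAction.toAlgHom R B γ) x = x) ↔
      x ∈ Submodule.span R' ((fun b : B => (1 : R') ⊗ₜ[R] b) '' {b : B | ∀ γ : Γ, γ • b = b}) := by
  classical
  have : Fintype Γ := Fintype.ofFinite Γ
  constructor
  · intro hx
    -- invariant submodule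
    let Binv : Submodule R B :=
      { carrier := {b : B | ∀ γ : Γ, γ • b = b}
        add_mem' := fun {a b} ha hb γ => by rw [smul_add, ha γ, hb γ]
        zero_mem' := fun γ => smul_zero γ
        smul_mem' := fun r b hb γ => by rw [smul_comm, hb γ] }
    let gγ : Γ → (B →ₗ[R] B) := fun γ =>
      (MulSemiringAction.toAlgHom R B γ).toLinearMap - LinearMap.id
    let g : B →ₗ[R] (Γ → B) := LinearMap.pi gγ
    have hex : Function.Exact Binv.subtype g := by
      intro b
      constructor
      · intro hb
        refine ⟨⟨b, fun γ => ?_⟩, rfl⟩
        have := congrFun hb γ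
        simpa [g, gγ, sub_eq_zero] using this
      · rintro ⟨⟨b, hb⟩, rfl⟩
        ext γ
        simp [g, gγ, sub_eq_zero, hb γ]
    have hex' := Module.Flat.lTensor_exact R' hex
    have hxk : (g.lTensor R') x = 0 := by
      apply (TensorProduct.piRight R R R' (fun _ : Γ => B)).injective
      rw [map_zero]
      ext γ
      have key : (LinearMap.proj γ ∘ₗ (TensorProduct.piRight R R R' (fun _ : Γ => B)).toLinearMap
          ∘ₗ g.lTensor R') = (Algebra.TensorProduct.map (AlgHom.id R R')
            (MulSemiringAction.toAlgHom R B γ)).toLinearMap - LinearMap.id := by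
        apply TensorProduct.ext'
        intro r b
        simp [g, gγ, TensorProduct.tmul_sub]
      have := LinearMap.congr_fun key x
      simp only [LinearMap.comp_apply, LinearMap.sub_apply, LinearMap.id_apply,
        AlgHom.toLinearMap_apply, hx γ, sub_self] at this
      exact this
    have hall : ∀ y : R' ⊗[R] Binv, (Binv.subtype.lTensor R') y ∈
        Submodule.span R' ((fun b : B => (1 : R') ⊗ₜ[R] b) '' {b : B | ∀ γ : Γ, γ • b = b}) := by
      intro y
      induction y using TensorProduct.induction_on with
      | zero => simp
      | tmul r b =>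
        have : (Binv.subtype.lTensor R') (r ⊗ₜ b) = r • ((1 : R') ⊗ₜ[R] (b : B)) := by
          simp [TensorProduct.smul_tmul']
        rw [this]
        exact Submodule.smul_mem _ _ (Submodule.subset_span ⟨b, b.2, rfl⟩)
      | add a b ha hb =>
        rw [map_add]
        exact Submodule.add_mem _ ha hb
    obtain ⟨y, rfl⟩ := (hex' x).1 hxk
    exact hall y
  · intro hx γ
    have hsm : ∀ (r : R') (a : R' ⊗[R] B), r • a = (r ⊗ₜ[R] (1 : B)) * a := by
      intro r a
      induction a using TensorProduct.induction_on with
      | zero => simp
      | tmul s b => simp [TensorProduct.smul_tmul', Algebra.TensorProduct.tmul_mul_tmul]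
      | add a b ha hb => rw [smul_add, mul_add, ha, hb]
    induction hx using Submodule.span_induction with
    | mem y hy =>
      obtain ⟨b, hb, rfl⟩ := hy
      simp [hb γ]
    | zero => simp
    | add a b _ _ ha hb => rw [map_add, ha, hb]
    | smul r a _ ha =>
      rw [hsm, map_mul, ha]
      simp

end Groth.Agent.S12933
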