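import Groth.Statements.S12936
import Mathlib

set_option autoImplicit false
universe u v
open InvTh

namespace Groth.Agent.S12936

/-- Let `B` be a commutative ring with an action of a finite group `Γ` by ring automorphisms and `P` a
maximal ideal of `B`, with decomposition group `D_P = {γ | γP = P}` and decomposition ring `D =
B^{D_P}`. Then `D = B^Γ + (P ∩ D)`: every element of `B` fixed by `D_P` is congruent modulo `P` to a
`Γ`-invariant element. Hence the residue field of `D` at `P ∩ D` is that of `B^Γ` at `P ∩ B^Γ`; for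
an arbitrary prime `P` the same equality of residue fields follows by localising at `P ∩ B^Γ`. (The
published statement prints this residue field as `k(P)`; the proof establishes the equality with the
residue field of `B^Γ` stated here.) -/
theorem result
    (B : Type u) [CommRing B] (Γ : Type v) [Group Γ] [Finite Γ] [MulSemiringAction Γ B]
    (P : Ideal B) [P.IsMaximal] (x : B)
    (hx : ∀ γ : Γ, (∀ y : B, y ∈ P ↔ γ • y ∈ P) → γ • x = x) :
    ∃ c : B, (∀ γ : Γ, γ • c = c) ∧ x - c ∈ P := by
  classical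
  have : Fintype Γ := Fintype.ofFinite Γ
  -- decomposition group
  let D : Subgroup Γ :=
    { carrier := {γ | ∀ y : B, y ∈ P ↔ γ • y ∈ P}
      mul_mem' := fun {a b} ha hb y => by rw [mul_smul, ← ha, ← hb]
      one_mem' := fun y => by rw [one_smul]
      inv_mem' := fun {a} ha y => by
        have := ha (a⁻¹ • y)
        rw [smul_inv_smul] at this
        exact this.symm }
  have hD : ∀ γ, γ ∈ D ↔ ∀ y : B, y ∈ P ↔ γ • y ∈ P := fun γ => Iff.rfl
  -- for δ ∉ D, an element a with δ • a ∈ P, a ∉ P
  have hex : ∀ δ : Γ, δ ∉ D → ∃ a : B, δ • a ∈ P ∧ a ∉ P := by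
    intro δ hδ
    by_contra hcon
    push Not at hcon
    -- Q = comap δ P ≤ P
    let Q : Ideal B := P.comap (MulSemiringAction.toRingEquiv Γ B δ)
    have hQmax : Q.IsMaximal := Ideal.comap_isMaximal_of_equiv _
    have hQ : ∀ y, y ∈ Q ↔ δ • y ∈ P := fun y => Iff.rfl
    have hQP : Q ≤ P := fun a ha => hcon a ha
    have hQeq : Q = P := Ideal.IsMaximal.eq_of_le hQmax (Ideal.IsPrime.ne_top inferInstance) hQP
    apply hδ
    intro y
    rw [← hQ y, hQeq]
  choose! a ha1 ha2 using hex
  -- e0 = product of a δ over δ ∉ D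
  let e0 : B := ∏ δ ∈ Finset.univ.filter (fun δ => δ ∉ D), a δ
  have he0P : e0 ∉ P := by
    intro h
    obtain ⟨δ, hδ, hδP⟩ := (Ideal.IsPrime.prod_mem_iff (hp := (inferInstance : P.IsPrime))).1 h
    exact ha2 δ (Finset.mem_filter.1 hδ).2 hδP
  have he0Q : ∀ δ, δ ∉ D → δ • e0 ∈ P := by
    intro δ hδ
    have : e0 = a δ * ∏ δ' ∈ (Finset.univ.filter (fun δ => δ ∉ D)).erase δ, a δ' :=
      (Finset.mul_prod_erase (Finset.univ.filter (fun δ => δ ∉ D)) a
        (Finset.mem_filter.2 ⟨Finset.mem_univ δ, hδ⟩)).symm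
    rw [this, smul_mul']
    exact P.mul_mem_right _ (ha1 δ hδ)
  obtain ⟨b, i, hi, hbi⟩ := Ideal.IsMaximal.exists_inv (inferInstance : P.IsMaximal) he0P
  let e : B := b * e0
  have he1 : e - 1 ∈ P := by
    have : e - 1 = -i := by rw [← hbi]; ring
    rw [this]; exact P.neg_mem hi
  have heQ : ∀ δ, δ ∉ D → δ • e ∈ P := by
    intro δ hδ
    rw [smul_mul']
    exact P.mul_mem_left _ (he0Q δ hδ)
  -- e' : D-invariant version
  let e' : B := ∏ d : D, d • e
  have he'inv : ∀ d : D, d • e' = e' := fun d => Finset.smul_prod_perm e d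
  have he'1 : e' - 1 ∈ P := by
    rw [← Ideal.Quotient.eq, map_one, map_prod]
    apply Finset.prod_eq_one
    intro d _
    rw [← map_one (Ideal.Quotient.mk P), Ideal.Quotient.eq]
    have : d • e - 1 = (d : Γ) • (e - 1) := by rw [smul_sub, smul_one]; rfl
    rw [this]
    exact (d.2 _).1 he1
  have he'Q : ∀ δ, δ ∉ D → δ • e' ∈ P := by
    intro δ hδ
    obtain ⟨c, hc⟩ := Finset.dvd_prod_of_mem (fun d : D => d • e) (Finset.mem_univ (1 : D))
    have : e' = e * c := by rw [show e' = _ from hc, one_smul]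
    rw [this, smul_mul']
    exact P.mul_mem_right _ (heQ δ hδ)
  -- z
  let z : B := e' * x
  have hzinv : ∀ d : D, (d : Γ) • z = z := by
    intro d
    rw [smul_mul', hx d d.2]
    congr 1
    exact he'inv d
  have hzx : z - x ∈ P := by
    have : z - x = (e' - 1) * x := by ring
    rw [this]; exact P.mul_mem_right _ he'1
  have hzQ : ∀ δ, δ ∉ D → δ • z ∈ P := by
    intro δ hδ
    rw [smul_mul']
    exact P.mul_mem_right _ (he'Q δ hδ)
  -- trace over cosets
  let f : Γ ⧸ D → B := Quotient.lift (fun γ : Γ => γ • z) (by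
    intro γ γ' h
    have h' : γ⁻¹ * γ' ∈ D := QuotientGroup.leftRel_apply.1 h
    have := hzinv ⟨_, h'⟩
    show γ • z = γ' • z
    have h2 : γ' • z = γ • ((γ⁻¹ * γ') • z) := by rw [smul_smul, mul_inv_cancel_left]
    rw [h2]
    congr 1
    exact this.symm)
  have hf : ∀ γ : Γ, f (QuotientGroup.mk γ) = γ • z := fun γ => rfl
  refine ⟨∑ q, f q, ?_, ?_⟩
  · intro γ
    rw [Finset.smul_sum]
    have : ∀ q : Γ ⧸ D, γ • f q = f (γ • q) := by
      intro q
      induction q using QuotientGroup.induction_on with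
      | H δ =>
        rw [hf, smul_smul]
        rfl
    simp_rw [this]
    exact Equiv.sum_comp (MulAction.toPerm γ) f
  · have hsplit : ∑ q, f q = f (QuotientGroup.mk 1) + ∑ q ∈ Finset.univ.erase (QuotientGroup.mk 1 : Γ ⧸ D), f q :=
      (Finset.add_sum_erase _ _ (Finset.mem_univ _)).symm
    rw [hsplit, hf, one_smul]
    have h2 : ∑ q ∈ Finset.univ.erase (QuotientGroup.mk 1 : Γ ⧸ D), f q ∈ P := by
      apply Ideal.sum_mem
      intro q hq
      have hq1 : q ≠ QuotientGroup.mk 1 := (Finset.mem_erase.1 hq).1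
      induction q using QuotientGroup.induction_on with
      | H δ =>
        rw [hf]
        apply hzQ
        intro hδ
        apply hq1
        rw [QuotientGroup.eq]
        simpa using hδ
    have : x - (z + ∑ q ∈ Finset.univ.erase (QuotientGroup.mk 1 : Γ ⧸ D), f q)
        = -(z - x) - ∑ q ∈ Finset.univ.erase (QuotientGroup.mk 1 : Γ ⧸ D), f q := by ring
    rw [this]
    exact P.sub_mem (P.neg_mem hzx) h2

end Groth.Agent.S12936
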