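import Groth.Statements.S12954
import Mathlib
import Groth.Agent.Lib.Helper3.TwoCartDiagBC

set_option autoImplicit false
universe u
open CategoryTheory AlgebraicGeometry
open AlgSt

namespace Groth.Agent.S12954

/-- The base change of a quasi-separated morphism of algebraic stacks along any morphism of algebraic
stacks is quasi-separated (quasi-separated: the diagonal is representable by algebraic spaces and
quasi-compact and quasi-separated). The base change is the first projection of the 2-fibre product. -/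
theorem result
    (S : Scheme.{u}) (𝒳 : AlgSt.Cat S) (𝒴 : AlgSt.Cat S) (𝒴' : AlgSt.Cat S)
    (h𝒳 : AlgSt.IsAlgStack Scheme.fppfPrecoverage 𝒳)
    (h𝒴 : AlgSt.IsAlgStack Scheme.fppfPrecoverage 𝒴)
    (h𝒴' : AlgSt.IsAlgStack Scheme.fppfPrecoverage 𝒴')
    (f : 𝒳 ⥤ᵇ 𝒴) (g : 𝒴' ⥤ᵇ 𝒴) :
    AlgSt.IsQuasiSeparatedMor f → AlgSt.IsQuasiSeparatedMor (FibCat.fpFst g f) := by
  intro ht
  exact Groth.Agent.H3.TwoCart.repByAlgSpWith_of_isTwoCartOver _
    (Groth.Agent.H3.TwoCart.dbcM f g) (FibCat.diag f) (FibCat.diag (FibCat.fpFst g f))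
    (FibCat.fpSnd g f) (Groth.Agent.H3.TwoCart.dbcE f g)
    (Groth.Agent.H3.TwoCart.dbc_isTwoCartOver f g) ht

end Groth.Agent.S12954
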