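import Groth.Statements.S1302
import Mathlib
import Groth.Agent.Lib.Helper1.ThickAff6

set_option autoImplicit false
universe u
open FlatMor

namespace Groth.Agent.S1302

open AlgebraicGeometry CategoryTheory Limits in
/-- For a morphism of thickenings, that is a commutative square whose horizontal maps are thickenings
(closed immersions that are surjective on points), the morphism between the thin schemes is affine
if and only if the morphism between the thick ones is. -/
theorem result {X X' S S' : Scheme.{u}} (iX : X ⟶ X') (iS : S ⟶ S') (f : X ⟶ S) (f' : X' ⟶ S')
    (hX : MoreMor.IsThickening iX) (hS : MoreMor.IsThickening iS) (w : iX ≫ f' = f ≫ iS) :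
    IsAffineHom f ↔ IsAffineHom f' := by
  haveI := hX.1
  haveI := hS.1
  exact Groth.Agent.H1.ThickAff.isAffineHom_iff_of_thickening iX iS f f' hX.2.surj w

end Groth.Agent.S1302
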