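import Groth.Statements.S13041
import Mathlib

set_option autoImplicit false
universe u
open MaxMod

namespace Groth.Agent.S13041

/-- Let R be a domain with fraction field K, let A → B be a homomorphism of commutative R-algebras that
are flat over R, with B module-finite over A, such that the induced map K ⊗_R A → K ⊗_R B is
bijective. If the A-linear map Hom_A(B, A) → A evaluating at 1 is surjective, then A → B is
bijective. (The published statement concerns a finite morphism of flat schemes over a discrete
valuation ring, with locally free relative dualizing sheaves, that is an isomorphism over a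
schematically dense open and whose trace map on dualizing sheaves is surjective; this row is the
statement about rings to which the printed proof reduces it and which that proof establishes, and
the argument uses only that R is a domain.) -/
theorem result
    (R K A B : Type u) [CommRing R] [IsDomain R] [Field K] [Algebra R K] [IsFractionRing R K]
    [CommRing A] [CommRing B] [Algebra R A] [Algebra R B] [Algebra A B] [IsScalarTower R A B]
    [Module.Flat R A] [Module.Flat R B] [Module.Finite A B]
    (hK : Function.Bijective
      (Algebra.TensorProduct.map (AlgHom.id R K) (IsScalarTower.toAlgHom R A B)))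
    (htr : Function.Surjective (fun u : B →ₗ[A] A => u 1)) :
    Function.Bijective (algebraMap A B) := by
  classical
  open scoped TensorProduct in
  have hRK : Function.Injective (algebraMap R K) := IsFractionRing.injective R K
  have hiA : Function.Injective (Algebra.TensorProduct.includeRight : A →ₐ[R] K ⊗[R] A) :=
    Algebra.TensorProduct.includeRight_injective hRK
  have hiB : Function.Injective (Algebra.TensorProduct.includeRight : B →ₐ[R] K ⊗[R] B) :=
    Algebra.TensorProduct.includeRight_injective hRK
  have hΦ : ∀ (k : K) (a : A), (Algebra.TensorProduct.map (AlgHom.id R K)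
      (IsScalarTower.toAlgHom R A B)) (k ⊗ₜ a) = k ⊗ₜ algebraMap A B a := by
    intro k a
    simp
  constructor
  · intro a a' h
    apply hiA
    apply hK.1
    change (Algebra.TensorProduct.map (AlgHom.id R K) (IsScalarTower.toAlgHom R A B)) (1 ⊗ₜ a) =
      (Algebra.TensorProduct.map (AlgHom.id R K) (IsScalarTower.toAlgHom R A B)) (1 ⊗ₜ a')
    rw [hΦ, hΦ, h]
  · obtain ⟨u, hu⟩ := htr 1
    let v : B →ₗ[R] B :=
      LinearMap.id - ((Algebra.linearMap A B).restrictScalars R).comp (u.restrictScalars R)
    have hvb : ∀ b : B, v b = b - algebraMap A B (u b) := fun b => rfl
    have hv : ∀ a : A, v (algebraMap A B a) = 0 := by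
      intro a
      rw [hvb, Algebra.algebraMap_eq_smul_one a, map_smul]
      have hu' : u 1 = 1 := hu
      rw [hu', smul_eq_mul, mul_one, Algebra.algebraMap_eq_smul_one, sub_self]
    have hKv : ∀ z : K ⊗[R] B, v.lTensor K z = 0 := by
      intro z
      obtain ⟨w, rfl⟩ := hK.2 z
      induction w using TensorProduct.induction_on with
      | zero => simp
      | tmul k a => rw [hΦ, LinearMap.lTensor_tmul, hv, TensorProduct.tmul_zero]
      | add x y hx hy => rw [map_add, map_add, hx, hy, add_zero]
    intro b
    refine ⟨u b, ?_⟩
    have hvb0 : v b = 0 := by
      apply hiB
      rw [map_zero]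
      have := hKv (1 ⊗ₜ b)
      rw [LinearMap.lTensor_tmul] at this
      exact this
    rw [hvb] at hvb0
    exact (sub_eq_zero.mp hvb0).symm

end Groth.Agent.S13041
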