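import Groth.Statements.S13042
import Mathlib

set_option autoImplicit false
universe u
open MaxMod

namespace Groth.Agent.S13042

open MvPolynomial in
/-- Let p be a prime, R a local ring of characteristic p, λ an element of the maximal ideal of R and f ∈
R. Then there is an isomorphism of R-algebras R[W₁, W₂]/(W₁^p − f, W₂^p − f) ≅ R[x, W]/(x^p, W^p −
f) with W₁ ↦ x + W + λ·x·W and W₂ ↦ W; that is, Spec R[W]/(W^p − f) with the action w ↦ x + w + λxw
is a torsor under the group scheme Spec R[x]/(x^p) with law x₁ ∘ x₂ = x₁ + x₂ + λx₁x₂. (The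
published statement is over a complete discrete valuation ring of characteristic p with λ a nonzero
nonunit, and also asserts that for f in the fraction field with negative valuation v(f) > −p·v(λ)
the torsor W^p = f extends to a torsor over R, using the coordinate 1/W; that second case fails: for
p = 2, λ = π a uniformizer and f = 1/π, every model is Spec R[π^a t] with t² = π, and none of these
is a torsor since the coaction sends t to t − π(1 + t)x. Only the case f ∈ R is stated, and the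
argument there uses only that R is local of characteristic p.) -/
theorem result
    (p : ℕ) [Fact p.Prime] (R : Type u) [CommRing R] [IsLocalRing R] [CharP R p]
    (lam f : R) (hlam : lam ∈ IsLocalRing.maximalIdeal R) :
    ∃ e : (MvPolynomial (Fin 2) R ⧸ Ideal.span {(X 0 ^ p - C f : MvPolynomial (Fin 2) R), X 1 ^ p - C f}) ≃ₐ[R]
        (MvPolynomial (Fin 2) R ⧸ Ideal.span {(X 0 ^ p : MvPolynomial (Fin 2) R), X 1 ^ p - C f}),
      e (Ideal.Quotient.mk _ (X 0)) = Ideal.Quotient.mk _ (X 0 + X 1 + C lam * X 0 * X 1) ∧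
      e (Ideal.Quotient.mk _ (X 1)) = Ideal.Quotient.mk _ (X 1) := by
  have hp : p.Prime := Fact.out
  obtain ⟨q, hq⟩ : ∃ q, p = q + 1 := ⟨p - 1, (Nat.sub_add_cancel hp.one_le).symm⟩
  -- unit
  have hunit : IsUnit (1 + lam ^ p * f) := by
    have hm : lam ^ p * f ∈ IsLocalRing.maximalIdeal R :=
      Ideal.mul_mem_right _ _ (Ideal.pow_mem_of_mem _ hlam p hp.pos)
    have := IsLocalRing.isUnit_one_sub_self_of_mem_nonunits (-(lam ^ p * f)) (by
      have : -(lam ^ p * f) ∈ IsLocalRing.maximalIdeal R := neg_mem hm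
      exact this)
    simpa using this
  obtain ⟨v, hv⟩ := hunit.exists_right_inv
  let P := MvPolynomial (Fin 2) R
  let I₁ : Ideal P := Ideal.span {(X 0 ^ p - C f : P), X 1 ^ p - C f}
  let I₂ : Ideal P := Ideal.span {(X 0 ^ p : P), X 1 ^ p - C f}
  let U : P := (1 + C lam * X 1) ^ q * C v
  have hU : U * (1 + C lam * X 1) = 1 + C (lam ^ p * v) * (X 1 ^ p - C f) := by
    have h1 : (1 + C lam * X 1 : P) ^ p = 1 + C (lam ^ p) * X 1 ^ p := by
      rw [add_pow_char, one_pow, mul_pow, ← C_pow]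
    have : U * (1 + C lam * X 1) = (1 + C lam * X 1 : P) ^ p * C v := by
      simp only [U, hq, pow_succ]; ring
    rw [this, h1]
    have h2 : (C ((1 + lam ^ p * f) * v) : P) = 1 := by rw [hv, C_1]
    rw [C_mul, C_add, C_1, C_mul] at h2
    rw [C_mul]
    linear_combination h2
  let a₁ : P →ₐ[R] P := aeval ![X 0 + X 1 + C lam * X 0 * X 1, X 1]
  let a₂ : P →ₐ[R] P := aeval ![(X 0 - X 1) * U, X 1]
  have ha₁0 : a₁ (X 0) = X 0 + X 1 + C lam * X 0 * X 1 := (aeval_X _ _).trans rfl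
  have ha₁1 : a₁ (X 1) = X 1 := (aeval_X _ _).trans rfl
  have ha₂0 : a₂ (X 0) = (X 0 - X 1) * U := (aeval_X _ _).trans rfl
  have ha₂1 : a₂ (X 1) = X 1 := (aeval_X _ _).trans rfl
  have ha₁C : ∀ r : R, a₁ (C r) = C r := fun r => (algHom_C a₁ r).trans rfl
  have ha₂C : ∀ r : R, a₂ (C r) = C r := fun r => (algHom_C a₂ r).trans rfl
  have ha₁U : a₁ U = U := by
    simp only [U, map_mul, map_pow, map_add, map_one, ha₁1, ha₁C]
  have ha₂U : a₂ U = U := by
    simp only [U, map_mul, map_pow, map_add, map_one, ha₂1, ha₂C]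
  have hx1I₁ : (X 1 ^ p - C f : P) ∈ I₁ := Ideal.subset_span (by simp)
  have hx0I₁ : (X 0 ^ p - C f : P) ∈ I₁ := Ideal.subset_span (by simp)
  have hx1I₂ : (X 1 ^ p - C f : P) ∈ I₂ := Ideal.subset_span (by simp)
  have hx0I₂ : (X 0 ^ p : P) ∈ I₂ := Ideal.subset_span (by simp)
  have hk₁ : ∀ x ∈ I₁, (Ideal.Quotient.mkₐ R I₂).comp a₁ x = 0 := by
    intro x hx
    have : I₁ ≤ Ideal.comap a₁.toRingHom I₂ := by
      refine Ideal.span_le.mpr ?_
      rintro y (rfl | rfl)
      · show a₁ _ ∈ I₂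
        rw [map_sub, map_pow, ha₁0, ha₁C, add_pow_char, add_pow_char, mul_pow, mul_pow, ← C_pow]
        have : (X 0 ^ p + X 1 ^ p + C (lam ^ p) * X 0 ^ p * X 1 ^ p - C f : P)
            = (1 + C (lam ^ p) * X 1 ^ p) * X 0 ^ p + (X 1 ^ p - C f) := by ring
        rw [this]
        exact add_mem (Ideal.mul_mem_left _ _ hx0I₂) hx1I₂
      · show a₁ _ ∈ I₂
        rw [map_sub, map_pow, ha₁1, ha₁C]
        exact hx1I₂
    have := this hx
    simpa [Ideal.Quotient.eq_zero_iff_mem] using this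
  have hk₂ : ∀ x ∈ I₂, (Ideal.Quotient.mkₐ R I₁).comp a₂ x = 0 := by
    intro x hx
    have : I₂ ≤ Ideal.comap a₂.toRingHom I₁ := by
      refine Ideal.span_le.mpr ?_
      rintro y (rfl | rfl)
      · show a₂ _ ∈ I₁
        rw [map_pow, ha₂0, mul_pow, sub_pow_char]
        have : (X 0 ^ p - X 1 ^ p : P) = (X 0 ^ p - C f) - (X 1 ^ p - C f) := by ring
        rw [this]
        exact Ideal.mul_mem_right _ _ (sub_mem hx0I₁ hx1I₁)
      · show a₂ _ ∈ I₁
        rw [map_sub, map_pow, ha₂1, ha₂C]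
        exact hx1I₁
    have := this hx
    simpa [Ideal.Quotient.eq_zero_iff_mem] using this
  let e₁ : (P ⧸ I₁) →ₐ[R] (P ⧸ I₂) := Ideal.Quotient.liftₐ I₁ _ hk₁
  let e₂ : (P ⧸ I₂) →ₐ[R] (P ⧸ I₁) := Ideal.Quotient.liftₐ I₂ _ hk₂
  have he₁ : ∀ x : P, e₁ (Ideal.Quotient.mk I₁ x) = Ideal.Quotient.mk I₂ (a₁ x) := fun x => rfl
  have he₂ : ∀ x : P, e₂ (Ideal.Quotient.mk I₂ x) = Ideal.Quotient.mk I₁ (a₂ x) := fun x => rfl
  have h21 : e₂.comp e₁ = AlgHom.id R _ := by
    apply Ideal.Quotient.algHom_ext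
    apply MvPolynomial.algHom_ext
    intro i
    fin_cases i
    · show e₂ (e₁ (Ideal.Quotient.mk I₁ (X 0))) = Ideal.Quotient.mk I₁ (X 0)
      have hc : a₂ (X 0 + X 1 + C lam * X 0 * X 1)
          = (X 0 - X 1) * U + X 1 + C lam * ((X 0 - X 1) * U) * X 1 := by
        simp only [map_add, map_mul, ha₂0, ha₂1, ha₂C]
      rw [he₁, he₂, ha₁0, hc]
      rw [Ideal.Quotient.eq]
      have : ((X 0 - X 1) * U + X 1 + C lam * ((X 0 - X 1) * U) * X 1 - X 0 : P)
          = (X 0 - X 1) * (U * (1 + C lam * X 1) - 1) := by ring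
      rw [this, hU]
      have : ((X 0 - X 1) * (1 + C (lam ^ p * v) * (X 1 ^ p - C f) - 1) : P)
          = ((X 0 - X 1) * C (lam ^ p * v)) * (X 1 ^ p - C f) := by ring
      rw [this]
      exact Ideal.mul_mem_left _ _ hx1I₁
    · show e₂ (e₁ (Ideal.Quotient.mk I₁ (X 1))) = Ideal.Quotient.mk I₁ (X 1)
      rw [he₁, he₂, ha₁1, ha₂1]
  have h12 : e₁.comp e₂ = AlgHom.id R _ := by
    apply Ideal.Quotient.algHom_ext
    apply MvPolynomial.algHom_ext
    intro i
    fin_cases i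
    · show e₁ (e₂ (Ideal.Quotient.mk I₂ (X 0))) = Ideal.Quotient.mk I₂ (X 0)
      have hc : a₁ ((X 0 - X 1) * U)
          = (X 0 + X 1 + C lam * X 0 * X 1 - X 1) * U := by
        simp only [map_mul, map_sub, ha₁0, ha₁1, ha₁U]
      rw [he₂, he₁, ha₂0, hc]
      rw [Ideal.Quotient.eq]
      have : ((X 0 + X 1 + C lam * X 0 * X 1 - X 1) * U - X 0 : P)
          = X 0 * (U * (1 + C lam * X 1) - 1) := by ring
      rw [this, hU]
      have : (X 0 * (1 + C (lam ^ p * v) * (X 1 ^ p - C f) - 1) : P)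
          = (X 0 * C (lam ^ p * v)) * (X 1 ^ p - C f) := by ring
      rw [this]
      exact Ideal.mul_mem_left _ _ hx1I₂
    · show e₁ (e₂ (Ideal.Quotient.mk I₂ (X 1))) = Ideal.Quotient.mk I₂ (X 1)
      rw [he₂, he₁, ha₂1, ha₁1]
  refine ⟨AlgEquiv.ofAlgHom e₁ e₂ h12 h21, ?_, ?_⟩
  · show e₁ (Ideal.Quotient.mk I₁ (X 0)) = _
    rw [he₁, ha₁0]
  · show e₁ (Ideal.Quotient.mk I₁ (X 1)) = _
    rw [he₁, ha₁1]

end Groth.Agent.S13042
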