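import Groth.Statements.S13049
import Mathlib

set_option autoImplicit false
universe u
open FrobAlg

namespace Groth.Agent.S13049

/-- Let p be a prime and A a commutative ring of characteristic p whose nilradical N satisfies x^(p^e) =
0 for all x ∈ N and some fixed e (for instance A Noetherian). Then the map between the inverse-limit
perfections along the absolute Frobenius, lim (⋯ → A → A) → lim (⋯ → A/N → A/N), induced by the
projection A → A/N, is bijective. (The published argument takes A of finite type over a field, where
the nilradical is finitely generated; this row assumes only that the nilradical is killed by one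
fixed iterate of Frobenius, which is all that argument uses.) -/
theorem result
    (p : ℕ) [Fact p.Prime] (A : Type u) [CommRing A] [CharP A p]
    [CharP (A ⧸ nilradical A) p] (e : ℕ) (he : ∀ x ∈ nilradical A, x ^ p ^ e = 0) :
    Function.Bijective (Perfection.map p (Ideal.Quotient.mk (nilradical A))) := by
  classical
  have key : ∀ a b : A, a - b ∈ nilradical A → a ^ p ^ e = b ^ p ^ e := by
    intro a b h
    have := he _ h
    rw [sub_pow_char_pow] at this
    exact sub_eq_zero.mp this
  have hco : ∀ (R : Type u) [CommRing R] [CharP R p] (f : Perfection R p) (n : ℕ),
      Perfection.coeff R p (n + e) f ^ p ^ e = Perfection.coeff R p n f := by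
    intro R _ _ f n
    have := Perfection.coeffMonoidHom_pow_p_pow' f n e
    simpa using this
  constructor
  · intro f g h
    ext n
    rw [← hco A f n, ← hco A g n]
    apply key
    rw [← Ideal.Quotient.eq]
    have := congrArg (Perfection.coeff _ p (n + e)) h
    simpa using this
  · intro h
    have hsurj := Ideal.Quotient.mk_surjective (I := nilradical A)
    choose l hl using fun n => hsurj (Perfection.coeff _ p n h)
    refine ⟨⟨fun n => l (n + e) ^ p ^ e, ?_⟩, ?_⟩
    · intro n
      rw [← pow_mul, mul_comm, pow_mul]
      apply key
      rw [← Ideal.Quotient.eq, map_pow, hl, hl]
      have : n + 1 + e = (n + e) + 1 := by ring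
      rw [this, Perfection.coeff_pow_p']
    · ext n
      rw [Perfection.coeff_map, Perfection.coeff_mk, map_pow, hl, hco]

end Groth.Agent.S13049
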