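import Groth.Statements.S13051
import Groth.Agent.Lib.Helper6.ZetaFormal
open Groth.Agent.H6

set_option autoImplicit false
universe u
open CategoryTheory AlgebraicGeometry
open Zeta

namespace Groth.Agent.S13051

/-- For a scheme X of finite type over a finite field k, Z(X, t) = ∏ over the closed points x of (1 −
t^{deg x})^{−1}, that is ∏_{r ≥ 1} (1 − t^r)^{−a_r} with a_r the number of closed points of residue
degree r; equivalently, for every n the product Z(X, t) · ∏_{r = 1}^{n} (1 − t^r)^{a_r} is ≡ 1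
modulo t^{n+1}. In particular Z(X, t) has integer coefficients. (Stated for any scheme of finite
type over k; reducedness plays no role.) -/
theorem result {k : Type u} [Field k] [Finite k] {X : Scheme.{u}}
    (f : X ⟶ Spec (CommRingCat.of k)) [LocallyOfFiniteType f] [QuasiCompact f] :
    (∀ n : ℕ, PowerSeries.trunc (n + 1)
        (Zeta.zetaFun f * ∏ r ∈ Finset.Icc 1 n, (1 - PowerSeries.X ^ r) ^ Zeta.degCount f r) = 1) ∧
      ∀ n : ℕ, ∃ z : ℤ, PowerSeries.coeff n (Zeta.zetaFun f) = (z : ℚ) := by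
  classical
  have hc1 : ∀ r, 1 ≤ r → PowerSeries.constantCoeff (1 - PowerSeries.X ^ r : PowerSeries ℚ) ≠ 0 := by
    intro r hr
    rw [ZF.constantCoeff_one_sub_X_pow r hr]; exact one_ne_zero
  have hZ : PowerSeries.constantCoeff (Zeta.zetaFun f) ≠ 0 := by
    rw [ZF.constantCoeff_zetaFun]; exact one_ne_zero
  -- the key coefficient statement
  have key : ∀ n : ℕ, ∀ m : ℕ, PowerSeries.coeff m
      (Zeta.zetaFun f * ∏ r ∈ Finset.Icc 1 n, (1 - PowerSeries.X ^ r) ^ Zeta.degCount f r) =
      if m = 0 then 1 else if m ≤ n then 0 else PowerSeries.coeff m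
      (Zeta.zetaFun f * ∏ r ∈ Finset.Icc 1 n, (1 - PowerSeries.X ^ r) ^ Zeta.degCount f r) := by
    intro n m
    set s := Finset.Icc 1 n with hs
    have hcp : ∀ r ∈ s, PowerSeries.constantCoeff
        ((1 - PowerSeries.X ^ r : PowerSeries ℚ) ^ Zeta.degCount f r) ≠ 0 := by
      intro r hr
      exact ZF.constantCoeff_pow_ne_zero (hc1 r (Finset.mem_Icc.mp hr).1) _
    have hA1 : PowerSeries.constantCoeff
        (∏ r ∈ s, (1 - PowerSeries.X ^ r : PowerSeries ℚ) ^ Zeta.degCount f r) = 1 := by
      rw [map_prod]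
      apply Finset.prod_eq_one
      intro r hr
      rw [map_pow, ZF.constantCoeff_one_sub_X_pow r (Finset.mem_Icc.mp hr).1, one_pow]
    have hA : PowerSeries.constantCoeff
        (∏ r ∈ s, (1 - PowerSeries.X ^ r : PowerSeries ℚ) ^ Zeta.degCount f r) ≠ 0 := by
      rw [hA1]; exact one_ne_zero
    have hu0 : PowerSeries.constantCoeff (Zeta.zetaFun f *
        ∏ r ∈ s, (1 - PowerSeries.X ^ r : PowerSeries ℚ) ^ Zeta.degCount f r) = 1 := by
      rw [map_mul, hA1, ZF.constantCoeff_zetaFun, mul_one]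
    have hu : PowerSeries.constantCoeff (Zeta.zetaFun f *
        ∏ r ∈ s, (1 - PowerSeries.X ^ r : PowerSeries ℚ) ^ Zeta.degCount f r) ≠ 0 := by
      rw [hu0]; exact one_ne_zero
    by_cases hm0 : m = 0
    · subst hm0
      rw [if_pos rfl, PowerSeries.coeff_zero_eq_constantCoeff_apply, hu0]
    rw [if_neg hm0]
    by_cases hmn : m ≤ n
    · rw [if_pos hmn]
      apply ZF.coeff_eq_zero_of_dlog hu n _ m (by omega) hmn
      intro j hj
      rw [ZF.dlog_mul hZ hA, ZF.dlog_prod s _ hcp]
      simp only [map_add, map_sum]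
      have h2 : ∀ r ∈ s, PowerSeries.coeff j (ZF.dlog ((1 - PowerSeries.X ^ r : PowerSeries ℚ) ^
          Zeta.degCount f r)) = if r ∣ j + 1 then -((r : ℚ) * Zeta.degCount f r) else 0 := by
        intro r hr
        rw [ZF.dlog_pow (hc1 r (Finset.mem_Icc.mp hr).1), map_nsmul,
          ZF.coeff_dlog_one_sub_X_pow r (Finset.mem_Icc.mp hr).1, nsmul_eq_mul]
        split_ifs <;> ring
      rw [Finset.sum_congr rfl h2, ← Finset.sum_filter, ZF.coeff_dlog_zetaFun]
      unfold Zeta.nPts
      have h3 : Finset.filter (fun r => r ∣ j + 1) s = (j + 1).divisors := by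
        ext r
        simp only [Finset.mem_filter, hs, Finset.mem_Icc, Nat.mem_divisors]
        constructor
        · rintro ⟨_, h⟩; exact ⟨h, by omega⟩
        · rintro ⟨h, _⟩
          have h4 := Nat.le_of_dvd (by omega) h
          have h5 := Nat.pos_of_dvd_of_pos h (by omega)
          exact ⟨⟨h5, by omega⟩, h⟩
      rw [h3, Finset.sum_neg_distrib]
      push_cast
      ring
    · rw [if_neg hmn]
  refine ⟨?_, ?_⟩
  · intro n
    ext m
    rw [PowerSeries.coeff_trunc, Polynomial.coeff_one]
    by_cases hm : m < n + 1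
    · rw [if_pos hm, key n m]
      by_cases hm0 : m = 0
      · simp [hm0]
      · rw [if_neg hm0, if_pos (by omega), if_neg hm0]
    · rw [if_neg hm, if_neg (by omega)]
  · intro n
    -- integral version of the product
    let PZ : PowerSeries ℤ := ∏ r ∈ Finset.Icc 1 n, (1 - PowerSeries.X ^ r) ^ Zeta.degCount f r
    have hPZ0 : PowerSeries.constantCoeff PZ = ((1 : ℤˣ) : ℤ) := by
      change PowerSeries.constantCoeff (∏ r ∈ Finset.Icc 1 n, (1 - PowerSeries.X ^ r) ^ Zeta.degCount f r) = _
      rw [map_prod]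
      apply Finset.prod_eq_one
      intro r hr
      have hr1 := (Finset.mem_Icc.mp hr).1
      rw [map_pow, map_sub, map_one, map_pow, PowerSeries.constantCoeff_X, zero_pow (by omega),
        sub_zero, one_pow]
    let W : PowerSeries ℤ := PowerSeries.invOfUnit PZ 1
    have hPW : PZ * W = 1 := PowerSeries.mul_invOfUnit PZ 1 hPZ0
    have hmap : PowerSeries.map (Int.castRingHom ℚ) PZ =
        ∏ r ∈ Finset.Icc 1 n, (1 - PowerSeries.X ^ r : PowerSeries ℚ) ^ Zeta.degCount f r := by
      change PowerSeries.map (Int.castRingHom ℚ)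
        (∏ r ∈ Finset.Icc 1 n, (1 - PowerSeries.X ^ r) ^ Zeta.degCount f r) = _
      rw [map_prod]
      refine Finset.prod_congr rfl fun r _ => ?_
      rw [map_pow, map_sub, map_one, map_pow, PowerSeries.map_X]
    have hPWQ : (∏ r ∈ Finset.Icc 1 n, (1 - PowerSeries.X ^ r : PowerSeries ℚ) ^ Zeta.degCount f r) *
        PowerSeries.map (Int.castRingHom ℚ) W = 1 := by
      rw [← hmap, ← map_mul, hPW, map_one]
    set A := ∏ r ∈ Finset.Icc 1 n, (1 - PowerSeries.X ^ r : PowerSeries ℚ) ^ Zeta.degCount f r with hA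
    have hdvd : (PowerSeries.X : PowerSeries ℚ) ^ (n + 1) ∣ Zeta.zetaFun f * A - 1 := by
      rw [PowerSeries.X_pow_dvd_iff]
      intro m hm
      rw [map_sub, key n m, PowerSeries.coeff_one]
      by_cases hm0 : m = 0
      · simp [hm0]
      · rw [if_neg hm0, if_pos (by omega), if_neg hm0, sub_zero]
    obtain ⟨g, hg⟩ := hdvd
    have hZeq : Zeta.zetaFun f = PowerSeries.map (Int.castRingHom ℚ) W +
        PowerSeries.X ^ (n + 1) * (g * PowerSeries.map (Int.castRingHom ℚ) W) := by
      have h1 : Zeta.zetaFun f * A = 1 + PowerSeries.X ^ (n + 1) * g := by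
        rw [← hg]; ring
      calc Zeta.zetaFun f = Zeta.zetaFun f * (A * PowerSeries.map (Int.castRingHom ℚ) W) := by
            rw [hPWQ, mul_one]
        _ = (Zeta.zetaFun f * A) * PowerSeries.map (Int.castRingHom ℚ) W := by ring
        _ = _ := by rw [h1]; ring
    refine ⟨PowerSeries.coeff n W, ?_⟩
    rw [hZeq, map_add, PowerSeries.coeff_X_pow_mul', if_neg (by omega), add_zero,
      PowerSeries.coeff_map]
    rfl


end Groth.Agent.S13051
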