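import Groth.Statements.S13057
import Mathlib

set_option autoImplicit false
universe u
open Zeta

namespace Groth.Agent.S13057

/-- A power series f = ∑_{m ≥ 0} a_m t^m over a field L lies in L(t), i.e. f · Q = P for some
polynomials P, Q with Q ≠ 0, if and only if there are natural numbers M, N such that the vectors
(a_i, a_{i+1}, …, a_{i+N}) ∈ L^{N+1}, i ≥ M, span a proper subspace. -/
theorem result {L : Type u} [Field L]
    (f : PowerSeries L) :
    (∃ P Q : Polynomial L, Q ≠ 0 ∧ f * (Q : PowerSeries L) = (P : PowerSeries L)) ↔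
      ∃ M N : ℕ, Submodule.span L
          {v : Fin (N + 1) → L | ∃ i : ℕ, M ≤ i ∧ v = fun j : Fin (N + 1) => PowerSeries.coeff (i + (j : ℕ)) f} ≠ ⊤ := by
  classical
  constructor
  · rintro ⟨P, Q, hQ, h⟩
    refine ⟨P.natDegree + 1, Q.natDegree, ?_⟩
    set N := Q.natDegree with hN
    intro htop
    let φ : (Fin (N + 1) → L) →ₗ[L] L :=
      ∑ j : Fin (N + 1), Q.coeff (N - j) • LinearMap.proj j
    have hφ : ∀ w, φ w = ∑ j : Fin (N + 1), Q.coeff (N - j) * w j := by
      intro w
      simp [φ, LinearMap.sum_apply]
    have hker : Submodule.span L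
          {v : Fin (N + 1) → L | ∃ i : ℕ, P.natDegree + 1 ≤ i ∧ v = fun j : Fin (N + 1) => PowerSeries.coeff (i + (j : ℕ)) f} ≤ LinearMap.ker φ := by
      rw [Submodule.span_le]
      rintro v ⟨i, hi, rfl⟩
      rw [SetLike.mem_coe, LinearMap.mem_ker, hφ]
      have hk := congrArg (PowerSeries.coeff (i + N)) h
      rw [Polynomial.coeff_coe, Polynomial.coeff_eq_zero_of_natDegree_lt (by omega),
        PowerSeries.coeff_mul, Finset.Nat.sum_antidiagonal_eq_sum_range_succ_mk,
        show (i + N).succ = i + (N + 1) by omega, Finset.sum_range_add] at hk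
      dsimp only at hk
      have h0 : ∑ x ∈ Finset.range i, PowerSeries.coeff x f * PowerSeries.coeff (i + N - x) (Q : PowerSeries L) = 0 := by
        apply Finset.sum_eq_zero
        intro x hx
        rw [Finset.mem_range] at hx
        rw [Polynomial.coeff_coe, Polynomial.coeff_eq_zero_of_natDegree_lt (by omega), mul_zero]
      rw [h0, zero_add] at hk
      rw [Fin.sum_univ_eq_sum_range (fun j => Q.coeff (N - j) * PowerSeries.coeff (i + j) f) (N + 1), ← hk]
      refine Finset.sum_congr rfl fun j _ => ?_
      rw [Polynomial.coeff_coe, Nat.add_sub_add_left, mul_comm]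
    rw [htop] at hker
    have : φ (Pi.single 0 1) = 0 := hker Submodule.mem_top
    rw [hφ, Finset.sum_eq_single 0] at this
    · simp only [Fin.val_zero, Nat.sub_zero, Pi.single_eq_same, mul_one] at this
      exact hQ (Polynomial.leadingCoeff_eq_zero.1 this)
    · intro b _ hb
      rw [Pi.single_eq_of_ne hb, mul_zero]
    · intro h; exact absurd (Finset.mem_univ _) h
  · rintro ⟨M, N, hne⟩
    obtain ⟨φ, hφ0, hle⟩ := Submodule.exists_le_ker_of_lt_top _ (lt_top_iff_ne_top.2 hne)
    set c : Fin (N + 1) → L := fun j => φ (Pi.single j 1) with hc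
    have hφ : ∀ w, φ w = ∑ j, w j * c j := by
      intro w
      rw [LinearMap.pi_apply_eq_sum_univ φ w]
      refine Finset.sum_congr rfl fun j _ => ?_
      rw [smul_eq_mul, hc]
      congr 2
      ext k
      simp [Pi.single_apply, eq_comm]
    obtain ⟨j0, hj0⟩ : ∃ j, c j ≠ 0 := by
      by_contra hcon
      push Not at hcon
      apply hφ0
      refine LinearMap.ext fun w => ?_
      rw [hφ]
      simp [hcon]
    let Q : Polynomial L := ∑ j : Fin (N + 1), Polynomial.monomial (N - j) (c j)
    have hQ : Q ≠ 0 := by
      intro h0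
      apply hj0
      have : Q.coeff (N - j0) = c j0 := by
        simp only [Q, Polynomial.finsetSum_coeff, Polynomial.coeff_monomial]
        rw [Finset.sum_eq_single j0]
        · simp
        · intro b _ hb
          rw [if_neg]
          intro hcon
          apply hb
          have := b.is_lt
          have := j0.is_lt
          ext
          omega
        · intro h; exact absurd (Finset.mem_univ _) h
      rw [← this, h0, Polynomial.coeff_zero]
    have hcoef : ∀ i, PowerSeries.coeff (i + N) (f * (Q : PowerSeries L))
        = ∑ j : Fin (N + 1), PowerSeries.coeff (i + j) f * c j := by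
      intro i
      have hQc : (Q : PowerSeries L) = ∑ j : Fin (N + 1), ((Polynomial.monomial (N - j) (c j) : Polynomial L) : PowerSeries L) :=
        map_sum (Polynomial.coeToPowerSeries.ringHom (R := L)) (fun j : Fin (N + 1) => Polynomial.monomial (N - j) (c j)) Finset.univ
      rw [hQc, Finset.mul_sum, map_sum]
      refine Finset.sum_congr rfl fun j _ => ?_
      rw [← Polynomial.C_mul_X_pow_eq_monomial, Polynomial.coe_mul, Polynomial.coe_C, Polynomial.coe_pow,
        Polynomial.coe_X, ← mul_assoc, PowerSeries.coeff_mul_X_pow', if_pos (by omega),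
        PowerSeries.coeff_mul_C]
      have := j.is_lt
      congr 3
      omega
    refine ⟨PowerSeries.trunc (M + N) (f * (Q : PowerSeries L)), Q, hQ, ?_⟩
    ext k
    rw [Polynomial.coeff_coe, PowerSeries.coeff_trunc]
    split_ifs with hk
    · rfl
    · push Not at hk
      obtain ⟨i, rfl⟩ : ∃ i, k = i + N := ⟨k - N, by omega⟩
      rw [hcoef]
      have hv : (fun j : Fin (N + 1) => PowerSeries.coeff (i + (j : ℕ)) f) ∈ LinearMap.ker φ := by
        apply hle
        apply Submodule.subset_span
        exact ⟨i, by omega, rfl⟩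
      rw [LinearMap.mem_ker, hφ] at hv
      exact hv

end Groth.Agent.S13057
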