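import Groth.Statements.S13059
import Groth.Agent.Lib.Helper6.DetDual

set_option autoImplicit false
universe u
open Zeta

namespace Groth.Agent.S13059

/-- Let B : V × W → K be a perfect pairing of finite-dimensional vector spaces over a field K, c ∈ K
nonzero, and f, g endomorphisms of V, W with B(f v, g w) = c · B(v, w) for all v, w. Then det(Id − t
g) = (−1)^r c^r t^r det(f)^{−1} det(Id − c^{−1} t^{−1} f) with r the common dimension; stated
cleared of denominators as det(f) · det(Id − t g) = (−1)^r c^r · det(t Id − c^{−1} f) in K[t],
det(Id − t g) being the reverse of the characteristic polynomial of g. -/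
theorem result (K : Type u) [Field K] (V W : Type u)
    [AddCommGroup V] [Module K V] [FiniteDimensional K V] [AddCommGroup W] [Module K W]
    [FiniteDimensional K W] (B : V →ₗ[K] W →ₗ[K] K) [B.IsPerfPair] (f : V →ₗ[K] V) (g : W →ₗ[K] W)
    (c : K) (hc : c ≠ 0) (hfg : ∀ (v : V) (w : W), B (f v) (g w) = c * B v w) :
    LinearMap.det f • (LinearMap.charpoly g).reverse =
      ((-1) ^ Module.finrank K W * c ^ Module.finrank K W) • (c⁻¹ • f).charpoly := by
  classical
  set r := Module.finrank K W with hr
  let bW : Module.Basis (Fin r) K W := Module.finBasis K W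
  let bV : Module.Basis (Fin r) K V := bW.dualBasis.map B.toPerfPair.symm
  have hB : ∀ i j, B (bV i) (bW j) = if j = i then 1 else 0 := by
    intro i j
    have : B (bV i) = bW.dualBasis i := by
      show B (bW.dualBasis.map B.toPerfPair.symm i) = _
      rw [Module.Basis.map_apply, LinearMap.apply_symm_toPerfPair_self]
    rw [this, Module.Basis.dualBasis_apply_self]
  set F := LinearMap.toMatrix bV bV f with hF
  set G := LinearMap.toMatrix bW bW g with hG
  have key : Matrix.transpose F * G = c • (1 : Matrix (Fin r) (Fin r) K) := by
    refine Matrix.ext fun i j => ?_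
    rw [Matrix.mul_apply, Matrix.smul_apply, Matrix.one_apply, smul_eq_mul]
    have h1 : B (f (bV i)) (g (bW j)) = c * (if i = j then 1 else 0) := by
      rw [hfg, hB]
      simp only [eq_comm]
    rw [← h1]
    conv_rhs => rw [← bV.sum_repr (f (bV i)), ← bW.sum_repr (g (bW j))]
    simp only [map_sum, LinearMap.sum_apply, map_smul, LinearMap.smul_apply, hB, smul_eq_mul]
    refine Finset.sum_congr rfl fun k _ => ?_
    rw [Finset.sum_eq_single k]
    · simp [F, G, LinearMap.toMatrix_apply, mul_comm]
    · intro l _ hl
      rw [if_neg (Ne.symm hl), mul_zero]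
    · intro h; exact absurd (Finset.mem_univ _) h
  have := Groth.Agent.H6.mat_dual F G c hc key
  rw [Fintype.card_fin] at this
  rw [← LinearMap.det_toMatrix bV f, ← LinearMap.charpoly_toMatrix g bW,
    ← LinearMap.charpoly_toMatrix (c⁻¹ • f) bV, map_smul]
  exact this

end Groth.Agent.S13059
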