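import Groth.Statements.S13060
import Mathlib

set_option autoImplicit false
universe u v w x
open TensorProduct
open Zeta

namespace Groth.Agent.S13060

/-- Let k be a field, V and W vector spaces over k and G a group acting on V by k-linear automorphisms;
for the induced action on V ⊗_k W (trivial on W) one has (V ⊗_k W)^G = V^G ⊗_k W, i.e. the
invariants of V ⊗ W are the image of V^G ⊗ W → V ⊗ W. -/
theorem result {k : Type u} [Field k] {G : Type v} [Group G]
    {V : Type w} {W : Type x} [AddCommGroup V] [Module k V] [AddCommGroup W] [Module k W]
    (ρ : Representation k G V) :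
    (ρ.tprod (Representation.trivial k G W)).invariants =
      LinearMap.range (TensorProduct.map ρ.invariants.subtype (LinearMap.id : W →ₗ[k] W)) := by
  classical
  let 𝒞 := Module.Free.chooseBasis k W
  let eq := TensorProduct.equivFinsuppOfBasisRight (M := V) 𝒞
  have hact : ∀ g : G, (TensorProduct.map (ρ g) (LinearMap.id : W →ₗ[k] W)) =
      (ρ.tprod (Representation.trivial k G W)) g := by
    intro g
    apply TensorProduct.ext'
    intro v w
    simp [Representation.tprod_apply]
  have hcomm : ∀ g : G, eq.toLinearMap ∘ₗ (TensorProduct.map (ρ g) (LinearMap.id : W →ₗ[k] W)) =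
      (Finsupp.mapRange.linearMap (ρ g)) ∘ₗ eq.toLinearMap := by
    intro g
    apply TensorProduct.ext'
    intro v w
    ext j
    simp [eq]
  apply le_antisymm
  · intro z hz
    rw [Representation.mem_invariants] at hz
    set c := eq z with hc
    have hcj : ∀ j, c j ∈ ρ.invariants := by
      intro j g
      have h1 := LinearMap.congr_fun (hcomm g) z
      simp only [LinearMap.comp_apply, LinearEquiv.coe_coe] at h1
      rw [hact g, hz g] at h1
      have h2 := DFunLike.congr_fun h1 j
      simpa using h2.symm
    have hz' : z = c.sum fun i a => a ⊗ₜ[k] 𝒞 i := by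
      rw [← TensorProduct.equivFinsuppOfBasisRight_symm_apply, hc]
      exact (eq.symm_apply_apply z).symm
    rw [hz', Finsupp.sum]
    apply Submodule.sum_mem
    intro j _
    exact ⟨(⟨c j, hcj j⟩ : ρ.invariants) ⊗ₜ[k] 𝒞 j, by simp⟩
  · rintro _ ⟨y, rfl⟩
    rw [Representation.mem_invariants]
    intro g
    induction y using TensorProduct.induction_on with
    | zero => simp
    | tmul v w =>
      rw [← hact g]
      simp only [TensorProduct.map_tmul, Submodule.subtype_apply, LinearMap.id_apply]
      rw [v.2 g]
    | add a b ha hb => rw [map_add, map_add, ha, hb]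

end Groth.Agent.S13060
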