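import Groth.Statements.S13162
import Mathlib

set_option autoImplicit false
universe u v
open ZeroCyc

namespace Groth.Agent.S13162

/-- Let a finite group G act on a commutative ring A by ring automorphisms and let p be a prime such
that every integer prime to p is a unit in A. If I is an ideal of A and f ∈ A has G-invariant class
modulo I, then f^(p^k) is congruent modulo I to a G-invariant element of A, where p^k is the exact
power of p dividing the order of G. (The published statement assumes I stable under G, so that G
acts on A/I and the claim reads: the p^k-th power of an invariant of A/I lies in the image of the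
invariants of A; the form here asks only that the class of f be invariant.) -/
theorem result {A : Type u} [CommRing A] {G : Type v} [Group G] [Fintype G]
    [MulSemiringAction G A] (p : ℕ) [Fact p.Prime]
    (hA : ∀ m : ℕ, ¬ p ∣ m → IsUnit (m : A))
    (I : Ideal A) (f : A) (hf : ∀ g : G, g • f - f ∈ I) :
    ∃ a : A, (∀ g : G, g • a = a) ∧ a - f ^ (p ^ (Fintype.card G).factorization p) ∈ I := by
  classical
  obtain ⟨P⟩ : Nonempty (Sylow p G) := inferInstance
  have hcard : Nat.card P = p ^ (Fintype.card G).factorization p := by
    rw [P.card_eq_multiplicity, Nat.card_eq_fintype_card]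
  set k := (Fintype.card G).factorization p with hk
  have hidx : ¬ p ∣ (P : Subgroup G).index := P.not_dvd_index
  obtain ⟨u, hu⟩ := (hA _ hidx).exists_left_inv
  set H : Subgroup G := (P : Subgroup G) with hH
  let N : A := ∏ h : H, (h : G) • f
  have hNinv : ∀ h : H, (h : G) • N = N := fun h => Finset.smul_prod_perm f h
  have hcong : ∀ g : G, g • N - f ^ (p ^ k) ∈ I := by
    intro g
    rw [← Ideal.Quotient.eq, Finset.smul_prod', map_prod, map_pow]
    have : ∀ h : H, Ideal.Quotient.mk I (g • ((h : G) • f)) = Ideal.Quotient.mk I f := by
      intro h
      rw [smul_smul, Ideal.Quotient.eq]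
      exact hf _
    simp_rw [this]
    rw [Finset.prod_const, Finset.card_univ, ← Nat.card_eq_fintype_card]
    congr 1
  let t : G ⧸ H → A := Quotient.lift (fun g : G => g • N) (by
    intro g g' h
    have h' : g⁻¹ * g' ∈ H := QuotientGroup.leftRel_apply.1 h
    have := hNinv ⟨_, h'⟩
    show g • N = g' • N
    have h2 : g' • N = g • ((g⁻¹ * g') • N) := by rw [smul_smul, mul_inv_cancel_left]
    rw [h2]
    congr 1
    exact this.symm)
  have ht : ∀ g : G, t (QuotientGroup.mk g) = g • N := fun g => rfl
  have hidxcard : (Fintype.card (G ⧸ H) : A) = (H.index : A) := by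
    rw [Subgroup.index, Nat.card_eq_fintype_card]
  have hsmulu : ∀ g : G, g • u = u := by
    intro g
    have h1 : g • u * (H.index : A) = 1 := by
      have := congrArg (g • ·) hu
      simp only [smul_mul', smul_one] at this
      have h3 : g • (H.index : A) = (H.index : A) := map_natCast (MulSemiringAction.toRingHom G A g) _
      rwa [h3] at this
    calc g • u = g • u * (u * H.index) := by rw [hu, mul_one]
      _ = (g • u * H.index) * u := by ring
      _ = u := by rw [h1, one_mul]
  refine ⟨u * ∑ q, t q, ?_, ?_⟩
  · intro g
    rw [smul_mul', hsmulu, Finset.smul_sum]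
    congr 1
    have : ∀ q : G ⧸ H, g • t q = t (g • q) := by
      intro q
      induction q using QuotientGroup.induction_on with
      | H δ =>
        rw [ht, smul_smul]
        rfl
    simp_rw [this]
    exact Equiv.sum_comp (MulAction.toPerm g) t
  · have h1 : u * ∑ q, t q - f ^ (p ^ k) = u * ∑ q, (t q - f ^ (p ^ k)) := by
      rw [Finset.sum_sub_distrib, Finset.sum_const, Finset.card_univ, nsmul_eq_mul, hidxcard,
        mul_sub, ← mul_assoc, hu, one_mul]
    rw [h1]
    apply Ideal.mul_mem_left
    apply Ideal.sum_mem
    intro q _
    induction q using QuotientGroup.induction_on with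
    | H δ =>
      rw [ht]
      exact hcong δ

end Groth.Agent.S13162
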