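import Groth.Statements.S13061
import Groth.Agent.S13162

set_option autoImplicit false
universe u v w
open Zeta

namespace Groth.Agent.S13061

/-- Let A be a commutative algebra over a field k, G a finite group acting on A by k-algebra
automorphisms and I ⊆ A an ideal preserved by G. If p^n is the largest power of p = char(k) dividing
|G| (with p^n = 1 when char(k) = 0), then for every G-invariant b ∈ A/I the power b^{p^n} lies in
the image of A^G → (A/I)^G. (The published statement takes A finitely generated over k, which the
proof does not use.) -/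
theorem result {k : Type u} [Field k]
    {A : Type v} [CommRing A] [Algebra k A] {G : Type w} [Group G] [Finite G]
    [MulSemiringAction G A] [SMulCommClass G k A] (I : Ideal A)
    (hI : ∀ (g : G) (a : A), a ∈ I → g • a ∈ I) (u : A) (hu : ∀ g : G, g • u - u ∈ I) :
    ∃ a : A, (∀ g : G, g • a = a) ∧
      Ideal.Quotient.mk I a =
        Ideal.Quotient.mk I u ^ (ringChar k ^ (Nat.card G).factorization (ringChar k)) := by
  classical
  letI : Fintype G := Fintype.ofFinite G
  have hconst : ∀ (g : G) (c : k), g • algebraMap k A c = algebraMap k A c := by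
    intro g c
    rw [Algebra.algebraMap_eq_smul_one, smul_comm, smul_one]
  rcases CharP.char_is_prime_or_zero k (ringChar k) with hp | h0
  · haveI : Fact (ringChar k).Prime := ⟨hp⟩
    have hA : ∀ m : ℕ, ¬ ringChar k ∣ m → IsUnit (m : A) := by
      intro m hm
      have : (m : k) ≠ 0 := by
        rwa [Ne, CharP.cast_eq_zero_iff k (ringChar k)]
      have h2 := (IsUnit.mk0 _ this).map (algebraMap k A)
      rwa [map_natCast] at h2
    obtain ⟨a, ha1, ha2⟩ := Groth.Agent.S13162.result (ringChar k) hA I u hu
    refine ⟨a, ha1, ?_⟩
    rw [← map_pow, Ideal.Quotient.eq, Nat.card_eq_fintype_card]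
    exact ha2
  · rw [h0]
    simp only [Nat.factorization_zero_right, pow_zero, pow_one]
    have : CharZero k := (CharP.ringChar_zero_iff_CharZero k).1 h0
    have hcard : (Fintype.card G : k) ≠ 0 := by
      rw [Nat.cast_ne_zero]; exact Fintype.card_ne_zero
    set c : A := algebraMap k A ((Fintype.card G : k)⁻¹) with hc
    have hcN : c * (Fintype.card G : A) = 1 := by
      rw [hc, ← map_natCast (algebraMap k A), ← map_mul, inv_mul_cancel₀ hcard, map_one]
    refine ⟨c * ∑ g : G, g • u, ?_, ?_⟩
    · intro g
      rw [smul_mul', hconst, Finset.smul_sum]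
      congr 1
      simp_rw [smul_smul]
      exact Fintype.sum_bijective (fun h => g * h) (Group.mulLeft_bijective g) _ _ (fun _ => rfl)
    · rw [Ideal.Quotient.eq]
      have : c * ∑ g : G, g • u - u = c * ∑ g : G, (g • u - u) := by
        rw [Finset.sum_sub_distrib, Finset.sum_const, Finset.card_univ, nsmul_eq_mul, mul_sub,
          ← mul_assoc, hcN, one_mul]
      rw [this]
      exact I.mul_mem_left _ (I.sum_mem fun g _ => hu g)

end Groth.Agent.S13061
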