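import Groth.Statements.S13075
import Mathlib

set_option autoImplicit false
open Zeta

namespace Groth.Agent.S13075

/-- For the formal power series exp(t) = ∑_{m ≥ 0} t^m / m! and log(1 + t) = ∑_{m ≥ 1} (−1)^{m+1} t^m /
m over ℚ, log(exp(u)) = u and exp(log(1 + u)) = 1 + u for every u ∈ tℚ⟦t⟧; stated for u = t (the
general case is obtained by substitution): substituting exp(t) − 1 into log(1 + ·) gives t, and
substituting log(1 + t) into exp gives 1 + t. -/
theorem result :
    PowerSeries.subst (PowerSeries.exp ℚ - 1)
        (PowerSeries.mk fun m : ℕ => if m = 0 then (0 : ℚ) else (-1) ^ (m + 1) / (m : ℚ)) =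
      PowerSeries.X ∧
    PowerSeries.subst (PowerSeries.mk fun m : ℕ => if m = 0 then (0 : ℚ) else (-1) ^ (m + 1) / (m : ℚ))
        (PowerSeries.exp ℚ) = 1 + PowerSeries.X := by
  have hL : (PowerSeries.mk fun m : ℕ => if m = 0 then (0 : ℚ) else (-1) ^ (m + 1) / (m : ℚ)) =
      PowerSeries.log ℚ := by
    ext n
    simp [PowerSeries.coeff_log]
  rw [hL]
  have hdL : PowerSeries.derivative ℚ (PowerSeries.log ℚ) * (1 + PowerSeries.X) = 1 := by
    rw [PowerSeries.deriv_log]
    ext n
    rw [mul_add, mul_one, map_add]
    cases n with
    | zero => simp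
    | succ n =>
      rw [PowerSeries.coeff_succ_mul_X, PowerSeries.coeff_mk, PowerSeries.coeff_mk,
        PowerSeries.coeff_one]
      simp [pow_succ]
  have hs1 : PowerSeries.HasSubst (PowerSeries.exp ℚ - 1) := PowerSeries.HasSubst.exp_sub_one
  have hs2 : PowerSeries.HasSubst (PowerSeries.log ℚ) := PowerSeries.HasSubst.log
  have hone : ∀ {a : PowerSeries ℚ} (ha : PowerSeries.HasSubst a),
      PowerSeries.subst a (1 : PowerSeries ℚ) = 1 := by
    intro a ha
    rw [← PowerSeries.coe_substAlgHom ha, map_one]
  constructor
  · apply PowerSeries.derivative.ext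
    · rw [PowerSeries.derivative_subst hs1, PowerSeries.derivative_X, map_sub,
        PowerSeries.derivative_exp, PowerSeries.derivative_one, sub_zero]
      have := congrArg (PowerSeries.subst (PowerSeries.exp ℚ - 1)) hdL
      rw [PowerSeries.subst_mul hs1, PowerSeries.subst_add hs1, hone hs1,
        PowerSeries.subst_X hs1, add_sub_cancel] at this
      exact this
    · rw [PowerSeries.constantCoeff_X]
      have h0 : PowerSeries.constantCoeff (PowerSeries.exp ℚ - 1) = 0 := by simp
      exact PowerSeries.constantCoeff_subst_eq_zero h0 _ PowerSeries.constantCoeff_log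
  · set F := PowerSeries.subst (PowerSeries.log ℚ) (PowerSeries.exp ℚ) with hF
    have hdF : PowerSeries.derivative ℚ F = F * PowerSeries.derivative ℚ (PowerSeries.log ℚ) := by
      rw [hF, PowerSeries.derivative_subst hs2, PowerSeries.derivative_exp]
    have hddL : PowerSeries.derivative ℚ (PowerSeries.derivative ℚ (PowerSeries.log ℚ)) =
        - (PowerSeries.derivative ℚ (PowerSeries.log ℚ)) ^ 2 := by
      have h := congrArg (PowerSeries.derivative ℚ) hdL
      rw [Derivation.leibniz, PowerSeries.derivative_one, map_add, PowerSeries.derivative_one,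
        PowerSeries.derivative_X, zero_add, smul_eq_mul, smul_eq_mul, mul_one] at h
      have h2 : PowerSeries.derivative ℚ (PowerSeries.derivative ℚ (PowerSeries.log ℚ)) =
          PowerSeries.derivative ℚ (PowerSeries.derivative ℚ (PowerSeries.log ℚ)) *
            (PowerSeries.derivative ℚ (PowerSeries.log ℚ) * (1 + PowerSeries.X)) := by
        rw [hdL, mul_one]
      have h3 : (1 + PowerSeries.X) * PowerSeries.derivative ℚ (PowerSeries.derivative ℚ
          (PowerSeries.log ℚ)) = - PowerSeries.derivative ℚ (PowerSeries.log ℚ) := by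
        linear_combination h
      rw [h2]
      linear_combination (PowerSeries.derivative ℚ (PowerSeries.log ℚ)) * h3
    have hG : F * PowerSeries.derivative ℚ (PowerSeries.log ℚ) = 1 := by
      apply PowerSeries.derivative.ext
      · rw [Derivation.leibniz, hdF, hddL, PowerSeries.derivative_one, smul_eq_mul, smul_eq_mul]
        ring
      · rw [map_mul, map_one]
        have hc1 : PowerSeries.constantCoeff F = 1 := by
          rw [← PowerSeries.coeff_zero_eq_constantCoeff_apply, hF, PowerSeries.coeff_subst' hs2,
            finsum_eq_single _ 0]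
          · simp
          · intro n hn
            rw [PowerSeries.coeff_zero_eq_constantCoeff_apply, map_pow,
              PowerSeries.constantCoeff_log, zero_pow hn, smul_zero]
        have hc2 : PowerSeries.constantCoeff (PowerSeries.derivative ℚ (PowerSeries.log ℚ)) = 1 := by
          rw [PowerSeries.deriv_log, ← PowerSeries.coeff_zero_eq_constantCoeff_apply,
            PowerSeries.coeff_mk]
          simp
        rw [hc1, hc2, mul_one]
    calc F = F * (PowerSeries.derivative ℚ (PowerSeries.log ℚ) * (1 + PowerSeries.X)) := by
          rw [hdL, mul_one]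
      _ = (F * PowerSeries.derivative ℚ (PowerSeries.log ℚ)) * (1 + PowerSeries.X) := by ring
      _ = 1 + PowerSeries.X := by rw [hG, one_mul]

end Groth.Agent.S13075
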