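import Groth.Statements.S13097
import Groth.Agent.H4.FieldUH

set_option autoImplicit false
universe u
open FlatMor

namespace Groth.Agent.S13097

open CategoryTheory AlgebraicGeometry Limits
open Groth.Agent.H4.FieldUH


lemma dense_of_schDense {X : Scheme.{u}} (U : X.Opens) (h : CInt.IsSchematicallyDense U) :
    Dense (U : Set X) := by
  rw [dense_iff_inter_open]
  intro V hV hne
  obtain ⟨x, hx⟩ := hne
  by_contra hemp
  rw [Set.not_nonempty_iff_eq_empty] at hemp
  have hVU : (⟨V, hV⟩ : X.Opens) ⊓ U = ⊥ := by
    apply TopologicalSpace.Opens.ext
    rw [TopologicalSpace.Opens.coe_inf, TopologicalSpace.Opens.coe_mk,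
      TopologicalSpace.Opens.coe_bot]
    exact hemp
  have h1 := h ⟨V, hV⟩
  haveI : Subsingleton Γ(X, (⟨V, hV⟩ : X.Opens) ⊓ U) := by rw [hVU]; infer_instance
  haveI : Nonempty (⟨V, hV⟩ : X.Opens) := ⟨⟨x, hx⟩⟩
  haveI := Scheme.component_nontrivial X ⟨V, hV⟩
  exact zero_ne_one (h1 (Subsingleton.elim _ _))

open CategoryTheory AlgebraicGeometry in
/-- Let f : X → S be a quasi-compact, separated morphism of schemes with a section e : S → X (e followed
by f is the identity of S), and U ⊆ S an open subscheme such that f⁻¹(U) is schematically dense in X
(for every open V of X, restriction of functions from V to V ∩ f⁻¹(U) is injective) and such that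
the restriction f⁻¹(U) → U of f is a homeomorphism of underlying spaces. Then f is universally a
homeomorphism (every base change of f is a homeomorphism), and f is finite as soon as it is locally
of finite type. (The published statement also lists surjectivity of f, which a section forces, and
offers as an alternative to the section the hypothesis that f be flat, still with f⁻¹(U) → U only a
homeomorphism; that flat alternative fails: the spectrum of a separable quadratic field extension
over the spectrum of the ground field, with U the whole base, is flat, surjective, quasi-compact,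
separated and a homeomorphism over U, yet not universally injective. Only the case of a section,
whose published proof is complete, is stated here.) -/
theorem result {X S : Scheme.{u}} (f : X ⟶ S)
    [QuasiCompact f] [IsSeparated f] (U : S.Opens)
    (hdense : CInt.IsSchematicallyDense (f ⁻¹ᵁ U)) (hU : IsHomeomorph (f ∣_ U).base)
    (e : S ⟶ X) (he : e ≫ f = 𝟙 S) :
    FlatMor.IsUnivHomeo f ∧ (LocallyOfFiniteType f → IsFinite f) := by
  haveI : IsClosedImmersion (e ≫ f) := by rw [he]; infer_instance
  haveI : IsClosedImmersion e := IsClosedImmersion.of_comp e f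
  have hinj : ∀ x ∈ f ⁻¹ᵁ U, e (f x) = x := by
    intro x hx
    have h1 : f (e (f x)) = f x := by
      rw [← Scheme.Hom.comp_apply, he]; rfl
    have hx' : e (f x) ∈ f ⁻¹ᵁ U := by
      change f (e (f x)) ∈ U
      rw [h1]; exact hx
    have := hU.injective (a₁ := ⟨e (f x), hx'⟩) (a₂ := ⟨x, hx⟩) (by
      apply Subtype.ext
      rw [morphismRestrict_base_coe, morphismRestrict_base_coe]
      exact h1)
    exact congrArg Subtype.val this
  haveI : Surjective e := by
    constructor
    have hcl : IsClosed (Set.range e) := e.isClosedEmbedding.isClosed_range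
    have hsub : ((f ⁻¹ᵁ U : X.Opens) : Set X) ⊆ Set.range e := fun x hx => ⟨f x, hinj x hx⟩
    have hd := dense_of_schDense _ hdense
    have : Set.range e = Set.univ := by
      apply Set.eq_univ_of_univ_subset
      rw [← hd.closure_eq]
      exact closure_minimal hsub hcl
    intro x
    have hx : x ∈ Set.range e := this ▸ Set.mem_univ x
    exact hx
  have huh : FlatMor.IsUnivHomeo f := by
    have h2 : FlatMor.IsUnivHomeo (e ≫ f) := by
      rw [he]
      exact uh_of_isClosedImmersion_surjective (𝟙 S)
    exact (Groth.Agent.H1.isUnivHomeo_two_out_of_three e f).1 h2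
      (uh_of_isClosedImmersion_surjective e)
  refine ⟨huh, fun hlft => ?_⟩
  have h' := (Groth.Agent.H1.isUnivHomeo_iff_integral _).mp huh
  haveI := h'.1
  exact (IsFinite.iff_isIntegralHom_and_locallyOfFiniteType _).mpr ⟨h'.1, hlft⟩


end Groth.Agent.S13097
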