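import Groth.Statements.S13098
import Mathlib

set_option autoImplicit false
universe u v
open Lie3Mod

namespace Groth.Agent.S13098

/-- Let R be a commutative ring, M an R-module with a basis x = bs 0, y = bs 1, z = bs 2 indexed by Fin
3, and B an R-bilinear alternating map on M (B m m = 0) with B x y = a x + b y + c z, B x z = d x +
e y + f z and B y z = g x + h y + i z. Then B satisfies the Jacobi identity for all triples if and
only if the three Jacobi polynomials vanish: ah + di − fg − bg = 0, ie + bd − fh − ae = 0 and hc +
dc − af − bi = 0. (This is the statement that Lie brackets on a based free module of rank 3 are the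
points of the closed subscheme of affine 9-space defined by these three equations.) -/
theorem result (R : Type u) [CommRing R] (M : Type v) [AddCommGroup M] [Module R M]
    (bs : Module.Basis (Fin 3) R M) (B : M →ₗ[R] M →ₗ[R] M) (halt : ∀ m : M, B m m = 0)
    (a b c d e f g h i : R)
    (hxy : B (bs 0) (bs 1) = a • bs 0 + b • bs 1 + c • bs 2)
    (hxz : B (bs 0) (bs 2) = d • bs 0 + e • bs 1 + f • bs 2)
    (hyz : B (bs 1) (bs 2) = g • bs 0 + h • bs 1 + i • bs 2) :
    (∀ u v w : M, B u (B v w) + B v (B w u) + B w (B u v) = 0) ↔
      (a * h + d * i - f * g - b * g = 0 ∧ i * e + b * d - f * h - a * e = 0 ∧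
        h * c + d * c - a * f - b * i = 0) := by
  have hanti : ∀ u v : M, B u v = -B v u := by
    intro u v
    have h1 := halt (u + v)
    simp only [map_add, LinearMap.add_apply, halt, zero_add, add_zero] at h1
    exact eq_neg_of_add_eq_zero_left (by rw [add_comm]; exact h1)
  have hyx : B (bs 1) (bs 0) = -(a • bs 0 + b • bs 1 + c • bs 2) := by rw [hanti, hxy]
  have hzx : B (bs 2) (bs 0) = -(d • bs 0 + e • bs 1 + f • bs 2) := by rw [hanti, hxz]
  have hzy : B (bs 2) (bs 1) = -(g • bs 0 + h • bs 1 + i • bs 2) := by rw [hanti, hyz]
  -- the Jacobiator on the basis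
  have hJ : B (bs 0) (B (bs 1) (bs 2)) + B (bs 1) (B (bs 2) (bs 0)) + B (bs 2) (B (bs 0) (bs 1))
      = (a * h + d * i - f * g - b * g) • bs 0 + (i * e + b * d - f * h - a * e) • bs 1
        + (h * c + d * c - a * f - b * i) • bs 2 := by
    rw [hyz, hzx, hxy]
    simp only [map_add, map_smul, map_neg, halt, hxy, hxz, hyz, hyx, hzx, hzy, smul_zero]
    module
  constructor
  · intro hall
    have h0 := hall (bs 0) (bs 1) (bs 2)
    rw [hJ] at h0
    have hli := bs.linearIndependent
    rw [Fintype.linearIndependent_iff] at hli
    have := hli ![a * h + d * i - f * g - b * g, i * e + b * d - f * h - a * e, h * c + d * c - a * f - b * i]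
      (by simpa [Fin.sum_univ_three, add_assoc] using h0)
    exact ⟨this 0, this 1, this 2⟩
  · rintro ⟨h1, h2, h3⟩
    rw [h1, h2, h3, zero_smul, zero_smul, zero_smul, add_zero, add_zero] at hJ
    set Jf : M → M → M → M := fun u v w => B u (B v w) + B v (B w u) + B w (B u v) with hJf
    have hcyc : ∀ u v w, Jf u v w = Jf v w u := by
      intro u v w; simp only [hJf]; abel
    have hswap : ∀ u v w, Jf v u w = -Jf u v w := by
      intro u v w
      simp only [hJf]
      rw [hanti w v, hanti u w, hanti v u]
      simp only [map_neg]
      abel
    have hrep : ∀ u w, Jf u u w = 0 := by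
      intro u w
      have := hswap u u w
      simp only [hJf] at this ⊢
      rw [halt, map_zero, add_zero, hanti w u, map_neg, add_neg_cancel]
    have h012 : Jf (bs 0) (bs 1) (bs 2) = 0 := hJ
    have hbasis : ∀ i j k : Fin 3, Jf (bs i) (bs j) (bs k) = 0 := by
      intro i j k
      fin_cases i <;> fin_cases j <;> fin_cases k <;>
        first
        | exact hrep _ _
        | (rw [hcyc]; exact hrep _ _)
        | (rw [← hcyc]; exact hrep _ _)
        | exact h012
        | (rw [hcyc]; exact h012)
        | (rw [← hcyc]; exact h012)
        | (rw [hswap, neg_eq_zero]; exact h012)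
        | (rw [hswap, neg_eq_zero, hcyc]; exact h012)
        | (rw [hswap, neg_eq_zero, ← hcyc]; exact h012)
    intro u v w
    -- linear in u
    have hu : B.flip (B v w) + (B v).comp (B w) + (B w).comp (B.flip v) = 0 := by
      refine bs.ext fun i => ?_
      -- linear in v
      have hv : (B (bs i)).comp (B.flip w) + B.flip (B w (bs i)) + (B w).comp (B (bs i)) = 0 := by
        refine bs.ext fun j => ?_
        have hw : (B (bs i)).comp (B (bs j)) + (B (bs j)).comp (B.flip (bs i)) + B.flip (B (bs i) (bs j)) = 0 := by
          refine bs.ext fun k => ?_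
          have := hbasis i j k
          simpa [hJf] using this
        have := LinearMap.congr_fun hw w
        simpa using this
      have := LinearMap.congr_fun hv v
      simpa using this
    have := LinearMap.congr_fun hu u
    simpa using this

end Groth.Agent.S13098
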