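import Groth.Statements.S13106
open CategoryTheory AlgebraicGeometry

set_option autoImplicit false
universe u
open GrpSch

namespace Groth.Agent.S13106

open CategoryTheory AlgebraicGeometry in
/-- Let f : X → Y be a morphism of schemes and U ⊆ Y a schematically dense open subscheme (for every
open V of Y, restriction of functions from V to V ∩ U is injective) such that the restriction f⁻¹(U)
→ U of f is an isomorphism. Then two morphisms from Y to a scheme separated over a base T that agree
after composing with f and have the same composite to T are equal: if Z → T is separated and v₁, v₂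
: Y → Z satisfy v₁ ≫ (Z → T) = v₂ ≫ (Z → T) and f ≫ v₁ = f ≫ v₂, then v₁ = v₂. (The published
statement is the case of a morphism between two prolongations over A[[t]] of a finite group scheme
over A((t)), where U is the generic fibre, schematically dense by flatness; uniqueness of
prolongation maps follows.) -/
theorem result {X Y Z T : Scheme.{u}} (f : X ⟶ Y)
    (U : Y.Opens) (hU : CInt.IsSchematicallyDense U) [IsIso (f ∣_ U)]
    (z : Z ⟶ T) [IsSeparated z] (v₁ v₂ : Y ⟶ Z) (hz : v₁ ≫ z = v₂ ≫ z) (h : f ≫ v₁ = f ≫ v₂) :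
    v₁ = v₂ := by
  have hUv : U.ι ≫ v₁ = U.ι ≫ v₂ := by
    have h1 : (f ∣_ U) ≫ U.ι = (f ⁻¹ᵁ U).ι ≫ f := morphismRestrict_ι f U
    rw [← cancel_epi (f ∣_ U), ← Category.assoc, ← Category.assoc, h1, Category.assoc,
      Category.assoc, h]
  let Y' : Over T := Over.mk (v₁ ≫ z)
  let Z' : Over T := Over.mk z
  let v₁' : Y' ⟶ Z' := Over.homMk v₁
  let v₂' : Y' ⟶ Z' := Over.homMk v₂ hz.symm
  let U' : Over T := Over.mk (U.ι ≫ v₁ ≫ z)
  let ι' : U' ⟶ Y' := Over.homMk U.ι
  haveI : IsSeparated Z'.hom := ‹_›
  have hcond : ι' ≫ v₁' = ι' ≫ v₂' := by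
    ext1; exact hUv
  have hj : (Limits.equalizer.lift ι' hcond).left ≫ (Limits.equalizer.ι v₁' v₂').left = U.ι := by
    rw [← Over.comp_left, Limits.equalizer.lift_ι]
    rfl
  have hker : (Limits.equalizer.ι v₁' v₂').left.ker = ⊥ := by
    apply Scheme.IdealSheafData.ext
    funext V
    rw [Scheme.Hom.ker_apply, Scheme.IdealSheafData.ideal_bot, Pi.bot_apply,
      ← RingHom.injective_iff_ker_eq_bot]
    have key : ∀ (W W' : Y.Opens) (hW : W ≤ V.1) (hW' : W' ≤ V.1), W = W' →
        Function.Injective (Y.presheaf.map (homOfLE hW).op) →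
        Function.Injective (Y.presheaf.map (homOfLE hW').op) := by
      rintro W _ hW hW' rfl h; exact h
    have h1 : Function.Injective (U.ι.app V.1) := by
      rw [Scheme.Opens.ι_app]
      refine key _ _ inf_le_left _ ?_ (hU V.1)
      rw [Scheme.Hom.image_preimage_eq_opensRange_inf, Scheme.Opens.opensRange_ι, inf_comm]
    have h3 := Scheme.Hom.congr_app hj.symm V.1
    rw [Scheme.Hom.comp_app] at h3
    rw [injective_iff_map_eq_zero]
    intro s hs
    apply (injective_iff_map_eq_zero (U.ι.app V.1).hom).mp h1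
    change (U.ι.app V.1) s = 0
    rw [h3]
    change (CommRingCat.Hom.hom _) ((CommRingCat.Hom.hom _) ((CommRingCat.Hom.hom
      ((Limits.equalizer.ι v₁' v₂').left.app V.1)) s)) = 0
    rw [hs, map_zero, map_zero]
  have : IsIso (Limits.equalizer.ι v₁' v₂').left := IsClosedImmersion.isIso_iff_ker_eq_bot.mpr hker
  rw [← cancel_epi (Limits.equalizer.ι v₁' v₂').left]
  exact congr($(Limits.equalizer.condition v₁' v₂').left)


end Groth.Agent.S13106
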