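import Groth.Statements.S13110
import Groth.Agent.H4.PtFunDVR
import Groth.Agent.H4.PtFunLib

set_option autoImplicit false
universe u
open HTop

namespace Groth.Agent.S13110

open CategoryTheory AlgebraicGeometry W4c1hilbchowinc Groth.Agent.H4.PtFunAff Groth.Agent.H4.PtFunDVR Groth.Agent.H4.PtFunLib



open AlgebraicGeometry W4c1hilbchowinc in
/-- Let A be a reduced Noetherian ring, integrally closed inside its total ring of fractions
(equivalently, a finite product of integrally closed Noetherian domains). Then a pointwise function
on Spec A — one element of the residue field κ(y) for every point y — which varies algebraically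
along discrete valuation rings (for every discrete valuation ring R and every morphism Spec R → Spec
A there is an element of R whose values at the two points of Spec R are the images of the chosen
values) is the family of values of exactly one global section. Reducedness is part of the meaning of
integrally closed here; test rings range over the universe of A. -/
theorem result
    (A : Type u) [CommRing A] [IsReduced A] [IsNoetherianRing A] [IsIntegrallyClosed A]
    (f : PtFun (Spec (CommRingCat.of A))) (hf : f.VariesAlongDVR) :
    ∃! a : Γ(Spec (CommRingCat.of A), ⊤), PtFun.ofSection (Spec (CommRingCat.of A)) a = f := by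
  obtain ⟨a, ha⟩ := exists_section f hf
  refine ⟨(Scheme.ΓSpecIso (CommRingCat.of A)).inv a, ?_, ?_⟩
  · beta_reduce
    rw [ofSection_eq_iff]
    intro x
    rw [← ha x]
    congr 1
    exact congrFun (congrArg (fun φ => (φ.hom : _ → _))
      (Scheme.ΓSpecIso (CommRingCat.of A)).inv_hom_id) a
  · intro t ht
    apply eq_of_forall_evaluation
    intro p
    have h1 : (Spec (CommRingCat.of A)).Γevaluation p t = f p := congrFun ht p
    rw [h1, Γevaluation_eq_ev, ← ha p]
    congr 1
    exact (congrFun (congrArg (fun φ => (φ.hom : _ → _))
      (Scheme.ΓSpecIso (CommRingCat.of A)).inv_hom_id) a).symm


end Groth.Agent.S13110
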