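import Groth.Statements.S13111
import Groth.Agent.H4.PtFunLib

set_option autoImplicit false
universe u
open HTop

namespace Groth.Agent.S13111

open CategoryTheory AlgebraicGeometry W4c1hilbchowinc
open Groth.Agent.H4.PtFunLib



open AlgebraicGeometry W4c1hilbchowinc in
/-- Let A be a reduced Noetherian ring whose integral closure in its total ring of fractions is a finite
A-module. Suppose that any pointwise function on Spec A that is algebraic along every discrete
valuation ring (for every discrete valuation ring R and every morphism Spec R → Spec A there is an
element of R whose values at the two points of Spec R are the images of the chosen values) is the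
family of values of exactly one global section. Then A is seminormal: whenever x^3 = y^2 there is
exactly one a with x = a^2 and y = a^3. Test rings range over the universe of A. -/
theorem result
    (A : Type u) [CommRing A] [IsReduced A] [IsNoetherianRing A]
    (hfin : Module.Finite A (integralClosure A (FractionRing A)))
    (h : ∀ f : PtFun (Spec (CommRingCat.of A)), f.VariesAlongDVR →
      ∃! a : Γ(Spec (CommRingCat.of A), ⊤), PtFun.ofSection (Spec (CommRingCat.of A)) a = f) :
    HTop.IsSeminormalRing A := by
  have key : IsSeminormalRing Γ(Spec (CommRingCat.of A), ⊤) := by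
    intro sx sy hxy
    obtain ⟨a, ha, -⟩ := h _ (quotFun_varies _ sx sy hxy)
    have hev : ∀ p, (Spec (CommRingCat.of A)).Γevaluation p a =
        (Spec (CommRingCat.of A)).Γevaluation p sy / (Spec (CommRingCat.of A)).Γevaluation p sx :=
      fun p => congrFun ha p
    have hp : ∀ p, ((Spec (CommRingCat.of A)).Γevaluation p sx) ^ 3 =
        ((Spec (CommRingCat.of A)).Γevaluation p sy) ^ 2 := by
      intro p
      rw [← map_pow, ← map_pow, hxy]
    haveI : IsReduced Γ(Spec (CommRingCat.of A), ⊤) := inferInstance
    have ha2 : sx = a ^ 2 := by
      apply eq_of_forall_evaluation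
      intro p
      rw [map_pow, hev p]
      have := hp p
      set u := (Spec (CommRingCat.of A)).Γevaluation p sx
      set v := (Spec (CommRingCat.of A)).Γevaluation p sy
      by_cases hu : u = 0
      · rw [hu]; simp
      · field_simp
        exact this
    have ha3 : sy = a ^ 3 := by
      apply eq_of_forall_evaluation
      intro p
      rw [map_pow, hev p]
      have := hp p
      set u := (Spec (CommRingCat.of A)).Γevaluation p sx
      set v := (Spec (CommRingCat.of A)).Γevaluation p sy
      by_cases hu : u = 0
      · rw [hu] at this ⊢
        have hv : v = 0 := by
          have : v ^ 2 = 0 := by rw [← this]; simp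
          exact pow_eq_zero_iff (two_ne_zero) |>.mp this
        rw [hv]; simp
      · field_simp
        rw [this]
        ring
    refine ⟨a, ⟨ha2, ha3⟩, ?_⟩
    rintro b ⟨hb2, hb3⟩
    exact Groth.Agent.H4.Seminormal.eq_of_sq_eq_of_cube_eq (hb2.symm.trans ha2)
      (hb3.symm.trans ha3)
  exact Groth.Agent.H4.Seminormal.isSeminormalRing_of_ringEquiv
      (Scheme.ΓSpecIso (CommRingCat.of A)).commRingCatIsoToRingEquiv key


end Groth.Agent.S13111
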