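import Groth.Statements.S13112
import Mathlib
import Groth.Agent.H4.SNSch

set_option autoImplicit false
universe u
open HTop

namespace Groth.Agent.S13112

open CategoryTheory CategoryTheory.Limits AlgebraicGeometry TensorProduct
open Groth.Agent.H4.SNSch


/-- universally closed, universally injective and surjective morphisms are universal
homeomorphisms -/
lemma uh_of_univClosed_univInj_surj {X Y : Scheme.{u}} (f : X ⟶ Y) [UniversallyClosed f]
    [UniversallyInjective f] [Surjective f] : FlatMor.IsUnivHomeo f := by
  intro X' Y' i₁ i₂ f' sq
  haveI : UniversallyClosed f' := MorphismProperty.of_isPullback sq.flip ‹_›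
  haveI : UniversallyInjective f' := MorphismProperty.of_isPullback sq.flip ‹_›
  haveI : Surjective f' := MorphismProperty.of_isPullback sq.flip ‹_›
  show IsHomeomorph f'
  rw [isHomeomorph_iff_continuous_isClosedMap_bijective]
  exact ⟨f'.continuous, f'.isClosedMap, f'.injective, f'.surjective⟩

open CategoryTheory AlgebraicGeometry in
/-- Let k be a field, T a seminormal scheme of finite type over k, and f : X → Y a proper universally
injective k-morphism of schemes locally of finite type over k. If a morphism of schemes g : T → Y
lifts through f at every point of T, i.e. for every t the composite Spec κ(t) → T → Y factors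
through f, then g itself factors through f. -/
theorem result
    {k : Type u} [Field k] {T X Y : Scheme.{u}}
    (sT : T ⟶ Spec (CommRingCat.of k)) (sX : X ⟶ Spec (CommRingCat.of k)) (sY : Y ⟶ Spec (CommRingCat.of k))
    [LocallyOfFiniteType sT] [QuasiCompact sT] [LocallyOfFiniteType sX] [LocallyOfFiniteType sY]
    (hT : HTop.IsSeminormal T)
    (f : X ⟶ Y) (hf : f ≫ sY = sX) [IsProper f] [UniversallyInjective f]
    (g : T ⟶ Y)
    (hlift : ∀ t : T, ∃ l : Spec (T.residueField t) ⟶ X, l ≫ f = T.fromSpecResidueField t ≫ g) :
    ∃ h : T ⟶ X, h ≫ f = g := by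
  choose l hl using hlift
  -- the points of the pullback given by the liftings
  let σ : ∀ t : T, Spec (T.residueField t) ⟶ pullback f g := fun t =>
    pullback.lift (l t) (T.fromSpecResidueField t) (hl t)
  have hσ : ∀ t, σ t ≫ pullback.snd f g = T.fromSpecResidueField t := fun t =>
    pullback.lift_snd _ _ _
  haveI : Surjective (pullback.snd f g) := by
    refine ⟨fun t => ⟨σ t (IsLocalRing.closedPoint _), ?_⟩⟩
    rw [← Scheme.Hom.comp_apply, hσ, Scheme.fromSpecResidueField_apply]
  haveI : UniversallyInjective (pullback.snd f g) :=
    MorphismProperty.pullback_snd (P := @UniversallyInjective) f g inferInstance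
  have hUH : FlatMor.IsUnivHomeo (pullback.snd f g) := uh_of_univClosed_univInj_surj _
  have hRFI : HTop.ResidueFieldsIso (pullback.snd f g) := by
    intro z
    have hz : σ (pullback.snd f g z) (IsLocalRing.closedPoint _) = z := by
      apply (pullback.snd f g).injective
      rw [← Scheme.Hom.comp_apply, hσ, Scheme.fromSpecResidueField_apply]
    have h := isIso_residueFieldMap_of_lift (pullback.snd f g) (pullback.snd f g z) _ (hσ _)
    rw [hz] at h
    exact h
  obtain ⟨s, hs, -⟩ := existsUnique_lift_sn hT (pullback.snd f g) ⟨hUH, hRFI⟩ (𝟙 T)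
  have hs : s ≫ pullback.snd f g = 𝟙 T := hs
  refine ⟨s ≫ pullback.fst f g, ?_⟩
  rw [Category.assoc, pullback.condition, ← Category.assoc, hs, Category.id_comp]


end Groth.Agent.S13112
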