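import Groth.Statements.S13114
import Mathlib

set_option autoImplicit false
universe u
open HilbChow

namespace Groth.Agent.S13114

/-- Let k be an algebraically closed field, A a commutative local k-algebra of finite dimension n over k
and u a unit of A. Then the determinant of multiplication by u on the k-vector space A, mapped to
the residue field of A, equals the n-th power of the residue class of u. -/
theorem result
    (k A : Type u) [Field k] [IsAlgClosed k] [CommRing A] [Algebra k A] [IsLocalRing A]
    [Module.Finite k A] (u : Aˣ) :
    algebraMap k (IsLocalRing.ResidueField A) (Algebra.norm k (u : A)) =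
      IsLocalRing.residue A (u : A) ^ Module.finrank k A := by
  classical
  let κ := IsLocalRing.ResidueField A
  haveI : Module.Finite k κ := inferInstanceAs (Module.Finite k (A ⧸ IsLocalRing.maximalIdeal A))
  haveI : Algebra.IsIntegral k κ := Algebra.IsIntegral.of_finite k κ
  have hsurj : Function.Surjective (algebraMap k κ) :=
    IsAlgClosed.algebraMap_bijective_of_isIntegral.2
  obtain ⟨c, hc⟩ := hsurj (IsLocalRing.residue A (u : A))
  haveI : IsArtinianRing A := IsArtinianRing.of_finite k A
  obtain ⟨N, hN⟩ : ∃ N, IsLocalRing.maximalIdeal A ^ N = ⊥ := by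
    have := IsArtinianRing.isNilpotent_jacobson_bot (R := A)
    rw [IsLocalRing.jacobson_eq_maximalIdeal ⊥ bot_ne_top] at this
    exact this
  set x : A := (u : A) - algebraMap k A c with hx
  have hxm : x ∈ IsLocalRing.maximalIdeal A := by
    rw [← IsLocalRing.residue_eq_zero_iff, hx, map_sub, sub_eq_zero, ← hc]
    rfl
  have hxnil : IsNilpotent x := by
    refine ⟨N, ?_⟩
    have := Ideal.pow_mem_pow hxm N
    rw [hN] at this
    exact this
  have hnil : IsNilpotent (-(Algebra.lmul k A x)) := (hxnil.map (Algebra.lmul k A)).neg
  have hu : Algebra.lmul k A (u : A) = algebraMap k (Module.End k A) c - (-(Algebra.lmul k A x)) := by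
    rw [sub_neg_eq_add, hx, map_sub, AlgHom.commutes]
    abel
  rw [Algebra.norm_apply, hu, ← LinearMap.eval_charpoly, hnil.charpoly_eq_X_pow_finrank,
    Polynomial.eval_pow, Polynomial.eval_X, map_pow, hc]

end Groth.Agent.S13114
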