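import Groth.Statements.S13120
import Groth.Agent.Lib.Helper2.Parity2Cusp

set_option autoImplicit false
universe u
open KumFam

namespace Groth.Agent.S13120

open MvPolynomial in
/-- Let R be a commutative ring of characteristic 2 and l0, l2, l4, s0, s2, s4, τ ∈ R with τ a unit.
Inside R[u, v] (u = X 0, v = X 1) let A = R[u², u³, v², v³] be the coordinate ring of the product of
two cuspidal curves, and let D be the R-derivation of R[u, v] with D(u) = v²(l0 u⁴ + τ u³ + l2 u² +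
l4) and D(v) = u²(s0 v⁴ + τ v³ + s2 v² + s4); D is u²v² times the rational vector field (l0 u² + τ u
+ l2 + l4 u⁻²) ∂_u + (s0 v² + τ v + s2 + s4 v⁻²) ∂_v, which maps A into itself, and u²v² is a
non-zero-divisor, so the kernel of that vector field on A is the set of a ∈ A with D(a) = 0. Then
for a ∈ A: D(a) = 0 if and only if a ∈ R[u², v², g], where g = (s0 v⁴ + s2 v² + s4) u³ + (l0 u⁴ + l2
u² + l4) v³ + τ u³ v³. (The published statement identifies this kernel with the ring of invariants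
of the corresponding action of the group scheme of square roots of unity; this row states the kernel
computation that is actually carried out.) -/
theorem result (R : Type u) [CommRing R] [CharP R 2]
    (l0 l2 l4 s0 s2 s4 τ : R) (hτ : IsUnit τ) (a : MvPolynomial (Fin 2) R)
    (ha : a ∈ Algebra.adjoin R
      ({X 0 ^ 2, X 0 ^ 3, X 1 ^ 2, X 1 ^ 3} : Set (MvPolynomial (Fin 2) R))) :
    MvPolynomial.mkDerivation R
        (![X 1 ^ 2 * (C l0 * X 0 ^ 4 + C τ * X 0 ^ 3 + C l2 * X 0 ^ 2 + C l4),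
          X 0 ^ 2 * (C s0 * X 1 ^ 4 + C τ * X 1 ^ 3 + C s2 * X 1 ^ 2 + C s4)] :
          Fin 2 → MvPolynomial (Fin 2) R) a = 0 ↔
      a ∈ Algebra.adjoin R
        ({X 0 ^ 2, X 1 ^ 2,
          (C s0 * X 1 ^ 4 + C s2 * X 1 ^ 2 + C s4) * X 0 ^ 3 +
            (C l0 * X 0 ^ 4 + C l2 * X 0 ^ 2 + C l4) * X 1 ^ 3 +
            C τ * X 0 ^ 3 * X 1 ^ 3} : Set (MvPolynomial (Fin 2) R)) := by
  open Groth.Agent.H2.Parity2 in
  classical
  have h2' : (2 : MvPolynomial (Fin 2) R) = 0 := CharTwo.two_eq_zero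
  set S : MvPolynomial (Fin 2) R := C s0 * X 1 ^ 2 + C s2 * X 1 + C s4 with hS
  set L : MvPolynomial (Fin 2) R := C l0 * X 0 ^ 2 + C l2 * X 0 + C l4 with hL
  set α : MvPolynomial (Fin 2) R := S * X 0 with hα
  set β : MvPolynomial (Fin 2) R := L * X 1 with hβ
  set γ : MvPolynomial (Fin 2) R := C τ * X 0 * X 1 with hγdef
  have hg : ((C s0 * X 1 ^ 4 + C s2 * X 1 ^ 2 + C s4) * X 0 ^ 3 +
            (C l0 * X 0 ^ 4 + C l2 * X 0 ^ 2 + C l4) * X 1 ^ 3 +
            C τ * X 0 ^ 3 * X 1 ^ 3 : MvPolynomial (Fin 2) R) = gEl α β γ := by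
    simp only [gEl, hα, hβ, hγdef, hS, hL, map_add, map_mul, map_pow, E_X, expand_C]
    ring
  obtain ⟨τ', hτ'⟩ := hτ.exists_left_inv
  have hCτ : (C τ' * C τ : MvPolynomial (Fin 2) R) = 1 := by rw [← C_mul, hτ', C_1]
  set D := MvPolynomial.mkDerivation R
        (![X 1 ^ 2 * (C l0 * X 0 ^ 4 + C τ * X 0 ^ 3 + C l2 * X 0 ^ 2 + C l4),
          X 0 ^ 2 * (C s0 * X 1 ^ 4 + C τ * X 1 ^ 3 + C s2 * X 1 ^ 2 + C s4)] :
          Fin 2 → MvPolynomial (Fin 2) R) with hDdef
  -- the derivation formula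
  have hD : ∀ p0 p1 p2 p3 : MvPolynomial (Fin 2) R, D (comb p0 p1 p2 p3) =
        comb (p1 * (X 1 * L) + p2 * (X 0 * S)) (p1 * γ + p3 * (X 0 * S))
          (p2 * γ + p3 * (X 1 * L)) 0 := by
    intro p0 p1 p2 p3
    rw [deriv_comb, hDdef, mkDerivation_X, mkDerivation_X]
    simp only [Matrix.cons_val_zero, Matrix.cons_val_one, comb, hS, hL, hγdef, map_add, map_mul,
      map_pow, E_X, expand_C, map_zero]
    linear_combination (E p3 * C τ * X 0 ^ 3 * X 1 ^ 3) * h2'
  rw [hg]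
  have hrange : Algebra.adjoin R ({X 0 ^ 2, X 1 ^ 2, gEl α β γ} : Set (MvPolynomial (Fin 2) R)) =
      (Φ (gEl α β γ)).range := by
    rw [Φ, ← Algebra.adjoin_range_eq_range_aeval]
    congr 1
    ext z
    simp only [Set.mem_insert_iff, Set.mem_singleton_iff, Set.mem_range]
    constructor
    · rintro (rfl | rfl | rfl)
      · exact ⟨0, rfl⟩
      · exact ⟨1, rfl⟩
      · exact ⟨2, rfl⟩
    · rintro ⟨i, rfl⟩
      fin_cases i
      · left; rfl
      · right; left; rfl
      · right; right; rfl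
  rw [hrange, mem_range_Φ]
  obtain ⟨p0, p1, p2, p3, rfl⟩ := isCusp_of_mem ha
  rw [hD]
  constructor
  · intro h
    obtain ⟨-, h1, h2c, -⟩ := comb_eq_zero h
    -- cancel the regular factors
    have hreg1 : IsRegular (X 0 ^ 2 * X 1 : MvPolynomial (Fin 2) R) :=
      (isRegular_X_pow 2).mul isRegular_X
    have hreg2 : IsRegular (X 0 * X 1 ^ 2 : MvPolynomial (Fin 2) R) :=
      isRegular_X.mul (isRegular_X_pow 2)
    have e1 : C τ * p1 + p3 * S = 0 := by
      apply hreg1.left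
      simp only [mul_zero]
      rw [← h1, hγdef]; ring
    have e2 : C τ * p2 + p3 * L = 0 := by
      apply hreg2.left
      simp only [mul_zero]
      rw [← h2c, hγdef]; ring
    have e1' : C τ * p1 = p3 * S := CharTwo.add_eq_zero.mp e1
    have e2' : C τ * p2 = p3 * L := CharTwo.add_eq_zero.mp e2
    refine ⟨p0, C τ' * p3, ?_⟩
    have hb : X 0 * p1 = C τ' * p3 * α := by
      calc X 0 * p1 = X 0 * ((C τ' * C τ) * p1) := by rw [hCτ, one_mul]
        _ = X 0 * C τ' * (C τ * p1) := by ring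
        _ = C τ' * p3 * α := by rw [e1', hα]; ring
    have hc : X 1 * p2 = C τ' * p3 * β := by
      calc X 1 * p2 = X 1 * ((C τ' * C τ) * p2) := by rw [hCτ, one_mul]
        _ = X 1 * C τ' * (C τ * p2) := by ring
        _ = C τ' * p3 * β := by rw [e2', hβ]; ring
    have hd : X 0 * X 1 * p3 = C τ' * p3 * γ := by
      rw [hγdef]
      calc X 0 * X 1 * p3 = X 0 * X 1 * p3 * (C τ' * C τ) := by rw [hCτ, mul_one]
        _ = C τ' * p3 * (C τ * X 0 * X 1) := by ring
    rw [← hb, ← hc, ← hd]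
  · rintro ⟨P0, P1, h⟩
    obtain ⟨-, hb, hc, hd⟩ := comb_inj h
    rw [hb, hc, hd, hα, hβ]
    have e1 : P1 * (S * X 0) * (X 1 * L) + P1 * (L * X 1) * (X 0 * S) = 0 := by
      linear_combination (P1 * S * X 0 * X 1 * L) * h2'
    have e2 : P1 * (S * X 0) * γ + P1 * γ * (X 0 * S) = 0 := by
      linear_combination (P1 * S * X 0 * γ) * h2'
    have e3 : P1 * (L * X 1) * γ + P1 * γ * (X 1 * L) = 0 := by
      linear_combination (P1 * L * X 1 * γ) * h2'
    rw [e1, e2, e3]
    exact comb_zero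

end Groth.Agent.S13120
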