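import Groth.Statements.S13121
import Groth.Agent.Lib.Helper2.Parity2Ker

set_option autoImplicit false
universe u
open KumFam

namespace Groth.Agent.S13121

open MvPolynomial in
/-- Let R be a commutative ring of characteristic 2 and l0, l2, l4, s0, s2, s4, τ ∈ R with τ a unit. In
R[u, v] (u = X 0, v = X 1) put g = (s0 v⁴ + s2 v² + s4) u³ + (l0 u⁴ + l2 u² + l4) v³ + τ u³ v³. Then
the kernel of the R-algebra homomorphism R[a, b, c] → R[u, v] (a = X 0, b = X 1, c = X 2) with a ↦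
u², b ↦ v², c ↦ g is the ideal generated by c² + s0² a³ b⁴ + s2² a³ b² + s4² a³ + l0² a⁴ b³ + l2² a²
b³ + l4² b³ + τ² a³ b³; its image is the subalgebra R[u², v², g], which is therefore presented by
this one equation. -/
theorem result (R : Type u) [CommRing R] [CharP R 2]
    (l0 l2 l4 s0 s2 s4 τ : R) (hτ : IsUnit τ) :
    RingHom.ker (MvPolynomial.aeval (R := R) (S₁ := MvPolynomial (Fin 2) R)
        ![X 0 ^ 2, X 1 ^ 2,
          (C s0 * X 1 ^ 4 + C s2 * X 1 ^ 2 + C s4) * X 0 ^ 3 +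
            (C l0 * X 0 ^ 4 + C l2 * X 0 ^ 2 + C l4) * X 1 ^ 3 +
            C τ * X 0 ^ 3 * X 1 ^ 3]) =
      Ideal.span {(X 2 ^ 2 + C (s0 ^ 2) * X 0 ^ 3 * X 1 ^ 4 + C (s2 ^ 2) * X 0 ^ 3 * X 1 ^ 2 +
        C (s4 ^ 2) * X 0 ^ 3 + C (l0 ^ 2) * X 0 ^ 4 * X 1 ^ 3 + C (l2 ^ 2) * X 0 ^ 2 * X 1 ^ 3 +
        C (l4 ^ 2) * X 1 ^ 3 + C (τ ^ 2) * X 0 ^ 3 * X 1 ^ 3 : MvPolynomial (Fin 3) R)} := by
  open Groth.Agent.H2.Parity2 in
  classical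
  have h2 : (2 : MvPolynomial (Fin 3) R) = 0 := CharTwo.two_eq_zero
  set α : MvPolynomial (Fin 2) R := (C s0 * X 1 ^ 2 + C s2 * X 1 + C s4) * X 0 with hα
  set β : MvPolynomial (Fin 2) R := (C l0 * X 0 ^ 2 + C l2 * X 0 + C l4) * X 1 with hβ
  set γ : MvPolynomial (Fin 2) R := C τ * X 0 * X 1 with hγdef
  have hg : ((C s0 * X 1 ^ 4 + C s2 * X 1 ^ 2 + C s4) * X 0 ^ 3 +
            (C l0 * X 0 ^ 4 + C l2 * X 0 ^ 2 + C l4) * X 1 ^ 3 +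
            C τ * X 0 ^ 3 * X 1 ^ 3 : MvPolynomial (Fin 2) R) = gEl α β γ := by
    simp only [gEl, hα, hβ, hγdef, map_add, map_mul, map_pow, E_X, expand_C]
    ring
  have hι1 : (rename Fin.castSucc (X 1 : MvPolynomial (Fin 2) R) : MvPolynomial (Fin 3) R) = X 1 := by
    simp only [rename_X]; rfl
  have hι0 : (rename Fin.castSucc (X 0 : MvPolynomial (Fin 2) R) : MvPolynomial (Fin 3) R) = X 0 := by
    simp only [rename_X]; rfl
  have hF : (X 2 ^ 2 + C (s0 ^ 2) * X 0 ^ 3 * X 1 ^ 4 + C (s2 ^ 2) * X 0 ^ 3 * X 1 ^ 2 +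
        C (s4 ^ 2) * X 0 ^ 3 + C (l0 ^ 2) * X 0 ^ 4 * X 1 ^ 3 + C (l2 ^ 2) * X 0 ^ 2 * X 1 ^ 3 +
        C (l4 ^ 2) * X 1 ^ 3 + C (τ ^ 2) * X 0 ^ 3 * X 1 ^ 3 : MvPolynomial (Fin 3) R) =
      FEl α β γ := by
    simp only [FEl, GEl, hα, hβ, hγdef, map_add, map_mul, map_pow, hι0, hι1, rename_C, C_pow]
    linear_combination (-(C s0 * C s2 * X 1 ^ 3 + C s0 * C s4 * X 1 ^ 2 + C s2 * C s4 * X 1) * X 0 ^ 3
      - (C l0 * C l2 * X 0 ^ 3 + C l0 * C l4 * X 0 ^ 2 + C l2 * C l4 * X 0) * X 1 ^ 3) * h2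
  have hreg : ∀ P : MvPolynomial (Fin 2) R, P * γ = 0 → P = 0 := by
    intro P hP
    have hr : IsRegular γ :=
      ((hτ.map (C : R →+* MvPolynomial (Fin 2) R)).isRegular.mul isRegular_X).mul isRegular_X
    exact hr.right (by simp only [hP, zero_mul])
  rw [hg, hF]
  exact ker_Φ α β γ hreg

end Groth.Agent.S13121
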