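import Groth.Statements.S13122
import Groth.Agent.Lib.Helper2.Parity2Ker

set_option autoImplicit false
universe u
open KumFam

namespace Groth.Agent.S13122

open MvPolynomial in
/-- Let R be a commutative ring of characteristic 2 and l0, l2, l4, s0, s2, s4, τ ∈ R with τ a unit. On
R[x, y] (x = X 0, y = X 1; the coordinates u⁻¹, v⁻¹ of the smooth chart of the product of two
cuspidal curves) let D be the R-derivation with D(x) = l4 x⁴ + l2 x² + τ x + l0 and D(y) = s4 y⁴ +
s2 y² + τ y + s0, and put h = (s4 y⁴ + s2 y² + s0) x + (l4 x⁴ + l2 x² + l0) y + τ x y. Then: (1) for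
p ∈ R[x, y], D(p) = 0 if and only if p lies in the image of the R-algebra homomorphism R[a, b, c] →
R[x, y] (a = X 0, b = X 1, c = X 2) with a ↦ x², b ↦ y², c ↦ h; (2) the kernel of that homomorphism
is the ideal generated by c² + τ² a b + (s4² b⁴ + s2² b² + s0²) a + (l4² a⁴ + l2² a² + l0²) b. (The
published statement asserts that the ring of invariants of the action of the group scheme of square
roots of unity given by this vector field is R[a, b, c] modulo this equation, by the same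
computation as on the other chart; this row pins the generator h and states the kernel computation.) -/
theorem result (R : Type u) [CommRing R]
    [CharP R 2] (l0 l2 l4 s0 s2 s4 τ : R) (hτ : IsUnit τ) :
    (∀ p : MvPolynomial (Fin 2) R,
      MvPolynomial.mkDerivation R
          (![C l4 * X 0 ^ 4 + C l2 * X 0 ^ 2 + C τ * X 0 + C l0,
            C s4 * X 1 ^ 4 + C s2 * X 1 ^ 2 + C τ * X 1 + C s0] :
            Fin 2 → MvPolynomial (Fin 2) R) p = 0 ↔
        p ∈ (MvPolynomial.aeval (R := R) (S₁ := MvPolynomial (Fin 2) R)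
          ![X 0 ^ 2, X 1 ^ 2,
            (C s4 * X 1 ^ 4 + C s2 * X 1 ^ 2 + C s0) * X 0 +
              (C l4 * X 0 ^ 4 + C l2 * X 0 ^ 2 + C l0) * X 1 + C τ * X 0 * X 1]).range) ∧
    RingHom.ker (MvPolynomial.aeval (R := R) (S₁ := MvPolynomial (Fin 2) R)
        ![X 0 ^ 2, X 1 ^ 2,
          (C s4 * X 1 ^ 4 + C s2 * X 1 ^ 2 + C s0) * X 0 +
            (C l4 * X 0 ^ 4 + C l2 * X 0 ^ 2 + C l0) * X 1 + C τ * X 0 * X 1]) =
      Ideal.span {(X 2 ^ 2 + C (τ ^ 2) * X 0 * X 1 +
        (C (s4 ^ 2) * X 1 ^ 4 + C (s2 ^ 2) * X 1 ^ 2 + C (s0 ^ 2)) * X 0 +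
        (C (l4 ^ 2) * X 0 ^ 4 + C (l2 ^ 2) * X 0 ^ 2 + C (l0 ^ 2)) * X 1 : MvPolynomial (Fin 3) R)} := by
  open Groth.Agent.H2.Parity2 in
  classical
  have h2 : (2 : MvPolynomial (Fin 3) R) = 0 := CharTwo.two_eq_zero
  have h2' : (2 : MvPolynomial (Fin 2) R) = 0 := CharTwo.two_eq_zero
  set α : MvPolynomial (Fin 2) R := C s4 * X 1 ^ 2 + C s2 * X 1 + C s0 with hα
  set β : MvPolynomial (Fin 2) R := C l4 * X 0 ^ 2 + C l2 * X 0 + C l0 with hβ
  set γ : MvPolynomial (Fin 2) R := C τ with hγdef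
  have hg : ((C s4 * X 1 ^ 4 + C s2 * X 1 ^ 2 + C s0) * X 0 +
              (C l4 * X 0 ^ 4 + C l2 * X 0 ^ 2 + C l0) * X 1 + C τ * X 0 * X 1 :
              MvPolynomial (Fin 2) R) = gEl α β γ := by
    simp only [gEl, hα, hβ, hγdef, map_add, map_mul, map_pow, E_X, expand_C]
    ring
  have hι1 : (rename Fin.castSucc (X 1 : MvPolynomial (Fin 2) R) : MvPolynomial (Fin 3) R) = X 1 := by
    simp only [rename_X]; rfl
  have hι0 : (rename Fin.castSucc (X 0 : MvPolynomial (Fin 2) R) : MvPolynomial (Fin 3) R) = X 0 := by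
    simp only [rename_X]; rfl
  have hF : (X 2 ^ 2 + C (τ ^ 2) * X 0 * X 1 +
        (C (s4 ^ 2) * X 1 ^ 4 + C (s2 ^ 2) * X 1 ^ 2 + C (s0 ^ 2)) * X 0 +
        (C (l4 ^ 2) * X 0 ^ 4 + C (l2 ^ 2) * X 0 ^ 2 + C (l0 ^ 2)) * X 1 : MvPolynomial (Fin 3) R) =
      FEl α β γ := by
    simp only [FEl, GEl, hα, hβ, hγdef, map_add, map_mul, map_pow, hι0, hι1, rename_C]
    linear_combination (-(C s4 * C s2 * X 1 ^ 3 + C s4 * C s0 * X 1 ^ 2 + C s2 * C s0 * X 1) * X 0
      - (C l4 * C l2 * X 0 ^ 3 + C l4 * C l0 * X 0 ^ 2 + C l2 * C l0 * X 0) * X 1) * h2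
  have hreg : ∀ P : MvPolynomial (Fin 2) R, P * γ = 0 → P = 0 := by
    intro P hP
    have hr : IsRegular γ := (hτ.map (C : R →+* MvPolynomial (Fin 2) R)).isRegular
    exact hr.right (by simp only [hP, zero_mul])
  rw [hg, hF]
  refine ⟨?_, ker_Φ α β γ hreg⟩
  intro p
  change _ ↔ p ∈ (Φ (gEl α β γ)).range
  rw [mem_range_Φ]
  obtain ⟨a, b, c, d, rfl⟩ := comb_surj p
  obtain ⟨τ', hτ'⟩ := hτ.exists_left_inv
  have hCτ : (C τ' * C τ : MvPolynomial (Fin 2) R) = 1 := by rw [← C_mul, hτ', C_1]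
  -- the derivation formula
  have hD : MvPolynomial.mkDerivation R
          (![C l4 * X 0 ^ 4 + C l2 * X 0 ^ 2 + C τ * X 0 + C l0,
            C s4 * X 1 ^ 4 + C s2 * X 1 ^ 2 + C τ * X 1 + C s0] :
            Fin 2 → MvPolynomial (Fin 2) R) (comb a b c d) =
        comb (b * β + c * α) (C τ * b + d * α) (C τ * c + d * β) 0 := by
    rw [deriv_comb, mkDerivation_X, mkDerivation_X]
    simp only [Matrix.cons_val_zero, Matrix.cons_val_one, comb, hα, hβ, map_add, map_mul, map_pow,
      E_X, expand_C, map_zero]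
    linear_combination (E d * C τ * X 0 * X 1) * h2'
  rw [hD]
  constructor
  · intro h
    obtain ⟨h0, h1, h2c, -⟩ := comb_eq_zero h
    refine ⟨a, C τ' * d, ?_⟩
    have hb : b = C τ' * d * α := by
      have : C τ * b = d * α := by
        have := CharTwo.add_eq_zero.mp h1
        exact this
      calc b = (C τ' * C τ) * b := by rw [hCτ, one_mul]
        _ = C τ' * (C τ * b) := by ring
        _ = C τ' * d * α := by rw [this]; ring
    have hc : c = C τ' * d * β := by
      have : C τ * c = d * β := CharTwo.add_eq_zero.mp h2c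
      calc c = (C τ' * C τ) * c := by rw [hCτ, one_mul]
        _ = C τ' * (C τ * c) := by ring
        _ = C τ' * d * β := by rw [this]; ring
    have hd : d = C τ' * d * γ := by
      rw [hγdef]
      calc d = d * (C τ' * C τ) := by rw [hCτ, mul_one]
        _ = C τ' * d * C τ := by ring
    rw [← hb, ← hc, ← hd]
  · rintro ⟨P0, P1, h⟩
    obtain ⟨-, hb, hc, hd⟩ := comb_inj h
    rw [hb, hc, hd, hγdef]
    have e1 : P1 * α * β + P1 * β * α = 0 := by
      linear_combination (P1 * α * β) * h2'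
    have e2 : C τ * (P1 * α) + P1 * C τ * α = 0 := by
      linear_combination (P1 * α * C τ) * h2'
    have e3 : C τ * (P1 * β) + P1 * C τ * β = 0 := by
      linear_combination (P1 * β * C τ) * h2'
    rw [e1, e2, e3]
    exact comb_zero

end Groth.Agent.S13122
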