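import Groth.Statements.S13123
import Mathlib

set_option autoImplicit false
universe u
open KumFam

namespace Groth.Agent.S13123

open Polynomial in
/-- Let R be a commutative ring of characteristic 2 and p q r m ρ s t ∈ R with m³ + p m + q = 0, (m² +
p)²(ρ² + ρ) = r, m²(s² + s) = (m² + p) ρ and m²(t² + t) = (m² + p)(ρ + 1). Then X⁴ + p X² + q X + r
= (X − m s)(X − m (s + 1))(X − m t)(X − m (t + 1)) in R[X]. (The published statement assumes q is a
unit, which makes m and m² + p units, writes ρ, s, t as roots of Artin–Schreier equations X² + X + γ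
with γ the corresponding quotients, and gives m through cube roots of Lagrange resolvents; here the
defining equations of ρ, s, t are written with denominators cleared and m is any root of the
resolvent cubic, so no unit hypothesis is needed.) -/
theorem result (R : Type u) [CommRing R] [CharP R 2]
    (p q r m ρ s t : R) (hm : m ^ 3 + p * m + q = 0) (hρ : (m ^ 2 + p) ^ 2 * (ρ ^ 2 + ρ) = r)
    (hs : m ^ 2 * (s ^ 2 + s) = (m ^ 2 + p) * ρ) (ht : m ^ 2 * (t ^ 2 + t) = (m ^ 2 + p) * (ρ + 1)) :
    (X ^ 4 + C p * X ^ 2 + C q * X + C r : R[X]) =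
      (X - C (m * s)) * (X - C (m * (s + 1))) * (X - C (m * t)) * (X - C (m * (t + 1))) := by
  have H2 : (2 : R[X]) = 0 := by
    have h : (2 : R) = 0 := CharTwo.two_eq_zero
    have h3 : (C (2 : R) : R[X]) = 0 := by rw [h, map_zero]
    rw [← h3]
    exact (map_ofNat (C : R →+* R[X]) 2).symm
  have Hm : (C m : R[X]) ^ 3 + C p * C m + C q = 0 := by
    rw [← map_pow, ← map_mul, ← map_add, ← map_add, hm, map_zero]
  have Hρ : ((C m : R[X]) ^ 2 + C p) ^ 2 * (C ρ ^ 2 + C ρ) = C r := by
    rw [← hρ]; simp only [map_mul, map_add, map_pow]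
  have Hs : (C m : R[X]) ^ 2 * (C s ^ 2 + C s) = (C m ^ 2 + C p) * C ρ := by
    have := congrArg (C : R → R[X]) hs
    simpa only [map_mul, map_add, map_pow] using this
  have Ht : (C m : R[X]) ^ 2 * (C t ^ 2 + C t) = (C m ^ 2 + C p) * (C ρ + 1) := by
    have := congrArg (C : R → R[X]) ht
    simpa only [map_mul, map_add, map_pow, map_one] using this
  have e1 : (X - C (m * s)) * (X - C (m * (s + 1))) =
      (X : R[X]) ^ 2 + C m * X + (C m ^ 2 + C p) * C ρ := by
    simp only [map_mul, map_add, map_one]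
    linear_combination (-(C m * X + C m * C s * X)) * H2 + Hs
  have e2 : (X - C (m * t)) * (X - C (m * (t + 1))) =
      (X : R[X]) ^ 2 + C m * X + (C m ^ 2 + C p) * (C ρ + 1) := by
    simp only [map_mul, map_add, map_one]
    linear_combination (-(C m * X + C m * C t * X)) * H2 + Ht
  rw [mul_assoc ((X - C (m * s)) * (X - C (m * (s + 1)))), e1, e2]
  linear_combination (-(C m) * X ^ 3 - (C m) ^ 2 * X ^ 2 -
    (C m ^ 2 + C p) * C ρ * (X ^ 2 + C m * X) + C q * X) * H2 - X * Hm - Hρ

end Groth.Agent.S13123
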