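import Groth.Statements.S13124
import Mathlib

set_option autoImplicit false
universe u v w
open KumFam

namespace Groth.Agent.S13124

/-- Let k be a commutative ring, A a commutative k-bialgebra that is flat over k, and R a commutative
k-algebra which is an integrally closed domain, with a coaction R → R ⊗ A that is an algebra
homomorphism. Then the ring of invariants (the elements f with coaction f ⊗ 1) is an integrally
closed domain. (The published statement is for a finite group scheme acting on a normal scheme whose
quotient is, locally, the spectrum of the ring of invariants; this row is the affine integral case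
and allows any commutative bialgebra flat over k, flatness being automatic over a field.) -/
theorem result (k : Type u) [CommRing k]
    (A : Type v) [CommRing A] [Bialgebra k A] [Module.Flat k A]
    (R : Type w) [CommRing R] [Algebra k R] [IsDomain R] [IsIntegrallyClosed R]
    [HopfRep.Comod k A R] [GLin.IsCoactAlg k A R] :
    IsIntegrallyClosed (GLin.invariants k A R) := by
  set C := GLin.invariants k A R with hC
  rw [isIntegrallyClosed_iff (FractionRing C)]
  intro x hx
  -- the map Frac C → Frac R
  let L := FractionRing R
  let ι : C →+* R := C.val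
  have hι : ∀ c : C, ι c = (c : R) := fun c => rfl
  let g : C →+* L := (algebraMap R L).comp ι
  have hg : Function.Injective g := by
    intro a b hab
    apply Subtype.ext
    exact IsFractionRing.injective R L hab
  let φ : FractionRing C →+* L := IsFractionRing.lift hg
  have hφ : ∀ c : C, φ (algebraMap C (FractionRing C) c) = algebraMap R L (c : R) := by
    intro c
    exact IsFractionRing.lift_algebraMap hg c
  -- φ x is integral over R
  have hx' : IsIntegral R (φ x) := by
    obtain ⟨p, hp, hpx⟩ := hx
    refine ⟨p.map ι, hp.map _, ?_⟩
    have h1 := congrArg φ hpx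
    rw [map_zero, Polynomial.hom_eval₂] at h1
    rw [Polynomial.eval₂_map]
    have h2 : φ.comp (algebraMap C (FractionRing C)) = (algebraMap R L).comp ι := by
      ext c
      exact hφ c
    rw [← h2]
    exact h1
  obtain ⟨y, hy⟩ := (isIntegrallyClosed_iff L).mp inferInstance hx'
  obtain ⟨⟨a, b⟩, hab⟩ := IsLocalization.surj (nonZeroDivisors C) x
  simp only at hab
  have hb0 : (b : C) ≠ 0 := nonZeroDivisors.ne_zero b.2
  have hbR : ((b : C) : R) ≠ 0 := fun h => hb0 (Subtype.ext h)
  have h1 : y * ((b : C) : R) = (a : R) := by
    apply IsFractionRing.injective R L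
    rw [map_mul, hy, ← hφ, ← hφ, ← map_mul, hab]
  -- y is invariant
  have hyC : y ∈ C := by
    rw [hC, GLin.mem_invariants_iff]
    have ha : HopfRep.Comod.coact (k := k) (A := A) (a : R) = (a : R) ⊗ₜ[k] (1 : A) := a.2
    have hb : HopfRep.Comod.coact (k := k) (A := A) ((b : C) : R) = ((b : C) : R) ⊗ₜ[k] (1 : A) :=
      (b : C).2
    have h2 : HopfRep.Comod.coact (k := k) (A := A) y * (((b : C) : R) ⊗ₜ[k] (1 : A)) =
        (y ⊗ₜ[k] (1 : A)) * (((b : C) : R) ⊗ₜ[k] (1 : A)) := by
      rw [← hb, ← GLin.IsCoactAlg.coact_mul, h1, ha, hb, Algebra.TensorProduct.tmul_mul_tmul,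
        h1, mul_one]
    have hinj : Function.Injective ((LinearMap.mulRight k ((b : C) : R)).rTensor A) := by
      apply Module.Flat.rTensor_preserves_injective_linearMap
      intro u v huv
      simp only [LinearMap.mulRight_apply] at huv
      exact mul_right_cancel₀ hbR huv
    have hmul : ∀ z : TensorProduct k R A, z * (((b : C) : R) ⊗ₜ[k] (1 : A)) =
        (LinearMap.mulRight k ((b : C) : R)).rTensor A z := by
      intro z
      induction z using TensorProduct.induction_on with
      | zero => simp
      | tmul u c => simp
      | add z w hz hw => rw [add_mul, map_add, hz, hw]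
    apply hinj
    rw [← hmul, ← hmul, h2]
  refine ⟨⟨y, hyC⟩, ?_⟩
  have hbK : algebraMap C (FractionRing C) (b : C) ≠ 0 := by
    intro h
    exact hb0 ((IsFractionRing.injective C (FractionRing C)) (h.trans (map_zero _).symm))
  apply mul_right_cancel₀ hbK
  rw [hab, ← map_mul]
  congr 1
  exact Subtype.ext h1

end Groth.Agent.S13124
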