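import Groth.Statements.S13125
-- import your own Groth.Agent.* helpers here

set_option autoImplicit false
universe u v
open KumFam

namespace Groth.Agent.S13125

/-- Let A be a commutative ring graded by an additive monoid ι (an abelian group in the published
statement) through additive subgroups 𝒜 i, and I an ideal of A. Then I is a homogeneous ideal if and
only if A/I carries a structure of ι-graded ring ℬ for which the quotient map sends 𝒜 i into ℬ i for
all i. -/
theorem result (ι : Type u) [DecidableEq ι] [AddMonoid ι]
    (A : Type v) [CommRing A] (𝒜 : ι → AddSubgroup A) [GradedRing 𝒜] (I : Ideal A) :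
    I.IsHomogeneous 𝒜 ↔
      ∃ ℬ : ι → AddSubgroup (A ⧸ I), Nonempty (GradedRing ℬ) ∧
        ∀ i : ι, (𝒜 i).map (Ideal.Quotient.mk I : A →+ A ⧸ I) ≤ ℬ i := by
  classical
  constructor
  · intro hI
    let mk' : A →+ A ⧸ I := (Ideal.Quotient.mk I : A →+ A ⧸ I)
    let ℬ : ι → AddSubgroup (A ⧸ I) := fun i => (𝒜 i).map mk'
    refine ⟨ℬ, ⟨?_⟩, fun i => le_rfl⟩
    let f : ∀ i, 𝒜 i →+ ℬ i := fun i =>
      (mk'.comp (𝒜 i).subtype).codRestrict (ℬ i) (fun x => ⟨x, x.2, rfl⟩)
    let g : A →+ DirectSum ι (fun i => ℬ i) :=
      (DirectSum.map f).comp (DirectSum.decomposeAddEquiv 𝒜).toAddMonoidHom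
    have hg : ∀ a ∈ I.toAddSubgroup, g a = 0 := by
      intro a ha
      refine DFinsupp.ext fun i => ?_
      change DirectSum.map f (DirectSum.decompose 𝒜 a) i = 0
      rw [DirectSum.map_apply]
      apply Subtype.ext
      change Ideal.Quotient.mk I ((DirectSum.decompose 𝒜 a) i : A) = 0
      rw [Ideal.Quotient.eq_zero_iff_mem]
      exact hI i ha
    let d : A ⧸ I →+ DirectSum ι (fun i => ℬ i) := QuotientAddGroup.lift I.toAddSubgroup g hg
    have hd : ∀ a : A, d (Ideal.Quotient.mk I a) = g a := fun a => rfl
    have hgof : ∀ (i : ι) (a : 𝒜 i), g (a : A) = DirectSum.of (fun i => ℬ i) i (f i a) := by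
      intro i a
      change DirectSum.map f (DirectSum.decompose 𝒜 (a : A)) = _
      rw [DirectSum.decompose_coe, DirectSum.map_of]
    exact
      { one_mem := ⟨1, SetLike.GradedOne.one_mem, map_one (Ideal.Quotient.mk I)⟩
        mul_mem := by
          rintro i j _ _ ⟨a, ha, rfl⟩ ⟨b, hb, rfl⟩
          exact ⟨a * b, SetLike.GradedMul.mul_mem ha hb, map_mul (Ideal.Quotient.mk I) a b⟩
        toDecomposition := DirectSum.Decomposition.ofAddHom ℬ d
          (by
            ext x
            obtain ⟨a, rfl⟩ := Ideal.Quotient.mk_surjective x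
            simp only [AddMonoidHom.coe_comp, Function.comp_apply, AddMonoidHom.id_apply]
            rw [hd]
            induction a using DirectSum.Decomposition.inductionOn 𝒜 with
            | zero => simp
            | homogeneous m =>
              rw [hgof, DirectSum.coeAddMonoidHom_of]
              rfl
            | add m m' hm hm' =>
              rw [map_add, map_add, hm, hm', map_add])
          (by
            refine DirectSum.addHom_ext fun i y => ?_
            obtain ⟨_, a, ha, rfl⟩ := y
            simp only [AddMonoidHom.coe_comp, Function.comp_apply, AddMonoidHom.id_apply]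
            rw [DirectSum.coeAddMonoidHom_of]
            change d (Ideal.Quotient.mk I a) = _
            rw [hd]
            exact hgof i ⟨a, ha⟩) }
  · rintro ⟨ℬ, ⟨hℬ⟩, hle⟩
    have key : ∀ (a : A) (i : ι),
        ((DirectSum.decompose ℬ (Ideal.Quotient.mk I a)) i : A ⧸ I) =
          Ideal.Quotient.mk I ((DirectSum.decompose 𝒜 a) i : A) := by
      intro a i
      induction a using DirectSum.Decomposition.inductionOn 𝒜 with
      | zero => simp
      | @homogeneous j m =>
        have hm : Ideal.Quotient.mk I (m : A) ∈ ℬ j := hle j ⟨m, m.2, rfl⟩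
        rw [DirectSum.decompose_of_mem ℬ hm, DirectSum.decompose_coe, DirectSum.coe_of_apply,
          DirectSum.coe_of_apply]
        split_ifs <;> simp
      | add m m' hm hm' =>
        rw [map_add, DirectSum.decompose_add, DirectSum.decompose_add, DirectSum.add_apply,
          DirectSum.add_apply, AddSubgroup.coe_add, AddSubgroup.coe_add, map_add, hm, hm']
    intro i x hx
    rw [← Ideal.Quotient.eq_zero_iff_mem, ← key]
    rw [Ideal.Quotient.eq_zero_iff_mem.mpr hx]
    simp

end Groth.Agent.S13125
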