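import Groth.Statements.S13126
import Mathlib

set_option autoImplicit false
universe u
open KumFam

namespace Groth.Agent.S13126

open Polynomial in
/-- Let R be a commutative ring, n a natural number which is a unit in R, and ζ ∈ R with ζ^n = 1 and 1 −
ζ^i a unit for 0 < i < n (a primitive n-th root of unity in the fibrewise sense: the powers ζ^0, …,
ζ^(n−1) are roots of X^n − 1 with pairwise unit differences; over an integral domain in which n is a
unit this is the same as ζ having multiplicative order n). Then the R-algebra homomorphism R[X] →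
(Fin n → R) sending a polynomial to its values at ζ^0, …, ζ^(n−1) is surjective and its kernel is
the ideal generated by X^n − 1; hence R[X]/(X^n − 1) ≅ R^n as R-algebras, i.e. the scheme of n-th
roots of unity over Spec R is the disjoint union of n copies of Spec R. (The published statement
asks that R contain a primitive n-th root of unity without defining the term; its Chinese-remainder
argument uses that the ideals (X − ζ^i), i < n, are pairwise comaximal, which is the unit-difference
condition taken as the hypothesis here, whereas under the reading 'ζ has multiplicative order n'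
alone the surjectivity fails over a product of two fields. The published statement also asserts that
the isomorphism respects the group-scheme structures of the n-th roots of unity and of the constant
group ℤ/n; this row does not state that.) -/
theorem result (R : Type u) [CommRing R]
    (n : ℕ) (hn : IsUnit (n : R)) (ζ : R) (hζ : ζ ^ n = 1)
    (hprim : ∀ i : ℕ, 0 < i → i < n → IsUnit (1 - ζ ^ i)) :
    Function.Surjective (AlgHom.pi (fun i : Fin n => Polynomial.aeval (R := R) (ζ ^ (i : ℕ)))) ∧
      RingHom.ker (AlgHom.pi (fun i : Fin n => Polynomial.aeval (R := R) (ζ ^ (i : ℕ)))) =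
        Ideal.span {(X ^ n - 1 : R[X])} := by
  classical
  rcases Nat.eq_zero_or_pos n with rfl | hnpos
  · -- R is trivial
    haveI : Subsingleton R := by
      rw [Nat.cast_zero] at hn
      exact subsingleton_of_zero_eq_one (isUnit_zero_iff.1 hn)
    haveI : Subsingleton R[X] := inferInstance
    exact ⟨fun y => ⟨0, Subsingleton.elim _ _⟩, Subsingleton.elim _ _⟩
  rcases subsingleton_or_nontrivial R with hsub | hnt
  · haveI : Subsingleton R[X] := inferInstance
    exact ⟨fun y => ⟨0, Subsingleton.elim _ _⟩, Subsingleton.elim _ _⟩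
  -- ζ is a unit
  have hζu : IsUnit ζ := by
    refine IsUnit.of_mul_eq_one (ζ ^ (n - 1)) ?_
    rw [← pow_succ', Nat.sub_add_cancel hnpos, hζ]
  have hdiff : ∀ i j : Fin n, i ≠ j → IsUnit (ζ ^ (i : ℕ) - ζ ^ (j : ℕ)) := by
    have key : ∀ i j : Fin n, (j : ℕ) < i → IsUnit (ζ ^ (i : ℕ) - ζ ^ (j : ℕ)) := by
      intro i j hji
      have h1 : ζ ^ (i : ℕ) - ζ ^ (j : ℕ) = -(ζ ^ (j : ℕ) * (1 - ζ ^ ((i : ℕ) - j))) := by
        rw [mul_sub, mul_one, ← pow_add, Nat.add_sub_cancel' hji.le]; ring
      rw [h1]
      exact ((hζu.pow _).mul (hprim _ (Nat.sub_pos_of_lt hji) (by omega))).neg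
    intro i j hij
    rcases lt_or_gt_of_ne (fun h => hij (Fin.ext h) : (i : ℕ) ≠ j) with h | h
    · have := (key j i h).neg
      rwa [neg_sub] at this
    · exact key i j h
  let I : Fin n → Ideal R[X] := fun i => Ideal.span {X - C (ζ ^ (i : ℕ))}
  have hcop : ∀ i j : Fin n, i ≠ j → IsCoprime (X - C (ζ ^ (i : ℕ))) (X - C (ζ ^ (j : ℕ))) :=
    fun i j hij => isCoprime_X_sub_C_of_isUnit_sub (hdiff i j hij)
  have hI : Pairwise (Function.onFun IsCoprime I) := by
    intro i j hij
    exact (Ideal.isCoprime_span_singleton_iff _ _).2 (hcop i j hij)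
  have hmemI : ∀ (i : Fin n) (p : R[X]), p ∈ I i ↔ aeval (ζ ^ (i : ℕ)) p = 0 := by
    intro i p
    rw [Ideal.mem_span_singleton, dvd_iff_isRoot, IsRoot, coe_aeval_eq_eval]
  have hker : RingHom.ker (AlgHom.pi (fun i : Fin n => Polynomial.aeval (R := R) (ζ ^ (i : ℕ)))) =
      ⨅ i, I i := by
    ext p
    rw [RingHom.mem_ker, Ideal.mem_iInf]
    constructor
    · intro h i
      rw [hmemI]
      exact congrFun h i
    · intro h
      ext i
      exact (hmemI i p).1 (h i)
  constructor
  · intro c
    obtain ⟨p, hp⟩ := Ideal.exists_forall_sub_mem_ideal hI (fun i => C (c i))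
    refine ⟨p, ?_⟩
    ext i
    have := (hmemI i _).1 (hp i)
    rw [map_sub, aeval_C, sub_eq_zero] at this
    exact this
  · rw [hker, Ideal.iInf_span_singleton hcop]
    congr 1
    -- ∏ (X - C ζ^i) = X^n - 1
    have hmon : (∏ i : Fin n, (X - C (ζ ^ (i : ℕ)))).Monic := monic_prod_of_monic _ _ (fun i _ => monic_X_sub_C _)
    have hmon2 : (X ^ n - 1 : R[X]).Monic := by
      have := monic_X_pow_sub_C (1 : R) hnpos.ne'
      simpa using this
    have hdvd : (∏ i : Fin n, (X - C (ζ ^ (i : ℕ)))) ∣ X ^ n - 1 := by
      rw [← Ideal.mem_span_singleton, ← Ideal.iInf_span_singleton hcop, Ideal.mem_iInf]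
      intro i
      rw [(hmemI i _)]
      simp only [map_sub, map_pow, aeval_X, map_one]
      rw [← pow_mul, mul_comm, pow_mul, hζ, one_pow, sub_self]
    have hdeg : (X ^ n - 1 : R[X]).natDegree ≤ (∏ i : Fin n, (X - C (ζ ^ (i : ℕ)))).natDegree := by
      rw [natDegree_prod_of_monic _ _ (fun i _ => monic_X_sub_C _)]
      have : (X ^ n - 1 : R[X]) = X ^ n - C 1 := by simp
      rw [this, natDegree_X_pow_sub_C]
      simp only [natDegree_X_sub_C, Finset.sum_const, Finset.card_univ, Fintype.card_fin,
        smul_eq_mul, mul_one, le_refl]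
    rw [eq_of_monic_of_dvd_of_natDegree_le hmon hmon2 hdvd hdeg]

end Groth.Agent.S13126
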