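import Groth.Statements.S13127
import Groth.Agent.Lib.Helper2.CubeRoot

set_option autoImplicit false
universe u
open KumFam

namespace Groth.Agent.S13127

open MvPowerSeries in
/-- Let R be a commutative ring of characteristic 2 and l0, l2, l4, s0, s2, s4, τ, lam, sig ∈ R with l4,
s4, lam, sig units, and let κ₁, κ₂ ∈ R satisfy s4² κ₁³ = sig² and l4² κ₂³ = lam² (cube roots of
sig²/s4² and lam²/l4²). In the power series ring R[[a, b, c]] (a = X 0, b = X 1, c = X 2) put F = c²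
+ s0² a³ b⁴ + s2² a³ b² + s4² a³ + l0² a⁴ b³ + l2² a² b³ + l4² b³ + τ² a³ b³ and F₀ = c² + sig² a³ +
lam² b³. Then some R-algebra automorphism of R[[a, b, c]] maps F to F₀; consequently R[[a, b,
c]]/(F) ≅ R[[a, b, c]]/(F₀). (In the published statement lam, sig are the representatives in the
ground field of the residues of l4, s4 at a rational point, so that F₀ is the equation of the
special fibre made constant; this row takes them to be arbitrary units.) -/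
theorem result (R : Type u) [CommRing R] [CharP R 2]
    (l0 l2 l4 s0 s2 s4 τ lam sig κ₁ κ₂ : R) (hl4 : IsUnit l4) (hs4 : IsUnit s4) (hlam : IsUnit lam)
    (hsig : IsUnit sig) (h₁ : s4 ^ 2 * κ₁ ^ 3 = sig ^ 2) (h₂ : l4 ^ 2 * κ₂ ^ 3 = lam ^ 2) :
    ∃ φ : MvPowerSeries (Fin 3) R ≃ₐ[R] MvPowerSeries (Fin 3) R,
      φ ((X 2 ^ 2 + C (s0 ^ 2) * X 0 ^ 3 * X 1 ^ 4 + C (s2 ^ 2) * X 0 ^ 3 * X 1 ^ 2 +
          C (s4 ^ 2) * X 0 ^ 3 + C (l0 ^ 2) * X 0 ^ 4 * X 1 ^ 3 + C (l2 ^ 2) * X 0 ^ 2 * X 1 ^ 3 +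
          C (l4 ^ 2) * X 1 ^ 3 + C (τ ^ 2) * X 0 ^ 3 * X 1 ^ 3 : MvPowerSeries (Fin 3) R)) =
        (X 2 ^ 2 + C (sig ^ 2) * X 0 ^ 3 + C (lam ^ 2) * X 1 ^ 3 : MvPowerSeries (Fin 3) R) := by
  open Groth.Agent.H2.FormalIFT in
  classical
  -- the two unit series
  set U : MvPowerSeries (Fin 3) R :=
    C (s0 ^ 2) * X 1 ^ 4 + C (s2 ^ 2) * X 1 ^ 2 + C (s4 ^ 2) + C (τ ^ 2) * X 1 ^ 3 with hU
  set V : MvPowerSeries (Fin 3) R :=
    C (l0 ^ 2) * X 0 ^ 4 + C (l2 ^ 2) * X 0 ^ 2 + C (l4 ^ 2) with hV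
  have hU0 : constantCoeff U = s4 ^ 2 := by
    simp [hU]
  have hV0 : constantCoeff V = l4 ^ 2 := by
    simp [hV]
  have hκ₁ : IsUnit κ₁ := by
    have : IsUnit (s4 ^ 2 * κ₁ ^ 3) := by rw [h₁]; exact hsig.pow 2
    exact (isUnit_pow_iff (by norm_num)).mp (isUnit_of_mul_isUnit_right this)
  have hκ₂ : IsUnit κ₂ := by
    have : IsUnit (l4 ^ 2 * κ₂ ^ 3) := by rw [h₂]; exact hlam.pow 2
    exact (isUnit_pow_iff (by norm_num)).mp (isUnit_of_mul_isUnit_right this)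
  obtain ⟨u₁, hu₁, hu₁eq⟩ := exists_cube U (sig ^ 2) κ₁ (by rw [hU0]; exact hs4.pow 2) hκ₁
    (by rw [hU0]; exact h₁)
  obtain ⟨u₂, hu₂, hu₂eq⟩ := exists_cube V (lam ^ 2) κ₂ (by rw [hV0]; exact hl4.pow 2) hκ₂
    (by rw [hV0]; exact h₂)
  have hu : ∀ s : Fin 3, IsUnit (constantCoeff ((![u₁, u₂, 1] : Fin 3 → MvPowerSeries (Fin 3) R) s)) := by
    intro s
    fin_cases s
    · exact hu₁
    · exact hu₂
    · simp
  set ψ := substEquiv (![u₁, u₂, 1] : Fin 3 → MvPowerSeries (Fin 3) R) hu with hψ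
  refine ⟨ψ.symm, ?_⟩
  rw [AlgEquiv.symm_apply_eq]
  have h0 : ψ (X 0) = X 0 * u₁ := substEquiv_X _ hu 0
  have h1 : ψ (X 1) = X 1 * u₂ := substEquiv_X _ hu 1
  have h2 : ψ (X 2) = X 2 := by
    have := substEquiv_X _ hu (2 : Fin 3)
    simpa using this
  have hC : ∀ r : R, ψ (C r) = C r := fun r => substEquiv_C _ hu r
  simp only [map_add, map_mul, map_pow, h0, h1, h2, hC]
  rw [hU] at hu₁eq
  rw [hV] at hu₂eq
  simp only [map_pow] at hu₁eq hu₂eq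
  linear_combination (-(X 0 : MvPowerSeries (Fin 3) R) ^ 3) * hu₁eq - (X 1 : MvPowerSeries (Fin 3) R) ^ 3 * hu₂eq

end Groth.Agent.S13127
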