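import Groth.Statements.S13128
import Groth.Agent.Lib.Helper2.ShiftEquiv

set_option autoImplicit false
universe u
open KumFam

namespace Groth.Agent.S13128

open MvPowerSeries in
/-- Let R be a commutative ring of characteristic 2, l0, l2, l4, s0, s2, s4, τ ∈ R with τ a unit, and α,
β ∈ R with l4² α⁴ + l2² α² + τ² α + l0² = 0 and s4² β⁴ + s2² β² + τ² β + s0² = 0. In characteristic
2 these relations give τ² α = (l4 α² + l2 α + l0)² and τ² β = (s4 β² + s2 β + s0)², so α = α′² and β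
= β′² with α′ = (l4 α² + l2 α + l0)/τ and β′ = (s4 β² + s2 β + s0)/τ. In R[[a, b, c]] (a = X 0, b =
X 1, c = X 2) put h = c² + τ² a b + (s4² b⁴ + s2² b²) a + (l4² a⁴ + l2² a²) b + l4² β a⁴ + l2² β a²
+ s4² α b⁴ + s2² α b²; this is the chart equation c² + τ² a b + (s4² b⁴ + s2² b² + s0²) a + (l4² a⁴
+ l2² a² + l0²) b after the substitution a ↦ a + α, b ↦ b + β, c ↦ c + τ α′ β′, which moves the
point (α, β, τ α′ β′) of that surface, where all partial derivatives vanish, to the origin. Then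
some R-algebra automorphism of R[[a, b, c]] maps h to c² + a b; consequently R[[a, b, c]]/(h) ≅
R[[a, b, c]]/(c² + a b), the completed local ring of an ordinary double point, constant over R. (The
published statement translates only a and b, so that its h carries the additional constant term τ² α
β; with that term h is a unit of R[[a, b, c]] whenever τ α β is a unit, for instance c² + a b + 1
over the field with two elements with l0 = s0 = τ = α = β = 1 and l2 = l4 = s2 = s4 = 0, and no ring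
automorphism carries a unit to c² + a b. The published proof begins by shifting c by a polynomial in
a, b whose constant term is τ α′ β′, a substitution of the polynomial ring which removes the term τ²
α β, and the rest of its argument takes place in R[[a, b, c]]; this row states the result for the
fully translated equation, which is what that argument proves.) -/
theorem result (R : Type u) [CommRing R] [CharP R 2]
    (l0 l2 l4 s0 s2 s4 τ α β : R) (hτ : IsUnit τ)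
    (hα : l4 ^ 2 * α ^ 4 + l2 ^ 2 * α ^ 2 + τ ^ 2 * α + l0 ^ 2 = 0)
    (hβ : s4 ^ 2 * β ^ 4 + s2 ^ 2 * β ^ 2 + τ ^ 2 * β + s0 ^ 2 = 0) :
    ∃ φ : MvPowerSeries (Fin 3) R ≃ₐ[R] MvPowerSeries (Fin 3) R,
      φ ((X 2 ^ 2 + C (τ ^ 2) * X 0 * X 1 + (C (s4 ^ 2) * X 1 ^ 4 + C (s2 ^ 2) * X 1 ^ 2) * X 0 +
          (C (l4 ^ 2) * X 0 ^ 4 + C (l2 ^ 2) * X 0 ^ 2) * X 1 + C (l4 ^ 2 * β) * X 0 ^ 4 +
          C (l2 ^ 2 * β) * X 0 ^ 2 + C (s4 ^ 2 * α) * X 1 ^ 4 + C (s2 ^ 2 * α) * X 1 ^ 2 :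
          MvPowerSeries (Fin 3) R)) =
        (X 2 ^ 2 + X 0 * X 1 : MvPowerSeries (Fin 3) R) := by
  open Groth.Agent.H2.FormalIFT in
  classical
  have h2R : (2 : R) = 0 := CharTwo.two_eq_zero
  have h2 : (2 : MvPowerSeries (Fin 3) R) = 0 := by
    rw [show (2 : MvPowerSeries (Fin 3) R) = C (2 : R) by rw [map_ofNat], h2R, map_zero]
  obtain ⟨τi, hτi⟩ := hτ.exists_left_inv
  -- square roots of α and β
  set α' : R := τi * (l4 * α ^ 2 + l2 * α + l0) with hα'def
  set β' : R := τi * (s4 * β ^ 2 + s2 * β + s0) with hβ'def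
  have hα' : α' ^ 2 = α := by
    rw [hα'def]
    linear_combination τi ^ 2 * hα - α * (τi * τ + 1) * hτi +
      (τi ^ 2 * (l4 * l2 * α ^ 3 + l4 * l0 * α ^ 2 + l2 * l0 * α) - α) * h2R
  have hβ' : β' ^ 2 = β := by
    rw [hβ'def]
    linear_combination τi ^ 2 * hβ - β * (τi * τ + 1) * hτi +
      (τi ^ 2 * (s4 * s2 * β ^ 3 + s4 * s0 * β ^ 2 + s2 * s0 * β) - β) * h2R
  have hα'C : (C α' : MvPowerSeries (Fin 3) R) ^ 2 = C α := by rw [← map_pow, hα']
  have hβ'C : (C β' : MvPowerSeries (Fin 3) R) ^ 2 = C β := by rw [← map_pow, hβ']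
  -- the shift
  set m : MvPowerSeries (Fin 3) R :=
    C β' * C l4 * X 0 ^ 2 + C β' * C l2 * X 0 + C α' * C s4 * X 1 ^ 2 + C α' * C s2 * X 1 with hm
  have hm0 : constantCoeff m = 0 := by simp [hm]
  have ha := hasSubst_shiftFam m hm0
  have hinv : subst (shiftFam m) m = m := by
    have key : ∀ a : Fin 3 → MvPowerSeries (Fin 3) R, HasSubst a → a 0 = X 0 → a 1 = X 1 →
        subst a m = m := by
      intro a ha' e0 e1
      rw [hm]
      simp only [subst_add ha', subst_mul ha', subst_pow ha', subst_X ha', subst_C, e0, e1]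
    exact key _ ha rfl rfl
  set φ₁ := shiftEquiv m hm0 hinv with hφ₁
  have hm2 : m ^ 2 = C β * (C l4 ^ 2 * X 0 ^ 4 + C l2 ^ 2 * X 0 ^ 2) +
      C α * (C s4 ^ 2 * X 1 ^ 4 + C s2 ^ 2 * X 1 ^ 2) := by
    rw [hm]
    linear_combination (C l4 ^ 2 * X 0 ^ 4 + C l2 ^ 2 * X 0 ^ 2) * hβ'C +
      (C s4 ^ 2 * X 1 ^ 4 + C s2 ^ 2 * X 1 ^ 2) * hα'C +
      ((C β' * C l4 * X 0 ^ 2) * (C β' * C l2 * X 0) + (C β' * C l4 * X 0 ^ 2) * (C α' * C s4 * X 1 ^ 2)
        + (C β' * C l4 * X 0 ^ 2) * (C α' * C s2 * X 1) + (C β' * C l2 * X 0) * (C α' * C s4 * X 1 ^ 2)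
        + (C β' * C l2 * X 0) * (C α' * C s2 * X 1) + (C α' * C s4 * X 1 ^ 2) * (C α' * C s2 * X 1)) * h2
  -- the unit
  set W : MvPowerSeries (Fin 3) R :=
    C τ ^ 2 + C s4 ^ 2 * X 1 ^ 3 + C s2 ^ 2 * X 1 + C l4 ^ 2 * X 0 ^ 3 + C l2 ^ 2 * X 0 with hW
  have hW0 : constantCoeff W = τ ^ 2 := by simp [hW]
  have hu : ∀ s : Fin 3, IsUnit (constantCoeff ((![W, 1, 1] : Fin 3 → MvPowerSeries (Fin 3) R) s)) := by
    intro s
    fin_cases s
    · change IsUnit (constantCoeff W)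
      rw [hW0]; exact hτ.pow 2
    · simp
    · simp
  set ψ := substEquiv (![W, 1, 1] : Fin 3 → MvPowerSeries (Fin 3) R) hu with hψ
  refine ⟨φ₁.trans ψ.symm, ?_⟩
  rw [AlgEquiv.trans_apply, AlgEquiv.symm_apply_eq]
  have p0 : ψ (X 0) = X 0 * W := substEquiv_X _ hu 0
  have p1 : ψ (X 1) = X 1 := by
    have := substEquiv_X _ hu (1 : Fin 3)
    simpa using this
  have p2 : ψ (X 2) = X 2 := by
    have := substEquiv_X _ hu (2 : Fin 3)
    simpa using this
  have q0 : φ₁ (X 0) = X 0 := shiftEquiv_X0 m hm0 hinv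
  have q1 : φ₁ (X 1) = X 1 := shiftEquiv_X1 m hm0 hinv
  have q2 : φ₁ (X 2) = X 2 + m := shiftEquiv_X2 m hm0 hinv
  have qC : ∀ r : R, φ₁ (C r) = C r := fun r => shiftEquiv_C m hm0 hinv r
  simp only [map_add, map_mul, map_pow, p0, p1, p2, q0, q1, q2, qC]
  rw [hW]
  linear_combination hm2 + (X 2 * m + C β * (C l4 ^ 2 * X 0 ^ 4 + C l2 ^ 2 * X 0 ^ 2) +
      C α * (C s4 ^ 2 * X 1 ^ 4 + C s2 ^ 2 * X 1 ^ 2)) * h2

end Groth.Agent.S13128
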