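import Groth.Statements.S13130
import Mathlib

set_option autoImplicit false
universe u v
open KumFam

namespace Groth.Agent.S13130

/-- Let R be a nontrivial commutative ring and M a commutative group, with group algebra R[M], the
coordinate ring of the diagonalizable group scheme D(M) over Spec R. Then D(M) is integral over Spec
R, i.e. R[M] is an integral R-algebra, if and only if M is a torsion group. (The published statement
is over an arbitrary base scheme; the question is local and this row is the affine form, with R
nontrivial so that the elements of M are R-linearly independent.) -/
theorem result (R : Type u) [CommRing R] [Nontrivial R]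
    (M : Type v) [CommGroup M] :
    Algebra.IsIntegral R (MonoidAlgebra R M) ↔ IsMulTorsion M := by
  classical
  constructor
  · intro hint m
    by_contra hm
    have hinj : Function.Injective (fun n : ℕ => m ^ n) :=
      injective_pow_iff_not_isOfFinOrder.mpr hm
    obtain ⟨P, hPm, hP⟩ := hint.isIntegral (MonoidAlgebra.of R M m)
    have hterm : ∀ (i : ℕ) (a : R), algebraMap R (MonoidAlgebra R M) a *
        (MonoidAlgebra.of R M m) ^ i = MonoidAlgebra.single (m ^ i) a := by
      intro i a
      rw [← map_pow, MonoidAlgebra.of_apply, MonoidAlgebra.coe_algebraMap, Function.comp_apply,
        MonoidAlgebra.single_mul_single, one_mul]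
      simp
    rw [Polynomial.eval₂_eq_sum_range] at hP
    have h2 := congrArg (fun x => x.coeff (m ^ P.natDegree)) hP
    simp only [hterm, MonoidAlgebra.coeff_sum, Finsupp.finset_sum_apply,
      MonoidAlgebra.coeff_single_apply, MonoidAlgebra.coeff_zero, Finsupp.zero_apply] at h2
    rw [Finset.sum_eq_single P.natDegree] at h2
    · rw [if_pos rfl, hPm.coeff_natDegree] at h2
      exact one_ne_zero h2
    · intro i _ hi
      rw [if_neg]
      intro h
      exact hi (hinj h)
    · intro h
      simp at h
  · intro htor
    refine ⟨fun x => ?_⟩
    induction x using MonoidAlgebra.induction_on with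
    | of m =>
      obtain ⟨n, hn, hmn⟩ := (htor m).exists_pow_eq_one
      apply IsIntegral.of_pow hn
      rw [← map_pow, hmn, map_one]
      exact isIntegral_one
    | add x y hx hy => exact hx.add hy
    | smul r x hx => exact hx.smul r

end Groth.Agent.S13130
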