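import Groth.Statements.S13134
import Groth.Agent.Lib.Helper1.ArtinFlatReg
import Groth.Agent.Lib.Helper1.FlatNilpotent

set_option autoImplicit false
universe u v
open CAlg

namespace Groth.Agent.S13134

/-- Let A' be an Artinian local ring, I a proper ideal, A = A'/I and f_1, …, f_m ∈ A[x_1, …, x_n]. Every
flat A'-algebra B' equipped with a surjection π onto A[x]/(f_1, …, f_m) with kernel I·B', compatible
with A' → A, is a quotient of A'[x_1, …, x_n] by the ideal generated by some lifts f'_1, …, f'_m of
the f_i, compatibly with π and with reduction of polynomials modulo I. (The published statement is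
for a surjection of local Artinian algebras with a fixed residue field over a ring of Witt vectors;
only the Artinian local base and the proper ideal are used, which is the form taken here.) -/
theorem result
    {A' : Type u} [CommRing A'] [IsArtinianRing A'] [IsLocalRing A'] (I : Ideal A') (hI : I ≠ ⊤)
    {n m : ℕ} (f : Fin m → MvPolynomial (Fin n) (A' ⧸ I))
    {B' : Type v} [CommRing B'] [Algebra A' B'] [Module.Flat A' B']
    (π : B' →+* MvPolynomial (Fin n) (A' ⧸ I) ⧸ Ideal.span (Set.range f))
    (hπ : Function.Surjective π) (hker : RingHom.ker π = I.map (algebraMap A' B'))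
    (hcomp : π.comp (algebraMap A' B') =
      ((Ideal.Quotient.mk (Ideal.span (Set.range f))).comp MvPolynomial.C).comp (Ideal.Quotient.mk I)) :
    ∃ (f' : Fin m → MvPolynomial (Fin n) A') (ψ : MvPolynomial (Fin n) A' →ₐ[A'] B'),
      (∀ i, MvPolynomial.map (Ideal.Quotient.mk I) (f' i) = f i) ∧
      Function.Surjective ψ ∧ RingHom.ker ψ.toRingHom = Ideal.span (Set.range f') ∧
      ∀ q, π (ψ q) = Ideal.Quotient.mk (Ideal.span (Set.range f)) (MvPolynomial.map (Ideal.Quotient.mk I) q) := by
  classical
  have hnil : IsNilpotent I := by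
    obtain ⟨k, hk⟩ := Groth.Agent.H1.ArtinFlatReg.isNilpotent_maximalIdeal A'
    refine ⟨k, ?_⟩
    have h1 : I ^ k ≤ IsLocalRing.maximalIdeal A' ^ k :=
      Ideal.pow_right_mono (IsLocalRing.le_maximalIdeal hI) k
    rw [hk, Ideal.zero_eq_bot, le_bot_iff] at h1
    exact h1
  set ρ := MvPolynomial.map (σ := Fin n) (Ideal.Quotient.mk I) with hρ
  have hρs : Function.Surjective ρ := MvPolynomial.map_surjective _ Ideal.Quotient.mk_surjective
  set q := Ideal.Quotient.mk (Ideal.span (Set.range f)) with hq
  -- choose lifts of the variables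
  choose b hb using fun j : Fin n => hπ (q (MvPolynomial.X j))
  let ψ : MvPolynomial (Fin n) A' →ₐ[A'] B' := MvPolynomial.aeval b
  have hπψ : π.comp ψ.toRingHom = q.comp ρ := by
    apply MvPolynomial.ringHom_ext
    · intro a
      have := RingHom.congr_fun hcomp a
      simpa [ψ, ρ] using this
    · intro j
      simp [ψ, ρ, hb]
  have hπψ' : ∀ p, π (ψ p) = q (ρ p) := fun p => RingHom.congr_fun hπψ p
  -- surjectivity of ψ
  have hψs : Function.Surjective ψ := by
    have hle : (⊤ : Submodule A' B') ≤ LinearMap.range ψ.toLinearMap ⊔ I • ⊤ := by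
      intro x _
      obtain ⟨p, hp⟩ := hρs (Classical.choose (Ideal.Quotient.mk_surjective (π x)))
      have hp' : q (ρ p) = π x := by
        rw [hp]; exact Classical.choose_spec (Ideal.Quotient.mk_surjective (π x))
      have hmem : x - ψ p ∈ I • (⊤ : Submodule A' B') := by
        rw [Ideal.smul_top_eq_map, Submodule.restrictScalars_mem, ← hker, RingHom.mem_ker,
          map_sub, hπψ', hp', sub_self]
      have : x = ψ p + (x - ψ p) := by ring
      rw [this]
      exact Submodule.add_mem_sup ⟨p, rfl⟩ hmem
    have := Groth.Agent.H1.Submodule.le_of_le_sup_smul_of_isNilpotent hnil hle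
    intro x
    obtain ⟨p, hp⟩ := this (Submodule.mem_top (x := x))
    exact ⟨p, hp⟩
  set K := RingHom.ker ψ.toRingHom with hK
  -- lifts of the f i in the kernel
  have hlift : ∀ i, ∃ g : MvPolynomial (Fin n) A', ρ g = f i ∧ g ∈ K := by
    intro i
    obtain ⟨g, hg⟩ := hρs (f i)
    have h1 : ψ g ∈ I.map (algebraMap A' B') := by
      rw [← hker, RingHom.mem_ker, hπψ', hg, hq, Ideal.Quotient.eq_zero_iff_mem]
      exact Ideal.subset_span ⟨i, rfl⟩
    have h2 : I.map (algebraMap A' B') =
        (I.map (MvPolynomial.C (σ := Fin n))).map ψ.toRingHom := by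
      rw [Ideal.map_map]
      congr 1
      ext a
      simp [ψ]
    rw [h2] at h1
    obtain ⟨h, hh, hh'⟩ := (Ideal.mem_map_iff_of_surjective ψ.toRingHom hψs).mp h1
    refine ⟨g - h, ?_, ?_⟩
    · have : ρ h = 0 := by
        have : h ∈ RingHom.ker ρ := by
          rw [hρ, MvPolynomial.ker_map, Ideal.mk_ker]; exact hh
        exact this
      rw [map_sub, hg, this, sub_zero]
    · rw [hK, RingHom.mem_ker]
      change ψ (g - h) = 0
      have h3 : ψ h = ψ g := hh'
      rw [map_sub, h3, sub_self]
  choose f' hf'ρ hf'K using hlift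
  refine ⟨f', ψ, hf'ρ, hψs, ?_, hπψ'⟩
  -- the kernel
  refine le_antisymm ?_ (Ideal.span_le.mpr (by rintro _ ⟨i, rfl⟩; exact hf'K i))
  -- work with A'-submodules
  let K' : Submodule A' (MvPolynomial (Fin n) A') := K.restrictScalars A'
  let N' : Submodule A' (MvPolynomial (Fin n) A') := (Ideal.span (Set.range f')).restrictScalars A'
  have hflat : Function.Injective (K'.subtype.lTensor (A' ⧸ I)) := by
    refine Groth.Agent.H1.lTensor_injective_of_exact_of_flat K'.subtype ψ.toLinearMap
      K'.injective_subtype ?_ hψs (A' ⧸ I)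
    intro z
    constructor
    · intro hz
      exact ⟨⟨z, hz⟩, rfl⟩
    · rintro ⟨⟨z, hz⟩, rfl⟩
      exact hz
  have hQ := (Groth.Agent.H1.ArtinFlatReg.lTensor_quotient_injective_iff K'.subtype I).mp hflat
  have hmain : K' ≤ N' ⊔ I • K' := by
    intro x hx
    have hx0 : π (ψ x) = 0 := by
      have : ψ x = 0 := hx
      rw [this, map_zero]
    rw [hπψ', hq, Ideal.Quotient.eq_zero_iff_mem, Ideal.mem_span_range_iff_exists_fun] at hx0
    obtain ⟨c, hc⟩ := hx0
    choose c' hc' using fun i => hρs (c i)
    set y := ∑ i, c' i * f' i with hy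
    have hyN : y ∈ N' := by
      change y ∈ Ideal.span (Set.range f')
      exact Ideal.sum_mem _ fun i _ => Ideal.mul_mem_left _ _ (Ideal.subset_span ⟨i, rfl⟩)
    have hyK : y ∈ K' := by
      change y ∈ K
      exact Ideal.sum_mem _ fun i _ => Ideal.mul_mem_left _ _ (hf'K i)
    have hxyK : x - y ∈ K' := K'.sub_mem hx hyK
    have hρxy : ρ (x - y) = 0 := by
      rw [map_sub, hy, map_sum, ← hc, sub_eq_zero]
      refine (Finset.sum_congr rfl fun i _ => ?_).symm
      rw [map_mul, hc', hf'ρ]
    have hxyI : x - y ∈ I • (⊤ : Submodule A' (MvPolynomial (Fin n) A')) := by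
      rw [Ideal.smul_top_eq_map, Submodule.restrictScalars_mem, MvPolynomial.algebraMap_eq]
      have : x - y ∈ RingHom.ker ρ := hρxy
      rwa [hρ, MvPolynomial.ker_map, Ideal.mk_ker] at this
    have h3 := hQ ⟨x - y, hxyK⟩ hxyI
    have h4 : x - y ∈ I • K' := by
      have h5 := Submodule.mem_map_of_mem (f := K'.subtype) h3
      rw [Submodule.map_smul'', Submodule.map_top, Submodule.range_subtype] at h5
      exact h5
    have : x = y + (x - y) := by ring
    rw [this]
    exact Submodule.add_mem_sup hyN h4
  exact Groth.Agent.H1.Submodule.le_of_le_sup_smul_of_isNilpotent hnil hmain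

end Groth.Agent.S13134
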