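import Groth.Statements.S13135
import Groth.Agent.Lib.Helper1.ArtinFlatReg

set_option autoImplicit false
universe u
open CAlg

namespace Groth.Agent.S13135

/-- Let A' be an Artinian local ring, I a proper ideal, A = A'/I and f_1, …, f_m a regular sequence in
A[x_1, …, x_n]. For every choice of lifts f'_1, …, f'_m in A'[x_1, …, x_n] the quotient A'[x]/(f'_1,
…, f'_m) is flat over A' (so it is a flat lifting of A[x]/(f_1, …, f_m)). (The published statement
is for a surjection of local Artinian algebras with a fixed residue field over a ring of Witt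
vectors; only the Artinian local base and the proper ideal are used, which is the form taken here.) -/
theorem result
    {A' : Type u} [CommRing A'] [IsArtinianRing A'] [IsLocalRing A'] (I : Ideal A') (hI : I ≠ ⊤)
    {n m : ℕ} (f : Fin m → MvPolynomial (Fin n) (A' ⧸ I))
    (hreg : RingTheory.Sequence.IsRegular (MvPolynomial (Fin n) (A' ⧸ I)) (List.ofFn f))
    (f' : Fin m → MvPolynomial (Fin n) A') (hf' : ∀ i, MvPolynomial.map (Ideal.Quotient.mk I) (f' i) = f i) :
    Module.Flat A' (MvPolynomial (Fin n) A' ⧸ Ideal.span (Set.range f')) := by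
  have hspan : Ideal.span (Set.range f') = Ideal.ofList (List.ofFn f') := by
    unfold Ideal.ofList
    congr 1
    ext x
    simp [List.mem_ofFn]
  rw [hspan]
  apply Groth.Agent.H1.ArtinFlatReg.flat_quotient_ofList A' I hI
  rw [List.map_ofFn]
  let e : MvPolynomial (Fin n) (A' ⧸ I) ≃+*
      (MvPolynomial (Fin n) A' ⧸ I.map (algebraMap A' (MvPolynomial (Fin n) A'))) :=
    (MvPolynomial.quotientEquivQuotientMvPolynomial (σ := Fin n) I).toRingEquiv
  have he : ∀ i, e (f i) = Ideal.Quotient.mk _ (f' i) := by
    intro i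
    rw [← hf' i]
    apply e.symm.injective
    rw [e.symm_apply_apply]
    change _ = Ideal.Quotient.lift (Ideal.map MvPolynomial.C I : Ideal (MvPolynomial (Fin n) A'))
      (MvPolynomial.eval₂Hom (MvPolynomial.C.comp (Ideal.Quotient.mk I)) MvPolynomial.X)
      (fun _ ha => MvPolynomial.eval₂_C_mk_eq_zero ha)
      (Ideal.Quotient.mk (Ideal.map MvPolynomial.C I) (f' i))
    rw [Ideal.Quotient.lift_mk, MvPolynomial.map_eq_eval₂Hom_C_comp]
  refine (AddEquiv.isWeaklyRegular_congr (e := e.toAddEquiv) ?_).mp hreg.toIsWeaklyRegular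
  rw [List.forall₂_iff_get]
  refine ⟨by simp, fun i h1 h2 x => ?_⟩
  simp only [List.get_eq_getElem, List.getElem_ofFn, smul_eq_mul]
  change e (f _ * x) = _ * e x
  rw [map_mul, he]
  rfl

end Groth.Agent.S13135
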