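import Groth.Statements.S13137
import Groth.Agent.Lib.Helper6.W2Lib

set_option autoImplicit false
universe u v
open FrobAlg

namespace Groth.Agent.S13137

/-- For a perfect field k of characteristic p, a flat W₂(k)-algebra B and an ideal J of B, the quotient
B/J is flat over W₂(k) if and only if (p) ∩ J = pJ in B. (With B a flat lifting of A = B/pB this
says: B/J is a flat lifting of A modulo the image of J exactly when (p) ∩ J = pJ.) -/
theorem result
    (p : ℕ) [Fact p.Prime] (k : Type u) [Field k] [CharP k p] [PerfectRing k p]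
    (B : Type v) [CommRing B] [Algebra (FrobAlg.W2 p k) B] [Module.Flat (FrobAlg.W2 p k) B]
    (J : Ideal B) :
    Module.Flat (FrobAlg.W2 p k) (B ⧸ J) ↔
      Ideal.span {(p : B)} ⊓ J = Ideal.span {(p : B)} * J := by
  have hp2 : (p : B) * p = 0 := by
    have := Groth.Agent.H6.W2L.p_mul_p p k
    have h2 := congrArg (algebraMap (FrobAlg.W2 p k) B) this
    simpa using h2
  have hq : ∀ x : B ⧸ J, (p : FrobAlg.W2 p k) • x = (p : B ⧸ J) * x := by
    intro x
    rw [Algebra.smul_def, map_natCast]
  have hb : ∀ x : B, (p : FrobAlg.W2 p k) • x = (p : B) * x := by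
    intro x
    rw [Algebra.smul_def, map_natCast]
  have hB := (Groth.Agent.H6.W2L.flat_iff p k B).mp inferInstance
  rw [Groth.Agent.H6.W2L.flat_iff p k (B ⧸ J)]
  constructor
  · intro h
    apply le_antisymm
    · rintro x ⟨hx1, hx2⟩
      obtain ⟨b, rfl⟩ := Ideal.mem_span_singleton'.mp hx1
      -- b * p ∈ J, so p • [b] = 0
      have h1 : (p : FrobAlg.W2 p k) • (Ideal.Quotient.mk J b) = 0 := by
        rw [hq, ← map_natCast (Ideal.Quotient.mk J), ← map_mul,
          Ideal.Quotient.eq_zero_iff_mem, mul_comm]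
        exact hx2
      obtain ⟨m', hm'⟩ := h _ h1
      obtain ⟨c, rfl⟩ := Ideal.Quotient.mk_surjective m'
      rw [hq, ← map_natCast (Ideal.Quotient.mk J), ← map_mul,
        Ideal.Quotient.eq] at hm'
      -- b - p c ∈ J; so b p = (b - p c) p ∈ J p
      have : b * p = (p : B) * (b - p * c) := by
        have : (p : B) * (p * c) = 0 := by rw [← mul_assoc, hp2, zero_mul]
        rw [mul_sub, this, sub_zero, mul_comm]
      change b * (p : B) ∈ _
      rw [this]
      exact Ideal.mul_mem_mul (Ideal.subset_span rfl) hm'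
    · exact Ideal.mul_le_inf
  · intro h m hm
    obtain ⟨b, rfl⟩ := Ideal.Quotient.mk_surjective m
    rw [hq, ← map_natCast (Ideal.Quotient.mk J), ← map_mul,
      Ideal.Quotient.eq_zero_iff_mem] at hm
    have h1 : (p : B) * b ∈ Ideal.span {(p : B)} ⊓ J :=
      ⟨Ideal.mul_mem_right _ _ (Ideal.subset_span rfl), hm⟩
    rw [h] at h1
    -- p b ∈ (p) J: p b = p j for some j ∈ J
    have h2 : ∃ j ∈ J, (p : B) * b = p * j := by
      obtain ⟨j, hj, hj'⟩ := Ideal.mem_span_singleton_mul.mp h1
      exact ⟨j, hj, hj'.symm⟩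
    obtain ⟨j, hj, hbj⟩ := h2
    have h3 : (p : FrobAlg.W2 p k) • (b - j) = 0 := by
      rw [hb, mul_sub, hbj, sub_self]
    obtain ⟨c, hc⟩ := hB _ h3
    refine ⟨Ideal.Quotient.mk J c, ?_⟩
    rw [hq, ← map_natCast (Ideal.Quotient.mk J), ← map_mul, Ideal.Quotient.eq]
    rw [hb] at hc
    have : b - p * c = j := by rw [← hc]; ring
    rw [this]; exact hj


end Groth.Agent.S13137
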