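import Groth.Statements.S13140
import Mathlib

set_option autoImplicit false
universe u v w
open GrpAlg

namespace Groth.Agent.S13140

/-- Let G be a finite group, R a commutative ring in which |G| is a unit, and M a module over the group
algebra R[G] whose underlying R-module is projective. Then M is a projective R[G]-module. -/
theorem result
    (R : Type u) [CommRing R] (G : Type v) [Group G] [Finite G] (hG : IsUnit ((Nat.card G : ℕ) : R))
    (M : Type w) [AddCommGroup M] [Module R M] [Module (MonoidAlgebra R G) M]
    [IsScalarTower R (MonoidAlgebra R G) M] [Module.Projective R M] :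
    Module.Projective (MonoidAlgebra R G) M := by
  classical
  haveI : Fintype G := Fintype.ofFinite G
  let A := MonoidAlgebra R G
  let πA : (M →₀ A) →ₗ[A] M := Finsupp.linearCombination A id
  have hπ : Function.Surjective πA := Finsupp.linearCombination_id_surjective A M
  obtain ⟨σ₀, hσ₀⟩ := Module.projective_lifting_property (πA.restrictScalars R) LinearMap.id hπ
  have hσ₀' : ∀ m, πA (σ₀ m) = m := fun m => LinearMap.congr_fun hσ₀ m
  let σ : M →ₗ[A] (M →₀ A) := σ₀.equivariantProjection G
  apply Module.Projective.of_split σ πA
  apply LinearMap.ext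
  intro m
  rw [LinearMap.comp_apply, LinearMap.id_apply, LinearMap.equivariantProjection_apply]
  have h1 : ∀ g : G, πA (σ₀.conjugate g m) = m := by
    intro g
    rw [LinearMap.conjugate_apply, map_smul, hσ₀', smul_smul, MonoidAlgebra.single_mul_single,
      inv_mul_cancel, mul_one, ← MonoidAlgebra.one_def, one_smul]
  have h2 : πA (Ring.inverse (Nat.card G : R) • ∑ g : G, σ₀.conjugate g m) =
      Ring.inverse (Nat.card G : R) • ∑ g : G, πA (σ₀.conjugate g m) := by
    rw [← map_sum]
    exact LinearMap.map_smul_of_tower πA _ _
  rw [h2]
  simp_rw [h1]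
  rw [Finset.sum_const, Finset.card_univ, ← Nat.cast_smul_eq_nsmul R, smul_smul,
    Fintype.card_eq_nat_card, Ring.inverse_mul_cancel _ hG, one_smul]

end Groth.Agent.S13140
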