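import Groth.Statements.S13141
import Mathlib

set_option autoImplicit false
universe u v w w'
open scoped TensorProduct
open GrpAlg

namespace Groth.Agent.S13141

/-- Let G be a finite group, R a commutative ring with |G| invertible in R, M a projective R-module with
an R-linear G-action and S an R-algebra. The natural map M^G ⊗_R S → M ⊗_R S is injective and its
image is the submodule of G-invariants of M ⊗_R S (G acting on the first factor); that is, M^G ⊗_R S
→ (M ⊗_R S)^G is bijective. -/
theorem result
    (R : Type u) [CommRing R] (G : Type v) [Group G] [Finite G] (hG : IsUnit ((Nat.card G : ℕ) : R))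
    (M : Type w) [AddCommGroup M] [Module R M] [Module.Projective R M] (ρ : Representation R G M)
    (S : Type w') [CommRing S] [Algebra R S] :
    Function.Injective (TensorProduct.map ρ.invariants.subtype (LinearMap.id : S →ₗ[R] S)) ∧
    LinearMap.range (TensorProduct.map ρ.invariants.subtype (LinearMap.id : S →ₗ[R] S)) =
      ⨅ g : G, LinearMap.eqLocus (LinearMap.rTensor S (ρ g)) LinearMap.id := by
  classical
  haveI : Fintype G := Fintype.ofFinite G
  obtain ⟨u, hu⟩ := hG.exists_left_inv
  have hcard : (Nat.card G : R) = (Fintype.card G : R) := by rw [Nat.card_eq_fintype_card]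
  let avg : M →ₗ[R] M := u • ∑ g : G, ρ g
  have havg : ∀ v, avg v = u • ∑ g : G, ρ g v := by
    intro v; simp [avg, LinearMap.sum_apply]
  have hinv : ∀ v, avg v ∈ ρ.invariants := by
    intro v h
    rw [havg, map_smul, map_sum]
    congr 1
    have : ∀ g : G, ρ h (ρ g v) = ρ (h * g) v := fun g => by rw [map_mul]; rfl
    simp_rw [this]
    exact Fintype.sum_bijective (h * ·) (Group.mulLeft_bijective h) _ _ (fun _ => rfl)
  have hid : ∀ v ∈ ρ.invariants, avg v = v := by
    intro v hv
    rw [havg]
    have : ∀ g : G, ρ g v = v := hv
    simp_rw [this]
    rw [Finset.sum_const, Finset.card_univ, ← Nat.cast_smul_eq_nsmul R, smul_smul, ← hcard, hu,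
      one_smul]
  let e' : M →ₗ[R] ρ.invariants := avg.codRestrict _ hinv
  have he' : e' ∘ₗ ρ.invariants.subtype = LinearMap.id := by
    apply LinearMap.ext
    intro v
    apply Subtype.ext
    exact hid v v.2
  have hsub : ρ.invariants.subtype ∘ₗ e' = avg := by
    apply LinearMap.ext
    intro v
    rfl
  constructor
  · have : (TensorProduct.map e' (LinearMap.id : S →ₗ[R] S)) ∘ₗ
        (TensorProduct.map ρ.invariants.subtype (LinearMap.id : S →ₗ[R] S)) = LinearMap.id := by
      rw [← TensorProduct.map_comp, he', LinearMap.id_comp, TensorProduct.map_id]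
    exact Function.LeftInverse.injective (g := TensorProduct.map e' LinearMap.id)
      (LinearMap.congr_fun this)
  · apply le_antisymm
    · rintro _ ⟨y, rfl⟩
      rw [Submodule.mem_iInf]
      intro g
      rw [LinearMap.mem_eqLocus, LinearMap.id_apply]
      induction y using TensorProduct.induction_on with
      | zero => simp
      | tmul v s =>
        simp only [TensorProduct.map_tmul, Submodule.subtype_apply, LinearMap.id_apply,
          LinearMap.rTensor_tmul]
        rw [v.2 g]
      | add a b ha hb => rw [map_add, map_add, ha, hb]
    · intro x hx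
      rw [Submodule.mem_iInf] at hx
      have hx' : ∀ g : G, (LinearMap.rTensor S (ρ g)) x = x := fun g => by
        have := hx g
        rwa [LinearMap.mem_eqLocus, LinearMap.id_apply] at this
      have hrt : ∀ z : M ⊗[R] S, (LinearMap.rTensor S avg) z =
          u • ∑ g : G, (LinearMap.rTensor S (ρ g)) z := by
        intro z
        induction z using TensorProduct.induction_on with
        | zero => simp
        | tmul m s =>
          simp only [LinearMap.rTensor_tmul, havg]
          rw [← TensorProduct.smul_tmul', TensorProduct.sum_tmul]
        | add a b ha hb =>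
          simp only [map_add, ha, hb, Finset.sum_add_distrib, smul_add]
      have hx1 : (LinearMap.rTensor S avg) x = x := by
        rw [hrt]
        simp_rw [hx']
        rw [Finset.sum_const, Finset.card_univ, ← Nat.cast_smul_eq_nsmul R, smul_smul, ← hcard, hu,
          one_smul]
      refine ⟨TensorProduct.map e' LinearMap.id x, ?_⟩
      rw [← LinearMap.comp_apply, ← TensorProduct.map_comp, hsub, LinearMap.id_comp]
      exact hx1

end Groth.Agent.S13141
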