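import Groth.Statements.S13142
import Mathlib

set_option autoImplicit false
universe u v
open GrpAlg

namespace Groth.Agent.S13142

/-- Let G be a finite group and R a commutative ring with |G| invertible in R, acting on R[x_1, …, x_n]
by R-algebra automorphisms. The invariant subring R[x_1, …, x_n]^G is a flat R-module (so the
quotient of affine n-space over R by G is flat over R). -/
theorem result
    (R : Type u) [CommRing R] (G : Type v) [Group G] [Finite G] (hG : IsUnit ((Nat.card G : ℕ) : R))
    (n : ℕ) (ρ : G →* (MvPolynomial (Fin n) R ≃ₐ[R] MvPolynomial (Fin n) R)) :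
    Module.Flat R ↥(⨅ g : G, LinearMap.eqLocus (ρ g).toLinearMap (LinearMap.id : MvPolynomial (Fin n) R →ₗ[R] MvPolynomial (Fin n) R)) := by
  classical
  cases nonempty_fintype G
  obtain ⟨u, hu⟩ := hG
  have hmem : ∀ x : MvPolynomial (Fin n) R,
      x ∈ (⨅ g : G, LinearMap.eqLocus (ρ g).toLinearMap
        (LinearMap.id : MvPolynomial (Fin n) R →ₗ[R] MvPolynomial (Fin n) R)) ↔
      ∀ g, ρ g x = x := by
    intro x
    simp [Submodule.mem_iInf, LinearMap.mem_eqLocus]
  let avg : MvPolynomial (Fin n) R →ₗ[R] MvPolynomial (Fin n) R :=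
    (↑u⁻¹ : R) • ∑ g : G, (ρ g).toLinearMap
  have havg : ∀ x, avg x = (↑u⁻¹ : R) • ∑ g : G, ρ g x := by
    intro x
    simp [avg, LinearMap.sum_apply]
  have havg_mem : ∀ x, avg x ∈ (⨅ g : G, LinearMap.eqLocus (ρ g).toLinearMap
        (LinearMap.id : MvPolynomial (Fin n) R →ₗ[R] MvPolynomial (Fin n) R)) := by
    intro x
    rw [hmem]
    intro h
    rw [havg, map_smul, map_sum]
    congr 1
    have : ∀ g, ρ h (ρ g x) = ρ (h * g) x := by
      intro g
      rw [map_mul]
      rfl
    simp only [this]
    exact Fintype.sum_equiv (Equiv.mulLeft h) _ _ (fun g => rfl)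
  refine Module.Flat.of_retract (Submodule.subtype _) (avg.codRestrict _ havg_mem) ?_
  ext ⟨x, hx⟩
  rw [hmem] at hx
  simp only [LinearMap.coe_comp, Function.comp_apply, Submodule.subtype_apply,
    LinearMap.codRestrict_apply, LinearMap.id_coe, id_eq, havg, hx, Finset.sum_const,
    Finset.card_univ]
  rw [← Nat.cast_smul_eq_nsmul R, smul_smul, ← Nat.card_eq_fintype_card, ← hu, Units.inv_mul,
    one_smul]

end Groth.Agent.S13142
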