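import Groth.Statements.S13147
import Groth.Agent.Lib.Helper6.W2Lib
import Groth.Agent.Lib.Helper6.W2Coeff
open Groth.Agent.H6

set_option autoImplicit false
universe u
open FrobAlg

namespace Groth.Agent.S13147

/-- Let k be a perfect field of characteristic p and (A, φ) a k-algebra with a Frobenius splitting (φ
additive, φ(a^p b) = a φ(b), φ(1) = 1). The quotient of W₂(A) by the ideal generated by the Witt
vectors (0, a) with φ(a) = 0 — the ring of twisted Witt vectors of (A, φ) — is a flat lifting of A
over W₂(k): flat over W₂(k), with reduction map onto A induced by (a₀, a₁) ↦ a₀ whose kernel is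
generated by the maximal ideal of W₂(k). (The published statement also asserts that a morphism of
algebras with Frobenius splittings compatible with the splittings induces a ring map between these
quotients; that part is not stated here.) -/
theorem result
    (p : ℕ) [Fact p.Prime] (k : Type u) [Field k] [CharP k p] [PerfectRing k p]
    (A : Type u) [CommRing A] [Algebra k A] (φ : A →+ A)
    (hφ : ∀ a b : A, φ (a ^ p * b) = a * φ b) (hφ1 : φ 1 = 1) :
    FrobAlg.IsLift p k A (FrobAlg.W2 p A ⧸ FrobAlg.splitIdeal p A φ)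
      ((Ideal.Quotient.mk (FrobAlg.splitIdeal p A φ)).comp (WittGrp.truncMap p 2 (algebraMap k A)))
      (FrobAlg.splitRes p A φ) := by
  classical
  set I := FrobAlg.splitIdeal p A φ with hIdef
  set B := FrobAlg.W2 p A ⧸ I with hBdef
  set ι : FrobAlg.W2 p k →+* B :=
    (Ideal.Quotient.mk I).comp (WittGrp.truncMap p 2 (algebraMap k A)) with hιdef
  by_cases hA : Subsingleton A
  · -- degenerate case
    haveI : Subsingleton (FrobAlg.W2 p A) := by
      refine ⟨fun x y => ?_⟩
      apply TruncatedWittVector.ext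
      intro i
      exact Subsingleton.elim _ _
    haveI : Subsingleton B := by
      refine ⟨fun x y => ?_⟩
      obtain ⟨x', rfl⟩ := Ideal.Quotient.mk_surjective x
      obtain ⟨y', rfl⟩ := Ideal.Quotient.mk_surjective y
      rw [Subsingleton.elim x' y']
    refine ⟨?_, ?_, ?_, ?_⟩
    · letI : Algebra (FrobAlg.W2 p k) B := ι.toAlgebra
      change Module.Flat (FrobAlg.W2 p k) B
      infer_instance
    · intro a
      exact ⟨0, Subsingleton.elim _ _⟩
    · exact Subsingleton.elim _ _
    · ext w
      exact Subsingleton.elim _ _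
  rw [not_subsingleton_iff_nontrivial] at hA
  haveI : CharP A p := charP_of_injective_algebraMap (algebraMap k A).injective p
  have hI : ∀ x ∈ I, x.coeff 0 = 0 ∧ φ (x.coeff 1) = 0 := by
    intro x hx
    induction hx using Submodule.span_induction with
    | mem y hy =>
      obtain ⟨h0, h1⟩ := hy
      rw [FrobAlg.res_apply] at h0
      exact ⟨h0, h1⟩
    | zero =>
      exact ⟨TruncatedWittVector.coeff_zero (p := p) (n := 2) (R := A) 0, by
        rw [TruncatedWittVector.coeff_zero (p := p) (n := 2) (R := A) 1, map_zero]⟩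
    | add y z _ _ hy hz =>
      refine ⟨by rw [W2C.add_coeff0, hy.1, hz.1, add_zero], ?_⟩
      rw [W2C.add_coeff1 p A y z hy.1 hz.1, map_add, hy.2, hz.2, add_zero]
    | smul a y _ hy =>
      rw [smul_eq_mul]
      refine ⟨by rw [W2C.mul_coeff0, hy.1, mul_zero], ?_⟩
      rw [W2C.mul_coeff1 p A a y hy.1, hφ, hy.2, mul_zero]
  have hkey : ∀ x : FrobAlg.W2 p A, x.coeff 0 = 0 →
      ∃ y : FrobAlg.W2 p A, x - (p : FrobAlg.W2 p A) * y ∈ I := by
    intro x hx
    let y : FrobAlg.W2 p A := WittVector.truncate 2 (WittVector.teichmuller p (φ (x.coeff 1)))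
    have hy0 : y.coeff 0 = φ (x.coeff 1) := by
      rw [W2C.coeff0_trunc, WittVector.teichmuller_coeff_zero]
    refine ⟨y, Ideal.subset_span ⟨?_, ?_⟩⟩
    · rw [FrobAlg.res_apply, W2C.sub_coeff0, hx, W2C.p_mul_coeff0, sub_zero]
    · rw [W2C.sub_coeff1 p A _ _ hx (W2C.p_mul_coeff0 p A y), W2C.p_mul_coeff1, hy0, map_sub]
      have : φ (φ (x.coeff 1) ^ p) = φ (x.coeff 1) := by
        have := hφ (φ (x.coeff 1)) 1
        rwa [mul_one, hφ1, mul_one] at this
      rw [this, sub_self]
  have hpB : ι (p : FrobAlg.W2 p k) = (p : B) := map_natCast ι p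
  have hmkp : ∀ y : FrobAlg.W2 p A, Ideal.Quotient.mk I ((p : FrobAlg.W2 p A) * y) =
      (p : B) * Ideal.Quotient.mk I y := by
    intro y
    rw [map_mul, map_natCast]
  refine ⟨?_, ?_, ?_, ?_⟩
  · letI : Algebra (FrobAlg.W2 p k) B := ι.toAlgebra
    change Module.Flat (FrobAlg.W2 p k) B
    rw [Groth.Agent.H6.W2L.flat_iff p k B]
    intro b hb
    obtain ⟨x, rfl⟩ := Ideal.Quotient.mk_surjective b
    have hsm : ∀ c : B, (p : FrobAlg.W2 p k) • c = (p : B) * c := by
      intro c
      rw [Algebra.smul_def]
      change ι (p : FrobAlg.W2 p k) * c = _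
      rw [hpB]
    rw [hsm, ← hmkp, Ideal.Quotient.eq_zero_iff_mem] at hb
    have h1 := (hI _ hb).2
    rw [W2C.p_mul_coeff1] at h1
    have h2 : x.coeff 0 = 0 := by
      have := hφ (x.coeff 0) 1
      rw [mul_one, hφ1, mul_one] at this
      rw [← this, h1]
    obtain ⟨y, hy⟩ := hkey x h2
    refine ⟨Ideal.Quotient.mk I y, ?_⟩
    rw [hsm, ← hmkp]
    exact (Ideal.Quotient.eq.mpr hy)
  · intro a
    refine ⟨Ideal.Quotient.mk I (WittVector.truncate 2 (WittVector.teichmuller p a)), ?_⟩
    change FrobAlg.res p A _ = a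
    rw [FrobAlg.res_apply, W2C.coeff0_trunc, WittVector.teichmuller_coeff_zero]
  · -- kernel
    have hker : RingHom.ker (FrobAlg.res p k) = Ideal.span {(p : FrobAlg.W2 p k)} := by
      apply le_antisymm
      · intro x hx
        rw [RingHom.mem_ker, FrobAlg.res_apply] at hx
        rcases Groth.Agent.H6.W2L.trichotomy p k x with rfl | hu | ⟨u, -, rfl⟩
        · exact zero_mem _
        · exfalso
          obtain ⟨v, hv⟩ := hu.exists_right_inv
          have := congrArg (fun w : FrobAlg.W2 p k => w.coeff 0) hv
          change (x * v).coeff 0 = (1 : FrobAlg.W2 p k).coeff 0 at this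
          rw [W2C.mul_coeff0, hx, zero_mul] at this
          have h1 : (1 : FrobAlg.W2 p k).coeff 0 = 1 := by
            rw [← map_one (WittVector.truncate (p := p) (R := k) 2), W2C.coeff0_trunc,
              WittVector.one_coeff_zero]
          rw [h1] at this
          exact zero_ne_one this
        · exact Ideal.mul_mem_right _ _ (Ideal.subset_span rfl)
      · rw [Ideal.span_le, Set.singleton_subset_iff, SetLike.mem_coe, RingHom.mem_ker,
          FrobAlg.res_apply]
        have := W2C.p_mul_coeff0 p k 1
        rwa [mul_one] at this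
    rw [hker, Ideal.map_span, Set.image_singleton, hpB]
    apply le_antisymm
    · intro b hb
      obtain ⟨x, rfl⟩ := Ideal.Quotient.mk_surjective b
      rw [RingHom.mem_ker] at hb
      change FrobAlg.res p A x = 0 at hb
      rw [FrobAlg.res_apply] at hb
      obtain ⟨y, hy⟩ := hkey x hb
      rw [Ideal.Quotient.eq.mpr hy, hmkp]
      exact Ideal.mul_mem_right _ _ (Ideal.subset_span rfl)
    · rw [Ideal.span_le, Set.singleton_subset_iff, SetLike.mem_coe, RingHom.mem_ker, map_natCast]
      exact CharP.cast_eq_zero A p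
  · ext w
    change FrobAlg.res p A (WittGrp.truncMap p 2 (algebraMap k A) w) =
      algebraMap k A (FrobAlg.res p k w)
    rw [FrobAlg.res_apply, FrobAlg.res_apply, WittGrp.coeff_truncMap]


end Groth.Agent.S13147
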