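import Groth.Statements.S13151
import Mathlib

set_option autoImplicit false
universe u
open CAlg

namespace Groth.Agent.S13151

/-- Let A → B be an injective ring homomorphism of integral domains which is integral, with A integrally
closed, and let π be an element of A. Then the contraction to A of the ideal πB is πA, i.e. an
element of A which is a multiple of π in B is already a multiple of π in A; in particular if B/πB is
an integral domain then A/πA is an integral domain. (The published statement is for an integral
dominant morphism of integral schemes flat over a discrete valuation ring, with normal target and π
a uniformizer; flatness and the valuation ring play no role, so π is an arbitrary element here.) -/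
theorem result {A B : Type u} [CommRing A] [CommRing B]
    [IsDomain A] [IsDomain B] [IsIntegrallyClosed A] [Algebra A B] [Algebra.IsIntegral A B]
    (hinj : Function.Injective (algebraMap A B)) (π : A) :
    (Ideal.span {algebraMap A B π}).comap (algebraMap A B) = Ideal.span {π} ∧
      (IsDomain (B ⧸ Ideal.span {algebraMap A B π}) → IsDomain (A ⧸ Ideal.span {π})) := by
  classical
  have h1 : (Ideal.span {algebraMap A B π}).comap (algebraMap A B) = Ideal.span {π} := by
    apply le_antisymm
    · intro a ha
      rw [Ideal.mem_comap, Ideal.mem_span_singleton] at ha
      obtain ⟨b, hb⟩ := ha
      rw [Ideal.mem_span_singleton]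
      by_cases hπ : π = 0
      · subst hπ
        rw [map_zero, zero_mul] at hb
        have : a = 0 := hinj (by rw [hb, map_zero])
        rw [this]
      · let K := FractionRing A
        let L := FractionRing B
        haveI : FaithfulSMul A L := by
          rw [faithfulSMul_iff_algebraMap_injective, IsScalarTower.algebraMap_eq A B L]
          exact (IsFractionRing.injective B L).comp hinj
        letI : Algebra K L := FractionRing.liftAlgebra A L
        haveI : IsScalarTower A K L := FractionRing.isScalarTower_liftAlgebra A L
        have hπK : algebraMap A K π ≠ 0 := by
          intro h
          exact hπ (IsFractionRing.injective A K (by rw [h, map_zero]))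
        have hπL : algebraMap B L (algebraMap A B π) ≠ 0 := by
          intro h
          exact hπ (hinj (IsFractionRing.injective B L (by rw [h, map_zero, map_zero])))
        have hx : algebraMap K L (algebraMap A K a / algebraMap A K π) = algebraMap B L b := by
          rw [map_div₀, ← IsScalarTower.algebraMap_apply, ← IsScalarTower.algebraMap_apply,
            IsScalarTower.algebraMap_apply A B L, IsScalarTower.algebraMap_apply A B L π, hb,
            map_mul, mul_div_cancel_left₀ _ hπL]
        have hbint : IsIntegral A (algebraMap B L b) :=
          (Algebra.IsIntegral.isIntegral b).algebraMap
        rw [← hx, isIntegral_algebraMap_iff (algebraMap K L).injective] at hbint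
        obtain ⟨y, hy⟩ := IsIntegrallyClosed.isIntegral_iff.mp hbint
        refine ⟨y, ?_⟩
        apply IsFractionRing.injective A K
        rw [map_mul, hy, mul_div_cancel₀ _ hπK]
    · rw [Ideal.span_le]
      intro x hx
      rw [Set.mem_singleton_iff] at hx
      subst hx
      exact Ideal.subset_span rfl
  refine ⟨h1, ?_⟩
  intro hdom
  rw [Ideal.Quotient.isDomain_iff_prime] at hdom ⊢
  rw [← h1]
  exact Ideal.comap_isPrime _ _

end Groth.Agent.S13151
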