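import Groth.Statements.S13156
import Groth.Agent.Lib.Helper2.FGode

set_option autoImplicit false
universe u
open scoped Polynomial
open CAlg

namespace Groth.Agent.S13156

/-- Let p be a prime number, A a commutative ring in which (p−1)! is invertible, μ an element of A, and
F ∈ A[X] a polynomial of degree at most p − 1 with coefficients a_0, a_1, …. Then the identity
F(S)·F(T) − a_0² = F(S + T + μST) − a_0 holds in the polynomial ring A[S, T] if and only if a_1·F(S)
= F′(S)·(1 + μS) holds in A[S], F′ the formal derivative. (The published statement is over the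
quotient of a discrete valuation ring of residue characteristic p by a nonzero element of its
maximal ideal; only the invertibility of 1, …, p − 1 is used, so an arbitrary such ring A is allowed
here.) -/
theorem result (A : Type u) [CommRing A] (p : ℕ) [Fact p.Prime]
    (hu : IsUnit ((Nat.factorial (p - 1) : ℕ) : A)) (μ : A) (F : A[X]) (hF : F.natDegree < p) :
    (Polynomial.aeval (MvPolynomial.X 0 : MvPolynomial (Fin 2) A) F *
          Polynomial.aeval (MvPolynomial.X 1 : MvPolynomial (Fin 2) A) F - MvPolynomial.C (F.coeff 0 ^ 2) =
        Polynomial.aeval (MvPolynomial.X 0 + MvPolynomial.X 1 +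
            MvPolynomial.C μ * MvPolynomial.X 0 * MvPolynomial.X 1 : MvPolynomial (Fin 2) A) F -
          MvPolynomial.C (F.coeff 0)) ↔
      F * Polynomial.C (F.coeff 1) = Polynomial.derivative F * (1 + Polynomial.C μ * Polynomial.X) := by
  constructor
  · intro h
    have h1 := congrArg (MvPolynomial.pderiv (1 : Fin 2)) h
    simp only [map_sub, Derivation.leibniz, Derivation.comp_aeval_eq, MvPolynomial.pderiv_C,
      MvPolynomial.pderiv_X, map_add, smul_eq_mul] at h1
    have h2 := congrArg (MvPolynomial.aeval (![Polynomial.X, 0] : Fin 2 → A[X])) h1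
    simp only [map_sub, map_add, map_mul, ← Polynomial.aeval_algHom_apply, MvPolynomial.aeval_X,
      MvPolynomial.aeval_C] at h2
    simp at h2
    rw [← Polynomial.coeff_zero_eq_aeval_zero', Polynomial.coeff_derivative] at h2
    simpa using h2
  · intro hode
    set φ : A →+* MvPolynomial (Fin 2) A := algebraMap A (MvPolynomial (Fin 2) A) with hφ
    have hu' : IsUnit ((Nat.factorial (p - 1) : ℕ) : MvPolynomial (Fin 2) A) := by
      have := hu.map φ
      simpa using this
    have hF' : (F.map φ).natDegree < p := lt_of_le_of_lt Polynomial.natDegree_map_le hF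
    have hode' : (F.map φ) * Polynomial.C ((F.map φ).coeff 1) =
        Polynomial.derivative (F.map φ) * (1 + Polynomial.C (φ μ) * Polynomial.X) := by
      have := congrArg (Polynomial.map φ) hode
      simpa [Polynomial.derivative_map] using this
    have key := Groth.Agent.H2.FGode.fun_eq_poly p hu' (φ μ) (F.map φ) hF' hode' (MvPolynomial.X 1)
    have key2 := congrArg (Polynomial.eval (MvPolynomial.X 0 : MvPolynomial (Fin 2) A)) key
    simp only [Polynomial.eval_sub, Polynomial.eval_mul, Polynomial.eval_C, Polynomial.eval_comp, Polynomial.eval_add, Polynomial.eval_X, Polynomial.coeff_map, hφ,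
      Polynomial.eval_map_algebraMap] at key2
    have harg : ((1 + (algebraMap A (MvPolynomial (Fin 2) A)) μ * MvPolynomial.X 1) * MvPolynomial.X 0 +
        MvPolynomial.X 1 : MvPolynomial (Fin 2) A) = MvPolynomial.X 0 + MvPolynomial.X 1 +
            MvPolynomial.C μ * MvPolynomial.X 0 * MvPolynomial.X 1 := by
      rw [MvPolynomial.algebraMap_eq]; ring
    rw [harg] at key2
    simpa [MvPolynomial.algebraMap_eq] using key2

end Groth.Agent.S13156
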