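import Groth.Statements.S13157
import Mathlib

set_option autoImplicit false
universe u
open scoped Polynomial
open CAlg

namespace Groth.Agent.S13157

/-- (i) ⇔ (ii): let p be a prime number, A a commutative ring in which (p−1)! is invertible, μ ∈ A, and
F ∈ A[X] a polynomial of degree at most p − 1 with constant term a_0 = 1 and coefficients a_1, a_2,
…. Then the relations a_{r−1}·a_1 = (r − 1)μ·a_{r−1} + r·a_r for 1 ≤ r ≤ p (with a_p = 0), written
here as the single identity a_1·F = F′·(1 + μX), hold if and only if r!·a_r = ∏_{k=0}^{r−1} (a_1 −
kμ) for every 1 ≤ r ≤ p − 1 and ∏_{k=0}^{p−1} (a_1 − kμ) = 0. (The published statement lists the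
relations only for 1 ≤ r ≤ p − 1, while its proof uses and derives the relation for r = p as well,
which is needed for the vanishing of the last product; it is included here. The published setting is
the quotient of a discrete valuation ring of residue characteristic p by a nonzero non-unit; only
the invertibility of 1, …, p − 1 is used.) -/
theorem result (A : Type u) [CommRing A] (p : ℕ) [Fact p.Prime]
    (hu : IsUnit ((Nat.factorial (p - 1) : ℕ) : A)) (μ : A) (F : A[X]) (hF : F.natDegree < p)
    (h0 : F.coeff 0 = 1) :
    F * Polynomial.C (F.coeff 1) = Polynomial.derivative F * (1 + Polynomial.C μ * Polynomial.X) ↔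
      ((∀ r : ℕ, 1 ≤ r → r < p →
          (r.factorial : A) * F.coeff r = ∏ k ∈ Finset.range r, (F.coeff 1 - (k : A) * μ)) ∧
        ∏ k ∈ Finset.range p, (F.coeff 1 - (k : A) * μ) = 0) := by
  have hp : p.Prime := Fact.out
  have hp1 : 1 ≤ p := hp.one_lt.le
  set a : ℕ → A := fun r => F.coeff r with ha
  have hap : ∀ r, p ≤ r → a r = 0 := by
    intro r hr
    exact Polynomial.coeff_eq_zero_of_natDegree_lt (by omega)
  -- units
  have hunit : ∀ r, r < p → IsUnit ((r.factorial : ℕ) : A) := by
    intro r hr
    have hdvd : r.factorial ∣ (p - 1).factorial := Nat.factorial_dvd_factorial (by omega)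
    obtain ⟨c, hc⟩ := hdvd
    rw [hc, Nat.cast_mul] at hu
    exact isUnit_of_mul_isUnit_left hu
  -- the coefficient form of the identity
  have hcoef : F * Polynomial.C (F.coeff 1) =
      Polynomial.derivative F * (1 + Polynomial.C μ * Polynomial.X) ↔
      ∀ r : ℕ, a r * a 1 = ((r : A) + 1) * a (r + 1) + (r : A) * μ * a r := by
    rw [Polynomial.ext_iff]
    apply forall_congr'
    intro r
    rw [Polynomial.coeff_mul_C, mul_add, mul_one, Polynomial.coeff_add, Polynomial.coeff_derivative, ← mul_assoc, mul_comm _ (Polynomial.C μ),
      mul_assoc, Polynomial.coeff_C_mul]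
    rcases Nat.eq_zero_or_pos r with h | h
    · subst h
      simp [ha]
    · obtain ⟨s, rfl⟩ := Nat.exists_eq_succ_of_ne_zero (by omega : r ≠ 0)
      rw [Nat.succ_eq_add_one, Polynomial.coeff_mul_X, Polynomial.coeff_derivative]
      simp only [ha]
      constructor <;> intro h <;> (push_cast at h ⊢; linear_combination h)
  rw [hcoef]
  constructor
  · intro h
    have key : ∀ r : ℕ, r ≤ p →
        (r.factorial : A) * a r = ∏ k ∈ Finset.range r, (a 1 - (k : A) * μ) := by
      intro r
      induction r with
      | zero => intro _; simp [ha, h0]
      | succ r ih =>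
        intro hr
        have h1 := h r
        have h2 := ih (by omega)
        rw [Finset.prod_range_succ, ← h2, Nat.factorial_succ]
        push_cast
        linear_combination (-(r.factorial : A)) * h1
    refine ⟨fun r _ hr => key r hr.le, ?_⟩
    rw [← key p le_rfl, hap p le_rfl, mul_zero]
  · rintro ⟨h1, h2⟩ r
    have key : ∀ r : ℕ, r ≤ p →
        (r.factorial : A) * a r = ∏ k ∈ Finset.range r, (a 1 - (k : A) * μ) := by
      intro r hr
      rcases Nat.eq_zero_or_pos r with h | h
      · subst h; simp [ha, h0]
      · rcases Nat.lt_or_ge r p with hlt | hge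
        · exact h1 r h hlt
        · have : r = p := by omega
          subst this
          rw [h2, hap r le_rfl, mul_zero]
    rcases Nat.lt_or_ge r p with hr | hr
    · have k1 := key r hr.le
      have k2 := key (r + 1) hr
      rw [Finset.prod_range_succ, ← k1, Nat.factorial_succ] at k2
      push_cast at k2
      have hu' := hunit r hr
      have : (r.factorial : A) * (a r * a 1) =
          (r.factorial : A) * (((r : A) + 1) * a (r + 1) + (r : A) * μ * a r) := by
        linear_combination -k2
      exact (hu'.mul_right_inj).mp this
    · rw [hap r hr, hap (r + 1) (by omega)]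
      ring

end Groth.Agent.S13157
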