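import Groth.Statements.S13159
import Mathlib

set_option autoImplicit false
universe u
open CAlg

namespace Groth.Agent.S13159

/-- Let R be a discrete valuation ring with fraction field K, C an R-algebra which is finitely generated
as an R-module (the coordinate ring of a finite R-scheme G), and A an integral domain which is an
R-algebra with injective structure map and fraction field L, K → L being compatible, such that every
element of L algebraic over K lies in the image of K (the condition satisfied by the rings of
nonempty opens of an R-scheme with geometrically integral fibres). Then every R-algebra homomorphism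
C → A factors uniquely through the structure map R → A: the points of G with values in A are the
R-points of G. (The published statement is that for Y → Spec R with geometrically integral fibres
and G finite flat, the map H¹(Y, G) → H⁰(Y_Zar, R¹f_*G) from the Leray spectral sequence of Y_fl →
Y_Zar is bijective; this row is the step asserting that G restricted to the Zariski site of Y is the
constant sheaf G(R), for an affine open with function ring A.) -/
theorem result (R : Type u) [CommRing R]
    [IsDomain R] [IsDiscreteValuationRing R] (K : Type u) [Field K] [Algebra R K] [IsFractionRing R K]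
    (C : Type u) [CommRing C] [Algebra R C] [Module.Finite R C]
    (A : Type u) [CommRing A] [IsDomain A] [Algebra R A] (hinj : Function.Injective (algebraMap R A))
    (L : Type u) [Field L] [Algebra A L] [IsFractionRing A L] [Algebra R L] [Algebra K L]
    [IsScalarTower R A L] [IsScalarTower R K L]
    (hac : ∀ x : L, IsAlgebraic K x → x ∈ (algebraMap K L).range)
    (φ : C →ₐ[R] A) : ∃! ψ : C →ₐ[R] R, φ = (Algebra.ofId R A).comp ψ := by
  classical
  have hinj' : Function.Injective (Algebra.ofId R A) := hinj
  have hrange : ∀ c : C, φ c ∈ (Algebra.ofId R A).range := by
    intro c
    have hc : IsIntegral R c := Algebra.IsIntegral.isIntegral c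
    have hφc : IsIntegral R (φ c) := hc.map φ
    have hL : IsIntegral R (algebraMap A L (φ c)) := hφc.algebraMap
    have hLK : IsIntegral K (algebraMap A L (φ c)) := hL.tower_top
    obtain ⟨k, hk⟩ := hac _ hLK.isAlgebraic
    rw [← hk] at hL
    have hL' : IsIntegral R (algebraMap K L k) := hL
    rw [isIntegral_algebraMap_iff (algebraMap K L).injective] at hL'
    obtain ⟨r, hr⟩ := IsIntegrallyClosed.isIntegral_iff.mp hL'
    refine ⟨r, ?_⟩
    apply IsFractionRing.injective A L
    change algebraMap A L (algebraMap R A r) = _
    rw [← IsScalarTower.algebraMap_apply, IsScalarTower.algebraMap_apply R K L, hr]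
    exact hk
  let e := AlgEquiv.ofInjective (Algebra.ofId R A) hinj'
  let ψ : C →ₐ[R] R := (e.symm : (Algebra.ofId R A).range →ₐ[R] R).comp
    (φ.codRestrict (Algebra.ofId R A).range hrange)
  have hψ : ∀ c, Algebra.ofId R A (ψ c) = φ c := by
    intro c
    have : e (ψ c) = φ.codRestrict (Algebra.ofId R A).range hrange c := by
      simp only [ψ, AlgHom.comp_apply, AlgEquiv.coe_algHom, AlgEquiv.apply_symm_apply]
    have h2 := congrArg Subtype.val this
    exact h2
  refine ⟨ψ, ?_, ?_⟩
  · ext c
    exact (hψ c).symm
  · intro ψ' hψ'
    ext c
    apply hinj'
    rw [hψ c, hψ']
    rfl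

end Groth.Agent.S13159
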