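import Groth.Statements.S13160
import Groth.Agent.Lib.Helper7.WittAddLow
-- import your own Groth.Agent.* helpers here

set_option autoImplicit false
universe u
open CAlg

namespace Groth.Agent.S13160

/-- Let R be a discrete valuation ring, p a prime number and λ an element of R dividing p (so that R/λR
is an 𝔽_p-algebra), and let a and b be p-typical Witt vectors with coefficients in R/λR which are
killed by the Frobenius endomorphism. Then the Witt sum a + b has components a_n + b_n for every n.
(The published statement allows an arbitrary λ ∈ R and is stated for Witt vectors with finitely many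
nonzero components; this row assumes that λ divides p, so that p = 0 in R/λR, and allows all Witt
vectors.) -/
theorem result (R : Type u) [CommRing R] [IsDomain R]
    [IsDiscreteValuationRing R] (p : ℕ) [Fact p.Prime] (lam : R) (hlam : lam ∣ (p : R))
    (a b : WittVector p (R ⧸ Ideal.span {lam})) (ha : WittVector.frobenius a = 0)
    (hb : WittVector.frobenius b = 0) (n : ℕ) : (a + b).coeff n = a.coeff n + b.coeff n := by
  classical
  have hp : p.Prime := Fact.out
  rcases subsingleton_or_nontrivial (R ⧸ Ideal.span {lam}) with hs | hnt
  · exact Subsingleton.elim _ _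
  have hp0 : ((p : ℕ) : R ⧸ Ideal.span {lam}) = 0 := by
    have : ((p : ℕ) : R ⧸ Ideal.span {lam}) = Ideal.Quotient.mk (Ideal.span {lam}) (p : R) := by
      rw [map_natCast]
    rw [this, Ideal.Quotient.eq_zero_iff_mem, Ideal.mem_span_singleton]
    exact hlam
  haveI : CharP (R ⧸ Ideal.span {lam}) p := (CharP.charP_iff_prime_eq_zero hp).mpr hp0
  obtain ⟨I, hI, hmem⟩ := Groth.Agent.H7.WittAddLow.exists_ideal R p hp.pos lam
  apply Groth.Agent.H7.WittAddLow.add_coeff_of_mem p I hI a b
  · intro j
    apply hmem
    rw [← WittVector.coeff_frobenius_charP, ha, WittVector.zero_coeff]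
  · intro j
    apply hmem
    rw [← WittVector.coeff_frobenius_charP, hb, WittVector.zero_coeff]

end Groth.Agent.S13160
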