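import Groth.Statements.S13161
import Mathlib
-- import your own Groth.Agent.* helpers here

set_option autoImplicit false
universe u
open scoped TensorProduct
open CAlg

namespace Groth.Agent.S13161

/-- Let R be a discrete valuation ring with fraction field K, A an R-algebra which is semireflexive as
an R-module (the map to its double dual is injective: every nonzero a ∈ A has an R-linear form f : A
→ R with f(a) ≠ 0), and B an A-algebra which is finitely generated as an A-module and flat over R.
Suppose B ⊗ K is semireflexive as a module over A ⊗ K, which for such B amounts to: every nonzero b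
∈ B has an A-linear map g : B → A ⊗_R K with g(b) ≠ 0. Then B is semireflexive as an R-module: every
nonzero b ∈ B has an R-linear form h : B → R with h(b) ≠ 0. (The published statement phrases the
hypothesis on B_K as an A_K-module; for B flat over R and finite over A this is the elementwise
condition used here.) -/
theorem result (R : Type u) [CommRing R] [IsDomain R]
    [IsDiscreteValuationRing R] (K : Type u) [Field K] [Algebra R K] [IsFractionRing R K]
    (A B : Type u) [CommRing A] [CommRing B] [Algebra R A] [Algebra R B] [Algebra A B] [IsScalarTower R A B]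
    [Module.Finite A B] [Module.Flat R B]
    (hA : ∀ a : A, a ≠ 0 → ∃ f : A →ₗ[R] R, f a ≠ 0)
    (hBK : ∀ b : B, b ≠ 0 → ∃ g : B →ₗ[A] A ⊗[R] K, g b ≠ 0) :
    ∀ b : B, b ≠ 0 → ∃ h : B →ₗ[R] R, h b ≠ 0 := by
  classical
  intro b hb
  obtain ⟨g, hg⟩ := hBK b hb
  let S := nonZeroDivisors R
  let ι : A →ₗ[R] A ⊗[R] K :=
    (TensorProduct.comm R K A).toLinearMap ∘ₗ (TensorProduct.mk R K A 1)
  haveI : IsLocalizedModule S ι :=
    IsLocalizedModule.of_linearEquiv S (TensorProduct.mk R K A 1) (TensorProduct.comm R K A)
  have hι : ∀ a, ι a = a ⊗ₜ[R] (1 : K) := fun a => by simp [ι]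
  -- torsion-free
  have htf : ∀ (s : R) (a : A), s ≠ 0 → s • a = 0 → a = 0 := by
    intro s a hs hsa
    by_contra ha
    obtain ⟨f, hf⟩ := hA a ha
    apply hf
    have : s • f a = 0 := by rw [← map_smul, hsa, map_zero]
    exact (smul_eq_zero.mp this).resolve_left hs
  have hιinj : Function.Injective ι := by
    rw [← LinearMap.ker_eq_bot, LinearMap.ker_eq_bot']
    intro a ha
    obtain ⟨s, hs⟩ := (IsLocalizedModule.eq_zero_iff S ι).mp ha
    exact htf s a (nonZeroDivisors.ne_zero s.2) hs
  -- common denominator on generators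
  obtain ⟨T, hT⟩ := (Module.Finite.fg_top : (⊤ : Submodule A B).FG)
  have hden : ∀ z : A ⊗[R] K, ∃ s : S, ∃ a : A, s • z = ι a := fun z => by
    obtain ⟨⟨a, s⟩, h⟩ := IsLocalizedModule.surj S ι z
    exact ⟨s, a, h⟩
  choose sden aden hden' using hden
  let s0 : S := ∏ t ∈ T, sden (g t)
  have hrange : ∀ x : B, (s0 : R) • g x ∈ LinearMap.range ι := by
    intro x
    have hx : x ∈ Submodule.span A (T : Set B) := by rw [hT]; trivial
    induction hx using Submodule.span_induction with
    | mem t ht =>
      have h1 : s0 = (∏ t' ∈ T.erase t, sden (g t')) * sden (g t) := by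
        rw [Finset.prod_erase_mul T _ ht]
      rw [h1]
      have h2 : (((∏ t' ∈ T.erase t, sden (g t')) * sden (g t) : S) : R) • g t =
          ((∏ t' ∈ T.erase t, sden (g t') : S) : R) • ((sden (g t) : R) • g t) := by
        rw [Submonoid.coe_mul, mul_smul]
      rw [h2]
      have h3 : (sden (g t) : R) • g t = ι (aden (g t)) := hden' (g t)
      rw [h3, ← map_smul]
      exact LinearMap.mem_range_self _ _
    | zero => simp
    | add x y _ _ hx hy =>
      rw [map_add, smul_add]
      exact Submodule.add_mem _ hx hy
    | smul a x _ hx =>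
      obtain ⟨a', ha'⟩ := hx
      refine ⟨a * a', ?_⟩
      rw [map_smul, smul_comm, ← ha', hι, hι, TensorProduct.smul_tmul', smul_eq_mul]
  let g1 : B →ₗ[R] A ⊗[R] K := (s0 : R) • g.restrictScalars R
  let g2 : B →ₗ[R] LinearMap.range ι := g1.codRestrict (LinearMap.range ι) (fun x => hrange x)
  let g' : B →ₗ[R] A := (LinearEquiv.ofInjective ι hιinj).symm.toLinearMap ∘ₗ g2
  have hg' : ∀ x, ι (g' x) = (s0 : R) • g x := by
    intro x
    have := LinearEquiv.ofInjective_symm_apply (f := ι) (h := hιinj) (g2 x)
    simp [g', g2, g1] at this ⊢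
    try exact this
  have hne : g' b ≠ 0 := by
    intro h0
    have h1 : (s0 : R) • g b = 0 := by rw [← hg', h0, map_zero]
    apply hg
    have := IsLocalizedModule.smul_injective ι s0 (a₁ := g b) (a₂ := 0)
    apply this
    change (s0 : R) • g b = s0 • (0 : A ⊗[R] K)
    rw [h1, smul_zero]
  obtain ⟨f, hf⟩ := hA (g' b) hne
  exact ⟨f ∘ₗ g', hf⟩

end Groth.Agent.S13161
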