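import Groth.Statements.S13163
import Mathlib

set_option autoImplicit false
universe u
open ZeroCyc

namespace Groth.Agent.S13163

open Polynomial in
/-- Let P_d(T) = ∏_{0 ≤ i < j ≤ d} (T^i − T^j) − 1 ∈ ℤ[T]. Every residue field of ℤ[T]/(P_d), i.e. every
field receiving a ring homomorphism from it, has at least d + 1 elements. -/
theorem result (d : ℕ) (k : Type u) [Field k]
    (φ : (ℤ[X] ⧸ Ideal.span {(∏ j ∈ Finset.range (d + 1), ∏ i ∈ Finset.range j,
        ((X : ℤ[X]) ^ i - X ^ j)) - 1}) →+* k) :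
    ((d + 1 : ℕ) : Cardinal) ≤ Cardinal.mk k := by
  set P : ℤ[X] := (∏ j ∈ Finset.range (d + 1), ∏ i ∈ Finset.range j,
        ((X : ℤ[X]) ^ i - X ^ j)) - 1 with hP
  let ψ : ℤ[X] →+* k := φ.comp (Ideal.Quotient.mk (Ideal.span {P}))
  have hψP : ψ P = 0 := by
    change φ (Ideal.Quotient.mk (Ideal.span {P}) P) = 0
    rw [Ideal.Quotient.eq_zero_iff_mem.mpr (Ideal.subset_span (Set.mem_singleton P)), map_zero]
  set t : k := ψ X with ht
  have hprod : ∏ j ∈ Finset.range (d + 1), ∏ i ∈ Finset.range j, (t ^ i - t ^ j) = 1 := by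
    have h1 := hψP
    rw [hP, map_sub, map_one, map_prod] at h1
    simp only [map_prod, map_sub, map_pow] at h1
    exact sub_eq_zero.mp h1
  have hinj : Function.Injective (fun i : Fin (d + 1) => t ^ (i : ℕ)) := by
    intro a b hab
    by_contra hne
    -- wlog a < b
    have key : ∀ i j : ℕ, i < j → j < d + 1 → t ^ i ≠ t ^ j := by
      intro i j hij hj heq
      have hzero : ∏ j ∈ Finset.range (d + 1), ∏ i ∈ Finset.range j, (t ^ i - t ^ j) = 0 := by
        apply Finset.prod_eq_zero (Finset.mem_range.mpr hj)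
        apply Finset.prod_eq_zero (Finset.mem_range.mpr hij)
        rw [heq, sub_self]
      rw [hprod] at hzero
      exact one_ne_zero hzero
    rcases lt_or_gt_of_ne (fun h => hne (Fin.ext h) : (a : ℕ) ≠ (b : ℕ)) with h | h
    · exact key a b h b.isLt hab
    · exact key b a h a.isLt hab.symm
  have := Cardinal.lift_mk_le_lift_mk_of_injective hinj
  simpa using this

end Groth.Agent.S13163
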