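import Groth.Statements.S13166
import Groth.Agent.Lib.Helper6.SubspaceUnion

set_option autoImplicit false
universe u
open ZeroCyc

namespace Groth.Agent.S13166

/-- Let k be a field, B a k-algebra generated as an algebra by a k-subspace V, k'/k a field extension
and x_1, …, x_d pairwise distinct k'-points of B ⊗_k k' (equivalently, distinct k-algebra
homomorphisms B → k'). If k has at least d(d − 1)/2 elements, then there is b ∈ V whose values at
x_1, …, x_d are pairwise distinct. -/
theorem result {k : Type u} [Field k] {B : Type u} [CommRing B] [Algebra k B] (V : Submodule k B)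
    (hV : Algebra.adjoin k (V : Set B) = ⊤) {k' : Type u} [Field k'] [Algebra k k']
    {d : ℕ} (x : Fin d → (B →ₐ[k] k')) (hx : Function.Injective x)
    (hk : ((d.choose 2 : ℕ) : Cardinal) ≤ Cardinal.mk k) :
    ∃ b ∈ V, Function.Injective fun i => x i b := by
  classical
  let L : Fin d → Fin d → (V →ₗ[k] k') := fun i j =>
    ((x i).toLinearMap - (x j).toLinearMap).comp V.subtype
  have hL : ∀ i j (b : V), L i j b = x i b - x j b := fun i j b => rfl
  let s : Finset (Finset (Fin d)) := (Finset.univ : Finset (Fin d)).powersetCard 2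
  let p : Finset (Fin d) → Submodule k V := fun S => ⨅ i ∈ S, ⨅ j ∈ S, LinearMap.ker (L i j)
  have hcard : s.card = d.choose 2 := by
    simp [s, Finset.card_powersetCard]
  have hp : ∀ S ∈ s, p S ≠ ⊤ := by
    intro S hS htop
    rw [Finset.mem_powersetCard] at hS
    obtain ⟨i, j, hij, rfl⟩ := Finset.card_eq_two.1 hS.2
    apply hij
    apply hx
    apply AlgHom.ext_of_adjoin_eq_top hV
    intro b hb
    have hmem : (⟨b, hb⟩ : V) ∈ p {i, j} := by rw [htop]; exact Submodule.mem_top
    simp only [p, Submodule.mem_iInf, LinearMap.mem_ker] at hmem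
    have := hmem i (by simp) j (by simp)
    rw [hL, sub_eq_zero] at this
    exact this
  have hle : (s.card : ℕ∞) ≤ ENat.card k := by
    rw [hcard]
    exact Cardinal.natCast_le_toENat.2 hk
  obtain ⟨b, hb⟩ := Groth.Agent.H6.exists_forall_notMem_of_card_le s p hp hle
  refine ⟨b.1, b.2, ?_⟩
  intro i j hij
  by_contra hne
  have hS : ({i, j} : Finset (Fin d)) ∈ s := by
    rw [Finset.mem_powersetCard]
    exact ⟨Finset.subset_univ _, Finset.card_pair hne⟩
  apply hb _ hS
  simp only [p, Submodule.mem_iInf, LinearMap.mem_ker, Finset.mem_insert, Finset.mem_singleton, hL]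
  have hij' : x i b.1 = x j b.1 := hij
  rintro i' (rfl | rfl) j' (rfl | rfl)
  · exact sub_self _
  · rw [hij', sub_self]
  · rw [hij', sub_self]
  · exact sub_self _

end Groth.Agent.S13166
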