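import Groth.Statements.S13175
import Mathlib

set_option autoImplicit false
universe u v w
open scoped TensorProduct
open ZeroCyc

namespace Groth.Agent.S13175

/-- Let B and C be A-algebras and F : B → C a polynomial law. If the maps F over the polynomial rings
A[t_1, …, t_n], n ≥ 0, are multiplicative (send 1 to 1 and products to products), then F is a
multiplicative law: F sends 1 to 1 and products to products over every A-algebra. -/
theorem result {A : Type u} [CommRing A] {B : Type v} [CommRing B] [Algebra A B] {C : Type w} [CommRing C] [Algebra A C]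
    (F : B →ₚₗ[A] C)
    (h1 : ∀ n : ℕ, F.toFun' (MvPolynomial (Fin n) A) 1 = 1)
    (hmul : ∀ (n : ℕ) (x y : MvPolynomial (Fin n) A ⊗[A] B),
      F.toFun' (MvPolynomial (Fin n) A) (x * y) = F.toFun' (MvPolynomial (Fin n) A) x * F.toFun' (MvPolynomial (Fin n) A) y) :
    ∀ (S : Type u) [CommRing S] [Algebra A S], F.toFun' S 1 = 1 ∧
      ∀ x y : S ⊗[A] B, F.toFun' S (x * y) = F.toFun' S x * F.toFun' S y := by
  intro S _ _
  -- rTensor of an algebra hom is the algebra map
  have hmapB : ∀ {P : Type u} [CommRing P] [Algebra A P] (ψ : P →ₐ[A] S) (z : P ⊗[A] B),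
      ψ.toLinearMap.rTensor B z = Algebra.TensorProduct.map ψ (AlgHom.id A B) z := by
    intro P _ _ ψ z
    induction z using TensorProduct.induction_on with
    | zero => simp
    | tmul a b => simp
    | add a b ha hb => rw [map_add, map_add, ha, hb]
  have hmapC : ∀ {P : Type u} [CommRing P] [Algebra A P] (ψ : P →ₐ[A] S) (z : P ⊗[A] C),
      ψ.toLinearMap.rTensor C z = Algebra.TensorProduct.map ψ (AlgHom.id A C) z := by
    intro P _ _ ψ z
    induction z using TensorProduct.induction_on with
    | zero => simp
    | tmul a b => simp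
    | add a b ha hb => rw [map_add, map_add, ha, hb]
  have hcompat : ∀ {P : Type u} [CommRing P] [Algebra A P] (ψ : P →ₐ[A] S) (z : P ⊗[A] B),
      F.toFun' S (ψ.toLinearMap.rTensor B z) = ψ.toLinearMap.rTensor C (F.toFun' P z) := by
    intro P _ _ ψ z
    exact (congrFun (F.isCompat' ψ) z).symm
  constructor
  · let ψ0 : MvPolynomial (Fin 0) A →ₐ[A] S := Algebra.ofId _ _ |>.comp (MvPolynomial.isEmptyAlgEquiv A (Fin 0)).toAlgHom
    have e1 : (1 : S ⊗[A] B) = ψ0.toLinearMap.rTensor B 1 := by
      rw [hmapB, map_one]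
    rw [e1, hcompat, h1, hmapC, map_one]
  · intro x y
    let t : S ⊗[A] (B × B) := (LinearMap.inl A B B).lTensor S x + (LinearMap.inr A B B).lTensor S y
    obtain ⟨n, ψ, p, hp⟩ := PolynomialLaw.exists_lift t
    let x' := (LinearMap.fst A B B).lTensor _ p
    let y' := (LinearMap.snd A B B).lTensor _ p
    have hx : ψ.toLinearMap.rTensor B x' = x := by
      show (ψ.toLinearMap.rTensor B) ((LinearMap.fst A B B).lTensor _ p) = x
      rw [← LinearMap.comp_apply, LinearMap.rTensor_comp_lTensor, ← LinearMap.lTensor_comp_rTensor,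
        LinearMap.comp_apply, hp]
      simp only [t, map_add, ← LinearMap.comp_apply, ← LinearMap.lTensor_comp]
      simp
    have hy : ψ.toLinearMap.rTensor B y' = y := by
      show (ψ.toLinearMap.rTensor B) ((LinearMap.snd A B B).lTensor _ p) = y
      rw [← LinearMap.comp_apply, LinearMap.rTensor_comp_lTensor, ← LinearMap.lTensor_comp_rTensor,
        LinearMap.comp_apply, hp]
      simp only [t, map_add, ← LinearMap.comp_apply, ← LinearMap.lTensor_comp]
      simp
    have hxy : ψ.toLinearMap.rTensor B (x' * y') = x * y := by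
      rw [hmapB, map_mul, ← hmapB, ← hmapB, hx, hy]
    rw [← hxy, hcompat, hmul, hmapC, map_mul, ← hmapC, ← hmapC, ← hcompat, ← hcompat, hx, hy]

end Groth.Agent.S13175
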