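import Groth.Statements.S13187
import Groth.Agent.Lib.Helper1.CiFields

set_option autoImplicit false
universe u v
open Curves

namespace Groth.Agent.S13187

/-- If a field k has property C_m for systems of forms and the extension field K of k has a finite
transcendence basis with t elements, then K has property C_{m+t} for systems of forms. (Property C_m
is the systems version: any r forms of positive degrees d_1, …, d_r in n variables with Σ d_i^m < n
have a common non-trivial zero.) -/
theorem result (k : Type u) [Field k] (K : Type v) [Field K] [Algebra k K]
    (m t : ℕ) (x : Fin t → K) (hx : IsTranscendenceBasis k x) (hk : Curves.IsCi k m) :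
    Curves.IsCi K (m + t) := by
  let F : IntermediateField k K := ⊥
  have hF : Curves.IsCi F m :=
    Groth.Agent.H1.CiFields.IsCi.of_ringEquiv (IntermediateField.botEquiv k K).symm.toRingEquiv hk
  have halg := hx.isAlgebraic_field
  have hsub : (IntermediateField.adjoin k (Set.range x) : Set K) ⊆
      IntermediateField.adjoin F (Set.range x) := by
    rw [IntermediateField.adjoin_subset_adjoin_iff]
    constructor
    · rintro _ ⟨y, rfl⟩
      have : algebraMap k K y = algebraMap F K (algebraMap k F y) := rfl
      rw [this]
      exact (IntermediateField.adjoin F (Set.range x)).algebraMap_mem _
    · exact IntermediateField.subset_adjoin _ _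
  haveI : Algebra.IsAlgebraic (IntermediateField.adjoin F (Set.range x)) K := by
    let f : IntermediateField.adjoin k (Set.range x) →+*
        IntermediateField.adjoin F (Set.range x) :=
      { toFun := fun y => ⟨y.1, hsub y.2⟩
        map_one' := rfl
        map_mul' := fun _ _ => rfl
        map_zero' := rfl
        map_add' := fun _ _ => rfl }
    exact Algebra.IsAlgebraic.ringHom_of_comp_eq
      (R := IntermediateField.adjoin k (Set.range x))
      (S := IntermediateField.adjoin F (Set.range x)) (A := K) (B := K) f
      (RingHom.id K) (fun a b h => by
        have h' := congrArg Subtype.val h
        exact Subtype.ext h')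
      Function.surjective_id rfl
  exact Groth.Agent.H1.CiFields.isCi_add_of_algebraic_adjoin t F m hF K x inferInstance

end Groth.Agent.S13187
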