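import Groth.Statements.S13188
import Groth.Agent.Lib.Helper6.ArtFun

set_option autoImplicit false
universe u v w
open Brauer

namespace Groth.Agent.S13188

/-- Let K be a field with property C_2 for systems of forms and D a finite-dimensional central division
algebra over K with dim_K D = d². Let N : D → K be multiplicative, a reduced norm of D over K, and
given in the coordinates of a K-basis b of D by a homogeneous polynomial F of degree d, i.e. N(Σ x_i
b_i) = F(x) for every coordinate vector x (the reduced norm of a central simple algebra of dimension
d² is such a polynomial map of degree d; these data record it). Then N : D → K is surjective. -/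
theorem result (K : Type u) [Field K] (hK : Curves.IsCi K 2)
    (D : Type v) [DivisionRing D] [Algebra K D] [Algebra.IsCentral K D] [FiniteDimensional K D]
    (d : ℕ) (hd : Module.finrank K D = d ^ 2)
    (N : D →* K) (hN : CSAGal.IsRedNorm K D N)
    {ι : Type w} [Fintype ι] (b : Module.Basis ι K D)
    (F : MvPolynomial ι K) (hF : F.IsHomogeneous d)
    (hNF : ∀ x : ι → K, N (∑ i, x i • b i) = MvPolynomial.eval x F) :
    Function.Surjective N := by
  classical
  -- evaluation of a homogeneous polynomial at a scaled point
  have hsc : ∀ {σ : Type w} [Fintype σ] (G : MvPolynomial σ K) (e : ℕ), G.IsHomogeneous e →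
      ∀ (c : K) (x : σ → K), MvPolynomial.eval (c • x) G = c ^ e * MvPolynomial.eval x G := by
    intro σ _ G e hG c x
    rw [MvPolynomial.eval_eq', MvPolynomial.eval_eq', Finset.mul_sum]
    refine Finset.sum_congr rfl fun m hm => ?_
    have hm' : m.degree = e := by
      have := hG (MvPolynomial.mem_support_iff.mp hm)
      rw [Finsupp.degree_eq_weight_one]
      exact this
    simp only [Pi.smul_apply, smul_eq_mul, mul_pow, Finset.prod_mul_distrib,
      Finset.prod_pow_eq_pow_sum]
    rw [← Finsupp.degree_eq_sum, hm']
    ring
  have hcard : Fintype.card ι = d ^ 2 := by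
    rw [← hd, Module.finrank_eq_card_basis b]
  have hd0 : 0 < d := by
    rcases Nat.eq_zero_or_pos d with h0 | h0
    · exfalso
      have h1 : Module.finrank K D = 0 := by rw [hd, h0]; rfl
      have h2 : 0 < Module.finrank K D := Module.finrank_pos
      omega
    · exact h0
  have hNne : ∀ v : D, v ≠ 0 → N v ≠ 0 := by
    intro v hv h0
    have h1 : N (v * v⁻¹) = 1 := by rw [mul_inv_cancel₀ hv, map_one]
    rw [map_mul, h0, zero_mul] at h1
    exact zero_ne_one h1
  intro a
  let e : Option ι ≃ Fin (Fintype.card (Option ι)) := Fintype.equivFin (Option ι)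
  let G0 : MvPolynomial (Option ι) K :=
    MvPolynomial.rename some F - MvPolynomial.C a * MvPolynomial.X none ^ d
  have hG0 : G0.IsHomogeneous d :=
    (hF.rename_isHomogeneous).sub (MvPolynomial.isHomogeneous_C_mul_X_pow a none d)
  let G : MvPolynomial (Fin (Fintype.card (Option ι))) K := MvPolynomial.rename e G0
  have hG : G.IsHomogeneous d := hG0.rename_isHomogeneous
  have hn : (∑ _ρ : Fin 1, d ^ 2) < Fintype.card (Option ι) := by
    rw [Fintype.card_option, hcard]
    simp
  obtain ⟨z, hz0, hz⟩ := hK 1 (Fintype.card (Option ι)) (fun _ => G) (fun _ => d)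
    (fun _ => hG) (fun _ => hd0) hn
  have hz1 := hz 0
  let w : Option ι → K := z ∘ e
  have hw0 : w ≠ 0 := by
    intro h
    apply hz0
    funext j
    have := congrFun h (e.symm j)
    simpa [w] using this
  have hev : MvPolynomial.eval (fun i => w (some i)) F = a * w none ^ d := by
    have h1 : MvPolynomial.eval w G0 = 0 := by
      have := hz1
      rwa [MvPolynomial.eval_rename] at this
    have h2 : MvPolynomial.eval w G0 =
        MvPolynomial.eval (fun i => w (some i)) F - a * w none ^ d := by
      simp only [G0, map_sub, MvPolynomial.eval_rename, map_mul, MvPolynomial.eval_C, map_pow,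
        MvPolynomial.eval_X]
      rfl
    rw [h2] at h1
    exact sub_eq_zero.mp h1
  by_cases hy : w none = 0
  · exfalso
    rw [hy, zero_pow hd0.ne', mul_zero] at hev
    have hx0 : (fun i => w (some i)) ≠ 0 := by
      intro h
      apply hw0
      funext o
      cases o with
      | none => exact hy
      | some i => exact congrFun h i
    have hv : (∑ i, w (some i) • b i) ≠ 0 := by
      intro h
      apply hx0
      funext i
      have := (Fintype.linearIndependent_iff.mp b.linearIndependent) (fun i => w (some i)) h i
      exact this
    exact hNne _ hv (by rw [hNF, hev])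
  · refine ⟨∑ i, ((w none)⁻¹ * w (some i)) • b i, ?_⟩
    rw [hNF]
    have : (fun i => (w none)⁻¹ * w (some i)) = (w none)⁻¹ • (fun i => w (some i)) := by
      funext i; simp
    rw [this, hsc F d hF, hev, inv_pow]
    field_simp


end Groth.Agent.S13188
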