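import Groth.Statements.S13189
import Mathlib

set_option autoImplicit false
universe u
open CAlg

namespace Groth.Agent.S13189

/-- For a finite field K of cardinality q and n ≥ 0, a polynomial p in n variables over K vanishes at
every point of K^n if and only if p belongs to the ideal generated by the X_i^q − X_i, i = 1, …, n;
in other words that ideal is the kernel of the evaluation homomorphism from K[X_1, …, X_n] to the
ring of K-valued functions on K^n. -/
theorem result (K : Type u) [Field K] [Fintype K]
    (n : ℕ) (p : MvPolynomial (Fin n) K) :
    (∀ a : Fin n → K, MvPolynomial.eval a p = 0) ↔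
      p ∈ Ideal.span (Set.range fun i : Fin n =>
        (MvPolynomial.X i ^ Fintype.card K - MvPolynomial.X i : MvPolynomial (Fin n) K)) := by
  classical
  set q := Fintype.card K with hq
  have hq2 : 2 ≤ q := Fintype.one_lt_card
  set I : Ideal (MvPolynomial (Fin n) K) := Ideal.span (Set.range fun i : Fin n =>
        (MvPolynomial.X i ^ q - MvPolynomial.X i : MvPolynomial (Fin n) K)) with hI
  have hIeval : ∀ f ∈ I, ∀ a : Fin n → K, MvPolynomial.eval a f = 0 := by
    intro f hf a
    induction hf using Submodule.span_induction with
    | mem x hx =>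
      obtain ⟨i, rfl⟩ := hx
      simp [hq, FiniteField.pow_card]
    | zero => simp
    | add x y _ _ hx hy => rw [map_add, hx, hy, add_zero]
    | smul c x _ hx => rw [smul_eq_mul, map_mul, hx, mul_zero]
  constructor
  swap
  · exact fun hp a => hIeval p hp a
  intro hp
  -- reduction
  have hxq : ∀ i : Fin n, Ideal.Quotient.mk I (MvPolynomial.X i ^ q) =
      Ideal.Quotient.mk I (MvPolynomial.X i) := by
    intro i
    rw [Ideal.Quotient.eq]
    exact Ideal.subset_span ⟨i, rfl⟩
  have hmulX : ∀ (m : Fin n →₀ ℕ) (c : K) (i : Fin n),
      MvPolynomial.monomial m c * MvPolynomial.X i =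
        MvPolynomial.monomial (m + Finsupp.single i 1) c := by
    intro m c i
    rw [show (MvPolynomial.X i : MvPolynomial (Fin n) K) =
      MvPolynomial.monomial (Finsupp.single i 1) 1 from rfl, MvPolynomial.monomial_mul, mul_one]
  -- Lemma M: monomials
  have hmono : ∀ (m : Fin n →₀ ℕ) (c : K) (i : Fin n), (∀ j, m j ≤ q - 1) →
      ∃ r ∈ MvPolynomial.restrictDegree (Fin n) K (q - 1),
        Ideal.Quotient.mk I (MvPolynomial.monomial m c * MvPolynomial.X i) = Ideal.Quotient.mk I r := by
    intro m c i hm
    by_cases hmi : m i < q - 1
    · refine ⟨MvPolynomial.monomial (m + Finsupp.single i 1) c, ?_, ?_⟩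
      · rw [MvPolynomial.mem_restrictDegree]
        intro s hs j
        have : s = m + Finsupp.single i 1 := by
          have := MvPolynomial.support_monomial_subset hs
          simpa using this
        rw [this, Finsupp.add_apply]
        by_cases hji : j = i
        · subst hji; simp; omega
        · rw [Finsupp.single_apply, if_neg (Ne.symm hji), add_zero]; exact hm j
      · rw [hmulX]
    · have hmi' : m i = q - 1 := le_antisymm (hm i) (not_lt.1 hmi)
      -- m = m0 + (q-1) e_i
      let m0 : Fin n →₀ ℕ := m.erase i
      have hm0 : m = m0 + Finsupp.single i (q - 1) := by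
        rw [← hmi']; exact (Finsupp.erase_add_single i m).symm
      refine ⟨MvPolynomial.monomial (m0 + Finsupp.single i 1) c, ?_, ?_⟩
      · rw [MvPolynomial.mem_restrictDegree]
        intro s hs j
        have : s = m0 + Finsupp.single i 1 := by
          have := MvPolynomial.support_monomial_subset hs
          simpa using this
        rw [this, Finsupp.add_apply]
        by_cases hji : j = i
        · subst hji; simp [m0]; omega
        · rw [Finsupp.single_apply, if_neg (Ne.symm hji), add_zero]
          simp only [m0, Finsupp.erase_ne hji]
          exact hm j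
      · have e1 : MvPolynomial.monomial m c * MvPolynomial.X i =
            MvPolynomial.monomial m0 c * MvPolynomial.X i ^ q := by
          rw [hmulX, hm0, MvPolynomial.X_pow_eq_monomial, MvPolynomial.monomial_mul, mul_one]
          congr 1
          rw [add_assoc, ← Finsupp.single_add]
          have : q - 1 + 1 = q := by omega
          rw [this]
        rw [e1, map_mul, hxq, ← map_mul, hmulX]
  have hred : ∀ f : MvPolynomial (Fin n) K, ∃ r ∈ MvPolynomial.restrictDegree (Fin n) K (q - 1),
      Ideal.Quotient.mk I f = Ideal.Quotient.mk I r := by
    intro f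
    induction f using MvPolynomial.induction_on with
    | C a =>
      refine ⟨MvPolynomial.C a, ?_, rfl⟩
      rw [MvPolynomial.mem_restrictDegree]
      intro s hs j
      have : s = 0 := by
        have := MvPolynomial.support_monomial_subset (s := 0) (a := a) hs
        simpa using this
      rw [this]; simp
    | add f g hf hg =>
      obtain ⟨r1, h1, e1⟩ := hf
      obtain ⟨r2, h2, e2⟩ := hg
      exact ⟨r1 + r2, Submodule.add_mem _ h1 h2, by rw [map_add, map_add, e1, e2]⟩
    | mul_X f i hf =>
      obtain ⟨r, hr, er⟩ := hf
      -- expand r as sum of monomials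
      have hrsum : r = ∑ s ∈ r.support, MvPolynomial.monomial s (r.coeff s) := r.as_sum
      have : ∀ s ∈ r.support, ∃ t ∈ MvPolynomial.restrictDegree (Fin n) K (q - 1),
          Ideal.Quotient.mk I (MvPolynomial.monomial s (r.coeff s) * MvPolynomial.X i) =
            Ideal.Quotient.mk I t := fun s hs =>
        hmono s _ i ((MvPolynomial.mem_restrictDegree _ _ _).1 hr s hs)
      choose! t ht1 ht2 using this
      refine ⟨∑ s ∈ r.support, t s, Submodule.sum_mem _ ht1, ?_⟩
      rw [map_mul, er, ← map_mul]
      conv_lhs => rw [hrsum, Finset.sum_mul, map_sum]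
      rw [map_sum]
      exact Finset.sum_congr rfl ht2
  obtain ⟨r, hr, er⟩ := hred p
  have hpr : p - r ∈ I := Ideal.Quotient.eq.1 er
  have hr0 : r = 0 := by
    have hreval : ∀ a : Fin n → K, MvPolynomial.eval a r = 0 := by
      intro a
      have := hIeval _ hpr a
      rw [map_sub, hp a, zero_sub, neg_eq_zero] at this
      exact this
    let e : Fin n ≃ ULift.{u} (Fin n) := Equiv.ulift.symm
    have h1 : MvPolynomial.rename e r = 0 := by
      apply MvPolynomial.eq_zero_of_eval_eq_zero (ULift.{u} (Fin n)) K
      · intro v
        rw [MvPolynomial.eval_rename]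
        exact hreval _
      · rw [MvPolynomial.mem_restrictDegree]
        intro s hs j
        have hs' := MvPolynomial.support_rename_of_injective (f := e) e.injective (p := r) ▸ hs
        rw [Finset.mem_image] at hs'
        obtain ⟨s0, hs0, rfl⟩ := hs'
        have := (MvPolynomial.mem_restrictDegree _ _ _).1 hr s0 hs0 (e.symm j)
        rw [Finsupp.mapDomain_equiv_apply]
        exact this
    exact MvPolynomial.rename_injective e e.injective (by rw [h1, map_zero])
  rw [hr0, sub_zero] at hpr
  exact hpr

end Groth.Agent.S13189
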