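import Groth.Statements.S13191


set_option autoImplicit false
universe u v w x
open GalCoh

namespace Groth.Agent.S13191

/-- Let a group G act by automorphisms on a group A, and let E and E' each be a G-equivariant right
A-torsor (a set with a simply transitive right action of A, written m ↦ m·a, and a left action of G
with g(m·a) = (gm)·(ga)). Let m ∈ E and m' ∈ E' be points with attached maps a, a' : G → A (g·m =
m·a(g) and g·m' = m'·a'(g) for all g). Then there is a bijection E ≃ E' commuting with the actions
of G and of A if and only if a and a' are cohomologous. (The published statement is for a Galois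
group acting on discrete modules; this row takes an arbitrary group acting on a group.) -/
theorem result {G : Type u} {A : Type v} {E : Type w} {E' : Type x}
    [Group G] [Group A] [MulDistribMulAction G A]
    [MulAction G E] [MulAction Aᵐᵒᵖ E]
    (hfree : ∀ m₁ m₂ : E, ∃! a : A, m₂ = MulOpposite.op a • m₁)
    (hcompat : ∀ (g : G) (a : A) (m : E), g • (MulOpposite.op a • m) = MulOpposite.op (g • a) • g • m)
    [MulAction G E'] [MulAction Aᵐᵒᵖ E']
    (hfree' : ∀ m₁ m₂ : E', ∃! a : A, m₂ = MulOpposite.op a • m₁)
    (hcompat' : ∀ (g : G) (a : A) (m : E'), g • (MulOpposite.op a • m) = MulOpposite.op (g • a) • g • m)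
    (m : E) (a : G → A) (ha : ∀ g : G, g • m = MulOpposite.op (a g) • m)
    (m' : E') (a' : G → A) (ha' : ∀ g : G, g • m' = MulOpposite.op (a' g) • m') :
    (∃ f : E ≃ E', (∀ (g : G) (e : E), f (g • e) = g • f e) ∧
        ∀ (b : A) (e : E), f (MulOpposite.op b • e) = MulOpposite.op b • f e) ↔
      GpH1.Cohomologous a a' := by
  -- coordinates
  have hcoord : ∀ e : E, ∃ x : A, e = MulOpposite.op x • m ∧
      ∀ y : A, e = MulOpposite.op y • m → y = x := fun e => by
    obtain ⟨x, hx, hu⟩ := hfree m e
    exact ⟨x, hx, hu⟩
  have hcoord' : ∀ e : E', ∃ x : A, e = MulOpposite.op x • m' ∧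
      ∀ y : A, e = MulOpposite.op y • m' → y = x := fun e => by
    obtain ⟨x, hx, hu⟩ := hfree' m' e
    exact ⟨x, hx, hu⟩
  have hinj : ∀ x y : A, MulOpposite.op x • m = MulOpposite.op y • m → x = y := by
    intro x y hxy
    obtain ⟨z, -, hz⟩ := hfree m (MulOpposite.op x • m)
    rw [hz x rfl, hz y hxy]
  have hinj' : ∀ x y : A, MulOpposite.op x • m' = MulOpposite.op y • m' → x = y := by
    intro x y hxy
    obtain ⟨z, -, hz⟩ := hfree' m' (MulOpposite.op x • m')
    rw [hz x rfl, hz y hxy]
  have hop : ∀ (x y : A) (e : E), MulOpposite.op y • MulOpposite.op x • e =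
      MulOpposite.op (x * y) • e := by
    intro x y e
    rw [← mul_smul, ← MulOpposite.op_mul]
  have hop' : ∀ (x y : A) (e : E'), MulOpposite.op y • MulOpposite.op x • e =
      MulOpposite.op (x * y) • e := by
    intro x y e
    rw [← mul_smul, ← MulOpposite.op_mul]
  constructor
  · rintro ⟨f, hfG, hfA⟩
    obtain ⟨c, hc, -⟩ := hcoord' (f m)
    refine ⟨c, fun g => ?_⟩
    have h1 : f (g • m) = MulOpposite.op (c * a g) • m' := by
      rw [ha g, hfA, hc, hop']
    have h2 : f (g • m) = MulOpposite.op (a' g * g • c) • m' := by
      rw [hfG, hc, hcompat', ha' g, hop']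
    have h3 := hinj' _ _ (h1.symm.trans h2)
    rw [mul_assoc, ← h3, inv_mul_cancel_left]
  · rintro ⟨c, hc⟩
    have hc' : ∀ g, c * a g = a' g * g • c := by
      intro g
      rw [hc g]
      group
    let coord : E → A := fun e => (hcoord e).choose
    have hcs : ∀ e, e = MulOpposite.op (coord e) • m := fun e => (hcoord e).choose_spec.1
    have hcu : ∀ x, coord (MulOpposite.op x • m) = x := fun x =>
      ((hcoord (MulOpposite.op x • m)).choose_spec.2 x rfl).symm
    let coord' : E' → A := fun e => (hcoord' e).choose
    have hcs' : ∀ e, e = MulOpposite.op (coord' e) • m' := fun e => (hcoord' e).choose_spec.1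
    have hcu' : ∀ x, coord' (MulOpposite.op x • m') = x := fun x =>
      ((hcoord' (MulOpposite.op x • m')).choose_spec.2 x rfl).symm
    let f : E ≃ E' :=
      { toFun := fun e => MulOpposite.op (c * coord e) • m'
        invFun := fun e' => MulOpposite.op (c⁻¹ * coord' e') • m
        left_inv := fun e => by
          change MulOpposite.op (c⁻¹ * coord' (MulOpposite.op (c * coord e) • m')) • m = e
          rw [hcu', inv_mul_cancel_left]
          exact (hcs e).symm
        right_inv := fun e' => by
          change MulOpposite.op (c * coord (MulOpposite.op (c⁻¹ * coord' e') • m)) • m' = e'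
          rw [hcu, mul_inv_cancel_left]
          exact (hcs' e').symm }
    have hf : ∀ e, f e = MulOpposite.op (c * coord e) • m' := fun e => rfl
    refine ⟨f, ?_, ?_⟩
    · intro g e
      have h1 : coord (g • e) = a g * g • coord e := by
        have : g • e = MulOpposite.op (a g * g • coord e) • m := by
          conv_lhs => rw [hcs e]
          rw [hcompat, ha g, hop]
        rw [this, hcu]
      rw [hf, hf, h1, hcompat', ha' g, hop', smul_mul', ← mul_assoc, ← mul_assoc, hc' g]
    · intro b e
      have h1 : coord (MulOpposite.op b • e) = coord e * b := by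
        have : MulOpposite.op b • e = MulOpposite.op (coord e * b) • m := by
          conv_lhs => rw [hcs e]
          rw [hop]
        rw [this, hcu]
      rw [hf, hf, h1, hop', mul_assoc]

end Groth.Agent.S13191
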