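import Groth.Statements.S13198
import Groth.Agent.Lib.Helper8.Hens.PITensor2
-- import your own Groth.Agent.* helpers here

set_option autoImplicit false
universe u
open scoped TensorProduct
open Hensel

namespace Groth.Agent.S13198

open Groth.Agent.H8.Hens IsLocalRing in

/-- Let R be a local ring which is strictly henselian (henselian, with separably closed residue field),
A a local ring which is an integral R-algebra with local structure map and whose residue field is
purely inseparable over that of R, and B a local ring with a local homomorphism R → B. Then A ⊗_R B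
is a local ring, the map B → A ⊗_R B is local, and the residue field extension of A ⊗_R B over B is
purely inseparable: every element of A ⊗_R B has a p^n-th power, p the characteristic exponent of
the residue field of B, congruent modulo the maximal ideal to an element 1 ⊗ b. -/
theorem result
    (R A B : Type u) [CommRing R] [HenselianLocalRing R] [IsSepClosed (IsLocalRing.ResidueField R)]
    [CommRing A] [IsLocalRing A] [Algebra R A] [IsLocalHom (algebraMap R A)] [Algebra.IsIntegral R A]
    [IsPurelyInseparable (IsLocalRing.ResidueField R) (IsLocalRing.ResidueField A)]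
    [CommRing B] [IsLocalRing B] [Algebra R B] [IsLocalHom (algebraMap R B)] :
    ∃ _ : IsLocalRing (A ⊗[R] B),
      IsLocalHom (Algebra.TensorProduct.includeRight : B →ₐ[R] A ⊗[R] B).toRingHom ∧
      ∀ x : A ⊗[R] B, ∃ (n : ℕ) (b : B),
        x ^ (ringExpChar (IsLocalRing.ResidueField B)) ^ n - (1 : A) ⊗ₜ[R] b ∈ IsLocalRing.maximalIdeal (A ⊗[R] B) := by
  classical
  haveI : Nontrivial (B ⊗[R] A) := PI.nontrivial_tensor R B A
  haveI hloc' : IsLocalRing (B ⊗[R] A) := PI.isLocalRing_tensor R B A
  let e : B ⊗[R] A ≃ₐ[R] A ⊗[R] B := Algebra.TensorProduct.comm R B A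
  haveI hloc : IsLocalRing (A ⊗[R] B) := e.toRingEquiv.isLocalRing
  refine ⟨hloc, ?_, ?_⟩
  · haveI := PI.isLocalHom_includeLeft R B A
    constructor
    intro b hb
    have hb' : IsUnit ((1 : A) ⊗ₜ[R] b) := hb
    have h1 : IsUnit (e.symm ((1 : A) ⊗ₜ[R] b)) := hb'.map e.symm
    have h2 : e.symm ((1 : A) ⊗ₜ[R] b) = algebraMap B (B ⊗[R] A) b := by
      simp [e, Algebra.TensorProduct.algebraMap_apply]
    rw [h2] at h1
    exact IsLocalHom.map_nonunit (f := algebraMap B (B ⊗[R] A)) b h1
  · intro x
    haveI : ExpChar (ResidueField R) (ringExpChar (ResidueField B)) :=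
      (algebraMap (ResidueField R) (ResidueField B)).expChar (algebraMap (ResidueField R) (ResidueField B)).injective _
    obtain ⟨n, b, hb⟩ := PI.exists_pow_sub_mem_maximalIdeal R B A
      (ringExpChar (ResidueField B)) (e.symm x)
    refine ⟨n, b, ?_⟩
    have h3 : e (e.symm x ^ (ringExpChar (ResidueField B)) ^ n - b ⊗ₜ[R] (1 : A)) ∈
        maximalIdeal (A ⊗[R] B) := by
      rw [mem_maximalIdeal, mem_nonunits_iff] at hb ⊢
      intro hu
      apply hb
      have := hu.map e.symm
      simpa using this
    simpa [e] using h3

end Groth.Agent.S13198
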