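import Groth.Statements.S13206
import Mathlib
-- import your own Groth.Agent.* helpers here

set_option autoImplicit false
universe u
open CategoryTheory AlgebraicGeometry
open AlgGrp

namespace Groth.Agent.S13206

/-- Let X → S be a separated morphism of schemes and let a finite group G act on X through
S-automorphisms. Then the functor of G-fixed points is represented by a closed subscheme of X: there
are a scheme Z and a closed immersion i : Z → X with i ∘ g = i for all g ∈ G such that every
morphism x : T → X with g ∘ x = x for all g ∈ G factors uniquely through i. (The published statement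
is for an algebraic space X over S, also treats the locally separated case and notes compatibility
with base change; this row is the separated case for schemes.) -/
theorem result
    {X S : Scheme.{u}} (p : X ⟶ S) [IsSeparated p]
    (G : Type u) [Group G] [Finite G] (ρ : G →* Aut X) (hρ : ∀ g : G, (ρ g).hom ≫ p = p) :
    ∃ (Z : Scheme.{u}) (i : Z ⟶ X), IsClosedImmersion i ∧ (∀ g : G, i ≫ (ρ g).hom = i) ∧
      ∀ (T : Scheme.{u}) (x : T ⟶ X), (∀ g : G, x ≫ (ρ g).hom = x) → ∃! z : T ⟶ Z, z ≫ i = x := by
  let X' : Over S := Over.mk p
  let r : G → (X' ⟶ X') := fun g => Over.homMk (ρ g).hom (hρ g)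
  haveI : IsSeparated X'.hom := ‹IsSeparated p›
  let e : ∀ g : G, Limits.equalizer (r g) (𝟙 X') ⟶ X' := fun g => Limits.equalizer.ι (r g) (𝟙 X')
  have he : ∀ g, IsClosedImmersion (e g).left := fun g => inferInstance
  have hcond : ∀ g, (e g).left ≫ (ρ g).hom = (e g).left := by
    intro g
    have := congrArg CommaMorphism.left (Limits.equalizer.condition (r g) (𝟙 X'))
    simpa [r] using this
  let I : X.IdealSheafData := ⨆ g, (e g).left.ker
  refine ⟨I.subscheme, I.subschemeι, inferInstance, ?_, ?_⟩
  · intro g
    haveI := he g
    have hle : (e g).left.ker ≤ I.subschemeι.ker := by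
      rw [Scheme.IdealSheafData.ker_subschemeι]
      exact le_iSup (fun g => (e g).left.ker) g
    have hfac := IsClosedImmersion.lift_fac (e g).left I.subschemeι hle
    rw [← hfac, Category.assoc, hcond g]
  · intro T x hx
    have hle : I.subschemeι.ker ≤ x.ker := by
      rw [Scheme.IdealSheafData.ker_subschemeι]
      refine iSup_le fun g => ?_
      let T' : Over S := Over.mk (x ≫ p)
      let x' : T' ⟶ X' := Over.homMk x rfl
      have hx' : x' ≫ r g = x' ≫ 𝟙 X' := by
        ext
        simpa [x', r] using hx g
      have h2 : (Limits.equalizer.lift x' hx').left ≫ (e g).left = x := by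
        have := congrArg CommaMorphism.left (Limits.equalizer.lift_ι x' hx')
        exact this
      rw [← h2]
      exact Scheme.Hom.le_ker_comp _ _
    refine ⟨IsClosedImmersion.lift I.subschemeι x hle, IsClosedImmersion.lift_fac _ _ _, ?_⟩
    intro z hz
    rw [← cancel_mono I.subschemeι, hz, IsClosedImmersion.lift_fac]

end Groth.Agent.S13206
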