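import Groth.Statements.S1323
import Mathlib
import Groth.Agent.Lib.Helper1.ThickFin
import Groth.Agent.Lib.Helper1.DeformFP

set_option autoImplicit false
universe u
open FlatMor

namespace Groth.Agent.S1323

open AlgebraicGeometry CategoryTheory Limits in
/-- Let S ⟶ S' be a finite order thickening, let X' ⟶ Y' be a morphism of schemes over S' with X' flat
over S', and let X ⟶ Y be its base change to S. Then X ⟶ Y is finite locally free of rank d if and
only if X' ⟶ Y' is. -/
theorem result (d : ℕ) {X X' Y Y' S S' : Scheme.{u}} (iX : X ⟶ X') (iY : Y ⟶ Y') (iS : S ⟶ S')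
    (f : X ⟶ Y) (f' : X' ⟶ Y') (g : Y ⟶ S) (g' : Y' ⟶ S')
    (hS : MoreMor.IsFiniteOrderThickening iS) (hcX : IsPullback iX (f ≫ g) (f' ≫ g') iS) (hcY : IsPullback iY g g' iS)
    (w : iX ≫ f' = f ≫ iY) [Flat (f' ≫ g')] :
    Mor2.IsFinLocFreeOfDeg d f ↔ Mor2.IsFinLocFreeOfDeg d f' := by
  have hXY := Groth.Agent.H1.isPullback_of_deformation hcX hcY w
  have hY : MoreMor.IsFiniteOrderThickening iY :=
    Groth.Agent.H1.IsFiniteOrderThickening.of_isPullback hcY.flip hS
  have := hS.1.1
  have := hY.1.1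
  have hX : MoreMor.IsThickening iX := Groth.Agent.H1.IsThickening.of_isPullback hXY.flip hY.1
  have := hX.1
  constructor
  · rintro ⟨⟨h1, h2, h3⟩, hd⟩
    haveI := h1
    haveI : IsAffineHom f' :=
      (Groth.Agent.H1.ThickAff.isAffineHom_iff_of_thickening iX iY f f' hX.2.surj w).mp
        inferInstance
    have hfin : IsFinite f' := by
      refine ⟨fun U hU => ?_⟩
      have hV : IsAffineOpen (f' ⁻¹ᵁ U) := hU.preimage f'
      have hpo := Groth.Agent.H1.isPushout_appLE_of_isPullback hXY hU hV le_rfl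
      have hnil : IsNilpotent (RingHom.ker (iY.app U).hom) :=
        Groth.Agent.H1.IsFiniteOrderThickening.isNilpotent_ker_app hY hU
      have hop : iX ⁻¹ᵁ f' ⁻¹ᵁ U = f ⁻¹ᵁ iY ⁻¹ᵁ U := by
        change (iX ≫ f') ⁻¹ᵁ U = (f ≫ iY) ⁻¹ᵁ U
        rw [w]
      have hfin : (f.appLE (iY ⁻¹ᵁ U) (iX ⁻¹ᵁ (f' ⁻¹ᵁ U)) hop.le).hom.Finite := by
        rw [Scheme.Hom.appLE, CommRingCat.hom_comp]
        refine RingHom.Finite.comp ?_ (f.finite_app _ (hU.preimage iY))
        apply RingHom.Finite.of_surjective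
        have h2 : (homOfLE hop.le) = eqToHom hop := Subsingleton.elim _ _
        rw [h2]
        exact (ConcreteCategory.bijective_of_isIso (X.presheaf.map (eqToHom hop).op)).2
      have := Groth.Agent.H1.finite_of_isPushout_cat hpo (iY.app_surjective U hU) hnil hfin
      rwa [← Scheme.Hom.app_eq_appLE] at this
    have hflat : Flat f' := Groth.Agent.H1.flat_of_deformation hS hcX hcY w h2
    have hfp : LocallyOfFinitePresentation f' :=
      Groth.Agent.H1.locallyOfFinitePresentation_of_deformation hS hcX hcY w h3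
    refine ⟨⟨hfin, hflat, hfp⟩, fun y' => ?_⟩
    obtain ⟨y, rfl⟩ := hY.1.2.surj y'
    rw [← Scheme.Hom.finrank_of_isPullback iX f f' iY hXY y]
    exact hd y
  · rintro ⟨⟨h1, h2, h3⟩, hd⟩
    haveI := h1
    haveI := h2
    refine ⟨⟨MorphismProperty.of_isPullback hXY h1, MorphismProperty.of_isPullback hXY h2,
      MorphismProperty.of_isPullback hXY h3⟩, fun y => ?_⟩
    rw [Scheme.Hom.finrank_of_isPullback iX f f' iY hXY y]
    exact hd _

end Groth.Agent.S1323
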