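import Groth.Statements.S1330
import Mathlib
import Groth.Agent.Lib.Helper1.GenFib1
import Groth.Agent.Lib.Helper1.GenFibAlg1

set_option autoImplicit false
universe u
open FlatMor

namespace Groth.Agent.S1330

open AlgebraicGeometry CategoryTheory Limits in
/-- Let f be of finite type with irreducible target. If the generic fibre is not reduced, then over some
nonempty open of the target no fibre is reduced. -/
theorem result {X Y : Scheme.{u}} (f : X ⟶ Y) [IrreducibleSpace ↑Y] [LocallyOfFiniteType f] [QuasiCompact f]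
    (h : ¬ IsReduced (f.fiber (genericPoint ↑Y))) :
    ∃ V : Y.Opens, (V : Set ↑Y).Nonempty ∧ ∀ y ∈ V, ¬ IsReduced (f.fiber y) := by
  open TensorProduct Groth.Agent.H1.GenFib in
  obtain ⟨W, hW, hη⟩ := exists_isAffineOpen_genericPoint_mem Y
  -- a non-reduced affine piece of the generic fibre
  have hpiece : ∃ (U : X.Opens) (_ : IsAffineOpen U) (e : U ≤ f ⁻¹ᵁ W),
      letI := (f.appLE W U e).hom.toAlgebra
      letI := (Y.evaluation W (genericPoint Y) hη).hom.toAlgebra
      ¬ _root_.IsReduced (Y.residueField (genericPoint Y) ⊗[Γ(Y, W)] Γ(X, U)) := by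
    by_contra hcon
    push Not at hcon
    exact h (isReduced_fiber_of_forall f hW (genericPoint Y) hη hcon)
  obtain ⟨U, hU, e, hnr⟩ := hpiece
  letI := (f.appLE W U e).hom.toAlgebra
  letI algK := (Y.evaluation W (genericPoint Y) hη).hom.toAlgebra
  haveI : Algebra.FiniteType Γ(Y, W) Γ(X, U) := f.finiteType_appLE hW hU e
  obtain ⟨g, hg, H⟩ := exists_forall_not_isReduced Γ(Y, W) Γ(X, U)
    (Y.residueField (genericPoint Y))
    (fun z => Groth.Agent.H1.GenFin.exists_frac_evaluation hW (genericPoint Y) hη z)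
    (fun r hr => isNilpotent_of_evaluation_genericPoint hW hη r hr) hnr
  refine ⟨Y.basicOpen g, ⟨genericPoint Y, ?_⟩, ?_⟩
  · exact (Scheme.evaluation_ne_zero_iff_mem_basicOpen Y (genericPoint Y) hη g).mp hg
  · intro y hy hred
    have hyW : y ∈ W := Y.basicOpen_le g hy
    letI := (Y.evaluation W y hyW).hom.toAlgebra
    refine H (Y.residueField y) ?_ ?_
    · exact (Scheme.evaluation_ne_zero_iff_mem_basicOpen Y y hyW g).mpr hy
    · exact isReduced_tensor_of_isReduced_fiber f hU hW e y hyW

end Groth.Agent.S1330
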