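import Groth.Statements.S1331
import Mathlib
import Groth.Agent.Lib.Helper1.GenFib1
import Groth.Agent.Lib.Helper1.GenFibAlg2

set_option autoImplicit false
universe u
open FlatMor

namespace Groth.Agent.S1331

open AlgebraicGeometry CategoryTheory Limits in
/-- Let f be of finite type with irreducible target. If the generic fibre is not geometrically reduced,
then over some nonempty open of the target no fibre is geometrically reduced. -/
theorem result {X Y : Scheme.{u}} (f : X ⟶ Y) [IrreducibleSpace ↑Y] [LocallyOfFiniteType f] [QuasiCompact f]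
    (h : ¬ GeometricallyReduced (f.fiberToSpecResidueField (genericPoint ↑Y))) :
    ∃ V : Y.Opens, (V : Set ↑Y).Nonempty ∧ ∀ y ∈ V, ¬ GeometricallyReduced (f.fiberToSpecResidueField y) := by
  open TensorProduct Groth.Agent.H1.GenFib in
  obtain ⟨W, hW, hη⟩ := exists_isAffineOpen_genericPoint_mem Y
  rw [geometricallyReduced_iff] at h
  simp only [geometrically] at h
  push Not at h
  obtain ⟨K', _, t, Z, fst, snd, hZ, hZnr⟩ := h
  -- the point as a ring map
  let τ : Y.residueField (genericPoint Y) ⟶ CommRingCat.of K' := Spec.preimage t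
  have hτ : Spec.map τ = t := Spec.map_preimage t
  letI algK : Algebra Γ(Y, W) (Y.residueField (genericPoint Y)) :=
    (Y.evaluation W (genericPoint Y) hη).hom.toAlgebra
  letI algKK' : Algebra (Y.residueField (genericPoint Y)) K' := τ.hom.toAlgebra
  letI algK' : Algebra Γ(Y, W) K' := (Y.evaluation W (genericPoint Y) hη ≫ τ).hom.toAlgebra
  haveI : IsScalarTower Γ(Y, W) (Y.residueField (genericPoint Y)) K' :=
    IsScalarTower.of_algebraMap_eq (fun x => rfl)
  have hZ' : IsPullback (fst ≫ f.fiberι (genericPoint Y)) snd f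
      (Spec.map (CommRingCat.ofHom (algebraMap Γ(Y, W) K')) ≫ hW.fromSpec) := by
    have h1 := isPullback_fiber_paste f (genericPoint Y) t fst snd hZ
    have h2 : t ≫ Y.fromSpecResidueField (genericPoint Y) =
        Spec.map (CommRingCat.ofHom (algebraMap Γ(Y, W) K')) ≫ hW.fromSpec := by
      rw [← hτ, ← SpecMap_evaluation_fromSpec hW (genericPoint Y) hη, ← Category.assoc,
        ← Spec.map_comp]
      rfl
    rwa [h2] at h1
  -- a non-reduced affine piece
  have hpiece : ∃ (U : X.Opens) (_ : IsAffineOpen U) (e : U ≤ f ⁻¹ᵁ W),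
      letI := (f.appLE W U e).hom.toAlgebra
      ¬ _root_.IsReduced (K' ⊗[Γ(Y, W)] Γ(X, U)) := by
    by_contra hcon
    push Not at hcon
    exact hZnr (isReduced_of_forall f hW _ snd hZ' hcon)
  obtain ⟨U, hU, e, hnr⟩ := hpiece
  letI := (f.appLE W U e).hom.toAlgebra
  haveI : Algebra.FiniteType Γ(Y, W) Γ(X, U) := f.finiteType_appLE hW hU e
  obtain ⟨g, hg, H⟩ := exists_forall_prime_exists_not_isReduced Γ(Y, W) Γ(X, U)
    (Y.residueField (genericPoint Y))
    (fun r hr => isNilpotent_of_evaluation_genericPoint hW hη r hr) K' hnr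
  refine ⟨Y.basicOpen g, ⟨genericPoint Y, ?_⟩, ?_⟩
  · exact (Scheme.evaluation_ne_zero_iff_mem_basicOpen Y (genericPoint Y) hη g).mp hg
  · intro y hy hgr
    have hyW : y ∈ W := Y.basicOpen_le g hy
    letI algy : Algebra Γ(Y, W) (Y.residueField y) := (Y.evaluation W y hyW).hom.toAlgebra
    have hgy : g ∉ RingHom.ker (algebraMap Γ(Y, W) (Y.residueField y)) := by
      rw [RingHom.mem_ker]
      exact (Scheme.evaluation_ne_zero_iff_mem_basicOpen Y y hyW g).mpr hy
    obtain ⟨L, _, _, hkerL, hnrL⟩ := H _ (RingHom.ker_isPrime _) hgy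
    -- the map from the residue field to `L`
    letI : Algebra (Γ(Y, W) ⧸ RingHom.ker (algebraMap Γ(Y, W) (Y.residueField y)))
        (Y.residueField y) := (RingHom.kerLift (algebraMap Γ(Y, W) (Y.residueField y))).toAlgebra
    haveI : IsFractionRing (Γ(Y, W) ⧸ RingHom.ker (algebraMap Γ(Y, W) (Y.residueField y)))
        (Y.residueField y) := isFractionRing_quotient_ker Γ(Y, W) (Y.residueField y)
      (fun z => Groth.Agent.H1.GenFin.exists_frac_evaluation hW y hyW z)
    have hle : ∀ a ∈ RingHom.ker (algebraMap Γ(Y, W) (Y.residueField y)),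
        algebraMap Γ(Y, W) L a = 0 := by
      intro a ha
      rw [← hkerL] at ha
      exact (RingHom.mem_ker).mp ha
    have hinj : Function.Injective (Ideal.Quotient.lift _ (algebraMap Γ(Y, W) L) hle) :=
      RingHom.lift_injective_of_ker_le_ideal _ hle (le_of_eq hkerL)
    let ι : Y.residueField y →+* L := IsFractionRing.lift (K := Y.residueField y) hinj
    have hι : ∀ r : Γ(Y, W), ι (Y.evaluation W y hyW r) = algebraMap Γ(Y, W) L r := by
      intro r
      have := IsFractionRing.lift_algebraMap (K := Y.residueField y) hinj (Ideal.Quotient.mk _ r)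
      exact this
    -- the base change of the fibre to `L`
    let t' : Spec (CommRingCat.of L) ⟶ Spec (Y.residueField y) := Spec.map (CommRingCat.ofHom ι)
    have hpb := IsPullback.of_hasPullback (f.fiberToSpecResidueField y) t'
    haveI : IsReduced (pullback (f.fiberToSpecResidueField y) t') :=
      GeometricallyReduced.geometrically_isReduced t' _ _ hpb
    have hZ'' : IsPullback (pullback.fst (f.fiberToSpecResidueField y) t' ≫ f.fiberι y)
        (pullback.snd (f.fiberToSpecResidueField y) t') f
        (Spec.map (CommRingCat.ofHom (algebraMap Γ(Y, W) L)) ≫ hW.fromSpec) := by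
      have h1 := isPullback_fiber_paste f y t' _ _ hpb
      have h2 : t' ≫ Y.fromSpecResidueField y =
          Spec.map (CommRingCat.ofHom (algebraMap Γ(Y, W) L)) ≫ hW.fromSpec := by
        rw [← SpecMap_evaluation_fromSpec hW y hyW, ← Category.assoc, ← Spec.map_comp]
        congr 2
        ext r
        exact hι r
      rwa [h2] at h1
    exact hnrL (isReduced_tensor_of_isReduced f hU hW e _ _ hZ'')

end Groth.Agent.S1331
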