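import Groth.Statements.S13342
import Groth.Agent.Lib.Helper2.FSchAdic

set_option autoImplicit false
open CategoryTheory CategoryTheory.Limits
universe u
open FCompl

namespace Groth.Agent.S13342

open AlgebraicGeometry in
/-- The formal prescheme induced on an open subset of a formal prescheme (resp. of a locally Noetherian
formal prescheme, resp. of a Noetherian formal prescheme) is a formal prescheme (resp. a locally
Noetherian formal prescheme, resp. a Noetherian formal prescheme). In the presentation by systems of
thickenings with common underlying space: for an open U, the induced system (the open subschemes of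
the levels over U with the restricted transition maps) is again a system of thickenings; it is adic
with locally Noetherian levels when the given system is; and if moreover the common underlying space
is quasi-compact (a Noetherian formal prescheme), so is that of the induced system. -/
theorem result (𝔛 : FSch.Sys.{u}) (h : 𝔛.IsFormal) (U : (𝔛.X 0).Opens) :
    (𝔛.restrictOpen h U).IsFormal ∧ (𝔛.IsLocNoethFormal → (𝔛.restrictOpen h U).IsLocNoethFormal) ∧
      (𝔛.IsLocNoethFormal → CompactSpace (𝔛.X 0) → CompactSpace ((𝔛.restrictOpen h U).X 0)) := by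
  have hA : FSch.IsAdicHom (𝔛.restrictOpenι h U) := by
    intro n
    have key : ∀ {X Y : Scheme.{u}} (f : X ⟶ Y) (V : Y.Opens) (V' : X.Opens) (_ : f ⁻¹ᵁ V = V')
        (e : V' ≤ f ⁻¹ᵁ V), IsPullback (f.resLE V V' e) V'.ι V.ι f := by
      intro X Y f V V' heq e
      subst heq
      rw [Scheme.Hom.resLE_eq_morphismRestrict]
      exact isPullback_morphismRestrict f V
    exact key (𝔛.ι n) _ _ (𝔛.lvU_succ h n U) _
  have hF := Groth.Agent.H2.FSchAdic.isFormal_of_isAdicHom _ hA h
  refine ⟨hF, fun hN => ⟨hF, Groth.Agent.H2.FSchAdic.isAdic_of_isAdicHom _ hA h hN.2.1, fun n => ?_⟩,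
    fun hN hC => ?_⟩
  · haveI := hN.2.2 n
    show IsLocallyNoetherian ((𝔛.lvU h n U : (𝔛.X n).Opens) : Scheme)
    infer_instance
  · haveI := hN.2.2 0
    haveI : IsNoetherian (𝔛.X 0) := {}
    haveI : TopologicalSpace.NoetherianSpace (𝔛.X 0) := inferInstance
    show CompactSpace ↥(𝔛.lvU h 0 U)
    exact isCompact_iff_compactSpace.mp (TopologicalSpace.NoetherianSpace.isCompact _)

end Groth.Agent.S13342
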