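import Groth.Statements.S13353
import Mathlib

set_option autoImplicit false
universe u
open scoped TensorProduct
open AdicRing

namespace Groth.Agent.S13353

namespace Aux


/-- an integral element which has an inverse coming from the base ring comes from the base ring -/
theorem mem_range_of_isIntegral_of_mul_eq_one {D E : Type*} [CommRing D] [CommRing E] [Algebra D E]
    (u : E) (hu : IsIntegral D u) (d : D) (hud : u * algebraMap D E d = 1) :
    ∃ e : D, algebraMap D E e = u := by
  obtain ⟨p, hp, hpu⟩ := hu
  have hinv : Invertible u := ⟨algebraMap D E d, by rw [mul_comm]; exact hud, hud⟩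
  have h1 := Polynomial.eval₂_reverse_mul_pow (algebraMap D E) u p
  rw [hpu] at h1
  have hupow : IsUnit (u ^ p.natDegree) := (isUnit_of_invertible u).pow _
  have h2 : Polynomial.eval₂ (algebraMap D E) (⅟u) p.reverse = 0 := by
    exact (hupow.mul_left_eq_zero).mp h1
  have hinvu : ⅟u = algebraMap D E d := invOf_eq_right_inv hud
  rw [hinvu] at h2
  have h3 : p.reverse = p.reverse.divX * Polynomial.X + Polynomial.C 1 := by
    have := Polynomial.divX_mul_X_add p.reverse
    rw [Polynomial.coeff_zero_reverse, hp.leadingCoeff] at this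
    exact this.symm
  rw [h3, Polynomial.eval₂_add, Polynomial.eval₂_mul, Polynomial.eval₂_X, Polynomial.eval₂_C,
    map_one] at h2
  refine ⟨-(Polynomial.eval d p.reverse.divX), ?_⟩
  have h4 : Polynomial.eval₂ (algebraMap D E) (algebraMap D E d) p.reverse.divX =
      algebraMap D E (Polynomial.eval d p.reverse.divX) := by
    rw [Polynomial.eval₂_at_apply]
  rw [h4] at h2
  have h5 : algebraMap D E (Polynomial.eval d p.reverse.divX) * algebraMap D E d = -1 :=
    eq_neg_of_add_eq_zero_left h2
  calc algebraMap D E (-(Polynomial.eval d p.reverse.divX))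
      = -(algebraMap D E (Polynomial.eval d p.reverse.divX)) * (u * algebraMap D E d) := by
        rw [hud, mul_one, map_neg]
    _ = -(algebraMap D E (Polynomial.eval d p.reverse.divX) * algebraMap D E d) * u := by ring
    _ = u := by rw [h5]; ring



theorem not_isUnit_of_isAdicComplete (R : Type u) [CommRing R] [Nontrivial R] (t : R)
    [IsAdicComplete (Ideal.span {t}) R] : ¬ IsUnit t := by
  intro ht
  have htop : Ideal.span {t} = ⊤ := Ideal.span_singleton_eq_top.mpr ht
  have hH : IsHausdorff (Ideal.span {t}) R := inferInstance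
  have := hH.haus' (1 : R) (fun n => by
    rw [htop, Ideal.top_pow, smul_eq_mul, Ideal.top_mul]
    exact SModEq.top)
  exact one_ne_zero this

theorem exists_pow_dvd (R : Type u) [CommRing R] [IsDomain R] [ValuationRing R]
    [Ring.KrullDimLE 1 R] (t : R) (ht : ¬ IsUnit t) (c : R) (hc : c ≠ 0) :
    ∃ m : ℕ, c ∣ t ^ m := by
  have hmem : t ∈ (Ideal.span {c}).radical := by
    rw [Ideal.radical_eq_sInf, Ideal.mem_sInf]
    rintro P ⟨hcP, hP⟩
    have hPne : P ≠ ⊥ := by
      rintro rfl
      exact hc (by simpa using hcP (Ideal.mem_span_singleton_self c))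
    have hPmax : P.IsMaximal :=
      Ring.krullDimLE_one_iff_of_noZeroDivisors.mp ‹_› P hPne hP
    have : P = IsLocalRing.maximalIdeal R := IsLocalRing.eq_maximalIdeal hPmax
    rw [this]
    exact (IsLocalRing.mem_maximalIdeal t).mpr ht
  obtain ⟨m, hm⟩ := hmem
  exact ⟨m, Ideal.mem_span_singleton.mp hm⟩

theorem torsionFree_of_noPowTorsion (R : Type u) [CommRing R] [IsDomain R] [ValuationRing R]
    [Ring.KrullDimLE 1 R] (t : R) [IsAdicComplete (Ideal.span {t}) R]
    (D : Type u) [AddCommGroup D] [Module R D] (hD : AdicRing.NoPowTorsion (Ideal.span {t}) D)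
    (r : R) (hr : r ≠ 0) (x : D) (hx : r • x = 0) : x = 0 := by
  obtain ⟨m, s, hs⟩ := exists_pow_dvd R t (not_isUnit_of_isAdicComplete R t) r hr
  apply hD x m
  intro a ha
  rw [Ideal.span_singleton_pow, Ideal.mem_span_singleton] at ha
  obtain ⟨b, rfl⟩ := ha
  rw [hs, show r * s * b = (s * b) * r by ring, mul_smul, hx, smul_zero]



theorem includeLeft_injective (R : Type u) [CommRing R] [IsDomain R] (D : Type u) [CommRing D]
    [Algebra R D] (htf : ∀ r : R, r ≠ 0 → ∀ x : D, r • x = 0 → x = 0) :
    Function.Injective (Algebra.TensorProduct.includeLeft : D →ₐ[R] D ⊗[R] FractionRing R) := by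
  rw [injective_iff_map_eq_zero]
  intro x hx
  have h1 : (TensorProduct.mk R (FractionRing R) D 1) x = 0 := by
    have := congrArg (TensorProduct.comm R D (FractionRing R)) hx
    simpa using this
  rw [IsLocalizedModule.eq_zero_iff (nonZeroDivisors R)] at h1
  obtain ⟨s, hs⟩ := h1
  exact htf s.1 (nonZeroDivisors.ne_zero s.2) x hs

theorem smul_injective_tensor (R : Type u) [CommRing R] [IsDomain R] (D : Type u) [CommRing D]
    [Algebra R D] (c : R) (hc : c ≠ 0) (y : D ⊗[R] FractionRing R) (hy : c • y = 0) : y = 0 := by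
  let μ : D ⊗[R] FractionRing R →ₗ[R] D ⊗[R] FractionRing R :=
    LinearMap.lTensor D (LinearMap.mulLeft R ((algebraMap R (FractionRing R) c)⁻¹))
  have hμ : ∀ z : D ⊗[R] FractionRing R, μ (c • z) = z := by
    intro z
    induction z using TensorProduct.induction_on with
    | zero => simp
    | tmul d k =>
      rw [map_smul]
      simp only [μ, LinearMap.lTensor_tmul, LinearMap.mulLeft_apply]
      rw [← TensorProduct.tmul_smul, Algebra.smul_def, ← mul_assoc, mul_inv_cancel₀, one_mul]
      exact (map_ne_zero_iff _ (IsFractionRing.injective R (FractionRing R))).mpr hc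
    | add a b ha hb => rw [smul_add, map_add, ha, hb]
  rw [← hμ y, hy, map_zero]


/-- the core: if every `φ (g i)` is a multiple of `c`, the conclusion holds -/
theorem core (R : Type u) [CommRing R] [IsDomain R] [ValuationRing R] [Ring.KrullDimLE 1 R]
    (t : R) [IsAdicComplete (Ideal.span {t}) R]
    (A : Type u) [CommRing A] [Algebra R A]
    (n : ℕ) (f : Fin n → A ⊗[R] FractionRing R)
    (c : R) (hc : c ≠ 0) (g : Fin n → A)
    (hg : ∀ i, algebraMap A (A ⊗[R] FractionRing R) (g i) = c • f i)
    (D : Type u) [CommRing D] [Algebra R D] (hD : AdicRing.NoPowTorsion (Ideal.span {t}) D)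
    (φ : A →ₐ[R] D)
    (hmul : ∀ i, ∃ d : D, φ (g i) = algebraMap R D c * d) :
    (Ideal.span (insert (algebraMap R A c) (Set.range g))).map φ = Ideal.span {algebraMap R D c} ∧
      ∃! ψ : ↥(Algebra.adjoin A (Set.range f)) →ₐ[R] D,
        ψ.comp (IsScalarTower.toAlgHom R A ↥(Algebra.adjoin A (Set.range f))) = φ := by
  have htf := torsionFree_of_noPowTorsion R t D hD
  have hιinj := includeLeft_injective R D htf
  set ιD : D →ₐ[R] D ⊗[R] FractionRing R := Algebra.TensorProduct.includeLeft with hιD
  set φK : A ⊗[R] FractionRing R →ₐ[R] D ⊗[R] FractionRing R :=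
    Algebra.TensorProduct.map φ (AlgHom.id R (FractionRing R)) with hφK
  have hF1 : ∀ a : A, φK (algebraMap A (A ⊗[R] FractionRing R) a) = ιD (φ a) := by
    intro a
    rw [Algebra.TensorProduct.algebraMap_apply]
    simp [hφK, hιD]
  choose d hd using hmul
  have hfd : ∀ i, φK (f i) = ιD (d i) := by
    intro i
    apply sub_eq_zero.mp
    apply smul_injective_tensor R D c hc
    rw [smul_sub, ← map_smul, ← hg i, hF1, hd i, sub_eq_zero, ← map_smul, Algebra.smul_def]
  constructor
  · rw [Ideal.map_span]
    apply le_antisymm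
    · rw [Ideal.span_le]
      rintro _ ⟨x, hx, rfl⟩
      rcases hx with rfl | ⟨i, rfl⟩
      · rw [AlgHom.commutes]
        exact Ideal.subset_span rfl
      · change φ (g i) ∈ _
        rw [hd i]
        exact Ideal.mul_mem_right _ _ (Ideal.subset_span rfl)
    · rw [Ideal.span_le]
      rintro _ rfl
      apply Ideal.subset_span
      exact ⟨algebraMap R A c, Set.mem_insert _ _, AlgHom.commutes _ _⟩
  · -- construction
    set A' := Algebra.adjoin A (Set.range f) with hA'
    have hmem : ∀ x : ↥A', (φK.comp (A'.val.restrictScalars R)) x ∈ ιD.range := by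
      rintro ⟨x, hx⟩
      change φK x ∈ ιD.range
      induction hx using Algebra.adjoin_induction with
      | mem y hy =>
        obtain ⟨i, rfl⟩ := hy
        exact ⟨d i, (hfd i).symm⟩
      | algebraMap a => exact ⟨φ a, (hF1 a).symm⟩
      | add x y _ _ hx hy => rw [map_add]; exact Subalgebra.add_mem _ hx hy
      | mul x y _ _ hx hy => rw [map_mul]; exact Subalgebra.mul_mem _ hx hy
    let e := AlgEquiv.ofInjective ιD hιinj
    let ψ : ↥A' →ₐ[R] D :=
      (e.symm : ιD.range →ₐ[R] D).comp ((φK.comp (A'.val.restrictScalars R)).codRestrict ιD.range hmem)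
    have hψ : ∀ x : ↥A', ιD (ψ x) = φK x.1 := by
      intro x
      have : ιD (ψ x) = ((e (e.symm ⟨φK x.1, hmem x⟩) : ιD.range) : D ⊗[R] FractionRing R) := rfl
      rw [this, AlgEquiv.apply_symm_apply]
    have key : ∀ ψ' : ↥A' →ₐ[R] D,
        ψ'.comp (IsScalarTower.toAlgHom R A ↥A') = φ → ∀ x : ↥A', ιD (ψ' x) = φK x.1 := by
      intro ψ' hψ'
      rintro ⟨x, hx⟩
      induction hx using Algebra.adjoin_induction with
      | mem y hy =>
        obtain ⟨i, rfl⟩ := hy
        have h1 : c • (⟨f i, Algebra.subset_adjoin ⟨i, rfl⟩⟩ : ↥A') =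
            IsScalarTower.toAlgHom R A ↥A' (g i) := by
          apply Subtype.ext
          change c • f i = algebraMap A (A ⊗[R] FractionRing R) (g i)
          rw [hg i]
        have e1 : c • ιD (ψ' ⟨f i, Algebra.subset_adjoin ⟨i, rfl⟩⟩) = ιD (φ (g i)) := by
          rw [← map_smul, ← map_smul, h1]
          exact congrArg ιD (AlgHom.congr_fun hψ' (g i))
        have e2 : c • φK (f i) = ιD (φ (g i)) := by rw [← map_smul, ← hg i, hF1]
        apply sub_eq_zero.mp
        apply smul_injective_tensor R D c hc
        rw [smul_sub, e1]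
        change ιD (φ (g i)) - c • φK (f i) = 0
        rw [e2, sub_self]
      | algebraMap a =>
        have e1 : ψ' (IsScalarTower.toAlgHom R A ↥A' a) = φ a := AlgHom.congr_fun hψ' a
        change ιD (ψ' (IsScalarTower.toAlgHom R A ↥A' a)) = φK (algebraMap A _ a)
        rw [e1, hF1]
      | add x y hx hy hx' hy' =>
        have : (⟨x + y, Subalgebra.add_mem _ hx hy⟩ : ↥A') = ⟨x, hx⟩ + ⟨y, hy⟩ := rfl
        rw [this, map_add, map_add, hx', hy']
        exact (map_add φK x y).symm
      | mul x y hx hy hx' hy' =>
        have : (⟨x * y, Subalgebra.mul_mem _ hx hy⟩ : ↥A') = ⟨x, hx⟩ * ⟨y, hy⟩ := rfl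
        rw [this, map_mul, map_mul, hx', hy']
        exact (map_mul φK x y).symm
    refine ⟨ψ, ?_, ?_⟩
    · apply AlgHom.ext
      intro a
      apply hιinj
      rw [AlgHom.comp_apply, hψ]
      exact hF1 a
    · intro ψ' hψ'
      apply AlgHom.ext
      intro x
      apply hιinj
      rw [key ψ' hψ' x, hψ x]

end Aux

/-- Let R be a complete valuation ring of height one with t a nonzero element generating an ideal of
definition and K its field of fractions, A an admissible R-algebra, f_1, ..., f_n elements of A ⊗_R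
K integral over A, c a nonzero element of R and g_1, ..., g_n elements of A with g_i = c f_i in A
⊗_R K; put 𝔞 = (c, g_1, ..., g_n) and A' = A[f_1, ..., f_n] ⊂ A ⊗_R K. If D is an admissible
R-algebra and φ : A → D an R-algebra homomorphism such that the ideal 𝔞D is generated by the image
of c, or by the image of some g_i, then 𝔞D is generated by c and φ extends to exactly one R-algebra
homomorphism A' → D. (This is the universal property through which Spf A' → Spf A is identified with
the formal blowing-up of 𝔞 on Spf A; the published hypothesis on the f_i is a supremum-seminorm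
bound, from which their integrality over A is derived.) -/
theorem result
    (R : Type u) [CommRing R] [IsDomain R] [ValuationRing R] [Ring.KrullDimLE 1 R]
    (t : R) (ht : t ≠ 0) [IsAdicComplete (Ideal.span {t}) R]
    (A : Type u) [CommRing A] [Algebra R A] (hA : AdicRing.Admissible R (Ideal.span {t}) A)
    (n : ℕ) (f : Fin n → A ⊗[R] FractionRing R) (hf : ∀ i, IsIntegral A (f i))
    (c : R) (hc : c ≠ 0) (g : Fin n → A)
    (hg : ∀ i, algebraMap A (A ⊗[R] FractionRing R) (g i) = c • f i)
    (D : Type u) [CommRing D] [Algebra R D] (hD : AdicRing.Admissible R (Ideal.span {t}) D)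
    (φ : A →ₐ[R] D)
    (hgen : (Ideal.span (insert (algebraMap R A c) (Set.range g))).map φ =
          Ideal.span {algebraMap R D c} ∨
      ∃ i, (Ideal.span (insert (algebraMap R A c) (Set.range g))).map φ = Ideal.span {φ (g i)}) :
    (Ideal.span (insert (algebraMap R A c) (Set.range g))).map φ = Ideal.span {algebraMap R D c} ∧
      ∃! ψ : ↥(Algebra.adjoin A (Set.range f)) →ₐ[R] D,
        ψ.comp (IsScalarTower.toAlgHom R A ↥(Algebra.adjoin A (Set.range f))) = φ := by
  apply Aux.core R t A n f c hc g hg D hD.2 φ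
  have hmemc : algebraMap R D c ∈ (Ideal.span (insert (algebraMap R A c) (Set.range g))).map φ := by
    have := Ideal.mem_map_of_mem φ (Ideal.subset_span (Set.mem_insert (algebraMap R A c) (Set.range g)))
    rwa [AlgHom.commutes] at this
  have hmemg : ∀ j, φ (g j) ∈ (Ideal.span (insert (algebraMap R A c) (Set.range g))).map φ := fun j =>
    Ideal.mem_map_of_mem φ (Ideal.subset_span (Set.mem_insert_of_mem _ ⟨j, rfl⟩))
  rcases hgen with h | ⟨i₀, h⟩
  · intro j
    have := hmemg j
    rw [h, Ideal.mem_span_singleton'] at this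
    obtain ⟨d, hd⟩ := this
    exact ⟨d, by rw [← hd, mul_comm]⟩
  · -- case (b)
    have htf := Aux.torsionFree_of_noPowTorsion R t D hD.2
    have hιinj := Aux.includeLeft_injective R D htf
    set ιD : D →ₐ[R] D ⊗[R] FractionRing R := Algebra.TensorProduct.includeLeft with hιD
    set φK : A ⊗[R] FractionRing R →ₐ[R] D ⊗[R] FractionRing R :=
      Algebra.TensorProduct.map φ (AlgHom.id R (FractionRing R)) with hφK
    have hF1 : ∀ a : A, φK (algebraMap A (A ⊗[R] FractionRing R) a) = ιD (φ a) := by
      intro a
      rw [Algebra.TensorProduct.algebraMap_apply]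
      simp [hφK, hιD]
    rw [h] at hmemc hmemg
    obtain ⟨d, hd⟩ := Ideal.mem_span_singleton'.mp hmemc
    -- u integral
    have hu : IsIntegral D (φK (f i₀)) := by
      refine IsIntegral.map_of_comp_eq (φ : A →+* D)
        (φK : A ⊗[R] FractionRing R →+* D ⊗[R] FractionRing R) ?_ (hf i₀)
      ext a
      change algebraMap D (D ⊗[R] FractionRing R) (φ a) = φK (algebraMap A _ a)
      rw [hF1, Algebra.TensorProduct.algebraMap_apply]
      rfl
    have hγ : ιD (φ (g i₀)) = c • φK (f i₀) := by rw [← map_smul, ← hg i₀, hF1]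
    have hud : φK (f i₀) * algebraMap D (D ⊗[R] FractionRing R) d = 1 := by
      apply sub_eq_zero.mp
      apply Aux.smul_injective_tensor R D c hc
      rw [smul_sub, sub_eq_zero, ← smul_mul_assoc, ← hγ]
      have : algebraMap D (D ⊗[R] FractionRing R) d = ιD d := by
        rw [Algebra.TensorProduct.algebraMap_apply]; rfl
      rw [this, ← map_mul, mul_comm, hd, ← Algebra.algebraMap_eq_smul_one]
      exact AlgHom.commutes ιD c
    obtain ⟨e, he⟩ := Aux.mem_range_of_isIntegral_of_mul_eq_one _ hu d hud
    have hγe : φ (g i₀) = algebraMap R D c * e := by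
      apply hιinj
      rw [hγ, ← he, ← Algebra.smul_def, map_smul]
      congr 1
    intro j
    obtain ⟨dj, hdj⟩ := Ideal.mem_span_singleton'.mp (hmemg j)
    exact ⟨e * dj, by rw [← hdj, hγe]; ring⟩

end Groth.Agent.S13353
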