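import Groth.Statements.S13360
import Mathlib

set_option autoImplicit false
universe u
open UltraProd

namespace Groth.Agent.S13360

/-- If (R_i) is a nonempty family of valuation rings, then the localization of the product ring ∏ R_i at
any prime ideal is a valuation ring: a domain in which, of any two elements, one divides the other. -/
theorem result {ι : Type u} [Nonempty ι] (R : ι → Type u)
    [∀ i, CommRing (R i)] [∀ i, IsDomain (R i)] [∀ i, ValuationRing (R i)]
    (P : Ideal (∀ i, R i)) [P.IsPrime] :
    IsDomain (Localization.AtPrime P) ∧ PreValuationRing (Localization.AtPrime P) := by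
  classical
  let L := Localization.AtPrime P
  let φ : (∀ i, R i) →+* L := algebraMap (∀ i, R i) L
  have hunit : ∀ s : (∀ i, R i), s ∉ P → IsUnit (φ s) := fun s hs =>
    IsLocalization.map_units L (⟨s, hs⟩ : P.primeCompl)
  -- idempotents: either e or 1 - e becomes 1 in the localization
  have hidem : ∀ e : (∀ i, R i), e * (1 - e) = 0 → φ e = 1 ∨ φ e = 0 := by
    intro e he
    have hprod : φ e * φ (1 - e) = 0 := by rw [← map_mul, he, map_zero]
    by_cases heP : e ∈ P
    · right
      have h1 : (1 - e) ∉ P := by
        intro h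
        have : (1 : ∀ i, R i) ∈ P := by
          have := P.add_mem heP h
          simpa using this
        exact (Ideal.IsPrime.ne_top inferInstance) ((Ideal.eq_top_iff_one P).2 this)
      exact ((hunit _ h1).mul_left_eq_zero).1 hprod
    · left
      have h2 := ((hunit _ heP).mul_right_eq_zero).1 hprod
      rw [map_sub, map_one, sub_eq_zero] at h2
      exact h2.symm
  have hrep : ∀ x : L, ∃ (a : ∀ i, R i) (u : L), IsUnit u ∧ x = φ a * u := by
    intro x
    obtain ⟨a, s, rfl⟩ := IsLocalization.exists_mk'_eq P.primeCompl x
    obtain ⟨v, hv⟩ := hunit s.1 s.2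
    refine ⟨a, ↑v⁻¹, Units.isUnit _, ?_⟩
    rw [IsLocalization.mk'_eq_iff_eq_mul, mul_assoc]
    change φ a = φ a * (↑v⁻¹ * φ s.1)
    rw [← hv, Units.inv_mul, mul_one]
  have hzero : ∀ a b : (∀ i, R i), φ (a * b) = 0 → φ a = 0 ∨ φ b = 0 := by
    intro a b hab
    obtain ⟨m, hm⟩ := (IsLocalization.map_eq_zero_iff P.primeCompl L (a * b)).1 hab
    let e : ∀ i, R i := fun i => if a i = 0 then 0 else 1
    have he : e * (1 - e) = 0 := by
      ext i; by_cases h : a i = 0 <;> simp [e, h]
    have hae : a * e = a := by
      ext i; by_cases h : a i = 0 <;> simp [e, h]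
    have hbe : (m : ∀ i, R i) * b * e = 0 := by
      ext i
      by_cases h : a i = 0
      · simp [e, h]
      · have := congrFun hm i
        simp only [Pi.mul_apply, Pi.zero_apply] at this
        have h2 : (m : ∀ i, R i) i * b i = 0 := by
          rcases mul_eq_zero.1 this with h3 | h3
          · rw [h3, zero_mul]
          · rcases mul_eq_zero.1 h3 with h4 | h4
            · exact absurd h4 h
            · rw [h4, mul_zero]
        simp [e, h, h2]
    rcases hidem e he with h1 | h0
    · right
      have h3 := congrArg φ hbe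
      rw [map_mul, h1, mul_one, map_zero, map_mul] at h3
      exact ((hunit _ m.2).mul_right_eq_zero).1 h3
    · left
      rw [← hae, map_mul, h0, mul_zero]
  constructor
  · haveI : NoZeroDivisors L := ⟨by
      intro x y hxy
      obtain ⟨a, u, hu, rfl⟩ := hrep x
      obtain ⟨b, v, hv, rfl⟩ := hrep y
      have h1 : φ (a * b) * (u * v) = 0 := by rw [map_mul]; linear_combination hxy
      have h2 := ((hu.mul hv).mul_left_eq_zero).1 h1
      rcases hzero a b h2 with h | h
      · left; rw [h, zero_mul]
      · right; rw [h, zero_mul]⟩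
    exact NoZeroDivisors.to_isDomain L
  · constructor
    intro x y
    obtain ⟨a, u, hu, rfl⟩ := hrep x
    obtain ⟨b, v, hv, rfl⟩ := hrep y
    obtain ⟨u', rfl⟩ := hu
    obtain ⟨v', rfl⟩ := hv
    let e : ∀ i, R i := fun i => if a i ∣ b i then 1 else 0
    have he : e * (1 - e) = 0 := by
      ext i; by_cases h : a i ∣ b i <;> simp [e, h]
    have hdiv : ∀ i, ¬ a i ∣ b i → b i ∣ a i := by
      intro i h
      rcases ValuationRing.dvd_total (a i) (b i) with h1 | h1
      · exact absurd h1 h
      · exact h1
    let c : ∀ i, R i := fun i => if h : a i ∣ b i then h.choose else 0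
    let d : ∀ i, R i := fun i => if h : a i ∣ b i then 0 else (hdiv i h).choose
    have hc : b * e = a * c * e := by
      ext i
      by_cases h : a i ∣ b i
      · simp only [Pi.mul_apply, e, c, h, if_true, dif_pos, mul_one]
        exact h.choose_spec
      · simp [e, h]
    have hd : a * (1 - e) = b * d * (1 - e) := by
      ext i
      by_cases h : a i ∣ b i
      · simp [e, h]
      · simp only [Pi.mul_apply, Pi.sub_apply, Pi.one_apply, e, d, h, if_false, dif_neg,
          not_false_eq_true, sub_zero, mul_one]
        exact (hdiv i h).choose_spec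
    rcases hidem e he with h1 | h0
    · refine ⟨↑u'⁻¹ * φ c * ↑v', Or.inl ?_⟩
      have h3 := congrArg φ hc
      rw [map_mul, map_mul, map_mul, h1, mul_one, mul_one] at h3
      rw [h3]
      have : (↑u' : L) * ↑u'⁻¹ = 1 := Units.mul_inv u'
      linear_combination (φ a * φ c * ↑v') * this
    · refine ⟨↑v'⁻¹ * φ d * ↑u', Or.inr ?_⟩
      have h3 := congrArg φ hd
      rw [map_mul, map_mul, map_mul, map_sub, map_one, h0, sub_zero, mul_one, mul_one] at h3
      rw [h3]
      have : (↑v' : L) * ↑v'⁻¹ = 1 := Units.mul_inv v'
      linear_combination (φ b * φ d * ↑u') * this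

end Groth.Agent.S13360
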