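import Groth.Statements.S13361
import Mathlib
import Groth.Agent.Lib.Helper9.QmodZ

set_option autoImplicit false
universe u
open ProCompl

namespace Groth.Agent.S13361

/-- A finite abelian group with a nonzero element contained in every nonzero subgroup is isomorphic to a
cyclic group of prime-power order Z/p^n. -/
theorem result {A : Type u} [AddCommGroup A] [Finite A]
    (a : A) (ha : a ≠ 0) (h : ∀ B : AddSubgroup A, B ≠ ⊥ → a ∈ B) :
    ∃ p n : ℕ, p.Prime ∧ Nonempty (A ≃+ ZMod (p ^ n)) := by
  classical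
  obtain ⟨χ, hχ⟩ := Groth.Agent.H9.QmodZ.exists_injective_character a ha h
  haveI : Fintype A := Fintype.ofFinite A
  -- cyclic
  have hcyc : IsAddCyclic A := by
    apply isAddCyclic_of_card_nsmul_eq_zero_le
    intro n hn
    have hfin := Groth.Agent.H9.QmodZ.finite_torsion n hn
    have h1 : (Finset.univ.filter (fun x : A => n • x = 0)).card
        ≤ {y : ℚ ⧸ AddSubgroup.zmultiples (1 : ℚ) | n • y = 0}.ncard := by
      rw [Set.ncard_eq_toFinset_card _ hfin]
      apply Finset.card_le_card_of_injOn (fun x => χ x)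
      · intro x hx
        simp only [Finset.coe_filter, Finset.mem_univ, true_and, Set.mem_setOf_eq] at hx
        simp only [Set.Finite.coe_toFinset, Set.mem_setOf_eq]
        rw [← map_nsmul, hx, map_zero]
      · intro x _ y _ hxy
        exact hχ hxy
    exact h1.trans (Groth.Agent.H9.QmodZ.ncard_torsion_le n hn)
  -- card is a prime power
  have hcard0 : Nat.card A ≠ 0 := Nat.card_pos.ne'
  have hnontriv : Nat.card A ≠ 1 := by
    intro h1
    have : Subsingleton A := (Nat.card_eq_one_iff_unique.mp h1).1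
    exact ha (Subsingleton.elim _ _)
  obtain ⟨p, hp, hpd⟩ := Nat.exists_prime_and_dvd hnontriv
  have huniq : ∀ {d : ℕ}, Nat.Prime d → d ∣ Nat.card A → d = p := by
    intro q hq hqd
    by_contra hne
    haveI : Fact p.Prime := ⟨hp⟩
    haveI : Fact q.Prime := ⟨hq⟩
    obtain ⟨x, hx⟩ := exists_prime_addOrderOf_dvd_card' (G := A) p hpd
    obtain ⟨y, hy⟩ := exists_prime_addOrderOf_dvd_card' (G := A) q hqd
    have hx0 : x ≠ 0 := by
      intro h0; rw [h0, addOrderOf_zero] at hx; exact hp.one_lt.ne hx
    have hy0 : y ≠ 0 := by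
      intro h0; rw [h0, addOrderOf_zero] at hy; exact hq.one_lt.ne hy
    have hax : a ∈ AddSubgroup.zmultiples x := h _ (by
      intro hb
      exact hx0 ((AddSubgroup.zmultiples_eq_bot).mp hb))
    have hay : a ∈ AddSubgroup.zmultiples y := h _ (by
      intro hb
      exact hy0 ((AddSubgroup.zmultiples_eq_bot).mp hb))
    have hpa : p • a = 0 := by
      obtain ⟨m, rfl⟩ := AddSubgroup.mem_zmultiples_iff.mp hax
      rw [smul_comm, ← hx, addOrderOf_nsmul_eq_zero, smul_zero]
    have hqa : q • a = 0 := by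
      obtain ⟨m, rfl⟩ := AddSubgroup.mem_zmultiples_iff.mp hay
      rw [smul_comm, ← hy, addOrderOf_nsmul_eq_zero, smul_zero]
    have h1 : addOrderOf a ∣ p := addOrderOf_dvd_of_nsmul_eq_zero hpa
    have h2 : addOrderOf a ∣ q := addOrderOf_dvd_of_nsmul_eq_zero hqa
    have hcop : Nat.Coprime p q := (Nat.coprime_primes hp hq).mpr (fun e => hne e.symm)
    have h3 : addOrderOf a = 1 := Nat.eq_one_of_dvd_coprimes hcop h1 h2
    exact ha (AddMonoid.addOrderOf_eq_one_iff.mp h3)
  have hpow := Nat.eq_prime_pow_of_unique_prime_dvd hcard0 huniq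
  refine ⟨p, (Nat.card A).primeFactorsList.length, hp, ⟨?_⟩⟩
  have e := (zmodAddCyclicAddEquiv hcyc).symm
  rw [hpow] at e
  exact e

end Groth.Agent.S13361
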