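import Groth.Statements.S13362
import Mathlib
import Groth.Agent.Lib.Helper9.QmodZ

set_option autoImplicit false
universe u
open ProCompl

namespace Groth.Agent.S13362

/-- An abelian group of finite exponent having a nonzero element contained in every nonzero subgroup is
finite. -/
theorem result {A : Type u} [AddCommGroup A]
    (hA : AddMonoid.exponent A ≠ 0) (a : A) (ha : a ≠ 0) (h : ∀ B : AddSubgroup A, B ≠ ⊥ → a ∈ B) :
    Finite A := by
  obtain ⟨χ, hχ⟩ := Groth.Agent.H9.QmodZ.exists_injective_character a ha h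
  set N := AddMonoid.exponent A with hN
  have hNpos : 0 < N := Nat.pos_of_ne_zero hA
  have hfin := Groth.Agent.H9.QmodZ.finite_torsion N hNpos
  haveI : Finite ↥{y : ℚ ⧸ AddSubgroup.zmultiples (1 : ℚ) | N • y = 0} := hfin.to_subtype
  let f : A → ↥{y : ℚ ⧸ AddSubgroup.zmultiples (1 : ℚ) | N • y = 0} := fun x =>
    ⟨χ x, by
      show N • χ x = 0
      rw [← map_nsmul, hN, AddMonoid.exponent_nsmul_eq_zero, map_zero]⟩
  exact Finite.of_injective f (fun x y hxy => hχ (congrArg Subtype.val hxy))

end Groth.Agent.S13362
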