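import Groth.Statements.S13363
import Mathlib
import Groth.Agent.Lib.Helper9.QmodZ

set_option autoImplicit false
universe u
open ProCompl

namespace Groth.Agent.S13363

/-- Let A be a topological abelian group such that the subgroup n·A is open for each n > 0, and a ∈ A.
Then A has an open subgroup of finite index not containing a if and only if a does not lie in the
subgroup of divisible elements ∩_n nA. -/
theorem result {A : Type u} [AddCommGroup A]
    [TopologicalSpace A] [IsTopologicalAddGroup A]
    (hn : ∀ n : ℕ, 0 < n → IsOpen (Set.range (fun x : A => n • x))) (a : A) :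
    (∃ B : AddSubgroup A, IsOpen (B : Set A) ∧ B.FiniteIndex ∧ a ∉ B) ↔
      ¬ (∀ n : ℕ, 0 < n → ∃ b : A, n • b = a) := by
  constructor
  · rintro ⟨B, hBo, hBf, haB⟩ hdiv
    haveI := hBf
    obtain ⟨b, hb⟩ := hdiv B.index (Nat.pos_of_ne_zero AddSubgroup.FiniteIndex.index_ne_zero)
    apply haB
    rw [← hb]
    exact AddSubgroup.nsmul_index_mem B b
  · intro hnd
    push Not at hnd
    obtain ⟨n, hnpos, hna⟩ := hnd
    set N : AddSubgroup A := (nsmulAddMonoidHom n : A →+ A).range with hNdef
    have hNo : IsOpen (N : Set A) := by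
      have : (N : Set A) = Set.range (fun x : A => n • x) := by
        ext x; simp [hNdef, AddMonoidHom.mem_range]
      rw [this]; exact hn n hnpos
    have haN : a ∉ N := by
      rintro ⟨b, hb⟩
      exact hna b hb
    have hq : (QuotientAddGroup.mk' N a) ≠ 0 := by
      rw [Ne, QuotientAddGroup.mk'_apply, QuotientAddGroup.eq_zero_iff]
      exact haN
    obtain ⟨c, hc⟩ := Groth.Agent.H9.QmodZ.exists_character_ne_zero hq
    let ψ : A →+ ℚ ⧸ AddSubgroup.zmultiples (1 : ℚ) := c.comp (QuotientAddGroup.mk' N)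
    have hNker : N ≤ ψ.ker := by
      intro u hu
      rw [AddMonoidHom.mem_ker]
      show c (QuotientAddGroup.mk' N u) = 0
      rw [QuotientAddGroup.mk'_apply, (QuotientAddGroup.eq_zero_iff u).mpr hu, map_zero]
    have hψo : IsOpen (ψ.ker : Set A) := AddSubgroup.isOpen_mono hNker hNo
    have hrange : (ψ.range : Set (ℚ ⧸ AddSubgroup.zmultiples (1 : ℚ))) ⊆
        {y | n • y = 0} := by
      rintro _ ⟨x, rfl⟩
      show n • ψ x = 0
      rw [← map_nsmul]
      exact AddMonoidHom.mem_ker.mp (hNker ⟨x, rfl⟩)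
    haveI : Finite ψ.range :=
      ((Groth.Agent.H9.QmodZ.finite_torsion n hnpos).subset hrange).to_subtype
    exact ⟨ψ.ker, hψo, AddSubgroup.finiteIndex_ker ψ, fun h => hc (AddMonoidHom.mem_ker.mp h)⟩

end Groth.Agent.S13363
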