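import Groth.Statements.S13365
import Mathlib

set_option autoImplicit false
universe u
open ProCompl

namespace Groth.Agent.S13365

/-- The quotient of a profinite (compact, Hausdorff, totally disconnected) abelian topological group by
a compact subgroup is profinite. -/
theorem result {A : Type u} [AddCommGroup A] [TopologicalSpace A]
    [IsTopologicalAddGroup A] [CompactSpace A] [T2Space A] [TotallyDisconnectedSpace A]
    (B : AddSubgroup A) (hB : IsCompact (B : Set A)) :
    CompactSpace (A ⧸ B) ∧ T2Space (A ⧸ B) ∧ TotallyDisconnectedSpace (A ⧸ B) := by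
  have hcl : IsClosed (B : Set A) := hB.isClosed
  have : IsClosed (B : Set A) := hcl
  have hT2 : T2Space (A ⧸ B) := inferInstance
  refine ⟨inferInstance, hT2, ?_⟩
  suffices h : TotallySeparatedSpace (A ⧸ B) from inferInstance
  rw [totallySeparatedSpace_iff_exists_isClopen]
  -- key: for z ≠ 0 in the quotient, a clopen subgroup avoiding z
  have key : ∀ z : A ⧸ B, z ≠ 0 → ∃ V : AddSubgroup (A ⧸ B), IsOpen (V : Set (A ⧸ B)) ∧ z ∉ V := by
    intro z hz
    obtain ⟨a, rfl⟩ := QuotientAddGroup.mk_surjective z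
    have haB : a ∉ B := fun h => hz ((QuotientAddGroup.eq_zero_iff a).2 h)
    let Bc : ClosedAddSubgroup A := ⟨B, hcl⟩
    have hinf := ProfiniteGrp.closedAddSubgroup_eq_sInf_open Bc
    have : ∃ N : AddSubgroup A, IsOpen (N : Set A) ∧ B ≤ N ∧ a ∉ N := by
      by_contra hcon
      push Not at hcon
      apply haB
      have : a ∈ (Bc : AddSubgroup A) := by
        rw [hinf, AddSubgroup.mem_sInf]
        rintro N ⟨hN1, hN2⟩
        exact hcon N hN1 hN2
      exact this
    obtain ⟨N, hNo, hBN, haN⟩ := this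
    refine ⟨N.map (QuotientAddGroup.mk' B), ?_, ?_⟩
    · rw [AddSubgroup.coe_map]
      exact QuotientAddGroup.isOpenMap_coe _ hNo
    · rintro ⟨n, hn, hna⟩
      have : n - a ∈ B := by
        have := (QuotientAddGroup.eq_iff_sub_mem (N := B) (x := n) (y := a)).1 hna
        exact this
      apply haN
      have h2 := N.sub_mem hn (hBN this)
      simpa using h2
  intro x y hxy
  obtain ⟨V, hVo, hV⟩ := key (y - x) (sub_ne_zero.2 (Ne.symm hxy))
  have hVc : IsClopen (V : Set (A ⧸ B)) := ⟨AddSubgroup.isClosed_of_isOpen V hVo, hVo⟩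
  refine ⟨(fun t => t - x) ⁻¹' (V : Set (A ⧸ B)), hVc.preimage (by fun_prop), ?_, ?_⟩
  · simp
  · simpa using hV

end Groth.Agent.S13365
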