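import Groth.Statements.S13369
import Groth.Agent.Lib.Helper5.PB.PB16
import Groth.Agent.Lib.Helper5.CA.CoeffUniq

set_option autoImplicit false
universe u
open GaDual

namespace Groth.Agent.S13369

/-- For a normal Noetherian domain A of prime characteristic p, an element whose differential vanishes
in the absolute Kähler differentials of A is a p-th power; that is, the sequence F : A → A, d : A →
Ω_A (F the Frobenius) is exact at the middle term. (The published statement is for normal locally
Noetherian schemes of characteristic p; this row is the case of the spectrum of a normal Noetherian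
domain.) -/
theorem result (p : ℕ) [Fact p.Prime] {A : Type u} [CommRing A] [IsDomain A]
    [IsNoetherianRing A] [IsIntegrallyClosed A] [CharP A p] (s : A) (hs : KaehlerDifferential.D ℤ A s = 0) :
    ∃ f : A, f ^ p = s := by
  classical
  let K := FractionRing A
  haveI : CharP K p := charP_of_injective_algebraMap (IsFractionRing.injective A K) p
  let k₀ : Subfield K := ⊥
  haveI : CharP k₀ p := (RingHom.charP_iff (algebraMap k₀ K) (algebraMap k₀ K).injective p).mpr inferInstance
  haveI : PerfectField k₀ := Groth.Agent.H5.CoeffUniq.perfectField_bot K
  haveI : PerfectRing k₀ p := PerfectField.toPerfectRing p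
  haveI := IsScalarTower.of_algebraMap_eq' (R := ℤ) (S := k₀) (A := K) (Subsingleton.elim _ _)
  have h1 : KaehlerDifferential.D ℤ K (algebraMap A K s) = 0 := by
    have := congrArg (KaehlerDifferential.map ℤ ℤ A K) hs
    rw [KaehlerDifferential.map_D, map_zero] at this
    exact this
  have h2 : KaehlerDifferential.D k₀ K (algebraMap A K s) = 0 := by
    have := congrArg (KaehlerDifferential.map ℤ k₀ K K) h1
    rw [KaehlerDifferential.map_D, map_zero] at this
    exact this
  obtain ⟨b, hb⟩ := (H5.PB.main2148 (k := k₀) (K := K) p (algebraMap A K s)).mp h2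
  have hint : IsIntegral A b := by
    refine ⟨Polynomial.X ^ p - Polynomial.C s, Polynomial.monic_X_pow_sub_C s (Fact.out : p.Prime).ne_zero, ?_⟩
    rw [Polynomial.eval₂_sub, Polynomial.eval₂_pow, Polynomial.eval₂_X, Polynomial.eval₂_C, hb, sub_self]
  obtain ⟨f, hf⟩ := IsIntegrallyClosed.isIntegral_iff.mp hint
  refine ⟨f, ?_⟩
  apply IsFractionRing.injective A K
  rw [map_pow, hf, hb]

end Groth.Agent.S13369
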