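import Groth.Statements.S13423
import Groth.Agent.Lib.Helper8.UnramGlobal
import Groth.Agent.Lib.Helper3.EtSmQf
import Groth.Agent.Lib.Helper1.UnrFib
import Groth.Agent.Lib.Helper2.IntegralNhd
import Groth.Agent.Lib.Helper9.Misc.FLH5

set_option autoImplicit false
universe u
open CategoryTheory AlgebraicGeometry
open NeronHD

namespace Groth.Agent.S13423

/-- Let S be a reduced, locally Noetherian scheme over a field of characteristic 0 whose local rings are
all geometrically unibranch, and let f : X → S be quasi-finite (locally of finite type,
quasi-compact, with finite discrete fibres), separated and dominant, with X connected and nonempty,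
such that every fibre X_s over the residue field k(s) is smooth. Then f is étale. (Case of schemes
of a statement about algebraic spaces.) -/
theorem result {k : Type u} [Field k] [CharZero k] {S : Scheme.{u}} (σ : S ⟶ Spec (CommRingCat.of k)) [IsLocallyNoetherian S] [IsReduced S]
    (hS : ∀ s : S, CAlg2.IsGeomUnibranch (S.presheaf.stalk s))
    {X : Scheme.{u}} (f : X ⟶ S) [LocallyOfFiniteType f] [QuasiCompact f] [LocallyQuasiFinite f] [IsSeparated f] [IsDominant f]
    [ConnectedSpace X]
    (hfib : ∀ s : S, Smooth (Limits.pullback.snd f (S.fromSpecResidueField s))) :
    Etale f := by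
  classical
  -- the fibres are étale, hence unramified
  have hunr : FormallyUnramified f := by
    apply Groth.Agent.H1.UnrFib.formallyUnramified_of_fiberToSpecResidueField
    intro s
    have : Smooth (f.fiberToSpecResidueField s) := hfib s
    have : LocallyQuasiFinite (f.fiberToSpecResidueField s) :=
      MorphismProperty.pullback_snd (P := @LocallyQuasiFinite) _ _ inferInstance
    have : Etale (f.fiberToSpecResidueField s) :=
      (Groth.Agent.H3.EtSmQf.main _).mpr ⟨inferInstance, inferInstance⟩
    infer_instance
  -- the base is integral
  have hdom : ∀ s : S, IsDomain (S.presheaf.stalk s) := by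
    intro s
    have hp := Groth.Agent.H8.Hens.isPrime_nilradical_of_isGeomUnibranch (hS s)
    rw [nilradical_eq_zero] at hp
    exact @IsDomain.of_bot_isPrime _ _ hp
  haveI hconn : ConnectedSpace S := by
    rw [connectedSpace_iff_univ]
    have h1 : _root_.IsConnected (Set.range f.base) := isConnected_range f.continuous
    have h2 := h1.closure
    rwa [f.denseRange.closure_range] at h2
  haveI hint : IsIntegral S :=
    (Groth.Agent.H2.isIntegral_iff_connectedSpace_and_isDomain_stalk S).mpr ⟨hconn, hdom⟩
  -- the generic point is in the image
  have hgen : ∃ x : X, f x = genericPoint S := by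
    refine Groth.Agent.H9.FLH.mem_range_of_isMaxPt f f.denseRange (genericPoint S) ?_
    intro ξ hξ
    exact (hξ.antisymm (genericPoint_specializes ξ)).eq
  exact Groth.Agent.H8.EtComp.etale_of_unramified_of_connected f hS hgen

end Groth.Agent.S13423
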