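import Groth.Statements.S13456
import Mathlib
import Groth.Agent.H4.GrFlatA
import Groth.Agent.H4.GrFlatB
import Groth.Agent.H4.GrFlatC

set_option autoImplicit false
universe u
open W4c1hilbpn

namespace Groth.Agent.S13456

open TensorProduct in
/-- Let A be a Noetherian ring, R a finitely generated graded A-algebra (graded by the integers), M a
finitely generated graded R-module and h a function from the integers to the natural numbers. Then
the functor sending an A-algebra B to the condition 'every graded piece of M ⊗_A B is a finitely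
generated locally free B-module of rank h(v)' is represented by a locally closed subscheme of Spec
A: there are ideals a and b of A such that, for every A-algebra B, all B ⊗_A M_v are finitely
generated projective of constant rank h(v) if and only if a generates the zero ideal of B and b
generates the unit ideal of B. (The graded pieces M_v are assumed finitely generated over A, as they
are when R is positively graded with degree-zero part finite over A; the published setup allows any
finitely generated graded algebra, where graded pieces need not be finitely generated over A. Test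
algebras B range over one universe.) -/
theorem result
    (A : Type u) [CommRing A] [IsNoetherianRing A]
    (R : Type u) [CommRing R] [Algebra A R] [Algebra.FiniteType A R]
    (𝒜 : ℤ → Submodule A R) [GradedAlgebra 𝒜]
    (M : Type u) [AddCommGroup M] [Module A M] [Module R M] [IsScalarTower A R M] [Module.Finite R M]
    (ℳ : ℤ → Submodule A M) [DirectSum.Decomposition ℳ] [SetLike.GradedSMul 𝒜 ℳ]
    (hfg : ∀ v : ℤ, Module.Finite A ↥(ℳ v)) (h : ℤ → ℕ) :
    ∃ a b : Ideal A, ∀ (B : Type u) [CommRing B] [Algebra A B],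
      ((∀ v : ℤ, Module.Finite B (B ⊗[A] ↥(ℳ v)) ∧ Module.Projective B (B ⊗[A] ↥(ℳ v)) ∧
          ∀ p : PrimeSpectrum B, Module.rankAtStalk (B ⊗[A] ↥(ℳ v)) p = h v) ↔
        (Ideal.map (algebraMap A B) a = ⊥ ∧ Ideal.map (algebraMap A B) b = ⊤)) := by
  classical
  let Z : Set (PrimeSpectrum A) :=
    ⋃ v : ℤ, PrimeSpectrum.zeroLocus ((Fitt.ideal A (ℳ v) (h v) : Ideal A) : Set A)
  have hZ : IsClosed Z := by
    apply Groth.Agent.H4.GrFlatB.isClosed_of_GF Z
    · intro p q hpq hp
      obtain ⟨v, hv⟩ := Set.mem_iUnion.mp hp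
      rw [PrimeSpectrum.mem_zeroLocus] at hv
      refine Set.mem_iUnion.mpr ⟨v, ?_⟩
      rw [PrimeSpectrum.mem_zeroLocus]
      exact le_trans hv hpq
    · intro p hp
      obtain ⟨f, hf, hall⟩ := Groth.Agent.H4.GrFlatC.exists_GF (R := R) ℳ p.asIdeal hfg
      refine ⟨f, hf, ?_⟩
      intro q hpq hfq hq
      obtain ⟨v, hv⟩ := Set.mem_iUnion.mp hq
      rw [PrimeSpectrum.mem_zeroLocus] at hv
      have hnle : ¬ Fitt.ideal A (ℳ v) (h v) ≤ p.asIdeal := by
        intro hle
        apply hp
        refine Set.mem_iUnion.mpr ⟨v, ?_⟩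
        rw [PrimeSpectrum.mem_zeroLocus]
        exact hle
      obtain ⟨n, hn⟩ := hall v (h v) hnle
      have hvle : Fitt.ideal A (ℳ v) (h v) ≤ q.asIdeal := hv
      have hmem : f ^ n ∈ q.asIdeal := (sup_le hvle hpq) hn
      exact hfq (q.2.mem_of_pow_mem n hmem)
  have hzl : PrimeSpectrum.zeroLocus ((PrimeSpectrum.vanishingIdeal Z : Ideal A) : Set A) = Z := by
    rw [PrimeSpectrum.zeroLocus_vanishingIdeal_eq_closure, hZ.closure_eq]
  refine ⟨⨆ v : ℤ, (if h v = 0 then (⊥ : Ideal A) else Fitt.ideal A (ℳ v) (h v - 1)),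
    PrimeSpectrum.vanishingIdeal Z, ?_⟩
  intro B _ _
  have hv : ∀ v : ℤ, (Module.Finite B (B ⊗[A] ↥(ℳ v)) ∧ Module.Projective B (B ⊗[A] ↥(ℳ v)) ∧
        ∀ p : PrimeSpectrum B, Module.rankAtStalk (B ⊗[A] ↥(ℳ v)) p = h v) ↔
      ((h v = 0 ∨ (Fitt.ideal A (ℳ v) (h v - 1)).map (algebraMap A B) = ⊥) ∧
        (Fitt.ideal A (ℳ v) (h v)).map (algebraMap A B) = ⊤) := fun v => by
    haveI := hfg v
    exact Groth.Agent.H4.GrFlatA.projRank_iff (ℳ v) B (h v)
  rw [forall_congr' hv]
  constructor
  · intro H
    refine ⟨?_, ?_⟩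
    · rw [Ideal.map_iSup, iSup_eq_bot]
      intro v
      by_cases h0 : h v = 0
      · rw [if_pos h0, Ideal.map_bot]
      · rw [if_neg h0]
        exact (H v).1.resolve_left h0
    · by_contra hne
      obtain ⟨m, hm, hle⟩ := Ideal.exists_le_maximal _ hne
      haveI := hm.isPrime
      have hq : (⟨m.comap (algebraMap A B), inferInstance⟩ : PrimeSpectrum A) ∈ Z := by
        rw [← hzl, PrimeSpectrum.mem_zeroLocus]
        exact Ideal.map_le_iff_le_comap.mp hle
      obtain ⟨v, hv'⟩ := Set.mem_iUnion.mp hq
      rw [PrimeSpectrum.mem_zeroLocus] at hv'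
      have h2 : (Fitt.ideal A (ℳ v) (h v)).map (algebraMap A B) ≤ m :=
        Ideal.map_le_iff_le_comap.mpr hv'
      rw [(H v).2] at h2
      exact hm.ne_top (top_le_iff.mp h2)
  · rintro ⟨ha, hb⟩ v
    refine ⟨?_, ?_⟩
    · by_cases h0 : h v = 0
      · exact Or.inl h0
      · right
        rw [eq_bot_iff, ← ha]
        refine Ideal.map_mono ?_
        refine le_trans ?_ (le_iSup _ v)
        rw [if_neg h0]
    · by_contra hne
      obtain ⟨m, hm, hle⟩ := Ideal.exists_le_maximal _ hne
      haveI := hm.isPrime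
      have hq : (⟨m.comap (algebraMap A B), inferInstance⟩ : PrimeSpectrum A) ∈ Z := by
        refine Set.mem_iUnion.mpr ⟨v, ?_⟩
        rw [PrimeSpectrum.mem_zeroLocus]
        exact Ideal.map_le_iff_le_comap.mp hle
      rw [← hzl, PrimeSpectrum.mem_zeroLocus] at hq
      have h2 : (PrimeSpectrum.vanishingIdeal Z).map (algebraMap A B) ≤ m :=
        Ideal.map_le_iff_le_comap.mpr hq
      rw [hb] at h2
      exact hm.ne_top (top_le_iff.mp h2)

end Groth.Agent.S13456
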