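import Groth.Statements.S1353
import Mathlib
import Groth.Agent.Lib.Helper1.EtLoc1

set_option autoImplicit false
universe u
open FlatMor

namespace Groth.Agent.S1353

namespace H1.S1353aux

open AlgebraicGeometry CategoryTheory Limits

theorem main {X S : Scheme.{u}} (f : X ⟶ S) [LocallyOfFiniteType f] (x : X) (hx : f.QuasiFiniteAt x) :
    ∃ (U : Scheme.{u}) (g : U ⟶ S) (u : U), Hens2.IsEtaleNbhd g u (f x) ∧
      ∃ (V : (pullback f g).Opens) (v : ↑(pullback f g)), v ∈ V ∧ IsFinite (V.ι ≫ pullback.snd f g) ∧
        pullback.snd f g v = u ∧ (∀ w : ↑(pullback f g), w ∈ V → pullback.snd f g w = u → w = v) ∧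
        pullback.fst f g v = x ∧ Function.Bijective ((pullback.fst f g).residueFieldMap v) := by
  obtain ⟨U, g, u, hg, hgu, hres, V, v, hvV, hfin, hsnd, hfst, huniq⟩ :=
    Groth.Agent.H1.EtLoc.exists_finPart f hx
  have hbij : Function.Bijective (g.residueFieldMap u).hom :=
    ⟨(g.residueFieldMap u).hom.injective, hres⟩
  refine ⟨U, g, u, ⟨hg, hgu, hbij⟩, V, v, hvV, hfin, hsnd, huniq, hfst, ?_⟩
  apply Groth.Agent.H1.PBU.bijective_residueFieldMap_fst
  exact (Groth.Agent.H1.PBU.bij_congr_point g hsnd).mpr hbij

end H1.S1353aux

open AlgebraicGeometry CategoryTheory Limits in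
/-- Let f be locally of finite type and quasi-finite at a point x with image s. Then there are an
elementary étale neighbourhood (U, u) of (S, s) and an open V of the base change of X to U such that
V is finite over U, V has exactly one point v over u, and v maps to x inducing a bijection of
residue fields. (The source's further assertion that these properties persist after refining the
étale neighbourhood is not stated.) -/
theorem result {X S : Scheme.{u}} (f : X ⟶ S) [LocallyOfFiniteType f] (x : X) (hx : f.QuasiFiniteAt x) :
    ∃ (U : Scheme.{u}) (g : U ⟶ S) (u : U), Hens2.IsEtaleNbhd g u (f x) ∧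
      ∃ (V : (pullback f g).Opens) (v : ↑(pullback f g)), v ∈ V ∧ IsFinite (V.ι ≫ pullback.snd f g) ∧
        pullback.snd f g v = u ∧ (∀ w : ↑(pullback f g), w ∈ V → pullback.snd f g w = u → w = v) ∧
        pullback.fst f g v = x ∧ Function.Bijective ((pullback.fst f g).residueFieldMap v) := by
  exact H1.S1353aux.main f x hx

end Groth.Agent.S1353
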