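import Groth.Statements.S13569
import Mathlib
import Groth.Agent.Lib.Helper3.UnivInjLocal
import Groth.Agent.Lib.Helper3.AlgSt.Points.Homeo
import Groth.Agent.Lib.Helper3.AlgSt.QCMor
import Groth.Agent.Lib.Helper3.AlgSt.Algebraic

set_option autoImplicit false
universe u
open CategoryTheory AlgebraicGeometry
open AlgSt

namespace Groth.Agent.S13569

/-- (2) ⇒ (1): let `f : 𝒳 ⟶ 𝒴` be a morphism of algebraic stacks over `S`. If for every affine scheme
`Z` over `S` and every `Z ⟶ 𝒴` the projection `Z ×_𝒴 𝒳 ⟶ Z` is universally injective, then `f` is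
universally injective (every base change to an algebraic stack is injective on points). The converse
implication is the base-change property. -/
theorem result {S : Scheme.{u}} {𝒳 𝒴 : AlgSt.Cat S}
    (h𝒳 : AlgSt.IsAlgStack Scheme.fppfPrecoverage 𝒳) (h𝒴 : AlgSt.IsAlgStack Scheme.fppfPrecoverage 𝒴) (f : 𝒳 ⥤ᵇ 𝒴)
    (h : ∀ (Z : Over S) [IsAffine Z.left] (z : FibCat.overCat Z ⥤ᵇ 𝒴),
      AlgSt.IsUnivInjective Scheme.fppfPrecoverage (FibCat.fpFst z f)) :
    AlgSt.IsUnivInjective Scheme.fppfPrecoverage f := by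
  have hX := h𝒳.isStack.1
  have hY := h𝒴.isStack.1
  rw [Groth.Agent.H3.FPtRel.isUnivInjective_iff_isSurjective_diag _ h𝒳 hY f]
  apply Groth.Agent.H3.FPtRel.isSurjective_diag_of_forall_lift f
  intro q
  obtain ⟨η, hη⟩ : ∃ η : 𝒴.obj, η = f.obj q.obj.obj.fst := ⟨_, rfl⟩
  have hZ : 𝒴.p.obj η = Over.mk q.str := by
    rw [hη]
    exact (f.w_obj _).trans q.lies
  have haff : IsAffine (𝒴.p.obj η).left := by
    rw [hZ]
    exact (inferInstance : IsAffine (Spec (CommRingCat.of q.K)))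
  obtain ⟨z, hz⟩ : ∃ z : FibCat.overCat (𝒴.p.obj η) ⥤ᵇ 𝒴,
    z = Groth.Agent.H3.TwoYoneda.yBased hY η := ⟨_, rfl⟩
  have hZst : AlgSt.IsAlgStack Scheme.fppfPrecoverage (FibCat.overCat (𝒴.p.obj η)) :=
    Groth.Agent.H3.AlgStQCMor.isAlgStack_overCat _
  have hfp : AlgSt.IsAlgStack Scheme.fppfPrecoverage (FibCat.fp z f) :=
    Groth.Agent.H3.AlgStAlgebraic.isAlgStack_fp h𝒴.isStack h𝒴.diag hZst h𝒳 z f
  have hΔ := (Groth.Agent.H3.FPtRel.isUnivInjective_iff_isSurjective_diag _ hfp hZst.isStack.1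
    (FibCat.fpFst z f)).1 (h (𝒴.p.obj η) z)
  let r : AlgSt.FPt (FibCat.overCat (𝒴.p.obj η)) :=
    ⟨q.K, q.str, Over.mk (𝟙 (𝒴.p.obj η)), hZ⟩
  have m : z.obj r.obj ⟶ f.obj q.obj.obj.fst := by
    rw [hz, ← hη]
    exact (Groth.Agent.H3.TwoYoneda.yIso hY η).hom
  exact ⟨_, z, hΔ, Groth.Agent.H3.FPtRel.exists_lift_dbcM hX hY f z q r m⟩

end Groth.Agent.S13569
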