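import Groth.Statements.S13581
import Groth.Agent.Lib.Lead.EZ.Restr

set_option autoImplicit false
universe w' w u
open CategoryTheory CategoryTheory.Limits
open ExtSupp

namespace Groth.Agent.S13581

/-- On a ringed site, for an object `U` and sheaves of modules `M`, `N`, the group `Ext^i(M_U, N)`,
where `M_U = j_!(M|_U)` is the extension by zero of the restriction, is isomorphic to
`Ext^i_{O|_U}(M|_U, N|_U)` computed on the localised site over `U`; hence the long exact sequence
`Ext^i_Z(M, N) → Ext^i(M, N) → Ext^i(M_U, N) → Ext^{i+1}_Z(M, N)` for the closed complement `Z` of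
`U` has the Ext groups of the restrictions as its third terms. Existence of an isomorphism of groups
in each degree only. (The published statements give the long exact sequence itself, on a ringed
space resp. a ringed topos; its exactness over these definitions is formal and is not part of this
row.) -/
theorem result {C : Type u} [SmallCategory C]
    {J : GrothendieckTopology C} {O : Sheaf J CommRingCat.{u}} [HasExt.{w} (ModSite.Mod O)]
    (U : C) [HasExt.{w'} (ModSite.Mod (O.over U))] (M N : ModSite.Mod O) (i : ℕ) :
    Nonempty (Abelian.Ext.{w} (ExtSupp.openMod U M) N i ≃+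
      Abelian.Ext.{w'} ((ModSite.restr O U).obj M) ((ModSite.restr O U).obj N) i) := by
  have i1 : HasExt.{w} (SheafOfModules.{u} (ModSite.ringSh O)) := ‹HasExt.{w} (ModSite.Mod O)›
  have i2 : HasExt.{w'} (SheafOfModules.{u} ((ModSite.ringSh O).over U)) :=
    ‹HasExt.{w'} (ModSite.Mod (O.over U))›
  exact @Groth.Agent.LD.EZ.nonempty_ext_extZero_equiv _ _ _ (ModSite.ringSh O) U i1 i2 _
    (ModSite.extZeroAdj O U) ((ModSite.restr O U).obj M) N i

end Groth.Agent.S13581
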