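import Groth.Statements.S13587
import Groth.Agent.Lib.Lead.EZ.SuppTensor
import Groth.Agent.Lib.Lead.EZ.DerivedIso
import Groth.Agent.Lib.Lead.KT.LocalExt

set_option autoImplicit false
universe u
open CategoryTheory CategoryTheory.Limits
open ExtSupp

namespace Groth.Agent.S13587

/-- On a ringed site, for an object `U` with closed complement `Z` and sheaves of modules `M`, `N`,
there is a bounded `E_2` spectral sequence of abelian groups with `E_2^{p,q}` isomorphic to
`H^p(ℰxt^q_{O,Z}(M, N))` (cohomology of the site) for `p, q ≥ 0` and zero otherwise, together with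
abutment data whose filtrations are finite on `Ext^n_Z(M, N)` (`n ≥ 0`; zero for `n < 0`). The `E_2`
identifications and the abutment isomorphisms are asserted to exist only and are not pinned to the
canonical maps, so edge maps are not part of this statement; the internal hom out of `M`, the right
adjoint of restriction to `U` and injective resolutions of sheaves of modules are assumed to exist.
(The published statement, on a ringed topos and likewise on a ringed space, is functorial in `M`,
`N` and in an object `X` of the topos; this row is the case of the final object.) -/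
theorem result {C : Type u} [SmallCategory C]
    {J : GrothendieckTopology C} {O : Sheaf J CommRingCat.{u}} [HasExt.{u} (ModSite.Mod O)]
    (U : C) [ModSite.HasPushOver O U] (M N : ModSite.Mod O) [ModSite.HasSheafHom M]
    [HasInjectiveResolutions (ModSite.Mod O)] :
    ∃ (E : E₂CohomologicalSpectralSequence AddCommGrpCat.{u})
      (a : SpSeq.Abutment E (fun n : ℤ =>
        if 0 ≤ n then AddCommGrpCat.of (ExtSupp.ExtZ U M N n.toNat) else AddCommGrpCat.of PUnit.{u + 1})),
      (∀ n, a.IsFinite n) ∧ SpSeq.IsBounded E ∧
      ∀ p q : ℤ, Nonempty ((E.page 2 le_rfl).X (p, q) ≅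
        (if 0 ≤ p ∧ 0 ≤ q then AddCommGrpCat.of (ModSite.HC O ((ModSite.extZSh U M q.toNat).obj N) p.toNat)
         else AddCommGrpCat.of PUnit.{u + 1})) := by
  haveI : ModSite.HasSheafHom ((ModSite.quotOn O U).obj M) := Groth.Agent.LD.MS.hasSheafHom _
  have hz : IsZero (AddCommGrpCat.of PUnit.{u + 1}) := by
    rw [IsZero.iff_id_eq_zero]
    ext x
  obtain ⟨E, a, h1, h2, h3⟩ := Groth.Agent.LD.KT.exists_localToGlobal O
    ((ModSite.quotOn O U).obj M) N _ _ hz hz
  refine ⟨E, a, h1, h2, fun p q => ?_⟩
  obtain ⟨e⟩ := h3 p q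
  by_cases hpq : 0 ≤ p ∧ 0 ≤ q
  · rw [if_pos hpq] at e ⊢
    let γ : (ModSite.extSh ((ModSite.quotOn O U).obj M) q.toNat).obj N ≅
        (ModSite.extZSh U M q.toNat).obj N :=
      ((Groth.Agent.LD.EZ.rightDerivedIsoOfIso
        (Groth.Agent.LD.EZ.sectHomQuotIso O U M) q.toNat).app N).symm
    exact ⟨e ≪≫ (Groth.Agent.LD.GSS.extCongrRight
      ((SheafOfModules.toSheaf (ModSite.ringSh O)).mapIso γ) p.toNat).toAddCommGrpIso⟩
  · rw [if_neg hpq] at e ⊢
    exact ⟨e⟩

end Groth.Agent.S13587
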