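import Groth.Statements.S9738
import Mathlib
import Groth.Agent.Lib.Helper1.LocalCriterion4

set_option autoImplicit false
universe u
open FlatMor

namespace Groth.Agent.S9738

namespace H1.S9738aux
open TensorProduct AlgebraicGeometry CategoryTheory Limits

set_option backward.isDefEq.respectTransparency false in
theorem flat_of_comp_openImm {X Y Z : Scheme.{u}} (a : X ⟶ Y) (c : Y ⟶ Z) [IsOpenImmersion c]
    [Flat (a ≫ c)] : Flat a :=
  MorphismProperty.of_postcomp (W := @Flat) (W' := @IsOpenImmersion) a c inferInstance inferInstance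

/-- affine key step: from flatness of the base change to `V(I^{m+1})` to flatness of
`A/J^{m+1} → B ⊗ A/J^{m+1}`. -/
theorem key {X S : Scheme.{u}} (f : X ⟶ S) (I : S.IdealSheafData)
    (V : S.Opens) (hV : IsAffineOpen V) (U : X.Opens) (hU : IsAffineOpen U) (hUV : U ≤ f ⁻¹ᵁ V)
    (n : ℕ) (h : Flat (pullback.snd f (I ^ n).subschemeι))
    [Algebra Γ(S, V) Γ(X, U)] (halg : algebraMap Γ(S, V) Γ(X, U) = (f.appLE V U hUV).hom) :
    Module.Flat (Γ(S, V) ⧸ (I.ideal ⟨V, hV⟩) ^ n) ((Γ(S, V) ⧸ (I.ideal ⟨V, hV⟩) ^ n) ⊗[Γ(S, V)] Γ(X, U)) := by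
  let A := Γ(S, V)
  let B := Γ(X, U)
  let J : Ideal A := (I.ideal ⟨V, hV⟩) ^ n
  let In := I ^ n
  let c : Spec (CommRingCat.of (A ⧸ J)) ⟶ In.subscheme := In.subschemeCover.f ⟨V, hV⟩
  have hc : c ≫ In.subschemeι =
      Spec.map (CommRingCat.ofHom (algebraMap A (A ⧸ J))) ≫ hV.fromSpec := by
    have h1 := In.subschemeCover_map_subschemeι ⟨V, hV⟩
    rw [In.glueDataObjι_ι] at h1
    exact h1
  have e₁ : Spec.map (CommRingCat.ofHom (algebraMap A B)) ≫ hV.fromSpec = hU.fromSpec ≫ f := by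
    rw [halg]
    exact IsAffineOpen.SpecMap_appLE_fromSpec f hV hU hUV
  haveI : IsOpenImmersion c := In.subschemeCover.map_prop ⟨V, hV⟩
  haveI := hU.isOpenImmersion_fromSpec
  haveI := hV.isOpenImmersion_fromSpec
  let g : Spec (CommRingCat.of (B ⊗[A] (A ⧸ J))) ⟶ pullback f In.subschemeι :=
    (pullbackSpecIso A B (A ⧸ J)).inv ≫
      pullback.map _ _ f In.subschemeι hU.fromSpec c hV.fromSpec e₁ hc.symm
  have hg : g ≫ pullback.snd f In.subschemeι =
      Spec.map (CommRingCat.ofHom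
        (Algebra.TensorProduct.includeRight : (A ⧸ J) →ₐ[A] B ⊗[A] (A ⧸ J)).toRingHom) ≫ c := by
    simp only [g, Category.assoc, pullback.lift_snd]
    rw [← Category.assoc, pullbackSpecIso_inv_snd]
    rfl
  haveI : Flat (Spec.map (CommRingCat.ofHom
        (Algebra.TensorProduct.includeRight : (A ⧸ J) →ₐ[A] B ⊗[A] (A ⧸ J)).toRingHom) ≫ c) := by
    rw [← hg]
    infer_instance
  have hfl : Flat (Spec.map (CommRingCat.ofHom
        (Algebra.TensorProduct.includeRight : (A ⧸ J) →ₐ[A] B ⊗[A] (A ⧸ J)).toRingHom)) :=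
    flat_of_comp_openImm _ c
  rw [HasRingHomProperty.Spec_iff (P := @Flat)] at hfl
  letI : Algebra (A ⧸ J) (B ⊗[A] (A ⧸ J)) :=
    (Algebra.TensorProduct.includeRight : (A ⧸ J) →ₐ[A] B ⊗[A] (A ⧸ J)).toRingHom.toAlgebra
  haveI : Module.Flat (A ⧸ J) (B ⊗[A] (A ⧸ J)) := hfl
  let e : ((A ⧸ J) ⊗[A] B) ≃ₗ[A ⧸ J] (B ⊗[A] (A ⧸ J)) :=
    { (TensorProduct.comm A (A ⧸ J) B) with
      map_smul' := by
        intro r x
        induction x using TensorProduct.induction_on with
        | zero => simp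
        | add x y hx hy =>
          simp only [smul_add, map_add, AddHom.toFun_eq_coe, LinearMap.coe_toAddHom,
            LinearEquiv.coe_coe, RingHom.id_apply] at hx hy ⊢
          rw [hx, hy]
        | tmul s b =>
          simp only [AddHom.toFun_eq_coe, LinearMap.coe_toAddHom, LinearEquiv.coe_coe,
            RingHom.id_apply, TensorProduct.smul_tmul', TensorProduct.comm_tmul]
          rw [Algebra.smul_def]
          change b ⊗ₜ[A] (r • s) = ((1 : B) ⊗ₜ[A] r) * (b ⊗ₜ[A] s)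
          rw [Algebra.TensorProduct.tmul_mul_tmul, one_mul, smul_eq_mul] }
  exact Module.Flat.of_linearEquiv e


set_option backward.isDefEq.respectTransparency.types false in
set_option backward.defeqAttrib.useBackward true in
theorem main {X S : Scheme.{u}} (f : X ⟶ S) [IsLocallyNoetherian X] [IsLocallyNoetherian S]
    (I : S.IdealSheafData) (h : ∀ n : ℕ, Flat (pullback.snd f (I ^ (n + 1)).subschemeι)) (x : X)
    (hx : f x ∈ I.support) : (f.stalkMap x).hom.Flat := by
  obtain ⟨_, ⟨V, hV, rfl⟩, hxV, -⟩ :=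
    S.isBasis_affineOpens.exists_subset_of_mem_open (Set.mem_univ (f x)) isOpen_univ
  obtain ⟨_, ⟨U, hU, rfl⟩, hxU, hUV⟩ :=
    X.isBasis_affineOpens.exists_subset_of_mem_open hxV (V.2.preimage f.continuous)
  haveI : IsNoetherianRing Γ(S, V) := IsLocallyNoetherian.component_noetherian ⟨V, hV⟩
  haveI : IsNoetherianRing Γ(X, U) := IsLocallyNoetherian.component_noetherian ⟨U, hU⟩
  algebraize [(f.appLE V U hUV).hom]
  let p := (hV.primeIdealOf ⟨f x, hUV hxU⟩).asIdeal
  let q := (hU.primeIdealOf ⟨x, hxU⟩).asIdeal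
  have hqp : q.LiesOver p :=
    ⟨congr($(IsAffineOpen.comap_primeIdealOf_appLE V hV U hU hUV hxU).1).symm⟩
  let _ := Localization.AtPrime.algebraOfLiesOver p q
  let iso := IsAffineOpen.arrowStalkMapIso f V hV U hU hUV hxU
  have hflat_iff : (f.stalkMap x).hom.Flat ↔
      Module.Flat (Localization.AtPrime p) (Localization.AtPrime q) := by
    rw [← RingHom.flat_algebraMap_iff]
    exact RingHom.Flat.respectsIso.arrow_mk_iso_iff iso
  rw [hflat_iff]
  -- local criterion
  have hkey : ∀ n : ℕ, 0 < n → Module.Flat (Γ(S, V) ⧸ (I.ideal ⟨V, hV⟩) ^ n)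
      ((Γ(S, V) ⧸ (I.ideal ⟨V, hV⟩) ^ n) ⊗[Γ(S, V)] Γ(X, U)) := by
    intro n hn
    obtain ⟨m, rfl⟩ := Nat.exists_eq_succ_of_ne_zero hn.ne'
    exact key f I V hV U hU hUV (m + 1) (h m) rfl
  have hq : (I.ideal ⟨V, hV⟩).map (algebraMap Γ(S, V) Γ(X, U)) ≤ q := by
    rw [Ideal.map_le_iff_le_comap, ← Ideal.under_def, ← q.over_def p]
    have h0 : f x ∈ S.zeroLocus (U := V) (I.ideal ⟨V, hV⟩) :=
      (Scheme.IdealSheafData.mem_support_iff_of_mem (U := ⟨V, hV⟩) (hUV hxU)).mp hx
    have h2 : hV.primeIdealOf ⟨f x, hUV hxU⟩ ∈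
        hV.fromSpec ⁻¹' S.zeroLocus (U := V) (I.ideal ⟨V, hV⟩) := by
      change hV.fromSpec (hV.primeIdealOf ⟨f x, hUV hxU⟩) ∈ S.zeroLocus (U := V) (I.ideal ⟨V, hV⟩)
      rw [hV.fromSpec_primeIdealOf]
      exact h0
    rw [hV.fromSpec_preimage_zeroLocus] at h2
    exact h2
  have h1 := Groth.Agent.H1.flat_localizedModule_of_forall_flat_quotient_pow
    (A := Γ(S, V)) (S := Γ(X, U)) (M := Γ(X, U)) (I.ideal ⟨V, hV⟩) hkey q hq
  -- transfer to the localization
  have h3 : Module.Flat Γ(S, V) (Localization.AtPrime q) :=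
    Module.Flat.of_linearEquiv
      ((IsLocalizedModule.iso q.primeCompl
        (Algebra.linearMap Γ(X, U) (Localization.AtPrime q))).restrictScalars Γ(S, V)).symm
  exact (Module.flat_iff_of_isLocalization (R := Γ(S, V)) (Localization.AtPrime p) p.primeCompl
    (Localization.AtPrime q)).mpr h3

end H1.S9738aux

open AlgebraicGeometry CategoryTheory Limits in
/-- For a morphism f : X ⟶ S between locally Noetherian schemes, an ideal sheaf I on S with closed
subscheme Z, and Z_n the closed subscheme cut out by I^(n+1): if each base change X ×_S Z_n ⟶ Z_n is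
flat, then f is flat at each point of X lying over Z. -/
theorem result {X S : Scheme.{u}} (f : X ⟶ S) [IsLocallyNoetherian X] [IsLocallyNoetherian S]
    (I : S.IdealSheafData) (h : ∀ n : ℕ, Flat (pullback.snd f (I ^ (n + 1)).subschemeι)) (x : X) (hx : f x ∈ I.support) :
    (f.stalkMap x).hom.Flat := by
  exact H1.S9738aux.main f I h x hx

end Groth.Agent.S9738
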