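import Groth.Statements.S1359
import Mathlib
import Groth.Agent.Lib.Helper1.InfNbhd
import Groth.Agent.S9738

set_option autoImplicit false
universe u
open FlatMor

namespace Groth.Agent.S1359

namespace H1.S1359aux
open TensorProduct AlgebraicGeometry CategoryTheory Limits Groth.Agent.H1.InfNbhd

set_option backward.isDefEq.respectTransparency.types false in
set_option backward.defeqAttrib.useBackward true in
theorem main {X S : Scheme.{u}} (f : X ⟶ S) [IsLocallyNoetherian S] [LocallyOfFinitePresentation f]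
    (I : S.IdealSheafData) (h : ∀ n : ℕ, Smooth (pullback.snd f (I ^ (n + 1)).subschemeι)) (x : X)
    (hx : f x ∈ I.support) : x ∈ f.smoothLocus := by
  haveI : IsLocallyNoetherian X := LocallyOfFiniteType.isLocallyNoetherian f
  have hfl : (f.stalkMap x).hom.Flat :=
    Groth.Agent.S9738.result f I (fun n => inferInstance) x hx
  obtain ⟨_, ⟨V, hV, rfl⟩, hxV, -⟩ :=
    S.isBasis_affineOpens.exists_subset_of_mem_open (Set.mem_univ (f x)) isOpen_univ
  obtain ⟨_, ⟨U, hU, rfl⟩, hxU, hUV⟩ :=
    X.isBasis_affineOpens.exists_subset_of_mem_open hxV (V.2.preimage f.continuous)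
  have hfp := f.finitePresentation_appLE hV hU hUV
  algebraize [(f.appLE V U hUV).hom]
  let p := (hV.primeIdealOf ⟨f x, hUV hxU⟩).asIdeal
  let q := (hU.primeIdealOf ⟨x, hxU⟩).asIdeal
  have hqp : q.LiesOver p :=
    ⟨congr($(IsAffineOpen.comap_primeIdealOf_appLE V hV U hU hUV hxU).1).symm⟩
  let _ := Localization.AtPrime.algebraOfLiesOver p q
  let iso := IsAffineOpen.arrowStalkMapIso f V hV U hU hUV hxU
  have hflat_iff : (f.stalkMap x).hom.Flat ↔
      Module.Flat (Localization.AtPrime p) (Localization.AtPrime q) := by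
    rw [← RingHom.flat_algebraMap_iff]
    exact RingHom.Flat.respectsIso.arrow_mk_iso_iff iso
  rw [hflat_iff] at hfl
  -- the ideal
  have hJp : (I ^ (0 + 1)).ideal ⟨V, hV⟩ ≤ p := by
    have h0 : f x ∈ S.zeroLocus (U := V) (I.ideal ⟨V, hV⟩) :=
      (Scheme.IdealSheafData.mem_support_iff_of_mem (U := ⟨V, hV⟩) (hUV hxU)).mp hx
    have h2 : hV.primeIdealOf ⟨f x, hUV hxU⟩ ∈
        hV.fromSpec ⁻¹' S.zeroLocus (U := V) (I.ideal ⟨V, hV⟩) := by
      change hV.fromSpec (hV.primeIdealOf ⟨f x, hUV hxU⟩) ∈ S.zeroLocus (U := V) (I.ideal ⟨V, hV⟩)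
      rw [hV.fromSpec_primeIdealOf]
      exact h0
    rw [hV.fromSpec_preimage_zeroLocus] at h2
    have h3 : (I ^ (0 + 1)).ideal ⟨V, hV⟩ = I.ideal ⟨V, hV⟩ := by
      change I.ideal ⟨V, hV⟩ ^ (0 + 1) = _
      rw [zero_add, pow_one]
    rw [h3]
    exact h2
  have hsm := prop_includeRight @Smooth RingHom.Smooth (fun j _ => inferInstance) f (I ^ (0 + 1))
    V hV U hU hUV rfl (h 0)
  have hsm2 := algebraMap_of_includeRight RingHom.Smooth RingHom.Smooth.respectsIso hsm
  rw [RingHom.smooth_algebraMap] at hsm2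
  haveI := hsm2.formallySmooth
  have := isSmoothAt_of_quotient ((I ^ (0 + 1)).ideal ⟨V, hV⟩) p q hJp hfl
  exact (formallySmooth_stalkMap_iff V hV U hU hUV hxU).mpr this

end H1.S1359aux

open AlgebraicGeometry CategoryTheory Limits in
/-- Let S be locally Noetherian, f : X → S of finite type, and Z the closed subscheme of S cut out by an
ideal sheaf I, with infinitesimal neighbourhoods cut out by the powers of I. If the base change of f
to every infinitesimal neighbourhood is smooth, then every point of X lying over Z is in the smooth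
locus of f. -/
theorem result {X S : Scheme.{u}} (f : X ⟶ S) [IsLocallyNoetherian S] [LocallyOfFinitePresentation f] [QuasiCompact f]
    (I : S.IdealSheafData) (h : ∀ n : ℕ, Smooth (pullback.snd f (I ^ (n + 1)).subschemeι)) (x : X) (hx : f x ∈ I.support) :
    x ∈ f.smoothLocus := by
  exact H1.S1359aux.main f I h x hx

end Groth.Agent.S1359
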