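import Groth.Statements.S13590
import Groth.Agent.Lib.Lead.CE.Adj
import Groth.Agent.Lib.Lead.SC.ExtZero
import Groth.Agent.Lib.Lead.SC.RPushComp
-- import your own Groth.Agent.* helpers here

set_option autoImplicit false
universe u
open CategoryTheory TopologicalSpace
open SuppFam

namespace Groth.Agent.S13590

/-- For an abelian sheaf `F` on a topological space `X` and a locally closed `Z = V ∖ W` (`W ≤ V`
opens), if `F` is injective then the sheaf `Γ_Z(F) = i_* i^!(F)` of sections of `F` with supports in
`Z` is injective. -/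
theorem result {X : TopCat.{u}} (F : CohTop.Ab X) {W V : Opens X} (h : W ≤ V)
    (hF : Injective F) : Injective ((SuppFam.sectSuppLC h).obj F) := by
  haveI := hF
  haveI h1 : Injective ((CohTop.restrFunctor V).obj F) :=
    Functor.PreservesInjectiveObjects.injective_obj inferInstance
  have h2 : Injective (CohCx.HZ (inOpen V W) ((CohTop.restrFunctor V).obj F)) :=
    Groth.Agent.LD.CE.injective_HZ _ _
  have h3 : Injective ((CohTop.push (CohCx.inclCompl (inOpen V W))).obj
      (CohCx.HZ (inOpen V W) ((CohTop.restrFunctor V).obj F))) :=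
    Groth.Agent.LD.SC.injective_pushAb _ _ h2
  haveI := Groth.Agent.LD.CE.isIso_unit_sectSupp (inOpen V W) ((CohTop.restrFunctor V).obj F)
  have h4 : Injective ((LocCohZ.sectSuppF (inOpen V W)).obj ((CohTop.restrFunctor V).obj F)) :=
    Injective.of_iso (asIso ((Groth.Agent.LD.CE.adjI (CohCx.inclCompl (inOpen V W))).unit.app
      ((LocCohZ.sectSuppF (inOpen V W)).obj ((CohTop.restrFunctor V).obj F)))).symm h3
  exact Groth.Agent.LD.SC.injective_pushAb _ _ h4

end Groth.Agent.S13590
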