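import Groth.Statements.S1360
import Mathlib
import Groth.Agent.Lib.Helper1.InfNbhd
import Groth.Agent.Lib.Helper1.EtNhd
import Groth.Agent.S9738

set_option autoImplicit false
universe u
open FlatMor

namespace Groth.Agent.S1360

namespace H1.S1360aux
open TensorProduct AlgebraicGeometry CategoryTheory Limits Groth.Agent.H1.InfNbhd

set_option backward.isDefEq.respectTransparency.types false in
set_option backward.defeqAttrib.useBackward true in
theorem main {X S : Scheme.{u}} (f : X ⟶ S) [IsLocallyNoetherian S] [LocallyOfFinitePresentation f]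
    (I : S.IdealSheafData) (h : ∀ n : ℕ, Etale (pullback.snd f (I ^ (n + 1)).subschemeι)) (x : X)
    (hx : f x ∈ I.support) : ∃ U : X.Opens, x ∈ U ∧ Etale (U.ι ≫ f) := by
  haveI : IsLocallyNoetherian X := LocallyOfFiniteType.isLocallyNoetherian f
  have hfl : (f.stalkMap x).hom.Flat :=
    Groth.Agent.S9738.result f I (fun n => inferInstance) x hx
  refine Groth.Agent.H1.EtNhd.exists_etale_nhd f x hfl ?_
  obtain ⟨_, ⟨V, hV, rfl⟩, hxV, -⟩ :=
    S.isBasis_affineOpens.exists_subset_of_mem_open (Set.mem_univ (f x)) isOpen_univ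
  obtain ⟨_, ⟨U, hU, rfl⟩, hxU, hUV⟩ :=
    X.isBasis_affineOpens.exists_subset_of_mem_open hxV (V.2.preimage f.continuous)
  have hfp := f.finitePresentation_appLE hV hU hUV
  algebraize [(f.appLE V U hUV).hom]
  let p := (hV.primeIdealOf ⟨f x, hUV hxU⟩).asIdeal
  let q := (hU.primeIdealOf ⟨x, hxU⟩).asIdeal
  have hqp : q.LiesOver p :=
    ⟨congr($(IsAffineOpen.comap_primeIdealOf_appLE V hV U hU hUV hxU).1).symm⟩
  let _ := Localization.AtPrime.algebraOfLiesOver p q
  let iso := IsAffineOpen.arrowStalkMapIso f V hV U hU hUV hxU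
  have hunr_iff : (f.stalkMap x).hom.FormallyUnramified ↔
      Algebra.FormallyUnramified (Localization.AtPrime p) (Localization.AtPrime q) := by
    rw [← RingHom.formallyUnramified_algebraMap]
    exact RingHom.FormallyUnramified.respectsIso.arrow_mk_iso_iff iso
  rw [hunr_iff]
  -- the ideal
  have hJp : (I ^ (0 + 1)).ideal ⟨V, hV⟩ ≤ p := by
    have h0 : f x ∈ S.zeroLocus (U := V) (I.ideal ⟨V, hV⟩) :=
      (Scheme.IdealSheafData.mem_support_iff_of_mem (U := ⟨V, hV⟩) (hUV hxU)).mp hx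
    have h2 : hV.primeIdealOf ⟨f x, hUV hxU⟩ ∈
        hV.fromSpec ⁻¹' S.zeroLocus (U := V) (I.ideal ⟨V, hV⟩) := by
      change hV.fromSpec (hV.primeIdealOf ⟨f x, hUV hxU⟩) ∈ S.zeroLocus (U := V) (I.ideal ⟨V, hV⟩)
      rw [hV.fromSpec_primeIdealOf]
      exact h0
    rw [hV.fromSpec_preimage_zeroLocus] at h2
    have h3 : (I ^ (0 + 1)).ideal ⟨V, hV⟩ = I.ideal ⟨V, hV⟩ := by
      change I.ideal ⟨V, hV⟩ ^ (0 + 1) = _
      rw [zero_add, pow_one]
    rw [h3]
    exact h2
  have hq : ((I ^ (0 + 1)).ideal ⟨V, hV⟩).map (algebraMap Γ(S, V) Γ(X, U)) ≤ q := by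
    rw [Ideal.map_le_iff_le_comap, ← Ideal.under_def, ← q.over_def p]
    exact hJp
  have het := prop_includeRight @Etale RingHom.Etale (fun j _ => inferInstance) f (I ^ (0 + 1))
    V hV U hU hUV rfl (h 0)
  have het2 := algebraMap_of_includeRight RingHom.Etale
    RingHom.Etale.propertyIsLocal.respectsIso het
  rw [RingHom.etale_algebraMap] at het2
  haveI : Algebra.FormallyUnramified (Γ(S, V) ⧸ (I ^ (0 + 1)).ideal ⟨V, hV⟩)
      ((Γ(S, V) ⧸ (I ^ (0 + 1)).ideal ⟨V, hV⟩) ⊗[Γ(S, V)] Γ(X, U)) := inferInstance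
  have hun : Algebra.IsUnramifiedAt Γ(S, V) q :=
    isUnramifiedAt_of_quotient ((I ^ (0 + 1)).ideal ⟨V, hV⟩) q hq
  exact Algebra.FormallyUnramified.of_restrictScalars Γ(S, V) _ _

end H1.S1360aux

open AlgebraicGeometry CategoryTheory Limits in
/-- Let S be locally Noetherian, f : X → S of finite type, and Z the closed subscheme of S cut out by an
ideal sheaf I. If the base change of f to every infinitesimal neighbourhood of Z is étale, then
every point of X over Z has an open neighbourhood on which f is étale. -/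
theorem result {X S : Scheme.{u}} (f : X ⟶ S) [IsLocallyNoetherian S] [LocallyOfFinitePresentation f] [QuasiCompact f]
    (I : S.IdealSheafData) (h : ∀ n : ℕ, Etale (pullback.snd f (I ^ (n + 1)).subschemeι)) (x : X) (hx : f x ∈ I.support) :
    ∃ U : X.Opens, x ∈ U ∧ Etale (U.ι ≫ f) := by
  exact H1.S1360aux.main f I h x hx

end Groth.Agent.S1360
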