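import Groth.Statements.S13603
import Mathlib.Tactic
-- import your own Groth.Agent.* helpers here

set_option autoImplicit false
universe u v
open CAlg

namespace Groth.Agent.S13603

/-- Let a group G act on a commutative ring B by ring automorphisms so that every element of B has a
finite orbit, and let S ⊆ B be a multiplicative set of G-fixed elements (so each g ∈ G induces an
endomorphism of the localization S⁻¹B; the hypothesis that g maps S into S is implied by the
previous one and is only carried to name that endomorphism). Then an element of S⁻¹B is fixed by all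
of G if and only if it is a fraction b/s with b fixed by G and s ∈ S: the canonical map S⁻¹(B^G) →
(S⁻¹B)^G is onto. -/
theorem result {B : Type u} [CommRing B]
    {G : Type v} [Group G] [MulSemiringAction G B] (hfin : ∀ b : B, (MulAction.orbit G b).Finite)
    (S : Submonoid B) (hS : ∀ (g : G) (s : B), s ∈ S → g • s = s)
    (hS' : ∀ g : G, S ≤ S.comap (MulSemiringAction.toRingHom G B g)) (x : Localization S) :
    (∀ g : G, IsLocalization.map (Localization S) (MulSemiringAction.toRingHom G B g) (hS' g) x = x) ↔
      ∃ (b : B) (s : S), (∀ g : G, g • b = b) ∧ x = IsLocalization.mk' (Localization S) b s := by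
  classical
  constructor
  · intro hx
    obtain ⟨b, s, rfl⟩ := IsLocalization.exists_mk'_eq S x
    have key : ∀ b' : (hfin b).toFinset, ∃ c : S, (c : B) * ((s : B) * (b' : B)) = c * (s * b) := by
      rintro ⟨b', hb'⟩
      rw [Set.Finite.mem_toFinset] at hb'
      obtain ⟨g, rfl⟩ := hb'
      have h := hx g
      rw [IsLocalization.map_mk', IsLocalization.mk'_eq_iff_eq, IsLocalization.eq_iff_exists S] at h
      obtain ⟨c, hc⟩ := h
      refine ⟨c, ?_⟩
      simpa [hS g s s.2] using hc
    choose c hc using key
    let t : S := ∏ b' : (hfin b).toFinset, c b'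
    have ht : ∀ g : G, (t : B) * (s * (g • b)) = t * (s * b) := by
      intro g
      have hmem : g • b ∈ (hfin b).toFinset := by
        rw [Set.Finite.mem_toFinset]; exact ⟨g, rfl⟩
      obtain ⟨r, hr⟩ : c ⟨g • b, hmem⟩ ∣ t := Finset.dvd_prod_of_mem _ (Finset.mem_univ _)
      have hr' : (t : B) = (c ⟨g • b, hmem⟩ : B) * (r : B) := by rw [hr]; rfl
      have := hc ⟨g • b, hmem⟩
      simp only at this
      rw [hr']
      calc (c ⟨g • b, hmem⟩ : B) * (r : B) * (s * (g • b))
          = (r : B) * ((c ⟨g • b, hmem⟩ : B) * (s * (g • b))) := by ring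
        _ = (r : B) * ((c ⟨g • b, hmem⟩ : B) * (s * b)) := by rw [this]
        _ = _ := by ring
    refine ⟨t * s * b, t * s * s, ?_, ?_⟩
    · intro g
      rw [smul_mul', smul_mul', hS g t t.2, hS g s s.2, mul_assoc, ht g, mul_assoc]
    · rw [IsLocalization.mk'_eq_iff_eq]
      congr 1
      push_cast
      ring
  · rintro ⟨b, s, hb, rfl⟩ g
    rw [IsLocalization.map_mk']
    have h1 : (MulSemiringAction.toRingHom G B g) b = b := hb g
    have h2 : (⟨(MulSemiringAction.toRingHom G B g) s, hS' g s.2⟩ : S) = s := Subtype.ext (hS g s s.2)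
    rw [h1, h2]

end Groth.Agent.S13603
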