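import Groth.Statements.S13607
import Groth.Agent.Lib.Helper2.ARSysLin

set_option autoImplicit false
open CategoryTheory CategoryTheory.Limits Opposite
universe w v u
open ARSys

namespace Groth.Agent.S13607

/-- In an abelian category linear over a commutative ring A with an ideal J, let X be a J-adic
projective system indexed by the natural numbers and Y a projective system whose n-th term is killed
by J^(n+1) for every n. Then for every r, every morphism from the translate X[r] to Y factors
uniquely through the canonical translation map X[r] ⟶ X: there is exactly one morphism g : X ⟶ Y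
whose n-th component, precomposed with the transition map X_(n+r) ⟶ X_n, is the n-th component of
the given morphism. In particular morphisms X ⟶ Y up to translation are the same as morphisms X ⟶ Y.
(The published statement is for systems of finitely generated modules over a Noetherian ring, and
for systems of sheaves of modules on the small etale site; this row states it in any linear abelian
category, which is all the argument uses.) -/
theorem result {C : Type u} [Category.{v} C] [Abelian C] {A : Type w} [CommRing A] [Linear A C]
    (J : Ideal A) (X Y : ARSys.PS C) (hX : ARSys.IsAdic J X) (hY : ARSys.TermKilled J Y) (r : ℕ)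
    (f : (ARSys.shift C r).obj X ⟶ Y) :
    ∃! g : X ⟶ Y, ∀ n : ℕ, f.app (op n) = ARSys.shiftMap X r n ≫ g.app (op n) := by
  classical
  have hq : ∀ n : ℕ, ARSys.IsQuot (J ^ (n + 1)) (ARSys.tr X (Nat.le_add_right n r)) :=
    fun n => hX.2 n (n + r) _
  have hepi : ∀ n : ℕ, Epi (ARSys.tr X (Nat.le_add_right n r)) :=
    fun n => Groth.Agent.H2.AR.isQuot_epi (hq n)
  have hex : ∀ n : ℕ, ∃ g : X.obj (op n) ⟶ Y.obj (op n),
      ARSys.tr X (Nat.le_add_right n r) ≫ g = Groth.Agent.H2.AR.shiftApp f n := fun n =>
    Groth.Agent.H2.AR.isQuot_exists_desc_of_killedBy (hq n) _ (hY n)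
  choose g hg using hex
  have hnat : ∀ (n m : ℕ) (h : n ≤ m), g m ≫ ARSys.tr Y h = ARSys.tr X h ≫ g n := by
    intro n m h
    have := hepi m
    rw [← cancel_epi (ARSys.tr X (Nat.le_add_right m r)), reassoc_of% (hg m),
      Groth.Agent.H2.AR.shiftApp_naturality f h, ← hg n, Groth.Agent.H2.AR.tr_comp_assoc,
      Groth.Agent.H2.AR.tr_comp_assoc]
  refine ⟨{ app := fun n => g n.unop
            naturality := ?_ }, ?_, ?_⟩
  · intro n m φ
    have hmn : m.unop ≤ n.unop := leOfHom φ.unop
    rw [Groth.Agent.H2.AR.map_eq_tr X φ, Groth.Agent.H2.AR.map_eq_tr Y φ]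
    exact (hnat m.unop n.unop hmn).symm
  · intro n
    exact (hg n).symm
  · intro g' hg'
    ext ⟨n⟩
    have := hepi n
    rw [← cancel_epi (ARSys.tr X (Nat.le_add_right n r))]
    change ARSys.tr X (Nat.le_add_right n r) ≫ g'.app (op n) = ARSys.tr X (Nat.le_add_right n r) ≫ g n
    rw [hg n]
    exact (hg' n).symm

end Groth.Agent.S13607
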