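import Groth.Statements.S13609
-- import your own Groth.Agent.* helpers here

set_option autoImplicit false
universe u v
open CAlg

namespace Groth.Agent.S13609

/-- A direct summand of a module that is complete and separated for the I-adic topology is again
complete and separated: for a commutative ring A, an ideal I and A-modules M₁, M₂, if M₁ × M₂ is
I-adically complete then so is M₁. -/
theorem result (A : Type u) [CommRing A] (I : Ideal A)
    (M₁ M₂ : Type v) [AddCommGroup M₁] [Module A M₁] [AddCommGroup M₂] [Module A M₂]
    [IsAdicComplete I (M₁ × M₂)] : IsAdicComplete I M₁ := by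
  have key : ∀ {M N : Type v} [AddCommGroup M] [Module A M] [AddCommGroup N] [Module A N]
      (g : M →ₗ[A] N) (n : ℕ) (x : M), x ∈ (I ^ n • ⊤ : Submodule A M) →
        g x ∈ (I ^ n • ⊤ : Submodule A N) := by
    intro M N _ _ _ _ g n x hx
    have h : Submodule.map g (I ^ n • ⊤) ≤ (I ^ n • ⊤ : Submodule A N) := by
      rw [Submodule.map_smul'']
      exact Submodule.smul_mono le_rfl le_top
    exact h (Submodule.mem_map_of_mem hx)
  refine { haus' := ?_, prec' := ?_ }
  · intro x hx
    have h0 : (LinearMap.inl A M₁ M₂ x) = 0 := by
      apply IsHausdorff.haus' (I := I)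
      intro n
      rw [SModEq.sub_mem, sub_zero]
      have := hx n
      rw [SModEq.sub_mem, sub_zero] at this
      exact key (LinearMap.inl A M₁ M₂) n x this
    have : (LinearMap.fst A M₁ M₂) (LinearMap.inl A M₁ M₂ x) = 0 := by rw [h0, map_zero]
    simpa using this
  · intro f hf
    obtain ⟨L, hL⟩ := IsPrecomplete.prec' (I := I) (fun n => LinearMap.inl A M₁ M₂ (f n)) (by
      intro m n hmn
      rw [SModEq.sub_mem, ← map_sub]
      have := hf hmn
      rw [SModEq.sub_mem] at this
      exact key (LinearMap.inl A M₁ M₂) m _ this)
    refine ⟨L.1, fun n => ?_⟩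
    have := hL n
    rw [SModEq.sub_mem] at this ⊢
    have h2 := key (LinearMap.fst A M₁ M₂) n _ this
    simpa using h2

end Groth.Agent.S13609
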