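import Groth.Statements.S13621
import Groth.Agent.Lib.Helper2.ARSysInv

set_option autoImplicit false
open CategoryTheory CategoryTheory.Limits Opposite
universe v u
open ARSys

namespace Groth.Agent.S13621

/-- The inverse limit is a well-defined functor on projective systems up to translation. Concretely: in
an abelian category with limits of shape ℕᵒᵖ, a morphism u : X ⟶ Y of projective systems indexed by
the natural numbers whose kernel and cokernel are null up to translation induces an isomorphism lim
X ⟶ lim Y. (The published statement is the functoriality of lim on the category of systems up to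
translation; combined with the description of isomorphisms there as the morphisms with null kernel
and cokernel, this is the form stated.) -/
theorem result {C : Type u} [Category.{v} C] [Abelian C] [HasLimitsOfShape ℕᵒᵖ C]
    {X Y : ARSys.PS C} (u : X ⟶ Y) (hu : ARSys.IsARIso u) : IsIso (limMap u) := by
  classical
  obtain ⟨r, v, h1, h2, h3⟩ := Groth.Agent.H2.AR.exists_quasiInverse u hu
  let c : Cone X :=
    { pt := limit Y
      π :=
        { app := fun n => limit.π Y (op (n.unop + r)) ≫ v n.unop
          naturality := by
            intro n m f
            have hmn : m.unop ≤ n.unop := leOfHom f.unop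
            dsimp
            rw [Category.id_comp, Category.assoc, Groth.Agent.H2.AR.map_eq_tr X f,
              ← h3 m.unop n.unop hmn]
            have := limit.w Y (homOfLE (Nat.add_le_add_right hmn r)).op
            rw [← Category.assoc]
            exact congrArg (· ≫ v m.unop) this.symm } }
  have hc : ∀ n : ℕ, limit.lift X c ≫ limit.π X (op n) = limit.π Y (op (n + r)) ≫ v n :=
    fun n => limit.lift_π c (op n)
  refine ⟨⟨limit.lift X c, ?_, ?_⟩⟩
  · apply limit.hom_ext
    rintro ⟨n⟩
    rw [Category.assoc, hc n, Category.id_comp, limMap_π_assoc, h2 n]
    exact limit.w X (homOfLE (Nat.le_add_right n r)).op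
  · apply limit.hom_ext
    rintro ⟨n⟩
    rw [Category.assoc, limMap_π, ← Category.assoc, hc n, Category.id_comp, Category.assoc, h1 n]
    exact limit.w Y (homOfLE (Nat.le_add_right n r)).op

end Groth.Agent.S13621
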