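import Groth.Statements.S13628
import Mathlib
-- import your own Groth.Agent.* helpers here

set_option autoImplicit false
universe u
open CategoryTheory CategoryTheory.Limits AlgebraicGeometry Opposite
open FBase

namespace Groth.Agent.S13628

/-- Let P be a property of schemes over fields, invariant under isomorphisms of schemes over the base
field and invariant in both directions under every field extension k → K (Z over k has P if and only
if Z ×_k Spec K over K has P). Let f : X → T be a morphism of schemes, h : T' → T a surjective
morphism of schemes and f' : X' → T' a base change of f along h. If for every algebraically closed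
field k and every Spec k → T' the fibre X' ×_{T'} Spec k has P, then for every algebraically closed
field k and every Spec k → T the fibre X ×_T Spec k has P. (Fields are taken in the universe of the
schemes. The published statement is that families of del Pezzo surfaces form a stack for the étale
topology; this row is the step of its proof that descends the condition on geometric fibres along a
surjective base change, stated for any fibre property with the invariance above.) -/
theorem result
    (P : ∀ (k : Type u) [Field k] (Z : Scheme.{u}), (Z ⟶ Spec (CommRingCat.of k)) → Prop)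
    (hiso : ∀ (k : Type u) [Field k] (Z Z' : Scheme.{u}) (e : Z ≅ Z') (g : Z' ⟶ Spec (CommRingCat.of k)),
      P k Z' g → P k Z (e.hom ≫ g))
    (hext : ∀ (k K : Type u) [Field k] [Field K] (i : k →+* K) (Z : Scheme.{u}) (g : Z ⟶ Spec (CommRingCat.of k)),
      P k Z g ↔ P K (pullback g (Spec.map (CommRingCat.ofHom i))) (pullback.snd g (Spec.map (CommRingCat.ofHom i))))
    {X T X' T' : Scheme.{u}} (f : X ⟶ T) (h : T' ⟶ T) [Surjective h] (f' : X' ⟶ T') (h' : X' ⟶ X)
    (sq : IsPullback h' f' f h)
    (H : ∀ (k : Type u) [Field k] [IsAlgClosed k] (σ' : Spec (CommRingCat.of k) ⟶ T'),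
        P k (pullback f' σ') (pullback.snd f' σ'))
    (k : Type u) [Field k] [IsAlgClosed k] (σ : Spec (CommRingCat.of k) ⟶ T) :
    P k (pullback f σ) (pullback.snd f σ) := by
  let x : Spec (CommRingCat.of k) := IsLocalRing.closedPoint k
  obtain ⟨t', ht'⟩ := h.surjective (σ x)
  obtain ⟨z, -, -⟩ := Scheme.Pullback.exists_preimage_pullback (f := σ) (g := h) x t' ht'.symm
  let W := pullback σ h
  let K := AlgebraicClosure (W.residueField z)
  let ρ : Spec (CommRingCat.of K) ⟶ W :=
    Spec.map (CommRingCat.ofHom (algebraMap (W.residueField z) K)) ≫ W.fromSpecResidueField z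
  let i' : CommRingCat.of k ⟶ CommRingCat.of K := Spec.preimage (ρ ≫ pullback.fst σ h)
  have hi' : Spec.map i' = ρ ≫ pullback.fst σ h := Spec.map_preimage _
  let σ' : Spec (CommRingCat.of K) ⟶ T' := ρ ≫ pullback.snd σ h
  have hσ' : σ' ≫ h = Spec.map i' ≫ σ := by
    rw [hi']
    calc (ρ ≫ pullback.snd σ h) ≫ h = ρ ≫ (pullback.snd σ h ≫ h) := Category.assoc _ _ _
      _ = ρ ≫ (pullback.fst σ h ≫ σ) := congrArg (ρ ≫ ·) pullback.condition.symm
      _ = (ρ ≫ pullback.fst σ h) ≫ σ := (Category.assoc _ _ _).symm
  have h1 := H K σ'
  have hpb : IsPullback (pullback.fst f' σ' ≫ h') (pullback.snd f' σ') f (σ' ≫ h) :=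
    (IsPullback.of_hasPullback f' σ').paste_horiz sq
  have h2 := hiso K _ _ hpb.isoPullback.symm _ h1
  rw [Iso.symm_hom, IsPullback.isoPullback_inv_snd] at h2
  rw [hσ'] at h2
  have h3 := hiso K _ _ (pullbackLeftPullbackSndIso f σ (Spec.map i')) _ h2
  rw [pullbackLeftPullbackSndIso_hom_snd] at h3
  exact (hext k K i'.hom _ _).mpr h3

end Groth.Agent.S13628
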