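import Groth.Statements.S13636
import Groth.Agent.Lib.Helper8.CGrp.Desc
-- import your own Groth.Agent.* helpers here

set_option autoImplicit false
universe u w
open CategoryTheory CategoryTheory.Limits MonoidalCategory CartesianMonoidalCategory MonObj AlgebraicGeometry
open MultSch

namespace Groth.Agent.S13636

/-- Let M' → M → M'' → 0 be a sequence of R-module schemes over a scheme S, with R-linear homomorphisms
j and π, exact as fppf sheaves, and let ψ : P × M × Q → N be a morphism to an R-module scheme N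
which is additive and R-linear in the coordinate M (on T-valued points) and trivial on all points
whose M-coordinate lies in the image of j. Then ψ = ψ' ∘ (id × π × id) for a unique morphism ψ' : P
× M'' × Q → N, and ψ' is additive and R-linear in the coordinate M''. (The published statement has a
product M₁ × ⋯ × M_r of R-module schemes with the exact sequence in the i-th factor and ψ
R-multilinear; here the factors before and after the i-th are collected into single S-schemes P and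
Q, and only linearity in the i-th coordinate, the one the statement is about, is carried; linearity
in the other coordinates passes between ψ and ψ' formally.) -/
theorem result
    {S : Scheme.{u}} {R : Type w} [CommRing R] {P Q M' M M'' N : Over S}
    [GrpObj M'] [IsCommMonObj M'] [GrpObj M] [IsCommMonObj M] [GrpObj M''] [IsCommMonObj M'']
    [GrpObj N] [IsCommMonObj N]
    (ρ' : MultSch.RMod R M') (ρ : MultSch.RMod R M) (ρ'' : MultSch.RMod R M'') (ρN : MultSch.RMod R N)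
    (j : M' ⟶ M) (π : M ⟶ M'') [IsMonHom j] [IsMonHom π]
    (hj : ∀ a : R, j ≫ ρ.act a = ρ'.act a ≫ j) (hπ : ∀ a : R, π ≫ ρ''.act a = ρ.act a ≫ π)
    (w : j ≫ π = 1) (hex : (CGrpSh.seq Scheme.fppfPrecoverage j π w).Exact)
    (hepi : Epi (CGrpSh.ptsMap Scheme.fppfPrecoverage π))
    (ψ : P ⊗ (M ⊗ Q) ⟶ N)
    (hadd : ∀ (T : Over S) (p : T ⟶ P) (q : T ⟶ Q) (y z : T ⟶ M),
      lift p (lift (y * z) q) ≫ ψ = (lift p (lift y q) ≫ ψ) * (lift p (lift z q) ≫ ψ))
    (hlin : ∀ (T : Over S) (p : T ⟶ P) (q : T ⟶ Q) (y : T ⟶ M) (a : R),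
      lift p (lift (y ≫ ρ.act a) q) ≫ ψ = (lift p (lift y q) ≫ ψ) ≫ ρN.act a)
    (hvan : ∀ (T : Over S) (p : T ⟶ P) (q : T ⟶ Q) (y' : T ⟶ M'), lift p (lift (y' ≫ j) q) ≫ ψ = 1) :
    ∃ ψ' : P ⊗ (M'' ⊗ Q) ⟶ N,
      (P ◁ (π ▷ Q)) ≫ ψ' = ψ ∧
      (∀ (T : Over S) (p : T ⟶ P) (q : T ⟶ Q) (y z : T ⟶ M''),
        lift p (lift (y * z) q) ≫ ψ' = (lift p (lift y q) ≫ ψ') * (lift p (lift z q) ≫ ψ')) ∧
      (∀ (T : Over S) (p : T ⟶ P) (q : T ⟶ Q) (y : T ⟶ M'') (a : R),
        lift p (lift (y ≫ ρ''.act a) q) ≫ ψ' = (lift p (lift y q) ≫ ψ') ≫ ρN.act a) ∧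
      ∀ ψ'' : P ⊗ (M'' ⊗ Q) ⟶ N, (P ◁ (π ▷ Q)) ≫ ψ'' = ψ → ψ'' = ψ' := by
  classical
  have hq : Groth.Agent.H8.CGrp.liftSv (P ◁ (π ▷ Q)) (𝟙 (P ⊗ (M'' ⊗ Q))) ∈
      QuotSh.J Scheme.fppfPrecoverage S (P ⊗ (M'' ⊗ Q)) := by
    refine (QuotSh.J Scheme.fppfPrecoverage S).superset_covering ?_
      (Groth.Agent.H8.CGrp.liftSieve_mem Scheme.fppfPrecoverage π hepi
        (snd P (M'' ⊗ Q) ≫ fst M'' Q))
    rintro T' f ⟨y, hy⟩
    refine ⟨lift (f ≫ fst _ _) (lift y (f ≫ snd _ _ ≫ snd _ _)), ?_⟩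
    rw [lift_whiskerLeft, lift_whiskerRight, hy, Category.comp_id]
    apply CartesianMonoidalCategory.hom_ext
    · rw [lift_fst]
    · rw [lift_snd]
      apply CartesianMonoidalCategory.hom_ext
      · rw [lift_fst, Category.assoc]
      · rw [lift_snd, Category.assoc]
  have hvan' : ∀ (T : Over S) (p : T ⟶ P) (r : T ⟶ Q) (d : T ⟶ M), d ≫ π = 1 →
      lift p (lift d r) ≫ ψ = 1 := by
    intro T p r d hd
    refine Groth.Agent.H8.CGrp.hom_ext_of_mem Scheme.fppfPrecoverage _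
      (Groth.Agent.H8.CGrp.kerSieve_mem Scheme.fppfPrecoverage j π w hex d hd) _ _ ?_
    rintro T' f ⟨z, hz⟩
    rw [MonObj.comp_one, ← Category.assoc, comp_lift, comp_lift, ← hz]
    exact hvan T' _ _ z
  have hdecomp : ∀ ⦃T : Over S⦄ (x : T ⟶ P ⊗ (M ⊗ Q)), ∃ p m r, x = lift p (lift m r) := by
    intro T x
    refine ⟨x ≫ fst _ _, x ≫ snd _ _ ≫ fst _ _, x ≫ snd _ _ ≫ snd _ _, ?_⟩
    apply CartesianMonoidalCategory.hom_ext
    · rw [lift_fst]
    · rw [lift_snd]
      apply CartesianMonoidalCategory.hom_ext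
      · rw [lift_fst, Category.assoc]
      · rw [lift_snd, Category.assoc]
  have hψ : ∀ ⦃T : Over S⦄ (x y : T ⟶ P ⊗ (M ⊗ Q)),
      x ≫ (P ◁ (π ▷ Q)) = y ≫ (P ◁ (π ▷ Q)) → x ≫ ψ = y ≫ ψ := by
    intro T x y hxy
    obtain ⟨p, m, r, rfl⟩ := hdecomp x
    obtain ⟨p', m', r', rfl⟩ := hdecomp y
    rw [lift_whiskerLeft, lift_whiskerRight, lift_whiskerLeft, lift_whiskerRight] at hxy
    have h1 : p = p' := by
      have := congrArg (fun z => z ≫ fst _ _) hxy
      simpa only [lift_fst] using this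
    have h2 : m ≫ π = m' ≫ π := by
      have := congrArg (fun z => z ≫ snd _ _ ≫ fst _ _) hxy
      simpa only [lift_snd_assoc, lift_fst] using this
    have h3 : r = r' := by
      have := congrArg (fun z => z ≫ snd _ _ ≫ snd _ _) hxy
      simpa only [lift_snd_assoc, lift_snd] using this
    subst h1 h3
    have hd : (m⁻¹ * m') ≫ π = 1 := by
      rw [MonObj.mul_comp _ _ π, ← h2, ← MonObj.mul_comp _ _ π, inv_mul_cancel, MonObj.one_comp π]
    have hm' : m' = m * (m⁻¹ * m') := by rw [mul_inv_cancel_left]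
    rw [hm', hadd, hvan' T p r _ hd, _root_.mul_one]
  obtain ⟨ψ', hψ'⟩ := Groth.Agent.H8.CGrp.exists_desc Scheme.fppfPrecoverage (P ◁ (π ▷ Q)) hq ψ hψ
  have hfac : ∀ (T : Over S) (p : T ⟶ P) (r : T ⟶ Q) (y : T ⟶ M),
      lift p (lift (y ≫ π) r) ≫ ψ' = lift p (lift y r) ≫ ψ := by
    intro T p r y
    rw [← hψ', ← Category.assoc, lift_whiskerLeft, lift_whiskerRight]
  refine ⟨ψ', hψ', ?_, ?_, ?_⟩
  · intro T p r y z
    refine Groth.Agent.H8.CGrp.hom_ext_of_mem Scheme.fppfPrecoverage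
      (Groth.Agent.H8.CGrp.liftSieve π y ⊓ Groth.Agent.H8.CGrp.liftSieve π z)
      ((QuotSh.J Scheme.fppfPrecoverage S).intersection_covering
        (Groth.Agent.H8.CGrp.liftSieve_mem Scheme.fppfPrecoverage π hepi y)
        (Groth.Agent.H8.CGrp.liftSieve_mem Scheme.fppfPrecoverage π hepi z)) _ _ ?_
    rintro T' f ⟨⟨y', hy'⟩, ⟨z', hz'⟩⟩
    have e1 : f ≫ lift p (lift (y * z) r) =
        lift (f ≫ p) (lift ((y' * z') ≫ π) (f ≫ r)) := by
      rw [comp_lift, comp_lift, MonObj.comp_mul, MonObj.mul_comp _ _ π, hy', hz']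
    have e2 : f ≫ lift p (lift y r) = lift (f ≫ p) (lift (y' ≫ π) (f ≫ r)) := by
      rw [comp_lift, comp_lift, hy']
    have e3 : f ≫ lift p (lift z r) = lift (f ≫ p) (lift (z' ≫ π) (f ≫ r)) := by
      rw [comp_lift, comp_lift, hz']
    rw [MonObj.comp_mul, ← Category.assoc, ← Category.assoc, ← Category.assoc, e1, e2, e3,
      hfac, hfac, hfac, hadd]
  · intro T p r y a
    refine Groth.Agent.H8.CGrp.hom_ext_of_mem Scheme.fppfPrecoverage
      (Groth.Agent.H8.CGrp.liftSieve π y)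
      (Groth.Agent.H8.CGrp.liftSieve_mem Scheme.fppfPrecoverage π hepi y) _ _ ?_
    rintro T' f ⟨y', hy'⟩
    have e1 : f ≫ lift p (lift (y ≫ ρ''.act a) r) =
        lift (f ≫ p) (lift ((y' ≫ ρ.act a) ≫ π) (f ≫ r)) := by
      rw [comp_lift, comp_lift, ← Category.assoc, ← hy', Category.assoc, hπ a, Category.assoc]
    have e2 : f ≫ lift p (lift y r) = lift (f ≫ p) (lift (y' ≫ π) (f ≫ r)) := by
      rw [comp_lift, comp_lift, hy']
    rw [← Category.assoc, e1, hfac, hlin, ← hfac, ← e2]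
    simp only [Category.assoc]
  · intro ψ'' h
    exact Groth.Agent.H8.CGrp.desc_unique Scheme.fppfPrecoverage _ hq ψ'' ψ' (by rw [h, hψ'])

end Groth.Agent.S13636
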