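import Groth.Statements.S13642
import Groth.Agent.Lib.Lead.FRestr.Basic

set_option autoImplicit false
open CategoryTheory
universe u
open FSch

namespace Groth.Agent.S13642

/-- Let f : 𝔛 ⟶ 𝔜 be a finite morphism of locally Noetherian formal schemes (adic, with finite morphism
of smallest levels). Then for every open U of 𝔜 the restriction f⁻¹(U) ⟶ U of f to the induced
formal schemes on U and on its inverse image is a finite morphism. -/
theorem result (𝔛 𝔜 : FSch.Sys.{u}) (h𝔛 : 𝔛.IsLocNoethFormal) (h𝔜 : 𝔜.IsLocNoethFormal)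
    (f : 𝔛 ⟶ 𝔜) (hf : FSch.IsFiniteHom f) (U : (𝔜.X 0).Opens) :
    FSch.IsFiniteHom (FSch.Hom.restrictOpen f h𝔛.1 h𝔜.1 U) := by
  exact ⟨Groth.Agent.LD.FRestr.isAdicHom_restrictOpen f h𝔛.1 h𝔜.1 hf.1 U,
    Groth.Agent.LD.FRestr.restrictOpen_app_of (P := @AlgebraicGeometry.IsFinite) f h𝔛.1 h𝔜.1 U 0 hf.2⟩

end Groth.Agent.S13642
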