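import Groth.Statements.S13709
import Mathlib

set_option autoImplicit false
universe u
open CategoryTheory CategoryTheory.Limits AlgebraicGeometry
open ZeroCyc

namespace Groth.Agent.S13709

/-- Specializations lift along `f` if they lift along its base change by a flat surjective `g`. -/
theorem specializingMap_of_pullback_flat_surjective {X Y Y' : Scheme.{u}} (f : X ⟶ Y) (g : Y' ⟶ Y)
    [Flat g] [Surjective g] (h : SpecializingMap (pullback.snd f g).base) :
    SpecializingMap f.base := by
  intro x y hxy
  obtain ⟨y', rfl⟩ := g.surjective y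
  obtain ⟨y₁', hy₁', hgy₁'⟩ := Flat.generalizingMap g hxy
  obtain ⟨x₁', hx₁'1, hx₁'2⟩ := Scheme.Pullback.exists_preimage_pullback x y₁' hgy₁'.symm
  have h1 : (pullback.snd f g).base x₁' ⤳ y' := by rw [hx₁'2]; exact hy₁'
  obtain ⟨x₂', hx₂'1, hx₂'2⟩ := h h1
  refine ⟨(pullback.fst f g).base x₂', ?_, ?_⟩
  · rw [← hx₁'1]
    exact hx₂'1.map (pullback.fst f g).continuous
  · rw [← Scheme.Hom.comp_apply, pullback.condition, Scheme.Hom.comp_apply, hx₂'2]

theorem bijective_of_pullback_surjective {X Y Y' : Scheme.{u}} (f : X ⟶ Y) (g : Y' ⟶ Y)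
    [Surjective g] (h : Function.Bijective (pullback.snd f g).base) :
    Function.Bijective f.base := by
  constructor
  · intro x₁ x₂ hx
    obtain ⟨y', hy'⟩ := g.surjective (f x₁)
    obtain ⟨x₁', hx₁'1, hx₁'2⟩ := Scheme.Pullback.exists_preimage_pullback x₁ y' hy'.symm
    obtain ⟨x₂', hx₂'1, hx₂'2⟩ := Scheme.Pullback.exists_preimage_pullback x₂ y' (hx ▸ hy'.symm)
    have : x₁' = x₂' := h.1 (hx₁'2.trans hx₂'2.symm)
    rw [← hx₁'1, ← hx₂'1, this]
  · intro y
    obtain ⟨y', rfl⟩ := g.surjective y
    obtain ⟨x', rfl⟩ := h.2 y'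
    refine ⟨(pullback.fst f g).base x', ?_⟩
    rw [← Scheme.Hom.comp_apply, pullback.condition, Scheme.Hom.comp_apply]

/-- Let f : X → Y be a quasi-compact morphism of schemes and g : Y' → Y a faithfully flat morphism, i.e.
flat and surjective, with no quasi-compactness assumption on g. If the base change X ×_Y Y' → Y' of
f along g is a homeomorphism on underlying spaces, then so is f. -/
theorem result {X Y Y' : Scheme.{u}} (f : X ⟶ Y) (g : Y' ⟶ Y)
    [Flat g] [Surjective g] [QuasiCompact f] (h : IsHomeomorph (pullback.snd f g).base) :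
    IsHomeomorph f.base := by
  rw [isHomeomorph_iff_continuous_isClosedMap_bijective]
  refine ⟨f.continuous, ?_, bijective_of_pullback_surjective f g h.bijective⟩
  rw [isClosedMap_iff_specializingMap]
  exact specializingMap_of_pullback_flat_surjective f g h.isClosedMap.specializingMap

end Groth.Agent.S13709
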