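import Groth.Statements.S13710
import Mathlib
import Groth.Agent.S13709

set_option autoImplicit false
universe u
open CategoryTheory CategoryTheory.Limits AlgebraicGeometry
open ZeroCyc

namespace Groth.Agent.S13710


open TensorProduct in
/-- (R0) A module that dies after tensoring with flat algebras hitting every maximal ideal is zero. -/
theorem subsingleton_of_forall_flat_tensor {A : Type u} [CommRing A] (M : Type u) [AddCommGroup M]
    [Module A M]
    (H : ∀ p : Ideal A, p.IsMaximal → ∃ (A' : Type u) (_ : CommRing A') (_ : Algebra A A'),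
      Module.Flat A A' ∧ (∃ p' : Ideal A', p'.IsPrime ∧ p ≤ p'.comap (algebraMap A A')) ∧
        Subsingleton (A' ⊗[A] M)) :
    Subsingleton M := by
  refine ⟨fun m₁ m₂ => ?_⟩
  suffices h : ∀ m : M, m = 0 by rw [h m₁, h m₂]
  intro m
  let I : Ideal A := LinearMap.ker (LinearMap.toSpanSingleton A M m)
  by_contra hm
  have hI : I ≠ ⊤ := by
    intro h
    apply hm
    have : (1 : A) ∈ I := h ▸ Submodule.mem_top
    simpa [I] using this
  obtain ⟨p, hp, hIp⟩ := Ideal.exists_le_maximal I hI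
  obtain ⟨A', _, _, hflat, ⟨p', hp', hpp'⟩, hsub⟩ := H p hp
  -- injective map A/I → M
  let ι : (A ⧸ I) →ₗ[A] M := Submodule.liftQ I (LinearMap.toSpanSingleton A M m) le_rfl
  have hι : Function.Injective ι := by
    rw [← LinearMap.ker_eq_bot]
    exact Submodule.ker_liftQ_eq_bot _ _ _ le_rfl
  have hinj := Module.Flat.lTensor_preserves_injective_linearMap (M := A') ι hι
  have hsub' : Subsingleton (A' ⊗[A] (A ⧸ I)) := hinj.subsingleton
  -- a linear map A' ⊗ A/I → A'/p'
  let β : (A ⧸ I) →ₗ[A] (A' ⧸ p') := Submodule.liftQ I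
    ((Ideal.Quotient.mkₐ A p').toLinearMap.comp (Algebra.linearMap A A')) (by
      intro a ha
      rw [LinearMap.mem_ker]
      change Ideal.Quotient.mk p' (algebraMap A A' a) = 0
      rw [Ideal.Quotient.eq_zero_iff_mem]
      exact hpp' (hIp ha))
  let γ : A' ⊗[A] (A ⧸ I) →ₗ[A] (A' ⧸ p') :=
    TensorProduct.lift (LinearMap.mk₂ A (fun (a' : A') (x : A ⧸ I) => a' • β x)
      (fun a b x => add_smul a b (β x)) (fun c a x => smul_assoc c a (β x))
      (fun a x y => by rw [map_add, smul_add])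
      (fun c a x => by rw [map_smul, smul_comm]))
  have h1 : γ ((1 : A') ⊗ₜ[A] (Submodule.Quotient.mk (1 : A))) = 1 := by
    simp only [γ, TensorProduct.lift.tmul, LinearMap.mk₂_apply, one_smul, β]
    erw [Submodule.liftQ_apply]
    simp
  have h0 : (1 : A') ⊗ₜ[A] (Submodule.Quotient.mk (p := I) (1 : A)) = 0 := Subsingleton.elim _ _
  rw [h0, map_zero] at h1
  have : (1 : A' ⧸ p') = 0 := h1.symm
  rw [← map_one (Ideal.Quotient.mk p'), Ideal.Quotient.eq_zero_iff_mem] at this
  exact hp'.ne_top ((Ideal.eq_top_iff_one _).mpr this)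

open TensorProduct in
/-- (R) bijectivity of `A → B` can be checked after flat base changes hitting every maximal ideal. -/
theorem bijective_of_forall_flat_tensor {A B : Type u} [CommRing A] [CommRing B] [Algebra A B]
    (H : ∀ p : Ideal A, p.IsMaximal → ∃ (A' : Type u) (_ : CommRing A') (_ : Algebra A A'),
      Module.Flat A A' ∧ (∃ p' : Ideal A', p'.IsPrime ∧ p ≤ p'.comap (algebraMap A A')) ∧
        Function.Bijective (algebraMap A' (A' ⊗[A] B))) :
    Function.Bijective (algebraMap A B) := by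
  let φ : A →ₗ[A] B := Algebra.linearMap A B
  have key : ∀ (A' : Type u) [CommRing A'] [Algebra A A'],
      ∀ z : A' ⊗[A] A, (LinearMap.lTensor A' φ) z = algebraMap A' (A' ⊗[A] B) (TensorProduct.rid A A' z) := by
    intro A' _ _ z
    induction z using TensorProduct.induction_on with
    | zero => simp
    | tmul a' a =>
      simp only [LinearMap.lTensor_tmul, TensorProduct.rid_tmul, φ, Algebra.linearMap_apply,
        Algebra.TensorProduct.algebraMap_apply, Algebra.algebraMap_self, RingHom.id_apply]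
      rw [Algebra.algebraMap_eq_smul_one, TensorProduct.tmul_smul, TensorProduct.smul_tmul']
    | add x y hx hy => simp only [map_add, hx, hy]
  have hK : Subsingleton (LinearMap.ker φ) := by
    refine subsingleton_of_forall_flat_tensor (A := A) _ fun p hp => ?_
    obtain ⟨A', _, _, hflat, hp', hbij⟩ := H p hp
    refine ⟨A', inferInstance, inferInstance, hflat, hp', ?_⟩
    have hinj := Module.Flat.lTensor_preserves_injective_linearMap (M := A') (LinearMap.ker φ).subtype
      (Submodule.injective_subtype _)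
    have hψ : Function.Injective (LinearMap.lTensor A' φ) := by
      intro z w hzw
      rw [key, key] at hzw
      exact (TensorProduct.rid A A').injective (hbij.1 hzw)
    refine ⟨fun z w => ?_⟩
    apply hinj
    apply hψ
    have h0 : φ.comp (LinearMap.ker φ).subtype = 0 := by
      ext k; exact k.2
    have : ∀ t, (LinearMap.lTensor A' φ) ((LinearMap.lTensor A' (LinearMap.ker φ).subtype) t) = 0 := by
      intro t
      rw [← LinearMap.comp_apply, ← LinearMap.lTensor_comp, h0, LinearMap.lTensor_zero,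
        LinearMap.zero_apply]
    rw [this, this]
  have hC : Subsingleton (B ⧸ LinearMap.range φ) := by
    refine subsingleton_of_forall_flat_tensor (A := A) _ fun p hp => ?_
    obtain ⟨A', _, _, hflat, hp', hbij⟩ := H p hp
    refine ⟨A', inferInstance, inferInstance, hflat, hp', ?_⟩
    have hsurj : Function.Surjective (LinearMap.lTensor A' (LinearMap.range φ).mkQ) :=
      LinearMap.lTensor_surjective A' (Submodule.mkQ_surjective _)
    have h0 : (LinearMap.range φ).mkQ.comp φ = 0 := by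
      ext
      simp only [LinearMap.comp_apply, Submodule.mkQ_apply, LinearMap.zero_apply]
      rw [Submodule.Quotient.mk_eq_zero]
      exact LinearMap.mem_range_self φ 1
    have hz : ∀ w : A' ⊗[A] (B ⧸ LinearMap.range φ), w = 0 := by
      intro w
      obtain ⟨b, rfl⟩ := hsurj w
      obtain ⟨a', rfl⟩ := hbij.2 b
      have : algebraMap A' (A' ⊗[A] B) a' = LinearMap.lTensor A' φ (a' ⊗ₜ 1) := by
        rw [key, TensorProduct.rid_tmul, one_smul]
      rw [this, ← LinearMap.comp_apply, ← LinearMap.lTensor_comp, h0, LinearMap.lTensor_zero,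
        LinearMap.zero_apply]
    exact ⟨fun z w => by rw [hz z, hz w]⟩
  constructor
  · have : LinearMap.ker φ = ⊥ := Submodule.eq_bot_of_subsingleton
    exact LinearMap.ker_eq_bot.mp this
  · have : LinearMap.range φ = ⊤ := Submodule.Quotient.subsingleton_iff.mp hC
    exact LinearMap.range_eq_top.mp this

theorem surjective_SpecMap_appLE_of_surjective {X Y : Scheme.{u}} (f : X ⟶ Y) [Surjective f]
    {U : Y.Opens} (hU : IsAffineOpen U) (hW : IsAffineOpen (f ⁻¹ᵁ U)) :
    Surjective (Spec.map (f.appLE U (f ⁻¹ᵁ U) le_rfl)) := by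
  constructor
  intro p
  obtain ⟨x, hx⟩ := f.surjective (hU.fromSpec p)
  have hxW : x ∈ f ⁻¹ᵁ U := by
    change f x ∈ U
    rw [hx]
    have : hU.fromSpec p ∈ Set.range hU.fromSpec := ⟨p, rfl⟩
    rwa [hU.range_fromSpec] at this
  obtain ⟨q, hq⟩ : x ∈ Set.range hW.fromSpec := by rw [hW.range_fromSpec]; exact hxW
  refine ⟨q, ?_⟩
  apply hU.fromSpec.isOpenEmbedding.injective
  rw [← Scheme.Hom.comp_apply, IsAffineOpen.SpecMap_appLE_fromSpec f hU hW le_rfl,
    Scheme.Hom.comp_apply, hq, hx]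

open TensorProduct in
theorem bijective_algebraMap_tensor {X Y Y' : Scheme.{u}} (f : X ⟶ Y) (g : Y' ⟶ Y) [Surjective f]
    [IsIso (pullback.snd f g)] {U : Y.Opens} (hU : IsAffineOpen U) (hW : IsAffineOpen (f ⁻¹ᵁ U))
    {U' : Y'.Opens} (hU' : IsAffineOpen U') (e : U' ≤ g ⁻¹ᵁ U) :
    letI := (f.appLE U (f ⁻¹ᵁ U) le_rfl).hom.toAlgebra
    letI := (g.appLE U U' e).hom.toAlgebra
    Function.Bijective (algebraMap Γ(Y', U') (Γ(Y', U') ⊗[Γ(Y, U)] Γ(X, f ⁻¹ᵁ U))) := by
  letI := (f.appLE U (f ⁻¹ᵁ U) le_rfl).hom.toAlgebra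
  letI := (g.appLE U U' e).hom.toAlgebra
  have e1 : Spec.map (CommRingCat.ofHom (algebraMap Γ(Y, U) Γ(Y', U'))) ≫ hU.fromSpec =
      hU'.fromSpec ≫ g := IsAffineOpen.SpecMap_appLE_fromSpec g hU hU' e
  have e2 : Spec.map (CommRingCat.ofHom (algebraMap Γ(Y, U) Γ(X, f ⁻¹ᵁ U))) ≫ hU.fromSpec =
      hW.fromSpec ≫ f := IsAffineOpen.SpecMap_appLE_fromSpec f hU hW le_rfl
  let j := pullback.map _ _ g f hU'.fromSpec hW.fromSpec hU.fromSpec e1 e2
  have hj : IsOpenImmersion j := inferInstance
  have hfst : IsIso (pullback.fst g f) := by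
    have : pullback.fst g f = (pullbackSymmetry g f).hom ≫ pullback.snd f g := by simp
    rw [this]; infer_instance
  have hjf : j ≫ pullback.fst g f = pullback.fst _ _ ≫ hU'.fromSpec := pullback.lift_fst _ _ _
  have h1 : IsOpenImmersion (pullback.fst
      (Spec.map (CommRingCat.ofHom (algebraMap Γ(Y, U) Γ(Y', U'))))
      (Spec.map (CommRingCat.ofHom (algebraMap Γ(Y, U) Γ(X, f ⁻¹ᵁ U)))) ≫ hU'.fromSpec) := by
    rw [← hjf]; infer_instance
  have h2 : IsOpenImmersion (pullback.fst
      (Spec.map (CommRingCat.ofHom (algebraMap Γ(Y, U) Γ(Y', U'))))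
      (Spec.map (CommRingCat.ofHom (algebraMap Γ(Y, U) Γ(X, f ⁻¹ᵁ U))))) :=
    IsOpenImmersion.of_comp _ hU'.fromSpec
  have h3 : Surjective (Spec.map (CommRingCat.ofHom (algebraMap Γ(Y, U) Γ(X, f ⁻¹ᵁ U)))) :=
    surjective_SpecMap_appLE_of_surjective f hU hW
  have h4 : Surjective (pullback.fst
      (Spec.map (CommRingCat.ofHom (algebraMap Γ(Y, U) Γ(Y', U'))))
      (Spec.map (CommRingCat.ofHom (algebraMap Γ(Y, U) Γ(X, f ⁻¹ᵁ U))))) := inferInstance
  have h5 : IsIso (pullback.fst
      (Spec.map (CommRingCat.ofHom (algebraMap Γ(Y, U) Γ(Y', U'))))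
      (Spec.map (CommRingCat.ofHom (algebraMap Γ(Y, U) Γ(X, f ⁻¹ᵁ U))))) :=
    (isIso_iff_isOpenImmersion_and_surjective _).mpr ⟨h2, h4⟩
  have h6 : IsIso (Spec.map (CommRingCat.ofHom
      (algebraMap Γ(Y', U') (Γ(Y', U') ⊗[Γ(Y, U)] Γ(X, f ⁻¹ᵁ U))))) := by
    rw [← pullbackSpecIso_inv_fst' Γ(Y, U) Γ(Y', U') Γ(X, f ⁻¹ᵁ U)]
    infer_instance
  exact isIso_SpecMap_iff.mp h6

theorem isIso_of_pullback_flat_surjective {X Y Y' : Scheme.{u}} (f : X ⟶ Y) (g : Y' ⟶ Y)
    [Flat g] [Surjective g] [QuasiCompact f] [IsIso (pullback.snd f g)] : IsIso f := by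
  have hh : IsHomeomorph f.base :=
    Groth.Agent.S13709.result f g (pullback.snd f g).homeomorph.isHomeomorph
  haveI : IsAffineHom f := by
    apply isAffineHom_of_isInducing f hh.isInducing
    rw [hh.surjective.range_eq]
    exact isClosed_univ
  haveI : Surjective f := ⟨hh.surjective⟩
  have key : ∀ V : Y.Opens, IsAffineOpen V → IsIso (f.app V) := by
    intro V hV
    have hW : IsAffineOpen (f ⁻¹ᵁ V) := hV.preimage f
    rw [Scheme.Hom.app_eq_appLE]
    letI alg := (f.appLE V (f ⁻¹ᵁ V) le_rfl).hom.toAlgebra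
    suffices hbij : Function.Bijective (algebraMap Γ(Y, V) Γ(X, f ⁻¹ᵁ V)) from
      (ConcreteCategory.isIso_iff_bijective _).mpr hbij
    refine bijective_of_forall_flat_tensor fun p hp => ?_
    haveI := hp.isPrime
    let P : PrimeSpectrum Γ(Y, V) := ⟨p, inferInstance⟩
    have hyV : hV.fromSpec P ∈ V := by
      have : hV.fromSpec P ∈ Set.range hV.fromSpec := ⟨P, rfl⟩
      rwa [hV.range_fromSpec] at this
    obtain ⟨y', hy'⟩ := g.surjective (hV.fromSpec P)
    have hy'V : y' ∈ g ⁻¹ᵁ V := by change g y' ∈ V; rw [hy']; exact hyV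
    obtain ⟨_, ⟨U', hU', rfl⟩, hy'U', hU'le⟩ :=
      Y'.isBasis_affineOpens.exists_subset_of_mem_open hy'V (g ⁻¹ᵁ V).2
    letI alg' := (g.appLE V U' hU'le).hom.toAlgebra
    refine ⟨Γ(Y', U'), inferInstance, alg', g.flat_appLE hV hU' hU'le,
      ⟨(hU'.primeIdealOf ⟨y', hy'U'⟩).asIdeal, inferInstance, ?_⟩,
      bijective_algebraMap_tensor f g hV hW hU' hU'le⟩
    have h1 := IsAffineOpen.comap_primeIdealOf_appLE (f := g) (x := y') V hV U' hU' hU'le hy'U'
    have h2 : hV.primeIdealOf ⟨g y', hU'le hy'U'⟩ = P := by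
      apply hV.fromSpec.isOpenEmbedding.injective
      rw [hV.fromSpec_primeIdealOf]
      exact hy'
    rw [h2] at h1
    have h3 := congrArg PrimeSpectrum.asIdeal h1
    exact h3.ge
  rw [← MorphismProperty.isomorphisms.iff,
    HasAffineProperty.eq_targetAffineLocally (P := MorphismProperty.isomorphisms Scheme)]
  intro U
  refine ⟨U.2.preimage f, ?_⟩
  rw [morphismRestrict_appTop]
  refine @IsIso.comp_isIso _ _ _ _ _ _ _ (key _ ?_) ?_
  · rw [Scheme.Opens.ι_image_top]; exact U.2
  · exact Functor.map_isIso _ _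

/-- Let f : X → Y be a morphism of schemes and g : Y' → Y a faithfully flat morphism (flat and
surjective, not assumed quasi-compact). Then f is an isomorphism exactly when it is quasi-compact
and its base change X ×_Y Y' → Y' along g is an isomorphism. -/
theorem result {X Y Y' : Scheme.{u}} (f : X ⟶ Y) (g : Y' ⟶ Y)
    [Flat g] [Surjective g] :
    IsIso f ↔ QuasiCompact f ∧ IsIso (pullback.snd f g) := by
  constructor
  · intro h
    exact ⟨inferInstance, inferInstance⟩
  · rintro ⟨h1, h2⟩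
    exact isIso_of_pullback_flat_surjective f g

end Groth.Agent.S13710
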