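import Groth.Statements.S13711
import Mathlib
import Groth.Agent.S13710

set_option autoImplicit false
universe u
open CategoryTheory CategoryTheory.Limits AlgebraicGeometry
open ZeroCyc

namespace Groth.Agent.S13711

theorem appLE_top_top {X Y : Scheme.{u}} (f : X ⟶ Y) (e : (⊤ : X.Opens) ≤ f ⁻¹ᵁ ⊤) :
    f.appLE ⊤ ⊤ e = f.appTop := by
  simp [Scheme.Hom.appLE, Scheme.Hom.appTop]

theorem isIso_of_isPullback_affine {X Y V X'' Z'' : Scheme.{u}} [IsAffine Y] [IsAffine V]
    (f : X ⟶ Y) [QuasiCompact f] [QuasiSeparated f] (h : V ⟶ Y) [Flat h]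
    (q : Spec Γ(X, ⊤) ⟶ Y) (hq : X.toSpecΓ ≫ q = f)
    {a : X'' ⟶ X} {m : X'' ⟶ Z''} {b : Z'' ⟶ Spec Γ(X, ⊤)} {s : Z'' ⟶ V}
    (HL : IsPullback a m X.toSpecΓ b) (HR : IsPullback b s q h) [IsAffine X''] : IsIso m := by
  haveI : IsAffine Z'' := .of_isIso HR.isoPullback.hom
  have HO : IsPullback a (m ≫ s) f h := by
    have := HL.paste_vert HR
    rwa [hq] at this
  haveI : CompactSpace X := (quasiCompact_iff_compactSpace f).mp inferInstance
  haveI : QuasiSeparatedSpace X := (quasiSeparated_iff_quasiSeparatedSpace f).mp inferInstance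
  have P2 := (isIso_pushoutSection_iff HO (US := ⊤) (UT := ⊤) (UX := ⊤) (UY := ⊤) le_top le_top
    (by simp)).mp (isIso_pushoutSection_of_isQuasiSeparated_of_flat_right HO _ _ _
      (isAffineOpen_top Y) (isAffineOpen_top V) isCompact_univ isQuasiSeparated_univ)
  have P1 := (isIso_pushoutSection_iff HR (US := ⊤) (UT := ⊤) (UX := ⊤) (UY := ⊤) le_top le_top
    (by simp)).mp (isIso_pushoutSection_of_isAffineOpen HR _ _ _
      (isAffineOpen_top Y) (isAffineOpen_top V) (isAffineOpen_top _))
  simp only [appLE_top_top] at P1 P2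
  let γ := X.toSpecΓ.appTop
  haveI : IsIso γ := by
    dsimp only [γ]; rw [Scheme.toSpecΓ_appTop]; infer_instance
  have hfγ : f.appTop = q.appTop ≫ γ := by
    rw [← hq, Scheme.Hom.comp_appTop]
  have P2' : IsPushout q.appTop h.appTop (γ ≫ a.appTop) ((m ≫ s).appTop) := by
    refine IsPushout.of_iso P2 (Iso.refl _) (asIso γ).symm (Iso.refl _) (Iso.refl _) ?_ ?_ ?_ ?_
    · simp [hfγ]
    · simp
    · simp
    · simp
  have hm : m.appTop = (P1.isoIsPushout _ _ P2').hom := by
    apply P1.hom_ext
    · rw [IsPushout.inl_isoIsPushout_hom, ← Scheme.Hom.comp_appTop, ← HL.w, Scheme.Hom.comp_appTop]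
    · rw [IsPushout.inr_isoIsPushout_hom, ← Scheme.Hom.comp_appTop]
  have : IsIso m.appTop := by rw [hm]; infer_instance
  exact (HasAffineProperty.iff_of_isAffine (P := MorphismProperty.isomorphisms Scheme)).mpr
    ⟨inferInstance, this⟩

theorem isAffine_of_pullback_flat_surjective {X Y Y' : Scheme.{u}} [IsAffine Y] (f : X ⟶ Y)
    (g : Y' ⟶ Y) [Flat g] [Surjective g] [QuasiCompact f] [QuasiSeparated f]
    [IsAffineHom (pullback.snd f g)] : IsAffine X := by
  let c : X ⟶ Spec Γ(X, ⊤) := X.toSpecΓ
  let q : Spec Γ(X, ⊤) ⟶ Y := Spec.map f.appTop ≫ Y.isoSpec.inv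
  have hq : c ≫ q = f := by
    dsimp only [c, q]
    rw [← Category.assoc, ← Scheme.toSpecΓ_naturality, Category.assoc]
    simp [Scheme.isoSpec]
  haveI : CompactSpace X := (quasiCompact_iff_compactSpace f).mp inferInstance
  haveI : QuasiCompact c := inferInstance
  let gZ := pullback.fst q g
  suffices IsIso (pullback.snd c gZ) by
    haveI := Groth.Agent.S13710.isIso_of_pullback_flat_surjective c gZ
    exact ⟨this⟩
  let 𝒰 := (Y'.affineCover).pullback₁ (pullback.snd q g)
  rw [← MorphismProperty.isomorphisms.iff,
    IsZariskiLocalAtTarget.iff_of_openCover (P := MorphismProperty.isomorphisms Scheme) 𝒰]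
  intro i
  rw [MorphismProperty.isomorphisms.iff]
  change IsIso (pullback.snd (pullback.snd c gZ) (𝒰.f i))
  have hUf : 𝒰.f i = pullback.fst (pullback.snd q g) (Y'.affineCover.f i) := rfl
  have T1 := IsPullback.of_hasPullback (pullback.snd c gZ) (𝒰.f i)
  have T2 := IsPullback.of_hasPullback c gZ
  have HL := T1.paste_horiz T2
  have R1 := IsPullback.of_hasPullback (pullback.snd q g) (Y'.affineCover.f i)
  have R2 := IsPullback.of_hasPullback q g
  have HR := R1.paste_horiz R2
  rw [← hUf] at HR
  have HO := HL.paste_vert HR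
  rw [hq] at HO
  have hA : IsAffineHom (pullback.snd (pullback.snd c gZ) (𝒰.f i) ≫
      pullback.snd (pullback.snd q g) (Y'.affineCover.f i)) := by
    have HO' : IsPullback (pullback.lift (pullback.fst (pullback.snd c gZ) (𝒰.f i) ≫ pullback.fst c gZ)
        ((pullback.snd (pullback.snd c gZ) (𝒰.f i) ≫
          pullback.snd (pullback.snd q g) (Y'.affineCover.f i)) ≫ Y'.affineCover.f i)
        (by rw [HO.w]; simp only [Category.assoc]))
        (pullback.snd (pullback.snd c gZ) (𝒰.f i) ≫
          pullback.snd (pullback.snd q g) (Y'.affineCover.f i)) (pullback.snd f g)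
        (Y'.affineCover.f i) := by
      refine IsPullback.of_right ?_ (pullback.lift_snd _ _ _) (IsPullback.of_hasPullback f g)
      rw [pullback.lift_fst]
      exact HO
    exact MorphismProperty.of_isPullback HO' inferInstance
  haveI : IsAffine (pullback (pullback.snd c gZ) (𝒰.f i)) := @isAffine_of_isAffineHom _ _ _ hA _
  exact isIso_of_isPullback_affine f (Y'.affineCover.f i ≫ g) q hq HL HR


/-- Let f : X → Y be a morphism of schemes and g : Y' → Y a faithfully flat morphism (flat and
surjective, not assumed quasi-compact). Then f is affine exactly when it is quasi-compact,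
quasi-separated, and its base change X ×_Y Y' → Y' along g is affine. -/
theorem result {X Y Y' : Scheme.{u}} (f : X ⟶ Y) (g : Y' ⟶ Y)
    [Flat g] [Surjective g] :
    IsAffineHom f ↔ QuasiCompact f ∧ QuasiSeparated f ∧ IsAffineHom (pullback.snd f g) := by
  constructor
  · intro h
    exact ⟨inferInstance, inferInstance, MorphismProperty.pullback_snd (P := @IsAffineHom) f g h⟩
  · rintro ⟨h1, h2, h3⟩
    rw [IsZariskiLocalAtTarget.iff_of_openCover (P := @IsAffineHom) Y.affineCover]
    intro i
    change IsAffineHom (pullback.snd f (Y.affineCover.f i))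
    have hA : IsAffineHom (pullback.snd (pullback.snd f (Y.affineCover.f i))
        (pullback.snd g (Y.affineCover.f i))) := by
      have B1 := IsPullback.of_hasPullback (pullback.snd f (Y.affineCover.f i))
        (pullback.snd g (Y.affineCover.f i))
      have B2 := IsPullback.of_hasPullback f (Y.affineCover.f i)
      have B := B1.paste_horiz B2
      have e : pullback.snd g (Y.affineCover.f i) ≫ Y.affineCover.f i =
          pullback.fst g (Y.affineCover.f i) ≫ g := pullback.condition.symm
      rw [e] at B
      have B' : IsPullback (pullback.lift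
          (pullback.fst (pullback.snd f (Y.affineCover.f i)) (pullback.snd g (Y.affineCover.f i)) ≫
            pullback.fst f (Y.affineCover.f i))
          (pullback.snd (pullback.snd f (Y.affineCover.f i)) (pullback.snd g (Y.affineCover.f i)) ≫
            pullback.fst g (Y.affineCover.f i))
          (by rw [B.w]; simp only [Category.assoc]))
          (pullback.snd (pullback.snd f (Y.affineCover.f i)) (pullback.snd g (Y.affineCover.f i)))
          (pullback.snd f g) (pullback.fst g (Y.affineCover.f i)) := by
        refine IsPullback.of_right ?_ (pullback.lift_snd _ _ _) (IsPullback.of_hasPullback f g)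
        rw [pullback.lift_fst]
        exact B
      exact MorphismProperty.of_isPullback B' h3
    haveI := isAffine_of_pullback_flat_surjective (pullback.snd f (Y.affineCover.f i))
      (pullback.snd g (Y.affineCover.f i))
    infer_instance

end Groth.Agent.S13711
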