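import Groth.Statements.S13731
import Mathlib
import Groth.Agent.Lib.Helper1.SigmaVal

set_option autoImplicit false
universe u
open HTop

namespace Groth.Agent.S13731

open CategoryTheory CategoryTheory.Limits AlgebraicGeometry in
/-- Let X be a separated Noetherian scheme and {p_i : U_i → X} a finite family of separated morphisms of
finite type whose induced morphism from the disjoint union of the U_i to X is universally submersive
(an h-covering). Then every point x of X is p_i(u) for some i and some point u of U_i admitting a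
generization ξ in U_i whose image p_i(ξ) is a generic point of an irreducible component of X.
Equivalently, the irreducible components of the U_i dominating an irreducible component of X jointly
cover X. -/
theorem result {X : Scheme.{u}} [IsNoetherian X] [X.IsSeparated] (E : PreZeroHypercover.{u} X) [Finite E.I₀] [∀ i, LocallyOfFiniteType (E.f i)] [∀ i, QuasiCompact (E.f i)] [∀ i, IsSeparated (E.f i)] (hE : SGA1.UnivSubmersive (Sigma.desc E.f)) (x : X) : ∃ (i : E.I₀) (ξ u : E.X i), ξ ⤳ u ∧ E.f i u = x ∧ closure {E.f i ξ} ∈ irreducibleComponents ↥X := by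
  have hqc : QuasiCompact (Sigma.desc E.f) :=
    Groth.Agent.Lib.Helper1.SigmaVal.quasiCompact_sigmaDesc E.f
  have hS : Subtr.IsSSubtrusive (Sigma.desc E.f) :=
    Groth.Agent.Lib.Helper1.Subtr1.UnivSSubtrusive.isSSubtrusive
      (Groth.Agent.Lib.Helper1.Subtr1.univSSubtrusive_of_valLift
        (Groth.Agent.Lib.Helper1.Subtr7.valLift_of_dvrPairs _
          (Groth.Agent.Lib.Helper1.Subtr7.dvrPairs_of_univSubmersive _ hE)))
  have hirr := isIrreducible_irreducibleComponent (x := x)
  have hcl := isClosed_irreducibleComponent (x := x)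
  have hgen := hirr.isGenericPoint_genericPoint_closure
  rw [hcl.closure_eq] at hgen
  have hηx : hirr.genericPoint ⤳ x := by
    rw [specializes_iff_mem_closure, hgen.def]
    exact mem_irreducibleComponent
  obtain ⟨w, w', hw, e1, e2⟩ := hS hηx
  obtain ⟨i, u, rfl⟩ := Groth.Agent.Lib.Helper1.SigmaVal.exists_sigmaι_eq E.X w
  have hmem : w' ∈ Set.range (Sigma.ι E.X i) :=
    hw.mem_open (Sigma.ι E.X i).isOpenEmbedding.isOpen_range ⟨u, rfl⟩
  obtain ⟨ξ, rfl⟩ := hmem
  refine ⟨i, ξ, u, ?_, ?_, ?_⟩
  · exact (Sigma.ι E.X i).isOpenEmbedding.isInducing.specializes_iff.1 hw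
  · rw [← e1, Groth.Agent.Lib.Helper1.SigmaVal.sigmaDesc_sigmaι_apply]
  · rw [Groth.Agent.Lib.Helper1.SigmaVal.sigmaDesc_sigmaι_apply] at e2
    rw [e2, hgen.def]
    exact irreducibleComponent_mem_irreducibleComponents x

end Groth.Agent.S13731
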