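import Groth.Statements.S14771
import Mathlib
import Groth.Agent.Lib.Helper1.Subtr7

set_option autoImplicit false
universe u
open CategoryTheory CategoryTheory.Limits AlgebraicGeometry
open Subtr

namespace Groth.Agent.S14771

open Groth.Agent.Lib.Helper1.Subtr1 Groth.Agent.Lib.Helper1.Subtr3 Groth.Agent.Lib.Helper1.Subtr7
  Groth.Agent.Lib.Helper1.ValLift Groth.Agent.H2.ProConsLib IsLocalRing

namespace Aux

theorem dvrPairs_of_lifts {X Y : Scheme.{u}} (f : X ⟶ Y)
    (H : ∀ (D : Type u) [CommRing D] [IsDomain D] [IsDiscreteValuationRing D]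
      (g : Spec (CommRingCat.of D) ⟶ Y),
        ∃ (D' : Type u) (_ : CommRing D') (_ : IsDomain D') (_ : IsDiscreteValuationRing D')
          (a : Spec (CommRingCat.of D') ⟶ X)
          (b : Spec (CommRingCat.of D') ⟶ Spec (CommRingCat.of D)),
          Surjective b ∧ a ≫ f = b ≫ g) : DVRPairs f := by
  intro D _ _ _ k
  obtain ⟨D', _, _, _, a', b', ⟨hs⟩, hcomm⟩ := H D k
  let t : Spec (CommRingCat.of D') ⟶ pullback k f := pullback.lift b' a' hcomm.symm
  have ht : t ≫ pullback.fst k f = b' := pullback.lift_fst _ _ _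
  let ξ : Spec (CommRingCat.of D') := (⟨⊥, Ideal.isPrime_bot⟩ : PrimeSpectrum D')
  let s : Spec (CommRingCat.of D') := closedPoint D'
  have hξs : ξ ⤳ s := bot_specializes (V := CommRingCat.of D') s
  refine ⟨t ξ, t s, hξs.map t.continuous, ?_, ?_⟩
  · rw [← Scheme.Hom.comp_apply, ht]
    obtain ⟨x, hx⟩ := hs (⟨⊥, Ideal.isPrime_bot⟩ : PrimeSpectrum D)
    have h1 : b' ξ ⤳ (⟨⊥, Ideal.isPrime_bot⟩ : PrimeSpectrum D) := by
      rw [← hx]
      exact (bot_specializes (V := CommRingCat.of D') x).map b'.continuous
    have := eq_bot_of_specializes_bot h1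
    exact congrArg PrimeSpectrum.asIdeal this
  · rw [← Scheme.Hom.comp_apply, ht]
    obtain ⟨x, hx⟩ := hs (closedPoint D)
    have hxs : x ⤳ s :=
      (PrimeSpectrum.le_iff_specializes (x : PrimeSpectrum D') (closedPoint D')).1
        (IsLocalRing.le_maximalIdeal (x : PrimeSpectrum D').2.ne_top)
    have h1 : closedPoint D ⤳ b' s := by
      rw [← hx]
      exact hxs.map b'.continuous
    have := eq_closedPoint_of_specializes h1
    exact congrArg PrimeSpectrum.asIdeal this

theorem lifts_of_univSSubtrusive {X Y : Scheme.{u}} [IsLocallyNoetherian Y] (f : X ⟶ Y)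
    [LocallyOfFiniteType f] (hf : Subtr.UnivSSubtrusive f)
    (D : Type u) [CommRing D] [IsDomain D] [IsDiscreteValuationRing D]
    (g : Spec (CommRingCat.of D) ⟶ Y) :
    ∃ (D' : Type u) (_ : CommRing D') (_ : IsDomain D') (_ : IsDiscreteValuationRing D')
      (a : Spec (CommRingCat.of D') ⟶ X)
      (b : Spec (CommRingCat.of D') ⟶ Spec (CommRingCat.of D)),
      Surjective b ∧ a ≫ f = b ≫ g := by
  have hs : Subtr.IsSSubtrusive (pullback.fst g f) :=
    hf (pullback.snd g f) g (pullback.fst g f) (IsPullback.of_hasPullback g f)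
  obtain ⟨x, x', hx, e1, e2⟩ := hs (bot_specializes (V := CommRingCat.of D) (closedPoint D))
  have hDn : IsNoetherianRing (CommRingCat.of D) := inferInstanceAs (IsNoetherianRing D)
  have hPn : IsLocallyNoetherian (pullback g f) :=
    LocallyOfFiniteType.isLocallyNoetherian (pullback.fst g f)
  obtain ⟨O, hO, hxO, -⟩ := TopologicalSpace.Opens.isBasis_iff_nbhd.mp
    (pullback g f).isBasis_affineOpens (show x ∈ (⊤ : (pullback g f).Opens) from trivial)
  have hO' : IsAffineOpen O := hO
  have hx'O : x' ∈ O := hx.mem_open O.2 hxO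
  have hCn : IsNoetherianRing Γ(pullback g f, O) :=
    IsLocallyNoetherian.component_noetherian ⟨O, hO⟩
  let q : PrimeSpectrum Γ(pullback g f, O) := hO'.primeIdealOf ⟨x, hxO⟩
  let q' : PrimeSpectrum Γ(pullback g f, O) := hO'.primeIdealOf ⟨x', hx'O⟩
  have hq : hO'.fromSpec q = x := hO'.fromSpec_primeIdealOf ⟨x, hxO⟩
  have hq' : hO'.fromSpec q' = x' := hO'.fromSpec_primeIdealOf ⟨x', hx'O⟩
  have hle : q' ≤ q := by
    rw [PrimeSpectrum.le_iff_specializes]
    have hemb : Topology.IsEmbedding hO'.fromSpec := hO'.fromSpec.isOpenEmbedding.isEmbedding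
    apply hemb.specializes_iff.1
    rw [hq, hq']
    exact hx
  have hne : q' ≠ q := by
    intro h
    have : x' = x := by rw [← hq, ← hq', h]
    rw [this, e1] at e2
    exact Groth.Agent.H9.DVRSub.bot_ne_closed D e2.symm
  have hlt : q' < q := lt_of_le_of_ne hle hne
  obtain ⟨D', i1, i2, i3, i4, hb, hc⟩ := Groth.Agent.H8.KA.exists_dvr_of_lt hlt
  let c : Spec (CommRingCat.of D') ⟶ pullback g f :=
    Spec.map (CommRingCat.ofHom (algebraMap Γ(pullback g f, O) D')) ≫ hO'.fromSpec
  have hcb : c (⟨⊥, Ideal.isPrime_bot⟩ : PrimeSpectrum D') = x' := by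
    change hO'.fromSpec (PrimeSpectrum.comap (algebraMap Γ(pullback g f, O) D') ⊥) = x'
    rw [hb, hq']
  have hcc : c (closedPoint D') = x := by
    change hO'.fromSpec (PrimeSpectrum.comap (algebraMap Γ(pullback g f, O) D')
      (closedPoint D')) = x
    rw [hc, hq]
  refine ⟨D', i1, i2, i3, c ≫ pullback.snd g f, c ≫ pullback.fst g f, ⟨?_⟩, ?_⟩
  · intro y
    rcases Groth.Agent.H9.DVRSub.prime_cases D y with rfl | rfl
    · exact ⟨(⟨⊥, Ideal.isPrime_bot⟩ : PrimeSpectrum D'), by
        rw [Scheme.Hom.comp_apply, hcb, e2]⟩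
    · exact ⟨closedPoint D', by rw [Scheme.Hom.comp_apply, hcc, e1]⟩
  · simp only [Category.assoc, pullback.condition]

end Aux

/-- Let Y be locally Noetherian and f : X ⟶ Y quasi-compact and locally of finite type. The following
are equivalent: (i) f is universally submersive; (ii) every base change of f has the lifting
property for ordered pairs of points; (iii) for every discrete valuation ring D and morphism g :
Spec D ⟶ Y there are a discrete valuation ring D', a morphism a : Spec D' ⟶ X and a surjective
morphism b : Spec D' ⟶ Spec D with a ≫ f = b ≫ g. (The published statement assumes f only locally of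
finite type. Quasi-compactness cannot be dropped: over the local ring of a regular surface at a
closed point s, the disjoint union of the punctured surface, a regular curve C through s and, for
every n ≥ 1, the n-fold blow-up along successive points of the strict transform of C with the n-th
such point removed, satisfies (iii) with D' = D, while (ii) fails at a valuation ring of rank two
whose centres are exactly the removed points; the limit argument behind the published proof uses
quasi-compactness of the fibres.) -/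
theorem result {X Y : Scheme.{u}} [IsLocallyNoetherian Y]
    (f : X ⟶ Y) [LocallyOfFiniteType f] [QuasiCompact f] :
    List.TFAE [
      SGA1.UnivSubmersive f,
      Subtr.UnivSSubtrusive f,
      ∀ (D : Type u) [CommRing D] [IsDomain D] [IsDiscreteValuationRing D] (g : Spec (CommRingCat.of D) ⟶ Y),
        ∃ (D' : Type u) (_ : CommRing D') (_ : IsDomain D') (_ : IsDiscreteValuationRing D')
          (a : Spec (CommRingCat.of D') ⟶ X) (b : Spec (CommRingCat.of D') ⟶ Spec (CommRingCat.of D)),
          Surjective b ∧ a ≫ f = b ≫ g] := by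
  tfae_have 1 → 2 := fun h =>
    univSSubtrusive_of_valLift (valLift_of_dvrPairs f (dvrPairs_of_univSubmersive f h))
  tfae_have 2 → 1 := univSubmersive_of_univSSubtrusive
  tfae_have 2 → 3 := fun h D _ _ _ g => Aux.lifts_of_univSSubtrusive f h D g
  tfae_have 3 → 2 := fun h =>
    univSSubtrusive_of_valLift (valLift_of_dvrPairs f (Aux.dvrPairs_of_lifts f h))
  tfae_finish

end Groth.Agent.S14771
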