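import Groth.Statements.S13757
import Mathlib.Tactic
-- import your own Groth.Agent.* helpers here

set_option autoImplicit false
universe u
open LabGraph

namespace Groth.Agent.S13757

/-- Let G be a finite connected multigraph (loops and multiple edges allowed) with vertex set V, edge
set E, endpoint map E → V × V and a labelling of the edges by positive integers l. A vertex
labelling φ : V → ℤ is Cartier when l(e) divides the difference of the values of φ at the two
endpoints of every edge e; its multidegree is the vertex labelling whose value at v is the sum, over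
the edge-ends at v, of (value of φ at the other endpoint − φ(v)) / l(e). Then the Cartier vertex
labellings of multidegree zero are exactly the constant ones: the kernel of the multidegree operator
on Cartier labellings is ℤ, embedded as the constants. -/
theorem result
    {V E : Type u} [Fintype V] [Fintype E] [DecidableEq V] [DecidableEq E]
    (ends : E → V × V) (l : E → ℕ) (hl : ∀ e, 0 < l e) (hconn : LabGraph.Connected ends)
    (φ : V → ℤ) (hφ : LabGraph.IsCartier ends l φ) :
    (∀ v : V, LabGraph.mdeg ends l φ v = 0) ↔ ∀ v w : V, φ v = φ w := by
  classical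
  constructor
  · intro hm
    have hq : ∀ e, ∃ q : ℤ, φ (ends e).1 - φ (ends e).2 = (l e : ℤ) * q := fun e => hφ e
    choose q hq using hq
    have hl0 : ∀ e, (l e : ℤ) ≠ 0 := fun e => by exact_mod_cast (hl e).ne'
    have hA : ∀ e, (φ (ends e).2 - φ (ends e).1) / (l e : ℤ) = - q e := by
      intro e
      have : φ (ends e).2 - φ (ends e).1 = (l e : ℤ) * (- q e) := by
        rw [mul_neg, ← hq e]; ring
      rw [this, Int.mul_ediv_cancel_left _ (hl0 e)]
    have hB : ∀ e, (φ (ends e).1 - φ (ends e).2) / (l e : ℤ) = q e := by
      intro e; rw [hq e, Int.mul_ediv_cancel_left _ (hl0 e)]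
    have henergy : ∑ v, φ v * LabGraph.mdeg ends l φ v = - ∑ e, (l e : ℤ) * q e ^ 2 := by
      unfold LabGraph.mdeg
      simp_rw [Finset.mul_sum, hA, hB]
      rw [Finset.sum_comm, ← Finset.sum_neg_distrib]
      apply Finset.sum_congr rfl
      intro e _
      simp_rw [mul_add, mul_ite, mul_zero]
      rw [Finset.sum_add_distrib, Finset.sum_ite_eq, Finset.sum_ite_eq]
      simp only [Finset.mem_univ, if_true]
      have := hq e
      linear_combination (-(q e)) * this
    have hzero : ∑ e, (l e : ℤ) * q e ^ 2 = 0 := by
      have h0 : ∑ v, φ v * LabGraph.mdeg ends l φ v = 0 :=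
        Finset.sum_eq_zero (fun v _ => by rw [hm v, mul_zero])
      rw [henergy] at h0; linarith
    have hq0 : ∀ e, q e = 0 := by
      intro e
      have h1 := (Finset.sum_eq_zero_iff_of_nonneg (fun e _ => by positivity)).1 hzero e
        (Finset.mem_univ e)
      rcases mul_eq_zero.1 h1 with h | h
      · exact absurd h (hl0 e)
      · exact pow_eq_zero_iff (two_ne_zero) |>.1 h
    have hedge : ∀ e, φ (ends e).1 = φ (ends e).2 := fun e => by
      have := hq e
      rw [hq0 e, mul_zero] at this
      exact sub_eq_zero.1 this
    have hadj : ∀ v w, LabGraph.Adj ends v w → φ v = φ w := by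
      rintro v w ⟨e, he | he⟩
      · have := hedge e; rw [he] at this; exact this
      · have := hedge e; rw [he] at this; exact this.symm
    intro v w
    have hvw := hconn.2 v w
    induction hvw with
    | refl => rfl
    | tail _ hbc ih => exact ih.trans (hadj _ _ hbc)
  · intro hconst v
    unfold LabGraph.mdeg
    apply Finset.sum_eq_zero
    intro e _
    rw [hconst (ends e).2 (ends e).1, sub_self]
    simp

end Groth.Agent.S13757
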