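import Groth.Statements.S1377
import Mathlib
-- import your own Groth.Agent.* helpers here

set_option autoImplicit false
universe u
open FlatMor

namespace Groth.Agent.S1377

open AlgebraicGeometry CategoryTheory Limits in
/-- Let S be a scheme, U ⊆ S an open subscheme whose inclusion U → S is quasi-compact (U retrocompact in
S), and V → U a surjective integral morphism. Then there are a scheme V' and a surjective integral
morphism V' → S whose base change to U is V → U. (The published statement puts no condition on U,
and in that generality it is false: e.g. S = Spec ∏_i ℤ/4^i with U = D(2) ∪ ⋃_i D(e_i), e_i the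
idempotents, and V equal to U except that over D(2) it is cut out by x = (2^i)_i. Stated here with U
→ S quasi-compact, under which hypothesis the published argument applies.) -/
theorem result {S V : Scheme.{u}} (U : S.Opens) [QuasiCompact U.ι]
    (v : V ⟶ (U : Scheme.{u})) [IsIntegralHom v] [Surjective v] :
    ∃ (V' : Scheme.{u}) (π : V' ⟶ S) (i : V ⟶ V'), Surjective π ∧ IsIntegralHom π ∧ IsPullback i v π U.ι := by
  classical
  let f : V ⟶ S := v ≫ U.ι
  let N := f.normalization
  let ν : N ⟶ S := f.fromNormalization
  let t : V ⟶ N := f.toNormalization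
  have htν : t ≫ ν = f := f.toNormalization_fromNormalization
  -- Step 1: `t` is an open immersion with range `ν⁻¹ U`
  let g : (U : Scheme.{u}) ⟶ S := U.ι
  have hp1 : IsIso (pullback.fst f g) := pullback_snd_iso_of_left_factors_mono v U.ι
  have hp2 : pullback.snd f g = pullback.fst f g ≫ v := by
    rw [← cancel_mono U.ι, Category.assoc]
    exact pullback.condition.symm
  have hint : IsIntegralHom (pullback.snd f g) := by rw [hp2]; infer_instance
  have hiso1 : IsIso (pullback.snd f g).toNormalization := inferInstance
  have hiso2 : IsIso (f.normalizationPullback g) := inferInstance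
  have key := Scheme.Hom.toNormalization_normalizationPullback_fst f g
  have ht : t = inv (pullback.fst f g) ≫ (pullback.snd f g).toNormalization ≫
      f.normalizationPullback g ≫ pullback.fst ν g := by
    rw [IsIso.eq_inv_comp]; exact key.symm
  have htoi : IsOpenImmersion t := by rw [ht]; infer_instance
  have htrange : Set.range t = ν ⁻¹' (U : Set S) := by
    let e := inv (pullback.fst f g) ≫ (pullback.snd f g).toNormalization ≫
      f.normalizationPullback g
    have he : IsIso e := inferInstance
    have hte : t = e ≫ pullback.fst ν g := by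
      rw [ht]; simp only [e, Category.assoc]
    have hsurj : Function.Surjective e := e.surjective
    rw [hte, Scheme.Hom.comp_base, TopCat.coe_comp, Set.range_comp, hsurj.range_eq,
      Set.image_univ, Scheme.Pullback.range_fst, Scheme.Opens.range_ι]
  -- Step 2: the reduced complement
  let Zc : TopologicalSpace.Closeds S := ⟨(U : Set S)ᶜ, U.isOpen.isClosed_compl⟩
  let I := Scheme.IdealSheafData.vanishingIdeal Zc
  let c : I.subscheme ⟶ S := I.subschemeι
  have hcrange : Set.range c = (U : Set S)ᶜ := by
    rw [Scheme.IdealSheafData.range_subschemeι, Scheme.IdealSheafData.coe_support_vanishingIdeal]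
    rfl
  let π : N ⨿ I.subscheme ⟶ S := coprod.desc ν c
  let i : V ⟶ N ⨿ I.subscheme := t ≫ coprod.inl
  have hπ1 : (coprod.inl : N ⟶ N ⨿ I.subscheme) ≫ π = ν := coprod.inl_desc _ _
  have hπ2 : (coprod.inr : I.subscheme ⟶ N ⨿ I.subscheme) ≫ π = c := coprod.inr_desc _ _
  have hiπ : i ≫ π = v ≫ U.ι := by
    rw [Category.assoc, hπ1, htν]
  refine ⟨N ⨿ I.subscheme, π, i, ?_, inferInstance, ?_⟩
  · refine ⟨fun s => ?_⟩
    by_cases hs : s ∈ U
    · obtain ⟨w, hw⟩ := v.surjective ⟨s, hs⟩
      refine ⟨i w, ?_⟩
      rw [← Scheme.Hom.comp_apply, hiπ, Scheme.Hom.comp_apply, hw]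
      rfl
    · have : s ∈ Set.range c := by rw [hcrange]; exact hs
      obtain ⟨z, hz⟩ := this
      refine ⟨(coprod.inr : I.subscheme ⟶ N ⨿ I.subscheme) z, ?_⟩
      rw [← Scheme.Hom.comp_apply, hπ2, hz]
  · let W : (N ⨿ I.subscheme).Opens := π ⁻¹ᵁ U
    have hirange : Set.range i = (W : Set ↥(N ⨿ I.subscheme)) := by
      rw [Scheme.Hom.comp_base, TopCat.coe_comp, Set.range_comp, htrange]
      ext p
      have hcov := (isCompl_range_inl_inr N I.subscheme).sup_eq_top
      have hp : p ∈ Set.range (coprod.inl : N ⟶ N ⨿ I.subscheme) ∪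
          Set.range (coprod.inr : I.subscheme ⟶ N ⨿ I.subscheme) := by
        have : p ∈ (⊤ : Set ↥(N ⨿ I.subscheme)) := trivial
        rw [← hcov] at this; exact this
      rcases hp with ⟨n, rfl⟩ | ⟨z, rfl⟩
      · constructor
        · rintro ⟨n', hn', hnn'⟩
          have : n' = n := (coprod.inl : N ⟶ N ⨿ I.subscheme).isOpenEmbedding.injective hnn'
          subst this
          change π _ ∈ U
          rw [← Scheme.Hom.comp_apply, hπ1]; exact hn'
        · intro hn
          refine ⟨n, ?_, rfl⟩
          change π _ ∈ U at hn
          rw [← Scheme.Hom.comp_apply, hπ1] at hn; exact hn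
      · constructor
        · rintro ⟨n', _, hnn'⟩
          exact absurd hnn' (inl_ne_inr (X := N) (Y := I.subscheme) n' z)
        · intro hz
          change π _ ∈ U at hz
          rw [← Scheme.Hom.comp_apply, hπ2] at hz
          have : c z ∈ (U : Set S)ᶜ := hcrange ▸ Set.mem_range_self z
          exact absurd hz this
    have hioi : IsOpenImmersion i := inferInstance
    let e : V ≅ W := IsOpenImmersion.isoOfRangeEq i W.ι (by
      rw [Scheme.Opens.range_ι]; exact hirange)
    have he : e.hom ≫ W.ι = i := IsOpenImmersion.isoOfRangeEq_hom_fac _ _ _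
    have hpb : IsPullback W.ι (π ∣_ U) π U.ι := (isPullback_morphismRestrict π U).flip
    have hev : e.hom ≫ (π ∣_ U) = v := by
      rw [← cancel_mono U.ι, Category.assoc, morphismRestrict_ι, ← Category.assoc, he, hiπ]
    refine IsPullback.of_iso hpb e.symm (Iso.refl _) (Iso.refl _) (Iso.refl _) ?_ ?_ ?_ ?_
    · rw [Iso.refl_hom, Category.comp_id, Iso.symm_hom, ← he, Iso.inv_hom_id_assoc]
    · rw [Iso.refl_hom, Category.comp_id, Iso.symm_hom, ← hev, Iso.inv_hom_id_assoc]
    · simp
    · simp

end Groth.Agent.S1377
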