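import Groth.Statements.S13774
import Groth.Agent.Lib.Helper2.PLieBasis

set_option autoImplicit false
universe u v w
open PLie

namespace Groth.Agent.S13774

/-- Let R be a commutative ring of prime characteristic p and L a Lie algebra over R, free as an
R-module with basis b indexed by ι, whose bracket is ⁅x, y⁆ = f x y • v for some vector v of L and
some R-bilinear form f on L. Then L carries a p-mapping φ with φ (b i) = (f (b i) v) ^ (p - 1) • b i
for every i; in particular L is restrictable. (The published statement is made over a base scheme,
where the Lie algebra is a vector bundle of finite rank whose derived algebra is a subbundle of rank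
one, and concludes that p-mappings exist Zariski-locally; this row is the case of a free module over
a ring, of any rank, with bracket of the displayed shape.) -/
theorem result (R : Type u) [CommRing R] (p : ℕ) [Fact p.Prime] [CharP R p]
    (L : Type v) [LieRing L] [LieAlgebra R L] {ι : Type w} (b : Module.Basis ι R L) (v : L)
    (f : L →ₗ[R] L →ₗ[R] R) (hf : ∀ x y : L, ⁅x, y⁆ = f x y • v) :
    ∃ φ : PLie.PMap R p L, ∀ i : ι, φ (b i) = (f (b i) v) ^ (p - 1) • b i := by
  have hp1 : 1 ≤ p := (Fact.out : p.Prime).one_le
  have hpow : ∀ (x w : L) (n : ℕ), (LieAlgebra.ad R L x ^ (n + 1)) w =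
      ((f x v) ^ n * f x w) • v := by
    intro x w n
    induction n with
    | zero => simp [hf]
    | succ n ih =>
      rw [pow_succ', Module.End.mul_apply, ih, LieAlgebra.ad_apply, lie_smul, hf, smul_smul]
      congr 1
      ring
  obtain ⟨φ, hφ, -⟩ := Groth.Agent.H2.PLieBasis.exists_unique_pmap_of_basis R p L b
    (fun i => (f (b i) v) ^ (p - 1) • b i) (by
      intro i
      apply LinearMap.ext
      intro w
      have := hpow (b i) w (p - 1)
      rw [Nat.sub_add_cancel hp1] at this
      rw [this, map_smul, LinearMap.smul_apply, LieAlgebra.ad_apply, hf, smul_smul])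
  exact ⟨φ, hφ⟩

end Groth.Agent.S13774
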