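import Groth.Statements.S13776
import Groth.Agent.Lib.Helper2.PLieBasis

set_option autoImplicit false
universe u v
open PLie

namespace Groth.Agent.S13776

/-- Let R be a commutative ring of prime characteristic p, t ∈ R, and L a Lie algebra over R, free as a
module with basis x = bs 0, y = bs 1, z = bs 2 and brackets [x,y] = y, [x,z] = t • z, [y,z] = 0.
Then L carries a p-mapping if and only if t ^ p = t. (The published statement is the corresponding
entry of the classification table over an algebraically closed field of characteristic p, where the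
condition reads: t lies in the prime field; this row states it over every commutative ring of
characteristic p.) -/
theorem result (R : Type u) [CommRing R] (p : ℕ) [Fact p.Prime] [CharP R p] (t : R)
    (L : Type v) [LieRing L] [LieAlgebra R L] (bs : Module.Basis (Fin 3) R L)
    (hxy : ⁅bs 0, bs 1⁆ = bs 1) (hxz : ⁅bs 0, bs 2⁆ = t • bs 2) (hyz : ⁅bs 1, bs 2⁆ = 0) :
    Nonempty (PLie.PMap R p L) ↔ t ^ p = t := by
  have hp2 : 2 ≤ p := (Fact.out : p.Prime).two_le
  have hyx : ⁅bs 1, bs 0⁆ = -bs 1 := by rw [← lie_skew, hxy]
  have hzx : ⁅bs 2, bs 0⁆ = -(t • bs 2) := by rw [← lie_skew, hxz]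
  have hzy : ⁅bs 2, bs 1⁆ = 0 := by rw [← lie_skew, hyz, neg_zero]
  -- eigenvector powers
  have hpow : ∀ (c : R) (v : L), ⁅bs 0, v⁆ = c • v → ∀ n : ℕ,
      (LieAlgebra.ad R L (bs 0) ^ n) v = c ^ n • v := by
    intro c v hv n
    induction n with
    | zero => simp
    | succ n ih =>
      rw [pow_succ, Module.End.mul_apply, LieAlgebra.ad_apply, hv, map_smul, ih, smul_smul,
        ← pow_succ']
  constructor
  · rintro ⟨φ⟩
    have h1 := φ.ad_map (bs 0)
    have h2 := LinearMap.congr_fun h1 (bs 1)
    have h3 := LinearMap.congr_fun h1 (bs 2)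
    rw [hpow 1 (bs 1) (by rw [hxy, one_smul]), LieAlgebra.ad_apply,
      Groth.Agent.LD.PL.basis3_expand bs (φ.toFun (bs 0))] at h2
    rw [hpow t (bs 2) hxz, LieAlgebra.ad_apply,
      Groth.Agent.LD.PL.basis3_expand bs (φ.toFun (bs 0))] at h3
    simp only [add_lie, smul_lie, hxy, hzy, lie_self, smul_zero, add_zero, one_pow, one_smul] at h2
    simp only [add_lie, smul_lie, hxz, hyz, lie_self, smul_zero, add_zero] at h3
    set a := bs.repr (φ.toFun (bs 0)) 0
    have h4 : (0 : R) • bs 0 + a • bs 1 + (0 : R) • bs 2 =
        (0 : R) • bs 0 + (1 : R) • bs 1 + (0 : R) • bs 2 := by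
      rw [zero_smul, zero_smul, one_smul, zero_add, add_zero, zero_add, add_zero, h2]
    obtain ⟨-, ha, -⟩ := Groth.Agent.LD.PL.basis3_coeff bs h4
    rw [ha, one_smul] at h3
    have h5 : (0 : R) • bs 0 + (0 : R) • bs 1 + t • bs 2 =
        (0 : R) • bs 0 + (0 : R) • bs 1 + t ^ p • bs 2 := by
      rw [h3]
    obtain ⟨-, -, ht⟩ := Groth.Agent.LD.PL.basis3_coeff bs h5
    exact ht.symm
  · intro ht
    -- nilpotency of ad y, ad z
    have hady : LieAlgebra.ad R L (bs 1) ^ 2 = 0 := by
      apply bs.ext
      intro i
      rw [pow_two, Module.End.mul_apply, LieAlgebra.ad_apply, LieAlgebra.ad_apply]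
      fin_cases i
      · simp [hyx]
      · simp
      · simp [hyz]
    have hadz : LieAlgebra.ad R L (bs 2) ^ 2 = 0 := by
      apply bs.ext
      intro i
      rw [pow_two, Module.End.mul_apply, LieAlgebra.ad_apply, LieAlgebra.ad_apply]
      fin_cases i
      · simp [hzx]
      · simp [hzy]
      · simp
    have hnil : ∀ f : Module.End R L, f ^ 2 = 0 → f ^ p = 0 := by
      intro f hf
      rw [← Nat.add_sub_cancel' hp2, pow_add, hf, zero_mul]
    obtain ⟨φ, -, -⟩ := Groth.Agent.H2.PLieBasis.exists_unique_pmap_of_basis R p L bs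
      (fun i => if i = 0 then bs 0 else 0) (by
        intro i
        fin_cases i
        · simp only [Fin.zero_eta, if_true]
          apply bs.ext
          intro j
          fin_cases j
          · have := hpow 0 (bs 0) (by rw [lie_self, zero_smul]) p
            simpa [zero_pow (Fact.out : p.Prime).ne_zero] using this
          · have := hpow 1 (bs 1) (by rw [hxy, one_smul]) p
            simpa [hxy] using this
          · have := hpow t (bs 2) hxz p
            simpa [hxz, ht] using this
        · simp only [Fin.mk_one, one_ne_zero, if_false, map_zero]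
          exact hnil _ hady
        · have h20 : ((2 : Fin 3) = 0) = False := by simp
          simp only [Fin.reduceFinMk, h20, if_false, map_zero]
          exact hnil _ hadz)
    exact ⟨φ⟩

end Groth.Agent.S13776
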