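import Groth.Statements.S13779
import Groth.Agent.Lib.Helper2.PLieBasis

set_option autoImplicit false
universe u v
open PLie

namespace Groth.Agent.S13779

/-- Let p be an odd prime, R a commutative ring of characteristic p, t ∈ R, and L a Lie algebra over R,
free as a module with basis x = bs 0, y = bs 1, z = bs 2 and brackets [x,y] = z, [x,z] = t • y,
[y,z] = 0. Then L carries a p-mapping φ with φ x = t ^ ((p - 1) / 2) • x, φ y = 0 and φ z = 0. (The
published statement concerns the Lie algebra with these brackets over a field of Laurent series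
k((t)), k algebraically closed of odd characteristic, t the variable; this row states its
restrictability over every commutative ring of odd prime characteristic and every t.) -/
theorem result (R : Type u) [CommRing R] (p : ℕ) [Fact p.Prime] [CharP R p] (hp : p ≠ 2)
    (t : R) (L : Type v) [LieRing L] [LieAlgebra R L] (bs : Module.Basis (Fin 3) R L)
    (hxy : ⁅bs 0, bs 1⁆ = bs 2) (hxz : ⁅bs 0, bs 2⁆ = t • bs 1) (hyz : ⁅bs 1, bs 2⁆ = 0) :
    ∃ φ : PLie.PMap R p L, φ (bs 0) = t ^ ((p - 1) / 2) • bs 0 ∧ φ (bs 1) = 0 ∧ φ (bs 2) = 0 := by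
  have hp2 : 2 ≤ p := (Fact.out : p.Prime).two_le
  have hyx : ⁅bs 1, bs 0⁆ = -bs 2 := by rw [← lie_skew, hxy]
  have hzx : ⁅bs 2, bs 0⁆ = -(t • bs 1) := by rw [← lie_skew, hxz]
  have hzy : ⁅bs 2, bs 1⁆ = 0 := by rw [← lie_skew, hyz, neg_zero]
  obtain ⟨k, hk⟩ : ∃ k, p = 2 * k + 1 := by
    rcases (Fact.out : p.Prime).eq_two_or_odd' with h | h
    · exact absurd h hp
    · exact h
  have hk' : (p - 1) / 2 = k := by omega
  -- eigenvector powers for a general endomorphism
  have hpow : ∀ (f : Module.End R L) (c : R) (v : L), f v = c • v → ∀ n : ℕ,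
      (f ^ n) v = c ^ n • v := by
    intro f c v hv n
    induction n with
    | zero => simp
    | succ n ih =>
      rw [pow_succ, Module.End.mul_apply, hv, map_smul, ih, smul_smul, ← pow_succ']
  have hsq1 : (LieAlgebra.ad R L (bs 0) ^ 2) (bs 1) = t • bs 1 := by
    rw [pow_two, Module.End.mul_apply, LieAlgebra.ad_apply, LieAlgebra.ad_apply, hxy, hxz]
  have hsq2 : (LieAlgebra.ad R L (bs 0) ^ 2) (bs 2) = t • bs 2 := by
    rw [pow_two, Module.End.mul_apply, LieAlgebra.ad_apply, LieAlgebra.ad_apply, hxz, lie_smul, hxy]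
  have hodd : ∀ v : L, (LieAlgebra.ad R L (bs 0) ^ p) v =
      ((LieAlgebra.ad R L (bs 0) ^ 2) ^ k) (⁅bs 0, v⁆) := by
    intro v
    rw [hk, pow_succ, pow_mul, Module.End.mul_apply, LieAlgebra.ad_apply]
  have hady : LieAlgebra.ad R L (bs 1) ^ 2 = 0 := by
    apply bs.ext
    intro i
    rw [pow_two, Module.End.mul_apply, LieAlgebra.ad_apply, LieAlgebra.ad_apply]
    fin_cases i
    · simp [hyx, hyz]
    · simp
    · simp [hyz]
  have hadz : LieAlgebra.ad R L (bs 2) ^ 2 = 0 := by
    apply bs.ext
    intro i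
    rw [pow_two, Module.End.mul_apply, LieAlgebra.ad_apply, LieAlgebra.ad_apply]
    fin_cases i
    · simp [hzx, hzy]
    · simp [hzy]
    · simp
  have hnil : ∀ f : Module.End R L, f ^ 2 = 0 → f ^ p = 0 := by
    intro f hf
    rw [← Nat.add_sub_cancel' hp2, pow_add, hf, zero_mul]
  obtain ⟨φ, hφ, -⟩ := Groth.Agent.H2.PLieBasis.exists_unique_pmap_of_basis R p L bs
    (fun i => if i = 0 then t ^ ((p - 1) / 2) • bs 0 else 0) (by
      intro i
      fin_cases i
      · simp only [Fin.zero_eta, if_true]
        apply bs.ext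
        intro j
        rw [hodd, hk', map_smul, LinearMap.smul_apply, LieAlgebra.ad_apply]
        fin_cases j
        · simp
        · simp only [Fin.mk_one, hxy]
          exact hpow _ t (bs 2) hsq2 k
        · simp only [Fin.reduceFinMk, hxz, map_smul]
          rw [hpow _ t (bs 1) hsq1 k, smul_comm]
      · simp only [Fin.mk_one, one_ne_zero, if_false, map_zero]
        exact hnil _ hady
      · have h20 : ((2 : Fin 3) = 0) = False := by simp
        simp only [Fin.reduceFinMk, h20, if_false, map_zero]
        exact hnil _ hadz)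
  refine ⟨φ, ?_, ?_, ?_⟩
  · simpa using hφ 0
  · simpa using hφ 1
  · have h20 : ((2 : Fin 3) = 0) = False := by simp
    have := hφ 2
    simpa [h20] using this

end Groth.Agent.S13779
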