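import Groth.Statements.S9246
import Groth.Agent.Lib.Helper1.RegFlat

set_option autoImplicit false
universe u
open CAlg

namespace Groth.Agent.S9246

/-- Let A → B be an étale ring map and q a prime of B lying over the prime p of A. Then A_p is a regular
local ring if and only if B_q is a regular local ring. -/
theorem result (A B : Type u) [CommRing A] [CommRing B]
    [Algebra A B] [Algebra.Etale A B] (q : Ideal B) [q.IsPrime] :
    IsRegularLocalRing (Localization.AtPrime (Ideal.comap (algebraMap A B) q)) ↔
      IsRegularLocalRing (Localization.AtPrime q) := by
  set p := Ideal.comap (algebraMap A B) q with hp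
  haveI : q.LiesOver p := ⟨rfl⟩
  letI := Localization.AtPrime.algebraOfLiesOver p q
  haveI : IsLocalHom (algebraMap (Localization.AtPrime p) (Localization.AtPrime q)) := by
    rw [RingHom.algebraMap_toAlgebra]
    exact Localization.isLocalHom_localRingHom p q (algebraMap A B) Ideal.LiesOver.over
  haveI : Module.Flat (Localization.AtPrime p) (Localization.AtPrime q) := inferInstance
  haveI : Algebra.EssFiniteType (Localization.AtPrime p) (Localization.AtPrime q) :=
    .of_comp A _ _
  haveI : Algebra.FormallyUnramified (Localization.AtPrime p) (Localization.AtPrime q) :=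
    .of_restrictScalars A _ _
  have hmax : (IsLocalRing.maximalIdeal (Localization.AtPrime p)).map
      (algebraMap (Localization.AtPrime p) (Localization.AtPrime q)) =
      IsLocalRing.maximalIdeal (Localization.AtPrime q) := Algebra.FormallyUnramified.map_maximalIdeal
  constructor
  · intro h
    haveI : IsNoetherianRing (Localization.AtPrime q) :=
      Groth.Agent.H1.RegFlat.isNoetherianRing_of_essFiniteType (Localization.AtPrime p) _
    exact Groth.Agent.H1.RegFlat.isRegularLocalRing_of_flat_of_map_eq _ _ hmax
  · intro h
    haveI : Module.FaithfullyFlat (Localization.AtPrime p) (Localization.AtPrime q) :=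
      Module.FaithfullyFlat.of_flat_of_isLocalHom
    haveI : IsNoetherianRing (Localization.AtPrime p) :=
      Groth.Agent.H1.RegFlat.isNoetherianRing_of_faithfullyFlat _ (Localization.AtPrime q)
    exact Groth.Agent.H1.Reg.isRegularLocalRing_of_flat (Localization.AtPrime p)
      (Localization.AtPrime q)

end Groth.Agent.S9246
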