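import Groth.Statements.S13781
import Groth.Agent.Lib.Helper1.RegRing
import Groth.Agent.Lib.Helper7.Reg1
import Groth.Agent.S9246

set_option autoImplicit false
universe u
open CAlg

namespace Groth.Agent.S13781

section
open Polynomial
section
variable (A : Type u) [CommRing A] (s : A) (e : ℕ)

theorem monic_f (he : 0 < e) : (X ^ e - C s : A[X]).Monic :=
  monic_X_pow_sub_C s (Nat.pos_iff_ne_zero.mp he)

theorem root_pow : (AdjoinRoot.root (X ^ e - C s : A[X])) ^ e = AdjoinRoot.of (X ^ e - C s) s := by
  have h := AdjoinRoot.eval₂_root (X ^ e - C s : A[X])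
  rw [eval₂_sub, eval₂_pow, eval₂_X, eval₂_C, sub_eq_zero] at h
  exact h

/-- `B/(t) ≅ A/(s)`. -/
noncomputable def quotRootEquiv (he : 0 < e) :
    (AdjoinRoot (X ^ e - C s : A[X]) ⧸ Ideal.span {AdjoinRoot.root (X ^ e - C s : A[X])}) ≃+*
      (A ⧸ Ideal.span {s}) := by
  refine RingEquiv.ofRingHom
    (Ideal.Quotient.lift _ (AdjoinRoot.lift (Ideal.Quotient.mk (Ideal.span {s})) 0 ?_) ?_)
    (Ideal.Quotient.lift _ ((Ideal.Quotient.mk (Ideal.span {AdjoinRoot.root (X ^ e - C s : A[X])})).comp
      (AdjoinRoot.of (X ^ e - C s))) ?_) ?_ ?_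
  · rw [eval₂_sub, eval₂_pow, eval₂_X, eval₂_C, zero_pow (Nat.pos_iff_ne_zero.mp he), zero_sub,
      neg_eq_zero, Ideal.Quotient.eq_zero_iff_mem]
    exact Ideal.subset_span rfl
  · intro b hb
    rw [Ideal.mem_span_singleton] at hb
    obtain ⟨c, rfl⟩ := hb
    rw [map_mul, AdjoinRoot.lift_root, zero_mul]
  · intro a ha
    rw [Ideal.mem_span_singleton] at ha
    obtain ⟨c, rfl⟩ := ha
    rw [map_mul, RingHom.comp_apply, ← root_pow, map_pow]
    have : (Ideal.Quotient.mk (Ideal.span {AdjoinRoot.root (X ^ e - C s : A[X])}))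
        (AdjoinRoot.root (X ^ e - C s : A[X])) = 0 :=
      Ideal.Quotient.eq_zero_iff_mem.mpr (Ideal.subset_span rfl)
    rw [this, zero_pow (Nat.pos_iff_ne_zero.mp he), zero_mul]
  · apply Ideal.Quotient.ringHom_ext
    ext a
    simp
  · apply Ideal.Quotient.ringHom_ext
    apply AdjoinRoot.ringHom_ext
    · ext a
      simp
    · simp

end

/-- `A[X]/(X^e - s)` is étale over `A` when `e` and `s` are units. -/
theorem etale_adjoinRoot (A : Type u) [CommRing A] (s : A) (e : ℕ) (he : 0 < e)
    (heu : IsUnit (e : A)) (hsu : IsUnit s) :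
    Algebra.Etale A (AdjoinRoot (X ^ e - C s : A[X])) := by
  obtain ⟨u, hu⟩ := heu.exists_right_inv
  obtain ⟨v, hv⟩ := hsu.exists_right_inv
  let P : StandardEtalePair A :=
    { f := X ^ e - C s
      monic_f := monic_f A s e he
      g := 1
      cond := by
        refine ⟨C (u * v) * X, - C v, 0, ?_⟩
        rw [pow_zero, derivative_sub, derivative_X_pow, derivative_C, sub_zero]
        have h1 : C (e : A) * X ^ (e - 1) * (C (u * v) * X) = C ((e : A) * u * v) * X ^ e := by
          rw [← pow_sub_one_mul (Nat.pos_iff_ne_zero.mp he) (X : A[X])]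
          simp only [map_mul]
          ring
        rw [h1, hu, one_mul]
        have h2 : (X ^ e - C s) * -C v = - (C v * X ^ e) + C (s * v) := by
          simp only [map_mul]; ring
        rw [h2, hv, map_one]
        ring }
  have e1 : P.Ring ≃ₐ[A] Localization.Away (AdjoinRoot.mk P.f P.g) := P.equivAwayAdjoinRoot
  have hunits : ∀ x ∈ Submonoid.powers (AdjoinRoot.mk P.f P.g), IsUnit x := by
    rintro x ⟨n, rfl⟩
    show IsUnit ((AdjoinRoot.mk P.f (1 : A[X])) ^ n)
    rw [map_one, one_pow]
    exact isUnit_one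
  have e2 : AdjoinRoot P.f ≃ₐ[A] Localization.Away (AdjoinRoot.mk P.f P.g) :=
    (IsLocalization.atUnits (AdjoinRoot P.f) (Submonoid.powers (AdjoinRoot.mk P.f P.g))
      (S := Localization.Away (AdjoinRoot.mk P.f P.g)) hunits).restrictScalars A
  haveI : Algebra.Etale A (Localization.Away (AdjoinRoot.mk P.f P.g)) := Algebra.Etale.of_equiv e1
  exact Algebra.Etale.of_equiv e2.symm
theorem main (A : Type u) [CommRing A] [IsLocalRing A]
    [IsRegularRing A] (s : A) (hs : s ≠ 0) (hreg : IsRegularRing (A ⧸ Ideal.span {s}))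
    (e : ℕ) (he : 0 < e) (heu : IsUnit (e : A)) :
    IsRegularRing (AdjoinRoot (Polynomial.X ^ e - Polynomial.C s)) := by
  classical
  haveI : IsRegularLocalRing A := IsRegularLocalRing.of_isRegularRing_of_isLocalRing A
  haveI : IsDomain A := Groth.Agent.H7.Reg.isDomain A
  have hmonic := monic_f A s e he
  haveI : Module.Free A (AdjoinRoot (X ^ e - C s : A[X])) := hmonic.free_adjoinRoot
  haveI : Module.Finite A (AdjoinRoot (X ^ e - C s : A[X])) := hmonic.finite_adjoinRoot
  haveI : IsNoetherianRing (AdjoinRoot (X ^ e - C s : A[X])) :=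
    isNoetherianRing_of_surjective _ _ (AdjoinRoot.mk (X ^ e - C s : A[X])) AdjoinRoot.mk_surjective
  by_cases hsu : IsUnit s
  · haveI := etale_adjoinRoot A s e he heu hsu
    rw [isRegularRing_iff]
    intro q hq
    exact (Groth.Agent.S9246.result A (AdjoinRoot (X ^ e - C s : A[X])) q).mp inferInstance
  · have hsm : s ∈ IsLocalRing.maximalIdeal A := (IsLocalRing.mem_maximalIdeal s).mpr hsu
    have htnzd : AdjoinRoot.root (X ^ e - C s : A[X]) ∈
        nonZeroDivisors (AdjoinRoot (X ^ e - C s : A[X])) := by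
      rw [mem_nonZeroDivisors_iff_right]
      intro b hb
      have h1 : s • b = 0 := by
        rw [Algebra.smul_def, AdjoinRoot.algebraMap_eq, ← root_pow, mul_comm]
        rw [← mul_pow_sub_one (Nat.pos_iff_ne_zero.mp he) (AdjoinRoot.root (X ^ e - C s : A[X])),
          ← mul_assoc, hb, zero_mul]
      exact (smul_eq_zero.mp h1).resolve_left hs
    have hjac : AdjoinRoot.root (X ^ e - C s : A[X]) ∈
        Ring.jacobson (AdjoinRoot (X ^ e - C s : A[X])) := by
      rw [Ring.jacobson_eq_sInf_isMaximal, Ideal.mem_sInf]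
      intro M hM
      haveI : M.IsMaximal := hM
      haveI : Algebra.IsIntegral A (AdjoinRoot (X ^ e - C s : A[X])) := Algebra.IsIntegral.of_finite _ _
      have h1 : (M.comap (algebraMap A (AdjoinRoot (X ^ e - C s : A[X])))).IsMaximal :=
        Ideal.isMaximal_comap_of_isIntegral_of_isMaximal M
      have h2 := IsLocalRing.eq_maximalIdeal h1
      have h3 : algebraMap A (AdjoinRoot (X ^ e - C s : A[X])) s ∈ M := by
        rw [← Ideal.mem_comap, h2]; exact hsm
      rw [AdjoinRoot.algebraMap_eq, ← root_pow] at h3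
      exact hM.isPrime.mem_of_pow_mem _ h3
    haveI : IsRegularRing (AdjoinRoot (X ^ e - C s : A[X]) ⧸
        Ideal.span {AdjoinRoot.root (X ^ e - C s : A[X])}) :=
      IsRegularRing.of_ringEquiv (R := A ⧸ Ideal.span {s}) (quotRootEquiv A s e he).symm
    exact Groth.Agent.H1.Reg.isRegularRing_of_quotient _ _ hjac htnzd

end

/-- Let A be a regular local ring, s a non-zero element of A such that A/(s) is regular, and e a
positive integer invertible in A. Then A[t]/(t^e - s) is regular. (Regularity of a ring is taken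
throughout as: Noetherian, with every localization at a prime ideal a regular local ring; the
hypotheses on A and on A/(s) and the conclusion on A[t]/(t^e - s) are all read this way, which for
the local rings A and A/(s) is the usual notion once localizations of regular local rings are known
to be regular.) -/
theorem result (A : Type u) [CommRing A] [IsLocalRing A]
    [IsRegularRing A] (s : A) (hs : s ≠ 0) (hreg : IsRegularRing (A ⧸ Ideal.span {s}))
    (e : ℕ) (he : 0 < e) (heu : IsUnit (e : A)) :
    IsRegularRing (AdjoinRoot (Polynomial.X ^ e - Polynomial.C s)) := by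
  exact main A s hs hreg e he heu

end Groth.Agent.S13781
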