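import Groth.Statements.S13782
import Groth.Agent.Lib.Helper8.SmoothRootQuot
import Groth.Agent.Lib.Helper5.CA.RegHom1
import Groth.Agent.Lib.Helper7.Reg1
-- import your own Groth.Agent.* helpers here

set_option autoImplicit false
universe u
open CAlg

namespace Groth.Agent.S13782

open Groth.Agent.H8

/-- Let k be a field, A a smooth k-algebra, s an irreducible element of A and e an integer, at least 2,
that is invertible in k. Then the k-algebra A[t]/(t^e - s) is smooth exactly when the quotient ring
A/(s) is a smooth k-algebra. (Smooth over k means formally smooth and of finite presentation over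
k.) -/
theorem result (k A : Type u) [Field k] [CommRing A] [Algebra k A]
    [Algebra.Smooth k A] (s : A) (hs : Irreducible s) (e : ℕ) (he : 2 ≤ e) (hek : (e : k) ≠ 0) :
    Algebra.Smooth k (AdjoinRoot (Polynomial.X ^ e - Polynomial.C s)) ↔
      Algebra.Smooth k (A ⧸ Ideal.span {s}) := by
  obtain ⟨m, rfl⟩ : ∃ m, e = m + 2 := ⟨e - 2, by omega⟩
  constructor
  · intro h
    haveI : Algebra.FormallySmooth k (A ⧸ Ideal.span {s}) :=
      SmQ.formallySmooth_quotient_of_adjoinRoot s m
    haveI : Algebra.FinitePresentation k (A ⧸ Ideal.span {s}) :=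
      Algebra.FinitePresentation.quotient (Submodule.fg_span_singleton s)
    exact ⟨inferInstance, inferInstance⟩
  · intro h
    haveI : IsNoetherianRing A := Algebra.FiniteType.isNoetherianRing k A
    haveI := Groth.Agent.H5.RegHom.isRegularRing_of_smooth_field k A
    have hnzd : s ∈ nonZeroDivisors A :=
      SmQ.mem_nonZeroDivisors_of_irreducible
        (fun p _ => Groth.Agent.H7.Reg.isDomain (Localization.AtPrime p)) s hs
    obtain ⟨D, a, hD⟩ := SmQ.exists_derivation_self (k := k) s hnzd
    have hu : ((m + 1 + 1 : ℕ) : k) * ((m + 2 : ℕ) : k)⁻¹ = 1 := mul_inv_cancel₀ hek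
    haveI : Algebra.FormallySmooth k (AdjoinRoot (Polynomial.X ^ (m + 2) - Polynomial.C s)) :=
      SmQ.formallySmooth_adjoinRoot s (m + 1) _ hu D a hD
    exact ⟨inferInstance, inferInstance⟩

end Groth.Agent.S13782
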