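import Groth.Statements.S13784
import Mathlib.Tactic
import Mathlib.RingTheory.IntegralDomain
import Mathlib.RingTheory.LocalRing.ResidueField.Basic
import Mathlib.Algebra.Ring.GeomSum
-- import your own Groth.Agent.* helpers here

set_option autoImplicit false
universe u
open CAlg

namespace Groth.Agent.S13784

/-- Let A be a commutative local ring and G a finite subgroup of Aˣ. If the order of G is invertible in
A, then G is cyclic. -/
theorem result {A : Type u} [CommRing A] [IsLocalRing A]
    (G : Subgroup Aˣ) [Finite G] (hG : IsUnit ((Nat.card G : ℕ) : A)) : IsCyclic G := by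
  classical
  let π := IsLocalRing.residue A
  let φ : G →* IsLocalRing.ResidueField A :=
    { toFun := fun g => π ((g : Aˣ) : A)
      map_one' := by simp
      map_mul' := by intro a b; simp }
  apply isCyclic_of_injective_ringHom φ
  rw [injective_iff_map_eq_one]
  intro g hg
  have hπg : π ((g : Aˣ) : A) = 1 := hg
  set n := Nat.card G with hn
  have hgn : ((g : Aˣ) : A) ^ n = 1 := by
    have h1 : g ^ n = 1 := by rw [hn]; exact pow_card_eq_one'
    have h2 : ((g ^ n : G) : Aˣ) = 1 := by rw [h1]; rfl
    have h3 : (((g ^ n : G) : Aˣ) : A) = 1 := by rw [h2]; rfl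
    simpa using h3
  have hS : IsUnit (∑ i ∈ Finset.range n, ((g : Aˣ) : A) ^ i) := by
    apply isUnit_of_map_unit π
    rw [map_sum]
    simp only [map_pow, hπg, one_pow, Finset.sum_const, Finset.card_range, nsmul_eq_mul, mul_one]
    have := hG.map π
    simpa using this
  have hmul := mul_geom_sum ((g : Aˣ) : A) n
  rw [hgn, sub_self] at hmul
  have hx : ((g : Aˣ) : A) - 1 = 0 := (hS.mul_left_eq_zero).mp hmul
  have : ((g : Aˣ) : A) = 1 := sub_eq_zero.mp hx
  ext
  simpa using this

end Groth.Agent.S13784
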