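import Groth.Statements.S13785
import Groth.Agent.Lib.Helper7.QuadGrp.McCoy
import Mathlib.LinearAlgebra.Matrix.MvPolynomial
-- import your own Groth.Agent.* helpers here

set_option autoImplicit false
universe u
open CAlg

namespace Groth.Agent.S13785

/-- For any commutative ring A, the determinant of the generic n × n matrix is a nonzerodivisor of the
polynomial ring over A in the n² matrix entries. -/
theorem result (A : Type u) [CommRing A] (n : ℕ) :
    (Matrix.mvPolynomialX (Fin n) (Fin n) A).det ∈ nonZeroDivisors (MvPolynomial (Fin n × Fin n) A) := by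
  rw [mem_nonZeroDivisors_iff_left]
  intro G hG
  refine Groth.Agent.H7.McCoy.eq_zero_of_mul_eq_zero _ ?_ G hG
  intro r hr
  have := congrArg (MvPolynomial.eval (fun p : Fin n × Fin n => (1 : Matrix (Fin n) (Fin n) A) p.1 p.2)) hr
  rw [map_mul, MvPolynomial.eval_C, Matrix.eval_det_mvPolynomialX, map_zero] at this
  have h1 : (Matrix.of fun i j => (1 : Matrix (Fin n) (Fin n) A) (i, j).1 (i, j).2) = 1 := by
    ext i j; rfl
  simpa [h1] using this

end Groth.Agent.S13785
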