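import Groth.Statements.S13786
import Mathlib

set_option autoImplicit false
universe u
open CAlg

namespace Groth.Agent.S13786

/-- For a commutative ring A and n ≥ 1, with det the determinant of the generic n × n matrix in the
polynomial ring A[X] in n² indeterminates, the A-algebra A[X]/(det) is faithfully flat over A. (For
n = 0 the determinant is 1 and the quotient is the zero ring, so n ≥ 1 is required.) -/
theorem result (A : Type u) [CommRing A] (n : ℕ) (hn : 0 < n) :
    Module.FaithfullyFlat A
      (MvPolynomial (Fin n × Fin n) A ⧸ Ideal.span {(Matrix.mvPolynomialX (Fin n) (Fin n) A).det}) := by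
  classical
  have hflat : Module.Flat A (MvPolynomial (Fin n × Fin n) A ⧸
      Ideal.span {(Matrix.mvPolynomialX (Fin n) (Fin n) A).det}) := by
    -- the matrix and the characteristic polynomial of its negative
    have hχ : ((-(Matrix.mvPolynomialX (Fin n) (Fin n) A)).charpoly).Monic :=
      Matrix.charpoly_monic _
    -- θ : X_ij ↦ C X_ij + δ_ij T
    let θ : MvPolynomial (Fin n × Fin n) A →ₐ[A] Polynomial (MvPolynomial (Fin n × Fin n) A) :=
      MvPolynomial.aeval (fun ij : Fin n × Fin n =>
        Polynomial.C (MvPolynomial.X ij) + if ij.1 = ij.2 then Polynomial.X else 0)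
    have hθd : θ (Matrix.mvPolynomialX (Fin n) (Fin n) A).det =
        (-(Matrix.mvPolynomialX (Fin n) (Fin n) A)).charpoly := by
      rw [AlgHom.map_det]
      unfold Matrix.charpoly
      congr 1
      ext i j
      by_cases hij : i = j
      · subst hij
        simp [θ, Matrix.charmatrix_apply, Matrix.mvPolynomialX_apply, add_comm]
      · simp [θ, Matrix.charmatrix_apply, Matrix.mvPolynomialX_apply, hij]
    -- free module F
    have hfree : Module.Free (MvPolynomial (Fin n × Fin n) A)
        (Polynomial (MvPolynomial (Fin n × Fin n) A) ⧸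
          Ideal.span {(-(Matrix.mvPolynomialX (Fin n) (Fin n) A)).charpoly}) :=
      hχ.free_quotient
    have : Module.Flat A (Polynomial (MvPolynomial (Fin n × Fin n) A) ⧸
          Ideal.span {(-(Matrix.mvPolynomialX (Fin n) (Fin n) A)).charpoly}) :=
      Module.Flat.trans A (MvPolynomial (Fin n × Fin n) A) _
    -- ι : Q → F
    let ι : (MvPolynomial (Fin n × Fin n) A ⧸
        Ideal.span {(Matrix.mvPolynomialX (Fin n) (Fin n) A).det}) →ₐ[A]
        (Polynomial (MvPolynomial (Fin n × Fin n) A) ⧸
          Ideal.span {(-(Matrix.mvPolynomialX (Fin n) (Fin n) A)).charpoly}) :=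
      Ideal.Quotient.liftₐ _ ((Ideal.Quotient.mkₐ A _).comp θ) (by
        intro a ha
        obtain ⟨c, rfl⟩ := Ideal.mem_span_singleton'.mp ha
        simp only [AlgHom.comp_apply, map_mul, hθd]
        rw [← map_mul]
        exact Ideal.Quotient.eq_zero_iff_mem.mpr
          (Ideal.mul_mem_left _ _ (Ideal.subset_span rfl)))
    have hc0 : ((-(Matrix.mvPolynomialX (Fin n) (Fin n) A)).charpoly).coeff 0 =
        (Matrix.mvPolynomialX (Fin n) (Fin n) A).det := by
      have h1 := Matrix.det_eq_sign_charpoly_coeff (-(Matrix.mvPolynomialX (Fin n) (Fin n) A))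
      rw [Matrix.det_neg] at h1
      have h2 : ((-1 : MvPolynomial (Fin n × Fin n) A) ^ Fintype.card (Fin n) *
          (-1) ^ Fintype.card (Fin n)) = 1 := by
        rw [← mul_pow]; simp
      calc ((-(Matrix.mvPolynomialX (Fin n) (Fin n) A)).charpoly).coeff 0
          = ((-1 : MvPolynomial (Fin n × Fin n) A) ^ Fintype.card (Fin n) *
              (-1) ^ Fintype.card (Fin n)) *
              ((-(Matrix.mvPolynomialX (Fin n) (Fin n) A)).charpoly).coeff 0 := by
            rw [h2, one_mul]
        _ = (-1 : MvPolynomial (Fin n × Fin n) A) ^ Fintype.card (Fin n) *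
              ((-1) ^ Fintype.card (Fin n) *
              ((-(Matrix.mvPolynomialX (Fin n) (Fin n) A)).charpoly).coeff 0) := mul_assoc _ _ _
        _ = (-1 : MvPolynomial (Fin n × Fin n) A) ^ Fintype.card (Fin n) *
              ((-1) ^ Fintype.card (Fin n) *
              (Matrix.mvPolynomialX (Fin n) (Fin n) A).det) := by rw [← h1]
        _ = (Matrix.mvPolynomialX (Fin n) (Fin n) A).det := by
            rw [← mul_assoc, h2, one_mul]
    -- ρ₀ : P[T] → Q, T ↦ 0
    let ρ₀ : Polynomial (MvPolynomial (Fin n × Fin n) A) →ₐ[A]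
        (MvPolynomial (Fin n × Fin n) A ⧸
          Ideal.span {(Matrix.mvPolynomialX (Fin n) (Fin n) A).det}) :=
      (Ideal.Quotient.mkₐ A _).comp
        ((Polynomial.aeval (R := MvPolynomial (Fin n × Fin n) A)
          (0 : MvPolynomial (Fin n × Fin n) A)).restrictScalars A)
    have hρχ : ρ₀ ((-(Matrix.mvPolynomialX (Fin n) (Fin n) A)).charpoly) = 0 := by
      simp only [ρ₀, AlgHom.comp_apply, AlgHom.restrictScalars_apply]
      rw [Polynomial.aeval_def, Polynomial.eval₂_at_zero, hc0]
      exact Ideal.Quotient.eq_zero_iff_mem.mpr (Ideal.subset_span rfl)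
    let ρ : (Polynomial (MvPolynomial (Fin n × Fin n) A) ⧸
          Ideal.span {(-(Matrix.mvPolynomialX (Fin n) (Fin n) A)).charpoly}) →ₐ[A]
        (MvPolynomial (Fin n × Fin n) A ⧸
          Ideal.span {(Matrix.mvPolynomialX (Fin n) (Fin n) A).det}) :=
      Ideal.Quotient.liftₐ _ ρ₀ (by
        intro a ha
        obtain ⟨c, rfl⟩ := Ideal.mem_span_singleton'.mp ha
        rw [map_mul, hρχ, mul_zero])
    have hρι : ρ.comp ι = AlgHom.id A _ := by
      apply Ideal.Quotient.algHom_ext
      apply MvPolynomial.algHom_ext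
      intro ij
      simp only [AlgHom.comp_apply, Ideal.Quotient.mkₐ_eq_mk, AlgHom.id_apply, ι, ρ,
        Ideal.Quotient.liftₐ_apply, Ideal.Quotient.lift_mk, AlgHom.coe_toRingHom,
        AlgHom.coe_comp, Function.comp_apply, θ, MvPolynomial.aeval_X, ρ₀,
        AlgHom.restrictScalars_apply]
      by_cases h : ij.1 = ij.2
      · simp [h]
      · simp [h]
    exact Module.Flat.of_retract ι.toLinearMap ρ.toLinearMap (by
      ext x
      exact congrArg (fun f : _ →ₐ[A] _ => f x) hρι)
  refine ⟨?_⟩
  intro m hm htop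
  haveI : Nonempty (Fin n) := ⟨⟨0, hn⟩⟩
  -- ε : Q → A
  let ε : (MvPolynomial (Fin n × Fin n) A ⧸
        Ideal.span {(Matrix.mvPolynomialX (Fin n) (Fin n) A).det}) →ₐ[A] A :=
    Ideal.Quotient.liftₐ _ (MvPolynomial.aeval (fun _ : Fin n × Fin n => (0 : A))) (by
      intro a ha
      obtain ⟨c, rfl⟩ := Ideal.mem_span_singleton'.mp ha
      rw [map_mul, AlgHom.map_det]
      have : (MvPolynomial.aeval (fun _ : Fin n × Fin n => (0 : A))).mapMatrix
          (Matrix.mvPolynomialX (Fin n) (Fin n) A) = 0 := by
        ext i j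
        simp [Matrix.mvPolynomialX_apply]
      rw [this, Matrix.det_zero, mul_zero])
  have key : ∀ x ∈ (m • ⊤ : Submodule A (MvPolynomial (Fin n × Fin n) A ⧸
        Ideal.span {(Matrix.mvPolynomialX (Fin n) (Fin n) A).det})), ε x ∈ m := by
    intro x hx
    refine Submodule.smul_induction_on hx ?_ ?_
    · intro r hr y _
      rw [map_smul, smul_eq_mul]
      exact Ideal.mul_mem_right _ _ hr
    · intro x y hx hy
      rw [map_add]; exact Ideal.add_mem _ hx hy
  have h1 : ε 1 ∈ m := key 1 (by rw [htop]; trivial)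
  rw [map_one] at h1
  exact hm.ne_top ((Ideal.eq_top_iff_one _).mpr h1)

end Groth.Agent.S13786
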