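import Groth.Statements.S13787
import Groth.Agent.Lib.Helper7.GLUnits
-- import your own Groth.Agent.* helpers here

set_option autoImplicit false
universe u
open CAlg

namespace Groth.Agent.S13787

/-- Let A be a nonzero commutative ring and n ≥ 1, let det be the determinant of the generic n × n
matrix in the polynomial ring A[X] in its n² entries, and let A[X, 1/det] be the localization at det
(the coordinate ring of GL_n over A). The homomorphism Aˣ × ℤ → (A[X, 1/det])ˣ sending (a, e) to a ·
det^e is injective. (The published statement takes the exponent in the group of locally constant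
ℤ-valued functions on Spec A, which also covers A = 0; with integer exponents as here, A must be
nonzero and n ≥ 1.) -/
theorem result (A : Type u) [CommRing A] [Nontrivial A] (n : ℕ) (hn : 0 < n) :
    Function.Injective (fun p : Aˣ × ℤ =>
        Units.map (algebraMap A (Localization.Away (Matrix.mvPolynomialX (Fin n) (Fin n) A).det)).toMonoidHom p.1 *
          (IsLocalization.Away.algebraMap_isUnit (S := Localization.Away (Matrix.mvPolynomialX (Fin n) (Fin n) A).det)
            (Matrix.mvPolynomialX (Fin n) (Fin n) A).det).unit ^ p.2) := by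
  rintro ⟨a, e⟩ ⟨a', e'⟩ h
  simp only at h
  set f := Units.map (algebraMap A (Localization.Away
    (Matrix.mvPolynomialX (Fin n) (Fin n) A).det)).toMonoidHom with hf
  set δ := (IsLocalization.Away.algebraMap_isUnit
    (S := Localization.Away (Matrix.mvPolynomialX (Fin n) (Fin n) A).det)
    (Matrix.mvPolynomialX (Fin n) (Fin n) A).det).unit with hδ
  have h1 : f (a'⁻¹ * a) = δ ^ (e' - e) := by
    rw [map_mul, map_inv, zpow_sub, inv_mul_eq_iff_eq_mul, ← mul_assoc, eq_mul_inv_iff_mul_eq]
    exact h
  obtain ⟨m, hm | hm⟩ := Int.eq_nat_or_neg (e' - e)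
  · rw [hm, zpow_natCast] at h1
    obtain ⟨h2, h3⟩ := Groth.Agent.H7.GLUnits.eq_one_of_map_eq_pow hn _ m h1
    have h4 : e' = e := by omega
    have h5 : a = a' := by
      have := inv_mul_eq_one.1 h3
      exact this.symm
    rw [h4, h5]
  · have h1' : f (a⁻¹ * a') = δ ^ m := by
      have := congrArg (fun z => z⁻¹) h1
      simp only [← map_inv, mul_inv_rev, inv_inv, ← zpow_neg] at this
      rw [this, hm, neg_neg, zpow_natCast]
    obtain ⟨h2, h3⟩ := Groth.Agent.H7.GLUnits.eq_one_of_map_eq_pow hn _ m h1'
    have h4 : e' = e := by omega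
    have h5 : a = a' := inv_mul_eq_one.1 h3
    rw [h4, h5]

end Groth.Agent.S13787
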