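import Groth.Statements.S13789
import Groth.Agent.Lib.Helper7.FracSub
-- import your own Groth.Agent.* helpers here

set_option autoImplicit false
universe u
open CAlg

namespace Groth.Agent.S13789

/-- Let A be a commutative ring with total ring of fractions Q and let B be a ring with A ⊆ B ⊆ Q. Then
the inclusion A ⊆ B carries nonzerodivisors of A to nonzerodivisors of B, and every nonzerodivisor
of B has the form r/u with r and u nonzerodivisors of A. -/
theorem result {A Q : Type u} [CommRing A] [CommRing Q] [Algebra A Q] [IsFractionRing A Q] (B : Subalgebra A Q) :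
    (∀ a : A, a ∈ nonZeroDivisors A → algebraMap A B a ∈ nonZeroDivisors B) ∧
    (∀ b : B, b ∈ nonZeroDivisors B → ∃ r u : A, r ∈ nonZeroDivisors A ∧ u ∈ nonZeroDivisors A ∧
      (b : Q) * algebraMap A Q u = algebraMap A Q r) := by
  refine ⟨fun a ha => Groth.Agent.H7.algebraMap_mem_nonZeroDivisors_subalgebra B a ha, ?_⟩
  intro b hb
  have hu : IsUnit (b : Q) := Groth.Agent.H7.isUnit_coe_of_mem_nonZeroDivisors_subalgebra B b hb
  obtain ⟨⟨a, s⟩, hs⟩ := IsLocalization.surj (nonZeroDivisors A) (b : Q)
  have hsu : IsUnit (algebraMap A Q s) := IsLocalization.map_units Q s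
  refine ⟨a, s, ?_, s.2, hs⟩
  rw [mem_nonZeroDivisors_iff_right]
  intro a' ha'
  have hau : IsUnit (algebraMap A Q a) := by rw [← hs]; exact hu.mul hsu
  have h1 : algebraMap A Q a' * algebraMap A Q a = 0 := by rw [← map_mul, ha', map_zero]
  have h2 : algebraMap A Q a' = 0 := (hau.mul_left_eq_zero).mp h1
  exact (IsFractionRing.to_map_eq_zero_iff (K := Q)).mp h2

end Groth.Agent.S13789
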