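import Groth.Statements.S13790
import Groth.Agent.Lib.Helper7.FracSub
-- import your own Groth.Agent.* helpers here

set_option autoImplicit false
universe u
open CAlg

namespace Groth.Agent.S13790

/-- Let A be a commutative ring with total ring of fractions Q and let B be a ring with A ⊆ B ⊆ Q. Then
Q, with the inclusion B ⊆ Q, is the total ring of fractions of B. -/
theorem result {A Q : Type u} [CommRing A] [CommRing Q] [Algebra A Q] [IsFractionRing A Q] (B : Subalgebra A Q) :
    IsFractionRing B Q := by
  refine { map_units := ?_, surj := ?_, exists_of_eq := ?_ }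
  · rintro ⟨b, hb⟩
    exact Groth.Agent.H7.isUnit_coe_of_mem_nonZeroDivisors_subalgebra B b hb
  · intro q
    obtain ⟨⟨a, s⟩, hs⟩ := IsLocalization.surj (nonZeroDivisors A) q
    exact ⟨⟨algebraMap A B a, ⟨algebraMap A B s,
      Groth.Agent.H7.algebraMap_mem_nonZeroDivisors_subalgebra B s s.2⟩⟩, hs⟩
  · intro x y h
    refine ⟨1, ?_⟩
    have : x = y := Subtype.ext h
    rw [this]

end Groth.Agent.S13790
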