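import Groth.Statements.S13794
import Mathlib.Tactic
-- import your own Groth.Agent.* helpers here

set_option autoImplicit false
universe u
open Polynomial
open Curves

namespace Groth.Agent.S13794

/-- Let k be a field of characteristic not 3 and β ∈ k. If a line ax + by + c = 0 with a³ ≠ b³ is the
tangent line at a flex point of the affine cubic x³ + y³ + β = 3xy, then β is a cube in k. Here the
line is normalised to b ≠ 0 (the roles of x and y are symmetric) and the flex-tangency is expressed
by the restriction of the cubic to the line being λ (x − x₀)³. -/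
theorem result {k : Type u} [Field k] (h3 : (3 : k) ≠ 0)
    (β a b c : k) (hb : b ≠ 0) (hab : a ^ 3 ≠ b ^ 3) (lam x₀ : k)
    (hflex : (X : k[X]) ^ 3 + (C (-a / b) * X + C (-c / b)) ^ 3 + C β - 3 * X * (C (-a / b) * X + C (-c / b)) =
      C lam * (X - C x₀) ^ 3) :
    ∃ γ : k, β = γ ^ 3 := by
  have hm3 : (-a / b) ^ 3 ≠ -1 := by
    intro h
    apply hab
    have hb3 : b ^ 3 ≠ 0 := pow_ne_zero 3 hb
    field_simp at h
    linear_combination -h
  generalize (-a / b) = m at hflex hm3
  generalize (-c / b) = q at hflex
  have hL : (X : k[X]) ^ 3 + (C m * X + C q) ^ 3 + C β - 3 * X * (C m * X + C q) =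
      C (1 + m^3) * X^3 + C (3*m^2*q - 3*m) * X^2 + C (3*m*q^2 - 3*q) * X + C (q^3 + β) := by
    simp only [map_add, map_sub, map_mul, map_pow, map_one, map_ofNat]
    ring
  have hR : C lam * (X - C x₀)^3 =
      C lam * X^3 + C (-3*lam*x₀) * X^2 + C (3*lam*x₀^2) * X + C (-lam*x₀^3) := by
    simp only [map_mul, map_neg, map_pow, map_ofNat]; ring
  rw [hL, hR] at hflex
  have e3 := congrArg (fun p => p.coeff 3) hflex
  have e2 := congrArg (fun p => p.coeff 2) hflex
  have e1 := congrArg (fun p => p.coeff 1) hflex
  have e0 := congrArg (fun p => p.coeff 0) hflex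
  simp only [coeff_add, coeff_C_mul, coeff_X_pow, coeff_X, coeff_C] at e3 e2 e1 e0
  norm_num at e3 e2 e1 e0
  have hlam : lam ≠ 0 := by
    rw [← e3]; intro h; apply hm3; linear_combination h
  have e2' : m^2*q - m = -lam*x₀ := mul_left_cancel₀ h3 (by linear_combination e2)
  have e1' : m*q^2 - q = lam*x₀^2 := mul_left_cancel₀ h3 (by linear_combination e1)
  have hprod : (m * q - 1) * (m * x₀ + q) = 0 := by linear_combination x₀ * e2' + e1'
  rcases mul_eq_zero.1 hprod with h | h
  · have hx : x₀ = 0 := by
      have : lam * x₀ = 0 := by linear_combination e2' - m * h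
      exact (mul_eq_zero.1 this).resolve_left hlam
    refine ⟨-q, ?_⟩
    subst hx
    linear_combination e0
  · refine ⟨-x₀, ?_⟩
    have hq : q = -m * x₀ := by linear_combination h
    subst hq
    linear_combination e0 + x₀^3 * e3

end Groth.Agent.S13794
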