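import Groth.Statements.S13796
import Groth.Agent.Lib.Helper7.TP8
-- import your own Groth.Agent.* helpers here

set_option autoImplicit false
universe u
open scoped TensorProduct
open Brauer

namespace Groth.Agent.S13796

/-- In the case of an affine scheme — let R be a commutative ring and A an Azumaya R-algebra of constant
rank n². Then there exist a finitely generated projective R-module E of constant rank n^n and an
R-algebra isomorphism from the n-fold tensor power A ⊗ ⋯ ⊗ A to End_R(E) (existence of an
isomorphism only), so the Brauer class of A is n-torsion. For n = 0 the hypotheses force R = 0,
where the statement holds trivially. (The published statement is for Azumaya algebras of constant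
rank n² on any locally ringed site; this row is the case of the étale site of Spec R, written in
terms of modules: an Azumaya algebra here is one in the usual, étale-local sense.) -/
theorem result (R : Type u) [CommRing R] (A : Type u) [Ring A] [Algebra R A]
    [IsAzumaya R A] (n : ℕ) (hrk : ∀ p : PrimeSpectrum R, Module.rankAtStalk (R := R) A p = n ^ 2) :
    ∃ (E : Type u) (_ : AddCommGroup E) (_ : Module R E), Module.Finite R E ∧ Module.Projective R E ∧
      (∀ p : PrimeSpectrum R, Module.rankAtStalk (R := R) E p = n ^ n) ∧
      Nonempty ((⨂[R] _ : Fin n, A) ≃ₐ[R] Module.End R E) := by
  rcases Nat.eq_zero_or_pos n with rfl | hn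
  · have hA : Subsingleton A := by
      rw [← Module.rankAtStalk_eq_zero_iff_subsingleton (R := R)]
      funext p
      rw [hrk p]
      rfl
    have hR : Subsingleton R := by
      have h10 : (1 : R) = 0 := by
        apply FaithfulSMul.eq_of_smul_eq_smul (α := A)
        intro a
        exact Subsingleton.elim _ _
      exact subsingleton_of_zero_eq_one h10.symm
    refine ⟨R, inferInstance, inferInstance, inferInstance, inferInstance, ?_, ?_⟩
    · intro p
      exact absurd p.nontrivial (not_nontrivial R)
    · haveI : Subsingleton (⨂[R] _ : Fin 0, A) := Module.subsingleton R _
      haveI : Subsingleton (Module.End R R) := Module.subsingleton R _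
      exact ⟨{ toFun := fun _ => 0
               invFun := fun _ => 0
               left_inv := fun _ => Subsingleton.elim _ _
               right_inv := fun _ => Subsingleton.elim _ _
               map_mul' := fun _ _ => Subsingleton.elim _ _
               map_add' := fun _ _ => Subsingleton.elim _ _
               commutes' := fun _ => Subsingleton.elim _ _ }⟩
  · exact Groth.Agent.H7.TP.main_pos R A n hrk hn

end Groth.Agent.S13796
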