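import Groth.Statements.S13801
import Mathlib.Tactic
-- import your own Groth.Agent.* helpers here

set_option autoImplicit false
open ChowMon

namespace Groth.Agent.S13801

/-- For a prime p and positive natural numbers a_1, ..., a_k with sum n one has v_p(a_1!) + ... +
v_p(a_k!) ≤ v_p(n!), and the inequality is strict whenever some a_i is not divisible by p^(v_p(n)). -/
theorem result {k : ℕ} (p : ℕ) [Fact p.Prime]
    (a : Fin k → ℕ) (ha : ∀ i, 0 < a i) :
    (∑ i, padicValNat p (a i).factorial ≤ padicValNat p (∑ i, a i).factorial) ∧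
      ((∃ i, ¬ p ^ padicValNat p (∑ j, a j) ∣ a i) →
        ∑ i, padicValNat p (a i).factorial < padicValNat p (∑ i, a i).factorial) := by
  classical
  set n := ∑ i, a i with hn
  set b := n + 1 with hb
  have hp := (Fact.out : p.Prime)
  have hlog : ∀ m, m ≤ n → Nat.log p m < b :=
    fun m hm => lt_of_le_of_lt (Nat.log_le_self p m) (by omega)
  have hai : ∀ i, a i ≤ n :=
    fun i => Finset.single_le_sum (fun j _ => Nat.zero_le (a j)) (Finset.mem_univ i)
  have hL : ∑ i, padicValNat p (a i).factorial = ∑ j ∈ Finset.Ico 1 b, ∑ i, a i / p ^ j := by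
    rw [Finset.sum_comm]
    exact Finset.sum_congr rfl fun i _ => padicValNat_factorial (hlog _ (hai i))
  have hR : padicValNat p n.factorial = ∑ j ∈ Finset.Ico 1 b, n / p ^ j :=
    padicValNat_factorial (hlog n le_rfl)
  have hterm : ∀ d, 0 < d → ∑ i, a i / d ≤ n / d := by
    intro d hd
    rw [Nat.le_div_iff_mul_le hd, Finset.sum_mul]
    exact Finset.sum_le_sum fun i _ => Nat.div_mul_le_self _ _
  rw [hL, hR]
  refine ⟨Finset.sum_le_sum fun j _ => hterm _ (pow_pos hp.pos j), ?_⟩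
  rintro ⟨i₀, hi₀⟩
  set e := padicValNat p n with he
  have hn0 : n ≠ 0 := (lt_of_lt_of_le (ha i₀) (hai i₀)).ne'
  have hdvd : p ^ e ∣ n := pow_padicValNat_dvd
  have he1 : 1 ≤ e := by
    by_contra h
    have : e = 0 := by omega
    rw [this, pow_zero] at hi₀
    exact hi₀ (one_dvd _)
  have heb : e < b := by
    have h1 : p ^ e ≤ n := Nat.le_of_dvd (Nat.pos_of_ne_zero hn0) hdvd
    have h2 : e < p ^ e := Nat.lt_pow_self hp.one_lt
    omega
  apply Finset.sum_lt_sum (fun j _ => hterm _ (pow_pos hp.pos j))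
  refine ⟨e, Finset.mem_Ico.2 ⟨he1, heb⟩, ?_⟩
  obtain ⟨t, ht⟩ := hdvd
  have hd : 0 < p ^ e := pow_pos hp.pos e
  rw [ht, Nat.mul_div_cancel_left _ hd]
  apply lt_of_mul_lt_mul_left (a := p ^ e) _ (Nat.zero_le _)
  rw [← ht, Finset.mul_sum, hn]
  apply Finset.sum_lt_sum (fun i _ => Nat.mul_div_le _ _)
  refine ⟨i₀, Finset.mem_univ _, ?_⟩
  have := Nat.div_add_mod (a i₀) (p ^ e)
  have hmod : a i₀ % p ^ e ≠ 0 := fun h => hi₀ (Nat.dvd_of_mod_eq_zero h)
  omega

end Groth.Agent.S13801
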