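import Groth.Statements.S13826
import Mathlib
import Groth.Prelude.Def_Flat
import Groth.Prelude.Def_HTop2
import Groth.Prelude.Def_W4c1chowmix47Eta
import Groth.Agent.H4.ResMap
import Groth.Agent.S13802
import Groth.Agent.S13803
import Groth.Agent.S13806

set_option autoImplicit false
universe u
open EtaPt

namespace Groth.Agent.S13826

open CategoryTheory CategoryTheory.Limits AlgebraicGeometry TensorProduct


open Groth.Agent.S7405 Groth.Agent.H4.UHCrit Groth.Agent.H4.SemiNormal Groth.Agent.H4.ResMap

/-- For the identity endofunctor and a commutative ring A with finitely many minimal prime ideals, q_A :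
A → M(A) is a seminormalization of A: Spec(q_A) is a universal homeomorphism with trivial residue
field extensions, final among ring maps out of A with these properties. Here M(A) ⊆ ∏_p k(p) is the
subring of families whose image in ∏_q k(q), for every ring map from A to a valuation ring R, is the
diagonal image of an element of R. -/
theorem result (A : Type u) [CommRing A] (hA : (minimalPrimes A).Finite) :
    HTop.IsRingSN (EtaPt.FieldEndo.ident.{u}.q A) := by
  have h1 := Groth.Agent.S13802.result EtaPt.FieldEndo.ident.{u} A hA
  obtain ⟨h2, h3⟩ := Groth.Agent.S13803.result EtaPt.FieldEndo.ident.{u} A hA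
  refine ⟨(sn_ringHom_iff _).mpr ⟨h1, h2, fun Q => ?_⟩, ?_⟩
  · obtain ⟨φ, hφ⟩ := h3 Q
    intro y
    refine ⟨φ y, φ.injective ?_⟩
    exact congrArg (fun g => g (φ y)) hφ
  · intro C _ ψ hψ hψ'
    obtain ⟨i1, i2, i3⟩ := (sn_ringHom_iff ψ).mp ⟨hψ, hψ'⟩
    exact Groth.Agent.S13806.result EtaPt.FieldEndo.ident.{u} A hA C ψ i1
      (bijective_Nmap_ident ψ i2 i3)


end Groth.Agent.S13826
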