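import Groth.Statements.S13830
import Mathlib
import Groth.Prelude.Def_Flat
import Groth.Prelude.Def_HTop2
import Groth.Prelude.Def_W4c1chowmix47Eta
import Groth.Agent.H4.ResMap
import Groth.Agent.S13817
import Groth.Agent.S13818
import Groth.Agent.S13819

set_option autoImplicit false
universe u
open AlgebraicGeometry
open EtaPt

namespace Groth.Agent.S13830

open CategoryTheory CategoryTheory.Limits AlgebraicGeometry TensorProduct


open Groth.Agent.S7405 Groth.Agent.H4.UHCrit Groth.Agent.H4.SemiNormal Groth.Agent.H4.ResMap

/-- For the identity endofunctor, a commutative ring A with finitely many minimal prime ideals and an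
A-algebra B with Spec B → Spec A surjective, the subring (B/A) ⊆ B (elements b whose residue classes
(b mod q)_q come from a family in M(A) ⊆ ∏_p k(p), M(A) being the families that come from an element
of R after any base change to a valuation ring R) is the seminormalization of A in B: Spec (B/A) →
Spec A is a universal homeomorphism with trivial residue field extensions, and every A-subalgebra C
of B with these two properties is contained in (B/A). -/
theorem result (A B : Type u) [CommRing A] [CommRing B] [Algebra A B] (hA : (minimalPrimes A).Finite)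
    (hs : Function.Surjective (PrimeSpectrum.comap (algebraMap A B))) :
    (FlatMor.IsUnivHomeo (Spec.map (CommRingCat.ofHom (EtaPt.FieldEndo.ident.{u}.qRel (algebraMap A B)))) ∧
      HTop.ResidueFieldsIso (Spec.map (CommRingCat.ofHom (EtaPt.FieldEndo.ident.{u}.qRel (algebraMap A B))))) ∧
    ∀ C : Subalgebra A B,
      FlatMor.IsUnivHomeo (Spec.map (CommRingCat.ofHom (algebraMap A C))) →
      HTop.ResidueFieldsIso (Spec.map (CommRingCat.ofHom (algebraMap A C))) →
      C.toSubring ≤ EtaPt.FieldEndo.ident.{u}.rel (algebraMap A B) := by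
  obtain ⟨h1, h2⟩ := Groth.Agent.S13817.result EtaPt.FieldEndo.ident.{u} hA (algebraMap A B) hs
  obtain ⟨h3, -⟩ := Groth.Agent.S13818.result EtaPt.FieldEndo.ident.{u} hA (algebraMap A B) hs
  refine ⟨(sn_ringHom_iff _).mpr ⟨h1, h2, fun Q => ?_⟩, ?_⟩
  · obtain ⟨φ, hφ⟩ := h3 Q
    intro y
    refine ⟨φ y, φ.injective ?_⟩
    exact congrArg (fun g => g (φ y)) hφ
  · intro C hC hC'
    obtain ⟨i1, i2, i3⟩ := (sn_ringHom_iff (algebraMap A C)).mp ⟨hC, hC'⟩
    have := Groth.Agent.S13819.result EtaPt.FieldEndo.ident.{u} hA (algebraMap A C)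
      C.val.toRingHom (by exact hs) i1 (bijective_Nmap_ident _ i2 i3)
    intro b hb
    exact this ⟨⟨b, hb⟩, rfl⟩


end Groth.Agent.S13830
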