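import Groth.Statements.S13831
import Mathlib
import Groth.Prelude.Def_Flat
import Groth.Agent.Lib.Helper1.UnivHomeo

set_option autoImplicit false
universe u
open AlgebraicGeometry
open ChowMon

namespace Groth.Agent.S13831

open CategoryTheory CategoryTheory.Limits AlgebraicGeometry


section Eval

lemma exists_evaluation_div {X : Scheme.{u}} {U : X.Opens} (hU : IsAffineOpen U) (x : X)
    (hx : x ∈ U) (t : X.residueField x) :
    ∃ a s : Γ(X, U), X.evaluation U x hx s ≠ 0 ∧
      t * X.evaluation U x hx s = X.evaluation U x hx a := by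
  obtain ⟨z, rfl⟩ : ∃ z : X.presheaf.stalk x, (X.residue x) z = t :=
    IsLocalRing.residue_surjective t
  letI := TopCat.Presheaf.algebra_section_stalk X.presheaf ⟨x, hx⟩
  haveI := hU.isLocalization_stalk ⟨x, hx⟩
  obtain ⟨⟨a, s⟩, h⟩ := IsLocalization.surj (hU.primeIdealOf ⟨x, hx⟩).asIdeal.primeCompl z
  have hs : IsUnit (algebraMap Γ(X, U) (X.presheaf.stalk x) s) :=
    IsLocalization.map_units (X.presheaf.stalk x) s
  have hev : ∀ c : Γ(X, U), X.evaluation U x hx c =
      (X.residue x) (algebraMap Γ(X, U) (X.presheaf.stalk x) c) := fun c => rfl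
  refine ⟨a, s, ?_, ?_⟩
  · rw [hev]
    exact (hs.map (X.residue x).hom).ne_zero
  · rw [hev, hev, ← map_mul]
    exact congrArg _ h

end Eval

section Bound

lemma finrank_le_of_span {T' T : Scheme.{u}} (p : T' ⟶ T) {U : T.Opens}
    (hU' : IsAffineOpen (p ⁻¹ᵁ U)) (hint : (p.app U).hom.IsIntegral)
    (s : Finset Γ(T', p ⁻¹ᵁ U))
    (hs : letI := (p.app U).hom.toAlgebra
      Submodule.span Γ(T, U) (s : Set Γ(T', p ⁻¹ᵁ U)) = ⊤)
    (t' : T') (ht' : p t' ∈ U) :
    letI := (p.residueFieldMap t').hom.toAlgebra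
    Module.Finite (T.residueField (p t')) (T'.residueField t') ∧
    Module.finrank (T.residueField (p t')) (T'.residueField t') ≤ s.card := by
  classical
  letI := (p.app U).hom.toAlgebra
  letI := (p.residueFieldMap t').hom.toAlgebra
  set K := T.residueField (p t')
  set L := T'.residueField t'
  let evA : Γ(T, U) →+* K := (T.evaluation U (p t') ht').hom
  let evB : Γ(T', p ⁻¹ᵁ U) →+* L := (T'.evaluation (p ⁻¹ᵁ U) t' ht').hom
  have hnat : ∀ a : Γ(T, U), algebraMap K L (evA a) = evB (algebraMap Γ(T, U) Γ(T', p ⁻¹ᵁ U) a) :=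
    fun a => Scheme.evaluation_naturality_apply p t' ht' a
  let M : Submodule K L := Submodule.span K ((s.image evB : Finset L) : Set L)
  -- (i)
  have h1 : ∀ b : Γ(T', p ⁻¹ᵁ U), evB b ∈ M := by
    intro b
    have hb : b ∈ Submodule.span Γ(T, U) (s : Set Γ(T', p ⁻¹ᵁ U)) := by rw [hs]; trivial
    induction hb using Submodule.span_induction with
    | mem x hx =>
      apply Submodule.subset_span
      rw [Finset.coe_image]
      exact ⟨x, hx, rfl⟩
    | zero => rw [map_zero]; exact M.zero_mem
    | add x y _ _ hx hy => rw [map_add]; exact M.add_mem hx hy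
    | smul a x _ hx =>
      rw [Algebra.smul_def, map_mul, ← hnat, ← Algebra.smul_def]
      exact M.smul_mem _ hx
  -- (ii)
  let E : Subalgebra K L := Algebra.adjoin K (Set.range evB)
  have h2 : Subalgebra.toSubmodule E ≤ M := by
    rw [Algebra.adjoin_eq_span]
    have : (Submonoid.closure (Set.range evB) : Set L) = Set.range evB := by
      have h := Submonoid.closure_eq (MonoidHom.mrange (evB : Γ(T', p ⁻¹ᵁ U) →* L))
      have h' : ((MonoidHom.mrange (evB : Γ(T', p ⁻¹ᵁ U) →* L) : Submonoid L) : Set L) =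
          Set.range evB := rfl
      rw [← h', h]
    rw [this, Submodule.span_le]
    rintro _ ⟨b, rfl⟩
    exact h1 b
  -- (iii)
  have h3 : ∀ l : L, l ∈ E := by
    intro l
    obtain ⟨a, s₀, hs₀, hl⟩ := exists_evaluation_div hU' t' ht' l
    have hmem : evB s₀ ∈ E := Algebra.subset_adjoin ⟨s₀, rfl⟩
    have halg : IsAlgebraic K (evB s₀) := by
      apply IsIntegral.isAlgebraic
      exact IsIntegral.map_of_comp_eq evA evB (RingHom.ext hnat) (hint s₀)
    have hinv : (evB s₀)⁻¹ ∈ E := E.inv_mem_of_algebraic (x := ⟨evB s₀, hmem⟩) halg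
    have : l = evB a * (evB s₀)⁻¹ := by
      have hl' : l * evB s₀ = evB a := hl
      rw [← hl', mul_assoc, mul_inv_cancel₀ hs₀, mul_one]
    rw [this]
    exact E.mul_mem (Algebra.subset_adjoin ⟨a, rfl⟩) hinv
  have h4 : M = ⊤ := by
    rw [eq_top_iff]
    intro l _
    exact h2 (h3 l)
  refine ⟨⟨⟨s.image evB, h4⟩⟩, ?_⟩
  calc Module.finrank K L = Module.finrank K (⊤ : Submodule K L) := (finrank_top K L).symm
    _ = Module.finrank K M := by rw [h4]
    _ ≤ (s.image evB).card := finrank_span_finset_le_card _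
    _ ≤ s.card := Finset.card_image_le

end Bound

/-- For a finite universal homeomorphism p : T' → T of Noetherian schemes there is an integer d ≥ 1 such
that for every point t' of T' over t the residue field degree [k(t') : k(t)] is a power of the
exponential characteristic of k(t) dividing d. -/
theorem result {T' T : Scheme.{u}} (p : T' ⟶ T) [IsFinite p] (hp : FlatMor.IsUnivHomeo p)
    [IsNoetherian T] [IsNoetherian T'] [T.IsSeparated] [T'.IsSeparated] :
    ∃ d : ℕ, 0 < d ∧ ∀ t' : T', ∃ e : ℕ,
      @Module.finrank (T.residueField (p t')) (T'.residueField t') _ _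
          (p.residueFieldMap t').hom.toAlgebra.toModule =
        ringExpChar (T.residueField (p t')) ^ e ∧
      ringExpChar (T.residueField (p t')) ^ e ∣ d := by
  classical
  have hui : UniversallyInjective p := ((Groth.Agent.H1.isUnivHomeo_iff_integral p).mp hp).2.1
  have hpi := ((tfae_universallyInjective p).out 0 2).mp hui
  -- a finite affine cover with generators
  have hbound : ∃ N : ℕ, ∀ t' : T',
      (letI := (p.residueFieldMap t').hom.toAlgebra
       Module.Finite (T.residueField (p t')) (T'.residueField t') ∧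
       Module.finrank (T.residueField (p t')) (T'.residueField t') ≤ N) := by
    have hex : ∀ x : T, ∃ U : T.Opens, IsAffineOpen U ∧ x ∈ U := by
      intro x
      obtain ⟨_, ⟨U, hU, rfl⟩, hxU, -⟩ :=
        T.isBasis_affineOpens.exists_subset_of_mem_open (Set.mem_univ x) isOpen_univ
      exact ⟨U, hU, hxU⟩
    choose V hV hxV using hex
    obtain ⟨t, ht⟩ := isCompact_univ.elim_finite_subcover (fun x => (V x : Set T))
      (fun x => (V x).isOpen) (fun x _ => Set.mem_iUnion.mpr ⟨x, hxV x⟩)
    have hgen : ∀ x : T, ∃ s : Finset Γ(T', p ⁻¹ᵁ V x),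
        (letI := (p.app (V x)).hom.toAlgebra
         Submodule.span Γ(T, V x) (s : Set Γ(T', p ⁻¹ᵁ V x)) = ⊤) := by
      intro x
      have hfin : (p.app (V x)).hom.Finite := IsFinite.finite_app p (V x) (hV x)
      letI := (p.app (V x)).hom.toAlgebra
      haveI : Module.Finite Γ(T, V x) Γ(T', p ⁻¹ᵁ V x) := hfin
      exact Module.Finite.fg_top
    choose s hs using hgen
    refine ⟨t.sup (fun x => (s x).card), fun t' => ?_⟩
    obtain ⟨x, hx, hx'⟩ : ∃ x ∈ t, p t' ∈ V x := by
      have := ht (Set.mem_univ (p t'))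
      simpa using this
    have hint : (p.app (V x)).hom.IsIntegral :=
      RingHom.IsIntegral.of_finite (IsFinite.finite_app p (V x) (hV x))
    have := finrank_le_of_span p ((hV x).preimage p) hint (s x) (hs x) t' hx'
    exact ⟨this.1, this.2.trans (Finset.le_sup (f := fun x => (s x).card) hx)⟩
  obtain ⟨N, hN⟩ := hbound
  refine ⟨N.factorial, Nat.factorial_pos N, fun t' => ?_⟩
  letI := (p.residueFieldMap t').hom.toAlgebra
  haveI : Module.Finite (T.residueField (p t')) (T'.residueField t') := (hN t').1
  haveI : IsPurelyInseparable (T.residueField (p t')) (T'.residueField t') := by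
    have := hpi.2 t'
    rwa [RingHom.IsPurelyInseparable] at this
  obtain ⟨e, he⟩ := IsPurelyInseparable.finrank_eq_pow (F := T.residueField (p t'))
    (T'.residueField t') (ringExpChar (T.residueField (p t')))
  refine ⟨e, he, ?_⟩
  rw [← he]
  apply Nat.dvd_factorial
  · rw [he]
    exact pow_pos (Nat.pos_of_ne_zero (by
      have : ringExpChar (T.residueField (p t')) = max _ 1 := rfl
      omega)) e
  · exact (hN t').2


end Groth.Agent.S13831
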