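import Groth.Statements.S13833
import Mathlib
import Groth.Agent.H4.UHFactor

set_option autoImplicit false
universe u
open AlgebraicGeometry CategoryTheory
open HTop

namespace Groth.Agent.S13833

open CategoryTheory CategoryTheory.Limits AlgebraicGeometry TensorProduct
open Groth.Agent.H4.UHFactor


/-- if `h ≫ π` induces isomorphisms on residue fields and `h` is surjective then `π` induces
isomorphisms on residue fields -/
lemma rfi_of_comp_surjective {X Y Z : Scheme.{u}} (h : X ⟶ Y) (π : Y ⟶ Z) [Surjective h]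
    (H : HTop.ResidueFieldsIso (h ≫ π)) : HTop.ResidueFieldsIso π := by
  intro y
  obtain ⟨x, rfl⟩ := h.surjective y
  haveI h1 := H x
  rw [Scheme.residueFieldMap_comp] at h1
  have h4 := (ConcreteCategory.isIso_iff_bijective _).mp h1
  haveI : IsIso (h.residueFieldMap x) := by
    rw [ConcreteCategory.isIso_iff_bijective]
    refine ⟨(h.residueFieldMap x).hom.injective, fun k => ?_⟩
    obtain ⟨w, hw⟩ := h4.2 k
    exact ⟨_, hw⟩
  exact @IsIso.of_isIso_comp_right _ _ _ _ _ (π.residueFieldMap (h x)) (h.residueFieldMap x) _ h1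

/-- Let S be a Noetherian scheme, X → S locally of finite type, T a Noetherian S-scheme and ν : T' → T a
seminormalization (all schemes separated). Then S-morphisms T' → X are the colimit of S-morphisms T₁
→ X over the finite universal homeomorphisms T₁ → T inducing isomorphisms on residue fields: every
S-morphism g : T' → X factors as T' → T₁ → X for such a T₁ → T, and two such factorizations through
T₁ and T₂ become equal on some such T₃ → T dominating both. -/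
theorem result {S X T T' : Scheme.{u}} [IsNoetherian S] [IsNoetherian T] [S.IsSeparated] [X.IsSeparated]
    [T.IsSeparated] [T'.IsSeparated] (fX : X ⟶ S) [LocallyOfFiniteType fX] (fT : T ⟶ S)
    (ν : T' ⟶ T) (hν : HTop.IsSeminormalization ν) :
    (∀ g : T' ⟶ X, g ≫ fX = ν ≫ fT →
      ∃ (T₁ : Scheme.{u}) (π : T₁ ⟶ T) (_ : IsFinite π) (_ : FlatMor.IsUnivHomeo π)
        (_ : HTop.ResidueFieldsIso π) (g₁ : T₁ ⟶ X) (h : T' ⟶ T₁),
        h ≫ π = ν ∧ g₁ ≫ fX = π ≫ fT ∧ h ≫ g₁ = g) ∧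
    (∀ (T₁ T₂ : Scheme.{u}) (π₁ : T₁ ⟶ T) (π₂ : T₂ ⟶ T) [IsFinite π₁] [IsFinite π₂],
      FlatMor.IsUnivHomeo π₁ → FlatMor.IsUnivHomeo π₂ →
      HTop.ResidueFieldsIso π₁ → HTop.ResidueFieldsIso π₂ →
      ∀ (g₁ : T₁ ⟶ X) (g₂ : T₂ ⟶ X) (h₁ : T' ⟶ T₁) (h₂ : T' ⟶ T₂),
        g₁ ≫ fX = π₁ ≫ fT → g₂ ≫ fX = π₂ ≫ fT → h₁ ≫ π₁ = ν → h₂ ≫ π₂ = ν → h₁ ≫ g₁ = h₂ ≫ g₂ →
        ∃ (T₃ : Scheme.{u}) (π₃ : T₃ ⟶ T) (_ : IsFinite π₃) (_ : FlatMor.IsUnivHomeo π₃)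
          (_ : HTop.ResidueFieldsIso π₃) (a₁ : T₃ ⟶ T₁) (a₂ : T₃ ⟶ T₂),
          a₁ ≫ π₁ = π₃ ∧ a₂ ≫ π₂ = π₃ ∧ a₁ ≫ g₁ = a₂ ≫ g₂) := by
  constructor
  · intro g hg
    obtain ⟨T₁, π, hfin, hπ, g₁, h, hh, e1, e2, e3⟩ := exists_factor fX fT ν hν.1.1 g hg
    haveI := uh_surj h hh
    have hrfi : HTop.ResidueFieldsIso π := rfi_of_comp_surjective h π (by rw [e1]; exact hν.1.2)
    exact ⟨T₁, π, hfin, hπ, hrfi, g₁, h, e1, e2, e3⟩
  · intro T₁ T₂ π₁ π₂ _ _ hπ₁ hπ₂ _ _ g₁ g₂ h₁ h₂ _ _ e₁ e₂ e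
    obtain ⟨T₃, π₃, hfin, hπ₃, a₁, a₂, m, r1, r2, r3, r4, -⟩ :=
      exists_dominating ν hν.1.1 T₁ T₂ π₁ π₂ hπ₁ hπ₂ g₁ g₂ h₁ h₂ e₁ e₂ e
    have hmπ : m ≫ π₃ = ν := by rw [← r1, ← Category.assoc, r4, e₁]
    have hm : FlatMor.IsUnivHomeo m :=
      (Groth.Agent.H1.isUnivHomeo_two_out_of_three m π₃).2 (by rw [hmπ]; exact hν.1.1) hπ₃
    haveI := uh_surj m hm
    have hrfi : HTop.ResidueFieldsIso π₃ :=
      rfi_of_comp_surjective m π₃ (by rw [hmπ]; exact hν.1.2)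
    exact ⟨T₃, π₃, hfin, hπ₃, hrfi, a₁, a₂, r1, r2, r3⟩


end Groth.Agent.S13833
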