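import Groth.Statements.S13835
import Mathlib
import Groth.Prelude.Def_Flat
import Groth.Agent.Lib.Helper1.UnivHomeo

set_option autoImplicit false
universe u
open AlgebraicGeometry CategoryTheory
open ChowMon

namespace Groth.Agent.S13835

open CategoryTheory CategoryTheory.Limits AlgebraicGeometry


lemma key_aux {T' T Y : Scheme.{u}} (p : T' ⟶ T) [Surjective p] [IsReduced T] [Y.IsSeparated]
    (f' : T' ⟶ Y) (U₁ U₂ : T.Opens) (f₁ : (U₁ : Scheme.{u}) ⟶ Y) (f₂ : (U₂ : Scheme.{u}) ⟶ Y)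
    (h₁ : (p ⁻¹ᵁ U₁).ι ≫ f' = (p ∣_ U₁) ≫ f₁) (h₂ : (p ⁻¹ᵁ U₂).ι ≫ f' = (p ∣_ U₂) ≫ f₂) :
    pullback.fst U₁.ι U₂.ι ≫ f₁ = pullback.snd U₁.ι U₂.ι ≫ f₂ := by
  let V := pullback U₁.ι U₂.ι
  let v : V ⟶ T := pullback.fst U₁.ι U₂.ι ≫ U₁.ι
  haveI : IsReduced V := isReduced_of_isOpenImmersion v
  let W := pullback p v
  haveI : Surjective (pullback.snd p v) := MorphismProperty.pullback_snd _ _ inferInstance
  have hv : v = pullback.snd U₁.ι U₂.ι ≫ U₂.ι := pullback.condition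
  have hi : pullback.snd p v ≫ pullback.fst U₁.ι U₂.ι ≫ f₁ = pullback.fst p v ≫ f' := by
    let k : W ⟶ (p ⁻¹ᵁ U₁ : Scheme) :=
      (isPullback_morphismRestrict p U₁).lift
        (pullback.snd p v ≫ pullback.fst U₁.ι U₂.ι) (pullback.fst p v) (by
          rw [pullback.condition, Category.assoc])
    have h1 : k ≫ (p ⁻¹ᵁ U₁).ι = pullback.fst p v := IsPullback.lift_snd _ _ _ _
    have h2 : k ≫ (p ∣_ U₁) = pullback.snd p v ≫ pullback.fst U₁.ι U₂.ι :=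
      IsPullback.lift_fst _ _ _ _
    calc pullback.snd p v ≫ pullback.fst U₁.ι U₂.ι ≫ f₁
        = (pullback.snd p v ≫ pullback.fst U₁.ι U₂.ι) ≫ f₁ := (Category.assoc _ _ _).symm
      _ = (k ≫ (p ∣_ U₁)) ≫ f₁ := by rw [h2]
      _ = k ≫ ((p ∣_ U₁) ≫ f₁) := Category.assoc _ _ _
      _ = k ≫ ((p ⁻¹ᵁ U₁).ι ≫ f') := by rw [h₁]
      _ = (k ≫ (p ⁻¹ᵁ U₁).ι) ≫ f' := (Category.assoc _ _ _).symm
      _ = pullback.fst p v ≫ f' := by rw [h1]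
  have hj : pullback.snd p v ≫ pullback.snd U₁.ι U₂.ι ≫ f₂ = pullback.fst p v ≫ f' := by
    let k : W ⟶ (p ⁻¹ᵁ U₂ : Scheme) :=
      (isPullback_morphismRestrict p U₂).lift
        (pullback.snd p v ≫ pullback.snd U₁.ι U₂.ι) (pullback.fst p v) (by
          rw [pullback.condition, Category.assoc]
          exact congrArg (pullback.snd p v ≫ ·) hv.symm)
    have h1 : k ≫ (p ⁻¹ᵁ U₂).ι = pullback.fst p v := IsPullback.lift_snd _ _ _ _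
    have h2 : k ≫ (p ∣_ U₂) = pullback.snd p v ≫ pullback.snd U₁.ι U₂.ι :=
      IsPullback.lift_fst _ _ _ _
    calc pullback.snd p v ≫ pullback.snd U₁.ι U₂.ι ≫ f₂
        = (pullback.snd p v ≫ pullback.snd U₁.ι U₂.ι) ≫ f₂ := (Category.assoc _ _ _).symm
      _ = (k ≫ (p ∣_ U₂)) ≫ f₂ := by rw [h2]
      _ = k ≫ ((p ∣_ U₂) ≫ f₂) := Category.assoc _ _ _
      _ = k ≫ ((p ⁻¹ᵁ U₂).ι ≫ f') := by rw [h₂]
      _ = (k ≫ (p ⁻¹ᵁ U₂).ι) ≫ f' := (Category.assoc _ _ _).symm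
      _ = pullback.fst p v ≫ f' := by rw [h1]
  exact ext_of_isDominant (pullback.snd p v) (hi.trans hj.symm)

/-- Let p : T' → T be a universal homeomorphism of separated schemes with T reduced and f' : T' → Y a
morphism (Y separated); if T has an open cover by affine opens U_i such that each restriction of f'
to p⁻¹(U_i) factors through p⁻¹(U_i) → U_i, then f' factors through p. -/
theorem result {T' T Y : Scheme.{u}} (p : T' ⟶ T) (hp : FlatMor.IsUnivHomeo p) [IsReduced T]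
    [T.IsSeparated] [T'.IsSeparated] [Y.IsSeparated] (f' : T' ⟶ Y)
    {ι : Type u} (U : ι → T.affineOpens) (hU : ⨆ i, (U i : T.Opens) = ⊤)
    (hloc : ∀ i, ∃ fi : ((U i : T.Opens) : Scheme.{u}) ⟶ Y, (p ⁻¹ᵁ (U i : T.Opens)).ι ≫ f' = (p ∣_ (U i : T.Opens)) ≫ fi) :
    ∃ f : T ⟶ Y, p ≫ f = f' := by
  haveI : Surjective p := ((Groth.Agent.H1.isUnivHomeo_iff_integral p).mp hp).2.2
  choose fi hfi using hloc
  let 𝒰 : T.OpenCover := T.openCoverOfIsOpenCover (fun i => (U i : T.Opens)) hU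
  have key : ∀ i j : 𝒰.I₀, pullback.fst (𝒰.f i) (𝒰.f j) ≫ fi i = pullback.snd (𝒰.f i) (𝒰.f j) ≫ fi j :=
    fun i j => key_aux p f' (U i : T.Opens) (U j : T.Opens) (fi i) (fi j) (hfi i) (hfi j)
  refine ⟨𝒰.glueMorphisms fi key, ?_⟩
  have hU' : ⨆ i, p ⁻¹ᵁ (U i : T.Opens) = ⊤ := by
    rw [← Scheme.Hom.preimage_iSup, hU]; rfl
  apply Scheme.Cover.hom_ext (T'.openCoverOfIsOpenCover (fun i => p ⁻¹ᵁ (U i : T.Opens)) hU')
  intro (i : ι)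
  show (p ⁻¹ᵁ (U i : T.Opens)).ι ≫ p ≫ _ = (p ⁻¹ᵁ (U i : T.Opens)).ι ≫ f'
  have h3 : (U i : T.Opens).ι ≫ 𝒰.glueMorphisms fi key = fi i := 𝒰.ι_glueMorphisms fi key i
  calc (p ⁻¹ᵁ (U i : T.Opens)).ι ≫ p ≫ 𝒰.glueMorphisms fi key
      = ((p ⁻¹ᵁ (U i : T.Opens)).ι ≫ p) ≫ 𝒰.glueMorphisms fi key := (Category.assoc _ _ _).symm
    _ = ((p ∣_ (U i : T.Opens)) ≫ (U i : T.Opens).ι) ≫ 𝒰.glueMorphisms fi key := by
        rw [morphismRestrict_ι]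
    _ = (p ∣_ (U i : T.Opens)) ≫ ((U i : T.Opens).ι ≫ 𝒰.glueMorphisms fi key) := Category.assoc _ _ _
    _ = (p ∣_ (U i : T.Opens)) ≫ fi i := by rw [h3]
    _ = (p ⁻¹ᵁ (U i : T.Opens)).ι ≫ f' := (hfi i).symm


end Groth.Agent.S13835
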