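import Groth.Statements.S13838
import Mathlib
import Groth.Prelude.Def_Flat
import Groth.Prelude.Def_HTop2
import Groth.Agent.H4.UHTower

set_option autoImplicit false
universe u
open AlgebraicGeometry
open HTop

namespace Groth.Agent.S13838

open CategoryTheory CategoryTheory.Limits AlgebraicGeometry TensorProduct


open Groth.Agent.S7405 Groth.Agent.H4.UHCrit Groth.Agent.H4.UHTower

section ResIso

lemma residueFieldsIso_of_surjective {X Y : Scheme.{u}} (π : Y ⟶ X)
    (h : ∀ y : Y, Function.Surjective (π.residueFieldMap y)) : HTop.ResidueFieldsIso π := by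
  intro y
  rw [ConcreteCategory.isIso_iff_bijective]
  exact ⟨(π.residueFieldMap y).hom.injective, h y⟩

end ResIso

/-- Let A ⊆ B be an integral ring extension where A and B have finitely many minimal prime ideals, such
that every prime p of A has a prime q of B above it for which k(p) is closed under extracting
p-power roots inside k(q) (the purely inseparable closure of k(p) in k(q) is k(p)); then the semi-
and weak normalizations of A in B coincide: every A-subalgebra C of B with Spec C → Spec A a
universal homeomorphism already induces isomorphisms on residue fields. -/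
theorem result (A B : Type u) [CommRing A] [CommRing B] [Algebra A B] (hinj : Function.Injective (algebraMap A B))
    [Algebra.IsIntegral A B] (hA : (minimalPrimes A).Finite) (hB : (minimalPrimes B).Finite)
    (hpi : ∀ p : PrimeSpectrum A, ∃ q : PrimeSpectrum B, ∃ hq : p.asIdeal = Ideal.comap (algebraMap A B) q.asIdeal,
      ∀ x : q.asIdeal.ResidueField,
        (∃ n : ℕ, x ^ ringExpChar p.asIdeal.ResidueField ^ n ∈
            Set.range (Ideal.ResidueField.map p.asIdeal q.asIdeal (algebraMap A B) hq)) →
        x ∈ Set.range (Ideal.ResidueField.map p.asIdeal q.asIdeal (algebraMap A B) hq)) :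
    ∀ C : Subalgebra A B, FlatMor.IsUnivHomeo (Spec.map (CommRingCat.ofHom (algebraMap A C))) →
      HTop.ResidueFieldsIso (Spec.map (CommRingCat.ofHom (algebraMap A C))) := by
  intro C hC
  apply residueFieldsIso_of_surjective
  rw [res_alg_iff]
  have hU : UHC A C := (uhc_iff A C).mp hC
  intro r hr c
  -- the prime of `A` below `r`
  let p : PrimeSpectrum A := ⟨r.comap (algebraMap A C), Ideal.comap_isPrime _ _⟩
  obtain ⟨q, hq, hcl⟩ := hpi p
  haveI := q.isPrime
  -- `q ∩ C = r`
  have hqr : q.asIdeal.comap C.val.toRingHom = r := by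
    have : (⟨q.asIdeal.comap C.val.toRingHom, Ideal.comap_isPrime _ _⟩ : PrimeSpectrum C) =
        ⟨r, hr⟩ := by
      apply hU.2.1.1
      apply PrimeSpectrum.ext
      show (q.asIdeal.comap C.val.toRingHom).comap (algebraMap A C) = r.comap (algebraMap A C)
      rw [Ideal.comap_comap]
      exact hq.symm
    exact congrArg PrimeSpectrum.asIdeal this
  have hmem : ∀ z : C, z ∈ r ↔ (z : B) ∈ q.asIdeal := by
    intro z
    rw [← hqr]; rfl
  obtain ⟨ℓ, n, hℓ, a, s, hs, hsa⟩ := hU.2.2 r c
  -- the element of `κ(q)`
  set x : q.asIdeal.ResidueField := algebraMap B q.asIdeal.ResidueField (c : B) with hx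
  have hsp : s ∉ p.asIdeal := hs
  have hs0 : algebraMap A p.asIdeal.ResidueField s ≠ 0 := by
    rwa [Ne, Ideal.algebraMap_residueField_eq_zero]
  have hpow : x ^ ℓ ^ n ∈
      Set.range (Ideal.ResidueField.map p.asIdeal q.asIdeal (algebraMap A B) hq) := by
    refine ⟨algebraMap A p.asIdeal.ResidueField a / algebraMap A p.asIdeal.ResidueField s, ?_⟩
    rw [map_div₀, Ideal.ResidueField.map_algebraMap, Ideal.ResidueField.map_algebraMap]
    have hs1 : algebraMap B q.asIdeal.ResidueField (algebraMap A B s) ≠ 0 := by
      rw [Ne, Ideal.algebraMap_residueField_eq_zero]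
      intro h
      exact hs ((hmem _).mpr h)
    rw [div_eq_iff hs1, hx, ← map_pow, ← map_mul, mul_comm, ← sub_eq_zero, ← map_sub,
      Ideal.algebraMap_residueField_eq_zero]
    have := (hmem _).mp hsa
    rw [← neg_sub, neg_mem_iff]
    simpa using this
  have hxr : x ∈ Set.range (Ideal.ResidueField.map p.asIdeal q.asIdeal (algebraMap A B) hq) := by
    apply hcl
    rcases hℓ with rfl | ⟨hℓp, hℓr⟩
    · exact ⟨0, by simpa using hpow⟩
    · refine ⟨n, ?_⟩
      have h0 : ((ℓ : ℕ) : p.asIdeal.ResidueField) = 0 := by
        rw [← map_natCast (algebraMap A p.asIdeal.ResidueField),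
          Ideal.algebraMap_residueField_eq_zero]
        show algebraMap A C (ℓ : A) ∈ r
        rw [map_natCast]; exact hℓr
      have h1 : ringExpChar p.asIdeal.ResidueField = ℓ := by
        rw [ringExpChar, CharP.ringChar_of_prime_eq_zero hℓp h0]
        exact max_eq_left hℓp.one_le
      rw [h1]; exact hpow
  obtain ⟨y, hy⟩ := hxr
  obtain ⟨a', s', hs', rfl⟩ : ∃ a' s' : A, s' ∉ p.asIdeal ∧
      y = algebraMap A p.asIdeal.ResidueField a' / algebraMap A p.asIdeal.ResidueField s' := by
    obtain ⟨u, v, hv, rfl⟩ := IsFractionRing.div_surjective (A := A ⧸ p.asIdeal) y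
    obtain ⟨a', rfl⟩ := Ideal.Quotient.mk_surjective u
    obtain ⟨s', rfl⟩ := Ideal.Quotient.mk_surjective v
    refine ⟨a', s', ?_, rfl⟩
    intro h
    have : Ideal.Quotient.mk p.asIdeal s' = 0 := Ideal.Quotient.eq_zero_iff_mem.mpr h
    rw [this] at hv
    exact (mem_nonZeroDivisors_iff_ne_zero.mp hv) rfl
  refine ⟨a', s', ?_, ?_⟩
  · exact hs'
  · rw [hmem]
    rw [map_div₀, Ideal.ResidueField.map_algebraMap, Ideal.ResidueField.map_algebraMap] at hy
    have hs1 : algebraMap B q.asIdeal.ResidueField (algebraMap A B s') ≠ 0 := by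
      rw [Ne, Ideal.algebraMap_residueField_eq_zero]
      intro h
      exact hs' (by rw [hq]; exact h)
    rw [div_eq_iff hs1, hx, ← map_mul, eq_comm, mul_comm, ← sub_eq_zero, ← map_sub,
      Ideal.algebraMap_residueField_eq_zero] at hy
    simpa using hy


end Groth.Agent.S13838
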