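import Groth.Statements.S13848
import Groth.Agent.Lib.Helper7.TraceIdeal
-- import your own Groth.Agent.* helpers here

set_option autoImplicit false
universe u v
open TwSh

namespace Groth.Agent.S13848

/-- Let A be a ring with A/J a simple left-Artinian ring, J the Jacobson radical, and let P be a
non-zero finitely generated projective left A-module. An A-linear automorphism u of P which commutes
with every A-linear endomorphism of P (equivalently, induces the identity on End_A(P) by
conjugation) is scalar multiplication by a unique central element a of A: u(x) = a·x for all x ∈ P,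
and a is determined by u. (So the automorphisms of P acting trivially on End_A(P) are exactly the
central units of A acting by scalars; the published assertion does not exclude P = 0, where
uniqueness fails.) -/
theorem result (A : Type u) [Ring A] [IsSimpleRing (A ⧸ Ring.jacobson A)] [IsArtinianRing (A ⧸ Ring.jacobson A)] (P : Type v) [AddCommGroup P] [Module A P] [Module.Finite A P] [Module.Projective A P] [Nontrivial P] (u : P ≃ₗ[A] P) (hu : ∀ f : Module.End A P, (u : P →ₗ[A] P) ∘ₗ f = f ∘ₗ (u : P →ₗ[A] P)) : ∃! a : A, (∀ b : A, a * b = b * a) ∧ ∀ x : P, u x = a • x := by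
  classical
  -- key: for every t in the trace ideal there is a_t with t • u x = a_t • x
  have key : ∀ t ∈ Groth.Agent.H7.TraceIdeal.tr A P, ∃ a : A, ∀ x : P, t • u x = a • x := by
    intro t ht
    induction ht using Submodule.span_induction with
    | mem t ht =>
      obtain ⟨⟨f, y⟩, rfl⟩ := ht
      refine ⟨f (u y), fun x => ?_⟩
      have := congrArg (fun g : Module.End A P => g y)
        (hu ((LinearMap.toSpanSingleton A P x) ∘ₗ f))
      simpa using this
    | zero => exact ⟨0, fun x => by simp⟩
    | add s t _ _ hs ht =>
      obtain ⟨a, ha⟩ := hs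
      obtain ⟨b, hb⟩ := ht
      exact ⟨a + b, fun x => by rw [add_smul, add_smul, ha, hb]⟩
    | smul b t _ ht =>
      obtain ⟨a, ha⟩ := ht
      exact ⟨b * a, fun x => by rw [smul_eq_mul, mul_smul, ha, mul_smul]⟩
  obtain ⟨a, ha⟩ := key 1 (Groth.Agent.H7.TraceIdeal.one_mem_tr A P)
  simp only [one_smul] at ha
  -- faithfulness
  have hfaith : ∀ b : A, (∀ x : P, b • x = 0) → b = 0 := by
    intro b hb
    have h1 : ∀ t ∈ Groth.Agent.H7.TraceIdeal.tr A P, ∀ b : A, (∀ x : P, b • x = 0) → b * t = 0 := by
      intro t ht
      induction ht using Submodule.span_induction with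
      | mem t ht =>
        obtain ⟨⟨f, y⟩, rfl⟩ := ht
        intro b hb
        change b * f y = 0
        rw [← smul_eq_mul, ← map_smul, hb, map_zero]
      | zero => intro b _; simp
      | add s t _ _ hs ht => intro b hb; rw [mul_add, hs b hb, ht b hb, add_zero]
      | smul c t _ ht =>
        intro b hb
        rw [smul_eq_mul, ← mul_assoc]
        apply ht
        intro x
        rw [mul_smul, hb]
    have := h1 1 (Groth.Agent.H7.TraceIdeal.one_mem_tr A P) b hb
    rwa [mul_one] at this
  refine ⟨a, ⟨?_, ha⟩, ?_⟩
  · intro b
    rw [← sub_eq_zero]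
    apply hfaith
    intro x
    rw [sub_smul, mul_smul, mul_smul, ← ha, ← ha, map_smul, sub_self]
  · rintro a' ⟨_, ha'⟩
    rw [← sub_eq_zero]
    apply hfaith
    intro x
    rw [sub_smul, ← ha, ← ha', sub_self]

end Groth.Agent.S13848
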