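import Groth.Statements.S1389
-- import your own Groth.Agent.* helpers here

set_option autoImplicit false
universe u
open FlatMor

namespace Groth.Agent.S1389

open AlgebraicGeometry CategoryTheory Limits in
/-- Let (U, u) and (U', u') be étale neighbourhoods of a point s of S and h₁, h₂ two S-morphisms U → U'
sending u to u' which induce the same map of residue fields κ(u') → κ(u). Then there is an étale
neighbourhood (U'', u'') of s with an S-morphism h : U'' → U sending u'' to u and with h followed by
h₁ equal to h followed by h₂. -/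
theorem result {S U U' : Scheme.{u}} (s : S) (g : U ⟶ S) (g' : U' ⟶ S) [Etale g] [Etale g'] (u : U) (u' : U')
    (hu : g u = s) (hu' : g' u' = s) (h₁ h₂ : U ⟶ U') (w₁ : h₁ ≫ g' = g) (w₂ : h₂ ≫ g' = g) (e₁ : h₁ u = u') (e₂ : h₂ u = u')
    (hres : (U'.residueFieldCongr e₁).inv ≫ h₁.residueFieldMap u = (U'.residueFieldCongr e₂).inv ≫ h₂.residueFieldMap u) :
    ∃ (U'' : Scheme.{u}) (g'' : U'' ⟶ S) (u'' : U'') (h : U'' ⟶ U), Etale g'' ∧ g'' u'' = s ∧ h ≫ g = g'' ∧ h u'' = u ∧ h ≫ h₁ = h ≫ h₂ := by
  have key : U.fromSpecResidueField u ≫ h₁ = U.fromSpecResidueField u ≫ h₂ := by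
    rw [← Scheme.Hom.SpecMap_residueFieldMap_fromSpecResidueField,
      ← Scheme.Hom.SpecMap_residueFieldMap_fromSpecResidueField,
      ← Scheme.residueFieldCongr_fromSpecResidueField e₁.symm,
      ← Scheme.residueFieldCongr_fromSpecResidueField (x := u') (y := h₂ u) e₂.symm,
      ← Spec.map_comp_assoc, ← Spec.map_comp_assoc]
    simp only [Scheme.residueFieldCongr_inv] at hres
    rw [hres]
  have : IsOpenImmersion (pullback.diagonal g') := inferInstance
  let l : U ⟶ pullback g' g' := pullback.lift h₁ h₂ (w₁.trans w₂.symm)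
  let P := pullback l (pullback.diagonal g')
  let h : P ⟶ U := pullback.fst _ _
  have hh : h ≫ h₁ = h ≫ h₂ := by
    have e := pullback.condition (f := l) (g := pullback.diagonal g')
    have e1 := congr($e ≫ pullback.fst _ _)
    have e2 := congr($e ≫ pullback.snd _ _)
    simp only [Category.assoc, l, pullback.lift_fst, pullback.lift_snd, pullback.diagonal_fst,
      pullback.diagonal_snd] at e1 e2
    exact e1.trans e2.symm
  let x : Spec (U.residueField u) ⟶ P := pullback.lift (U.fromSpecResidueField u)
    (U.fromSpecResidueField u ≫ h₁) (by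
      apply pullback.hom_ext
      · simp only [Category.assoc, l, pullback.lift_fst, pullback.diagonal_fst, Category.comp_id]
      · simp only [Category.assoc, l, pullback.lift_snd, pullback.diagonal_snd, Category.comp_id, key])
  have hx : x ≫ h = U.fromSpecResidueField u := pullback.lift_fst _ _ _
  let pt : Spec (U.residueField u) := Classical.arbitrary _
  refine ⟨P, h ≫ g, x pt, h, inferInstance, ?_, rfl, ?_, hh⟩
  · rw [← Scheme.Hom.comp_apply, ← Category.assoc, hx, Scheme.Hom.comp_apply,
      Scheme.fromSpecResidueField_apply, hu]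
  · rw [← Scheme.Hom.comp_apply, hx, Scheme.fromSpecResidueField_apply]

end Groth.Agent.S1389
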