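import Groth.Statements.S13895
import Mathlib
import Groth.Agent.H4.RB3
import Groth.Agent.H4.KI7
import Groth.Agent.H4.KProj7

set_option autoImplicit false
universe u
open CategoryTheory CategoryTheory.Limits MonoidalCategory
attribute [local instance] HasDerivedCategory.standard
open DTen

namespace Groth.Agent.S13895

/-- For a map of commutative rings `φ : R → A` with `A` perfect as an `R`-module (its image `A[0]` in
`D(R)` is isomorphic to a bounded complex of finite projective modules), the right adjoint `RHom(A,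
-) : D(R) ⥤ D(A)` of restriction is isomorphic, as a functor, to `K ↦ K ⊗^L_R M` where `M = RHom(A,
R) ∈ D(A)` and `⊗^L_R` is the mixed derived tensor product `D(R) × D(A) ⥤ D(A)`. Existence of an
isomorphism of functors only: the published statement names no map. (Existence of the right adjoint
and of the mixed derived tensor product is assumed as hypotheses.) -/
theorem result (R A : Type u) [CommRing R] [CommRing A]
    (φ : R →+* A) [DTen.HasRHomRel φ] [DTen.HasLTenMix φ]
    (hA : DRing.IsPerfect R ((DRing.restrictD φ).obj (DTen.unit A))) :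
    Nonempty (DTen.RHomRel φ ≅
      (Functor.curry.obj (DTen.LTenMix φ)).flip.obj ((DTen.RHomRel φ).obj (DTen.unit R))) := by
  haveI : DTen.HasLTen R := Groth.Agent.H4.LK4.hasLTen
  haveI : DTen.HasLTen A := Groth.Agent.H4.LK4.hasLTen
  haveI : DTen.HasLTen₃ R := Groth.Agent.H4.LK5.hasLTen₃
  haveI : DTen.HasLTen₃ A := Groth.Agent.H4.LK5.hasLTen₃
  haveI : DTen.HasRHom R := Groth.Agent.H4.KI6.hasRHom
  haveI : DTen.HasRHom A := Groth.Agent.H4.KI6.hasRHom
  haveI : DTen.IsSymMonoidal R := Groth.Agent.H4.KI7.isSymMonoidal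
  haveI : DTen.IsSymMonoidal A := Groth.Agent.H4.KI7.isSymMonoidal
  haveI : DRing.HasLBaseChange φ := Groth.Agent.H4.KProj.hasLBaseChange φ
  haveI : DTen.HasLBase φ := ⟨(Groth.Agent.H4.KProj.adjLBaseChange φ).isRightAdjoint⟩
  haveI : DTen.HasResTen φ := Groth.Agent.H4.RB2.hasResTen φ
  haveI : DTen.ResLegIso φ := Groth.Agent.H4.RB2.resLegIso φ
  exact Groth.Agent.H4.RB3.nonempty_RHomRel_iso φ hA

end Groth.Agent.S13895
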