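import Groth.Statements.S13905
import Mathlib

set_option autoImplicit false
universe u
open ProjGeom

namespace Groth.Agent.S13905

open W4c1etcurveeff3b in
/-- Hyperplanes of projective n-space in general position, in linear-algebra form (V of dimension n + 1
over a field k, hyperplanes as n-dimensional subspaces, points as nonzero vectors): if S is a finite
set of hyperplanes in general position with at least n members and H is a hyperplane containing none
of the lines cut out by n members of S, then S with H added is again in general position. (The
published statement is for hyperplanes of P^n_k and closed points; a closed point lying on n + 1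
members is automatically one of the rational points cut out by n of them, so the condition on
nonzero vectors of V is the same condition.) -/
theorem result (k V : Type u) [Field k]
    [AddCommGroup V] [Module k V] [DecidableEq (Submodule k V)] (n : ℕ) (S : Finset (Submodule k V))
    (hS : InGeneralPosition k V n S) (hn : n ≤ S.card) (H : Submodule k V)
    (hH : Module.finrank k H = n)
    (havoid : ∀ T ⊆ S, T.card = n → ¬ (T.inf id ≤ H)) :
    InGeneralPosition k V n (insert H S) := by
  obtain ⟨hV, hmem, hdim, hpt⟩ := hS
  haveI : FiniteDimensional k V := Module.finite_of_finrank_pos (by omega)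
  by_cases hHS : H ∈ S
  · rw [Finset.insert_eq_of_mem hHS]
    exact ⟨hV, hmem, hdim, hpt⟩
  have herase : ∀ T : Finset (Submodule k V), T ⊆ insert H S → T.erase H ⊆ S := by
    intro T hT x hx
    rcases Finset.mem_insert.mp (hT (Finset.mem_of_mem_erase hx)) with rfl | h
    · exact absurd rfl (Finset.ne_of_mem_erase hx)
    · exact h
  refine ⟨hV, ?_, ?_, ?_⟩
  · intro H' hH'
    rcases Finset.mem_insert.mp hH' with rfl | h
    · exact hH
    · exact hmem _ h
  · intro T hT hcard
    by_cases hHT : H ∈ T
    · have hT' : T.erase H ⊆ S := herase T hT
      have hcard' : (T.erase H).card = T.card - 1 := Finset.card_erase_of_mem hHT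
      have hTpos : 1 ≤ T.card := Finset.card_pos.mpr ⟨H, hHT⟩
      have hW := hdim (T.erase H) hT' (by omega)
      have hinf : T.inf id = H ⊓ (T.erase H).inf id := by
        conv_lhs => rw [← Finset.insert_erase hHT, Finset.inf_insert]
        rfl
      have hnot : ¬ ((T.erase H).inf id ≤ H) := by
        obtain ⟨T'', hT'T'', hT''S, hcard''⟩ :=
          Finset.exists_subsuperset_card_eq hT' (by omega : (T.erase H).card ≤ n) hn
        intro hle
        exact havoid T'' hT''S hcard'' ((Finset.inf_mono hT'T'').trans hle)
      have hsum := Submodule.finrank_sup_add_finrank_inf_eq H ((T.erase H).inf id)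
      have hsup : Module.finrank k ↥(H ⊔ (T.erase H).inf id) = n + 1 := by
        apply le_antisymm
        · rw [← hV]; exact Submodule.finrank_le _
        · have hlt : H < H ⊔ (T.erase H).inf id := by
            apply lt_of_le_of_ne le_sup_left
            intro heq
            apply hnot
            exact (le_sup_right : (T.erase H).inf id ≤ H ⊔ (T.erase H).inf id).trans
              (le_of_eq heq.symm)
          have := Submodule.finrank_lt_finrank_of_lt hlt
          omega
      rw [hinf]
      omega
    · have hTS : T ⊆ S := (Finset.subset_insert_iff_of_notMem hHT).mp hT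
      exact hdim T hTS hcard
  · intro v hv T hT hvT
    by_cases hHT : H ∈ T
    · have hT' : T.erase H ⊆ S := herase T hT
      have hcard' : (T.erase H).card = T.card - 1 := Finset.card_erase_of_mem hHT
      have hTpos : 1 ≤ T.card := Finset.card_pos.mpr ⟨H, hHT⟩
      have hle := hpt v hv (T.erase H) hT' (fun H' hH' => hvT H' (Finset.mem_of_mem_erase hH'))
      by_contra hcon
      have hcn : (T.erase H).card = n := by omega
      have hW := hdim (T.erase H) hT' hle
      rw [hcn] at hW
      have hW1 : Module.finrank k ↥((T.erase H).inf id) = 1 := by omega
      have hvW : v ∈ (T.erase H).inf id := by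
        rw [Submodule.mem_finsetInf]
        intro H' hH'
        exact hvT H' (Finset.mem_of_mem_erase hH')
      apply havoid (T.erase H) hT' hcn
      intro w hw
      have hv' : (⟨v, hvW⟩ : ↥((T.erase H).inf id)) ≠ 0 := by
        intro h; exact hv (congrArg Subtype.val h)
      obtain ⟨c, hc⟩ := exists_smul_eq_of_finrank_eq_one hW1 hv' ⟨w, hw⟩
      have : w = c • v := (congrArg Subtype.val hc).symm
      rw [this]
      exact H.smul_mem c (hvT H hHT)
    · have hTS : T ⊆ S := (Finset.subset_insert_iff_of_notMem hHT).mp hT
      exact hpt v hv T hTS hvT

end Groth.Agent.S13905
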