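import Groth.Statements.S13913
import Mathlib.Tactic
import Mathlib.RingTheory.MvPolynomial.EulerIdentity
-- import your own Groth.Agent.* helpers here

set_option autoImplicit false
universe u
open PlaneCubic

namespace Groth.Agent.S13913

/-- Over an algebraically closed field of characteristic zero, for linearly independent linear forms z₁,
z₂ and quadratic forms q₁, q₂ in three variables and a nonzero common zero p of z₁ and z₂, the point
p is a singular point of the plane cubic z₁q₂ − z₂q₁ = 0 (all three partial derivatives vanish at p)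
if and only if q₁ and q₂ both vanish at p. -/
theorem result (k : Type u) [Field k] [IsAlgClosed k] [CharZero k]
    (z₁ z₂ q₁ q₂ : MvPolynomial (Fin 3) k) (hz₁ : z₁.IsHomogeneous 1) (hz₂ : z₂.IsHomogeneous 1)
    (hq₁ : q₁.IsHomogeneous 2) (hq₂ : q₂.IsHomogeneous 2) (hind : LinearIndependent k ![z₁, z₂])
    (p : Fin 3 → k) (hp : p ≠ 0) (hp₁ : MvPolynomial.eval p z₁ = 0) (hp₂ : MvPolynomial.eval p z₂ = 0) :
    (∀ i : Fin 3, MvPolynomial.eval p (MvPolynomial.pderiv i (z₁ * q₂ - z₂ * q₁)) = 0) ↔
      (MvPolynomial.eval p q₁ = 0 ∧ MvPolynomial.eval p q₂ = 0) := by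
  classical
  have hconst : ∀ (z : MvPolynomial (Fin 3) k), z.IsHomogeneous 1 → ∀ i,
      MvPolynomial.pderiv i z = MvPolynomial.C (MvPolynomial.eval p (MvPolynomial.pderiv i z)) := by
    intro z hz i
    have h0 : (MvPolynomial.pderiv i z).IsHomogeneous 0 := hz.pderiv
    rw [← MvPolynomial.totalDegree_zero_iff_isHomogeneous,
      MvPolynomial.totalDegree_eq_zero_iff_eq_C] at h0
    obtain ⟨a, ha⟩ : ∃ a, MvPolynomial.pderiv i z = MvPolynomial.C a := ⟨_, h0⟩
    rw [ha, MvPolynomial.eval_C]
  have heuler : ∀ (z : MvPolynomial (Fin 3) k), z.IsHomogeneous 1 →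
      ∑ i, MvPolynomial.X i * MvPolynomial.pderiv i z = z := by
    intro z hz
    simpa using hz.sum_X_mul_pderiv
  have hval : ∀ i, MvPolynomial.eval p (MvPolynomial.pderiv i (z₁ * q₂ - z₂ * q₁)) =
      MvPolynomial.eval p (MvPolynomial.pderiv i z₁) * MvPolynomial.eval p q₂ -
        MvPolynomial.eval p (MvPolynomial.pderiv i z₂) * MvPolynomial.eval p q₁ := by
    intro i
    simp [Derivation.leibniz, hp₁, hp₂]
    ring
  constructor
  · intro h
    have hzero : MvPolynomial.eval p q₂ • z₁ + (-MvPolynomial.eval p q₁) • z₂ = 0 := by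
      conv_lhs => rw [← heuler z₁ hz₁, ← heuler z₂ hz₂]
      rw [Finset.smul_sum, Finset.smul_sum, ← Finset.sum_add_distrib]
      apply Finset.sum_eq_zero
      intro i _
      have hi := h i
      rw [hval i] at hi
      rw [hconst z₁ hz₁ i, hconst z₂ hz₂ i]
      simp only [MvPolynomial.smul_eq_C_mul]
      have : MvPolynomial.C (MvPolynomial.eval p q₂) *
            (MvPolynomial.X i * MvPolynomial.C (MvPolynomial.eval p (MvPolynomial.pderiv i z₁))) +
          MvPolynomial.C (-MvPolynomial.eval p q₁) *
            (MvPolynomial.X i * MvPolynomial.C (MvPolynomial.eval p (MvPolynomial.pderiv i z₂))) =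
          MvPolynomial.X i * MvPolynomial.C
            (MvPolynomial.eval p (MvPolynomial.pderiv i z₁) * MvPolynomial.eval p q₂ -
              MvPolynomial.eval p (MvPolynomial.pderiv i z₂) * MvPolynomial.eval p q₁) := by
        simp only [map_sub, map_mul, map_neg]; ring
      rw [this, hi, map_zero, mul_zero]
    have := (LinearIndependent.pair_iff.mp hind) _ _ hzero
    exact ⟨neg_eq_zero.mp this.2, this.1⟩
  · rintro ⟨h1, h2⟩ i
    rw [hval i, h1, h2]; simp

end Groth.Agent.S13913
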