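import Groth.Statements.S13926
import Mathlib.Tactic
import Mathlib.LinearAlgebra.FiniteDimensional.Lemmas
import Mathlib.LinearAlgebra.FiniteDimensional.Basic
-- import your own Groth.Agent.* helpers here

set_option autoImplicit false
universe u v w
open W4c1limliniiii

namespace Groth.Agent.S13926

/-- Let k be a field, E₁ and E₂ finite-dimensional vector spaces over k of the same dimension, f : E₁ →
E₂ and g : E₂ → E₁ linear maps whose composite g ∘ f is multiplication by a scalar s, and V₁ a
subspace of E₁. Then there is a subspace V₂ of E₂ of the same dimension as V₁ with f(V₁) ≤ V₂ and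
g(V₂) ≤ V₁. (The published statement is the surjectivity of the truncation morphisms of a linked
Grassmannian, with a further assertion on lifting families; this row is the lifting step over a
field — over a point the chain of linked subspaces V_1, …, V_{n'} extends one index at a time — and
assumes only g ∘ f = s.) -/
theorem result (k : Type u) [Field k]
    (E₁ : Type v) (E₂ : Type w) [AddCommGroup E₁] [Module k E₁] [FiniteDimensional k E₁]
    [AddCommGroup E₂] [Module k E₂] [FiniteDimensional k E₂]
    (hdim : Module.finrank k E₁ = Module.finrank k E₂)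
    (f : E₁ →ₗ[k] E₂) (g : E₂ →ₗ[k] E₁) (s : k) (hgf : g.comp f = s • LinearMap.id)
    (V₁ : Submodule k E₁) :
    ∃ V₂ : Submodule k E₂, Module.finrank k V₂ = Module.finrank k V₁ ∧
      Submodule.map f V₁ ≤ V₂ ∧ Submodule.map g V₂ ≤ V₁ := by
  classical
  -- interpolation lemma
  have between : ∀ (n : ℕ) (P Q : Submodule k E₂), P ≤ Q → ∀ d : ℕ, Module.finrank k P ≤ d →
      d ≤ Module.finrank k Q → d - Module.finrank k P = n →
      ∃ V : Submodule k E₂, P ≤ V ∧ V ≤ Q ∧ Module.finrank k V = d := by
    intro n
    induction n with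
    | zero =>
      intro P Q hPQ d h1 h2 h3
      exact ⟨P, le_rfl, hPQ, by omega⟩
    | succ n ih =>
      intro P Q hPQ d h1 h2 h3
      have hlt : Module.finrank k P < Module.finrank k Q := by omega
      have hne : P ≠ Q := by rintro rfl; exact lt_irrefl _ hlt
      have hPQ' : P < Q := lt_of_le_of_ne hPQ hne
      obtain ⟨x, hxQ, hxP⟩ := SetLike.exists_of_lt hPQ'
      have hx0 : x ≠ 0 := by rintro rfl; exact hxP (Submodule.zero_mem _)
      have hdisj : Disjoint P (k ∙ x) := (Submodule.disjoint_span_singleton' hx0).mpr hxP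
      have hfr : Module.finrank k ↥(P ⊔ k ∙ x) = Module.finrank k P + 1 := by
        have := Submodule.finrank_sup_add_finrank_inf_eq P (k ∙ x)
        rw [hdisj.eq_bot, finrank_bot, finrank_span_singleton hx0] at this
        omega
      have hle : P ⊔ k ∙ x ≤ Q := sup_le hPQ ((Submodule.span_singleton_le_iff_mem x Q).mpr hxQ)
      obtain ⟨V, hV1, hV2, hV3⟩ := ih (P ⊔ k ∙ x) Q hle d (by omega) h2 (by omega)
      exact ⟨V, le_sup_left.trans hV1, hV2, hV3⟩
  have hPQ : Submodule.map f V₁ ≤ Submodule.comap g V₁ := by
    rintro _ ⟨v, hv, rfl⟩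
    have : g (f v) = s • v := by simpa using LinearMap.congr_fun hgf v
    simp only [Submodule.mem_comap, this]
    exact Submodule.smul_mem _ _ hv
  have h1 : Module.finrank k (Submodule.map f V₁) ≤ Module.finrank k V₁ := Submodule.finrank_map_le f V₁
  have h2 : Module.finrank k V₁ ≤ Module.finrank k (Submodule.comap g V₁) := by
    have hker : LinearMap.ker (V₁.mkQ ∘ₗ g) = Submodule.comap g V₁ := by
      rw [LinearMap.ker_comp, Submodule.ker_mkQ]
    have hrn := LinearMap.finrank_range_add_finrank_ker (V₁.mkQ ∘ₗ g)
    have hq := Submodule.finrank_quotient_add_finrank V₁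
    have hr : Module.finrank k (LinearMap.range (V₁.mkQ ∘ₗ g)) ≤ Module.finrank k (E₁ ⧸ V₁) :=
      Submodule.finrank_le _
    rw [hker] at hrn
    omega
  obtain ⟨V, hV1, hV2, hV3⟩ := between _ _ _ hPQ (Module.finrank k V₁) h1 h2 rfl
  exact ⟨V, hV3, hV1, Submodule.map_le_iff_le_comap.mpr hV2⟩

end Groth.Agent.S13926
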