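import Groth.Statements.S1393
import Mathlib
import Groth.Agent.Lib.Helper1.CritFib3
import Groth.Agent.Lib.Lead.QC.LocFree2
import Groth.Agent.Lib.Lead.QC.FinPres

set_option autoImplicit false
universe u
open FlatMor

namespace Groth.Agent.S1393

namespace Aux
open AlgebraicGeometry CategoryTheory Limits Groth.Agent.LD.QC

theorem finitePresentation_stalk {X : Scheme.{u}} (F : X.Modules) [F.IsQuasicoherent]
    (hfp : F.IsFinitePresentation) (x : X) :
    Module.FinitePresentation (X.presheaf.stalk x) (F.presheaf.stalk x) := by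
  obtain ⟨U, hU, hxU, -⟩ := exists_isAffineOpen_mem_and_subset (x := x) (U := ⊤) trivial
  haveI := finitePresentation_sections_of_isFinitePresentation F hfp hU
  letI := stalkΓModule F x U hxU
  haveI := isLocalizedModule_germ F hU x hxU
  letI : Algebra Γ(X, U) (X.presheaf.stalk x) :=
    TopCat.Presheaf.algebra_section_stalk X.presheaf ⟨x, hxU⟩
  haveI := hU.isLocalization_stalk ⟨x, hxU⟩
  haveI : IsScalarTower Γ(X, U) (X.presheaf.stalk x) (F.presheaf.stalk x) :=
    IsScalarTower.of_algebraMap_smul fun r m => rfl
  exact FinitePresentation.of_isBaseChange (germLinear F x U hxU)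
    ((isLocalizedModule_iff_isBaseChange (hU.primeIdealOf ⟨x, hxU⟩).asIdeal.primeCompl
      (X.presheaf.stalk x) _).mp inferInstance)

end Aux

open AlgebraicGeometry CategoryTheory Limits in
/-- Let f : X → S be of finite presentation, F a finitely presented quasi-coherent O_X-module and x a
point with image s. If F is flat over S at x and the stalk at x of the restriction of F to the
fibre, namely F_x / m_s F_x, is flat over the local ring of the fibre at x, namely O_{X,x} / m_s
O_{X,x}, then F is free of finite rank on some open neighbourhood of x. -/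
theorem result {X S : Scheme.{u}} (f : X ⟶ S) [LocallyOfFinitePresentation f] [QuasiCompact f] [QuasiSeparated f]
    (F : X.Modules) (hFq : Coh.IsQCoh F) (hFp : CohB1.IsFP F) (x : X) (h1 : FlatMod.IsFlatOverAt f F x)
    (h2 : Module.Flat (↑(X.presheaf.stalk x) ⧸ Ideal.map (f.stalkMap x).hom (IsLocalRing.maximalIdeal ↑(S.presheaf.stalk (f x))))
      (↑(F.presheaf.stalk x) ⧸ (Ideal.map (f.stalkMap x).hom (IsLocalRing.maximalIdeal ↑(S.presheaf.stalk (f x))) • (⊤ : Submodule ↑(X.presheaf.stalk x) ↑(F.presheaf.stalk x))))) :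
    ∃ (U : X.Opens) (n : ℕ), x ∈ U ∧ Nonempty (F.restrict U.ι ≅ FlatMod.freeMod (↑U) n) := by
  haveI : F.IsQuasicoherent := hFq
  refine Groth.Agent.LD.QC.exists_restrict_iso_freeMod_of_flat_stalk F hFp x ?_
  letI algRS : Algebra (S.presheaf.stalk (f x)) (X.presheaf.stalk x) :=
    (f.stalkMap x).hom.toAlgebra
  letI modR : Module (S.presheaf.stalk (f x)) (F.presheaf.stalk x) := FlatMod.moduleStalkOver f F x
  haveI tow : IsScalarTower (S.presheaf.stalk (f x)) (X.presheaf.stalk x) (F.presheaf.stalk x) :=
    IsScalarTower.of_algebraMap_smul fun r m => rfl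
  haveI : Module.Flat (S.presheaf.stalk (f x)) (F.presheaf.stalk x) := h1
  haveI fpst : Module.FinitePresentation (X.presheaf.stalk x) (F.presheaf.stalk x) :=
    Aux.finitePresentation_stalk F hFp x
  haveI loc : IsLocalHom (algebraMap (S.presheaf.stalk (f x)) (X.presheaf.stalk x)) :=
    show IsLocalHom (f.stalkMap x).hom from inferInstance
  have hne : (IsLocalRing.maximalIdeal (S.presheaf.stalk (f x))).map
      (algebraMap (S.presheaf.stalk (f x)) (X.presheaf.stalk x)) ≠ ⊤ := by
    have hle : (IsLocalRing.maximalIdeal (S.presheaf.stalk (f x))).map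
        (algebraMap (S.presheaf.stalk (f x)) (X.presheaf.stalk x)) ≤
          IsLocalRing.maximalIdeal (X.presheaf.stalk x) :=
      ((IsLocalRing.local_hom_TFAE (algebraMap (S.presheaf.stalk (f x))
        (X.presheaf.stalk x))).out 0 2).mp loc
    intro h
    rw [h] at hle
    exact (Ideal.IsPrime.ne_top inferInstance) (top_le_iff.mp hle)
  haveI : Module.Flat (X.presheaf.stalk x ⧸ (IsLocalRing.maximalIdeal (S.presheaf.stalk (f x))).map
      (algebraMap (S.presheaf.stalk (f x)) (X.presheaf.stalk x)))
      (TensorProduct (X.presheaf.stalk x) (X.presheaf.stalk x ⧸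
        (IsLocalRing.maximalIdeal (S.presheaf.stalk (f x))).map
          (algebraMap (S.presheaf.stalk (f x)) (X.presheaf.stalk x))) (F.presheaf.stalk x)) := by
    haveI := h2
    exact Module.Flat.of_linearEquiv
      ((TensorProduct.quotTensorEquivQuotSMul (F.presheaf.stalk x)
        ((IsLocalRing.maximalIdeal (S.presheaf.stalk (f x))).map
          (algebraMap (S.presheaf.stalk (f x)) (X.presheaf.stalk x)))).extendScalarsOfSurjective
          (S := X.presheaf.stalk x ⧸ (IsLocalRing.maximalIdeal (S.presheaf.stalk (f x))).map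
            (algebraMap (S.presheaf.stalk (f x)) (X.presheaf.stalk x)))
          Ideal.Quotient.mk_surjective)
  exact @Groth.Agent.H1.CritFib.flat_of_flat_fibre_self (S.presheaf.stalk (f x))
    (X.presheaf.stalk x) _ _ _ algRS (IsLocalRing.maximalIdeal (S.presheaf.stalk (f x))) hne
    (F.presheaf.stalk x) _ _ modR tow fpst h1 this

end Groth.Agent.S1393
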