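import Groth.Statements.S13934
import Groth.Agent.Lib.Helper5.Curve6.Cliff

set_option autoImplicit false
universe u
open CategoryTheory CategoryTheory.Limits AlgebraicGeometry
open W4c1limliniiii

namespace Groth.Agent.S13934

/-- On a smooth proper integral curve over an algebraically closed field (any characteristic), let 0 → L
→ E → M → 0 be a short exact sequence of O_X-modules with E finite locally free of rank 2 and degree
0, L and M invertible and deg L > 0 (so M is det E ⊗ L⁻¹). Then: every invertible sheaf N admitting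
a non-zero map N → E has deg N ≤ deg L, so L is the line bundle of maximal degree in E; every
invertible subsheaf N of E of positive degree with invertible quotient E/N coincides with L (some
isomorphism N ≅ L commutes with the inclusions); and E is not an extension of two invertible sheaves
of degree 0. Degrees are χ(−) minus rank times χ(O_X). (The published lemma is stated on a curve of
genus 2 in characteristic p; its argument uses neither, and this row assumes neither.) -/
theorem result (k : Type u) [Field k] [IsAlgClosed k] (X : Scheme.{u}) [X.Over (Spec (CommRingCat.of k))]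
    [IsIntegral X] [IsProper (X ↘ Spec (CommRingCat.of k))] [Smooth (X ↘ Spec (CommRingCat.of k))]
    (hdim : topologicalKrullDim X = 1)
    (S : ShortComplex X.Modules) (hS : S.ShortExact)
    (hE : FlatMod.IsFinLocFreeOfRank 2 S.X₂) (hE0 : Curv2.deg k X S.X₂ 2 = 0)
    (hL : PicF.IsInvertible S.X₁) (hM : PicF.IsInvertible S.X₃) (hpos : 0 < Curv2.deg k X S.X₁ 1) :
    (∀ (N : X.Modules), PicF.IsInvertible N → ∀ j : N ⟶ S.X₂, j ≠ 0 →
        Curv2.deg k X N 1 ≤ Curv2.deg k X S.X₁ 1) ∧
    (∀ (N : X.Modules), PicF.IsInvertible N → ∀ (j : N ⟶ S.X₂), Mono j →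
        PicF.IsInvertible (cokernel j) → 0 < Curv2.deg k X N 1 → ∃ φ : N ≅ S.X₁, φ.hom ≫ S.f = j) ∧
    (∀ (N N' : X.Modules), PicF.IsInvertible N → PicF.IsInvertible N' →
        Curv2.deg k X N 1 = 0 → Curv2.deg k X N' 1 = 0 →
        ∀ (a : N ⟶ S.X₂) (b : S.X₂ ⟶ N') (w : a ≫ b = 0), ¬ (ShortComplex.mk a b w).ShortExact) := by
  have hL1 := (Groth.Agent.LD.QC.isInvertible_iff _).mp hL
  have hM1 := (Groth.Agent.LD.QC.isInvertible_iff _).mp hM
  have hadd := Groth.Agent.LD.Curve.deg_add_of_shortExact k X S hS 1 2 1 hL1 hE hM1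
  have hMneg : Curv2.deg k X S.X₃ 1 < 0 := by linarith
  haveI := hS.mono_f
  haveI := hS.epi_g
  -- factorization through `S.f` of maps killed by `S.g`
  have hfac : ∀ {N : X.Modules} (j : N ⟶ S.X₂), j ≫ S.g = 0 → ∃ φ : N ⟶ S.X₁, φ ≫ S.f = j :=
    fun j hj => ⟨hS.exact.lift j hj, hS.exact.lift_f j hj⟩
  -- a nonzero map from an invertible module of degree `> deg M` to `E` is killed by `S.g`
  have hkill : ∀ (N : X.Modules), PicF.IsInvertible N → ∀ j : N ⟶ S.X₂,
      Curv2.deg k X S.X₃ 1 < Curv2.deg k X N 1 → j ≫ S.g = 0 := by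
    intro N hN j hd
    by_contra hne
    have := (Groth.Agent.LD.Curve.deg_le_of_ne_zero k X hdim.le hN hM (j ≫ S.g) hne).1
    linarith
  refine ⟨?_, ?_, ?_⟩
  · intro N hN j hj
    by_cases h0 : j ≫ S.g = 0
    · obtain ⟨φ, hφ⟩ := hfac j h0
      have hφ0 : φ ≠ 0 := by
        rintro rfl
        apply hj
        rw [← hφ, zero_comp]
      exact (Groth.Agent.LD.Curve.deg_le_of_ne_zero k X hdim.le hN hL φ hφ0).1
    · have := (Groth.Agent.LD.Curve.deg_le_of_ne_zero k X hdim.le hN hM (j ≫ S.g) h0).1
      linarith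
  · intro N hN j hj hQ hNpos
    haveI := hj
    have hN1 := (Groth.Agent.LD.QC.isInvertible_iff _).mp hN
    have hQ1 := (Groth.Agent.LD.QC.isInvertible_iff _).mp hQ
    obtain ⟨φ, hφ⟩ := hfac j (hkill N hN j (by linarith))
    -- the other direction
    let T : ShortComplex X.Modules := ShortComplex.mk j (cokernel.π j) (cokernel.condition j)
    have hT : T.ShortExact :=
      { exact := ShortComplex.exact_cokernel j
        mono_f := inferInstanceAs (Mono j)
        epi_g := inferInstanceAs (Epi (cokernel.π j)) }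
    have hadd' := Groth.Agent.LD.Curve.deg_add_of_shortExact k X T hT 1 2 1 hN1 hE hQ1
    change Curv2.deg k X S.X₂ 2 = Curv2.deg k X N 1 + Curv2.deg k X (cokernel j) 1 at hadd'
    have hQneg : Curv2.deg k X (cokernel j) 1 < 0 := by linarith
    have hk : S.f ≫ cokernel.π j = 0 := by
      by_contra hne
      have := (Groth.Agent.LD.Curve.deg_le_of_ne_zero k X hdim.le hL hQ (S.f ≫ cokernel.π j) hne).1
      linarith
    have hψ : T.f = j := rfl
    let ψ : S.X₁ ⟶ N := hT.exact.lift S.f hk
    have hψj : ψ ≫ j = S.f := hT.exact.lift_f S.f hk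
    have h1 : φ ≫ ψ = 𝟙 N := by
      rw [← cancel_mono j, Category.assoc, hψj, hφ, Category.id_comp]
    have h2 : ψ ≫ φ = 𝟙 S.X₁ := by
      rw [← cancel_mono S.f, Category.assoc, hφ, hψj, Category.id_comp]
    exact ⟨⟨φ, ψ, h1, h2⟩, hφ⟩
  · intro N N' hN hN' hN0 hN'0 a b w hab
    haveI := hab.mono_f
    have hk : S.f ≫ b = 0 := by
      by_contra hne
      have := (Groth.Agent.LD.Curve.deg_le_of_ne_zero k X hdim.le hL hN' (S.f ≫ b) hne).1
      linarith
    let ψ : S.X₁ ⟶ N := hab.exact.lift S.f hk
    have hψ : ψ ≫ a = S.f := hab.exact.lift_f S.f hk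
    have hψ0 : ψ ≠ 0 := by
      intro h0
      have hf0 : S.f = 0 := by rw [← hψ, h0, zero_comp]
      have h1 : 𝟙 S.X₁ = 0 := (cancel_mono S.f).1 (by rw [hf0, comp_zero, comp_zero])
      have hz : IsZero S.X₁ := (IsZero.iff_id_eq_zero _).mpr h1
      have := Groth.Agent.H5.Curve6.ne_zero_of_mono_of_isInvertible hL S.f
      exact this hf0
    have := (Groth.Agent.LD.Curve.deg_le_of_ne_zero k X hdim.le hL hN ψ hψ0).1
    linarith

end Groth.Agent.S13934
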