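import Groth.Statements.S13953
import Mathlib.Tactic
-- import your own Groth.Agent.* helpers here

set_option autoImplicit false
universe u
open TateLoc

namespace Groth.Agent.S13953

/-- Let (R_i) be a family of local commutative rings and R = ∏ R_i. Any open cover of Spec R can be
refined by one coming from a finite partition of the index set: there is a map c from the index set
to a finite set such that, for each value m, the basic open subset of Spec R defined by the
idempotent which is 1 at the indices with c i = m and 0 elsewhere (this open is the spectrum of the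
product of the R_i over that class) is contained in some member of the cover. -/
theorem result {ι : Type u} (R : ι → Type u)
    [∀ i, CommRing (R i)] [∀ i, IsLocalRing (R i)] {J : Type u}
    (U : J → TopologicalSpace.Opens (PrimeSpectrum (∀ i, R i))) (hU : ⨆ j, U j = ⊤) :
    ∃ (n : ℕ) (c : ι → Fin n), ∀ m : Fin n, ∃ j : J,
      PrimeSpectrum.basicOpen (fun i => if c i = m then (1 : R i) else 0) ≤ U j := by
  classical
  let T : Set (∀ i, R i) := {f | ∃ j, PrimeSpectrum.basicOpen f ≤ U j}
  have hT : Ideal.span T = ⊤ := by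
    by_contra hne
    obtain ⟨P, hPmax, hPle⟩ := Ideal.exists_le_maximal _ hne
    let x : PrimeSpectrum (∀ i, R i) := ⟨P, hPmax.isPrime⟩
    have hx : x ∈ (⨆ j, U j) := by rw [hU]; trivial
    rw [TopologicalSpace.Opens.mem_iSup] at hx
    obtain ⟨j, hj⟩ := hx
    obtain ⟨v, ⟨f, rfl⟩, hxf, hfU⟩ :=
      PrimeSpectrum.isTopologicalBasis_basic_opens.exists_subset_of_mem_open hj (U j).2
    have hfT : f ∈ T := ⟨j, hfU⟩
    have hfP : f ∈ P := hPle (Ideal.subset_span hfT)
    exact hxf hfP
  obtain ⟨T', hT'sub, hT'⟩ := (Ideal.span_eq_top_iff_finite T).1 hT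
  have h1 : (1 : ∀ i, R i) ∈ Ideal.span (T' : Set (∀ i, R i)) := by rw [hT']; trivial
  rw [Ideal.span, Submodule.mem_span_finset] at h1
  obtain ⟨g, _, hg⟩ := h1
  have hunit : ∀ i, ∃ f ∈ T', IsUnit (f i) := by
    intro i
    by_contra hcon
    push_neg at hcon
    have hsum : (∑ f ∈ T', g f • f) i ∈ IsLocalRing.maximalIdeal (R i) := by
      rw [Finset.sum_apply]
      refine Ideal.sum_mem _ fun f hf => ?_
      show g f i * f i ∈ _
      exact Ideal.mul_mem_left _ _ ((IsLocalRing.mem_maximalIdeal _).2 (hcon f hf))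
    rw [hg] at hsum
    exact (IsLocalRing.maximalIdeal.isMaximal (R i)).ne_top
      ((Ideal.eq_top_iff_one _).2 hsum)
  choose F hFmem hFunit using hunit
  refine ⟨T'.card, fun i => T'.equivFin ⟨F i, hFmem i⟩, ?_⟩
  intro m
  obtain ⟨j, hj⟩ := hT'sub (T'.equivFin.symm m).2
  refine ⟨j, le_trans ?_ hj⟩
  have heq : (fun i => if T'.equivFin ⟨F i, hFmem i⟩ = m then (1 : R i) else 0) =
      ((T'.equivFin.symm m : T') : ∀ i, R i) *
        (fun i => if T'.equivFin ⟨F i, hFmem i⟩ = m then Ring.inverse (F i i) else 0) := by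
    funext i
    rw [Pi.mul_apply]
    split_ifs with h
    · have : (T'.equivFin.symm m : T') = ⟨F i, hFmem i⟩ := by rw [← h, Equiv.symm_apply_apply]
      rw [this, Ring.mul_inverse_cancel _ (hFunit i)]
    · rw [mul_zero]
  rw [heq]
  exact PrimeSpectrum.basicOpen_mul_le_left _ _

end Groth.Agent.S13953
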