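import Groth.Statements.S13986
import Groth.Agent.Lib.Lead.QC.SerreSupp

set_option autoImplicit false
universe u
open CategoryTheory AlgebraicGeometry
open CohGab

namespace Groth.Agent.S13986

/-- Let X be a Noetherian scheme and F, E coherent O_X-modules. Then E lies in the smallest Serre
subcategory of Coh(X) containing F — that is, E has every property P of O_X-modules such that P
holds for F and P is a Serre class on coherent modules (for a short exact sequence of coherent
modules the middle term has P iff both outer terms do) — if and only if Supp(E) ⊆ Supp(F).
Equivalently: for a closed subset Z, the coherent modules supported in Z form the Serre subcategory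
generated by any coherent module whose support is exactly Z. (The published statement is about
coherent sheaves twisted by a class in the second etale cohomology group of the units of the
structure sheaf; this row is its case of the trivial class, ordinary coherent sheaves.) -/
theorem result (X : Scheme.{u}) [IsNoetherian X]
    (F E : X.Modules) (hF : Coh.IsCoh F) (hE : Coh.IsCoh E) :
    (∀ P : ObjectProperty X.Modules, P F →
      (∀ S : ShortComplex X.Modules, S.ShortExact → Coh.IsCoh S.X₁ → Coh.IsCoh S.X₂ →
        Coh.IsCoh S.X₃ → (P S.X₂ ↔ P S.X₁ ∧ P S.X₃)) → P E) ↔
    CohB1.support E ⊆ CohB1.support F := by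
  constructor
  · intro h
    refine h (fun M => CohB1.support M ⊆ CohB1.support F) (subset_refl _) ?_
    intro S hS _ _ _
    change CohB1.support S.X₂ ⊆ _ ↔ CohB1.support S.X₁ ⊆ _ ∧ CohB1.support S.X₃ ⊆ _
    rw [Groth.Agent.LD.QC.support_of_shortExact hS, Set.union_subset_iff]
  · intro hs P hPF hP
    exact Groth.Agent.LD.QC.IsSerreCoh.of_support_subset (P := P) hP hF hE hPF hs

end Groth.Agent.S13986
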