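import Groth.Statements.S13988
import Groth.Agent.Lib.Lead.QC.Center

set_option autoImplicit false
universe u
open CategoryTheory AlgebraicGeometry
open CohGab

namespace Groth.Agent.S13988

/-- Let X be a Noetherian scheme. The canonical ring map from the global functions Γ(X, O_X) to the
centre of the category of coherent O_X-modules (the endomorphisms of its identity functor), sending
r to multiplication by r, is bijective: for every natural endomorphism φ of the identity functor of
Coh(X) there is a unique global function r such that, for every coherent module M, φ_M is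
multiplication by r (compared as maps of the underlying abelian sheaves). (The published result
builds a ringed space from Coh(X) — irreducible Serre subcategories of finite type, with the centres
of the categories Coh(U) as structure sheaf — and proves it isomorphic to X, for coherent sheaves
twisted by a class in the cohomological Brauer group and with X over a field, a hypothesis its proof
does not use; this row is the ring-theoretic content of that isomorphism on global sections, for the
trivial class; applied to the open subschemes of X it gives the statement on every open.) -/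
theorem result (X : Scheme.{u}) [IsNoetherian X]
    (φ : 𝟭 (ObjectProperty.FullSubcategory (fun M : X.Modules => Coh.IsCoh M)) ⟶ 𝟭 (ObjectProperty.FullSubcategory (fun M : X.Modules => Coh.IsCoh M))) :
    ∃! r : Coh.Γtop X, ∀ M : ObjectProperty.FullSubcategory (fun M : X.Modules => Coh.IsCoh M),
      (SheafOfModules.toSheaf X.ringCatSheaf).map (φ.app M).hom = Coh.smulAb M.obj r := by
  refine ⟨Groth.Agent.LD.QC.centerSection φ, ?_, ?_⟩
  · intro M
    ext U m
    exact Groth.Agent.LD.QC.Φ_app φ M.obj M.property U.unop m
  · intro r' hr'
    have hO : Coh.IsCoh (Groth.Agent.LD.QC.unitMod X) := Groth.Agent.LD.PF.isCoh_unitMod X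
    have h := hr' ⟨Groth.Agent.LD.QC.unitMod X, hO⟩
    have h2 := congrArg (fun t : Coh.toAb (Groth.Agent.LD.QC.unitMod X) ⟶ Coh.toAb (Groth.Agent.LD.QC.unitMod X) =>
      t.hom.app (Opposite.op ⊤) (1 : Γ(X, ⊤))) h
    have h3 : Coh.resTop X (Opposite.op ⊤) r' = r' := by
      change (X.ringCatSheaf.obj.map (𝟙 (Opposite.op ⊤))).hom r' = r'
      rw [X.ringCatSheaf.obj.map_id]
      rfl
    let a : Γ(X, ⊤) := Coh.resTop X (Opposite.op ⊤) r'
    have h4 : (Groth.Agent.LD.QC.Φ φ (Groth.Agent.LD.QC.unitMod X) hO).app ⊤ (1 : Γ(X, ⊤)) =
        a * (1 : Γ(X, ⊤)) := h2
    rw [mul_one] at h4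
    exact (h4.trans h3).symm

end Groth.Agent.S13988
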