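import Groth.Statements.S13991
import Groth.Agent.Lib.Lead.QC.SerreSupp
import Groth.Agent.Lib.Lead.QC.QuotSupp
import Groth.Agent.Lib.Lead.QC.SuppSplit

set_option autoImplicit false
universe u
open CategoryTheory AlgebraicGeometry
open CohGab

namespace Groth.Agent.S13991

/-- Let X be a Noetherian scheme and Z ⊆ X a closed subset. Then Z is irreducible (or empty) if and only
if Coh_Z(X), the coherent O_X-modules supported in Z, is an irreducible Serre subcategory of Coh(X),
i.e. it is not generated as a Serre subcategory by two Serre subcategories properly contained in it: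
whenever J₁, J₂ are Serre classes on coherent modules (middle term of a short exact sequence of
coherent modules belongs iff both outer terms do), both contained in Coh_Z, such that every Serre
class on coherent modules containing J₁ and J₂ contains Coh_Z, then J₁ or J₂ contains Coh_Z.
Consequently the points of X correspond to the irreducible Serre subcategories of finite type other
than the zero subcategory. (The published statement says 'Z is irreducible iff Coh_Z is irreducible'
and deduces a bijection between the points of X and all irreducible Serre subcategories of finite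
type; the zero subcategory Coh_∅ is irreducible in this sense while ∅ is not an irreducible space,
so irreducibility of Z is read here as 'irreducible or empty'. The published statement is also about
coherent sheaves twisted by a class in the second etale cohomology group of the units of the
structure sheaf; this row is its case of the trivial class.) -/
theorem result (X : Scheme.{u}) [IsNoetherian X]
    (Z : TopologicalSpace.Closeds X) :
    IsPreirreducible (↑Z : Set X) ↔
    ∀ J₁ J₂ : ObjectProperty X.Modules, (∀ S : ShortComplex X.Modules, S.ShortExact → Coh.IsCoh S.X₁ → Coh.IsCoh S.X₂ →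
        Coh.IsCoh S.X₃ → (J₁ S.X₂ ↔ J₁ S.X₁ ∧ J₁ S.X₃)) → (∀ S : ShortComplex X.Modules, S.ShortExact → Coh.IsCoh S.X₁ → Coh.IsCoh S.X₂ →
        Coh.IsCoh S.X₃ → (J₂ S.X₂ ↔ J₂ S.X₁ ∧ J₂ S.X₃)) →
      (∀ M : X.Modules, Coh.IsCoh M → J₁ M → CohB1.support M ⊆ (↑Z : Set X)) →
      (∀ M : X.Modules, Coh.IsCoh M → J₂ M → CohB1.support M ⊆ (↑Z : Set X)) →
      (∀ Q : ObjectProperty X.Modules, (∀ S : ShortComplex X.Modules, S.ShortExact → Coh.IsCoh S.X₁ → Coh.IsCoh S.X₂ →
        Coh.IsCoh S.X₃ → (Q S.X₂ ↔ Q S.X₁ ∧ Q S.X₃)) →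
        (∀ M : X.Modules, Coh.IsCoh M → J₁ M → Q M) → (∀ M : X.Modules, Coh.IsCoh M → J₂ M → Q M) →
        ∀ M : X.Modules, Coh.IsCoh M → CohB1.support M ⊆ (↑Z : Set X) → Q M) →
      (∀ M : X.Modules, Coh.IsCoh M → CohB1.support M ⊆ (↑Z : Set X) → J₁ M) ∨
        (∀ M : X.Modules, Coh.IsCoh M → CohB1.support M ⊆ (↑Z : Set X) → J₂ M) := by
  have hsupp : ∀ W : Set X, ∀ S : ShortComplex X.Modules, S.ShortExact →
      (CohB1.support S.X₂ ⊆ W ↔ CohB1.support S.X₁ ⊆ W ∧ CohB1.support S.X₃ ⊆ W) := by
    intro W S hS
    rw [Groth.Agent.LD.QC.support_of_shortExact hS, Set.union_subset_iff]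
  obtain ⟨G, hG, hGZ⟩ := Groth.Agent.LD.QC.exists_isCoh_support_eq Z
  constructor
  · intro hirr J₁ J₂ hJ₁ hJ₂ h1Z h2Z hgen
    -- a member of `J₁` or `J₂` whose support is all of `Z`
    have key : (∃ M : X.Modules, Coh.IsCoh M ∧ J₁ M ∧ (Z : Set X) ⊆ CohB1.support M) ∨
        (∃ M : X.Modules, Coh.IsCoh M ∧ J₂ M ∧ (Z : Set X) ⊆ CohB1.support M) := by
      by_cases hne : (Z : Set X).Nonempty
      · have hZirr : IsIrreducible (Z : Set X) := ⟨hne, hirr⟩
        obtain ⟨ξ, hξ⟩ := QuasiSober.sober hZirr Z.isClosed
        have hξZ : ξ ∈ (Z : Set X) := by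
          rw [← hξ.def]; exact subset_closure rfl
        by_contra hcon
        push Not at hcon
        have hQ := hgen (fun M => ξ ∉ CohB1.support M) ?_ ?_ ?_ G hG hGZ.le
        · apply hQ; rw [hGZ]; exact hξZ
        · intro S hS _ _ _
          change ξ ∉ CohB1.support S.X₂ ↔ ξ ∉ CohB1.support S.X₁ ∧ ξ ∉ CohB1.support S.X₃
          rw [Groth.Agent.LD.QC.support_of_shortExact hS, Set.mem_union, not_or]
        · intro M hM hJM hξM
          obtain ⟨z, hzZ, hzM⟩ := Set.not_subset.mp (hcon.1 M hM hJM)
          apply hzM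
          have hcl : IsClosed (CohB1.support M) :=
            Groth.Agent.LD.QC.isClosed_support_of_isFiniteType M hM.2
          have : closure ({ξ} : Set X) ⊆ CohB1.support M :=
            hcl.closure_subset_iff.mpr (Set.singleton_subset_iff.mpr hξM)
          rw [hξ.def] at this
          exact this hzZ
        · intro M hM hJM hξM
          obtain ⟨z, hzZ, hzM⟩ := Set.not_subset.mp (hcon.2 M hM hJM)
          apply hzM
          have hcl : IsClosed (CohB1.support M) :=
            Groth.Agent.LD.QC.isClosed_support_of_isFiniteType M hM.2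
          have : closure ({ξ} : Set X) ⊆ CohB1.support M :=
            hcl.closure_subset_iff.mpr (Set.singleton_subset_iff.mpr hξM)
          rw [hξ.def] at this
          exact this hzZ
      · have hZe : (Z : Set X) = ∅ := Set.not_nonempty_iff_eq_empty.mp hne
        by_contra hcon
        push Not at hcon
        have hQ := hgen (fun _ => False) (fun S hS _ _ _ => by simp) ?_ ?_ G hG hGZ.le
        · exact hQ
        · intro M hM hJM
          apply hcon.1 M hM hJM
          rw [hZe]; exact Set.empty_subset _
        · intro M hM hJM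
          apply hcon.2 M hM hJM
          rw [hZe]; exact Set.empty_subset _
    rcases key with ⟨M₀, hM₀, hJM₀, hZM₀⟩ | ⟨M₀, hM₀, hJM₀, hZM₀⟩
    · left
      intro M hM hMZ
      exact Groth.Agent.LD.QC.IsSerreCoh.of_support_subset (P := J₁) hJ₁ hM₀ hM hJM₀
        (hMZ.trans hZM₀)
    · right
      intro M hM hMZ
      exact Groth.Agent.LD.QC.IsSerreCoh.of_support_subset (P := J₂) hJ₂ hM₀ hM hJM₀
        (hMZ.trans hZM₀)
  · intro h
    rw [isPreirreducible_iff_isClosed_union_isClosed]
    intro z₁ z₂ hz₁ hz₂ hZz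
    have hres := h (fun M => CohB1.support M ⊆ (Z : Set X) ∩ z₁)
      (fun M => CohB1.support M ⊆ (Z : Set X) ∩ z₂)
      (fun S hS _ _ _ => hsupp _ S hS) (fun S hS _ _ _ => hsupp _ S hS)
      (fun M _ hM => hM.trans Set.inter_subset_left)
      (fun M _ hM => hM.trans Set.inter_subset_left) ?_
    · rcases hres with h1 | h2
      · left
        have := h1 G hG hGZ.le
        rw [hGZ] at this
        exact this.trans Set.inter_subset_right
      · right
        have := h2 G hG hGZ.le
        rw [hGZ] at this
        exact this.trans Set.inter_subset_right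
    · intro Q hQ hQ1 hQ2 M hM hMZ
      have hcl : IsClosed (CohB1.support M) :=
        Groth.Agent.LD.QC.isClosed_support_of_isFiniteType M hM.2
      have hMe : CohB1.support M = (CohB1.support M ∩ z₂) ∪ (CohB1.support M ∩ z₁) := by
        rw [← Set.inter_union_distrib_left, Set.union_comm]
        exact (Set.inter_eq_left.mpr (hMZ.trans hZz)).symm
      obtain ⟨S, hS, ⟨e⟩, hS₁, hS₃, hs₁, hs₃⟩ := Groth.Agent.LD.QC.exists_support_ses M hM
        (CohB1.support M ∩ z₂) (CohB1.support M ∩ z₁) (hcl.inter hz₂) (hcl.inter hz₁) hMe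
      have hS₂ : Coh.IsCoh S.X₂ := Groth.Agent.LD.QC.isCoh_of_iso e.symm hM
      have hQ₁ : Q S.X₁ := hQ1 S.X₁ hS₁
        (hs₁.trans (Set.inter_subset_inter_left _ hMZ))
      have hQ₃ : Q S.X₃ := hQ2 S.X₃ hS₃
        (hs₃.trans (Set.inter_subset_inter_left _ hMZ))
      have hQ₂ : Q S.X₂ := (hQ S hS hS₁ hS₂ hS₃).mpr ⟨hQ₁, hQ₃⟩
      exact Groth.Agent.LD.QC.IsSerreCoh.of_iso (P := Q) hQ e hS₂ hQ₂

end Groth.Agent.S13991
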