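import Groth.Statements.S13992
import Mathlib
import Groth.Agent.Lib.Helper1.Hyp3

set_option autoImplicit false
universe u
open CategoryTheory
open CAlg

namespace Groth.Agent.S13992

/-- Let S be a regular local ring of Krull dimension two, f a non-zero element of S and R the quotient
of S by f, assumed reduced (the local ring of a reduced planar curve singularity). Let M and N be
finitely generated R-modules, each admitting a non-zero-divisor in the maximal ideal of R,
annihilated by ideals I and J respectively, where I + J contains a power of the maximal ideal. Then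
Ext²_R(M, N) = 0. (The published statement is global: Ext²(F, F') = 0 for torsion-free coherent
sheaves F and F' on a reduced projective curve over a characteristic-zero algebraically closed
field, supported on subcurves with no common irreducible component that meet only at points with
planar singularities; this row is the vanishing on stalks to which it reduces, stated over an
arbitrary two-dimensional regular local ring.) -/
theorem result (S : Type u) [CommRing S] [IsRegularLocalRing S] (hS : ringKrullDim S = 2) (f : S) (hf : f ≠ 0) (R : Type u) [CommRing R] [IsLocalRing R] [IsReduced R] (π : S →+* R) (hπ : Function.Surjective π) (hker : RingHom.ker π = Ideal.span {f}) (I J : Ideal R) (n : ℕ) (hIJ : IsLocalRing.maximalIdeal R ^ n ≤ I ⊔ J) (M N : Type u) [AddCommGroup M] [Module R M] [Module.Finite R M] [AddCommGroup N] [Module R N] [Module.Finite R N] (hI : I ≤ Module.annihilator R M) (hJ : J ≤ Module.annihilator R N) (x : R) (hx : x ∈ IsLocalRing.maximalIdeal R) (hxM : IsSMulRegular M x) (y : R) (hy : y ∈ IsLocalRing.maximalIdeal R) (hyN : IsSMulRegular N y) : Subsingleton (Abelian.Ext (ModuleCat.of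 R M) (ModuleCat.of R N) 2) := by
  open Groth.Agent.Lib.Helper1.Hyp Matrix in
  obtain ⟨D⟩ := nonempty_perData S R hS f hf π hπ hker M x hx hxM
  have htors : ∀ z : N, (∀ a ∈ IsLocalRing.maximalIdeal R ^ n, a • z = 0) → z = 0 := by
    intro z hz
    have h1 : y ^ n • z = 0 := hz _ (Ideal.pow_mem_pow hy n)
    exact (hyN.pow n).right_eq_zero_of_smul h1
  let P := D.matRes.projRes
  suffices h : ∀ α : Abelian.Ext (ModuleCat.of R M) (ModuleCat.of R N) 2, α = 0 from
    ⟨fun α β => by rw [h α, h β]⟩
  intro α
  obtain ⟨g, hg, rfl⟩ := P.extMk_surjective α 3 rfl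
  have hg0 : g = 0 := by
    apply ModuleCat.hom_ext
    apply LinearMap.ext
    suffices hsuff : ∀ v : Fin D.b → R, g.hom v = 0 from hsuff
    intro v
    apply htors
    intro a ha
    obtain ⟨a₁, ha₁, a₂, ha₂, rfl⟩ := Submodule.mem_sup.1 (hIJ ha)
    rw [add_smul]
    have h2 : a₂ • (g.hom v) = 0 := Module.mem_annihilator.1 (hJ ha₂) _
    obtain ⟨C, -, hAC⟩ := D.ann a₁ (fun m => Module.mem_annihilator.1 (hI ha₁) m)
    have h1 : a₁ • g.hom v = 0 := by
      rw [← map_smul]
      have hv : a₁ • v = D.A.mulVecLin (C.mulVec v) := by
        rw [Matrix.mulVecLin_apply, Matrix.mulVec_mulVec, hAC, Matrix.smul_mulVec,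
          Matrix.one_mulVec]
      have hd : P.complex.d 3 2 = ModuleCat.ofHom D.A.mulVecLin := by
        show D.matRes.complex.d (2 + 1) 2 = _
        rw [Groth.Agent.H2.MatRes.complex_d]
        rfl
      rw [hd] at hg
      have := congrArg (fun t => t.hom (C.mulVec v)) hg
      simp only [ModuleCat.hom_comp, LinearMap.comp_apply, ModuleCat.hom_ofHom,
        ModuleCat.hom_zero, LinearMap.zero_apply] at this
      exact (congrArg (fun t => g.hom t) hv).trans this
    rw [h1, h2, add_zero]
  subst hg0
  exact P.extMk_zero 3 rfl

end Groth.Agent.S13992
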