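import Groth.Statements.S13994
import Mathlib
import Groth.Agent.Lib.Helper1.Hyp3

set_option autoImplicit false
universe u
open CategoryTheory
open CAlg

namespace Groth.Agent.S13994

namespace Aux

open IsLocalRing MonoidalCategory

/-- A quotient of a 2-dimensional regular local ring by a principal ideal is not a field. -/
theorem maximalIdeal_ne_bot_of_quot (S : Type u) [CommRing S] [IsRegularLocalRing S]
    (hS : ringKrullDim S = 2) (f : S) (R : Type u) [CommRing R] [IsLocalRing R]
    (π : S →+* R) (hπ : Function.Surjective π) (hker : RingHom.ker π = Ideal.span {f}) :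
    maximalIdeal R ≠ ⊥ := by
  intro hbot
  -- then ker π is the maximal ideal of S
  have h1 : maximalIdeal S = Ideal.span {f} := by
    rw [← hker]
    apply le_antisymm
    · intro s hs
      rw [RingHom.mem_ker]
      have : π s ∈ maximalIdeal R := by
        rw [mem_maximalIdeal, mem_nonunits_iff] at hs ⊢
        intro hu
        obtain ⟨t, ht⟩ := hu.exists_right_inv
        obtain ⟨t', rfl⟩ := hπ t
        -- s t' - 1 ∈ ker π ⊆ m_S, so s t' is a unit
        have hk : s * t' - 1 ∈ RingHom.ker π := by
          rw [RingHom.mem_ker, map_sub, map_mul, ht, map_one, sub_self]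
        have hne : RingHom.ker π ≠ ⊤ := RingHom.ker_ne_top π
        have hle : RingHom.ker π ≤ maximalIdeal S := IsLocalRing.le_maximalIdeal hne
        have h2 := hle hk
        have hs'' : s ∈ maximalIdeal S := by
          rw [mem_maximalIdeal, mem_nonunits_iff]; exact hs
        have h3 : s * t' ∈ maximalIdeal S := Ideal.mul_mem_right _ _ hs''
        have h4 : (1 : S) ∈ maximalIdeal S := by
          have := Ideal.sub_mem _ h3 h2
          simp at this
        exact (Ideal.ne_top_iff_one _).1 (IsLocalRing.maximalIdeal.isMaximal S).ne_top h4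
      rw [hbot] at this
      exact this
    · exact IsLocalRing.le_maximalIdeal (RingHom.ker_ne_top π)
  have h2 : (maximalIdeal S).spanFinrank ≤ 1 := by
    rw [h1]
    have := Submodule.spanFinrank_span_le_ncard_of_finite (R := S) (Set.finite_singleton f)
    simpa using this
  have h3 := IsRegularLocalRing.spanFinrank_maximalIdeal (R := S)
  rw [hS] at h3
  have : ((maximalIdeal S).spanFinrank : WithBot ℕ∞) ≤ 1 := by exact_mod_cast h2
  rw [h3] at this
  norm_num at this

/-- A reduced local ring that is not a field has no `𝔪ⁿ`-torsion. -/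
theorem eq_zero_of_pow_maximalIdeal_mul (R : Type u) [CommRing R] [IsLocalRing R] [IsReduced R]
    (hm : maximalIdeal R ≠ ⊥) (n : ℕ) (r : R) (hr : ∀ a ∈ maximalIdeal R ^ n, a * r = 0) :
    r = 0 := by
  rcases Nat.eq_zero_or_pos n with rfl | hn
  · have := hr 1 (by simp)
    rwa [one_mul] at this
  have h1 : ∀ t ∈ maximalIdeal R, t * r = 0 := by
    intro t ht
    have h2 : (t * r) ^ n = 0 := by
      have := hr (t ^ n) (Ideal.pow_mem_pow ht n)
      obtain ⟨k, rfl⟩ : ∃ k, n = k + 1 := ⟨n - 1, by omega⟩
      rw [mul_pow, pow_succ r, ← mul_assoc, mul_comm _ r, ← mul_assoc, mul_comm r, this, zero_mul]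
    exact IsReduced.eq_zero _ ⟨n, h2⟩
  by_cases hu : IsUnit r
  · exfalso
    apply hm
    rw [eq_bot_iff]
    intro t ht
    have := h1 t ht
    rw [Submodule.mem_bot]
    exact (hu.mul_left_eq_zero).1 this
  · have hr' : r ∈ maximalIdeal R := by
      rw [mem_maximalIdeal, mem_nonunits_iff]; exact hu
    have := h1 r hr'
    exact IsReduced.eq_zero _ ⟨2, by rw [pow_two]; exact this⟩

theorem tensor_torsion_free {R : Type u} [CommRing R] (K : Ideal R) (L : Type u) [AddCommGroup L]
    [Module R L] (hL : ∀ l : L, (∀ a ∈ K, a • l = 0) → l = 0) (b : ℕ)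
    (v : TensorProduct R (Fin b → R) L) (hv : ∀ a ∈ K, a • v = 0) : v = 0 := by
  let e : TensorProduct R (Fin b → R) L ≃ₗ[R] (Fin b → L) :=
    (TensorProduct.comm R _ _).trans (TensorProduct.piScalarRight R R L (Fin b))
  apply e.injective
  rw [map_zero]
  funext i
  apply hL
  intro a ha
  have := congrArg (fun t => e t i) (hv a ha)
  simpa using this

theorem rTensor_mulVecLin_injective {R : Type u} [CommRing R] (K I J : Ideal R) (hK : K ≤ I ⊔ J)
    (L : Type u) [AddCommGroup L]
    [Module R L] (hL : ∀ l : L, (∀ a ∈ K, a • l = 0) → l = 0) (hJ : ∀ a ∈ J, ∀ l : L, a • l = 0)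
    (b : ℕ) (A : Matrix (Fin b) (Fin b) R)
    (hA : ∀ a ∈ I, ∃ C : Matrix (Fin b) (Fin b) R, C * A = a • (1 : Matrix (Fin b) (Fin b) R)) :
    Function.Injective (LinearMap.rTensor L A.mulVecLin) := by
  rw [injective_iff_map_eq_zero]
  intro v hv
  apply tensor_torsion_free K L hL b v
  intro a ha
  obtain ⟨a₁, ha₁, a₂, ha₂, rfl⟩ := Submodule.mem_sup.1 (hK ha)
  rw [add_smul]
  have h2 : ∀ v : TensorProduct R (Fin b → R) L, a₂ • v = 0 := by
    intro v
    induction v using TensorProduct.induction_on with
    | zero => rw [smul_zero]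
    | tmul w l => rw [TensorProduct.smul_tmul', TensorProduct.smul_tmul, hJ a₂ ha₂, TensorProduct.tmul_zero]
    | add x y hx hy => rw [smul_add, hx, hy, add_zero]
  obtain ⟨C, hC⟩ := hA a₁ ha₁
  have h1 : a₁ • v = 0 := by
    have h3 : LinearMap.rTensor L C.mulVecLin (LinearMap.rTensor L A.mulVecLin v) = a₁ • v := by
      rw [← LinearMap.comp_apply, ← LinearMap.rTensor_comp, ← Matrix.mulVecLin_mul, hC]
      have : (a₁ • (1 : Matrix (Fin b) (Fin b) R)).mulVecLin = a₁ • LinearMap.id := by
        ext w : 1
        simp
      rw [this, LinearMap.rTensor_smul, LinearMap.rTensor_id, LinearMap.smul_apply, LinearMap.id_apply]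
    rw [← h3, hv, map_zero]
  rw [h1, h2 v, add_zero]

end Aux

/-- Let S be a regular local ring of Krull dimension two, f a non-zero element of S and R the quotient
of S by f, assumed reduced. Let M and N be finitely generated R-modules, each admitting a
non-zero-divisor in the maximal ideal of R, annihilated by ideals I and J respectively, where I + J
contains a power of the maximal ideal. Then Tor₁^R(M, Hom_R(N, R)) = 0. (The published claim is made
for the stalks at a common point of two subcurves without common component of a reduced projective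
curve over a characteristic-zero algebraically closed field, the point being a planar singularity,
and the stalks of torsion-free sheaves supported on them; this row states it over an arbitrary
two-dimensional regular local ring. Tor is computed by resolving the second argument.) -/
theorem result (S : Type u) [CommRing S] [IsRegularLocalRing S] (hS : ringKrullDim S = 2) (f : S) (hf : f ≠ 0) (R : Type u) [CommRing R] [IsLocalRing R] [IsReduced R] (π : S →+* R) (hπ : Function.Surjective π) (hker : RingHom.ker π = Ideal.span {f}) (I J : Ideal R) (n : ℕ) (hIJ : IsLocalRing.maximalIdeal R ^ n ≤ I ⊔ J) (M N : Type u) [AddCommGroup M] [Module R M] [Module.Finite R M] [AddCommGroup N] [Module R N] [Module.Finite R N] (hI : I ≤ Module.annihilator R M) (hJ : J ≤ Module.annihilator R N) (x : R) (hx : x ∈ IsLocalRing.maximalIdeal R) (hxM : IsSMulRegular M x) (y : R) (hy : y ∈ IsLocalRing.maximalIdeal R) (hyN : IsSMulRegular N y) : Limits.IsZero (((Tor (ModuleCat.{u} R) 1).obj (ModuleCat.of R M)).obj (ModuleCat.of R (Module.Dual R N))) := by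
  open Groth.Agent.Lib.Helper1.Hyp Aux Matrix MonoidalCategory in
  obtain ⟨D⟩ := nonempty_perData S R hS f hf π hπ hker M x hx hxM
  have hm := maximalIdeal_ne_bot_of_quot S hS f R π hπ hker
  let P := D.matRes.projRes
  obtain ⟨i⟩ := Groth.Agent.H2.TorBal.nonempty_tor_iso (ModuleCat.of R M)
    (ModuleCat.of R (Module.Dual R N)) P 1
  refine Limits.IsZero.of_iso ?_ i
  rw [← HomologicalComplex.exactAt_iff_isZero_homology]
  rw [HomologicalComplex.exactAt_iff' _ 2 1 0 (by simp) (by simp)]
  have hL : ∀ l : Module.Dual R N, (∀ a ∈ IsLocalRing.maximalIdeal R ^ n, a • l = 0) → l = 0 := by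
    intro l hl
    apply LinearMap.ext
    intro z
    rw [LinearMap.zero_apply]
    apply eq_zero_of_pow_maximalIdeal_mul R hm n
    intro a ha
    have := congrArg (fun t => t z) (hl a ha)
    simpa using this
  have hJ' : ∀ a ∈ J, ∀ l : Module.Dual R N, a • l = 0 := by
    intro a ha l
    apply LinearMap.ext
    intro z
    rw [LinearMap.smul_apply, LinearMap.zero_apply, ← map_smul,
      Module.mem_annihilator.1 (hJ ha) z, map_zero]
  have hA : ∀ a ∈ I, ∃ C : Matrix (Fin D.b) (Fin D.b) R,
      C * D.A = a • (1 : Matrix (Fin D.b) (Fin D.b) R) := by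
    intro a ha
    obtain ⟨C, hC, -⟩ := D.ann a (fun m => Module.mem_annihilator.1 (hI ha) m)
    exact ⟨C, hC⟩
  have hinj := rTensor_mulVecLin_injective _ I J hIJ (Module.Dual R N) hL hJ' D.b D.A hA
  have hd : P.complex.d 1 0 = ModuleCat.ofHom D.A.mulVecLin := by
    show D.matRes.complex.d (0 + 1) 0 = _
    rw [Groth.Agent.H2.MatRes.complex_d]
    rfl
  have hmono : Mono ((((tensorRight (ModuleCat.of R (Module.Dual R N))).mapHomologicalComplex
      (ComplexShape.down ℕ)).obj P.complex).d 1 0) := by
    rw [Functor.mapHomologicalComplex_obj_d, hd, ModuleCat.mono_iff_injective]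
    exact hinj
  set T := (((tensorRight (ModuleCat.of R (Module.Dual R N))).mapHomologicalComplex
      (ComplexShape.down ℕ)).obj P.complex) with hT
  have hf0 : (T.sc' 2 1 0).f = 0 := by
    haveI : Mono (T.sc' 2 1 0).g := hmono
    rw [← cancel_mono (T.sc' 2 1 0).g, Limits.zero_comp, (T.sc' 2 1 0).zero]
  exact (ShortComplex.exact_iff_mono _ hf0).2 hmono

end Groth.Agent.S13994
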