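import Groth.Statements.S13996
import Mathlib

set_option autoImplicit false
universe u
open CAlg

namespace Groth.Agent.S13996

/-- Let R be a reduced Noetherian local ring of Krull dimension one with maximal ideal m, and M a
non-zero finitely generated R-module. Then M is torsion-free in the sense that no element of m which
is a non-zero-divisor on R is a zero-divisor on M, if and only if M has depth one, i.e. some element
of m is a non-zero-divisor on M. (The published statement is for a non-zero coherent sheaf F on a
connected reduced projective curve over a characteristic-zero algebraically closed field and asserts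
the equivalence of: F torsion-free in the above sense at every closed point; F pure of dimension
one; depth of F_p equal to one at every closed point p. This row is the equivalence of the first and
third conditions at a single closed point p with F_p ≠ 0; at points outside the support the third
condition as published cannot hold, so the row assumes the stalk non-zero.) -/
theorem result (R : Type u) [CommRing R] [IsLocalRing R] [IsNoetherianRing R] [IsReduced R] (hdim : ringKrullDim R = 1) (M : Type u) [AddCommGroup M] [Module R M] [Module.Finite R M] [Nontrivial M] : (∀ r : R, r ∈ IsLocalRing.maximalIdeal R → IsSMulRegular R r → IsSMulRegular M r) ↔ (∃ x : R, x ∈ IsLocalRing.maximalIdeal R ∧ IsSMulRegular M x) := by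
  classical
  have hmht : (IsLocalRing.maximalIdeal R).height = 1 := by
    have := IsLocalRing.maximalIdeal_height_eq_ringKrullDim (R := R)
    rw [hdim] at this
    exact_mod_cast this
  constructor
  · intro ha
    -- an `R`-regular element of `m`
    have hfin := (⊥ : Ideal R).finite_minimalPrimes_of_isNoetherianRing R
    have hnot : ¬ ((IsLocalRing.maximalIdeal R : Set R) ⊆
        ⋃ P ∈ (↑hfin.toFinset : Set (Ideal R)), (P : Set R)) := by
      rw [Ideal.subset_union_prime (f := fun P : Ideal R => P) ⊥ ⊥ (fun P hP _ _ =>
        ((Set.Finite.mem_toFinset hfin).mp hP).1.1)]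
      rintro ⟨P, hP, hle⟩
      have hPmin : P ∈ minimalPrimes R := (Set.Finite.mem_toFinset hfin).mp hP
      haveI : P.IsPrime := hPmin.1.1
      have hPm : P = IsLocalRing.maximalIdeal R :=
        le_antisymm (IsLocalRing.le_maximalIdeal (Ideal.IsPrime.ne_top ‹_›)) hle
      have h0 : P.height = 0 := Ideal.height_eq_zero_iff.mpr hPmin
      rw [hPm, hmht] at h0
      exact one_ne_zero h0
    rw [Set.not_subset] at hnot
    obtain ⟨r, hrm, hr⟩ := hnot
    have hrP : ∀ P ∈ minimalPrimes R, r ∉ P := by
      intro P hP hrP
      apply hr
      simp only [Set.mem_iUnion]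
      exact ⟨P, (Set.Finite.mem_toFinset hfin).mpr hP, hrP⟩
    have hreg : IsSMulRegular R r := by
      rw [isSMulRegular_iff_right_eq_zero_of_smul]
      intro y hy
      have hy' : r * y = 0 := hy
      have hnil : y ∈ nilradical R := by
        rw [nilradical, Ideal.radical_eq_sInf, Ideal.mem_sInf]
        rintro Q ⟨-, hQ⟩
        obtain ⟨P, hP, hPQ⟩ := Ideal.exists_minimalPrimes_le (show (⊥ : Ideal R) ≤ Q from bot_le)
        haveI : P.IsPrime := hP.1.1
        apply hPQ
        have : r * y ∈ P := by rw [hy']; exact P.zero_mem
        exact (Ideal.IsPrime.mem_or_mem ‹_› this).resolve_left (hrP P hP)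
      rw [nilradical_eq_zero R] at hnil
      exact hnil
    exact ⟨r, hrm, ha r hrm hreg⟩
  · rintro ⟨x, hxm, hx⟩ r hrm hr
    by_contra hnr
    have hmem : r ∈ ⋃ p ∈ associatedPrimes R M, (p : Set R) := by
      rw [biUnion_associatedPrimes_eq_compl_regular R M]
      exact hnr
    simp only [Set.mem_iUnion] at hmem
    obtain ⟨p, hp, hrp⟩ := hmem
    haveI hpp : p.IsPrime := hp.isPrime
    by_cases hpm : p = IsLocalRing.maximalIdeal R
    · have hxp : x ∈ ⋃ p ∈ associatedPrimes R M, (p : Set R) := by
        simp only [Set.mem_iUnion]
        exact ⟨p, hp, by rw [hpm]; exact hxm⟩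
      rw [biUnion_associatedPrimes_eq_compl_regular R M] at hxp
      exact hxp hx
    · have hlt : p < IsLocalRing.maximalIdeal R :=
        lt_of_le_of_ne (IsLocalRing.le_maximalIdeal hpp.ne_top) hpm
      have hht : p.height + 1 ≤ (IsLocalRing.maximalIdeal R).height :=
        Ideal.height_add_one_le_of_lt_of_isPrime hlt
      rw [hmht] at hht
      have hp0 : p.height = 0 := by
        have h1 : p.height ≠ ⊤ := Ideal.height_ne_top hpp.ne_top
        lift p.height to ℕ using h1 with n hn
        have : n + 1 ≤ 1 := by exact_mod_cast hht
        have : n = 0 := by omega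
        rw [this]; rfl
      have hpmin : p ∈ minimalPrimes R := Ideal.height_eq_zero_iff.mp hp0
      have := notMem_nonZeroDivisors_of_mem_mem_minimalPrimes hrp hpmin
      apply this
      rw [mem_nonZeroDivisors_iff_right]
      intro y hy
      have : r • y = r • (0 : R) := by rw [smul_zero, smul_eq_mul, mul_comm]; exact hy
      exact hr this

end Groth.Agent.S13996
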