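import Groth.Statements.S13998
import Mathlib
import Groth.Agent.Lib.Helper1.ThickFin

set_option autoImplicit false
universe u
open FlatMor

namespace Groth.Agent.S13998

open AlgebraicGeometry CategoryTheory in
/-- Consider a cartesian square of schemes F₀ ≫ j = i ≫ F (so Y₀ = Y ×_X X₀) in which i : Y₀ ⟶ Y and j :
X₀ ⟶ X are closed immersions surjective on points whose ideals are locally nilpotent (nilpotent on
every affine open), and suppose moreover that the ideal of j is of finite type (finitely generated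
on every affine open of X). Then F : Y ⟶ X is finite if and only if F₀ : Y₀ ⟶ X₀ is finite. -/
theorem result {X X₀ Y Y₀ : Scheme.{u}}
    (F : Y ⟶ X) (F₀ : Y₀ ⟶ X₀) (i : Y₀ ⟶ Y) (j : X₀ ⟶ X)
    (hi : MoreMor.IsThickening i) (hj : MoreMor.IsThickening j)
    (hinil : ∀ U : Y.affineOpens, IsNilpotent (i.ker.ideal U))
    (hjnil : ∀ U : X.affineOpens, IsNilpotent (j.ker.ideal U))
    (hfg : ∀ U : X.affineOpens, (j.ker.ideal U).FG)
    (hc : IsPullback F₀ i j F) :
    IsFinite F ↔ IsFinite F₀ := by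
  haveI := hi.1
  haveI := hj.1
  constructor
  · intro hF
    exact MorphismProperty.of_isPullback hc.flip hF
  · intro hF₀
    haveI : IsAffineHom F :=
      (Groth.Agent.H1.ThickAff.isAffineHom_iff_of_thickening i j F₀ F hi.2.surj hc.w.symm).mp
        inferInstance
    refine ⟨fun U hU => ?_⟩
    have hV : IsAffineOpen (F ⁻¹ᵁ U) := hU.preimage F
    have hpo := Groth.Agent.H1.isPushout_appLE_of_isPullback hc.flip hU hV le_rfl
    have hnil : IsNilpotent (RingHom.ker (j.app U).hom) := by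
      have := hjnil ⟨U, hU⟩
      rwa [Scheme.Hom.ker_apply] at this
    have hop : i ⁻¹ᵁ F ⁻¹ᵁ U = F₀ ⁻¹ᵁ j ⁻¹ᵁ U := by
      change (i ≫ F) ⁻¹ᵁ U = (F₀ ≫ j) ⁻¹ᵁ U
      rw [hc.w]
    have hfin : (F₀.appLE (j ⁻¹ᵁ U) (i ⁻¹ᵁ (F ⁻¹ᵁ U)) hop.le).hom.Finite := by
      rw [Scheme.Hom.appLE, CommRingCat.hom_comp]
      refine RingHom.Finite.comp ?_ (F₀.finite_app _ (hU.preimage j))
      apply RingHom.Finite.of_surjective
      have h2 : (homOfLE hop.le) = eqToHom hop := Subsingleton.elim _ _
      rw [h2]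
      exact (ConcreteCategory.bijective_of_isIso (Y₀.presheaf.map (eqToHom hop).op)).2
    have := Groth.Agent.H1.finite_of_isPushout_cat hpo (j.app_surjective U hU) hnil hfin
    rwa [← Scheme.Hom.app_eq_appLE] at this

end Groth.Agent.S13998
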