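import Groth.Statements.S14000
import Groth.Agent.Lib.Helper6.Euler2

set_option autoImplicit false
universe u
open Perf

namespace Groth.Agent.S14000

open CategoryTheory CategoryTheory.Limits in
/-- Let A be a commutative ring and P a strictly perfect complex over A, that is a cochain complex of
finitely generated projective A-modules which is zero outside a finite set s of degrees. Suppose the
cohomological support of P has positive codimension: for every minimal prime q of A and every degree
i the localization at q of the cohomology module H^i(P) is zero. Then the Euler characteristic of P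
vanishes identically: at every prime of A the alternating sum over i ∈ s of the ranks of the P^i is
zero. -/
theorem result {A : Type u} [CommRing A]
    (P : CochainComplex (ModuleCat.{u} A) ℤ) (s : Finset ℤ)
    (hP : ∀ i : ℤ, Module.Finite A (P.X i) ∧ Module.Projective A (P.X i))
    (hs : ∀ i : ℤ, i ∉ s → IsZero (P.X i))
    (hsupp : ∀ q : PrimeSpectrum A, q.asIdeal ∈ minimalPrimes A →
      ∀ i : ℤ, Subsingleton (LocalizedModule q.asIdeal.primeCompl (P.homology i))) :
    ∀ x : PrimeSpectrum A,
      (s.sum fun i => ((i.negOnePow : ℤˣ) : ℤ) * (Module.rankAtStalk (R := A) (P.X i) x : ℤ)) = 0 := by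
  intro x
  obtain ⟨q, hq, hqx⟩ := Ideal.exists_minimalPrimes_le (bot_le : (⊥ : Ideal A) ≤ x.asIdeal)
  haveI hqp : q.IsPrime := Ideal.minimalPrimes_isPrime hq
  let qq : PrimeSpectrum A := ⟨q, hqp⟩
  have hle : qq ≤ x := hqx
  have hrk : ∀ i : ℤ, Module.rankAtStalk (R := A) (P.X i) x =
      Module.rankAtStalk (R := A) (P.X i) qq := by
    intro i
    haveI := (hP i).1
    haveI := (hP i).2
    exact (Module.rankAtStalk_eq_of_le_of_finite_of_flat (P.X i) hle).symm
  simp only [hrk]
  have hH : ∀ i : ℤ, Subsingleton (LocalizedModule q.primeCompl (P.homology i)) :=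
    fun i => hsupp qq hq i
  have hM : ∀ i : ℤ, Module.Finite (Localization.AtPrime q) (LocalizedModule q.primeCompl (P.X i)) ∧
      Module.Projective (Localization.AtPrime q) (LocalizedModule q.primeCompl (P.X i)) := by
    intro i
    haveI := (hP i).1
    haveI := (hP i).2
    exact ⟨inferInstance, inferInstance⟩
  have hsub : ∀ i : ℤ, i ∉ s → Subsingleton (LocalizedModule q.primeCompl (P.X i)) := by
    intro i hi
    haveI : Subsingleton (P.X i) := ModuleCat.subsingleton_of_isZero (hs i hi)
    infer_instance
  exact Groth.Agent.H6.Euler.euler_zero (L := Localization.AtPrime q)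
    (M := fun i => LocalizedModule q.primeCompl (P.X i))
    (fun i => LocalizedModule.map q.primeCompl (P.d i (i + 1)).hom) hM
    (Groth.Agent.H6.Euler.exact_localized P q.primeCompl hH) s hsub

end Groth.Agent.S14000
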