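import Groth.Statements.S14002
import Mathlib

set_option autoImplicit false
universe u
open CAlg

namespace Groth.Agent.S14002

open scoped TensorProduct


/-- If `R ⊗[B] A` is flat over `R`, then `A ⊗[B] -` preserves injections of `R`-modules. -/
theorem lTensor_injective_of_flat_baseChange (B R A : Type u) [CommRing B] [CommRing R] [CommRing A]
    [Algebra B R] [Algebra B A] [Module.Flat R (R ⊗[B] A)]
    (N' N : Type u) [AddCommGroup N'] [AddCommGroup N] [Module R N'] [Module R N]
    [Module B N'] [Module B N] [IsScalarTower B R N'] [IsScalarTower B R N]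
    (f : N' →ₗ[R] N) (hf : Function.Injective f) :
    Function.Injective ((f.restrictScalars B).lTensor A) := by
  rw [LinearMap.lTensor_inj_iff_rTensor_inj]
  have h1 : Function.Injective (f.rTensor (R ⊗[B] A)) :=
    Module.Flat.rTensor_preserves_injective_linearMap f hf
  let e' := TensorProduct.AlgebraTensorModule.cancelBaseChange B R R N' A
  let e := TensorProduct.AlgebraTensorModule.cancelBaseChange B R R N A
  have hcomm : ∀ z, e (f.rTensor (R ⊗[B] A) z) = (f.restrictScalars B).rTensor A (e' z) := by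
    intro z
    induction z using TensorProduct.induction_on with
    | zero => simp
    | add a b ha hb => simp only [map_add, ha, hb]
    | tmul n' w =>
      induction w using TensorProduct.induction_on with
      | zero => simp
      | add a b ha hb => simp only [TensorProduct.tmul_add, map_add, ha, hb]
      | tmul r a =>
        simp [e, e']
  intro z1 z2 h
  obtain ⟨w1, rfl⟩ := e'.surjective z1
  obtain ⟨w2, rfl⟩ := e'.surjective z2
  rw [← hcomm, ← hcomm] at h
  rw [h1 (e.injective h)]

/-- pure tensors `a ⊗ z` with `z ∈ J^m • ⊤` lie in `(JA)^m • ⊤`. -/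
theorem tmul_mem_pow_smul_top (B A : Type u) [CommRing B] [CommRing A] [Algebra B A]
    (J : Ideal B) (X : Type u) [AddCommGroup X] [Module B X] (m : ℕ)
    (z : X) (hz : z ∈ J ^ m • (⊤ : Submodule B X)) (a : A) :
    a ⊗ₜ[B] z ∈ (J.map (algebraMap B A)) ^ m • (⊤ : Submodule A (A ⊗[B] X)) := by
  revert a
  refine Submodule.smul_induction_on hz (fun r hr n _ a => ?_) (fun x y hx hy a => ?_)
  · have : a ⊗ₜ[B] (r • n) = (algebraMap B A r) • (a ⊗ₜ[B] n) := by
      rw [TensorProduct.tmul_smul, TensorProduct.smul_tmul', TensorProduct.smul_tmul']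
      rw [Algebra.smul_def, smul_eq_mul]
    rw [this]
    refine Submodule.smul_mem_smul ?_ Submodule.mem_top
    rw [← Ideal.map_pow]
    exact Ideal.mem_map_of_mem _ hr
  · rw [TensorProduct.tmul_add]
    exact Submodule.add_mem _ (hx a) (hy a)

open TensorProduct in
/-- Flatness of an adic morphism of locally Noetherian formal schemes is detected on the truncations.
Let B → A be a homomorphism of Noetherian rings and J an ideal of B such that A is adically
separated and complete with respect to the extended ideal JA. Then A is a flat B-module if and only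
if for every n ≥ 1 the base change (B/Jⁿ) ⊗_B A = A/JⁿA is a flat (B/Jⁿ)-module. The ring B is not
assumed separated or complete for the J-adic topology. (The published statement is about an adic
morphism of locally Noetherian formal schemes, so that both rings are adic there; the criterion
holds without that assumption on B.) -/
theorem result (B A : Type u) [CommRing B] [CommRing A]
    [IsNoetherianRing B] [IsNoetherianRing A] [Algebra B A] (J : Ideal B)
    [IsAdicComplete (J.map (algebraMap B A)) A] :
    Module.Flat B A ↔ ∀ n : ℕ, 0 < n → Module.Flat (B ⧸ J ^ n) ((B ⧸ J ^ n) ⊗[B] A) := by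
  constructor
  · intro h n _
    infer_instance
  intro H
  rw [Module.Flat.iff_lTensor_injective']
  intro 𝔟
  rw [injective_iff_map_eq_zero]
  intro x hx
  set 𝔞 : Ideal A := J.map (algebraMap B A) with h𝔞
  have hjac : 𝔞 ≤ Ideal.jacobson ⊥ := IsAdicComplete.le_jacobson_bot 𝔞
  have hkrull := Ideal.iInf_pow_smul_eq_bot_of_le_jacobson (M := A ⊗[B] 𝔟) 𝔞 hjac
  suffices hmem : ∀ m : ℕ, x ∈ 𝔞 ^ m • (⊤ : Submodule A (A ⊗[B] 𝔟)) by
    have : x ∈ (⨅ i : ℕ, 𝔞 ^ i • ⊤ : Submodule A (A ⊗[B] 𝔟)) := by
      rw [Submodule.mem_iInf]; exact hmem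
    rw [hkrull] at this
    exact (Submodule.mem_bot _).mp this
  intro m
  -- Artin–Rees
  obtain ⟨c, hc⟩ := Ideal.exists_pow_inf_eq_pow_smul J (M := B) (N := 𝔟)
  set n := m + c + 1 with hn
  have hnpos : 0 < n := by omega
  haveI := H n hnpos
  -- notation
  let Bn := B ⧸ J ^ n
  let 𝔟n : Ideal Bn := 𝔟.map (Ideal.Quotient.mk (J ^ n))
  let q : B →ₗ[B] Bn := Algebra.linearMap B Bn
  let g : 𝔟 →ₗ[B] 𝔟n :=
    (q ∘ₗ 𝔟.subtype).codRestrict (𝔟n.restrictScalars B) (fun b => Ideal.mem_map_of_mem _ b.2)
  have hg : Function.Surjective g := by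
    rintro ⟨y, hy⟩
    obtain ⟨b, hb, rfl⟩ := (Ideal.mem_map_iff_of_surjective _ Ideal.Quotient.mk_surjective).mp hy
    exact ⟨⟨b, hb⟩, rfl⟩
  have hsq : (𝔟n.subtype.restrictScalars B) ∘ₗ g = q ∘ₗ 𝔟.subtype := by
    ext b; rfl
  have hinj : Function.Injective ((𝔟n.subtype.restrictScalars B).lTensor A) :=
    lTensor_injective_of_flat_baseChange B Bn A 𝔟n Bn 𝔟n.subtype Subtype.val_injective
  have hgx : g.lTensor A x = 0 := by
    apply hinj
    rw [map_zero, ← LinearMap.comp_apply, ← LinearMap.lTensor_comp, hsq, LinearMap.lTensor_comp,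
      LinearMap.comp_apply, hx, map_zero]
  have hex : Function.Exact ((LinearMap.ker g).subtype.lTensor A) (g.lTensor A) :=
    lTensor_exact A (LinearMap.exact_subtype_ker_map g) hg
  obtain ⟨y, rfl⟩ := (hex x).mp hgx
  clear hgx hx
  -- elements of ker g lie in J^m • ⊤
  have hker : ∀ k : LinearMap.ker g, (k : 𝔟) ∈ J ^ m • (⊤ : Submodule B 𝔟) := by
    intro k
    have hk : g k = 0 := k.2
    have hk' : ((k : 𝔟) : B) ∈ J ^ n := by
      have : (Ideal.Quotient.mk (J ^ n)) ((k : 𝔟) : B) = 0 := congrArg Subtype.val hk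
      exact Ideal.Quotient.eq_zero_iff_mem.mp this
    have h1 : ((k : 𝔟) : B) ∈ J ^ n • (⊤ : Submodule B B) ⊓ 𝔟 := by
      refine ⟨?_, (k : 𝔟).2⟩
      simpa using hk'
    rw [hc n (by omega)] at h1
    have h2 : J ^ (n - c) • (J ^ c • (⊤ : Submodule B B) ⊓ 𝔟) ≤ J ^ m • (𝔟 : Submodule B B) := by
      exact Submodule.smul_mono (Ideal.pow_le_pow_right (by omega)) inf_le_right
    have h3 := h2 h1
    have h4 : J ^ m • (𝔟 : Submodule B B) = Submodule.map 𝔟.subtype (J ^ m • ⊤) := by
      rw [Submodule.map_smul'', Submodule.map_subtype_top]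
    rw [h4] at h3
    obtain ⟨z, hz, hzk⟩ := h3
    have : z = (k : 𝔟) := Subtype.ext hzk
    rwa [← this]
  induction y using TensorProduct.induction_on with
  | zero => simp
  | add a b ha hb =>
    rw [map_add]
    exact Submodule.add_mem _ ha hb
  | tmul a k =>
    rw [LinearMap.lTensor_tmul]
    exact tmul_mem_pow_smul_top B A J 𝔟 m _ (hker k) a


end Groth.Agent.S14002
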