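import Groth.Statements.S14003
import Groth.Agent.Lib.Lead.QC.DevissageStep
import Groth.Agent.H4.PSch5

set_option autoImplicit false
universe u
open CategoryTheory AlgebraicGeometry
open KZero

namespace Groth.Agent.S14003

/-- Let X be a Noetherian scheme and Y' a closed subset; write K_0 for the Grothendieck group of the
abelian category of coherent O_X-modules with support in Y' (free abelian group on its objects
modulo the relations of short exact sequences). Let (F_a) be a family of such modules such that for
every irreducible closed subset Z ⊆ Y' with generic point ζ there is an index a with the support of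
F_a contained in Z and the stalk of F_a at ζ of length one over the local ring (a one-dimensional
vector space over the residue field). Then the classes of the F_a generate K_0. (The published
statement omits the condition that the support of F_a lie in Z; without it the claim fails already
for the spectrum of a product of two fields, where the modules k_1 ⊕ k_2 ⊕ k_2 and k_1 ⊕ k_1 ⊕ k_2
have one-dimensional stalks at the two points but their classes generate a subgroup of index 3 in
K_0 = ℤ².) -/
theorem result (X : Scheme.{u}) [IsNoetherian X]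
    (Y' : Set X) (hY' : IsClosed Y') {ι : Type u} (F : ι → X.Modules)
    (hF : ∀ a : ι, Coh.IsCoh (F a) ∧ CohB1.support (F a) ⊆ Y')
    (hgen : ∀ (Z : Set X), IsClosed Z → IsIrreducible Z → Z ⊆ Y' → ∀ y : X, closure ({y} : Set X) = Z →
      ∃ a : ι, CohB1.support (F a) ⊆ Z ∧ Module.length (X.presheaf.stalk y) ((F a).presheaf.stalk y) = 1) :
    AddSubgroup.closure (Set.range fun a : ι =>
        KZero.clSub (fun G : X.Modules => Coh.IsCoh G ∧ CohB1.support G ⊆ Y') (F a)) = ⊤ := by
  classical
  set Pc : ObjectProperty X.Modules :=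
    (fun G : X.Modules => Coh.IsCoh G ∧ CohB1.support G ⊆ Y') with hPc
  haveI : Pc.IsClosedUnderIsomorphisms :=
    inferInstanceAs (Groth.Agent.H4.PSch5.PY X Y').IsClosedUnderIsomorphisms
  haveI : Pc.ContainsZero :=
    inferInstanceAs (Groth.Agent.H4.PSch5.PY X Y').ContainsZero
  set H : AddSubgroup (KZero.K0sub Pc) :=
    AddSubgroup.closure (Set.range fun a : ι => KZero.clSub Pc (F a)) with hH
  have hses : ∀ S : CategoryTheory.ShortComplex X.Modules, S.ShortExact → Coh.IsCoh S.X₁ →
      Coh.IsCoh S.X₂ → Coh.IsCoh S.X₃ → CohB1.support S.X₂ ⊆ Y' →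
      KZero.clSub Pc S.X₂ = KZero.clSub Pc S.X₁ + KZero.clSub Pc S.X₃ := by
    intro S hS h1 h2 h3 hs
    haveI := hS.mono_f
    haveI := hS.epi_g
    have q2 : Pc S.X₂ := ⟨h2, hs⟩
    have q1 : Pc S.X₁ := ⟨h1, (Groth.Agent.LD.QC.support_subset_of_mono S.f).trans hs⟩
    have q3 : Pc S.X₃ := ⟨h3, (Groth.Agent.LD.QC.support_subset_of_epi S.g).trans hs⟩
    exact Groth.Agent.H2.KThick.cl_ses Pc S hS q1 q2 q3
  have key : ∀ G : X.Modules, Coh.IsCoh G → CohB1.support G ⊆ Y' → KZero.clSub Pc G ∈ H := by
    intro G₀ hG₀ hG₀s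
    refine Groth.Agent.LD.QC.devissage_master (fun G : X.Modules => KZero.clSub Pc G ∈ H)
      ?_ Y' ?_ ?_ ?_ G₀ hG₀ hG₀s
    · intro A B e hA hPA
      by_cases hPcA : Pc A
      · have := Groth.Agent.H2.KThick.cl_iso Pc e hPcA
        show KZero.clSub Pc B ∈ H
        rw [← this]
        exact hPA
      · have hPcB : ¬ Pc B := fun hB => hPcA (Pc.prop_of_iso e.symm hB)
        have h0 : KZero.clSub Pc B = 0 := by
          unfold KZero.clSub
          rw [dif_neg hPcB]
        show KZero.clSub Pc B ∈ H
        rw [h0]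
        exact H.zero_mem
    · intro Z hZ
      show KZero.clSub Pc Z ∈ H
      rw [Groth.Agent.H2.KThick.cl_zero Pc hZ]
      exact H.zero_mem
    · intro S hS h1 h2 h3 hs p1 p3
      show KZero.clSub Pc S.X₂ ∈ H
      rw [hses S hS h1 h2 h3 hs]
      exact H.add_mem p1 p3
    · intro Y hYc hirr hYX' IH Q hQ hQY
      obtain ⟨y, hy⟩ := QuasiSober.sober hirr hYc
      have hycl : closure {y} = Y := hy.def
      have hyY : y ∈ Y := hycl ▸ subset_closure rfl
      obtain ⟨a, hGY, hlen⟩ := hgen Y hYc hirr hYX' y hycl
      have hG : Coh.IsCoh (F a) := (hF a).1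
      have hKG : KZero.clSub Pc (F a) ∈ H := AddSubgroup.subset_closure ⟨a, rfl⟩
      have hsimp : IsSimpleModule (X.presheaf.stalk y) ((F a).presheaf.stalk y) :=
        Module.length_eq_one_iff.mp hlen
      have hyG : y ∈ CohB1.support (F a) := by
        intro hsub
        haveI := IsSimpleModule.nontrivial (X.presheaf.stalk y) ((F a).presheaf.stalk y)
        exact not_subsingleton ((F a).presheaf.stalk y) hsub
      have hGs : CohB1.support (F a) = Y := by
        apply Set.Subset.antisymm hGY
        rw [← hycl]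
        exact (Groth.Agent.LD.QC.isClosed_support_of_isCoh hG).closure_subset_iff.mpr
          (Set.singleton_subset_iff.mpr hyG)
      have hQ0 : ¬ CategoryTheory.Limits.IsZero Q := by
        intro hz
        have := Groth.Agent.LD.QC.support_eq_empty_of_isZero hz
        rw [hQY] at this
        exact (this ▸ hyY : y ∈ (∅ : Set X))
      refine Groth.Agent.LD.QC.exists_sub_of_subs (fun G : X.Modules => KZero.clSub Pc G ∈ H) Y'
        ?_ (F a) Q hG hQ hQ0 (by rw [hQY, hGs]) (hGs ▸ hYX') ?_
      · intro S hS h1 h2 h3 hs p1 p2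
        show KZero.clSub Pc S.X₃ ∈ H
        have h3' : KZero.clSub Pc S.X₃ = KZero.clSub Pc S.X₂ - KZero.clSub Pc S.X₁ := by
          rw [hses S hS h1 h2 h3 hs, add_sub_cancel_left]
        rw [h3']
        exact H.sub_mem p2 p1
      · intro K k hk hK
        refine @Groth.Agent.LD.QC.sub_of_simple_stalk X _ (fun G : X.Modules => KZero.clSub Pc G ∈ H) Y'
          ?_ Y y hyY (F a) hG hGs hYX' hsimp hKG IH K k hk hK
        intro S hS h1 h2 h3 hs p2 p3
        show KZero.clSub Pc S.X₁ ∈ H
        have h1' : KZero.clSub Pc S.X₁ = KZero.clSub Pc S.X₂ - KZero.clSub Pc S.X₃ := by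
          rw [hses S hS h1 h2 h3 hs, add_sub_cancel_right]
        rw [h1']
        exact H.sub_mem p2 p3
  refine eq_top_iff.mpr fun x _ => ?_
  obtain ⟨z, rfl⟩ := QuotientAddGroup.mk_surjective x
  change (QuotientAddGroup.mk' (KZero.relSub Pc)) z ∈ H
  refine FreeAbelianGroup.induction_on z ?_ ?_ ?_ ?_
  · rw [map_zero]
    exact H.zero_mem
  · intro g
    have := Groth.Agent.H2.KThick.clSub_eq Pc g.2
    have h2 : (QuotientAddGroup.mk' (KZero.relSub Pc)) (FreeAbelianGroup.of g) =
        KZero.clSub Pc g.1 := this.symm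
    rw [h2]
    exact key g.1 g.2.1 g.2.2
  · intro g hg
    rw [map_neg]
    exact H.neg_mem hg
  · intro a b ha hb
    rw [map_add]
    exact H.add_mem ha hb

end Groth.Agent.S14003
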