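import Groth.Statements.S14018
import Mathlib

set_option autoImplicit false
open CategoryTheory CategoryTheory.Limits Opposite
universe w v u
open CohSite

namespace Groth.Agent.S14018

/-- Let (C, J) be a site with enough weakly contractible objects — every object V has a covering sieve
all of whose arrows factor through some weakly contractible object, an object U being weakly
contractible when every epimorphism of sheaves of sets (valued in a fixed universe) is surjective on
sections over U. Then the topos of sheaves of sets is replete: if (F_n) is an inverse system of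
sheaves of sets indexed by ℕ with every transition map F_(n+1) ⟶ F_n an epimorphism, then each
projection lim_n F_n ⟶ F_n is an epimorphism; the limit is taken as any limit cone. (The small
pro-étale site of a scheme is such a site.) -/
theorem result
    {C : Type u} [Category.{v} C] (J : GrothendieckTopology C)
    (hwc : ∀ V : C, ∃ S : Sieve V, S ∈ J V ∧ ∀ ⦃W : C⦄ (f : W ⟶ V), S.arrows f →
      ∃ (U : C) (g : W ⟶ U) (h : U ⟶ V), (∀ (A B : Sheaf J (Type w)) (ψ : A ⟶ B), Epi ψ → Function.Surjective (ψ.hom.app (op U))) ∧ g ≫ h = f)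
    (F : ℕᵒᵖ ⥤ Sheaf J (Type w))
    (hF : ∀ n : ℕ, Epi (F.map (homOfLE (Nat.le_succ n)).op))
    (c : Cone F) (hc : IsLimit c) (n : ℕ) :
    Epi (c.π.app (op n)) := by
  classical
  -- shift functor on ℕ
  have hmono : Monotone (fun m : ℕ => n + m) := fun a b h => Nat.add_le_add_left h n
  haveI hfin : hmono.functor.Final := by
    rw [Monotone.final_functor_iff]
    intro j
    exact ⟨j, Nat.le_add_left j n⟩
  let sh : ℕᵒᵖ ⥤ ℕᵒᵖ := hmono.functor.op
  haveI : sh.Initial := inferInstance
  -- surjectivity on sections over weakly contractible objects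
  have hsurj : ∀ U : C,
      (∀ (A B : Sheaf J (Type w)) (ψ : A ⟶ B), Epi ψ → Function.Surjective (ψ.hom.app (op U))) →
      Function.Surjective ((c.π.app (op n)).hom.app (op U)) := by
    intro U hU
    let E : Sheaf J (Type w) ⥤ Type w :=
      sheafToPresheaf J (Type w) ⋙ (evaluation Cᵒᵖ (Type w)).obj (op U)
    have hlim : IsLimit (E.mapCone c) := isLimitOfPreserves E hc
    have hlim' : IsLimit ((E.mapCone c).whisker sh) :=
      (Functor.Initial.isLimitWhiskerEquiv sh _).symm hlim
    have := Types.surjective_π_app_zero_of_surjective_map hlim' (fun m =>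
      hU _ _ (F.map (homOfLE (Nat.le_succ (n + m))).op) (hF (n + m)))
    exact this
  suffices hls : Sheaf.IsLocallySurjective (c.π.app (op n)) from
    Sheaf.epi_of_isLocallySurjective' _
  refine ⟨fun {V} s => ?_⟩
  obtain ⟨R, hR, hfacR⟩ := hwc V
  refine J.superset_covering ?_ hR
  intro W a ha
  obtain ⟨U, g, h, hU, rfl⟩ := hfacR a ha
  obtain ⟨t, ht⟩ := hsurj U hU ((F.obj (op n)).obj.map h.op s)
  refine ⟨c.pt.obj.map g.op t, ?_⟩
  have nat : (c.π.app (op n)).hom.app (op W) (c.pt.obj.map g.op t) =
      (F.obj (op n)).obj.map g.op ((c.π.app (op n)).hom.app (op U) t) :=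
    NatTrans.naturality_apply (c.π.app (op n)).hom g.op t
  rw [ht] at nat
  rw [nat]
  change _ = (F.obj (op n)).obj.map (g ≫ h).op s
  rw [op_comp, Functor.map_comp]
  rfl

end Groth.Agent.S14018
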