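import Groth.Statements.S14020
import Mathlib.Tactic
import Mathlib.Algebra.Module.Torsion.Basic
import Mathlib.RingTheory.Finiteness.Basic
import Mathlib.RingTheory.Finiteness.Ideal
-- import your own Groth.Agent.* helpers here

set_option autoImplicit false
universe u
open CAlg

namespace Groth.Agent.S14020

/-- Let R be a commutative ring and I a finitely generated ideal such that the quotient ring R/I is
artinian. Then R/I^n is artinian for every n. -/
theorem result
    (R : Type u) [CommRing R] (I : Ideal R) (hI : I.FG) [IsArtinianRing (R ⧸ I)] (n : ℕ) :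
    IsArtinianRing (R ⧸ I ^ n) := by
  classical
  have hkey : ∀ (K : Type u) [AddCommGroup K] [Module R K], Module.Finite R K →
      Module.IsTorsionBySet R K I → IsArtinian R K := by
    intro K _ _ hfin htor
    letI := htor.module
    haveI : IsScalarTower R (R ⧸ I) K := htor.isScalarTower
    haveI : Module.Finite (R ⧸ I) K := Module.Finite.of_restrictScalars_finite R (R ⧸ I) K
    haveI : IsArtinian (R ⧸ I) K := inferInstance
    exact isArtinian_of_surjective_algebraMap (R := R ⧸ I) (S := R) Ideal.Quotient.mk_surjective
  have hmod : ∀ n, IsArtinian R (R ⧸ I ^ n) := by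
    intro n
    induction n with
    | zero =>
      haveI : Subsingleton (R ⧸ I ^ 0) := by
        rw [pow_zero, Ideal.one_eq_top]
        exact Ideal.Quotient.subsingleton_iff.mpr rfl
      exact isArtinian_of_finite
    | succ n ih =>
      have hle : I ^ (n + 1) ≤ I ^ n := Ideal.pow_le_pow_right (Nat.le_succ n)
      let g : (R ⧸ I ^ (n + 1)) →ₗ[R] (R ⧸ I ^ n) :=
        Submodule.mapQ (I ^ (n + 1)) (I ^ n) LinearMap.id hle
      have hker : LinearMap.ker g = Submodule.map (I ^ (n + 1)).mkQ (I ^ n) := by
        ext x
        obtain ⟨r, rfl⟩ := Submodule.mkQ_surjective _ x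
        simp only [LinearMap.mem_ker, Submodule.mem_map]
        constructor
        · intro h
          have : r ∈ I ^ n := by
            have h' : (Submodule.Quotient.mk r : R ⧸ I ^ n) = 0 := h
            exact (Submodule.Quotient.mk_eq_zero _).mp h'
          exact ⟨r, this, rfl⟩
        · rintro ⟨r', hr', h⟩
          have h1 : r' - r ∈ I ^ (n + 1) := by
            have : (I ^ (n + 1)).mkQ (r' - r) = 0 := by rw [map_sub, h, sub_self]
            exact (Submodule.Quotient.mk_eq_zero _).mp this
          have h2 : r ∈ I ^ n := by
            have := Ideal.sub_mem _ hr' (hle h1)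
            simpa using this
          show (Submodule.Quotient.mk r : R ⧸ I ^ n) = 0
          exact (Submodule.Quotient.mk_eq_zero _).mpr h2
      haveI : IsArtinian R (LinearMap.ker g) := by
        apply hkey
        · rw [hker]
          exact Module.Finite.of_fg (Submodule.FG.map _ (hI.pow (n := n)))
        · intro x a
          obtain ⟨x, hx⟩ := x
          rw [hker] at hx
          obtain ⟨r, hr, rfl⟩ := hx
          ext
          show (a : R) • (I ^ (n + 1)).mkQ r = 0
          rw [← map_smul]
          apply (Submodule.Quotient.mk_eq_zero _).mpr
          rw [smul_eq_mul, pow_succ']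
          exact Ideal.mul_mem_mul a.2 hr
      exact isArtinian_of_range_eq_ker (LinearMap.ker g).subtype g (Submodule.range_subtype _)
  exact isArtinian_of_tower R (hmod n)

end Groth.Agent.S14020
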