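import Groth.Statements.S14026
import Mathlib

set_option autoImplicit false
open CategoryTheory CategoryTheory.Limits Opposite
universe v u
open CohSite

namespace Groth.Agent.S14026

/-- Let C be a site with topology J and U an object of C such that every object has at most one morphism
to U (a subobject of the terminal object). For sheaves of sets, let j^* be restriction to the
localized site C/U and j_! its left adjoint (extension by the empty set), which exists under the
stated sheafification and Kan-extension hypotheses. Then for every sheaf F on C/U the unit morphism
F ⟶ j^* j_! F is an isomorphism. -/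
theorem result
    {C : Type u} [Category.{v} C] (J : GrothendieckTopology C) (U : C)
    (hU : ∀ V : C, Subsingleton (V ⟶ U))
    [HasWeakSheafify J (Type (max u v))]
    [∀ (P : (Over U)ᵒᵖ ⥤ (Type (max u v))), (Over.forget U).op.HasLeftKanExtension P]
    (F : Sheaf (J.over U) (Type (max u v))) :
    IsIso (((Over.forget U).sheafAdjunctionContinuous (Type (max u v)) (J.over U) J).unit.app F) := by
  classical
  let G : Over U ⥤ C := Over.forget U
  have hfaith : G.Faithful := inferInstance
  have hfull : G.Full := ⟨fun {X Y} f => ⟨Over.homMk f ((hU _).elim _ _), rfl⟩⟩
  have hfull' : G.op.Full := inferInstance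
  have hfaith' : G.op.Faithful := inferInstance
  let t : Adjunction.Triple (G.sheafPullback (Type (max u v)) (J.over U) J)
      (G.sheafPushforwardContinuous (Type (max u v)) (J.over U) J)
      (G.sheafPushforwardCocontinuous (Type (max u v)) (J.over U) J) :=
    { adj₁ := G.sheafAdjunctionContinuous (Type (max u v)) (J.over U) J
      adj₂ := G.sheafAdjunctionCocontinuous (Type (max u v)) (J.over U) J }
  have h2 : IsIso t.adj₂.counit := by
    have : ∀ F : Sheaf (J.over U) (Type (max u v)), IsIso (t.adj₂.counit.app F) := by
      intro F
      have : IsIso ((sheafToPresheaf _ _).map (t.adj₂.counit.app F)) := by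
        change IsIso ((G.sheafAdjunctionCocontinuous (Type (max u v)) (J.over U) J).counit.app F).hom
        rw [Functor.sheafAdjunctionCocontinuous_counit_app_hom]
        have : G.op.HasPointwiseRightKanExtension F.obj := inferInstance
        have h3 : IsIso ((G.op.ranAdjunction (Type (max u v))).counit.app F.obj) := inferInstance
        exact h3
      exact isIso_of_reflects_iso _ (sheafToPresheaf _ _)
    exact NatIso.isIso_of_isIso_app _
  have h1 : IsIso t.adj₁.unit := t.isIso_unit_iff_isIso_counit.2 h2
  exact (inferInstance : IsIso (t.adj₁.unit.app F))

end Groth.Agent.S14026
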