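import Groth.Statements.S14027
import Mathlib

set_option autoImplicit false
open CategoryTheory CategoryTheory.Limits Opposite
universe v u
open CohSite

namespace Groth.Agent.S14027

/-- Let C be a site with topology J and U an object of C such that every object has at most one morphism
to U (a subobject of the terminal object). For abelian sheaves, let j^* be restriction to the
localized site C/U and j_! its left adjoint (extension by zero), which exists under the stated
sheafification and Kan-extension hypotheses. Then for every sheaf F on C/U the unit morphism F ⟶ j^*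
j_! F is an isomorphism. -/
theorem result
    {C : Type u} [Category.{v} C] (J : GrothendieckTopology C) (U : C)
    (hU : ∀ V : C, Subsingleton (V ⟶ U))
    [HasWeakSheafify J AddCommGrpCat.{max u v}]
    [∀ (P : (Over U)ᵒᵖ ⥤ AddCommGrpCat.{max u v}), (Over.forget U).op.HasLeftKanExtension P]
    (F : Sheaf (J.over U) AddCommGrpCat.{max u v}) :
    IsIso (((Over.forget U).sheafAdjunctionContinuous AddCommGrpCat.{max u v} (J.over U) J).unit.app F) := by
  classical
  let G : Over U ⥤ C := Over.forget U
  have hfaith : G.Faithful := inferInstance
  have hfull : G.Full := ⟨fun {X Y} f => ⟨Over.homMk f ((hU _).elim _ _), rfl⟩⟩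
  have hfull' : G.op.Full := inferInstance
  have hfaith' : G.op.Faithful := inferInstance
  let t : Adjunction.Triple (G.sheafPullback AddCommGrpCat.{max u v} (J.over U) J)
      (G.sheafPushforwardContinuous AddCommGrpCat.{max u v} (J.over U) J)
      (G.sheafPushforwardCocontinuous AddCommGrpCat.{max u v} (J.over U) J) :=
    { adj₁ := G.sheafAdjunctionContinuous AddCommGrpCat.{max u v} (J.over U) J
      adj₂ := G.sheafAdjunctionCocontinuous AddCommGrpCat.{max u v} (J.over U) J }
  have h2 : IsIso t.adj₂.counit := by
    have : ∀ F : Sheaf (J.over U) AddCommGrpCat.{max u v}, IsIso (t.adj₂.counit.app F) := by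
      intro F
      have : IsIso ((sheafToPresheaf _ _).map (t.adj₂.counit.app F)) := by
        change IsIso ((G.sheafAdjunctionCocontinuous AddCommGrpCat.{max u v} (J.over U) J).counit.app F).hom
        rw [Functor.sheafAdjunctionCocontinuous_counit_app_hom]
        have : G.op.HasPointwiseRightKanExtension F.obj := inferInstance
        have h3 : IsIso ((G.op.ranAdjunction AddCommGrpCat.{max u v}).counit.app F.obj) := inferInstance
        exact h3
      exact isIso_of_reflects_iso _ (sheafToPresheaf _ _)
    exact NatIso.isIso_of_isIso_app _
  have h1 : IsIso t.adj₁.unit := t.isIso_unit_iff_isIso_counit.2 h2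
  exact (inferInstance : IsIso (t.adj₁.unit.app F))

end Groth.Agent.S14027
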