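import Groth.Statements.S14029
import Mathlib
import Groth.Agent.S14026

set_option autoImplicit false
open CategoryTheory CategoryTheory.Limits Opposite
universe v u
open CohSite

namespace Groth.Agent.S14029

/-- Let (C, J) be a site and U an object such that every object has at most one morphism to U; assume
extension by the empty set j_! from sheaves of sets on the localized site C/U to sheaves of sets on
C exists (through sheafification on C and left Kan extensions along C/U → C). If V is weakly
contractible in C — every epimorphism of sheaves of sets on C is surjective on sections over V —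
then for any morphism a : V ⟶ U the object V → U of C/U is weakly contractible in C/U: every
epimorphism of sheaves of sets on C/U is surjective on sections over it. Hence C/U has enough weakly
contractible objects when C does. -/
theorem result
    {C : Type u} [Category.{v} C] (J : GrothendieckTopology C) (U : C)
    (hU : ∀ W : C, Subsingleton (W ⟶ U))
    [HasWeakSheafify J (Type (max u v))]
    [∀ (P : (Over U)ᵒᵖ ⥤ Type (max u v)), (Over.forget U).op.HasLeftKanExtension P]
    (V : C) (hV : (∀ (A B : Sheaf J (Type (max u v))) (ψ : A ⟶ B), Epi ψ → Function.Surjective (ψ.hom.app (op V)))) (a : V ⟶ U) :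
    ∀ (A B : Sheaf (J.over U) (Type (max u v))) (ψ : A ⟶ B), Epi ψ →
      Function.Surjective (ψ.hom.app (op (Over.mk a))) := by
  classical
  intro A B ψ hψ b
  let G : Over U ⥤ C := Over.forget U
  let adj := G.sheafAdjunctionContinuous (Type (max u v)) (J.over U) J
  let L := G.sheafPullback (Type (max u v)) (J.over U) J
  let R := G.sheafPushforwardContinuous (Type (max u v)) (J.over U) J
  have hA : IsIso (adj.unit.app A) := Groth.Agent.S14026.result J U hU A
  have hB : IsIso (adj.unit.app B) := Groth.Agent.S14026.result J U hU B
  have hepi : Epi (L.map ψ) := by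
    haveI : L.IsLeftAdjoint := adj.isLeftAdjoint
    infer_instance
  have hsurj := hV _ _ (L.map ψ) hepi
  -- sections of the unit maps over `Over.mk a`
  let W : (Over U)ᵒᵖ := op (Over.mk a)
  have hAbij : Function.Bijective ((adj.unit.app A).hom.app W) := by
    have : IsIso ((adj.unit.app A).hom.app W) := by
      have : IsIso ((sheafToPresheaf _ _).map (adj.unit.app A)) := inferInstance
      exact (inferInstance : IsIso (((sheafToPresheaf _ _).map (adj.unit.app A)).app W))
    exact (isIso_iff_bijective _).1 this
  have hBbij : Function.Bijective ((adj.unit.app B).hom.app W) := by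
    have : IsIso ((adj.unit.app B).hom.app W) := by
      have : IsIso ((sheafToPresheaf _ _).map (adj.unit.app B)) := inferInstance
      exact (inferInstance : IsIso (((sheafToPresheaf _ _).map (adj.unit.app B)).app W))
    exact (isIso_iff_bijective _).1 this
  obtain ⟨x, hx⟩ := hsurj ((adj.unit.app B).hom.app W b)
  obtain ⟨a', ha'⟩ := hAbij.2 x
  refine ⟨a', hBbij.1 ?_⟩
  have nat : ψ ≫ adj.unit.app B = adj.unit.app A ≫ R.map (L.map ψ) := adj.unit.naturality ψ
  have nat' := congrArg (fun φ => φ.hom.app W a') nat
  change (adj.unit.app B).hom.app W (ψ.hom.app W a') = _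
  refine (nat' : (adj.unit.app B).hom.app W (ψ.hom.app W a') =
    (R.map (L.map ψ)).hom.app W ((adj.unit.app A).hom.app W a')).trans ?_
  change (L.map ψ).hom.app (op V) ((adj.unit.app A).hom.app W a') = _
  rw [ha', hx]

end Groth.Agent.S14029
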