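import Groth.Statements.S14035
import Groth.Agent.Lib.Helper1.FibreNak

set_option autoImplicit false
universe u v
open W4c1frobunstiva

namespace Groth.Agent.S14035


open TensorProduct in
/-- Let A → B be a ring homomorphism with B Noetherian. If B modulo its nilradical is flat over A and
every fibre ring κ(p) ⊗_A B, p a prime of A, is reduced, then B is reduced. (This is the affine form
of the statement for a morphism of schemes X → Y all of whose fibres are reduced and whose
restriction to the reduced closed subscheme X_red is flat. The published statement does not say X is
locally Noetherian, but its proof applies Nakayama's lemma to the nilradical as a finitely generated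
ideal; without it the square-zero extension of a discrete valuation ring A by Frac(A)/A is a
counterexample.) -/
theorem result (A : Type u) (B : Type v)
    [CommRing A] [CommRing B] [Algebra A B] [IsNoetherianRing B]
    [Module.Flat A (B ⧸ nilradical B)]
    (hfib : ∀ p : PrimeSpectrum A, IsReduced (p.asIdeal.ResidueField ⊗[A] B)) :
    IsReduced B := by
  rw [← nilradical_eq_bot_iff]
  have hsub : Subsingleton (nilradical B) := by
    refine Groth.Agent.H1.FibreNak.subsingleton_of_fibres (A := A) (B := B) (nilradical B)
      (fun p => ?_)
    haveI := hfib p
    let g : nilradical B →ₗ[A] B := (Submodule.subtype (nilradical B)).restrictScalars A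
    let f : B →ₗ[A] B ⧸ nilradical B := (Ideal.Quotient.mkₐ A (nilradical B)).toLinearMap
    have hf : Function.Surjective f := Ideal.Quotient.mk_surjective
    have hg : Function.Injective g := Subtype.val_injective
    have H : Function.Exact g f := by
      intro b
      constructor
      · intro hb
        have : b ∈ nilradical B := Ideal.Quotient.eq_zero_iff_mem.mp hb
        exact ⟨⟨b, this⟩, rfl⟩
      · rintro ⟨n, rfl⟩
        exact Ideal.Quotient.eq_zero_iff_mem.mpr n.2
    have hinj := LinearMap.lTensor_injective_of_exact_of_flat f hf g hg H p.asIdeal.ResidueField
    have hnil : ∀ x : p.asIdeal.ResidueField ⊗[A] (nilradical B),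
        IsNilpotent (g.lTensor p.asIdeal.ResidueField x) := by
      intro x
      induction x using TensorProduct.induction_on with
      | zero => rw [map_zero]; exact IsNilpotent.zero
      | tmul k n =>
        rw [LinearMap.lTensor_tmul]
        obtain ⟨m, hm⟩ := (mem_nilradical.mp n.2)
        refine ⟨m, ?_⟩
        have h1 : (k ⊗ₜ[A] (n : B)) ^ m = (k ^ m) ⊗ₜ[A] ((n : B) ^ m) :=
          Algebra.TensorProduct.tmul_pow k (n : B) m
        change (k ⊗ₜ[A] (n : B)) ^ m = 0
        rw [h1, hm, TensorProduct.tmul_zero]
      | add x y hx hy =>
        rw [map_add]
        exact Commute.isNilpotent_add (Commute.all _ _) hx hy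
    refine ⟨fun x y => hinj ?_⟩
    rw [(hnil x).eq_zero, (hnil y).eq_zero]
  exact (Submodule.subsingleton_iff_eq_bot).mp hsub

end Groth.Agent.S14035
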