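import Groth.Statements.S14046
import Mathlib.Tactic
import Mathlib.RingTheory.Flat.Equalizer
import Mathlib.LinearAlgebra.TensorProduct.RightExactness
-- import your own Groth.Agent.* helpers here

set_option autoImplicit false
universe u v w
open W4c1frobunstiva

namespace Groth.Agent.S14046

open TensorProduct in
/-- Let R → A be a homomorphism of commutative rings and I, J ideals of A with I ∩ J = 0 — so that A is
the fibre product of A/I and A/J over A/(I + J), i.e. Spec A is the union of the two closed
subschemes in the strong sense — and suppose A/(I + J) is flat over R. Then this persists under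
every base change: for every commutative R-algebra R', the ideals generated by I and J in R' ⊗_R A
again meet in 0. (This is the ideal-theoretic, affine form of the base-change step; the exact
sequence of unit sheaves deduced from it in the published statement — restriction of units to a
closed subscheme being surjective locally — is not restated. Without flatness of A/(I + J) the
conclusion fails: for A = k[x, y]/(xy) over R = k[u] with u ↦ x + y, I = (x) and J = (y), the base
change to R/(u) gives k[x]/(x²), in which both ideals become (x).) -/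
theorem result (R : Type u) (A : Type v)
    [CommRing R] [CommRing A] [Algebra R A] (I J : Ideal A) (hIJ : I ⊓ J = ⊥)
    [Module.Flat R (A ⧸ (I ⊔ J))] (R' : Type w) [CommRing R'] [Algebra R R'] :
    I.map (Algebra.TensorProduct.includeRight : A →ₐ[R] R' ⊗[R] A) ⊓
      J.map (Algebra.TensorProduct.includeRight : A →ₐ[R] R' ⊗[R] A) = ⊥ := by
  classical
  rw [eq_bot_iff]
  intro z hz
  obtain ⟨hzI, hzJ⟩ := hz
  -- the R-linear maps
  let sI : (I.restrictScalars R) →ₗ[R] A := (I.restrictScalars R).subtype
  let sJ : (J.restrictScalars R) →ₗ[R] A := (J.restrictScalars R).subtype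
  let qJ : A →ₗ[R] A ⧸ J := (Ideal.Quotient.mkₐ R J).toLinearMap
  let g : (I.restrictScalars R) →ₗ[R] A ⧸ J := qJ ∘ₗ sI
  let f : A ⧸ J →ₗ[R] A ⧸ (I ⊔ J) :=
    (Ideal.Quotient.factorₐ R (le_sup_right : J ≤ I ⊔ J)).toLinearMap
  have hf : Function.Surjective f := Ideal.Quotient.factor_surjective (le_sup_right : J ≤ I ⊔ J)
  have hg : Function.Injective g := by
    rw [← LinearMap.ker_eq_bot, eq_bot_iff]
    rintro ⟨x, hx⟩ hx'
    have h1 : Ideal.Quotient.mk J x = 0 := hx'
    rw [Ideal.Quotient.eq_zero_iff_mem] at h1
    have h2 : x ∈ I ⊓ J := ⟨hx, h1⟩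
    rw [hIJ] at h2
    have h3 : x = 0 := h2
    subst h3
    rfl
  have H : Function.Exact g f := by
    intro y
    constructor
    · intro hy
      obtain ⟨b, rfl⟩ := Ideal.Quotient.mk_surjective y
      have h1 : Ideal.Quotient.mk (I ⊔ J) b = 0 := hy
      rw [Ideal.Quotient.eq_zero_iff_mem, Submodule.mem_sup] at h1
      obtain ⟨i, hi, j, hj, hij⟩ := h1
      refine ⟨⟨i, hi⟩, ?_⟩
      show Ideal.Quotient.mk J i = Ideal.Quotient.mk J b
      rw [Ideal.Quotient.eq, ← hij]
      simpa using J.neg_mem hj
    · rintro ⟨⟨x, hx⟩, rfl⟩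
      show Ideal.Quotient.factor (le_sup_right : J ≤ I ⊔ J) (Ideal.Quotient.mk J x) = 0
      rw [Ideal.Quotient.factor_mk, Ideal.Quotient.eq_zero_iff_mem]
      exact Ideal.mem_sup_left hx
  have key := LinearMap.lTensor_injective_of_exact_of_flat f hf g hg H R'
  have hI := Ideal.map_includeRight_eq (R := R) (A := R') I
  have hJ := Ideal.map_includeRight_eq (R := R) (A := R') J
  have hzI' : z ∈ LinearMap.range (LinearMap.lTensor R' sI) := by
    rw [← hI]; exact hzI
  have hzJ' : z ∈ LinearMap.range (LinearMap.lTensor R' sJ) := by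
    rw [← hJ]; exact hzJ
  obtain ⟨w, rfl⟩ := hzI'
  obtain ⟨w', hw'⟩ := hzJ'
  have h0 : LinearMap.lTensor R' qJ (LinearMap.lTensor R' sI w) = 0 := by
    rw [← hw', ← LinearMap.comp_apply, ← LinearMap.lTensor_comp]
    have : qJ ∘ₗ sJ = 0 := by
      ext ⟨x, hx⟩
      show Ideal.Quotient.mk J x = 0
      rw [Ideal.Quotient.eq_zero_iff_mem]; exact hx
    rw [this, LinearMap.lTensor_zero, LinearMap.zero_apply]
  have h1 : LinearMap.lTensor R' g w = 0 := by
    rw [LinearMap.lTensor_comp, LinearMap.comp_apply]; exact h0
  have h2 : w = 0 := key (by rw [h1, map_zero])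
  rw [h2, map_zero]
  exact Submodule.zero_mem _

end Groth.Agent.S14046
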