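import Groth.Statements.S14048
import Mathlib

set_option autoImplicit false
universe u
open TensorProduct
open CAlg

namespace Groth.Agent.S14048

open Polynomial

/-- the `p`-integral rationals -/
def Tp (p : ℕ) [Fact p.Prime] : Subring ℚ where
  carrier := {x | padicNorm p x ≤ 1}
  zero_mem' := by simp [padicNorm.zero]
  one_mem' := by simp [padicNorm.one]
  add_mem' := by
    intro a b ha hb
    exact le_trans padicNorm.nonarchimedean (max_le ha hb)
  mul_mem' := by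
    intro a b ha hb
    show padicNorm p (a * b) ≤ 1
    rw [padicNorm.mul]
    exact mul_le_one₀ ha (padicNorm.nonneg _) hb
  neg_mem' := by
    intro a ha
    show padicNorm p (-a) ≤ 1
    rw [padicNorm.neg]; exact ha

theorem mem_Tp (p : ℕ) [Fact p.Prime] (x : ℚ) : x ∈ Tp p ↔ padicNorm p x ≤ 1 := Iff.rfl

theorem int_mem_Tp (p : ℕ) [Fact p.Prime] (z : ℤ) : (z : ℚ) ∈ Tp p := padicNorm.of_int z

theorem inv_int_mem_Tp (p : ℕ) [Fact p.Prime] (z : ℤ) (hz : ¬ (p : ℤ) ∣ z) :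
    ((z : ℚ))⁻¹ ∈ Tp p := by
  rw [mem_Tp]
  have h1 : padicNorm p (z : ℚ) = 1 := (padicNorm.int_eq_one_iff z).mpr hz
  have : padicNorm p ((z : ℚ))⁻¹ = 1 := by
    rw [← one_div, padicNorm.div, padicNorm.one, h1, div_one]
  rw [this]

theorem inv_p_not_mem_Tp (p : ℕ) [hp : Fact p.Prime] : ((p : ℚ))⁻¹ ∉ Tp p := by
  rw [mem_Tp]
  have : padicNorm p ((p : ℚ))⁻¹ = p := by
    rw [← one_div, padicNorm.div, padicNorm.one, padicNorm.padicNorm_p hp.out.one_lt, one_div,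
      inv_inv]
  rw [this, not_le]
  exact_mod_cast hp.out.one_lt

/-- if `x * 2^k` is an integer and `p` is odd then `x` is `p`-integral -/
theorem mem_Tp_of_mul_two_pow (p : ℕ) [hp : Fact p.Prime] (hp2 : p ≠ 2) (x : ℚ) (k : ℕ) (m : ℤ)
    (h : x * 2 ^ k = m) : x ∈ Tp p := by
  have h2 : ¬ (p : ℤ) ∣ (2 ^ k : ℤ) := by
    intro hd
    have := Int.Prime.dvd_pow' hp.out hd
    have h3 : p ∣ 2 := by exact_mod_cast this
    exact hp2 ((Nat.prime_dvd_prime_iff_eq hp.out Nat.prime_two).mp h3)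
  have hx : x = (m : ℚ) * (((2 ^ k : ℤ) : ℚ))⁻¹ := by
    have h2k : ((2 ^ k : ℤ) : ℚ) ≠ 0 := by positivity
    field_simp
    rw [← h]; push_cast; ring
  rw [hx]
  exact (Tp p).mul_mem (int_mem_Tp p m) (inv_int_mem_Tp p _ h2)

section setup
variable (A : Type u) [CommRing A]

/-- the structure map `ℤ[1/2] → A` -/
noncomputable def jmap (h2 : IsUnit (2 : A)) : Localization.Away (2 : ℤ) →+* A :=
  IsLocalization.Away.lift (2 : ℤ) (g := Int.castRingHom A) (by simpa using h2)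

theorem jmap_int (h2 : IsUnit (2 : A)) (z : ℤ) :
    jmap A h2 (algebraMap ℤ (Localization.Away (2 : ℤ)) z) = (z : A) := by
  rw [jmap, IsLocalization.Away.lift_eq]
  rfl

/-- `ℤ[1/2] → ℚ` -/
noncomputable def κ : Localization.Away (2 : ℤ) →+* ℚ :=
  IsLocalization.Away.lift (2 : ℤ) (g := Int.castRingHom ℚ) (by
    rw [isUnit_iff_ne_zero]; norm_num)

theorem κ_int (z : ℤ) : κ (algebraMap ℤ (Localization.Away (2 : ℤ)) z) = (z : ℚ) := by
  rw [κ, IsLocalization.Away.lift_eq]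
  rfl

theorem ringHom_ext_Z2 {B : Type*} [CommRing B] (f g : Localization.Away (2 : ℤ) →+* B) : f = g := by
  apply IsLocalization.ringHom_ext (Submonoid.powers (2 : ℤ))
  exact RingHom.ext_int _ _

theorem s_jmap (h2 : IsUnit (2 : A)) (s : A →+* Localization.Away (2 : ℤ))
    (x : Localization.Away (2 : ℤ)) : s (jmap A h2 x) = x := by
  have := ringHom_ext_Z2 (s.comp (jmap A h2)) (RingHom.id _)
  exact RingHom.congr_fun this x

theorem κ_mem_Tp (p : ℕ) [Fact p.Prime] (hp2 : p ≠ 2) (x : Localization.Away (2 : ℤ)) :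
    κ x ∈ Tp p := by
  obtain ⟨⟨m, ⟨_, k, rfl⟩⟩, hx⟩ := IsLocalization.surj (Submonoid.powers (2 : ℤ)) x
  simp only at hx
  have := congrArg κ hx
  rw [map_mul, κ_int, κ_int] at this
  apply mem_Tp_of_mul_two_pow p hp2 (κ x) k m
  rw [this.symm]
  push_cast
  rfl

end setup

section iota
variable (A : Type u) [CommRing A] (t : A)
  (h1 : Function.Bijective (Polynomial.aeval (R := ℚ) ((1 : ℚ) ⊗ₜ[ℤ] t : ℚ ⊗[ℤ] A)))

/-- the identification `ℚ[X] ≃ ℚ ⊗ A` -/
noncomputable def E : ℚ[X] ≃ₐ[ℚ] ℚ ⊗[ℤ] A :=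
  AlgEquiv.ofBijective (aeval ((1 : ℚ) ⊗ₜ[ℤ] t)) h1

/-- the embedding `A → ℚ[X]` -/
noncomputable def ι : A →+* ℚ[X] :=
  ((E A t h1).symm : ℚ ⊗[ℤ] A →+* ℚ[X]).comp
    (Algebra.TensorProduct.includeRight : A →ₐ[ℤ] ℚ ⊗[ℤ] A).toRingHom

theorem ι_apply (a : A) : ι A t h1 a = (E A t h1).symm ((1 : ℚ) ⊗ₜ[ℤ] a) := rfl

theorem E_ι (a : A) : E A t h1 (ι A t h1 a) = (1 : ℚ) ⊗ₜ[ℤ] a := by
  rw [ι_apply, AlgEquiv.apply_symm_apply]

theorem E_X : E A t h1 X = (1 : ℚ) ⊗ₜ[ℤ] t := by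
  show aeval ((1 : ℚ) ⊗ₜ[ℤ] t) X = _
  rw [aeval_X]

theorem ι_t : ι A t h1 t = X := by
  rw [ι_apply, ← E_X A t h1, AlgEquiv.symm_apply_apply]

theorem ι_injective (htf : ∀ (n : ℤ) (a : A), n ≠ 0 → n • a = 0 → a = 0) :
    Function.Injective (ι A t h1) := by
  rw [injective_iff_map_eq_zero]
  intro a ha
  have h0 : (1 : ℚ) ⊗ₜ[ℤ] a = 0 := by rw [← E_ι A t h1, ha, map_zero]
  have := (IsLocalizedModule.eq_zero_iff (nonZeroDivisors ℤ)
    (TensorProduct.mk ℤ ℚ A 1) (m := a)).mp h0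
  obtain ⟨c, hc⟩ := this
  exact htf c.1 a (nonZeroDivisors.ne_zero c.2) hc

theorem exists_smul_eq_ι (f : ℚ[X]) : ∃ (n : ℤ) (a : A), n ≠ 0 ∧ n • f = ι A t h1 a := by
  obtain ⟨⟨a, c⟩, h⟩ := IsLocalizedModule.surj (nonZeroDivisors ℤ)
    (TensorProduct.mk ℤ ℚ A 1) (E A t h1 f)
  refine ⟨c.1, a, nonZeroDivisors.ne_zero c.2, ?_⟩
  apply (E A t h1).injective
  rw [E_ι, map_zsmul]
  exact h

theorem eval_one_ι (s : A →+* Localization.Away (2 : ℤ)) (hs : s t = 1) (a : A) :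
    (ι A t h1 a).eval 1 = κ (s a) := by
  let Φ₂ : ℚ ⊗[ℤ] A →ₐ[ℚ] ℚ :=
    Algebra.TensorProduct.lift (AlgHom.id ℚ ℚ) ((κ.comp s).toIntAlgHom) (fun _ _ => Commute.all _ _)
  have hΦ : (Φ₂.comp (E A t h1 : ℚ[X] →ₐ[ℚ] ℚ ⊗[ℤ] A)) = aeval (1 : ℚ) := by
    apply Polynomial.algHom_ext
    rw [aeval_X, AlgHom.comp_apply]
    show Φ₂ (E A t h1 X) = 1
    rw [E_X]
    show Algebra.TensorProduct.lift (AlgHom.id ℚ ℚ) ((κ.comp s).toIntAlgHom) _ ((1 : ℚ) ⊗ₜ[ℤ] t) = 1
    rw [Algebra.TensorProduct.lift_tmul]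
    simp [hs]
  have h2 : (ι A t h1 a).eval 1 = Φ₂ (E A t h1 (ι A t h1 a)) := by
    have := AlgHom.congr_fun hΦ (ι A t h1 a)
    rw [AlgHom.comp_apply] at this
    rw [← coe_aeval_eq_eval]
    exact this.symm
  rw [h2, E_ι]
  show Algebra.TensorProduct.lift (AlgHom.id ℚ ℚ) ((κ.comp s).toIntAlgHom) _ ((1 : ℚ) ⊗ₜ[ℤ] a) = _
  rw [Algebra.TensorProduct.lift_tmul]
  simp

end iota

section main
variable (A : Type u) [CommRing A] [IsDomain A] (t : A)
    (s : A →+* Localization.Away (2 : ℤ)) (hs : s t = 1)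

include s in
theorem torsion_free : ∀ (n : ℤ) (a : A), n ≠ 0 → n • a = 0 → a = 0 := by
  intro n a hn h
  rw [zsmul_eq_mul] at h
  rcases mul_eq_zero.mp h with h | h
  · exfalso
    have h3 := congrArg s h
    rw [map_intCast, map_zero] at h3
    have hinj : Function.Injective (algebraMap ℤ (Localization.Away (2 : ℤ))) :=
      IsLocalization.injective _ (powers_le_nonZeroDivisors_of_noZeroDivisors two_ne_zero)
    apply hn
    apply hinj
    rw [map_zero, ← h3]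
    simp
  · exact h

include hs in
theorem K1 (h1 : Function.Bijective (Polynomial.aeval (R := ℚ) ((1 : ℚ) ⊗ₜ[ℤ] t : ℚ ⊗[ℤ] A))) (q : A) (hq : q ∈ RingHom.ker s) :
    ∃ (n : ℤ) (a' : A), n ≠ 0 ∧ (n : A) * q = (t - 1) * a' := by
  have h0 : (ι A t h1 q).eval 1 = 0 := by
    rw [eval_one_ι A t h1 s hs, RingHom.mem_ker.mp hq, map_zero]
  obtain ⟨g, hg⟩ := Polynomial.dvd_iff_isRoot.mpr h0
  obtain ⟨n, a', hn, ha'⟩ := exists_smul_eq_ι A t h1 g
  refine ⟨n, a', hn, ?_⟩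
  apply ι_injective A t h1 (torsion_free A s)
  rw [map_mul, map_mul, map_intCast, map_sub, ι_t, map_one, ← ha', hg, zsmul_eq_mul]
  simp only [map_one]
  ring

include hs in
theorem K2 (h1 : Function.Bijective (Polynomial.aeval (R := ℚ) ((1 : ℚ) ⊗ₜ[ℤ] t : ℚ ⊗[ℤ] A))) [IsNoetherianRing A] :
    ∃ N : ℤ, N ≠ 0 ∧ ∀ q ∈ RingHom.ker s, ∃ a' : A, (N : A) * q = (t - 1) * a' := by
  classical
  obtain ⟨S, hS⟩ := (IsNoetherian.noetherian (RingHom.ker s) : (RingHom.ker s).FG)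
  have hSsub : ∀ q ∈ S, q ∈ RingHom.ker s := fun q hq => hS ▸ Ideal.subset_span hq
  choose! n a' hn ha' using K1 A t s hs h1
  refine ⟨∏ q ∈ S, n q, Finset.prod_ne_zero_iff.mpr (fun q hq => hn q (hSsub q hq)), ?_⟩
  intro q hq
  rw [← hS] at hq
  induction hq using Submodule.span_induction with
  | mem x hx =>
    refine ⟨(∏ y ∈ S.erase x, (n y : A)) * a' x, ?_⟩
    rw [← Finset.prod_erase_mul _ _ hx]
    push_cast
    rw [mul_assoc, ha' x (hSsub x hx)]
    ring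
  | zero => exact ⟨0, by simp⟩
  | add x y _ _ hx hy =>
    obtain ⟨a, ha⟩ := hx
    obtain ⟨b, hb⟩ := hy
    exact ⟨a + b, by rw [mul_add, ha, hb, mul_add]⟩
  | smul c x _ hx =>
    obtain ⟨a, ha⟩ := hx
    exact ⟨c * a, by rw [smul_eq_mul, mul_left_comm, ha]; ring⟩

omit [IsDomain A] in
theorem ι_jmap (h2 : IsUnit (2 : A)) (h1 : Function.Bijective (Polynomial.aeval (R := ℚ) ((1 : ℚ) ⊗ₜ[ℤ] t : ℚ ⊗[ℤ] A))) (x : Localization.Away (2 : ℤ)) : ι A t h1 (jmap A h2 x) = C (κ x) := by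
  have := ringHom_ext_Z2 ((ι A t h1).comp (jmap A h2)) ((C : ℚ →+* ℚ[X]).comp κ)
  exact RingHom.congr_fun this x

theorem K4 (h2 : IsUnit (2 : A)) (h1 : Function.Bijective (Polynomial.aeval (R := ℚ) ((1 : ℚ) ⊗ₜ[ℤ] t : ℚ ⊗[ℤ] A))) (N : ℤ) (hN : N ≠ 0)
    (hNq : ∀ q ∈ RingHom.ker s, ∃ a' : A, (N : A) * q = (t - 1) * a')
    (p : ℕ) [Fact p.Prime] (hp2 : p ≠ 2) (hpN : ¬ (p : ℤ) ∣ N) :
    ∀ (d : ℕ) (a : A), (ι A t h1 a).natDegree = d → ι A t h1 a ∈ Polynomial.lifts (Tp p).subtype := by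
  intro d
  induction d using Nat.strong_induction_on with
  | _ d ih =>
    intro a hd
    set σ := s a with hσ
    obtain ⟨q, hq⟩ : ∃ q, q = a - jmap A h2 σ := ⟨_, rfl⟩
    have hqker : q ∈ RingHom.ker s := by
      rw [RingHom.mem_ker, hq, map_sub, s_jmap, sub_self]
    have hCσ : C (κ σ) ∈ Polynomial.lifts (Tp p).subtype :=
      Polynomial.C_mem_lifts (Tp p).subtype ⟨κ σ, κ_mem_Tp p hp2 σ⟩
    have ha : ι A t h1 a = ι A t h1 q + C (κ σ) := by
      rw [hq, map_sub, ι_jmap, sub_add_cancel]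
    obtain ⟨a₁, ha₁⟩ := hNq q hqker
    have hι : C (N : ℚ) * ι A t h1 q = (X - C 1) * ι A t h1 a₁ := by
      have := congrArg (ι A t h1) ha₁
      rw [map_mul, map_mul, map_intCast, map_sub, ι_t, map_one] at this
      rw [C_1, ← this]
      simp
    by_cases hq0 : ι A t h1 q = 0
    · rw [ha, hq0, zero_add]; exact hCσ
    · have hNQ : (N : ℚ) ≠ 0 := by exact_mod_cast hN
      have ha₁0 : ι A t h1 a₁ ≠ 0 := by
        intro h
        rw [h, mul_zero] at hι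
        rcases mul_eq_zero.mp hι with h' | h'
        · exact hNQ (C_eq_zero.mp h')
        · exact hq0 h'
      have hdeg : (ι A t h1 q).natDegree = 1 + (ι A t h1 a₁).natDegree := by
        have h3 := congrArg natDegree hι
        rw [natDegree_C_mul hNQ, natDegree_mul (X_sub_C_ne_zero 1) ha₁0, natDegree_X_sub_C] at h3
        exact h3
      have hdeg2 : (ι A t h1 q).natDegree ≤ d := by
        have : ι A t h1 q = ι A t h1 a - C (κ σ) := by rw [ha, add_sub_cancel_right]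
        rw [this, natDegree_sub_C, hd]
      have hlt : (ι A t h1 a₁).natDegree < d := by omega
      have ih₁ := ih _ hlt a₁ rfl
      have hq' : ι A t h1 q = C ((N : ℚ))⁻¹ * ((X + C (-1)) * ι A t h1 a₁) := by
        have : (X + C (-1) : ℚ[X]) = X - C 1 := by simp [sub_eq_add_neg]
        rw [this, ← hι, ← mul_assoc, ← C_mul, inv_mul_cancel₀ hNQ, C_1, one_mul]
      have hqmem : ι A t h1 q ∈ Polynomial.lifts (Tp p).subtype := by
        rw [hq']
        apply Subsemiring.mul_mem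
        · exact Polynomial.C_mem_lifts (Tp p).subtype ⟨_, inv_int_mem_Tp p N hpN⟩
        · apply Subsemiring.mul_mem _ _ ih₁
          apply Subsemiring.add_mem
          · exact Polynomial.X_mem_lifts _
          · exact Polynomial.C_mem_lifts (Tp p).subtype ⟨-1, (Tp p).neg_mem (Tp p).one_mem⟩
      rw [ha]
      exact Subsemiring.add_mem _ hqmem hCσ

end main

/-- Let A be an integral domain in which 2 is invertible and let t be an element of A, so that Spec A is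
a scheme over the affine line Spec ℤ[1/2][t]. Assume that (1) the ℚ-algebra map ℚ[X] → ℚ ⊗_ℤ A
sending X to 1 ⊗ t is bijective (the map Spec A → Spec ℤ[1/2][t] becomes an isomorphism after base
change to ℚ); (2) every prime number is invertible in A/(t) (the fibre over t = 0 is of pure
characteristic zero); and (3) there is a ring homomorphism s : A → ℤ[1/2] with s(t) = 1 (the fibre
over t = 1 admits a section). Then A is not Noetherian. -/
theorem result (A : Type u) [CommRing A]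
    [IsDomain A] (h2 : IsUnit (2 : A)) (t : A)
    (h1 : Function.Bijective (Polynomial.aeval (R := ℚ) ((1 : ℚ) ⊗ₜ[ℤ] t : ℚ ⊗[ℤ] A)))
    (h0 : ∀ p : ℕ, p.Prime → IsUnit ((p : ℕ) : A ⧸ Ideal.span ({t} : Set A)))
    (s : A →+* Localization.Away (2 : ℤ)) (hs : s t = 1) :
    ¬ IsNoetherianRing A := by
  intro hNoeth
  obtain ⟨N, hN0, hNq⟩ := K2 A t s hs h1
  obtain ⟨p, hpge, hp⟩ := Nat.exists_infinite_primes (N.natAbs + 3)
  haveI : Fact p.Prime := ⟨hp⟩
  have hp2 : p ≠ 2 := by omega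
  have hpN : ¬ (p : ℤ) ∣ N := by
    intro h
    have h3 : p ∣ N.natAbs := by
      have := Int.natAbs_dvd_natAbs.mpr h
      simpa using this
    have hle := Nat.le_of_dvd (Int.natAbs_pos.mpr hN0) h3
    omega
  have hall : ∀ a, ι A t h1 a ∈ Polynomial.lifts (Tp p).subtype :=
    fun a => K4 A t s h2 h1 N hN0 hNq p hp2 hpN _ a rfl
  obtain ⟨b', hb'⟩ := (h0 p hp).exists_right_inv
  obtain ⟨b, rfl⟩ := Ideal.Quotient.mk_surjective b'
  have hmem : (p : A) * b - 1 ∈ Ideal.span ({t} : Set A) := by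
    rw [← Ideal.Quotient.eq_zero_iff_mem, map_sub, map_mul, map_natCast, map_one, hb', sub_self]
  obtain ⟨c, hc⟩ := Ideal.mem_span_singleton'.mp hmem
  have h3 := congrArg (ι A t h1) hc
  rw [map_mul, ι_t, map_sub, map_mul, map_natCast, map_one] at h3
  have h4 := congrArg (fun f => f.coeff 0) h3
  simp only [coeff_mul_X_zero, coeff_sub, coeff_one_zero] at h4
  have h5 : ((p : ℚ[X]) * ι A t h1 b).coeff 0 = (p : ℚ) * (ι A t h1 b).coeff 0 := by
    rw [← C_eq_natCast, coeff_C_mul]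
  rw [h5] at h4
  have hpQ : (p : ℚ) ≠ 0 := by exact_mod_cast hp.ne_zero
  have hcoeff : (ι A t h1 b).coeff 0 = (p : ℚ)⁻¹ := by
    field_simp
    linarith
  obtain ⟨⟨y, hy⟩, hy'⟩ := (Polynomial.lifts_iff_coeff_lifts _).mp (hall b) 0
  apply inv_p_not_mem_Tp p
  rw [← hcoeff, ← hy']
  exact hy

end Groth.Agent.S14048
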