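import Groth.Statements.S14051
import Mathlib.Tactic
-- import your own Groth.Agent.* helpers here

set_option autoImplicit false
universe u
open CAlg

namespace Groth.Agent.S14051

/-- Let A be a commutative ℕ-graded algebra over a base ring R which is generated by A_1 as an
A_0-algebra, written as A_{n+1} = A_1 · A_n for every n, and let M be a graded A-module: an A-module
with R-submodules M_n giving a direct-sum decomposition and A_i · M_j ⊆ M_{i+j}. If M is spanned
over A by a set of homogeneous elements all of degree at most n₀, then for every n ≥ n₀ and every k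
≥ 0 the degree-(n+k) part of M is A_k · M_n. -/
theorem result
    (R : Type u) [CommRing R] (A : Type u) [CommRing A] [Algebra R A]
    (𝒜 : ℕ → Submodule R A) [GradedAlgebra 𝒜]
    (hA : ∀ n : ℕ, 𝒜 (n + 1) = 𝒜 1 * 𝒜 n)
    (M : Type u) [AddCommGroup M] [Module R M] [Module A M] [IsScalarTower R A M]
    (ℳ : ℕ → Submodule R M) [DirectSum.Decomposition ℳ] [SetLike.GradedSMul 𝒜 ℳ]
    (s : Set M) (n₀ : ℕ) (hs : ∀ y ∈ s, ∃ d : ℕ, d ≤ n₀ ∧ y ∈ ℳ d)
    (hspan : Submodule.span A s = ⊤)
    (n k : ℕ) (hn : n₀ ≤ n) :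
    ℳ (n + k) = 𝒜 k • ℳ n := by
  classical
  have hge : ∀ k n, 𝒜 k • ℳ n ≤ ℳ (n + k) := by
    intro k n
    rw [Submodule.smul_le]
    intro a ha y hy
    have := SetLike.GradedSMul.smul_mem ha hy
    rw [add_comm]
    exact this
  have step : ∀ m, n₀ ≤ m → ℳ (m + 1) ≤ 𝒜 1 • ℳ m := by
    intro m hm
    let π : M →ₗ[R] M := (ℳ (m+1)).subtype ∘ₗ
      (DirectSum.component R ℕ (fun i => ℳ i) (m+1)) ∘ₗ
      (DirectSum.decomposeLinearEquiv ℳ).toLinearMap
    have hπ : ∀ x, π x = (DirectSum.decompose ℳ x (m+1) : M) := fun x => rfl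
    let W : Submodule R M := (𝒜 1 • ℳ m).comap π
    have hom : ∀ l d (a : A) (y : M), a ∈ 𝒜 l → y ∈ ℳ d → d ≤ n₀ → a • y ∈ W := by
      intro l d a y ha hy hd
      have hay : a • y ∈ ℳ (l + d) := SetLike.GradedSMul.smul_mem ha hy
      show π (a • y) ∈ 𝒜 1 • ℳ m
      rw [hπ]
      by_cases hld : l + d = m + 1
      · rw [← hld, DirectSum.decompose_of_mem_same ℳ hay]
        obtain ⟨l', rfl⟩ : ∃ l', l = l' + 1 := ⟨l - 1, by omega⟩
        have hm' : m = l' + d := by omega
        rw [hA l'] at ha
        refine Submodule.mul_induction_on ha ?_ ?_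
        · intro b hb c hc
          rw [mul_smul, hm']
          exact Submodule.smul_mem_smul hb (SetLike.GradedSMul.smul_mem hc hy)
        · intro u v hu hv
          rw [add_smul]; exact add_mem hu hv
      · rw [DirectSum.decompose_of_mem_ne ℳ hay hld]
        exact zero_mem _
    have all : ∀ (a : A) (y : M), y ∈ s → a • y ∈ W := by
      intro a y hy
      obtain ⟨d, hd, hyd⟩ := hs y hy
      rw [← DirectSum.sum_support_decompose 𝒜 a, Finset.sum_smul]
      exact Submodule.sum_mem _ fun l _ => hom l d _ y (SetLike.coe_mem _) hyd hd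
    have top : ∀ x : M, x ∈ W := by
      intro x
      have hx : x ∈ Submodule.span A s := hspan ▸ Submodule.mem_top
      rw [Submodule.mem_span_set'] at hx
      obtain ⟨N, f, g, rfl⟩ := hx
      exact Submodule.sum_mem _ fun i _ => all (f i) (g i) (g i).2
    intro x hx
    have := top x
    change π x ∈ 𝒜 1 • ℳ m at this
    rwa [hπ, DirectSum.decompose_of_mem_same ℳ hx] at this
  induction k with
  | zero =>
    apply le_antisymm _ (hge 0 n)
    intro x hx
    rw [← one_smul A x]
    exact Submodule.smul_mem_smul (SetLike.one_mem_graded 𝒜) hx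
  | succ k ih =>
    apply le_antisymm _ (hge (k+1) n)
    rw [← add_assoc]
    refine (step (n + k) (by omega)).trans ?_
    rw [ih, Submodule.smul_le]
    intro b hb z hz
    refine Submodule.smul_induction_on hz ?_ ?_
    · intro c hc w hw
      rw [← mul_smul]
      refine Submodule.smul_mem_smul ?_ hw
      rw [hA k]
      exact Submodule.mul_mem_mul hb hc
    · intro u v hu hv
      rw [smul_add]; exact add_mem hu hv

end Groth.Agent.S14051
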