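import Groth.Statements.S1409
import Mathlib
import Groth.Agent.Lib.Helper1.MinimalPrimesFlat

set_option autoImplicit false
universe u
open FlatMor

namespace Groth.Agent.S1409

section DL

variable {ι : Type u} [Preorder ι] [IsDirected ι (· ≤ ·)] [Nonempty ι] (G : ι → Type u)
  [∀ i, CommRing (G i)] (f : ∀ i j, i ≤ j → G i →+* G j) [DirectedSystem G fun i j h => f i j h]

lemma exists_of_fin {κ : Type*} [Finite κ]
    (x : κ → Ring.DirectLimit G fun i j h => ⇑(f i j h)) (i0 : ι) :
    ∃ j, i0 ≤ j ∧ ∃ x' : κ → G j, ∀ k, Ring.DirectLimit.of G (fun i j h => ⇑(f i j h)) j (x' k) = x k := by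
  choose ik zk hzk using fun k => Ring.DirectLimit.exists_of (x k)
  obtain ⟨M0, hM0⟩ := Finite.exists_le ik
  obtain ⟨j, h1, h2⟩ := exists_ge_ge i0 M0
  refine ⟨j, h1, fun k => f (ik k) j ((hM0 k).trans h2) (zk k), fun k => ?_⟩
  rw [← hzk k]
  exact Ring.DirectLimit.of_f (G := G) (f := fun i j h => ⇑(f i j h)) ((hM0 k).trans h2) (zk k)

lemma flat_of (hflat : ∀ i j (h : i ≤ j), letI := (f i j h).toAlgebra
      Module.Flat (G i) (G j))
    (hinj : ∀ i j (h : i ≤ j), Function.Injective (f i j h)) (i : ι) :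
    letI := (Ring.DirectLimit.of G (fun i j h => ⇑(f i j h)) i).toAlgebra
    Module.Flat (G i) (Ring.DirectLimit G fun i j h => ⇑(f i j h)) := by
  letI := (Ring.DirectLimit.of G (fun i j h => ⇑(f i j h)) i).toAlgebra
  rw [Module.Flat.iff_forall_isTrivialRelation]
  intro l fs x hx
  obtain ⟨j, hij, x', hx'⟩ := exists_of_fin G f x i
  letI := (f i j hij).toAlgebra
  haveI : Module.Flat (G i) (G j) := hflat i j hij
  have hofj : Function.Injective (Ring.DirectLimit.of G (fun i j h => ⇑(f i j h)) j) :=
    Ring.DirectLimit.of_injective f hinj j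
  have hcomp : ∀ a : G i, Ring.DirectLimit.of G (fun i j h => ⇑(f i j h)) j (f i j hij a) =
      Ring.DirectLimit.of G (fun i j h => ⇑(f i j h)) i a := fun a =>
    Ring.DirectLimit.of_f (G := G) (f := fun i j h => ⇑(f i j h)) hij a
  have e1 : ∀ (a : G i) (z : G j), a • z = f i j hij a * z := fun a z => rfl
  have e2 : ∀ (a : G i) (z : Ring.DirectLimit G fun i j h => ⇑(f i j h)),
      a • z = Ring.DirectLimit.of G (fun i j h => ⇑(f i j h)) i a * z := fun a z => rfl
  have hrel : ∑ k, fs k • x' k = 0 := by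
    apply hofj
    rw [map_sum, map_zero, ← hx]
    refine Finset.sum_congr rfl fun k _ => ?_
    rw [e1, map_mul, hx', e2, hcomp]
  obtain ⟨k, a, y, h1, h2⟩ := Module.Flat.isTrivialRelation_of_sum_smul_eq_zero (R := G i) (M := G j) (f := fs) (x := x') hrel
  refine ⟨k, a, fun m => Ring.DirectLimit.of G (fun i j h => ⇑(f i j h)) j (y m), fun t => ?_, h2⟩
  rw [← hx', h1, map_sum]
  refine Finset.sum_congr rfl fun m _ => ?_
  rw [e1, map_mul, e2, hcomp]
end DL

/-- Let (R_i) be a directed system of commutative rings whose transition maps are faithfully flat, with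
colimit R. Then, counting in the extended natural numbers, the minimal primes of R are exactly as
numerous as the supremum over i of the count of minimal primes of R_i. -/
theorem result {ι : Type u} [Preorder ι] [IsDirected ι (· ≤ ·)] [Nonempty ι] (G : ι → Type u) [∀ i, CommRing (G i)]
    (f : ∀ i j, i ≤ j → G i →+* G j) [DirectedSystem G fun i j h => f i j h]
    (hf : ∀ i j (h : i ≤ j), letI := (f i j h).toAlgebra
      Module.FaithfullyFlat (G i) (G j)) :
    (minimalPrimes (Ring.DirectLimit G fun i j h => ⇑(f i j h))).encard = ⨆ i, (minimalPrimes (G i)).encard := by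
  have hinj : ∀ i j (h : i ≤ j), Function.Injective (f i j h) := fun i j h => by
    letI := (f i j h).toAlgebra
    haveI := hf i j h
    exact FaithfulSMul.algebraMap_injective (G i) (G j)
  have hflat : ∀ i j (h : i ≤ j), letI := (f i j h).toAlgebra
      Module.Flat (G i) (G j) := fun i j h => by
    letI := (f i j h).toAlgebra
    haveI := hf i j h
    infer_instance
  have hmin : ∀ (i : ι) (P : Ideal (Ring.DirectLimit G fun i j h => ⇑(f i j h))),
      P ∈ minimalPrimes (Ring.DirectLimit G fun i j h => ⇑(f i j h)) →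
      P.comap (Ring.DirectLimit.of G (fun i j h => ⇑(f i j h)) i) ∈ minimalPrimes (G i) := by
    intro i P hP
    letI := (Ring.DirectLimit.of G (fun i j h => ⇑(f i j h)) i).toAlgebra
    haveI : Module.Flat (G i) (Ring.DirectLimit G fun i j h => ⇑(f i j h)) :=
      flat_of G f hflat hinj i
    exact Groth.Agent.H1.under_mem_minimalPrimes_of_hasGoingDown (A := G i) hP
  apply le_antisymm
  · rw [← ENat.forall_natCast_le_iff_le]
    intro n hn
    obtain ⟨F, hFsub, hFcard⟩ := Set.exists_subset_encard_eq hn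
    have hFfin : F.Finite := Set.finite_of_encard_eq_coe hFcard
    haveI : Finite ↥F := hFfin.to_subtype
    have hsep : ∀ p : {p : F × F // p.1.1 ≠ p.2.1},
        ∃ r : Ring.DirectLimit G fun i j h => ⇑(f i j h), r ∈ p.1.1.1 ∧ r ∉ p.1.2.1 := by
      rintro ⟨⟨⟨P, hP⟩, ⟨P', hP'⟩⟩, hne⟩
      by_contra hcon
      push Not at hcon
      have hle : P ≤ P' := fun r hr => hcon r hr
      have hPm := hFsub hP
      have hP'm := hFsub hP'
      exact hne (le_antisymm hle (hP'm.2 ⟨hPm.1.1, bot_le⟩ hle))
    choose r hr1 hr2 using hsep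
    obtain ⟨j, -, r', hr'⟩ := exists_of_fin G f r (Classical.arbitrary ι)
    have hinjOn : Set.InjOn (fun P : Ideal (Ring.DirectLimit G fun i j h => ⇑(f i j h)) =>
        P.comap (Ring.DirectLimit.of G (fun i j h => ⇑(f i j h)) j)) F := by
      intro P hP P' hP' heq
      by_contra hne
      let p : {p : F × F // p.1.1 ≠ p.2.1} := ⟨(⟨P, hP⟩, ⟨P', hP'⟩), hne⟩
      have h1 : r' p ∈ P.comap (Ring.DirectLimit.of G (fun i j h => ⇑(f i j h)) j) := by
        rw [Ideal.mem_comap, hr']
        exact hr1 p
      have h2 : r' p ∈ P'.comap (Ring.DirectLimit.of G (fun i j h => ⇑(f i j h)) j) := by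
        have heq' : P.comap (Ring.DirectLimit.of G (fun i j h => ⇑(f i j h)) j) =
          P'.comap (Ring.DirectLimit.of G (fun i j h => ⇑(f i j h)) j) := heq
        rw [← heq']
        exact h1
      rw [Ideal.mem_comap, hr'] at h2
      exact hr2 p h2
    have hle := Set.encard_le_encard_of_injOn (t := minimalPrimes (G j))
      (fun P hP => hmin j P (hFsub hP)) hinjOn
    rw [hFcard] at hle
    exact hle.trans (le_iSup (fun i => (minimalPrimes (G i)).encard) j)
  · apply iSup_le
    intro i
    have hof : Function.Injective (Ring.DirectLimit.of G (fun i j h => ⇑(f i j h)) i) :=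
      Ring.DirectLimit.of_injective f hinj i
    have hex : ∀ p ∈ minimalPrimes (G i),
        ∃ P ∈ minimalPrimes (Ring.DirectLimit G fun i j h => ⇑(f i j h)),
          P.comap (Ring.DirectLimit.of G (fun i j h => ⇑(f i j h)) i) = p := by
      intro p hp
      haveI hpp : p.IsPrime := hp.1.1
      obtain ⟨Q, hQ, -, hQd⟩ := Ideal.exists_le_prime_disjoint
        (⊥ : Ideal (Ring.DirectLimit G fun i j h => ⇑(f i j h)))
        (p.primeCompl.map (Ring.DirectLimit.of G (fun i j h => ⇑(f i j h)) i)) (by
          rw [Set.disjoint_left]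
          rintro x hx ⟨a, ha, rfl⟩
          have hx0 : Ring.DirectLimit.of G (fun i j h => ⇑(f i j h)) i a = 0 := hx
          rw [← map_zero (Ring.DirectLimit.of G (fun i j h => ⇑(f i j h)) i)] at hx0
          have := hof hx0
          subst this
          exact ha (zero_mem p))
      obtain ⟨P, hP, hPQ⟩ := Ideal.exists_minimalPrimes_le (bot_le : ⊥ ≤ Q)
      refine ⟨P, hP, ?_⟩
      have h1 : P.comap (Ring.DirectLimit.of G (fun i j h => ⇑(f i j h)) i) ≤ p := by
        intro a ha
        by_contra hap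
        rw [Set.disjoint_left] at hQd
        exact hQd (hPQ ha) ⟨a, hap, rfl⟩
      have h2 := hmin i P hP
      exact le_antisymm h1 (hp.2 ⟨h2.1.1, bot_le⟩ h1)
    choose! φ hφ1 hφ2 using hex
    exact Set.encard_le_encard_of_injOn (fun p hp => hφ1 p hp)
      (fun p hp p' hp' h => by rw [← hφ2 p hp, ← hφ2 p' hp', h])

end Groth.Agent.S1409
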