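import Groth.Statements.S14101
import Mathlib
import Groth.Agent.Lib.Helper8.Hens.SmoothReduced

set_option autoImplicit false
universe u
open CAlg

namespace Groth.Agent.S14101

open TensorProduct


/-- If `B` is smooth over `ℤ` and `p` is a prime number, the ideal `pB` is radical. -/
theorem isRadical_span_of_smooth (B : Type u) [CommRing B] [Algebra.Smooth ℤ B] (p : ℕ)
    (hp : p.Prime) : (Ideal.span {(p : B)}).IsRadical := by
  let I : Ideal ℤ := Ideal.span {(p : ℤ)}
  haveI : I.IsPrime := (Ideal.span_singleton_prime (by exact_mod_cast hp.ne_zero)).mpr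
    (Nat.prime_iff_prime_int.mp hp)
  let k := ℤ ⧸ I
  haveI : IsReduced (k ⊗[ℤ] B) := Groth.Agent.H8.Hens.isReduced_of_smooth k (k ⊗[ℤ] B)
  let e : (k ⊗[ℤ] B) ≃ₗ[ℤ] B ⧸ (I • ⊤ : Submodule ℤ B) := TensorProduct.quotTensorEquivQuotSMul B I
  have he : ∀ x : B, e ((1 : k) ⊗ₜ[ℤ] x) = Submodule.Quotient.mk x :=
    fun x => TensorProduct.quotTensorEquivQuotSMul_mk_one_tmul I x
  have hmem : ∀ x : B, x ∈ Ideal.span {(p : B)} ↔ x ∈ (I • ⊤ : Submodule ℤ B) := by
    intro x
    rw [Submodule.ideal_span_singleton_smul, Submodule.mem_smul_pointwise_iff_exists,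
      Ideal.mem_span_singleton']
    constructor
    · rintro ⟨c, rfl⟩
      exact ⟨c, Submodule.mem_top, by simp [mul_comm]⟩
    · rintro ⟨c, -, rfl⟩
      exact ⟨c, by simp [mul_comm]⟩
  intro x ⟨n, hn⟩
  have h1 : ((1 : k) ⊗ₜ[ℤ] x) ^ n = 0 := by
    rw [Algebra.TensorProduct.tmul_pow, one_pow]
    apply e.injective
    rw [map_zero, he, Submodule.Quotient.mk_eq_zero]
    exact (hmem _).mp hn
  have h2 : (1 : k) ⊗ₜ[ℤ] x = 0 := IsReduced.eq_zero _ ⟨n, h1⟩
  have h3 := congrArg e h2
  rw [map_zero, he, Submodule.Quotient.mk_eq_zero] at h3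
  exact (hmem _).mpr h3

theorem smooth_int_canonical (B : Type u) [CommRing B] [i : Algebra ℤ B] [h : Algebra.Smooth ℤ B] :
    @Algebra.Smooth ℤ _ B _ (Ring.toIntAlgebra B) := by
  have : i = Ring.toIntAlgebra B := Subsingleton.elim _ _
  subst this
  exact h

theorem isRadical_span_of_smooth' (B : Type u) [CommRing B] [Algebra ℤ B] [Algebra.Smooth ℤ B]
    (p : ℕ) (hp : p.Prime) : (Ideal.span {(p : B)}).IsRadical :=
  @isRadical_span_of_smooth B _ (smooth_int_canonical B) p hp



/-- At a minimal prime of a reduced, ℤ-torsion-free algebra of finite type over ℤ, the algebra is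
smooth over ℤ. -/
theorem isSmoothAt_of_mem_minimalPrimes (A : Type u) [CommRing A] [Algebra.FiniteType ℤ A]
    [IsReduced A] (htf : ∀ n : ℤ, n ≠ 0 → ∀ x : A, (n : A) * x = 0 → x = 0)
    (P : Ideal A) (hP : P ∈ minimalPrimes A) :
    haveI := hP.1.1
    Algebra.FormallySmooth ℤ (Localization.AtPrime P) := by
  haveI := hP.1.1
  haveI : IsNoetherianRing A := Algebra.FiniteType.isNoetherianRing ℤ A
  let K := Localization.AtPrime P
  haveI : Ring.KrullDimLE 0 K := by
    rw [Ring.krullDimLE_iff, IsLocalization.AtPrime.ringKrullDim_eq_height P K,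
      Ideal.height_eq_zero_iff.mpr hP]
    rfl
  haveI : IsArtinianRing K := isArtinianRing_iff_isNoetherianRing_krullDimLE_zero.mpr
    ⟨inferInstance, inferInstance⟩
  have hK : IsField K := IsArtinianRing.isField_of_isReduced_of_isLocalRing K
  letI : Field K := hK.toField
  haveI : CharZero K := by
    refine charZero_of_inj_zero fun n hn => ?_
    by_contra hn0
    have h1 : algebraMap A K (n : A) = 0 := by rw [map_natCast]; exact hn
    rw [IsLocalization.map_eq_zero_iff P.primeCompl] at h1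
    obtain ⟨⟨s, hs⟩, hsn⟩ := h1
    have : s = 0 := by
      apply htf (n : ℤ) (by exact_mod_cast hn0)
      rw [mul_comm]
      simpa using hsn
    exact hs (this ▸ P.zero_mem)
  haveI : Algebra.EssFiniteType ℤ K := Algebra.EssFiniteType.comp ℤ A K
  haveI : @IsScalarTower ℤ ℚ K _ _ (Algebra.toSMul (R := ℤ) (A := K)) :=
    IsScalarTower.of_algebraMap_eq' (RingHom.ext_int _ _)
  haveI : Algebra.EssFiniteType ℚ K := Algebra.EssFiniteType.of_comp ℤ ℚ K
  haveI : Algebra.FormallySmooth ℚ K := inferInstance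
  haveI : Algebra.FormallySmooth ℤ ℚ := Algebra.FormallySmooth.of_isLocalization (nonZeroDivisors ℤ)
  exact Algebra.FormallySmooth.comp ℤ ℚ K

theorem exists_nonZeroDivisor_smooth (A : Type u) [CommRing A] [Algebra.FiniteType ℤ A]
    [IsReduced A] (htf : ∀ n : ℤ, n ≠ 0 → ∀ x : A, (n : A) * x = 0 → x = 0) :
    ∃ g : A, g ∈ nonZeroDivisors A ∧ Algebra.Smooth ℤ (Localization.Away g) := by
  haveI : IsNoetherianRing A := Algebra.FiniteType.isNoetherianRing ℤ A
  haveI : Algebra.FinitePresentation ℤ A := Algebra.FinitePresentation.of_finiteType.mp inferInstance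
  have hopen : IsOpen (Algebra.smoothLocus ℤ A) := Algebra.isOpen_smoothLocus
  let J : Ideal A := PrimeSpectrum.vanishingIdeal (Algebra.smoothLocus ℤ A)ᶜ
  have hJ : PrimeSpectrum.zeroLocus (J : Set A) = (Algebra.smoothLocus ℤ A)ᶜ := by
    rw [PrimeSpectrum.zeroLocus_vanishingIdeal_eq_closure, hopen.isClosed_compl.closure_eq]
  have hfin : (minimalPrimes A).Finite := minimalPrimes.finite_of_isNoetherianRing A
  have hnot : ∀ P ∈ minimalPrimes A, ¬ J ≤ P := by
    intro P hP hJP
    haveI := hP.1.1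
    have h1 : (⟨P, hP.1.1⟩ : PrimeSpectrum A) ∈ PrimeSpectrum.zeroLocus (J : Set A) := hJP
    rw [hJ] at h1
    exact h1 (isSmoothAt_of_mem_minimalPrimes A htf P hP)
  have hex : ∃ g ∈ J, ∀ P ∈ minimalPrimes A, g ∉ P := by
    by_contra hcon
    push Not at hcon
    have hsub : (J : Set A) ⊆ ⋃ P ∈ (hfin.toFinset : Set (Ideal A)), (P : Set A) := by
      intro g hg
      obtain ⟨P, hP, hgP⟩ := hcon g hg
      simp only [Set.mem_iUnion]
      exact ⟨P, by simpa using hP, hgP⟩
    obtain ⟨P, hP, hJP⟩ := (Ideal.subset_union_prime (f := fun P : Ideal A => P) ⊥ ⊥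
      (fun P hP _ _ => ((hfin.mem_toFinset).mp hP).1.1)).mp hsub
    exact hnot P ((hfin.mem_toFinset).mp hP) hJP
  obtain ⟨g, hgJ, hg⟩ := hex
  refine ⟨g, ?_, ?_⟩
  · rw [mem_nonZeroDivisors_iff_right]
    intro x hx
    have : x ∈ nilradical A := by
      rw [nilradical, ← Ideal.sInf_minimalPrimes, Ideal.mem_sInf]
      intro P hP
      have hP' : P ∈ minimalPrimes A := hP
      have := hP'.1.1
      have h0 : x * g ∈ P := by rw [hx]; exact P.zero_mem
      exact (this.mem_or_mem h0).resolve_right (hg P hP')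
    exact IsReduced.eq_zero _ this
  · rw [← Algebra.basicOpen_subset_smoothLocus_iff_smooth]
    intro q hq
    by_contra hq'
    have h1 : q ∈ PrimeSpectrum.zeroLocus (J : Set A) := by rw [hJ]; exact hq'
    exact hq (h1 hgJ)

/-- The good primes: `p` is a nonzerodivisor modulo `g`. -/
theorem isRadical_span_of_regular (A : Type u) [CommRing A] (g : A) (hg : g ∈ nonZeroDivisors A)
    [Algebra.Smooth ℤ (Localization.Away g)] (p : ℕ) (hp : p.Prime)
    (hreg : ∀ z : A, (p : A) * z ∈ Ideal.span {g} → z ∈ Ideal.span {g}) :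
    (Ideal.span {(p : A)}).IsRadical := by
  -- g is regular modulo p
  have hgp : ∀ y : A, g * y ∈ Ideal.span {(p : A)} → y ∈ Ideal.span {(p : A)} := by
    intro y hy
    obtain ⟨z, hz⟩ := Ideal.mem_span_singleton'.mp hy
    -- z * p = g * y
    have h1 : (p : A) * z ∈ Ideal.span {g} := by
      rw [mul_comm, hz]
      exact Ideal.mul_mem_right _ _ (Ideal.subset_span rfl)
    obtain ⟨z', hz'⟩ := Ideal.mem_span_singleton'.mp (hreg z h1)
    -- z' * g = z
    have h2 : (y - z' * p) * g = 0 := by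
      rw [sub_mul, mul_comm y g, ← hz, ← hz']
      ring
    have h3 : y - z' * p = 0 := hg.2 _ h2
    rw [sub_eq_zero] at h3
    rw [h3]
    exact Ideal.mul_mem_left _ _ (Ideal.subset_span rfl)
  have hgpk : ∀ (k : ℕ) (y : A), g ^ k * y ∈ Ideal.span {(p : A)} → y ∈ Ideal.span {(p : A)} := by
    intro k
    induction k with
    | zero => intro y hy; simpa using hy
    | succ k ih =>
      intro y hy
      apply ih
      apply hgp
      rw [← mul_assoc, ← pow_succ']
      exact hy
  let B := Localization.Away g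
  have hinj : Function.Injective (algebraMap A B) :=
    IsLocalization.injective B (Submonoid.powers_le.mpr hg)
  have hB := isRadical_span_of_smooth' B p hp
  intro x ⟨n, hn⟩
  have h1 : algebraMap A B x ∈ Ideal.span {(p : B)} := by
    apply hB
    refine ⟨n, ?_⟩
    rw [← map_pow]
    obtain ⟨c, hc⟩ := Ideal.mem_span_singleton'.mp hn
    rw [← hc, map_mul, map_natCast]
    exact Ideal.mul_mem_left _ _ (Ideal.subset_span rfl)
  obtain ⟨b, hb⟩ := Ideal.mem_span_singleton'.mp h1
  obtain ⟨⟨a, ⟨_, k, rfl⟩⟩, hab⟩ := IsLocalization.surj (Submonoid.powers g) b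
  simp only at hab
  -- hab : b * algebraMap (g^k) = algebraMap a
  have h2 : g ^ k * x = a * p := by
    apply hinj
    rw [map_mul, map_mul, ← hab, ← hb, map_natCast]
    ring
  apply hgpk k
  rw [h2]
  exact Ideal.mul_mem_left _ _ (Ideal.subset_span rfl)


/-- A proper ideal of a commutative ring contains the image of at most one prime number. -/
theorem subsingleton_primes_mem (A : Type u) [CommRing A] (Q : Ideal A) (hQ : Q ≠ ⊤) :
    {p : ℕ | p.Prime ∧ (p : A) ∈ Q}.Subsingleton := by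
  rintro p ⟨hp, hpQ⟩ q ⟨hq, hqQ⟩
  by_contra hne
  have hcop : IsCoprime (p : ℤ) (q : ℤ) := by
    rw [Int.isCoprime_iff_gcd_eq_one]
    exact_mod_cast (Nat.coprime_primes hp hq).mpr hne
  obtain ⟨a, b, hab⟩ := hcop
  apply hQ
  rw [Ideal.eq_top_iff_one]
  have : (1 : A) = (a : A) * (p : A) + (b : A) * (q : A) := by
    have := congrArg (Int.cast (R := A)) hab
    push_cast at this
    exact this.symm
  rw [this]
  exact Q.add_mem (Q.mul_mem_left _ hpQ) (Q.mul_mem_left _ hqQ)

theorem finite_bad_torsionFree (A : Type u) [CommRing A] [Algebra.FiniteType ℤ A]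
    [IsReduced A] (htf : ∀ n : ℤ, n ≠ 0 → ∀ x : A, (n : A) * x = 0 → x = 0) :
    {p : ℕ | p.Prime ∧ ¬ (Ideal.span {(p : A)}).IsRadical}.Finite := by
  haveI : IsNoetherianRing A := Algebra.FiniteType.isNoetherianRing ℤ A
  obtain ⟨g, hg, hsm⟩ := exists_nonZeroDivisor_smooth A htf
  let M := A ⧸ Ideal.span {g}
  have hfin : (associatedPrimes A M).Finite := associatedPrimes.finite A M
  have hsub : {p : ℕ | p.Prime ∧ ¬ (Ideal.span {(p : A)}).IsRadical} ⊆
      ⋃ Q ∈ associatedPrimes A M, {p : ℕ | p.Prime ∧ (p : A) ∈ Q} := by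
    rintro p ⟨hp, hrad⟩
    by_contra hcon
    apply hrad
    refine isRadical_span_of_regular A g hg p hp fun z hz => ?_
    by_contra hzg
    apply hcon
    have hmem : (p : A) ∈ ⋃ Q ∈ associatedPrimes A M, (Q : Set A) := by
      rw [biUnion_associatedPrimes_eq_zero_divisors]
      refine ⟨Ideal.Quotient.mk _ z, ?_, ?_⟩
      · rwa [Ne, Ideal.Quotient.eq_zero_iff_mem]
      · change (p : A) • (Ideal.Quotient.mk (Ideal.span {g}) z) = 0
        rw [← Ideal.Quotient.mk_eq_mk, ← Submodule.Quotient.mk_smul, Ideal.Quotient.mk_eq_mk,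
          smul_eq_mul, Ideal.Quotient.eq_zero_iff_mem]
        exact hz
    simp only [Set.mem_iUnion] at hmem ⊢
    obtain ⟨Q, hQ, hpQ⟩ := hmem
    exact ⟨Q, hQ, hp, hpQ⟩
  refine (Set.Finite.biUnion hfin fun Q hQ => ?_).subset hsub
  exact (subsingleton_primes_mem A Q hQ.isPrime.ne_top).finite
/-- The ℤ-torsion ideal. -/
def torsionIdeal (A : Type u) [CommRing A] : Ideal A where
  carrier := {x | ∃ n : ℤ, n ≠ 0 ∧ (n : A) * x = 0}
  zero_mem' := ⟨1, one_ne_zero, by simp⟩
  add_mem' := by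
    rintro x y ⟨n, hn, hx⟩ ⟨m, hm, hy⟩
    refine ⟨n * m, mul_ne_zero hn hm, ?_⟩
    push_cast
    rw [mul_add, mul_right_comm, hx, zero_mul, mul_assoc, hy, mul_zero, add_zero]
  smul_mem' := by
    rintro c x ⟨n, hn, hx⟩
    refine ⟨n, hn, ?_⟩
    rw [smul_eq_mul, mul_left_comm, hx, mul_zero]

theorem mem_torsionIdeal {A : Type u} [CommRing A] {x : A} :
    x ∈ torsionIdeal A ↔ ∃ n : ℤ, n ≠ 0 ∧ (n : A) * x = 0 := Iff.rfl

theorem exists_exponent_torsionIdeal (A : Type u) [CommRing A] [IsNoetherianRing A] :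
    ∃ N : ℤ, N ≠ 0 ∧ ∀ x ∈ torsionIdeal A, (N : A) * x = 0 := by
  obtain ⟨S, hS⟩ := (isNoetherianRing_iff_ideal_fg A).mp inferInstance (torsionIdeal A)
  have hS' : ∀ s ∈ S, ∃ n : ℤ, n ≠ 0 ∧ (n : A) * s = 0 := fun s hs =>
    mem_torsionIdeal.mp (hS ▸ Ideal.subset_span hs)
  classical
  choose! n hn0 hn using hS'
  refine ⟨∏ s ∈ S, n s, Finset.prod_ne_zero_iff.mpr hn0, ?_⟩
  intro x hx
  rw [← hS] at hx
  refine Submodule.span_induction (p := fun x _ => ((∏ s ∈ S, n s : ℤ) : A) * x = 0) ?_ ?_ ?_ ?_ hx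
  · intro s hs
    rw [← Finset.prod_erase_mul S n hs]
    push_cast
    rw [mul_assoc, hn s hs, mul_zero]
  · exact mul_zero _
  · intro u v _ _ hu hv
    rw [mul_add, hu, hv, add_zero]
  · intro c u _ hu
    rw [smul_eq_mul, mul_left_comm, hu, mul_zero]

theorem isRadical_torsionIdeal (A : Type u) [CommRing A] [IsReduced A] :
    (torsionIdeal A).IsRadical := by
  rintro x ⟨k, n, hn, hx⟩
  refine ⟨n, hn, ?_⟩
  apply IsReduced.eq_zero
  refine ⟨k + 1, ?_⟩
  rw [mul_pow, pow_succ (n : A) k, pow_succ' x k]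
  calc (n : A) ^ k * n * (x * x ^ k) = ((n : A) ^ k * x) * ((n : A) * x ^ k) := by ring
    _ = 0 := by rw [hx, mul_zero]

theorem torsionFree_quotient (A : Type u) [CommRing A] (n : ℤ) (hn : n ≠ 0)
    (x : A ⧸ torsionIdeal A) (hx : (n : A ⧸ torsionIdeal A) * x = 0) : x = 0 := by
  obtain ⟨x, rfl⟩ := Ideal.Quotient.mk_surjective x
  rw [← map_intCast (Ideal.Quotient.mk (torsionIdeal A)), ← map_mul,
    Ideal.Quotient.eq_zero_iff_mem] at hx
  obtain ⟨m, hm, hmx⟩ := hx
  rw [Ideal.Quotient.eq_zero_iff_mem]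
  refine ⟨m * n, mul_ne_zero hm hn, ?_⟩
  push_cast
  rw [mul_assoc]
  exact hmx

theorem finiteType_int_canonical (B : Type u) [CommRing B] [i : Algebra ℤ B]
    [h : Algebra.FiniteType ℤ B] : @Algebra.FiniteType ℤ B _ _ (Ring.toIntAlgebra B) := by
  have : i = Ring.toIntAlgebra B := Subsingleton.elim _ _
  subst this
  exact h

theorem finite_bad (A : Type u) [CommRing A] [Algebra.FiniteType ℤ A] [IsReduced A] :
    {p : ℕ | p.Prime ∧ ¬ (Ideal.span {(p : A)}).IsRadical}.Finite := by
  haveI : IsNoetherianRing A := Algebra.FiniteType.isNoetherianRing ℤ A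
  let T := torsionIdeal A
  haveI : IsReduced (A ⧸ T) :=
    (Ideal.isRadical_iff_quotient_reduced T).mp (isRadical_torsionIdeal A)
  have hft : Algebra.FiniteType ℤ (A ⧸ T) :=
    Algebra.FiniteType.of_surjective (Ideal.Quotient.mkₐ ℤ T) Ideal.Quotient.mk_surjective
  haveI := finiteType_int_canonical (A ⧸ T)
  have h1 := finite_bad_torsionFree (A ⧸ T) (torsionFree_quotient A)
  obtain ⟨N, hN0, hN⟩ := exists_exponent_torsionIdeal A
  have h2 : {p : ℕ | p ∣ N.natAbs}.Finite :=
    (Finset.finite_toSet (Finset.range (N.natAbs + 1))).subset fun p hp => by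
      simp only [Finset.coe_range, Set.mem_Iio]
      exact Nat.lt_succ_of_le (Nat.le_of_dvd (Int.natAbs_pos.mpr hN0) hp)
  refine (h1.union h2).subset ?_
  rintro p ⟨hp, hrad⟩
  by_cases hpN : p ∣ N.natAbs
  · exact Or.inr hpN
  · left
    refine ⟨hp, fun hrad' => hrad ?_⟩
    -- T ≤ span {p}
    have hT : T ≤ Ideal.span {(p : A)} := by
      intro x hx
      have hcop : IsCoprime (p : ℤ) N := by
        rw [Int.isCoprime_iff_gcd_eq_one, Int.gcd, Int.natAbs_natCast]
        exact (Nat.Prime.coprime_iff_not_dvd hp).mpr hpN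
      obtain ⟨a, b, hab⟩ := hcop
      have hx' : x = (a : A) * x * (p : A) := by
        have := congrArg (Int.cast (R := A)) hab
        push_cast at this
        calc x = ((a : A) * p + b * N) * x := by rw [this, one_mul]
          _ = (a : A) * x * p + b * ((N : A) * x) := by ring
          _ = (a : A) * x * p := by rw [hN x hx, mul_zero, add_zero]
      rw [hx']
      exact Ideal.mul_mem_left _ _ (Ideal.subset_span rfl)
    intro x ⟨k, hk⟩
    have h3 : Ideal.Quotient.mk T x ∈ Ideal.span {(p : A ⧸ T)} := by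
      apply hrad'
      refine ⟨k, ?_⟩
      rw [← map_pow]
      obtain ⟨c, hc⟩ := Ideal.mem_span_singleton'.mp hk
      rw [← hc, map_mul, map_natCast]
      exact Ideal.mul_mem_left _ _ (Ideal.subset_span rfl)
    obtain ⟨c, hc⟩ := Ideal.mem_span_singleton'.mp h3
    obtain ⟨c, rfl⟩ := Ideal.Quotient.mk_surjective c
    rw [← map_natCast (Ideal.Quotient.mk T), ← map_mul, Ideal.Quotient.eq] at hc
    have : x = c * p - (c * p - x) := by ring
    rw [this]
    exact Ideal.sub_mem _ (Ideal.mul_mem_left _ _ (Ideal.subset_span rfl)) (hT hc)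

/-- Affine form — let A be a reduced commutative ring of finite type over ℤ. Then for all but finitely
many prime numbers p the reduction A/pA is reduced. (The published statement is for a reduced scheme
of finite type over ℤ; such a scheme has a finite affine open cover, so the affine form carries the
same content.) -/
theorem result
    (A : Type u) [CommRing A] [Algebra.FiniteType ℤ A] [IsReduced A] :
    {p : ℕ | p.Prime ∧ ¬ IsReduced (A ⧸ Ideal.span {(p : A)})}.Finite := by
  refine (finite_bad A).subset ?_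
  rintro p ⟨hp, hred⟩
  exact ⟨hp, fun h => hred ((Ideal.isRadical_iff_quotient_reduced _).mp h)⟩

end Groth.Agent.S14101
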