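import Groth.Statements.S14116
import Groth.Agent.Lib.Helper8.CK.SSCorner
import Groth.Agent.Lib.Helper8.CK.HZshDepth
import Groth.Agent.Lib.Helper1.SmoothDepth
import Groth.Agent.S6029
-- import your own Groth.Agent.* helpers here

set_option autoImplicit false
universe u
open CategoryTheory CategoryTheory.Limits AlgebraicGeometry Opposite TopologicalSpace
open LocCohZ

namespace Groth.Agent.S14116

/-- Let X be a locally Noetherian scheme, U ⊆ X open with closed complement Y, d a natural number such
that the depth of O_X along Y is at least d (every local ring O_{X,y}, y ∈ Y, has depth at least d),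
and M a finite locally free O_X-module. Then Γ(X, ℋ^d_Y(M)) is isomorphic to H^d_Y(X, M), where
ℋ^d_Y is the d-th right derived functor of the sheaf of sections with support in Y (applied to the
underlying abelian sheaf of M) and H^d_Y(X, M) is cohomology with support in Y. Existence of an
additive isomorphism only; the published statement asserts a canonical functorial isomorphism that
is linear over the global functions Γ(X, O_X) (obtained in its proof as the edge map of the
local-to-global spectral sequence), and adds that U ↦ H^d_{Y∩U}(U, M), U ⊆ X open, is a sheaf; none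
of this is part of this row. (The published statement assumes a flat morphism X → S with
Cohen–Macaulay fibres and relative codimension of Y at least d; these enter only through the depth
bound, which is the hypothesis of this row.) -/
theorem result (X : Scheme.{u}) [IsLocallyNoetherian X]
    (U : X.Opens) (d : ℕ)
    (hdepth : ∀ x : ↥X, x ∉ (U : Set ↥X) → (d : ℕ∞) ≤ LocCoh.depth ↑(X.presheaf.stalk x) ↑(X.presheaf.stalk x))
    (M : X.Modules) (hM : FlatMod.IsFinLocFree M) :
    Nonempty (↑(((LocCohZ.HZsh (X := X.carrier) U d).obj (Coh.toAb M)).obj.obj (op ⊤)) ≃+ LocCohZ.HZM X M d U) := by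
  haveI : M.IsQuasicoherent := Groth.Agent.LD.QC.qc_of_isFinLocFree M hM
  have hft : M.IsFiniteType := ((Groth.Agent.LD.QC.isFinLocFree_iff_free_stalks_rank M).mp hM).1
  have hvanish : ∀ i : ℕ, i < d → IsZero ((LocCohZ.HZsh (X := X.carrier) U i).obj (Coh.toAb M)) :=
    (Groth.Agent.H8.CK.isZero_HZsh_lt_iff_depth M hft U d).2
      (fun x hx => Groth.Agent.H1.SmoothDepth.depth_stalk_finLocFree_ge M hM d x (hdepth x hx))
  have hZ : IsZero (AddCommGrpCat.of PUnit.{u + 1}) := AddCommGrpCat.isZero_of_subsingleton _
  obtain ⟨E, a, hfin, -, hE2⟩ := Groth.Agent.S6029.result (X := X.toTopCat) (Coh.toAb M) U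
  obtain ⟨e⟩ := Groth.Agent.H8.CK.nonempty_iso_corner E a hfin
    (fun p q => AddCommGrpCat.of (CohTop.HU ((LocCohZ.HZsh (X := X.carrier) U q).obj (Coh.toAb M)) p ⊤))
    _ hZ hE2 d (by
      intro p q hq
      have hz := hvanish q hq
      have : Subsingleton (CohTop.HU ((LocCohZ.HZsh (X := X.carrier) U q).obj (Coh.toAb M)) p ⊤) :=
        Groth.Agent.H8.CK.subsingleton_ext_of_isZero_tgt _ _ hz p
      exact AddCommGrpCat.isZero_of_subsingleton _)
  rw [if_pos (by omega)] at e
  simp only [Int.toNat_natCast] at e
  have e1 := e.addCommGroupIsoToAddEquiv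
  have e2 := Groth.Agent.LD.SC.H0Equiv (J := Opens.grothendieckTopology X) (⊤ : Opens X)
    ((LocCohZ.HZsh (X := X.carrier) U d).obj (Coh.toAb M))
  exact ⟨e2.symm.trans e1.symm⟩

end Groth.Agent.S14116
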