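import Groth.Statements.S14118
import Mathlib.Tactic
import Groth.Agent.Lib.Helper7.Supertrace
-- import your own Groth.Agent.* helpers here

set_option autoImplicit false
universe u v w
open SuperComm

namespace Groth.Agent.S14118

/-- Let R be a commutative ring and M a finitely ℤ-graded R-module with finitely many nonzero graded
pieces, each finite free, presented as a finite family of finite free R-modules M_i with integer
degrees deg i (the piece of degree n being the product of the M_i with deg i = n); an endomorphism φ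
of the total module Π_i M_i has degree a when its (i, j) block vanishes unless deg j = deg i + a;
the supertrace of an endomorphism is the trace of its composite with the grading involution ε = Σ_i
(-1)^{deg i} pr_i. If φ and ψ have degrees a and b, the supertrace of the supercommutator φψ -
(-1)^{ab} ψφ vanishes. (The published statement allows the graded pieces to be finitely generated
projective; this row takes them finite free, where the trace is the ordinary trace of a free
module.) -/
theorem result {R : Type u} [CommRing R] {ι : Type v} [Fintype ι] [DecidableEq ι]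
    (deg : ι → ℤ) (M : ι → Type w) [∀ i, AddCommGroup (M i)] [∀ i, Module R (M i)]
    [∀ i, Module.Free R (M i)] [∀ i, Module.Finite R (M i)]
    (a b : ℤ) (φ ψ : (Π k, M k) →ₗ[R] (Π k, M k))
    (hφ : ∀ i j : ι, deg j ≠ deg i + a → (LinearMap.proj j) ∘ₗ φ ∘ₗ (LinearMap.single R M i) = 0)
    (hψ : ∀ i j : ι, deg j ≠ deg i + b → (LinearMap.proj j) ∘ₗ ψ ∘ₗ (LinearMap.single R M i) = 0) :
    LinearMap.trace R (Π k, M k)
      ((∑ i : ι, (LinearMap.single R M i) ∘ₗ (((-1 : R) ^ (deg i).natAbs) • (LinearMap.proj i : (Π k, M k) →ₗ[R] M i))) ∘ₗ (φ ∘ₗ ψ - ((-1 : R) ^ (a * b).natAbs) • (ψ ∘ₗ φ))) = 0 := by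
  rw [LinearMap.comp_sub, LinearMap.comp_smul, map_sub, map_smul,
    Groth.Agent.H7.trace_eps_comp, Groth.Agent.H7.trace_eps_comp]
  simp_rw [Groth.Agent.H7.proj_comp_comp_single, map_sum, Finset.mul_sum]
  have h2 : ∑ i : ι, ∑ j : ι, (-1 : R) ^ (deg i).natAbs *
      LinearMap.trace R (M i) ((LinearMap.proj i ∘ₗ ψ ∘ₗ LinearMap.single R M j) ∘ₗ
        (LinearMap.proj j ∘ₗ φ ∘ₗ LinearMap.single R M i)) =
      ∑ i : ι, ∑ j : ι, (-1 : R) ^ (deg j).natAbs *
      LinearMap.trace R (M i) ((LinearMap.proj i ∘ₗ φ ∘ₗ LinearMap.single R M j) ∘ₗ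
        (LinearMap.proj j ∘ₗ ψ ∘ₗ LinearMap.single R M i)) := by
    rw [Finset.sum_comm]
    apply Finset.sum_congr rfl
    intro i _
    apply Finset.sum_congr rfl
    intro j _
    rw [LinearMap.trace_comp_comm']
  rw [h2, smul_eq_mul, Finset.mul_sum, ← Finset.sum_sub_distrib]
  apply Finset.sum_eq_zero
  intro i _
  rw [Finset.mul_sum, ← Finset.sum_sub_distrib]
  apply Finset.sum_eq_zero
  intro j _
  by_cases h1 : deg i = deg j + a
  · by_cases h3 : deg j = deg i + b
    · rw [Groth.Agent.H7.sgn_rel R (deg i) (deg j) a b h1 h3]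
      ring
    · rw [hψ i j h3, LinearMap.comp_zero, map_zero, mul_zero, mul_zero, mul_zero, sub_zero]
  · rw [hφ j i h1, LinearMap.zero_comp, map_zero, mul_zero, mul_zero, mul_zero, sub_zero]

end Groth.Agent.S14118
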