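import Groth.Statements.S14137
import Groth.Agent.Lib.Helper5.Curve4.VB3

set_option autoImplicit false
universe u
open CategoryTheory CategoryTheory.Limits AlgebraicGeometry
open VBCurve

namespace Groth.Agent.S14137

/-- Let C be a smooth proper geometrically connected curve over a field k (proper, smooth and
geometrically connected over k, of dimension one), and E a finite locally free O_C-module of rank r
≥ 1 which is stable: for every finite locally free submodule G of E of rank r' ≥ 1 whose inclusion
is not an isomorphism one has deg G · r < deg E · r', the degree of a rank-n locally free module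
being χ(G) − n·χ(O_C) (stability tested on proper submodules, equivalent to the definition through
quotient bundles). Then every nonzero endomorphism of E is an isomorphism, i.e. End(E) is a division
ring. (Over an algebraically closed field it follows that End(E) = k; that consequence is not
restated.) -/
theorem result (k : Type u) [Field k] (X : Scheme.{u}) [X.Over (Spec (CommRingCat.of k))]
    [IsProper (X ↘ Spec (CommRingCat.of k))] [Smooth (X ↘ Spec (CommRingCat.of k))]
    [GeometricallyConnected (X ↘ Spec (CommRingCat.of k))] (hdim : topologicalKrullDim ↥X = 1)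
    (r : ℕ) (hr : 0 < r) (E : X.Modules) (hE : FlatMod.IsFinLocFreeOfRank r E)
    (hEst : (∀ (G : X.Modules) (r' : ℕ) (i : G ⟶ E), Mono i → 0 < r' → FlatMod.IsFinLocFreeOfRank r' G → (¬ IsIso i) →
      Curv2.deg k X G r' * (r : ℤ) < Curv2.deg k X E r * (r' : ℤ)))
    (f : E ⟶ E) (hf : f ≠ 0) : IsIso f := by
  haveI : IsIntegral X := Groth.Agent.H5.Curve4.isIntegral_of_smooth_geomConn k X
  obtain ⟨a, b, hab, ha, hb, hdeg⟩ :=
    Groth.Agent.H5.Curve4.kernel_image_facts k X hdim.le r r hE hE f
  have hbpos := Groth.Agent.H5.Curve4.rank_coimage_pos X hf b hb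
  rcases Nat.eq_zero_or_pos a with h0 | hapos
  · subst h0
    haveI := Groth.Agent.H5.Curve4.mono_of_rank_kernel_zero X f ha
    exact (Groth.Agent.LD.Curve.deg_le_of_mono k X hdim.le r hE hE f).2 rfl
  · exfalso
    have hnK : ¬ IsIso (kernel.ι f) := fun h => hf (by
      haveI := h
      have h1 : kernel.ι f ≫ f = 0 := kernel.condition f
      exact (cancel_epi (kernel.ι f)).mp (by rw [h1, comp_zero]))
    have hK := hEst (kernel f) a (kernel.ι f) inferInstance hapos ha hnK
    have hnI : ¬ IsIso (Abelian.factorThruCoimage f) := fun h => by
      haveI := h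
      have h1 : r ≤ b := Groth.Agent.H5.Curve4.rank_le_of_mono X
        (inv (Abelian.factorThruCoimage f)) r b hE hb
      omega
    have hI := hEst (Abelian.coimage f) b (Abelian.factorThruCoimage f) inferInstance hbpos hb hnI
    have habz : (a : ℤ) + (b : ℤ) = (r : ℤ) := by exact_mod_cast hab
    have h1 : Curv2.deg k X E r * (r : ℤ) =
        Curv2.deg k X (kernel f) a * (r : ℤ) + Curv2.deg k X (Abelian.coimage f) b * (r : ℤ) := by
      rw [hdeg]; ring
    have h2 : Curv2.deg k X E r * (r : ℤ) =
        Curv2.deg k X E r * (a : ℤ) + Curv2.deg k X E r * (b : ℤ) := by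
      rw [← habz]; ring
    linarith

end Groth.Agent.S14137
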