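import Groth.Statements.S1415
import Mathlib
import Groth.Agent.Lib.Helper8.QFGeom
-- import your own Groth.Agent.* helpers here

set_option autoImplicit false
universe u
open FlatMor

namespace Groth.Agent.S1415

open AlgebraicGeometry CategoryTheory Limits in
/-- Let f : X → Y be locally quasi-finite. Then (1) for every y the number of irreducible components and
the number of connected components of the geometric fibre over y agree, and (2) if X is
quasi-compact these numbers are bounded by some natural number. -/
theorem result {X Y : Scheme.{u}} (f : X ⟶ Y) [LocallyQuasiFinite f] [LocallyOfFiniteType f] :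
    (∀ y : Y, MoreMor.nGeomIrredComp f y = MoreMor.nGeomConnComp f y) ∧
      (CompactSpace ↑X → ∃ d : ℕ, ∀ y : Y, MoreMor.nGeomConnComp f y ≤ d) := by
  classical
  -- discreteness of the geometric fibres
  have hdisc : ∀ y : Y, DiscreteTopology ↥(MoreMor.geomFiber f y) := by
    intro y
    let p₂ := pullback.snd (f.fiberToSpecResidueField y)
      (Spec.map (CommRingCat.ofHom
        (algebraMap (Y.residueField y) (SeparableClosure (Y.residueField y)))))
    have h1 : LocallyQuasiFinite (f.fiberToSpecResidueField y) :=
      MorphismProperty.pullback_snd (P := @LocallyQuasiFinite) _ _ inferInstance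
    have h2 : LocallyQuasiFinite p₂ :=
      MorphismProperty.pullback_snd (P := @LocallyQuasiFinite) _ _ h1
    have h3 := p₂.isDiscrete_preimage_singleton
      (IsLocalRing.closedPoint (SeparableClosure (Y.residueField y)))
    have h4 : (p₂ ⁻¹' {IsLocalRing.closedPoint (SeparableClosure (Y.residueField y))} :
        Set ↥(MoreMor.geomFiber f y)) = Set.univ := by
      ext z
      simp only [Set.mem_preimage, Set.mem_univ, iff_true]
      exact Subsingleton.elim _ _
    have h5 : _root_.IsDiscrete (Set.univ : Set ↥(MoreMor.geomFiber f y)) := h4 ▸ h3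
    exact (isDiscrete_univ_iff).mp h5
  refine ⟨fun y => ?_, fun hX => ?_⟩
  · have := hdisc y
    unfold MoreMor.nGeomIrredComp MoreMor.nGeomConnComp
    rw [Groth.Agent.H8.QFGeom.encard_irreducibleComponents_of_discrete,
      Groth.Agent.H8.QFGeom.enatCard_connectedComponents_of_discrete]
  · obtain ⟨d, hd⟩ := Groth.Agent.H8.QFGeom.exists_global_bound f
    refine ⟨d, fun y => ?_⟩
    have := hdisc y
    unfold MoreMor.nGeomConnComp
    rw [Groth.Agent.H8.QFGeom.enatCard_connectedComponents_of_discrete]
    let ψ := Spec.map (CommRingCat.ofHom
        (algebraMap (Y.residueField y) (SeparableClosure (Y.residueField y))))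
    let iso : MoreMor.geomFiber f y ≅ pullback (ψ ≫ Y.fromSpecResidueField y) f :=
      pullbackLeftPullbackSndIso f (Y.fromSpecResidueField y) ψ ≪≫ pullbackSymmetry _ _
    have hcard : ENat.card ↥(MoreMor.geomFiber f y) =
        ENat.card ↥(pullback (ψ ≫ Y.fromSpecResidueField y) f) :=
      ENat.card_congr iso.hom.homeomorph.toEquiv
    rw [hcard]
    exact Groth.Agent.H8.QFGeom.enatCard_le_of_forall_finset d
      (hd (SeparableClosure (Y.residueField y)) (ψ ≫ Y.fromSpecResidueField y))

end Groth.Agent.S1415
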