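import Groth.Statements.S14195
import Groth.Agent.Lib.Helper6.Lang1

set_option autoImplicit false
universe u v
open StackCount

namespace Groth.Agent.S14195

/-- Let k be a finite field, k̄ an algebraic closure, Γ = Aut(k̄/k) with the Krull topology and π ∈ Γ
the Frobenius x ↦ x^(#k). Let A be a group on which Γ acts by group automorphisms, with open
stabilisers, such that every element of A lies in a finite Γ-stable subgroup. Then z ↦ z(π) is a
bijection from the locally constant 1-cocycles Γ → A (the continuous cocycles for discrete A) onto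
A, and two such cocycles z, z' are cohomologous if and only if z'(π) = g · z(π) · (π g)^(-1) for
some g in A; hence it induces a bijection of the continuous first cohomology set with the quotient
of A by the twisted conjugation g · x = g x (π g)^(-1). (The published statement takes A to be the
group of k̄-points of a smooth algebraic group over k with its Galois action; this row assumes only
the two properties of that action which the proof uses.) -/
theorem result (k : Type u) [Field k] [Finite k]
    (π : AlgebraicClosure k ≃ₐ[k] AlgebraicClosure k)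
    (hπ : ∀ x : AlgebraicClosure k, π x = x ^ Nat.card k)
    (A : Type v) [Group A] [MulDistribMulAction (AlgebraicClosure k ≃ₐ[k] AlgebraicClosure k) A]
    (hcont : ∀ a : A, IsOpen {σ : AlgebraicClosure k ≃ₐ[k] AlgebraicClosure k | σ • a = a})
    (hfin : ∀ a : A, ∃ H : Subgroup A, (H : Set A).Finite ∧ a ∈ H ∧
      ∀ (σ : AlgebraicClosure k ≃ₐ[k] AlgebraicClosure k) (x : A), x ∈ H → σ • x ∈ H) :
    Function.Bijective
        (fun z : GpH1.OneCocycleLC (AlgebraicClosure k ≃ₐ[k] AlgebraicClosure k) A => z.1 π) ∧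
      ∀ z z' : GpH1.OneCocycleLC (AlgebraicClosure k ≃ₐ[k] AlgebraicClosure k) A,
        z.cl = z'.cl ↔ ∃ g : A, z'.1 π = g * z.1 π * (π • g)⁻¹ := by
  -- density of the powers of π
  have hdense : ∀ W : Set (AlgebraicClosure k ≃ₐ[k] AlgebraicClosure k), IsOpen W → ∀ σ ∈ W,
      ∃ n : ℕ, π ^ n ∈ W := by
    intro W hW σ hσ
    have h1 : (fun τ => σ * τ) ⁻¹' W ∈ nhds (1 : AlgebraicClosure k ≃ₐ[k] AlgebraicClosure k) := by
      apply IsOpen.mem_nhds (hW.preimage (continuous_const_mul σ))
      simpa using hσ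
    obtain ⟨E, hE, hEW⟩ := (krullTopology_mem_nhds_one_iff _ _ _).mp h1
    obtain ⟨n, hn⟩ := Groth.Agent.H6.Lang.exists_pow_mem k π hπ E σ
    refine ⟨n, ?_⟩
    have := hEW hn
    simpa using this
  have hinj : Function.Injective
      (fun z : GpH1.OneCocycleLC (AlgebraicClosure k ≃ₐ[k] AlgebraicClosure k) A => z.1 π) :=
    fun z z' h => Groth.Agent.H6.Lang.lc_ext π hdense z z' h
  -- open stabilizers contain fixing subgroups
  have hstab : ∀ a : A, ∃ E : IntermediateField k (AlgebraicClosure k), FiniteDimensional k E ∧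
      ∀ v ∈ E.fixingSubgroup, v • a = a := by
    intro a
    have h1 : {σ : AlgebraicClosure k ≃ₐ[k] AlgebraicClosure k | σ • a = a} ∈
        nhds (1 : AlgebraicClosure k ≃ₐ[k] AlgebraicClosure k) :=
      (hcont a).mem_nhds (by simp)
    obtain ⟨E, hE, hEW⟩ := (krullTopology_mem_nhds_one_iff _ _ _).mp h1
    exact ⟨E, hE, fun v hv => hEW hv⟩
  have hlcsmul : ∀ g : A, IsLocallyConstant
      (fun σ : AlgebraicClosure k ≃ₐ[k] AlgebraicClosure k => σ • g) := by
    intro g
    rw [IsLocallyConstant.iff_exists_open]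
    intro σ
    refine ⟨(fun v => σ * v) '' {τ | τ • g = g}, (Homeomorph.mulLeft σ).isOpenMap _ (hcont g),
      ⟨1, by simp, mul_one σ⟩, ?_⟩
    rintro _ ⟨v, hv, rfl⟩
    simp only [Set.mem_ofPred_eq] at hv
    rw [mul_smul, hv]
  refine ⟨⟨hinj, ?_⟩, ?_⟩
  · intro a
    obtain ⟨H, hHfin, haH, hHst⟩ := hfin a
    have : Finite H := hHfin
    choose Eh hEh1 hEh2 using hstab
    let E₀ : IntermediateField k (AlgebraicClosure k) := ⨆ h : H, Eh h.1
    have hE₀fd : FiniteDimensional k E₀ := IntermediateField.finiteDimensional_iSup_of_finite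
    have hE₀H : ∀ v ∈ E₀.fixingSubgroup, ∀ x ∈ H, v • x = x := by
      intro v hv x hx
      apply hEh2 x v
      exact IntermediateField.fixingSubgroup_antitone (le_iSup (fun h : H => Eh h.1) ⟨x, hx⟩) hv
    set d₀ := Module.finrank k E₀ with hd₀
    have hd₀pos : 0 < d₀ := Module.finrank_pos
    set r := Nat.card H with hr
    have hrpos : 0 < r := Nat.card_pos
    obtain ⟨E₁, hE₁fd, hE₁⟩ := Groth.Agent.H6.Lang.exists_finrank k (d₀ * r) (Nat.mul_ne_zero hd₀pos.ne' hrpos.ne')
    let E : IntermediateField k (AlgebraicClosure k) := E₀ ⊔ E₁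
    have hEfd : FiniteDimensional k E := IntermediateField.finiteDimensional_sup E₀ E₁
    have : Finite E := Module.finite_of_finite k
    have hVn : E.fixingSubgroup.Normal := inferInstance
    have hd : ∀ x ∈ H, π ^ d₀ • x = x := by
      intro x hx
      exact hE₀H _ ((Groth.Agent.H6.Lang.pow_mem_iff k π hπ E₀ d₀).mpr dvd_rfl) x hx
    obtain ⟨z, hz⟩ := Groth.Agent.H6.Lang.exists_cocycle π a H hHst haH E.fixingSubgroup E.fixingSubgroup_isOpen
      (fun v hv x hx => hE₀H v (IntermediateField.fixingSubgroup_antitone le_sup_left hv) x hx)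
      (fun σ => Groth.Agent.H6.Lang.exists_pow_mem k π hπ E σ)
      (by
        intro j hj
        have h1 : π ^ j ∈ E₁.fixingSubgroup :=
          IntermediateField.fixingSubgroup_antitone le_sup_right hj
        rw [Groth.Agent.H6.Lang.pow_mem_iff k π hπ E₁ j, hE₁] at h1
        obtain ⟨i, rfl⟩ := h1
        rw [mul_assoc, Groth.Agent.H6.Lang.tw_mul π a H hHst haH d₀ hd, pow_mul]
        have h2 : (Groth.Agent.H6.Lang.tw π a d₀) ^ r = 1 := by
          have := pow_card_eq_one' (G := H) (x := ⟨Groth.Agent.H6.Lang.tw π a d₀, Groth.Agent.H6.Lang.tw_mem π a H hHst haH d₀⟩)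
          exact congrArg Subtype.val this
        rw [h2, one_pow])
    exact ⟨z, hz⟩
  · intro z z'
    rw [GpH1.OneCocycleLC.cl_eq_cl_iff]
    constructor
    · rintro ⟨c, hc⟩
      refine ⟨c, ?_⟩
      rw [hc π]
      group
    · rintro ⟨g, hg⟩
      have hcoc : GpH1.IsOneCocycle (fun σ => g⁻¹ * z'.1 σ * σ • g) := by
        intro σ τ
        show g⁻¹ * z'.1 (σ * τ) * (σ * τ) • g = g⁻¹ * z'.1 σ * σ • g * σ • (g⁻¹ * z'.1 τ * τ • g)
        rw [z'.1.2 σ τ, smul_mul', smul_mul', smul_inv', mul_smul]
        group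
      have hlc : IsLocallyConstant (fun σ => g⁻¹ * z'.1 σ * σ • g) := by
        have h1 : IsLocallyConstant (fun σ => (z'.1 σ, σ • g)) := by
          rw [IsLocallyConstant.iff_exists_open]
          intro σ
          obtain ⟨U1, hU1, hσ1, h1⟩ := (IsLocallyConstant.iff_exists_open _).mp z'.2 σ
          obtain ⟨U2, hU2, hσ2, h2⟩ := (IsLocallyConstant.iff_exists_open _).mp (hlcsmul g) σ
          exact ⟨U1 ∩ U2, hU1.inter hU2, ⟨hσ1, hσ2⟩, fun y hy => by rw [h1 y hy.1, h2 y hy.2]⟩
        exact h1.comp (fun p : A × A => g⁻¹ * p.1 * p.2)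
      let w : GpH1.OneCocycleLC (AlgebraicClosure k ≃ₐ[k] AlgebraicClosure k) A := ⟨⟨_, hcoc⟩, hlc⟩
      have hw : w.1 π = z.1 π := by
        show g⁻¹ * z'.1 π * π • g = z.1 π
        rw [hg]; group
      have := Groth.Agent.H6.Lang.lc_ext π hdense w z hw
      refine ⟨g, fun σ => ?_⟩
      rw [← this]

end Groth.Agent.S14195
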