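import Groth.Statements.S1420
import Mathlib
import Groth.Agent.Lib.Helper1.WtOpen

set_option autoImplicit false
universe u
open FlatMor

namespace Groth.Agent.S1420

open AlgebraicGeometry CategoryTheory Limits in
/-- A locally quasi-finite morphism with a weighting taking only positive values is universally open. -/
theorem result {X Y : Scheme.{u}} (f : X ⟶ Y) [LocallyQuasiFinite f] [LocallyOfFiniteType f] (w : ↑X → ℤ) (hw : MoreMor.IsWeighting f w) (hpos : ∀ x, 0 < w x) :
    UniversallyOpen f := by
  exact Groth.Agent.H1.WtOpen.universallyOpen f w
    (Groth.Agent.H1.WtKey.genWeighting_of_isWeighting hw) hpos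

end Groth.Agent.S1420
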