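import Groth.Statements.S14252
import Groth.Agent.Lib.Helper7.PerfTor4
-- import your own Groth.Agent.* helpers here

set_option autoImplicit false
universe u
open CategoryTheory
open FrobAlg

namespace Groth.Agent.S14252

/-- Let p be a prime, A a commutative ring with p = 0 whose p-th power map is bijective, and B, C two
commutative A-algebras whose p-th power maps are bijective (a diagram C ← A → B of perfect rings of
characteristic p). Then Tor_i^A(B, C) vanishes for all i > 0. -/
theorem result (p : ℕ) [Fact p.Prime] (A B C : Type u) [CommRing A] [CommRing B] [CommRing C]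
    [CharP A p] [Algebra A B] [Algebra A C]
    (hA : Function.Bijective fun a : A => a ^ p) (hB : Function.Bijective fun b : B => b ^ p)
    (hC : Function.Bijective fun c : C => c ^ p) (i : ℕ) (hi : 0 < i) :
    Limits.IsZero (((Tor (ModuleCat.{u} A) i).obj (ModuleCat.of A B)).obj (ModuleCat.of A C)) := by
  obtain ⟨j, rfl⟩ : ∃ j, i = j + 1 := ⟨i - 1, by omega⟩
  have hA' : Groth.Agent.H7.PerfTor.IsPerf p A := ⟨CharP.cast_eq_zero A p, hA⟩
  have hB' : Groth.Agent.H7.PerfTor.IsPerf p B :=
    ⟨by rw [← map_natCast (algebraMap A B), CharP.cast_eq_zero, map_zero], hB⟩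
  have hC' : Groth.Agent.H7.PerfTor.IsPerf p C :=
    ⟨by rw [← map_natCast (algebraMap A C), CharP.cast_eq_zero, map_zero], hC⟩
  exact Groth.Agent.H7.PerfTor.isZero_tor_of_isPerf hA' hB' hC' j

end Groth.Agent.S14252
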