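import Groth.Statements.S14253
import Mathlib
import Groth.Agent.H4.PerfUH

set_option autoImplicit false
universe u
open CategoryTheory AlgebraicGeometry
open PerfSch

namespace Groth.Agent.S14253

open CategoryTheory CategoryTheory.Limits AlgebraicGeometry TensorProduct
open Groth.Agent.H4.AWNSch2 Groth.Agent.H4.PerfUH


section Sch

lemma isPerfect_opens (p : ℕ) {X : Scheme.{u}} (hX : PerfSch.IsPerfect p X) (U : X.Opens) :
    PerfSch.IsPerfect p (U : Scheme.{u}) := fun V => hX (U.ι ''ᵁ V)

/-- A universal homeomorphism f : X ⟶ Y between perfect schemes of prime characteristic p (on every open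
of X and of Y, p = 0 in the ring of sections and the p-th power map is bijective) is an isomorphism. -/
theorem result (p : ℕ) [Fact p.Prime] {X Y : Scheme.{u}} (f : X ⟶ Y)
    (hX : PerfSch.IsPerfect p X) (hY : PerfSch.IsPerfect p Y) (hf : FlatMor.IsUnivHomeo f) : IsIso f := by
  haveI : IsIntegralHom f := ((Groth.Agent.H1.isUnivHomeo_iff_integral f).mp hf).1
  show MorphismProperty.isomorphisms Scheme f
  refine HasAffineProperty.of_iSup_eq_top (P := MorphismProperty.isomorphisms Scheme)
    (fun U : Y.affineOpens => U) (iSup_affineOpens_eq_top Y) fun U => ?_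
  haveI : IsAffine ((f ⁻¹ᵁ U.1 : X.Opens) : Scheme.{u}) := U.2.preimage f
  refine ⟨inferInstance, ?_⟩
  have hUH : FlatMor.IsUnivHomeo (f ∣_ U.1) := IsZariskiLocalAtTarget.restrict hf U.1
  have hUH' : FlatMor.IsUnivHomeo (Spec.map (f ∣_ U.1).appTop) :=
    (MorphismProperty.arrow_mk_iso_iff (FlatMor.IsUnivHomeo.{u})
      (arrowIsoSpecΓOfIsAffine (f ∣_ U.1))).mp hUH
  have h1 := isPerfect_opens p hY U.1 ⊤
  have h2 := isPerfect_opens p hX (f ⁻¹ᵁ U.1) ⊤
  have hb := bijective_of_uh_perfect p (Fact.out) (f ∣_ U.1).appTop.hom h1.1 h1.2 h2.2 hUH'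
  exact (ConcreteCategory.isIso_iff_bijective _).mpr hb

end Sch


end Groth.Agent.S14253
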