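import Groth.Statements.S14254
import Mathlib
import Groth.Prelude.Def_Flat
import Groth.Agent.H4.UHCharP

set_option autoImplicit false
universe u
open CategoryTheory AlgebraicGeometry
open FrobAlg

namespace Groth.Agent.S14254

open CategoryTheory CategoryTheory.Limits AlgebraicGeometry TensorProduct


open Groth.Agent.H4.UHCharP

/-- Let p be a prime, φ : A → B a map of commutative rings of characteristic p, i : A → A' and j : B →
B' perfect closures (A' and B' are perfect rings of characteristic p, every element of A' resp. B'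
has a p^n-th power in the image of i resp. j, and the kernels of i and j consist of nilpotent
elements), and φ' : A' → B' the induced map, φ' ∘ i = j ∘ φ. Then Spec φ : Spec B ⟶ Spec A is a
universal homeomorphism if and only if φ' is bijective. (The published statement is for an arbitrary
morphism of schemes over the prime field and its perfection; this row is the case of affine schemes,
the perfection of Spec A being Spec of the perfect closure of A.) -/
theorem result (p : ℕ) [Fact p.Prime]
    {A B A' B' : Type u} [CommRing A] [CommRing B] [CommRing A'] [CommRing B']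
    [CharP A p] [CharP B p] [CharP A' p] [CharP B' p] [PerfectRing A' p] [PerfectRing B' p]
    (φ : A →+* B) (i : A →+* A') (j : B →+* B') [IsPerfectClosure i p] [IsPerfectClosure j p]
    (φ' : A' →+* B') (hφ : φ'.comp i = j.comp φ) :
    FlatMor.IsUnivHomeo (Spec.map (CommRingCat.ofHom φ)) ↔ Function.Bijective φ' := by
  have hp : p.Prime := Fact.out
  have hφ' : ∀ a, φ' (i a) = j (φ a) := fun a => congrArg (fun f => f a) hφ
  have hredA : ∀ x : A', IsNilpotent x → x = 0 := by
    rintro x ⟨N, hN⟩
    have h1 : x ^ p ^ N = 0 := by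
      have : N ≤ p ^ N := (Nat.lt_pow_self hp.one_lt).le
      rw [← Nat.sub_add_cancel this, pow_add, hN, mul_zero]
    apply (bijective_iterateFrobenius A' p N).1
    rw [iterateFrobenius_def, iterateFrobenius_def, h1, zero_pow (pow_pos hp.pos N).ne']
  have hnilA : ∀ a : A, i a = 0 → IsNilpotent a := by
    intro a ha
    have := IsPRadical.ker_le i p (show a ∈ RingHom.ker i from ha)
    obtain ⟨n, hn⟩ := mem_pNilradical.mp this
    exact ⟨_, hn⟩
  have hnilB : ∀ b : B, j b = 0 → ∃ m, b ^ p ^ m = 0 := by
    intro b hb
    have := IsPRadical.ker_le j p (show b ∈ RingHom.ker j from hb)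
    exact mem_pNilradical.mp this
  rw [uh_charP_iff p φ]
  constructor
  · rintro ⟨hker, hpow⟩
    constructor
    · rw [injective_iff_map_eq_zero]
      intro x hx
      obtain ⟨n, a, ha⟩ := IsPRadical.pow_mem i p x
      have h1 : j (φ a) = 0 := by rw [← hφ', ha, map_pow, hx, zero_pow (pow_pos hp.pos n).ne']
      obtain ⟨m, hm⟩ := hnilB _ h1
      have h2 : IsNilpotent (a ^ p ^ m) := hker _ (by rw [RingHom.mem_ker, map_pow, hm])
      have h3 : IsNilpotent a := (IsNilpotent.pow_iff_pos (pow_pos hp.pos m).ne').mp h2
      have h4 : IsNilpotent (x ^ p ^ n) := ha ▸ h3.map i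
      exact hredA x ((IsNilpotent.pow_iff_pos (pow_pos hp.pos n).ne').mp h4)
    · intro y
      obtain ⟨n, b, hb⟩ := IsPRadical.pow_mem j p y
      obtain ⟨m, a, ha⟩ := hpow b
      obtain ⟨z, hz⟩ := (bijective_iterateFrobenius A' p (n + m)).2 (i a)
      rw [iterateFrobenius_def] at hz
      refine ⟨z, ?_⟩
      apply (bijective_iterateFrobenius B' p (n + m)).1
      rw [iterateFrobenius_def, iterateFrobenius_def, ← map_pow, hz, hφ', ha, map_pow, hb,
        ← pow_mul, ← pow_add]
  · rintro ⟨hinj, hsurj⟩
    constructor
    · intro a ha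
      apply hnilA
      apply hinj
      rw [hφ', map_zero, show φ a = 0 from ha, map_zero]
    · intro b
      obtain ⟨x, hx⟩ := hsurj (j b)
      obtain ⟨n, a, ha⟩ := IsPRadical.pow_mem i p x
      have h1 : j (b ^ p ^ n - φ a) = 0 := by
        rw [map_sub, map_pow, ← hx, ← map_pow, ← ha, hφ', sub_self]
      obtain ⟨m, hm⟩ := hnilB _ h1
      rw [sub_pow_char_pow, sub_eq_zero] at hm
      refine ⟨n + m, a ^ p ^ m, ?_⟩
      rw [map_pow, ← hm, ← pow_mul, ← pow_add]


end Groth.Agent.S14254
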