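import Groth.Statements.S14258
import Mathlib
import Groth.Agent.Lib.Helper1.HCov2
import Groth.Agent.S4599

set_option autoImplicit false
universe u
open HTop

namespace Groth.Agent.S14258

namespace Aux
open CategoryTheory CategoryTheory.Limits AlgebraicGeometry Opposite
open Groth.Agent.Lib.Helper1.HCov

/-- an h sheaf over `S` has the sheaf property for a single proper surjective morphism of finite
presentation -/
theorem isSheafFor_singleton_over (S : Scheme.{u}) (F : HTop.ShH S) {A B : Over S} (g : A ⟶ B)
    [IsProper g.left] [Surjective g.left] [LocallyOfFinitePresentation g.left] :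
    Presieve.IsSheafFor F.obj (Presieve.singleton g) := by
  have hF : Presieve.IsSheaf (HTop.Jh S) F.obj := (isSheaf_iff_isSheaf_of_type _ _).mp F.property
  have hH : HTop.IsHCover (PreZeroHypercover.singleton.{u+1} g.left) :=
    isHCover_singleton_of_proper_surjective g.left
  have hcov0 : Sieve.generate (Presieve.singleton g.left) ∈ HTop.hTopology B.left := by
    apply Precoverage.generate_mem_toGrothendieck
    have := (HTop.presieve₀_mem_hPrecoverage_iff (PreZeroHypercover.singleton.{u+1} g.left)).mpr hH
    rwa [PreZeroHypercover.presieve₀_singleton] at this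
  exact hF.isSheafFor _ (generate_singleton_mem_over _ g hcov0)

/-- joint surjectivity of the diagonal and the part over the centre -/
theorem mem_range_diagonal_or {X Y Z : Scheme.{u}} (f : X ⟶ Y) (i : Z ⟶ Y)
    (U : Y.Opens) (hU : (U : Set Y) = (Set.range i.base)ᶜ) (hiso : IsIso (f ∣_ U))
    (w : ↑(pullback f f)) :
    w ∈ Set.range (pullback.diagonal f) ∨
      w ∈ Set.range (pullback.fst (pullback.fst f f ≫ f) i) := by
  by_cases hy : (pullback.fst f f ≫ f) w ∈ Set.range i.base
  · right
    obtain ⟨z, hz⟩ := hy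
    obtain ⟨v, hv, -⟩ := Scheme.Pullback.exists_preimage_pullback
      (f := pullback.fst f f ≫ f) (g := i) w z hz.symm
    exact ⟨v, hv⟩
  · left
    have hyU : (pullback.fst f f ≫ f) w ∈ U := by
      have : (pullback.fst f f ≫ f) w ∈ (U : Set Y) := by rw [hU]; exact hy
      exact this
    let WU : (pullback f f).Opens := (pullback.fst f f ≫ f) ⁻¹ᵁ U
    have hrange1 : Set.range (WU.ι ≫ pullback.fst f f) ⊆ Set.range (f ⁻¹ᵁ U).ι := by
      rintro _ ⟨v, rfl⟩
      rw [Scheme.Opens.range_ι]
      exact v.2
    have hrange2 : Set.range (WU.ι ≫ pullback.snd f f) ⊆ Set.range (f ⁻¹ᵁ U).ι := by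
      rintro _ ⟨v, rfl⟩
      rw [Scheme.Opens.range_ι]
      change f ((WU.ι ≫ pullback.snd f f) v) ∈ U
      rw [← Scheme.Hom.comp_apply, Category.assoc, ← pullback.condition, ← Category.assoc,
        Scheme.Hom.comp_apply]
      exact v.2
    let a₁ := IsOpenImmersion.lift (f ⁻¹ᵁ U).ι (WU.ι ≫ pullback.fst f f) hrange1
    let a₂ := IsOpenImmersion.lift (f ⁻¹ᵁ U).ι (WU.ι ≫ pullback.snd f f) hrange2
    have ha₁ : a₁ ≫ (f ⁻¹ᵁ U).ι = WU.ι ≫ pullback.fst f f := IsOpenImmersion.lift_fac _ _ _
    have ha₂ : a₂ ≫ (f ⁻¹ᵁ U).ι = WU.ι ≫ pullback.snd f f := IsOpenImmersion.lift_fac _ _ _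
    have ha : a₁ = a₂ := by
      rw [← cancel_mono (f ∣_ U), ← cancel_mono U.ι]
      rw [Category.assoc, Category.assoc, morphismRestrict_ι, ← Category.assoc, ← Category.assoc,
        ha₁, ha₂, Category.assoc, Category.assoc, pullback.condition]
    have h12 : WU.ι ≫ pullback.fst f f = WU.ι ≫ pullback.snd f f := by
      rw [← ha₁, ← ha₂, ha]
    have hι : WU.ι = (WU.ι ≫ pullback.fst f f) ≫ pullback.diagonal f := by
      apply pullback.hom_ext
      · rw [Category.assoc, pullback.diagonal_fst, Category.comp_id]
      · rw [Category.assoc, pullback.diagonal_snd, Category.comp_id, h12]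
    refine ⟨(WU.ι ≫ pullback.fst f f) ⟨w, hyU⟩, ?_⟩
    rw [← Scheme.Hom.comp_apply, ← hι]
    rfl

end Aux

open CategoryTheory CategoryTheory.Limits AlgebraicGeometry Opposite in
/-- Let S be a scheme and F a sheaf of sets on the big h site of S. Let Y be an affine scheme over S, f
: X ⟶ Y a proper surjective morphism of finite presentation over S which is an isomorphism over the
open complement U of a closed subscheme i : Z ⟶ Y of finite presentation, and E = X ×_Y Z with its
projections e : E ⟶ X and π : E ⟶ Z. Then the square of sets of sections F(Y) → F(X), F(Z) → F(E) is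
cartesian: a section over Z and a section over X with the same restriction to E come from exactly
one section over Y. (The published statement is for quasi-compact quasi-separated schemes of finite
presentation over a quasi-compact quasi-separated S and sheaves on those; this row works on all
S-schemes; with Y affine and f proper the four schemes are quasi-compact and quasi-separated.) -/
theorem result (S : Scheme.{u}) (F : HTop.ShH S)
    {E Z X Y : Over S} (e : E ⟶ X) (π : E ⟶ Z) (f : X ⟶ Y) (i : Z ⟶ Y) [IsAffine Y.left]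
    [IsProper f.left] [Surjective f.left] [LocallyOfFinitePresentation f.left]
    [IsClosedImmersion i.left] [LocallyOfFinitePresentation i.left]
    (hsq : IsPullback e.left π.left f.left i.left)
    (U : Y.left.Opens) (hU : (U : Set Y.left) = (Set.range i.left.base)ᶜ) (hiso : IsIso (f.left ∣_ U))
    (t : F.obj.obj (op Z)) (s' : F.obj.obj (op X)) (hts : F.obj.map π.op t = F.obj.map e.op s') :
    ∃! s : F.obj.obj (op Y), F.obj.map i.op s = t ∧ F.obj.map f.op s = s' := by
  have hF : Presieve.IsSheaf (HTop.Jh S) F.obj := (isSheaf_iff_isSheaf_of_type _ _).mp F.property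
  -- π is proper surjective of finite presentation
  have hπp : IsProper π.left := MorphismProperty.of_isPullback hsq ‹IsProper f.left›
  have hπs : Surjective π.left := MorphismProperty.of_isPullback hsq ‹Surjective f.left›
  have hπf : LocallyOfFinitePresentation π.left :=
    MorphismProperty.of_isPullback hsq ‹LocallyOfFinitePresentation f.left›
  have hshf : Presieve.IsSheafFor F.obj (Presieve.singleton f) := Aux.isSheafFor_singleton_over S F f
  have hshπ : Presieve.IsSheafFor F.obj (Presieve.singleton π) := Aux.isSheafFor_singleton_over S F π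
  have hinjπ : Function.Injective (F.obj.map π.op) :=
    Presieve.isSeparatedFor_singleton.mp hshπ.isSeparatedFor
  -- the double fibre product
  let P₁₀ : pullback f.left f.left ⟶ X.left := pullback.fst f.left f.left
  let P₂₀ : pullback f.left f.left ⟶ X.left := pullback.snd f.left f.left
  have hP12 : P₂₀ ≫ X.hom = P₁₀ ≫ X.hom := by
    rw [← Over.w f, ← Category.assoc, ← Category.assoc]
    congr 1
    exact pullback.condition.symm
  let W : Over S := Over.mk (P₁₀ ≫ X.hom)
  let P₁ : W ⟶ X := Over.homMk P₁₀ rfl
  let P₂ : W ⟶ X := Over.homMk P₂₀ hP12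
  -- key: the two pullbacks of s' agree
  have key : F.obj.map P₁.op s' = F.obj.map P₂.op s' := by
    let Δ₀ : X.left ⟶ pullback f.left f.left := pullback.diagonal f.left
    let Δ' : X ⟶ W := Over.homMk Δ₀ (by
      change pullback.diagonal f.left ≫ pullback.fst f.left f.left ≫ X.hom = X.hom
      rw [pullback.diagonal_fst_assoc])
    let c₀ : pullback f.left f.left ⟶ Y.left := P₁₀ ≫ f.left
    let q₀ : pullback c₀ i.left ⟶ pullback f.left f.left := pullback.fst c₀ i.left
    let r₀ : pullback c₀ i.left ⟶ Z.left := pullback.snd c₀ i.left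
    let EE : Over S := Over.mk (q₀ ≫ W.hom)
    let q' : EE ⟶ W := Over.homMk q₀ rfl
    have hc1 : (q₀ ≫ P₁₀) ≫ f.left = r₀ ≫ i.left := by
      rw [Category.assoc]; exact pullback.condition
    have hc2 : (q₀ ≫ P₂₀) ≫ f.left = r₀ ≫ i.left := by
      rw [← hc1, Category.assoc, Category.assoc]
      congr 1
      exact pullback.condition.symm
    let PE₁₀ : pullback c₀ i.left ⟶ E.left := hsq.lift (q₀ ≫ P₁₀) r₀ hc1
    let PE₂₀ : pullback c₀ i.left ⟶ E.left := hsq.lift (q₀ ≫ P₂₀) r₀ hc2
    have hPE1e : PE₁₀ ≫ e.left = q₀ ≫ P₁₀ := hsq.lift_fst _ _ _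
    have hPE2e : PE₂₀ ≫ e.left = q₀ ≫ P₂₀ := hsq.lift_fst _ _ _
    have hPE1π : PE₁₀ ≫ π.left = r₀ := hsq.lift_snd _ _ _
    have hPE2π : PE₂₀ ≫ π.left = r₀ := hsq.lift_snd _ _ _
    let PE₁ : EE ⟶ E := Over.homMk PE₁₀ (by
      change PE₁₀ ≫ E.hom = q₀ ≫ P₁₀ ≫ X.hom
      rw [← Over.w e, ← Category.assoc, hPE1e, Category.assoc])
    let PE₂ : EE ⟶ E := Over.homMk PE₂₀ (by
      change PE₂₀ ≫ E.hom = q₀ ≫ P₁₀ ≫ X.hom
      rw [← Over.w e, ← Category.assoc, hPE2e, Category.assoc, hP12])
    have hq1 : PE₁ ≫ e = q' ≫ P₁ := by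
      apply Over.OverMorphism.ext
      exact hPE1e
    have hq2 : PE₂ ≫ e = q' ≫ P₂ := by
      apply Over.OverMorphism.ext
      exact hPE2e
    have hππ : PE₁ ≫ π = PE₂ ≫ π := by
      apply Over.OverMorphism.ext
      change PE₁₀ ≫ π.left = PE₂₀ ≫ π.left
      rw [hPE1π, hPE2π]
    have hΔ1 : Δ' ≫ P₁ = 𝟙 X := by
      apply Over.OverMorphism.ext
      exact pullback.diagonal_fst f.left
    have hΔ2 : Δ' ≫ P₂ = 𝟙 X := by
      apply Over.OverMorphism.ext
      exact pullback.diagonal_snd f.left
    -- the covering family of W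
    let Zfam : Bool → Over S := fun b => bif b then X else EE
    let gfam : ∀ b, Zfam b ⟶ W := fun b => match b with
      | true => Δ'
      | false => q'
    let E₀ : PreZeroHypercover.{0} (pullback f.left f.left) :=
      { I₀ := Bool
        X := fun b => (Zfam b).left
        f := fun b => (gfam b).left }
    have hq₀ci : IsClosedImmersion q₀ := inferInstanceAs (IsClosedImmersion (pullback.fst c₀ i.left))
    have hq₀fp : LocallyOfFinitePresentation q₀ :=
      inferInstanceAs (LocallyOfFinitePresentation (pullback.fst c₀ i.left))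
    have hΔci : IsClosedImmersion Δ₀ := inferInstanceAs (IsClosedImmersion (pullback.diagonal f.left))
    have hΔfp : LocallyOfFinitePresentation Δ₀ := Groth.Agent.S4599.result f.left
    have hH : HTop.IsHCover E₀ := by
      apply Groth.Agent.Lib.Helper1.HCov.isHCover_of_proper_of_surjective E₀
        (inferInstanceAs (Finite Bool))
      · intro b
        cases b
        · change IsProper q₀; infer_instance
        · change IsProper Δ₀; infer_instance
      · intro b
        cases b
        · exact hq₀fp
        · exact hΔfp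
      · intro w
        rcases Aux.mem_range_diagonal_or f.left i.left U hU hiso w with h | h
        · exact ⟨true, h⟩
        · exact ⟨false, h⟩
    have hcov0 : Sieve.ofArrows (fun b => (Zfam b).left) (fun b => (gfam b).left) ∈
        HTop.hTopology W.left := by
      apply Precoverage.generate_mem_toGrothendieck
      exact (HTop.presieve₀_mem_hPrecoverage_iff E₀).mpr hH
    have hcov : Sieve.ofArrows Zfam gfam ∈ HTop.Jh S W :=
      Groth.Agent.Lib.Helper1.HCov.generate_ofArrows_mem_over _ Zfam gfam hcov0
    have hsep : Presieve.IsSeparatedFor F.obj (Presieve.ofArrows Zfam gfam) :=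
      (hF.isSheafFor _ hcov).isSeparatedFor
    apply hsep.ext
    rintro _ _ ⟨b⟩
    cases b
    · -- q'
      change F.obj.map q'.op (F.obj.map P₁.op s') = F.obj.map q'.op (F.obj.map P₂.op s')
      rw [← Functor.map_comp_apply, ← Functor.map_comp_apply, ← op_comp, ← op_comp,
        ← hq1, ← hq2, op_comp, op_comp, Functor.map_comp_apply,
        Functor.map_comp_apply, ← hts, ← Functor.map_comp_apply,
        ← Functor.map_comp_apply, ← op_comp, ← op_comp, hππ]
    · change F.obj.map Δ'.op (F.obj.map P₁.op s') = F.obj.map Δ'.op (F.obj.map P₂.op s')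
      rw [← Functor.map_comp_apply, ← Functor.map_comp_apply, ← op_comp, ← op_comp,
        hΔ1, hΔ2]
  -- descend s'
  rw [Presieve.isSheafFor_singleton] at hshf
  obtain ⟨s, hs, huniq⟩ := hshf s' (by
    intro Z' p₁ p₂ hp
    have hp' : p₁.left ≫ f.left = p₂.left ≫ f.left := congrArg (fun m => m.left) hp
    let l₀ : Z'.left ⟶ pullback f.left f.left := pullback.lift p₁.left p₂.left hp'
    let l : Z' ⟶ W := Over.homMk l₀ (by
      change pullback.lift p₁.left p₂.left hp' ≫ pullback.fst f.left f.left ≫ X.hom = Z'.hom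
      rw [pullback.lift_fst_assoc, Over.w])
    have hl1 : l ≫ P₁ = p₁ := by
      apply Over.OverMorphism.ext
      exact pullback.lift_fst _ _ _
    have hl2 : l ≫ P₂ = p₂ := by
      apply Over.OverMorphism.ext
      exact pullback.lift_snd _ _ _
    rw [← hl1, ← hl2, op_comp, op_comp, Functor.map_comp_apply,
      Functor.map_comp_apply, key])
  have hcomm : π ≫ i = e ≫ f := by
    apply Over.OverMorphism.ext
    exact hsq.w.symm
  refine ⟨s, ⟨?_, hs⟩, fun s₂ hs₂ => huniq s₂ hs₂.2⟩
  apply hinjπ
  rw [← Functor.map_comp_apply, ← op_comp, hcomm, op_comp, Functor.map_comp_apply,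
    hs, hts]

end Groth.Agent.S14258
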