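import Groth.Statements.S14294
import Mathlib.Tactic
-- import your own Groth.Agent.* helpers here

set_option autoImplicit false
universe u v
open PtDeg

namespace Groth.Agent.S14294

/-- Let A and G be abelian groups, written additively, and f : A → G a map which is pointed of degree 2,
that is f(x+y+z) + f(x) + f(y) + f(z) = f(x+y) + f(x+z) + f(y+z) for all x, y, z in A. If an integer
n satisfies n·x = 0 for every x in A, then 2n·f(x) = 0 for every x in A, and if moreover n is odd
then n·f(x) = 0 for every x in A. -/
theorem result {A : Type u} {G : Type v} [AddCommGroup A] [AddCommGroup G]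
    (f : A → G) (hf : ∀ x y z : A, f (x + y + z) + f x + f y + f z = f (x + y) + f (x + z) + f (y + z))
    (n : ℤ) (hn : ∀ x : A, n • x = 0) :
    (∀ x : A, (2 * n) • f x = 0) ∧ (Odd n → ∀ x : A, n • f x = 0) := by
  have f0 : f 0 = 0 := by
    have h := hf 0 0 0
    simp only [add_zero] at h
    have : f 0 + f 0 + f 0 + f 0 = f 0 + f 0 + f 0 + 0 := by rw [h]; abel
    exact add_left_cancel this
  -- B x y = f (x+y) - f x - f y
  have key : ∀ (x : A) (m : ℕ), f (m • x) = m • f x + (m.choose 2) • (f (x + x) - f x - f x) ∧
      f (m • x + x) - f (m • x) - f x = m • (f (x + x) - f x - f x) := by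
    intro x m
    induction m with
    | zero => simp [f0]
    | succ m ih =>
      obtain ⟨ih1, ih2⟩ := ih
      have e1 : f ((m + 1) • x) = (m + 1) • f x + ((m + 1).choose 2) • (f (x + x) - f x - f x) := by
        have : (m + 1).choose 2 = m + m.choose 2 := by
          rw [Nat.choose_succ_succ' m 1]; simp
        have h2 : f (m • x + x) = f (m • x) + f x + m • (f (x + x) - f x - f x) := by
          rw [← ih2]; abel
        rw [this, succ_nsmul x m, h2, ih1, succ_nsmul (f x) m, add_nsmul]; abel
      refine ⟨e1, ?_⟩
      have h := hf (m • x) x x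
      have h2 : f (m • x + x) = f (m • x) + f x + m • (f (x + x) - f x - f x) := by
        rw [← ih2]; abel
      have h3 : f ((m + 1) • x + x) = f (m • x + x + x) := by rw [succ_nsmul]
      rw [h3, succ_nsmul (f (x + x) - f x - f x) m, ← ih2]
      have h4 : (m + 1) • x = m • x + x := succ_nsmul x m
      rw [h4]
      have h5 : f (m • x + x + x) = f (m • x + x) + f (m • x + x) + f (x + x) - f (m • x) - f x - f x := by
        rw [eq_sub_iff_add_eq, eq_sub_iff_add_eq, eq_sub_iff_add_eq, ← h]; abel
      rw [h5]; abel
  -- natural number version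
  have nat_ver : ∀ (m : ℕ), (∀ x : A, m • x = 0) →
      (∀ x : A, (2 * m) • f x = 0) ∧ (Odd m → ∀ x : A, m • f x = 0) := by
    intro m hm
    have hB : ∀ x : A, m • (f (x + x) - f x - f x) = 0 := by
      intro x
      rw [← (key x m).2, hm x]; simp [f0]
    have hF : ∀ x : A, m • f x + (m.choose 2) • (f (x + x) - f x - f x) = 0 := by
      intro x
      rw [← (key x m).1, hm x, f0]
    constructor
    · intro x
      have h1 := hF x
      have h2 : (2 * m) • f x + (2 * m.choose 2) • (f (x + x) - f x - f x) = 0 := by
        rw [mul_nsmul', mul_nsmul', ← nsmul_add, h1, nsmul_zero]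
      have h3 : 2 * m.choose 2 = (m - 1) * m := by
        rw [Nat.choose_two_right, mul_comm m (m - 1)]
        exact Nat.mul_div_cancel' (by
          rw [mul_comm]; exact Nat.even_mul_pred_self m |>.two_dvd)
      rw [h3, mul_nsmul' (f (x + x) - f x - f x) (m - 1) m, hB x, nsmul_zero, add_zero] at h2
      exact h2
    · rintro ⟨k, hk⟩ x
      have h1 := hF x
      have h3 : m.choose 2 = k * m := by
        rw [Nat.choose_two_right, hk]
        have : (2 * k + 1) * (2 * k + 1 - 1) = 2 * (k * (2 * k + 1)) := by
          simp; ring
        rw [this, Nat.mul_div_cancel_left _ (by norm_num)]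
      rw [h3, mul_nsmul' (f (x + x) - f x - f x) k m, hB x, nsmul_zero, add_zero] at h1
      exact h1
  -- reduce integer n to natAbs
  have hm : ∀ x : A, n.natAbs • x = 0 := by
    intro x
    rcases Int.natAbs_eq n with h | h
    · have := hn x; rw [h] at this; simpa using this
    · have := hn x; rw [h] at this; simpa using this
  obtain ⟨r1, r2⟩ := nat_ver n.natAbs hm
  constructor
  · intro x
    have := r1 x
    rcases Int.natAbs_eq n with h | h
    · rw [h]; exact_mod_cast this
    · rw [h, mul_neg, neg_smul, neg_eq_zero]; exact_mod_cast this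
  · intro hodd x
    have := r2 (Int.natAbs_odd.mpr hodd) x
    rcases Int.natAbs_eq n with h | h
    · rw [h]; exact_mod_cast this
    · rw [h, neg_smul, neg_eq_zero]; exact_mod_cast this

end Groth.Agent.S14294
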