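import Groth.Statements.S14295
import Groth.Agent.Lib.Helper7.DegTwo
-- import your own Groth.Agent.* helpers here

set_option autoImplicit false
universe u v
open PtDeg

namespace Groth.Agent.S14295

/-- Let A and G be abelian groups, written additively, and f : A → G a map which is pointed of degree 2,
that is f(x+y+z) + f(x) + f(y) + f(z) = f(x+y) + f(x+z) + f(y+z) for all x, y, z in A. Then for
every integer n and every x in A one has f(n·x) = (n(n+1)/2)·f(x) + (n(n−1)/2)·f(−x) (the two
coefficients are the integers n(n+1)/2 and n(n−1)/2). -/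
theorem result {A : Type u} {G : Type v} [AddCommGroup A] [AddCommGroup G]
    (f : A → G) (hf : ∀ x y z : A, f (x + y + z) + f x + f y + f z = f (x + y) + f (x + z) + f (y + z))
    (n : ℤ) (x : A) :
    f (n • x) = (n * (n + 1) / 2) • f x + (n * (n - 1) / 2) • f (-x) := by
  have hf' : Groth.Agent.H7.DegTwo f := hf
  rcases Int.eq_nat_or_neg n with ⟨m, rfl | rfl⟩
  · rw [natCast_zsmul, hf'.nsmul x m, Groth.Agent.H7.int_tri_pos m, Groth.Agent.H7.int_tri_neg m,
      natCast_zsmul, natCast_zsmul]
  · have h0 : (-(m : ℤ)) • x = m • (-x) := by simp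
    rw [h0, hf'.nsmul (-x) m, neg_neg]
    have e1 : (-(m : ℤ)) * (-(m : ℤ) + 1) / 2 = ((m.choose 2 : ℕ) : ℤ) := by
      rw [← Groth.Agent.H7.int_tri_neg m]; congr 1; ring
    have e2 : (-(m : ℤ)) * (-(m : ℤ) - 1) / 2 = ((m + m.choose 2 : ℕ) : ℤ) := by
      rw [← Groth.Agent.H7.int_tri_pos m]; congr 1; ring
    rw [e1, e2, natCast_zsmul, natCast_zsmul, add_comm]

end Groth.Agent.S14295
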