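import Groth.Statements.S14296
import Groth.Agent.Lib.Helper7.DegTwo
-- import your own Groth.Agent.* helpers here

set_option autoImplicit false
universe u v
open PtDeg

namespace Groth.Agent.S14296

/-- Let G and H be abelian groups, written additively, n an integer such that 2n²·x = 0 for every x in
G, and d : G → H a quadratic map, meaning that d is pointed of degree 2 (d(x+y+z) + d(x) + d(y) +
d(z) = d(x+y) + d(x+z) + d(y+z) for all x, y, z) and even (d(−x) = d(x) for all x). Then d(2n·x) = 0
for every x in G. -/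
theorem result {G : Type u} {H : Type v} [AddCommGroup G] [AddCommGroup H]
    (n : ℤ) (hn : ∀ x : G, (2 * n ^ 2) • x = 0)
    (d : G → H) (hd : ∀ x y z : G, d (x + y + z) + d x + d y + d z = d (x + y) + d (x + z) + d (y + z))
    (heven : ∀ x : G, d (-x) = d x) (x : G) :
    d ((2 * n) • x) = 0 := by
  have hd' : Groth.Agent.H7.DegTwo d := hd
  have hnn : (0 : ℤ) ≤ 2 * n ^ 2 := by positivity
  obtain ⟨M, hM⟩ := Int.eq_ofNat_of_zero_le hnn
  have hMx : M • x = 0 := by
    have := hn x
    rw [hM] at this
    simpa using this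
  have h1 := (hd'.nsmul_aux x M).2
  rw [hMx, zero_add, hd'.map_zero, sub_zero, sub_self, hd'.double, heven] at h1
  -- h1 : 0 = M • (d x + d x)
  have key : ∀ N : ℕ, (N : ℤ) ^ 2 = 2 * (M : ℤ) → ∀ y : G, d y = d x → d (-y) = d x →
      d (N • y) = 0 := by
    intro N hN y hy hy'
    rw [hd'.nsmul y N, hy, hy', ← add_nsmul]
    have h2 : N + N.choose 2 + N.choose 2 = 2 * M := by
      have h3 := Groth.Agent.H7.two_mul_choose_two N
      have h4 : N + (N - 1) * N = N * N := by
        rcases N with _ | k
        · simp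
        · simp only [Nat.add_sub_cancel]; ring
      have h5 : N * N = 2 * M := by
        have : ((N * N : ℕ) : ℤ) = ((2 * M : ℕ) : ℤ) := by push_cast; rw [← hN]; ring
        exact_mod_cast this
      omega
    rw [h2, mul_nsmul, two_nsmul, ← h1]
  have hsq : ∀ N : ℕ, ((N : ℤ) = 2 * n ∨ -(N : ℤ) = 2 * n) → (N : ℤ) ^ 2 = 2 * (M : ℤ) := by
    intro N hN
    rw [← hM]
    rcases hN with h | h
    · rw [h]; ring
    · have : (N : ℤ) = -(2 * n) := by rw [← h]; ring
      rw [this]; ring
  rcases Int.eq_nat_or_neg (2 * n) with ⟨N, hN | hN⟩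
  · rw [hN, natCast_zsmul]
    exact key N (hsq N (Or.inl hN.symm)) x rfl (heven x)
  · rw [hN]
    have h0 : (-(N : ℤ)) • x = N • (-x) := by simp
    rw [h0]
    exact key N (hsq N (Or.inr hN.symm)) (-x) (heven x) (by rw [neg_neg])

end Groth.Agent.S14296
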