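import Groth.Statements.S14307
import Mathlib.Tactic
-- import your own Groth.Agent.* helpers here

set_option autoImplicit false
universe u v
open PtDeg

namespace Groth.Agent.S14307

/-- Let A and G be abelian groups, written additively, f : A → G a map and n ≥ 1. If a tuple x ∈ A^n has
some coordinate equal to 0, then the n-th deviation of f at x, namely Σ_{∅ ≠ I ⊆ {1,…,n}}
(−1)^{n+|I|} f(Σ_{i ∈ I} x_i), equals (−1)^{n+1} f(0). -/
theorem result {A : Type u} {G : Type v} [AddCommGroup A] [AddCommGroup G]
    (f : A → G) (n : ℕ) (hn : 1 ≤ n) (x : Fin n → A) (i : Fin n) (hx : x i = 0) :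
    ∑ I ∈ ((Finset.univ : Finset (Fin n)).powerset.erase ∅), ((-1 : ℤ) ^ (n + I.card)) • f (∑ j ∈ I, x j) =
      ((-1 : ℤ) ^ (n + 1)) • f 0 := by
  classical
  set F : Finset (Fin n) → G := fun I => ((-1 : ℤ) ^ (n + I.card)) • f (∑ j ∈ I, x j) with hF
  have htot : ∑ I ∈ (Finset.univ : Finset (Fin n)).powerset, F I = 0 := by
    have hins : (Finset.univ : Finset (Fin n)) = insert i (Finset.univ.erase i) := by
      rw [Finset.insert_erase (Finset.mem_univ i)]
    rw [hins, Finset.sum_powerset_insert (Finset.notMem_erase i _), ← Finset.sum_add_distrib]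
    apply Finset.sum_eq_zero
    intro I hI
    have hiI : i ∉ I := fun h => Finset.notMem_erase i _ (Finset.mem_powerset.mp hI h)
    simp only [hF]
    rw [Finset.card_insert_of_notMem hiI, Finset.sum_insert hiI, hx, zero_add, ← add_assoc, pow_succ]
    simp
  have hsplit := Finset.add_sum_erase (Finset.univ : Finset (Fin n)).powerset F
    (Finset.empty_mem_powerset _)
  rw [htot] at hsplit
  have h0 : F ∅ = ((-1 : ℤ) ^ n) • f 0 := by simp [hF]
  have : ∑ I ∈ ((Finset.univ : Finset (Fin n)).powerset.erase ∅), F I = - F ∅ := by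
    rw [eq_neg_iff_add_eq_zero, add_comm]; exact hsplit
  rw [this, h0, pow_succ]
  simp

end Groth.Agent.S14307
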