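import Groth.Statements.S14309
import Mathlib

set_option autoImplicit false
universe u v w x y
open CAlg

namespace Groth.Agent.S14309

/-- Let R be a commutative ring; A, B, C commutative R-algebras; i : A → B and j : A → C jointly
injective R-algebra maps; c a non-zero-divisor of B; u : C → B/(c) a ring map with u ∘ j equal to i
followed by reduction modulo c; ζ in A with i ζ = c and j ζ = 0; η : R[X_σ, Z] → A an R-algebra map
with η(Z) = ζ; a : R[Y_τ] → B a surjective R-algebra map; η_Z : R[X_σ, Z] → R[Y_τ] a surjective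
R-algebra map with a ∘ η_Z = i ∘ η. Fix c̃ in R[Y_τ] with a(c̃) = c, a family (p_h) generating the
kernel of the composite R[X_σ] → R[X_σ, Z] → A → C, a family (q'_h) generating the kernel of a
together with lifts q_h along η_Z, a family (v_h) generating the kernel of η_Z, and elements g'_h of
R[Y_τ] with η_Z(p_h) + g'_h c̃ in the ideal (q'_h), together with lifts g_h along η_Z. Then the
kernel of η is the ideal generated by the elements Z q_h, Z v_h and p_h + Z g_h. (The published
statement is for the rings of cycle classes, with coefficients ℤ[1/6], of a smooth quotient stack, a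
smooth closed substack whose normal bundle has top Chern class c a non-zero-divisor, and the open
complement; this row states the ring-theoretic content for any such square of commutative rings in
which A embeds in B × C.) -/
theorem result
    {R : Type u} [CommRing R] {A : Type v} {B : Type w} {C : Type x}
    [CommRing A] [CommRing B] [CommRing C] [Algebra R A] [Algebra R B] [Algebra R C]
    (i : A →ₐ[R] B) (j : A →ₐ[R] C)
    (hinj : ∀ t : A, i t = 0 → j t = 0 → t = 0)
    (c : B) (hc : c ∈ nonZeroDivisors B) (u : C →+* B ⧸ Ideal.span ({c} : Set B))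
    (hu : ∀ t : A, u (j t) = Ideal.Quotient.mk (Ideal.span ({c} : Set B)) (i t))
    (ζ : A) (hiζ : i ζ = c) (hjζ : j ζ = 0)
    {σ τ ιp ιq ιv : Type y}
    (η : MvPolynomial (Option σ) R →ₐ[R] A) (hη : η (MvPolynomial.X none) = ζ)
    (a : MvPolynomial τ R →ₐ[R] B) (ha : Function.Surjective a)
    (ηZ : MvPolynomial (Option σ) R →ₐ[R] MvPolynomial τ R)
    (hcomm : ∀ t, a (ηZ t) = i (η t)) (hηZ : Function.Surjective ηZ)
    (cZ : MvPolynomial τ R) (hcZ : a cZ = c)
    (p : ιp → MvPolynomial σ R)
    (hp : Ideal.span (Set.range p) =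
      RingHom.ker ((j.comp η).comp (MvPolynomial.rename (Option.some : σ → Option σ))))
    (q' : ιq → MvPolynomial τ R) (hq' : Ideal.span (Set.range q') = RingHom.ker a)
    (q : ιq → MvPolynomial (Option σ) R) (hq : ∀ h, ηZ (q h) = q' h)
    (v : ιv → MvPolynomial (Option σ) R) (hv : Ideal.span (Set.range v) = RingHom.ker ηZ)
    (g' : ιp → MvPolynomial τ R)
    (hg' : ∀ h, ηZ (MvPolynomial.rename (Option.some : σ → Option σ) (p h)) + g' h * cZ ∈
      Ideal.span (Set.range q'))
    (g : ιp → MvPolynomial (Option σ) R) (hg : ∀ h, ηZ (g h) = g' h) :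
    RingHom.ker η = Ideal.span
      (Set.range (fun h : ιq => MvPolynomial.X none * q h) ∪
        Set.range (fun h : ιv => MvPolynomial.X none * v h) ∪
        Set.range (fun h : ιp =>
          MvPolynomial.rename (Option.some : σ → Option σ) (p h) + MvPolynomial.X none * g h)) := by
  classical
  set Z : MvPolynomial (Option σ) R := MvPolynomial.X none with hZ
  set ρ : MvPolynomial σ R →ₐ[R] MvPolynomial (Option σ) R :=
    MvPolynomial.rename (Option.some : σ → Option σ) with hρ
  set J : Ideal (MvPolynomial (Option σ) R) := Ideal.span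
      (Set.range (fun h : ιq => Z * q h) ∪
        Set.range (fun h : ιv => Z * v h) ∪
        Set.range (fun h : ιp => ρ (p h) + Z * g h)) with hJ
  have hJq : ∀ h, Z * q h ∈ J := fun h =>
    Ideal.subset_span (Or.inl (Or.inl ⟨h, rfl⟩))
  have hJv : ∀ h, Z * v h ∈ J := fun h =>
    Ideal.subset_span (Or.inl (Or.inr ⟨h, rfl⟩))
  have hJp : ∀ h, ρ (p h) + Z * g h ∈ J := fun h =>
    Ideal.subset_span (Or.inr ⟨h, rfl⟩)
  have hiZ : ∀ t, i (η (Z * t)) = c * a (ηZ t) := by
    intro t
    rw [map_mul, map_mul, hη, hiζ, hcomm]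
  have hjZ : ∀ t, j (η (Z * t)) = 0 := by
    intro t
    rw [map_mul, map_mul, hη, hjζ, zero_mul]
  have hq'ker : ∀ h, a (q' h) = 0 := by
    intro h
    have : q' h ∈ RingHom.ker a := by rw [← hq']; exact Ideal.subset_span ⟨h, rfl⟩
    exact this
  have hpker : ∀ h, j (η (ρ (p h))) = 0 := by
    intro h
    have : p h ∈ RingHom.ker ((j.comp η).comp (MvPolynomial.rename (Option.some : σ → Option σ))) := by
      rw [← hp]; exact Ideal.subset_span ⟨h, rfl⟩
    exact this
  -- J ≤ ker η
  have hJle : J ≤ RingHom.ker η := by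
    rw [hJ, Ideal.span_le]
    rintro t ((⟨h, rfl⟩ | ⟨h, rfl⟩) | ⟨h, rfl⟩)
    · apply hinj
      · rw [hiZ, hq, hq'ker, mul_zero]
      · exact hjZ _
    · apply hinj
      · have : v h ∈ RingHom.ker ηZ := by rw [← hv]; exact Ideal.subset_span ⟨h, rfl⟩
        have h0 : ηZ (v h) = 0 := this
        rw [hiZ, h0, map_zero, mul_zero]
      · exact hjZ _
    · apply hinj
      · have h1 : ηZ (ρ (p h)) + g' h * cZ ∈ RingHom.ker a := by rw [← hq']; exact hg' h
        have h2 : a (ηZ (ρ (p h)) + g' h * cZ) = 0 := h1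
        rw [map_add, map_add, hiZ, ← hcomm, hg, mul_comm c]
        rw [map_add, map_mul, hcZ] at h2
        exact h2
      · rw [map_add, map_add, hjZ, add_zero]
        exact hpker h
  apply le_antisymm _ hJle
  -- decomposition
  have hdec : ∀ t : MvPolynomial (Option σ) R, ∃ t₀ t₁, t = ρ t₀ + Z * t₁ := by
    intro t
    induction t using MvPolynomial.induction_on with
    | C r => exact ⟨MvPolynomial.C r, 0, by rw [mul_zero, add_zero, hρ, MvPolynomial.rename_C]⟩
    | add x y hx hy =>
      obtain ⟨x₀, x₁, rfl⟩ := hx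
      obtain ⟨y₀, y₁, rfl⟩ := hy
      exact ⟨x₀ + y₀, x₁ + y₁, by rw [map_add]; ring⟩
    | mul_X x o hx =>
      obtain ⟨x₀, x₁, rfl⟩ := hx
      rcases o with _ | s
      · exact ⟨0, ρ x₀ + Z * x₁, by rw [map_zero, zero_add, hZ]; ring⟩
      · refine ⟨x₀ * MvPolynomial.X s, x₁ * MvPolynomial.X (some s), ?_⟩
        rw [map_mul, hρ, MvPolynomial.rename_X]; ring
  -- step 1: elements of span p
  have hstep1 : ∀ t₀ ∈ Ideal.span (Set.range p), ∃ t', ρ t₀ - Z * t' ∈ J := by
    intro t₀ ht₀
    induction ht₀ using Submodule.span_induction with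
    | mem x hx =>
      obtain ⟨h, rfl⟩ := hx
      refine ⟨- g h, ?_⟩
      have : ρ (p h) - Z * -g h = ρ (p h) + Z * g h := by ring
      rw [this]; exact hJp h
    | zero => exact ⟨0, by rw [map_zero, mul_zero, sub_zero]; exact Ideal.zero_mem _⟩
    | add x y _ _ hx hy =>
      obtain ⟨x', hx'⟩ := hx
      obtain ⟨y', hy'⟩ := hy
      refine ⟨x' + y', ?_⟩
      have : ρ (x + y) - Z * (x' + y') = (ρ x - Z * x') + (ρ y - Z * y') := by rw [map_add]; ring
      rw [this]; exact Ideal.add_mem _ hx' hy'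
    | smul r x _ hx =>
      obtain ⟨x', hx'⟩ := hx
      refine ⟨ρ r * x', ?_⟩
      have : ρ (r • x) - Z * (ρ r * x') = ρ r * (ρ x - Z * x') := by
        rw [smul_eq_mul, map_mul]; ring
      rw [this]; exact Ideal.mul_mem_left _ _ hx'
  -- step 2: lifting from span q'
  have hstep2 : ∀ y ∈ Ideal.span (Set.range q'), ∃ t'' ∈ Ideal.span (Set.range q), ηZ t'' = y := by
    intro y hy
    induction hy using Submodule.span_induction with
    | mem x hx =>
      obtain ⟨h, rfl⟩ := hx
      exact ⟨q h, Ideal.subset_span ⟨h, rfl⟩, hq h⟩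
    | zero => exact ⟨0, Ideal.zero_mem _, map_zero _⟩
    | add x y _ _ hx hy =>
      obtain ⟨x', hx', rfl⟩ := hx
      obtain ⟨y', hy', rfl⟩ := hy
      exact ⟨x' + y', Ideal.add_mem _ hx' hy', map_add _ _ _⟩
    | smul r x _ hx =>
      obtain ⟨x', hx', rfl⟩ := hx
      obtain ⟨r', rfl⟩ := hηZ r
      exact ⟨r' * x', Ideal.mul_mem_left _ _ hx', by rw [smul_eq_mul, map_mul]⟩
  have hZq : ∀ y ∈ Ideal.span (Set.range q), Z * y ∈ J := by
    intro y hy
    induction hy using Submodule.span_induction with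
    | mem x hx => obtain ⟨h, rfl⟩ := hx; exact hJq h
    | zero => rw [mul_zero]; exact Ideal.zero_mem _
    | add x y _ _ hx hy => rw [mul_add]; exact Ideal.add_mem _ hx hy
    | smul r x _ hx =>
      rw [smul_eq_mul, mul_left_comm]; exact Ideal.mul_mem_left _ _ hx
  have hZv : ∀ y ∈ Ideal.span (Set.range v), Z * y ∈ J := by
    intro y hy
    induction hy using Submodule.span_induction with
    | mem x hx => obtain ⟨h, rfl⟩ := hx; exact hJv h
    | zero => rw [mul_zero]; exact Ideal.zero_mem _
    | add x y _ _ hx hy => rw [mul_add]; exact Ideal.add_mem _ hx hy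
    | smul r x _ hx =>
      rw [smul_eq_mul, mul_left_comm]; exact Ideal.mul_mem_left _ _ hx
  -- main
  intro t ht
  have ht0 : η t = 0 := ht
  obtain ⟨t₀, t₁, rfl⟩ := hdec t
  have h1 : t₀ ∈ Ideal.span (Set.range p) := by
    rw [hp]
    change j (η (ρ t₀)) = 0
    have := congrArg j ht0
    rw [map_add, map_add, hjZ, add_zero, map_zero] at this
    exact this
  obtain ⟨t', ht'⟩ := hstep1 t₀ h1
  -- t = (ρ t₀ - Z t') + Z (t' + t₁)
  have hker2 : η (Z * (t' + t₁)) = 0 := by
    have e : Z * (t' + t₁) = (ρ t₀ + Z * t₁) - (ρ t₀ - Z * t') := by ring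
    rw [e, map_sub, ht0, zero_sub, neg_eq_zero]
    exact hJle ht'
  have h2 : a (ηZ (t' + t₁)) = 0 := by
    have := congrArg i hker2
    rw [hiZ, map_zero] at this
    exact (mem_nonZeroDivisors_iff.1 hc).1 _ this
  have h3 : ηZ (t' + t₁) ∈ Ideal.span (Set.range q') := by rw [hq']; exact h2
  obtain ⟨t'', ht''mem, ht''⟩ := hstep2 _ h3
  have h4 : (t' + t₁) - t'' ∈ Ideal.span (Set.range v) := by
    rw [hv]
    change ηZ ((t' + t₁) - t'') = 0
    rw [map_sub, ht'', sub_self]
  have e : ρ t₀ + Z * t₁ = (ρ t₀ - Z * t') + (Z * t'' + Z * ((t' + t₁) - t'')) := by ring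
  rw [e]
  exact Ideal.add_mem _ ht' (Ideal.add_mem _ (hZq _ ht''mem) (hZv _ h4))

end Groth.Agent.S14309
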