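import Groth.Statements.S14313
import Groth.Agent.Lib.Helper5.NefC.Seq4

set_option autoImplicit false
universe u
open CategoryTheory CategoryTheory.Limits AlgebraicGeometry TopologicalSpace
open Surf

namespace Groth.Agent.S14313

open Groth.Agent.H5

/-- Let k be an algebraically closed field, S a smooth projective surface over k (integral, proper and
smooth over k, of dimension 2), f : S → C a surjective k-morphism onto a smooth projective curve
(integral, proper and smooth over k, of dimension 1) and F = f⁻¹(p) the fibre over a closed point p,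
with O_S(F) a tensor inverse of its ideal sheaf. Let D be a divisor (L = O_S(D) an invertible
module), Z_1 ≥ Z_2 ≥ ⋯ ≥ Z_n ≥ Z_{n+1} = 0 effective Cartier divisors (ideal sheaves I_1 ⊆ I_2 ⊆ ⋯ ⊆
I_{n+1} = O_S) and μ_1 > μ_2 > ⋯ > μ_n > μ_{n+1} = 0 rational numbers such that every N_i = D − Z_i
− μ_i F (1 ≤ i ≤ n + 1) is a nef ℚ-divisor: (D·Γ) − (Z_i·Γ) − μ_i (F·Γ) ≥ 0 for every integral curve
Γ ⊆ S, where (L·Γ) = χ(O_Γ ⊗ L) − χ(O_Γ) and (Z_i·Γ) = −(I_i·Γ). Put d_i = N_i·F = (D·F) − (Z_i·F) −
μ_i (F·F). Then D² ≥ Σ_{i=1}^{n} (d_i + d_{i+1})(μ_i − μ_{i+1}); here (L·M) = χ(O_S) − χ(L) − χ(M) +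
χ(L ⊗ M) for invertible L, M, packaged as FGA.intNum. (Indices run over Fin (n+1), position i
standing for i + 1.) (The published statement is for the chapter's fibration, with connected fibres,
semi-stable and relatively minimal, over an algebraically closed field of positive characteristic;
this row asks only that f be surjective and allows any algebraically closed field.) -/
theorem result (k : Type u) [Field k] [IsAlgClosed k]
    (S : Scheme.{u}) [S.Over (Spec (CommRingCat.of k))] [IsProper (S ↘ (Spec (CommRingCat.of k)))]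
    [Smooth (S ↘ (Spec (CommRingCat.of k)))] [IsIntegral S] (hdim : topologicalKrullDim S = 2)
    (C : Scheme.{u}) [C.Over (Spec (CommRingCat.of k))] [IsProper (C ↘ (Spec (CommRingCat.of k)))]
    [Smooth (C ↘ (Spec (CommRingCat.of k)))] [IsIntegral C] (hdimC : topologicalKrullDim C = 1)
    (f : S ⟶ C) [f.IsOver (Spec (CommRingCat.of k))] [Surjective f]
    (p : C) (hp : IsClosed ({p} : Set C))
    (LF : S.Modules) (hLF : ClSub.IsInverseOf LF (ClSub.idealMod (f.fiberι p).ker))
    (L : S.Modules) (hL : PicF.IsInvertible L)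
    (n : ℕ) (Z : Fin (n + 1) → S.IdealSheafData) (hZ : ∀ i, FGA.IsEffCartier (Z i))
    (hZmono : Monotone Z) (hZlast : Z (Fin.last n) = ⊤)
    (μ : Fin (n + 1) → ℚ) (hμ : StrictAnti μ) (hμlast : μ (Fin.last n) = 0)
    (hnef : ∀ (i : Fin (n + 1)) (Γ : S.IdealSheafData), IsIntegral Γ.subscheme →
      topologicalKrullDim (Γ.support : Set S) = 1 →
      (0 : ℚ) ≤ ((Curv2.euler k S (CohB1.tensorMod (ClSub.quotMod Γ) L) - Curv2.euler k S (ClSub.quotMod Γ)) : ℚ) + ((Curv2.euler k S (CohB1.tensorMod (ClSub.quotMod Γ) (ClSub.idealMod (Z i))) - Curv2.euler k S (ClSub.quotMod Γ)) : ℚ)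
        - μ i * ((Curv2.euler k S (CohB1.tensorMod (ClSub.quotMod Γ) LF) - Curv2.euler k S (ClSub.quotMod Γ)) : ℚ)) :
    (Finset.univ.sum fun i : Fin n =>
        (((FGA.intNum k S 2 ![L, LF] (Coh.structureModule S) : ℚ) + (FGA.intNum k S 2 ![ClSub.idealMod (Z i.castSucc), LF] (Coh.structureModule S) : ℚ) - μ i.castSucc * (FGA.intNum k S 2 ![LF, LF] (Coh.structureModule S) : ℚ))
          + ((FGA.intNum k S 2 ![L, LF] (Coh.structureModule S) : ℚ) + (FGA.intNum k S 2 ![ClSub.idealMod (Z i.succ), LF] (Coh.structureModule S) : ℚ) - μ i.succ * (FGA.intNum k S 2 ![LF, LF] (Coh.structureModule S) : ℚ)))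
        * (μ i.castSucc - μ i.succ)) ≤ (FGA.intNum k S 2 ![L, L] (Coh.structureModule S) : ℚ) := by
  have hregC : ∀ x : C, IsRegularLocalRing (C.presheaf.stalk x) := fun x =>
    Groth.Agent.H1.SmoothDepth.isRegularLocalRing_stalk_of_smooth k
      (C ↘ Spec (CommRingCat.of k)) x
  haveI : IsClosedImmersion (C.fromSpecResidueField p) :=
    isClosed_singleton_iff_isClosedImmersion.mp hp
  have hker : (f.fiberι p).ker = (Scheme.IdealSheafData.vanishingIdeal ⟨{p}, hp⟩).comap f := by
    change (pullback.fst f (C.fromSpecResidueField p)).ker = _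
    rw [Scheme.IdealSheafData.ker_fst_of_isClosedImmersion, Curve6.ker_fromSpecResidueField]
    congr 1
    change Scheme.IdealSheafData.vanishingIdeal _ = _
    congr 1
    exact Closeds.ext hp.closure_eq
  have hJ : BlowUp.IsEffCartierIdeal (f.fiberι p).ker := by
    rw [hker]
    haveI := Groth.Agent.LD.Curve.isLocallyNoetherian k S
    haveI := Groth.Agent.LD.Curve.isLocallyNoetherian k C
    haveI := Hyper.nontrivial_of_dim_one hdimC
    have hD : BlowUp.IsEffCartierIdeal
        (Scheme.IdealSheafData.vanishingIdeal (⟨{p}, hp⟩ : Closeds C)) :=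
      Curve6.isEffCartierIdeal_of_isRegularLocalRing hdimC.le p hp
        (Hyper.ne_genericPoint_of_isClosed_of_dim_one hdimC p hp) (hregC p)
    have hgen : f (genericPoint S) ∉
        (Scheme.IdealSheafData.vanishingIdeal (⟨{p}, hp⟩ : Closeds C)).support := by
      intro h
      have h1 : f (genericPoint S) ∈
          ((Scheme.IdealSheafData.vanishingIdeal (⟨{p}, hp⟩ : Closeds C)).support : Set C) := h
      rw [Scheme.IdealSheafData.coe_support_vanishingIdeal] at h1
      have h2 : f (genericPoint S) = p := h1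
      have hall : ∀ x : S, f x = p := by
        intro x
        have hcl : IsClosed (f ⁻¹' ({p} : Set C)) := hp.preimage f.continuous
        exact (genericPoint_specializes x).mem_closed hcl h2
      obtain ⟨z, hz⟩ := exists_ne p
      obtain ⟨x, rfl⟩ := f.surjective z
      exact hz (hall x)
    exact Hyper.isEffCartierIdeal_comap_of_generic f _ hD hgen
  have hIFinv : PicF.IsInvertible (ClSub.idealMod (f.fiberι p).ker) :=
    (Groth.Agent.LD.QC.isInvertible_idealMod_iff _).mpr hJ
  obtain ⟨eLF⟩ := hLF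
  have hLFinv : PicF.IsInvertible LF := Groth.Agent.LD.GS.isInvertible_of_tensor_iso LF _ eLF
  refine NefC.xiao k hdim LF _ hLFinv hIFinv eLF L hL n Z (fun i => hZ i) hZmono hZlast μ hμ
    hμlast ?_
  intro i Γ hΓi hΓd
  have h := hnef i Γ hΓi hΓd
  unfold NefC.dG
  push_cast
  linarith

end Groth.Agent.S14313
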