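import Groth.Statements.S14314
import Groth.Agent.Lib.Helper5.NefC.Main

set_option autoImplicit false
universe u
open CategoryTheory CategoryTheory.Limits AlgebraicGeometry TopologicalSpace
open Surf

namespace Groth.Agent.S14314

open Groth.Agent.H5

/-- Let k be an algebraically closed field, S a smooth projective surface over k (integral, proper and
smooth over k, of dimension 2), f : S → C a surjective k-morphism onto a smooth projective curve and
F = f⁻¹(p) the fibre over a closed point p, with O_S(F) a tensor inverse of its ideal sheaf. Let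
D_1, D_2 be numerically equivalent divisors (invertible modules L_1, L_2 with (L_1·Γ) = (L_2·Γ) for
every integral curve Γ ⊆ S, where (L·Γ) = χ(O_Γ ⊗ L) − χ(O_Γ)), μ_1 ≥ μ_2 rational numbers and Z_1,
Z_2 effective Cartier divisors with common part Z, that is Z_i = Z + Y_i with Z, Y_1, Y_2 effective
Cartier divisors and Y_1, Y_2 without common component (Y_1 ∩ Y_2 finite); in terms of ideal sheaves
I_{Z_i} = I_Z · I_{Y_i}. If N_i = D_i − Z_i − μ_i F is nef for i = 1, 2, that is (D_i·Γ) +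
(I_{Z_i}·Γ) − μ_i (F·Γ) ≥ 0 for every integral curve Γ, then N = D_2 − Z − μ_2 F is nef. (The
published statement is for the chapter's fibration over an algebraically closed field of positive
characteristic; this row asks only that f be surjective and allows any algebraically closed field.) -/
theorem result (k : Type u) [Field k] [IsAlgClosed k]
    (S : Scheme.{u}) [S.Over (Spec (CommRingCat.of k))] [IsProper (S ↘ (Spec (CommRingCat.of k)))]
    [Smooth (S ↘ (Spec (CommRingCat.of k)))] [IsIntegral S] (hdim : topologicalKrullDim S = 2)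
    (C : Scheme.{u}) [C.Over (Spec (CommRingCat.of k))] [IsProper (C ↘ (Spec (CommRingCat.of k)))]
    [Smooth (C ↘ (Spec (CommRingCat.of k)))] [IsIntegral C] (hdimC : topologicalKrullDim C = 1)
    (f : S ⟶ C) [f.IsOver (Spec (CommRingCat.of k))] [Surjective f]
    (p : C) (hp : IsClosed ({p} : Set C))
    (LF : S.Modules) (hLF : ClSub.IsInverseOf LF (ClSub.idealMod (f.fiberι p).ker))
    (L₁ L₂ : S.Modules) (hL₁ : PicF.IsInvertible L₁) (hL₂ : PicF.IsInvertible L₂)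
    (hnum : ∀ Γ : S.IdealSheafData, IsIntegral Γ.subscheme → topologicalKrullDim (Γ.support : Set S) = 1 →
      (Curv2.euler k S (CohB1.tensorMod (ClSub.quotMod Γ) L₁) - Curv2.euler k S (ClSub.quotMod Γ)) = (Curv2.euler k S (CohB1.tensorMod (ClSub.quotMod Γ) L₂) - Curv2.euler k S (ClSub.quotMod Γ)))
    (μ₁ μ₂ : ℚ) (hμ : μ₂ ≤ μ₁)
    (Z Y₁ Y₂ Z₁ Z₂ : S.IdealSheafData) (hZ : FGA.IsEffCartier Z) (hY₁ : FGA.IsEffCartier Y₁) (hY₂ : FGA.IsEffCartier Y₂)
    (hZ₁ : Z₁ = Z * Y₁) (hZ₂ : Z₂ = Z * Y₂) (hY : ((Y₁ ⊔ Y₂).support : Set S).Finite)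
    (hnef₁ : (∀ Γ : S.IdealSheafData, IsIntegral Γ.subscheme → topologicalKrullDim (Γ.support : Set S) = 1 →
      (0 : ℚ) ≤ ((Curv2.euler k S (CohB1.tensorMod (ClSub.quotMod Γ) L₁) - Curv2.euler k S (ClSub.quotMod Γ)) : ℚ) + ((Curv2.euler k S (CohB1.tensorMod (ClSub.quotMod Γ) (ClSub.idealMod Z₁)) - Curv2.euler k S (ClSub.quotMod Γ)) : ℚ)
        - μ₁ * ((Curv2.euler k S (CohB1.tensorMod (ClSub.quotMod Γ) LF) - Curv2.euler k S (ClSub.quotMod Γ)) : ℚ)))
    (hnef₂ : (∀ Γ : S.IdealSheafData, IsIntegral Γ.subscheme → topologicalKrullDim (Γ.support : Set S) = 1 →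
      (0 : ℚ) ≤ ((Curv2.euler k S (CohB1.tensorMod (ClSub.quotMod Γ) L₂) - Curv2.euler k S (ClSub.quotMod Γ)) : ℚ) + ((Curv2.euler k S (CohB1.tensorMod (ClSub.quotMod Γ) (ClSub.idealMod Z₂)) - Curv2.euler k S (ClSub.quotMod Γ)) : ℚ)
        - μ₂ * ((Curv2.euler k S (CohB1.tensorMod (ClSub.quotMod Γ) LF) - Curv2.euler k S (ClSub.quotMod Γ)) : ℚ))) :
    (∀ Γ : S.IdealSheafData, IsIntegral Γ.subscheme → topologicalKrullDim (Γ.support : Set S) = 1 →
      (0 : ℚ) ≤ ((Curv2.euler k S (CohB1.tensorMod (ClSub.quotMod Γ) L₂) - Curv2.euler k S (ClSub.quotMod Γ)) : ℚ) + ((Curv2.euler k S (CohB1.tensorMod (ClSub.quotMod Γ) (ClSub.idealMod Z)) - Curv2.euler k S (ClSub.quotMod Γ)) : ℚ)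
        - μ₂ * ((Curv2.euler k S (CohB1.tensorMod (ClSub.quotMod Γ) LF) - Curv2.euler k S (ClSub.quotMod Γ)) : ℚ)) := by
  intro Γ hΓi hΓd
  haveI := hΓi
  have hdimΓ : topologicalKrullDim (Γ.support : Set S) ≤ 1 := le_of_eq hΓd
  have hregC : ∀ x : C, IsRegularLocalRing (C.presheaf.stalk x) := fun x =>
    Groth.Agent.H1.SmoothDepth.isRegularLocalRing_stalk_of_smooth k
      (C ↘ Spec (CommRingCat.of k)) x
  haveI : IsClosedImmersion (C.fromSpecResidueField p) :=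
    isClosed_singleton_iff_isClosedImmersion.mp hp
  have hker : (f.fiberι p).ker = (Scheme.IdealSheafData.vanishingIdeal ⟨{p}, hp⟩).comap f := by
    change (pullback.fst f (C.fromSpecResidueField p)).ker = _
    rw [Scheme.IdealSheafData.ker_fst_of_isClosedImmersion, Curve6.ker_fromSpecResidueField]
    congr 1
    change Scheme.IdealSheafData.vanishingIdeal _ = _
    congr 1
    exact Closeds.ext hp.closure_eq
  obtain ⟨hJ, hFle⟩ := NefC.dG_fibre_nonpos k C hdimC hregC f f.surjective p hp Γ hdimΓ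
  rw [← hker] at hJ hFle
  generalize (f.fiberι p).ker = IF at hLF hJ hFle
  have hIFinv : PicF.IsInvertible (ClSub.idealMod IF) :=
    (Groth.Agent.LD.QC.isInvertible_idealMod_iff _).mpr hJ
  obtain ⟨eLF⟩ := hLF
  have hLFinv : PicF.IsInvertible LF := Groth.Agent.LD.GS.isInvertible_of_tensor_iso LF _ eLF
  have hLFd : NefC.dG k Γ LF + NefC.dG k Γ (ClSub.idealMod IF) = 0 := by
    rw [← NefC.dG_tensor k Γ hdimΓ hLFinv hIFinv, NefC.dG_iso k Γ eLF]
    exact NefC.dG_unit k Γ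
  have hLF0 : 0 ≤ NefC.dG k Γ LF := by linarith
  have hZ' : BlowUp.IsEffCartierIdeal Z := hZ
  have hY₁' : BlowUp.IsEffCartierIdeal Y₁ := hY₁
  have hY₂' : BlowUp.IsEffCartierIdeal Y₂ := hY₂
  have hZinv := (Groth.Agent.LD.QC.isInvertible_idealMod_iff Z).mpr hZ'
  have hY₁inv := (Groth.Agent.LD.QC.isInvertible_idealMod_iff Y₁).mpr hY₁'
  have hY₂inv := (Groth.Agent.LD.QC.isInvertible_idealMod_iff Y₂).mpr hY₂'
  have hmul : ∀ Y : S.IdealSheafData, PicF.IsInvertible (ClSub.idealMod Y) →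
      NefC.dG k Γ (ClSub.idealMod (Z * Y)) =
        NefC.dG k Γ (ClSub.idealMod Z) + NefC.dG k Γ (ClSub.idealMod Y) := by
    intro Y hYinv
    haveI := Groth.Agent.LD.QC.isIso_idealMulLift Z Y hYinv
    rw [← NefC.dG_iso k Γ (asIso (Groth.Agent.LD.QC.idealMulLift Z Y)),
      NefC.dG_tensor k Γ hdimΓ hZinv hYinv]
  subst hZ₁ hZ₂
  have hn1 : (0 : ℚ) ≤ (NefC.dG k Γ L₁ : ℚ) + (NefC.dG k Γ (ClSub.idealMod (Z * Y₁)) : ℚ)
      - μ₁ * (NefC.dG k Γ LF : ℚ) := by
    have h := hnef₁ Γ hΓi hΓd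
    unfold NefC.dG
    push_cast
    linarith
  have hn2 : (0 : ℚ) ≤ (NefC.dG k Γ L₂ : ℚ) + (NefC.dG k Γ (ClSub.idealMod (Z * Y₂)) : ℚ)
      - μ₂ * (NefC.dG k Γ LF : ℚ) := by
    have h := hnef₂ Γ hΓi hΓd
    unfold NefC.dG
    push_cast
    linarith
  have hnm : NefC.dG k Γ L₁ = NefC.dG k Γ L₂ := hnum Γ hΓi hΓd
  rw [hmul Y₁ hY₁inv] at hn1
  rw [hmul Y₂ hY₂inv] at hn2
  push_cast at hn1 hn2
  have goal' : (0 : ℚ) ≤ (NefC.dG k Γ L₂ : ℚ) + (NefC.dG k Γ (ClSub.idealMod Z) : ℚ)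
      - μ₂ * (NefC.dG k Γ LF : ℚ) := by
    by_cases h2 : (Γ.support : Set S) ⊆ (Y₂.support : Set S)
    · have h1 : ¬ (Γ.support : Set S) ⊆ (Y₁.support : Set S) := fun h1 =>
        NefC.not_both_subset k Γ Y₁ Y₂ hΓd hY h1 h2
      have hB := NefC.dG_idealMod_nonpos k Γ hdimΓ Y₁ hY₁' h1
      have hB' : (NefC.dG k Γ (ClSub.idealMod Y₁) : ℚ) ≤ 0 := by exact_mod_cast hB
      have hC : (0 : ℚ) ≤ (μ₁ - μ₂) * (NefC.dG k Γ LF : ℚ) :=
        mul_nonneg (sub_nonneg.mpr hμ) (by exact_mod_cast hLF0)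
      rw [hnm] at hn1
      nlinarith
    · have hB := NefC.dG_idealMod_nonpos k Γ hdimΓ Y₂ hY₂' h2
      have hB' : (NefC.dG k Γ (ClSub.idealMod Y₂) : ℚ) ≤ 0 := by exact_mod_cast hB
      linarith
  unfold NefC.dG at goal'
  push_cast at goal'
  linarith

end Groth.Agent.S14314
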