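import Groth.Statements.S14330
import Mathlib
import Groth.Agent.Lib.Helper1.InvRes
import Groth.Agent.Lib.Helper1.Depth2Ext2
import Groth.Agent.Lib.Helper2.SchDenseFlat
import Groth.Agent.Lib.Helper2.FibDepth

set_option autoImplicit false
universe u
open CategoryTheory CategoryTheory.Limits AlgebraicGeometry Opposite
open GrpSch

namespace Groth.Agent.S14330

/-- Let S be a locally Noetherian scheme, f : A → S a smooth morphism, L an invertible O_A-module and V
an open subscheme of S; for an open W of S consider the restriction of sections of L from f⁻¹(W) to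
f⁻¹(W) ∩ f⁻¹(V), that is the component over W of the natural map f_*L → j_*j^*(f_*L), j : V → S the
inclusion. If V is schematically dense in S, all these restrictions are injective. If V is a big
open of S, meaning that the local ring of S at every point outside V has depth at least 2, all these
restrictions are bijective. (The published statement is for a semi-stable group scheme A; its proof
uses only the smoothness of A over S and the local freeness of L, which are the hypotheses kept
here.) -/
theorem result {S A : Scheme.{u}} [IsLocallyNoetherian S]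
    (f : A ⟶ S) [Smooth f] (L : A.Modules) (hL : PicF.IsInvertible L) (V : S.Opens) :
    (CInt.IsSchematicallyDense V →
      ∀ W : S.Opens, Function.Injective (L.val.map (homOfLE (inf_le_left : f ⁻¹ᵁ W ⊓ f ⁻¹ᵁ V ≤ f ⁻¹ᵁ W)).op)) ∧
    ((∀ x : S, x ∉ V → 2 ≤ LocCoh.depth (S.presheaf.stalk x) (S.presheaf.stalk x)) →
      ∀ W : S.Opens, Function.Bijective (L.val.map (homOfLE (inf_le_left : f ⁻¹ᵁ W ⊓ f ⁻¹ᵁ V ≤ f ⁻¹ᵁ W)).op)) := by
  haveI : Flat f := inferInstance
  haveI : LocallyOfFiniteType f := inferInstance
  haveI : IsLocallyNoetherian A := LocallyOfFiniteType.isLocallyNoetherian f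
  constructor
  · intro hV W
    have hd := Groth.Agent.H2.SchDense.preimage_of_flat_of_isLocallyNoetherian f V hV
    exact Groth.Agent.H1.InvRes.res_injective L hL (f ⁻¹ᵁ V) hd (f ⁻¹ᵁ W)
  · intro hdepth W
    have hA : ∀ a : A, a ∉ f ⁻¹ᵁ V →
        (2 : ℕ∞) ≤ LocCoh.depth (A.presheaf.stalk a) (A.presheaf.stalk a) := by
      intro a ha
      rw [Groth.Agent.H2.FibDepth.depth_stalk_eq f a]
      exact le_add_right (hdepth (f a) ha)
    have hb := Groth.Agent.H1.Depth2Ext.res_bijective (f ⁻¹ᵁ V) hA
    exact Groth.Agent.H1.InvRes.res_bijective L hL (f ⁻¹ᵁ V) hb (f ⁻¹ᵁ W)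

end Groth.Agent.S14330
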