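import Groth.Statements.S1434
import Mathlib

set_option autoImplicit false
universe u
open FlatMor

namespace Groth.Agent.S1434

open AlgebraicGeometry CategoryTheory Limits in
/-- Part (1), for a closed subscheme: let Z ⊂ X be the closed subscheme cut out by an ideal sheaf I and
Z' the one cut out by I², its first order infinitesimal neighbourhood. Given a first order
thickening T → T', a morphism a : T → Z and a morphism b : T' → X compatible with them, there is a
unique morphism T' → Z' through which b factors (compatibility with a is then automatic). -/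
theorem result {X T T' : Scheme.{u}} (I : X.IdealSheafData) (t : T ⟶ T') (ht : MoreMor.IsFirstOrderThickening t)
    (a : T ⟶ I.subscheme) (b : T' ⟶ X) (w : a ≫ I.subschemeι = t ≫ b) :
    ∃! a' : T' ⟶ (I ^ 2).subscheme, a' ≫ (I ^ 2).subschemeι = b := by
  have := ht.1.1
  have hI : I ≤ (t ≫ b).ker := by
    rw [← w]
    conv_lhs => rw [← I.ker_subschemeι]
    exact Scheme.Hom.le_ker_comp a I.subschemeι
  have hle : I ^ 2 ≤ b.ker := by
    refine Scheme.IdealSheafData.le_ofIdeals_iff.mpr fun U ↦ ?_
    rw [Scheme.IdealSheafData.ideal_pow, Pi.pow_apply, pow_two, Ideal.mul_le]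
    intro s1 hs1 s2 hs2
    rw [RingHom.mem_ker, map_mul]
    have hσ : ∀ s ∈ I.ideal U, (t.app (b ⁻¹ᵁ U)).hom ((b.app U).hom s) = 0 := by
      intro s hs
      have := (t ≫ b).ideal_ker_le U (hI U hs)
      rw [RingHom.mem_ker, Scheme.Hom.comp_app] at this
      exact this
    refine T'.sheaf.eq_of_locally_eq'
      (fun V : {V : T'.affineOpens // V.1 ≤ b ⁻¹ᵁ U.1} ↦ V.1.1) (b ⁻¹ᵁ U.1)
      (fun V ↦ homOfLE V.2) ?_ _ _ fun V ↦ ?_
    · intro x hx
      obtain ⟨_, ⟨V, hV, rfl⟩, hxV, hVU⟩ :=
        T'.isBasis_affineOpens.exists_subset_of_mem_open hx (b ⁻¹ᵁ U.1).2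
      exact TopologicalSpace.Opens.mem_iSup.mpr ⟨⟨⟨V, hV⟩, hVU⟩, hxV⟩
    · have hmem : ∀ s ∈ I.ideal U,
          (T'.presheaf.map (homOfLE V.2).op).hom ((b.app U).hom s) ∈ t.ker.ideal V.1 := by
        intro s hs
        rw [Scheme.Hom.ker_apply, RingHom.mem_ker]
        have := t.naturality (homOfLE V.2).op
        have h2 := congr($(this).hom ((b.app U).hom s))
        simp only [CommRingCat.hom_comp, RingHom.comp_apply] at h2
        rw [h2, hσ s hs, map_zero]
      have hprod := Ideal.mul_mem_mul (hmem s1 hs1) (hmem s2 hs2)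
      have hzero : t.ker.ideal V.1 * t.ker.ideal V.1 = ⊥ := by
        have := congr(($(ht.2)).ideal V.1)
        simpa using this
      rw [hzero, Ideal.mem_bot] at hprod
      change (T'.presheaf.map (homOfLE V.2).op).hom _ = (T'.presheaf.map (homOfLE V.2).op).hom 0
      rw [map_mul, hprod, map_zero]
  have hle' : (I ^ 2).subschemeι.ker ≤ b.ker := by
    rw [Scheme.IdealSheafData.ker_subschemeι]; exact hle
  refine ⟨IsClosedImmersion.lift (I ^ 2).subschemeι b hle', IsClosedImmersion.lift_fac _ _ _,
    fun a'' h ↦ ?_⟩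
  rw [← cancel_mono (I ^ 2).subschemeι, h, IsClosedImmersion.lift_fac]

end Groth.Agent.S1434
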