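import Groth.Statements.S14345
import Mathlib
import Groth.Agent.H4.Fitting7

set_option autoImplicit false
universe u v
open TensorProduct
open QuotLF

namespace Groth.Agent.S14345

open scoped TensorProduct

open Groth.Agent.H4.Fitting

/-- Let R be a commutative ring, M a finitely generated R-module and k ≥ 0. If for an R-algebra A the
module A ⊗_R M admits a quotient that is finite projective of constant rank k (an A-valued point of
the Quot scheme of rank-k locally free quotients of M), then every Fitting ideal Fit_j(M) with j < k
extends to the zero ideal of A; that is, the structure map of the Quot scheme of rank-k locally free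
quotients factors through the closed subscheme cut out by Fit_{k-1}(M). -/
theorem result (R : Type u) [CommRing R]
    (M : Type v) [AddCommGroup M] [Module R M] [Module.Finite R M] (k : ℕ)
    (A : Type u) [CommRing A] [Algebra R A] (N : Module.Grassmannian A (A ⊗[R] M) k)
    (j : ℕ) (hj : j < k) :
    (Fitt.ideal R M j).map (algebraMap R A) = ⊥ := by
  rw [← ideal_baseChange A M j, eq_bot_iff]
  refine (ideal_mono_surj j N.toSubmodule.mkQ (Submodule.mkQ_surjective _)).trans ?_
  rw [ideal_eq_bot_of_rankAtStalk N.rankAtStalk_eq hj]


end Groth.Agent.S14345
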