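import Groth.Statements.S14346
import Mathlib

set_option autoImplicit false
universe u v
open TensorProduct
open QuotLF

namespace Groth.Agent.S14346

open scoped TensorProduct


/-- a split surjection gives a product decomposition of the source -/
noncomputable def equivProdKer {R : Type*} [CommRing R] {P Q : Type*} [AddCommGroup P] [Module R P]
    [AddCommGroup Q] [Module R Q] (f : P →ₗ[R] Q) (s : Q →ₗ[R] P)
    (h : f ∘ₗ s = LinearMap.id) : P ≃ₗ[R] Q × LinearMap.ker f :=
  LinearEquiv.ofLinearMap
    (LinearMap.prod f
      (LinearMap.codRestrict (LinearMap.ker f) (LinearMap.id - s ∘ₗ f) (fun x => by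
        have := LinearMap.congr_fun h (f x)
        simp only [LinearMap.comp_apply, LinearMap.id_apply] at this
        simp [this])))
    (LinearMap.coprod s (LinearMap.ker f).subtype)
    (by
      have hs : ∀ q, f (s q) = q := fun q => LinearMap.congr_fun h q
      apply LinearMap.ext
      rintro ⟨q, ⟨n, hn⟩⟩
      have hn' : f n = 0 := hn
      refine Prod.ext ?_ (Subtype.ext ?_)
      · simp [hs, hn']
      · simp [hs, hn'])
    (by
      apply LinearMap.ext
      intro x
      simp)

theorem eq_bot_of_rank_eq {A : Type u} [CommRing A] {P : Type v} [AddCommGroup P] [Module A P]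
    [Module.Finite A P] [Module.Projective A P] (N : Submodule A P)
    [Module.Finite A (P ⧸ N)] [Module.Projective A (P ⧸ N)]
    (h : Module.rankAtStalk (R := A) (P ⧸ N) = Module.rankAtStalk (R := A) P) : N = ⊥ := by
  obtain ⟨s, hs⟩ := Module.projective_lifting_property N.mkQ LinearMap.id
    (Submodule.mkQ_surjective N)
  let e : P ≃ₗ[A] (P ⧸ N) × N :=
    (equivProdKer N.mkQ s hs).trans
      (LinearEquiv.prodCongr (LinearEquiv.refl A _) (LinearEquiv.ofEq _ _ (Submodule.ker_mkQ N)))
  let pr : P →ₗ[A] N := (LinearMap.snd A (P ⧸ N) ↥N) ∘ₗ e.toLinearMap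
  let inc : N →ₗ[A] P := (e.symm.toLinearMap) ∘ₗ (LinearMap.inr A (P ⧸ N) ↥N)
  have hpr : Function.Surjective pr := fun n => ⟨e.symm (0, n), by simp [pr]⟩
  haveI : Module.Finite A N := Module.Finite.of_surjective pr hpr
  haveI : Module.Projective A N := Module.Projective.of_split inc pr (by
      apply LinearMap.ext; intro n; simp [pr, inc])
  have h1 := Module.rankAtStalk_eq_of_equiv (R := A) e
  rw [Module.rankAtStalk_prod, h] at h1
  have h2 : Module.rankAtStalk (R := A) N = 0 := by
    ext p
    have := congrFun h1 p
    simp only [Pi.add_apply] at this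
    simp only [Pi.zero_apply]
    omega
  have := Module.rankAtStalk_eq_zero_iff_subsingleton.mp h2
  exact Submodule.subsingleton_iff_eq_bot.mp this

/-- Let R be a commutative ring, M an R-module, k ≥ 0, and A an R-algebra for which A ⊗_R M is finite
projective of constant rank k, i.e. Spec A → Spec R factors through the locally closed stratum where
M is locally free of rank k. Then A ⊗_R M has exactly one rank-k locally free quotient: the zero
submodule has finite projective quotient of constant rank k, and every submodule with such a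
quotient is zero. In other words the Quot scheme of rank-k locally free quotients of M restricted to
that stratum maps isomorphically onto it. -/
theorem result (R : Type u) [CommRing R]
    (M : Type v) [AddCommGroup M] [Module R M] (k : ℕ)
    (A : Type u) [CommRing A] [Algebra R A] [Module.Finite A (A ⊗[R] M)] [Module.Projective A (A ⊗[R] M)]
    (hk : ∀ p : PrimeSpectrum A, Module.rankAtStalk (R := A) (A ⊗[R] M) p = k) :
    (∃ N : Module.Grassmannian A (A ⊗[R] M) k, N.toSubmodule = ⊥) ∧
      ∀ N : Module.Grassmannian A (A ⊗[R] M) k, N.toSubmodule = ⊥ := by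
  constructor
  · let e : ((A ⊗[R] M) ⧸ (⊥ : Submodule A (A ⊗[R] M))) ≃ₗ[A] (A ⊗[R] M) :=
      Submodule.quotEquivOfEqBot ⊥ rfl
    refine ⟨⟨⊥, inferInstance, Module.Projective.of_equiv e.symm, ?_⟩, rfl⟩
    intro p
    rw [Module.rankAtStalk_eq_of_equiv e]
    exact hk p
  · intro N
    apply eq_bot_of_rank_eq
    ext p
    rw [N.rankAtStalk_eq p, hk p]


end Groth.Agent.S14346
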