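import Groth.Statements.S14351
import Mathlib.Tactic
import Mathlib.RingTheory.Flat.FaithfullyFlat.Basic
-- import your own Groth.Agent.* helpers here

set_option autoImplicit false
universe u
open CAlg

namespace Groth.Agent.S14351

/-- For ring maps A → B → C with C faithfully flat over B and C faithfully flat over A, the ring B is
faithfully flat over A. -/
theorem result (A B C : Type u) [CommRing A] [CommRing B]
    [CommRing C] [Algebra A B] [Algebra B C] [Algebra A C] [IsScalarTower A B C]
    [Module.FaithfullyFlat B C] [Module.FaithfullyFlat A C] : Module.FaithfullyFlat A B := by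
  have flat : Module.Flat A B := by
    rw [Module.Flat.iff_lTensor_preserves_injective_linearMap]
    intro N P _ _ _ _ f hf
    let g : TensorProduct A B N →ₗ[B] TensorProduct A B P :=
      TensorProduct.AlgebraTensorModule.lTensor B B f
    show Function.Injective g
    rw [← Module.FaithfullyFlat.lTensor_injective_iff_injective B C g]
    have hcomm := TensorProduct.AlgebraTensorModule.lTensor_comp_cancelBaseChange
      (R := A) (A := B) (B := B) (M := C) f
    have hinj : Function.Injective (TensorProduct.AlgebraTensorModule.lTensor B C f) :=
      Module.Flat.lTensor_preserves_injective_linearMap (M := C) f hf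
    have h2 : Function.Injective
        ((TensorProduct.AlgebraTensorModule.cancelBaseChange A B B C P).toLinearMap ∘ₗ
          TensorProduct.AlgebraTensorModule.lTensor B C g) := by
      rw [← hcomm]
      exact hinj.comp (LinearEquiv.injective _)
    rw [LinearMap.coe_comp] at h2
    exact Function.Injective.of_comp h2
  rw [Module.FaithfullyFlat.iff_flat_and_lTensor_reflects_triviality]
  refine ⟨flat, ?_⟩
  intro N _ _ hN
  have h1 : Subsingleton (TensorProduct B C (TensorProduct A B N)) := by
    rw [Module.FaithfullyFlat.subsingleton_tensorProduct_iff_right]
    exact hN
  have h2 : Subsingleton (TensorProduct A C N) :=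
    (TensorProduct.AlgebraTensorModule.cancelBaseChange A B B C N).symm.toEquiv.subsingleton
  exact (Module.FaithfullyFlat.subsingleton_tensorProduct_iff_right A C).1 h2

end Groth.Agent.S14351
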