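import Groth.Statements.S14358
import Mathlib

set_option autoImplicit false
universe u
open CAlg

namespace Groth.Agent.S14358

/-- Let A be a Noetherian integral domain with fraction field K and let r ∈ K. Then r belongs to A if
and only if, for every nonzero g ∈ A and every associated prime p of the A-module A/(g), the element
r belongs to the local ring A_p inside K, i.e. s r = a in K for some a ∈ A and some s ∈ A outside p. -/
theorem result (A K : Type u)
    [CommRing A] [IsDomain A] [IsNoetherianRing A] [Field K] [Algebra A K] [IsFractionRing A K]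
    (r : K) :
    r ∈ Set.range (algebraMap A K) ↔
      ∀ g : A, g ≠ 0 → ∀ p ∈ associatedPrimes A (A ⧸ Ideal.span {g}),
        ∃ a s : A, s ∉ p ∧ algebraMap A K s * r = algebraMap A K a := by
  classical
  constructor
  · rintro ⟨r₀, rfl⟩ g hg p hp
    haveI : p.IsPrime := hp.isPrime
    refine ⟨r₀, 1, ?_, ?_⟩
    · exact fun h => (Ideal.IsPrime.ne_top ‹_›) ((Ideal.eq_top_iff_one p).2 h)
    · rw [map_one, one_mul]
  · intro h
    obtain ⟨a, ⟨b, hb⟩, rfl⟩ := IsLocalization.exists_mk'_eq (nonZeroDivisors A) r
    have hb0 : b ≠ 0 := nonZeroDivisors.ne_zero hb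
    by_contra hcon
    -- `a ∉ (b)`
    have hab : Ideal.Quotient.mk (Ideal.span {b}) a ≠ 0 := by
      intro h0
      rw [Ideal.Quotient.eq_zero_iff_mem, Ideal.mem_span_singleton'] at h0
      obtain ⟨c, hc⟩ := h0
      apply hcon
      refine ⟨c, ?_⟩
      rw [IsLocalization.eq_mk'_iff_mul_eq, ← map_mul, hc]
    obtain ⟨p, hp, hle⟩ := exists_le_isAssociatedPrime_of_isNoetherianRing A
      (Ideal.Quotient.mk (Ideal.span {b}) a) hab
    obtain ⟨a', s, hs, hsr⟩ := h b hb0 p hp
    apply hs
    apply hle
    rw [Submodule.mem_colon_singleton, Submodule.mem_bot]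
    change s • (Ideal.Quotient.mk (Ideal.span {b}) a) = 0
    rw [Algebra.smul_def, Ideal.Quotient.algebraMap_eq, ← map_mul, Ideal.Quotient.eq_zero_iff_mem,
      Ideal.mem_span_singleton']
    refine ⟨a', ?_⟩
    apply IsFractionRing.injective A K
    rw [map_mul, map_mul, ← hsr, mul_assoc]
    congr 1
    exact IsLocalization.mk'_spec K a ⟨b, hb⟩

end Groth.Agent.S14358
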