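import Groth.Statements.S14362


set_option autoImplicit false
universe u
open AlgebraicGeometry
open SchImage

namespace Groth.Agent.S14362

/-- Let π : X → Y be a morphism of schemes with X reduced. Then the closed subset underlying the
scheme-theoretic image of π, i.e. the support of its kernel ideal sheaf, is the closure of the image
of π. (The published statement allows, as an alternative to X being reduced, that π be
quasi-compact; this row is the reduced case and assumes no quasi-compactness.) -/
theorem result (X Y : Scheme.{u}) [IsReduced X]
    (π : X ⟶ Y) :
    (π.ker.support : Set Y) = closure (Set.range π) := by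
  apply subset_antisymm
  · let Z : TopologicalSpace.Closeds Y := ⟨closure (Set.range π), isClosed_closure⟩
    have hsupp : ((Scheme.IdealSheafData.vanishingIdeal Z).support : Set Y) = Z :=
      Scheme.IdealSheafData.coe_support_vanishingIdeal Z
    have hle : Scheme.IdealSheafData.vanishingIdeal Z ≤ π.ker := by
      rw [Scheme.Hom.ker, Scheme.IdealSheafData.le_ofIdeals_iff]
      intro U s hs
      rw [RingHom.mem_ker]
      rw [← basicOpen_eq_bot_iff, ← Scheme.preimage_basicOpen]
      ext x
      simp only [Scheme.Hom.coe_preimage, Set.mem_preimage, SetLike.mem_coe,
        TopologicalSpace.Opens.coe_bot, Set.mem_empty_iff_false, iff_false]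
      intro hx
      have hxU : π x ∈ U.1 := Y.basicOpen_le s hx
      have hxZ : π x ∈ (Z : Set Y) := subset_closure ⟨x, rfl⟩
      have h1 := (Scheme.IdealSheafData.coe_support_inter
        (Scheme.IdealSheafData.vanishingIdeal Z) U).le ⟨by rw [hsupp]; exact hxZ, hxU⟩
      exact ((Scheme.mem_zeroLocus_iff _ _ _).mp h1.1) s hs hx
    have := Scheme.IdealSheafData.support_antitone hle
    intro y hy
    have h2 : y ∈ ((Scheme.IdealSheafData.vanishingIdeal Z).support : Set Y) := this hy
    rw [hsupp] at h2
    exact h2
  · exact closure_minimal π.range_subset_ker_support π.ker.support.isClosed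

end Groth.Agent.S14362
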