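import Groth.Statements.S14363
import Mathlib.Tactic
-- import your own Groth.Agent.* helpers here

set_option autoImplicit false
universe u
open CAlg

namespace Groth.Agent.S14363

/-- Let A be a Noetherian ring and 0 → M' → M → M'' → 0 a short exact sequence of A-modules. If a prime
p of A is an associated prime of M'' and is not in the support of M', then p is an associated prime
of M. -/
theorem result (A : Type u) [CommRing A] [IsNoetherianRing A]
    (M' M M'' : Type u) [AddCommGroup M'] [Module A M'] [AddCommGroup M] [Module A M]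
    [AddCommGroup M''] [Module A M'']
    (f : M' →ₗ[A] M) (g : M →ₗ[A] M'') (hf : Function.Injective f) (hg : Function.Surjective g)
    (hfg : Function.Exact f g)
    (p : PrimeSpectrum A) (hp : p.asIdeal ∈ associatedPrimes A M'') (hsupp : p ∉ Module.support A M') :
    p.asIdeal ∈ associatedPrimes A M := by
  classical
  have hp' : IsAssociatedPrime p.asIdeal M'' := hp
  rw [isAssociatedPrime_iff] at hp'
  obtain ⟨hprime, x'', hx''⟩ := hp'
  obtain ⟨x, rfl⟩ := hg x''
  obtain ⟨S, hS⟩ := (IsNoetherian.noetherian p.asIdeal : p.asIdeal.FG)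
  rw [Module.notMem_support_iff'] at hsupp
  have hmem : ∀ a ∈ S, a ∈ p.asIdeal := fun a ha => hS ▸ Ideal.subset_span ha
  have h1 : ∀ a ∈ S, ∃ s, s ∉ p.asIdeal ∧ s • (a • x) = 0 := by
    intro a ha
    have h2 : a • g x = 0 := by
      have := hmem a ha
      rw [hx'', Submodule.mem_colon_singleton, Submodule.mem_bot] at this
      exact this
    rw [← map_smul] at h2
    obtain ⟨y, hy⟩ := (hfg (a • x)).1 h2
    obtain ⟨s, hs, hs0⟩ := hsupp y
    refine ⟨s, hs, ?_⟩
    rw [← hy, ← map_smul, hs0, map_zero]
  choose! s hs hs0 using h1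
  have ht : (∏ a ∈ S, s a) ∉ p.asIdeal := by
    rw [Ideal.IsPrime.prod_mem_iff]
    push_neg
    exact hs
  show IsAssociatedPrime p.asIdeal M
  rw [isAssociatedPrime_iff]
  refine ⟨hprime, (∏ a ∈ S, s a) • x, le_antisymm ?_ ?_⟩
  · rw [← hS, Ideal.span_le]
    intro a ha
    rw [SetLike.mem_coe, Submodule.mem_colon_singleton, Submodule.mem_bot]
    rw [← Finset.mul_prod_erase S s ha, smul_comm, mul_smul, smul_comm (s a), hs0 a ha, smul_zero]
  · intro b hb
    rw [Submodule.mem_colon_singleton, Submodule.mem_bot] at hb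
    have h3 : (b * ∏ a ∈ S, s a) • g x = 0 := by
      rw [← map_smul, mul_smul, hb, map_zero]
    have h4 : b * ∏ a ∈ S, s a ∈ p.asIdeal := by
      rw [hx'', Submodule.mem_colon_singleton, Submodule.mem_bot]; exact h3
    exact (hprime.mem_or_mem h4).resolve_right ht

end Groth.Agent.S14363
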