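import Groth.Statements.S14371
import Groth.Agent.S0561
import Groth.Agent.S5779
import Groth.Agent.Lib.Helper1.RegParam

set_option autoImplicit false
universe u
open CAlg

namespace Groth.Agent.S14371

/-- Let R be a regular local ring of dimension n with maximal ideal m and residue field κ, and I, J
ideals of R such that R/I and R/J are regular local rings of dimensions a and b (two subvarieties
smooth at the point). Suppose the quotient R/(I + J) is local with cotangent space m/(m² + I + J) of
dimension a + b − n over κ (the tangent spaces of the two subvarieties meet in the expected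
dimension, i.e. they intersect transversally at the point). Then R/(I + J) is a regular local ring
of dimension a + b − n; in particular I + J is a prime ideal. (The published statement is about the
local rings of a smooth variety over an algebraically closed field at a point where two smooth
closed subvarieties meet transversally, and also states the resulting equalities of tangent spaces
and of ideals; this row is the local-ring form, for an arbitrary regular local ring.) -/
theorem result {R : Type u} [CommRing R] [IsRegularLocalRing R]
    (I J : Ideal R) [IsRegularLocalRing (R ⧸ I)] [IsRegularLocalRing (R ⧸ J)] [IsLocalRing (R ⧸ (I ⊔ J))]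
    (n a b : ℕ) (hn : ringKrullDim R = n) (ha : ringKrullDim (R ⧸ I) = a) (hb : ringKrullDim (R ⧸ J) = b)
    (ht : Module.finrank (IsLocalRing.ResidueField (R ⧸ (I ⊔ J))) (IsLocalRing.CotangentSpace (R ⧸ (I ⊔ J))) + n = a + b) :
    IsRegularLocalRing (R ⧸ (I ⊔ J)) ∧ ringKrullDim (R ⧸ (I ⊔ J)) = ((a + b - n : ℕ) : WithBot ℕ∞) := by
  classical
  obtain ⟨c, e, y, z, hce, hgen, hI⟩ := Groth.Agent.S0561.main n R hn I
  obtain ⟨c', e', y', z', hce', hgen', hJ⟩ := Groth.Agent.S0561.main n R hn J
  have h1 := Groth.Agent.H1.Reg.spanFinrank_maximalIdeal_quotient_le I y z hI hgen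
  have h1' := Groth.Agent.H1.Reg.spanFinrank_maximalIdeal_quotient_le J y' z' hJ hgen'
  rw [Fintype.card_fin] at h1 h1'
  have hae : a ≤ e := by
    have := IsRegularLocalRing.spanFinrank_maximalIdeal (R := R ⧸ I)
    rw [ha] at this
    have h2 : (IsLocalRing.maximalIdeal (R ⧸ I)).spanFinrank = a := by exact_mod_cast this
    omega
  have hbe : b ≤ e' := by
    have := IsRegularLocalRing.spanFinrank_maximalIdeal (R := R ⧸ J)
    rw [hb] at this
    have h2 : (IsLocalRing.maximalIdeal (R ⧸ J)).spanFinrank = b := by exact_mod_cast this
    omega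
  set K := I ⊔ J with hK
  have hKspan : K = Ideal.span (Set.range y ∪ Set.range y') := by
    rw [Ideal.span_union, ← hI, ← hJ]
  have hKr : K.spanFinrank ≤ c + c' := by
    rw [hKspan]
    refine (Submodule.spanFinrank_span_le_ncard_of_finite
      ((Set.finite_range _).union (Set.finite_range _))).trans ?_
    refine (Set.ncard_union_le _ _).trans ?_
    have h1 : (Set.range y).ncard ≤ c := by
      rw [← Set.image_univ]
      refine (Set.ncard_image_le Set.finite_univ).trans ?_
      rw [Set.ncard_univ, Nat.card_eq_fintype_card, Fintype.card_fin]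
    have h2 : (Set.range y').ncard ≤ c' := by
      rw [← Set.image_univ]
      refine (Set.ncard_image_le Set.finite_univ).trans ?_
      rw [Set.ncard_univ, Nat.card_eq_fintype_card, Fintype.card_fin]
    omega
  have hKm : K ≤ IsLocalRing.maximalIdeal R := by
    apply IsLocalRing.le_maximalIdeal
    intro h
    have : Nontrivial (R ⧸ K) := inferInstance
    exact (Ideal.Quotient.nontrivial_iff.mp this) h
  have hD := ringKrullDim_le_ringKrullDim_quotient_add_spanFinrank K (by
    rw [IsLocalRing.ringJacobson_eq_maximalIdeal]; exact hKm)
  set t := Module.finrank (IsLocalRing.ResidueField (R ⧸ K)) (IsLocalRing.CotangentSpace (R ⧸ K))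
    with htdef
  have hsf : (IsLocalRing.maximalIdeal (R ⧸ K)).spanFinrank = t :=
    IsLocalRing.spanFinrank_maximalIdeal_eq_finrank_cotangentSpace (R ⧸ K)
  have hle : ringKrullDim (R ⧸ K) ≤ (t : WithBot ℕ∞) := by
    rw [← hsf]
    exact ringKrullDim_le_spanFinrank_maximalIdeal _
  have hge : (t : WithBot ℕ∞) ≤ ringKrullDim (R ⧸ K) := by
    apply Groth.Agent.S5779.withBot_cancel _ t (c + c')
    have h3 : ((t + (c + c') : ℕ) : WithBot ℕ∞) ≤ (n : WithBot ℕ∞) := by
      have : t + (c + c') ≤ n := by omega
      exact_mod_cast this
    refine h3.trans ?_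
    rw [← hn]
    refine hD.trans ?_
    gcongr
  have heq : ringKrullDim (R ⧸ K) = (t : WithBot ℕ∞) := le_antisymm hle hge
  refine ⟨IsRegularLocalRing.of_spanFinrank_maximalIdeal_le _ ?_, ?_⟩
  · rw [hsf]; exact hge
  · rw [heq]
    have : t = a + b - n := by omega
    rw [this]

end Groth.Agent.S14371
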