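import Groth.Statements.S1438
import Mathlib

set_option autoImplicit false
universe u
open FlatMor

namespace Groth.Agent.S1438

open AlgebraicGeometry CategoryTheory Limits in
/-- A separated scheme with an open covering by n + 1 affine opens has affine stratification number at
most n: it admits an affine stratification with index set {0, …, n}. -/
theorem result (X : Scheme.{u}) [X.IsSeparated] (n : ℕ) (U : Fin (n + 1) → X.Opens)
    (hU : ∀ i, IsAffineOpen (U i)) (hcov : ⨆ i, U i = ⊤) :
    MoreMor.HasAffineStratification X n := by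
  classical
  have hne : ∀ x : X, (Finset.univ.filter (fun j ↦ x ∈ U j)).Nonempty := fun x ↦ by
    have : x ∈ (⨆ i, U i) := by rw [hcov]; trivial
    obtain ⟨i, hi⟩ := TopologicalSpace.Opens.mem_iSup.mp this
    exact ⟨i, by simp [hi]⟩
  let s : X → Fin (n + 1) := fun x ↦ (Finset.univ.filter (fun j ↦ x ∈ U j)).max' (hne x)
  have hs_mem : ∀ x, x ∈ U (s x) := fun x ↦ by
    have := Finset.max'_mem _ (hne x)
    simpa using this
  have hs_le : ∀ x j, x ∈ U j → j ≤ s x := fun x j hj ↦
    Finset.le_max' _ j (by simp [hj])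
  have hs_iff : ∀ x i, s x ≤ i ↔ ∀ j, i < j → x ∉ U j := by
    intro x i
    constructor
    · intro h j hij hj
      exact absurd (hs_le x j hj) (not_le.mpr (lt_of_le_of_lt h hij))
    · intro h
      by_contra hlt
      exact h (s x) (not_le.mp hlt) (hs_mem x)
  -- the open set of later charts
  let W : Fin (n + 1) → X.Opens := fun i ↦ ⨆ j : {j // i < j}, U j.1
  have hW : ∀ x i, x ∈ W i ↔ ∃ j, i < j ∧ x ∈ U j := by
    intro x i
    simp only [W, TopologicalSpace.Opens.mem_iSup, Subtype.exists, exists_prop]
  refine ⟨s, fun i ↦ ?_, fun i ↦ ?_⟩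
  · have : {x : X | s x ≤ i} = ((W i : Set X))ᶜ := by
      ext x
      simp only [Set.mem_ofPred_eq, Set.mem_compl_iff, SetLike.mem_coe, hW, hs_iff]
      push Not
      rfl
    rw [this]
    exact (W i).2.isClosed_compl
  · -- the stratum
    have : IsAffine (U i) := hU i
    let C : TopologicalSpace.Closeds (U i : Scheme.{u}) := ⟨((U i).ι ⁻¹ᵁ W i : Set (U i))ᶜ, ((U i).ι ⁻¹ᵁ W i).2.isClosed_compl⟩
    let I := Scheme.IdealSheafData.vanishingIdeal C
    have hιaff : IsAffineHom (U i).ι := by
      apply MorphismProperty.of_postcomp (W := @IsAffineHom) (W' := @IsSeparated) (U i).ι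
        (terminal.from X) inferInstance
      rw [terminal.comp_from]
      infer_instance
    refine ⟨I.subscheme, I.subschemeι ≫ (U i).ι, inferInstance, ?_, inferInstance, ?_⟩
    · exact isAffine_of_isAffineHom I.subschemeι
    · rw [Scheme.Hom.comp_base, TopCat.coe_comp, Set.range_comp, I.range_subschemeι,
        Scheme.IdealSheafData.coe_support_vanishingIdeal]
      ext x
      simp only [Set.mem_image, Set.mem_ofPred_eq]
      constructor
      · rintro ⟨y, hy, rfl⟩
        have hy' : (U i).ι y ∉ W i := hy
        apply le_antisymm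
        · rw [hs_iff]
          intro j hij hj
          exact hy' ((hW _ _).mpr ⟨j, hij, hj⟩)
        · exact hs_le _ _ y.2
      · intro hx
        have hxU : x ∈ U i := hx ▸ hs_mem x
        refine ⟨⟨x, hxU⟩, ?_, rfl⟩
        change x ∉ W i
        rw [hW]
        rintro ⟨j, hij, hj⟩
        exact absurd (hs_le x j hj) (not_le.mpr (hx ▸ hij))

end Groth.Agent.S1438
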