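import Groth.Statements.S14384
import Mathlib

set_option autoImplicit false
universe u
open CAlg

namespace Groth.Agent.S14384

/-- Let V be a discrete valuation ring of characteristic zero with uniformizer ϖ, whose residue field is
perfect of characteristic p > 0, let R be a V-algebra of finite type, x'_1, …, x'_d elements of R
defining a morphism f' from Spec R to affine d-space over V, and n ≥ 0 such that p^n Ω_{f'} vanishes
along the closed fibre, written inside Ω_{R/V} as p^n Ω_{R/V} ⊆ ϖ p^n Ω_{R/V} + Σ_i R dx'_i. If y_1,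
…, y_d lie in the subring of R generated by the p^(n+1)-th powers of elements of R, then the
morphism f = f' + (y_1, …, y_d) has the same property: p^n Ω_{R/V} ⊆ ϖ p^n Ω_{R/V} + Σ_i R d(x'_i +
y_i). -/
theorem result (V : Type u) [CommRing V] [IsDomain V] [IsDiscreteValuationRing V] [CharZero V]
    (ϖ : V) (hϖ : Irreducible ϖ) (p : ℕ) [Fact p.Prime] [CharP (IsLocalRing.ResidueField V) p]
    [PerfectField (IsLocalRing.ResidueField V)]
    (R : Type u) [CommRing R] [Algebra V R] [Algebra.FiniteType V R] (d n : ℕ) (x' : Fin d → R)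
    (hx' : Ideal.span {((p : R)) ^ n} • (⊤ : Submodule R (Ω[R⁄V])) ≤
      Ideal.span {algebraMap V R ϖ * (p : R) ^ n} • (⊤ : Submodule R (Ω[R⁄V])) ⊔
        Submodule.span R (Set.range fun i => KaehlerDifferential.D V R (x' i)))
    (y : Fin d → R) (hy : ∀ i, y i ∈ Subring.closure (Set.range fun r : R => r ^ (p ^ (n + 1)))) :
    Ideal.span {((p : R)) ^ n} • (⊤ : Submodule R (Ω[R⁄V])) ≤
      Ideal.span {algebraMap V R ϖ * (p : R) ^ n} • (⊤ : Submodule R (Ω[R⁄V])) ⊔
        Submodule.span R (Set.range fun i => KaehlerDifferential.D V R (x' i + y i)) := by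
  classical
  -- p lies in the maximal ideal of V, so p = ϖ * u'
  have hpV : ∃ u' : V, (p : V) = ϖ * u' := by
    have h1 : (p : V) ∈ IsLocalRing.maximalIdeal V := by
      rw [← IsLocalRing.residue_eq_zero_iff, map_natCast]
      exact CharP.cast_eq_zero _ p
    rw [hϖ.maximalIdeal_eq, Ideal.mem_span_singleton] at h1
    exact h1
  obtain ⟨u', hu'⟩ := hpV
  have hpR : (p : R) = algebraMap V R ϖ * algebraMap V R u' := by
    rw [← map_mul, ← hu', map_natCast]
  set Ω := Ω[R⁄V]
  set P : Submodule R Ω := Ideal.span {algebraMap V R ϖ * (p : R) ^ n} • (⊤ : Submodule R Ω) with hP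
  -- elements whose differential lies in p^(n+1) Ω form a subring
  let Sub : Subring R :=
    { carrier := {y | KaehlerDifferential.D V R y ∈
        Ideal.span {(p : R) ^ (n + 1)} • (⊤ : Submodule R Ω)}
      mul_mem' := by
        intro a b ha hb
        simp only [Set.mem_ofPred_eq] at ha hb ⊢
        rw [Derivation.leibniz]
        exact Submodule.add_mem _ (Submodule.smul_mem _ _ hb) (Submodule.smul_mem _ _ ha)
      one_mem' := by simp
      add_mem' := by
        intro a b ha hb
        simp only [Set.mem_ofPred_eq] at ha hb ⊢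
        rw [map_add]
        exact Submodule.add_mem _ ha hb
      zero_mem' := by simp
      neg_mem' := by
        intro a ha
        simp only [Set.mem_ofPred_eq] at ha ⊢
        rw [map_neg]
        exact Submodule.neg_mem _ ha }
  have hpow : ∀ r : R, r ^ (p ^ (n + 1)) ∈ Sub := by
    intro r
    change KaehlerDifferential.D V R (r ^ (p ^ (n + 1))) ∈
      Ideal.span {(p : R) ^ (n + 1)} • (⊤ : Submodule R Ω)
    rw [Derivation.leibniz_pow]
    have h1 : (p ^ (n + 1)) • r ^ (p ^ (n + 1) - 1) • KaehlerDifferential.D V R r =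
        ((p : R) ^ (n + 1)) • (r ^ (p ^ (n + 1) - 1) • KaehlerDifferential.D V R r) := by
      rw [← Nat.cast_smul_eq_nsmul R]
      push_cast
      rfl
    rw [h1]
    exact Submodule.smul_mem_smul (Ideal.mem_span_singleton_self _) Submodule.mem_top
  have hcl : Subring.closure (Set.range fun r : R => r ^ (p ^ (n + 1))) ≤ Sub := by
    rw [Subring.closure_le]
    rintro _ ⟨r, rfl⟩
    exact hpow r
  have hdy : ∀ i, KaehlerDifferential.D V R (y i) ∈ P := by
    intro i
    have h1 : KaehlerDifferential.D V R (y i) ∈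
        Ideal.span {(p : R) ^ (n + 1)} • (⊤ : Submodule R Ω) := hcl (hy i)
    have h2 : Ideal.span {(p : R) ^ (n + 1)} ≤ Ideal.span {algebraMap V R ϖ * (p : R) ^ n} := by
      rw [Ideal.span_singleton_le_span_singleton]
      refine ⟨algebraMap V R u', ?_⟩
      rw [pow_succ, hpR]
      ring
    exact Submodule.smul_mono_left h2 h1
  refine hx'.trans (sup_le le_sup_left ?_)
  rw [Submodule.span_le]
  rintro _ ⟨i, rfl⟩
  have h3 : KaehlerDifferential.D V R (x' i) =
      KaehlerDifferential.D V R (x' i + y i) - KaehlerDifferential.D V R (y i) := by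
    rw [map_add]; abel
  change KaehlerDifferential.D V R (x' i) ∈ _
  rw [h3]
  refine Submodule.sub_mem _ ?_ ?_
  · exact Submodule.mem_sup_right (Submodule.subset_span ⟨i, rfl⟩)
  · exact Submodule.mem_sup_left (hdy i)

end Groth.Agent.S14384
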