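import Groth.Statements.S14401


set_option autoImplicit false
universe u
open CategoryTheory AlgebraicGeometry
open Props

namespace Groth.Agent.S14401

/-- Let X be a Noetherian scheme all of whose local rings are integral domains. Then each irreducible
component of X is an open subset of X, and each point of X lies on exactly one irreducible component
(so the irreducible components of X are pairwise disjoint, open and closed, and coincide with the
connected components). (The published statement assumes X regular and Noetherian; its argument uses
only that the local rings of X are domains, which is the hypothesis taken here.) -/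
theorem result (X : Scheme.{u}) [AlgebraicGeometry.IsNoetherian X]
    (hX : ∀ x : X, IsDomain (X.presheaf.stalk x)) :
    (∀ Z ∈ irreducibleComponents (X : Type u), IsOpen Z) ∧
      ∀ x : X, ∃! Z, Z ∈ irreducibleComponents (X : Type u) ∧ x ∈ Z := by
  -- key: a component through x is the closure of the image of the zero ideal of the stalk
  have key : ∀ (x : X) (Z : Set X), Z ∈ irreducibleComponents (X : Type u) → x ∈ Z →
      Z = closure {X.fromSpecStalk x (⊥ : PrimeSpectrum (X.presheaf.stalk x))} := by
    intro x Z hZ hxZ
    have _ := hX x
    have hZirr : IsIrreducible Z := hZ.1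
    have hZcl : IsClosed Z := isClosed_of_mem_irreducibleComponents Z hZ
    obtain ⟨η, hη⟩ := QuasiSober.sober hZirr hZcl
    have hηx : η ⤳ x := by
      rw [specializes_iff_mem_closure, hη.def]; exact hxZ
    have hmem : η ∈ Set.range (X.fromSpecStalk x) := by
      rw [Scheme.range_fromSpecStalk]; exact hηx
    obtain ⟨p, rfl⟩ := hmem
    have h0 : (⊥ : PrimeSpectrum (X.presheaf.stalk x)) ⤳ p :=
      (PrimeSpectrum.le_iff_specializes _ _).mp bot_le
    have h1 := h0.map (X.fromSpecStalk x).continuous
    have hsub : Z ⊆ closure {X.fromSpecStalk x (⊥ : PrimeSpectrum (X.presheaf.stalk x))} := by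
      rw [← hη.def]
      exact closure_minimal (Set.singleton_subset_iff.mpr
        (specializes_iff_mem_closure.mp h1)) isClosed_closure
    exact subset_antisymm hsub (hZ.2 isIrreducible_singleton.closure hsub)
  have huniq : ∀ x : X, ∃! Z, Z ∈ irreducibleComponents (X : Type u) ∧ x ∈ Z := by
    intro x
    refine ⟨irreducibleComponent x, ⟨irreducibleComponent_mem_irreducibleComponents x,
      mem_irreducibleComponent⟩, ?_⟩
    rintro Z ⟨hZ, hxZ⟩
    rw [key x Z hZ hxZ, key x _ (irreducibleComponent_mem_irreducibleComponents x)
      mem_irreducibleComponent]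
  refine ⟨?_, huniq⟩
  intro Z hZ
  have hfin : (irreducibleComponents (X : Type u)).Finite :=
    TopologicalSpace.NoetherianSpace.finite_irreducibleComponents
  have hcompl : Zᶜ = ⋃₀ (irreducibleComponents (X : Type u) \ {Z}) := by
    ext y
    simp only [Set.mem_compl_iff, Set.mem_sUnion, Set.mem_sdiff, Set.mem_singleton_iff]
    constructor
    · intro hy
      refine ⟨irreducibleComponent y, ⟨irreducibleComponent_mem_irreducibleComponents y, ?_⟩,
        mem_irreducibleComponent⟩
      rintro rfl
      exact hy mem_irreducibleComponent
    · rintro ⟨W, ⟨hW, hWZ⟩, hyW⟩ hyZ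
      exact hWZ ((huniq y).unique ⟨hW, hyW⟩ ⟨hZ, hyZ⟩)
  rw [← isClosed_compl_iff, hcompl]
  rw [Set.sUnion_eq_biUnion]
  exact (hfin.subset Set.sdiff_subset).isClosed_biUnion
    fun W hW => isClosed_of_mem_irreducibleComponents W hW.1

end Groth.Agent.S14401
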