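import Groth.Statements.S14404
import Mathlib
import Groth.Agent.Lib.Helper1.FlatFibDim

set_option autoImplicit false
universe u
open CategoryTheory AlgebraicGeometry
open FlatMor

namespace Groth.Agent.S14404

/-- Let k be a field, X and Y irreducible schemes of finite type over k and f : X ⟶ Y a flat k-morphism.
Then dim Y ≤ dim X, and for every point y of Y every irreducible component Z of the scheme-theoretic
fibre of f over y has dim Z + dim Y = dim X; that is, every non-empty fibre has all its irreducible
components of dimension dim X − dim Y. -/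
theorem result (k : Type u) [Field k]
    {X Y : Scheme.{u}} (qX : X ⟶ Spec (CommRingCat.of k)) (qY : Y ⟶ Spec (CommRingCat.of k))
    [LocallyOfFiniteType qX] [QuasiCompact qX] [LocallyOfFiniteType qY] [QuasiCompact qY]
    [IrreducibleSpace X] [IrreducibleSpace Y] (f : X ⟶ Y) (hf : f ≫ qY = qX) [Flat f] :
    topologicalKrullDim Y ≤ topologicalKrullDim X ∧
      ∀ (y : Y), ∀ Z ∈ irreducibleComponents (f.fiber y : Type u),
        topologicalKrullDim Z + topologicalKrullDim Y = topologicalKrullDim X := by
  subst hf
  haveI : LocallyOfFiniteType f := locallyOfFiniteType_of_comp f qY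
  obtain ⟨m, hm, hdim⟩ := Groth.Agent.H1.FlatFibDim.exists_forall_fibreDimAt_eq qY f
  refine ⟨by rw [hdim]; exact le_add_of_nonneg_right (Nat.cast_nonneg m), ?_⟩
  have hrel : Cyc.HasRelDim f m := (Groth.Agent.H1.RelDim.hasRelDim_iff f m).mpr hm
  intro y Z hZ
  rw [hrel y Z hZ, hdim, add_comm]

end Groth.Agent.S14404
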