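import Groth.Statements.S14410
import Mathlib.Tactic
import Mathlib.Topology.Sheaves.Flasque
-- import your own Groth.Agent.* helpers here

set_option autoImplicit false
universe u
open CategoryTheory TopologicalSpace
open CohTop

namespace Groth.Agent.S14410

/-- Let X be a topological space and 0 → F₁ → F₂ → F₃ → 0 a short exact sequence of sheaves of abelian
groups on X. If F₁ and F₃ are flasque (every restriction map is surjective), then F₂ is flasque.
(The published statement is for O_X-modules on a ringed space and is an equivalence; this row states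
the implication from the outer terms to the middle term, for the underlying abelian sheaves.) -/
theorem result (X : TopCat.{u})
    (S : ShortComplex (TopCat.Sheaf AddCommGrpCat.{u} X)) (hS : S.ShortExact)
    [S.X₁.IsFlasque] [S.X₃.IsFlasque] : S.X₂.IsFlasque := by
  constructor
  intro U V i
  refine (AddCommGrpCat.epi_iff_surjective _).mpr (fun s => ?_)
  obtain ⟨tbar, htbar⟩ := (AddCommGrpCat.epi_iff_surjective (S.X₃.obj.map i)).mp inferInstance
    (S.g.hom.app V s)
  obtain ⟨t, ht⟩ := (AddCommGrpCat.epi_iff_surjective _).mp
    (TopCat.Sheaf.IsFlasque.epi_of_shortExact hS (U := U.unop)) tbar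
  have hnat : S.g.hom.app V (S.X₂.obj.map i t) = S.X₃.obj.map i (S.g.hom.app U t) := by
    have := S.g.hom.naturality i
    exact ConcreteCategory.congr_hom this t
  have h0 : S.g.hom.app (Opposite.op V.unop) (S.X₂.obj.map i t - s) = 0 := by
    show S.g.hom.app V (S.X₂.obj.map i t - s) = 0
    have ht' : S.g.hom.app U t = tbar := ht
    rw [map_sub, hnat, ht', htbar, sub_self]
  obtain ⟨a, ha⟩ := TopCat.Sheaf.sections_exact_of_left_exact hS.1 hS.2 _ h0
  obtain ⟨a', ha'⟩ := (AddCommGrpCat.epi_iff_surjective (S.X₁.obj.map i)).mp inferInstance a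
  refine ⟨t - S.f.hom.app U a', ?_⟩
  have hnat2 : S.X₂.obj.map i (S.f.hom.app U a') = S.f.hom.app V (S.X₁.obj.map i a') := by
    have := S.f.hom.naturality i
    exact (ConcreteCategory.congr_hom this a').symm
  have ha2 : S.f.hom.app V a = S.X₂.obj.map i t - s := ha
  rw [map_sub, hnat2, ha', ha2]
  abel

end Groth.Agent.S14410
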