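import Groth.Statements.S14414
import Groth.Agent.Lib.Helper2.TorBalLES

set_option autoImplicit false
universe u
open CategoryTheory CategoryTheory.Limits
open CAlg

namespace Groth.Agent.S14414

/-- Let R be a commutative ring and N an R-module of projective dimension at most q, in the sense that
Ext^i_R(N, N′) = 0 for all i > q and all N′ (equivalently, N has a projective resolution of length
at most q). Then for every R-module M and every i > q, Tor_i^R(M, N) — the value at N of the i-th
left derived functor of M ⊗_R (-) — is zero. -/
theorem result (R : Type u) [CommRing R]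
    (M N : ModuleCat.{u} R) (q : ℕ) [HasProjectiveDimensionLE N q] (i : ℕ) (hi : q < i) :
    IsZero (((CategoryTheory.Tor (ModuleCat.{u} R) i).obj M).obj N) := by
  have key : ∀ (q : ℕ) (N : ModuleCat.{u} R), HasProjectiveDimensionLT N (q + 1) →
      ∀ i, q < i → IsZero (((CategoryTheory.Tor (ModuleCat.{u} R) i).obj M).obj N) := by
    intro q
    induction q with
    | zero =>
      intro N hN i hi
      haveI : Projective N := projective_iff_hasProjectiveDimensionLT_one.2 hN
      obtain ⟨j, rfl⟩ : ∃ j, i = j + 1 := ⟨i - 1, by omega⟩
      exact isZero_Tor_succ_of_projective _ M N j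
    | succ q ih =>
      intro N hN i hi
      obtain ⟨j, rfl⟩ : ∃ j, i = j + 2 := ⟨i - 2, by omega⟩
      let P := projectiveResolution N
      have hT := Groth.Agent.H2.TorBal.syzSC_shortExact P
      haveI : Projective (Groth.Agent.H2.TorBal.syzSC P).X₂ := P.projective 0
      have hK : HasProjectiveDimensionLT (Groth.Agent.H2.TorBal.syzSC P).X₁ (q + 1) :=
        (hT.hasProjectiveDimensionLT_X₃_iff q inferInstance).1 hN
      exact Groth.Agent.H2.TorBal.isZero_tor_X₃_right _ hT M (j + 1)
        (isZero_Tor_succ_of_projective _ M _ (j + 1)) (ih _ hK (j + 1) (by omega))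
  exact key q N inferInstance i hi

end Groth.Agent.S14414
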