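import Groth.Statements.S14419
import Groth.Agent.Lib.Helper2.SeeI
import Groth.Agent.Lib.Lead.FF.H0Const

set_option autoImplicit false
universe u
open CategoryTheory CategoryTheory.Limits AlgebraicGeometry
open PicF

namespace Groth.Agent.S14419

/-- Let π : X → Y be a proper flat morphism between locally Noetherian schemes, all of whose fibres are
nonempty, geometrically connected and geometrically reduced, with Y reduced, and let L be an
invertible O_X-module whose restriction to every fibre X_y (y any point of Y) is trivial. Then π_*L
is an invertible O_Y-module and the natural map π^*π_*L → L (the counit of the adjunction between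
pullback and pushforward) is an isomorphism. (The published statement allows empty fibres, where it
fails (X empty, Y a point: the direct image is zero); this row requires every fibre nonempty, i.e. π
surjective.) -/
theorem result {X Y : Scheme.{u}} (f : X ⟶ Y)
    [IsLocallyNoetherian X] [IsLocallyNoetherian Y] [IsReduced Y] [Flat f] [IsProper f]
    [GeometricallyConnected f] [GeometricallyReduced f]
    (L : X.Modules) (hL : PicF.IsInvertible L)
    (htriv : ∀ y : Y, Nonempty ((Scheme.Modules.pullback (f.fiberι y)).obj L ≅ Coh.structureModule (f.fiber y))) :
    PicF.IsInvertible ((Scheme.Modules.pushforward f).obj L) ∧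
      IsIso ((Scheme.Modules.pullbackPushforwardAdjunction f).counit.app L) := by
  have h0 : ∀ y : Y, Function.Bijective (algebraMap (Y.residueField y) Γ(f.fiber y, ⊤)) := by
    intro y
    letI ovK : (f.fiber y).Over (Spec (CommRingCat.of (Y.residueField y))) :=
      ⟨f.fiberToSpecResidueField y⟩
    haveI : IsProper ((f.fiber y) ↘ Spec (CommRingCat.of (Y.residueField y))) :=
      inferInstanceAs (IsProper (pullback.snd f (Y.fromSpecResidueField y)))
    haveI : GeometricallyReduced ((f.fiber y) ↘ Spec (CommRingCat.of (Y.residueField y))) :=
      inferInstanceAs (GeometricallyReduced (pullback.snd f (Y.fromSpecResidueField y)))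
    haveI : GeometricallyConnected ((f.fiber y) ↘ Spec (CommRingCat.of (Y.residueField y))) :=
      inferInstanceAs (GeometricallyConnected (pullback.snd f (Y.fromSpecResidueField y)))
    have h1 := Groth.Agent.LD.FF.finrank_HH0_eq_one (Y.residueField y) (f.fiber y)
    rw [Groth.Agent.LD.FF.finrank_HH0_eq] at h1
    have h1' : Module.finrank (Y.residueField y) Γ(f.fiber y, ⊤) = 1 := h1
    haveI : Module.Finite (Y.residueField y) Γ(f.fiber y, ⊤) :=
      Module.finite_of_finrank_pos (by rw [h1']; exact Nat.one_pos)
    exact Groth.Agent.H2.EtH0.bijective_algebraMap_of_finrank_eq_one _ _ h1'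
  exact Groth.Agent.H2.See.isInvertible_pushforward_and_isIso_counit f h0 L hL htriv

end Groth.Agent.S14419
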