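import Groth.Statements.S14421
import Mathlib.Tactic
import Mathlib.Algebra.Homology.ShortComplex.ModuleCat
-- import your own Groth.Agent.* helpers here

set_option autoImplicit false
universe u v
open CategoryTheory
open HomAlg

namespace Groth.Agent.S14421

/-- Let φ : K → J be a morphism of cochain complexes of modules over a ring which is surjective in
degree p − 1. Then the map induced on cohomology in degree p is surjective if and only if the map
induced on cocycles in degree p is surjective. (Stated for cochain complexes indexed by the
integers; the published statement is for three-term complexes in degrees p − 1, p, p + 1, which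
embed as such complexes.) -/
theorem result {R : Type u} [Ring R]
    (K J : CochainComplex (ModuleCat.{v} R) ℤ) (φ : K ⟶ J) (p : ℤ) [Epi (φ.f (p - 1))] :
    Epi (HomologicalComplex.homologyMap φ p) ↔ Epi (HomologicalComplex.cyclesMap φ p) := by
  have hprev : (ComplexShape.up ℤ).prev p = p - 1 := by simp
  have natC : K.toCycles (p - 1) p ≫ HomologicalComplex.cyclesMap φ p =
      φ.f (p - 1) ≫ J.toCycles (p - 1) p := by
    rw [← cancel_mono (J.iCycles p)]
    simp
  constructor
  · intro h
    rw [ModuleCat.epi_iff_surjective] at h ⊢
    intro z
    obtain ⟨w', hw'⟩ := h (J.homologyπ p z)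
    have hπ : Function.Surjective (K.homologyπ p) :=
      (ModuleCat.epi_iff_surjective _).1 inferInstance
    obtain ⟨w, rfl⟩ := hπ w'
    have nat : J.homologyπ p (HomologicalComplex.cyclesMap φ p w) =
        HomologicalComplex.homologyMap φ p (K.homologyπ p w) := by
      have := ConcreteCategory.congr_hom (HomologicalComplex.homologyπ_naturality φ p) w
      rw [ConcreteCategory.comp_apply, ConcreteCategory.comp_apply] at this
      exact this.symm
    have hz : J.homologyπ p (z - HomologicalComplex.cyclesMap φ p w) = 0 := by
      rw [map_sub, nat, hw', sub_self]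
    let S := ShortComplex.mk (J.toCycles (p-1) p) (J.homologyπ p) (J.toCycles_comp_homologyπ _ _)
    have hS : S.Exact := S.exact_of_g_is_cokernel (J.homologyIsCokernel (p-1) p hprev)
    obtain ⟨y, hy⟩ := (ShortComplex.moduleCat_exact_iff S).1 hS _ hz
    obtain ⟨k, rfl⟩ := (ModuleCat.epi_iff_surjective (φ.f (p-1))).1 inferInstance y
    refine ⟨w + K.toCycles (p-1) p k, ?_⟩
    have h2 : HomologicalComplex.cyclesMap φ p (K.toCycles (p-1) p k) =
        J.toCycles (p-1) p (φ.f (p-1) k) := by
      have := ConcreteCategory.congr_hom natC k
      rw [ConcreteCategory.comp_apply, ConcreteCategory.comp_apply] at this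
      exact this
    rw [map_add, h2]
    have hy' : J.toCycles (p-1) p (φ.f (p-1) k) = z - HomologicalComplex.cyclesMap φ p w := hy
    rw [hy']
    abel
  · intro h
    have h1 := HomologicalComplex.homologyπ_naturality φ p
    have h2 : Epi (K.homologyπ p ≫ HomologicalComplex.homologyMap φ p) := by
      rw [h1]; infer_instance
    exact epi_of_epi (K.homologyπ p) _

end Groth.Agent.S14421
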