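import Groth.Statements.S14424
import Groth.Agent.Lib.Helper6.DepthInf

set_option autoImplicit false
set_option linter.style.haveILetI false
universe u
open LocCoh

namespace Groth.Agent.S14424

/-- Let R be a Noetherian ring. Then R is Cohen–Macaulay (every localization at a prime ideal is a
Cohen–Macaulay local ring) if and only if for every proper ideal a of R the a-depth of R equals the
height (codimension) of a. (The published statement defines a Cohen–Macaulay ring by its
localizations at maximal ideals; this row uses all prime ideals, an equivalent definition because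
Cohen–Macaulayness passes to localizations.) -/
theorem result (R : Type u) [CommRing R] [IsNoetherianRing R] :
    LocCoh.IsCohenMacaulayRing R ↔ ∀ a : Ideal R, a ≠ ⊤ → LocCoh.idealDepth a R = a.height := by
  have hN : ∀ (p : Ideal R) [p.IsPrime], IsNoetherianRing (Localization.AtPrime p) := fun p _ =>
    IsLocalization.isNoetherianRing p.primeCompl _ inferInstance
  -- depth of the localized module versus the localized ring
  have hdepth : ∀ (p : Ideal R) [p.IsPrime],
      LocCoh.depth (Localization.AtPrime p) (LocalizedModule p.primeCompl R) =
        LocCoh.depth (Localization.AtPrime p) (Localization.AtPrime p) := by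
    intro p _
    haveI := hN p
    haveI : Module.Finite (Localization.AtPrime p) (LocalizedModule p.primeCompl R) :=
      Module.Finite.of_isLocalizedModule p.primeCompl
        (LocalizedModule.mkLinearMap p.primeCompl R)
    exact Groth.Agent.H6.CM.idealDepth_eq_of_linearEquiv _
      ((IsLocalizedModule.iso p.primeCompl
        (Algebra.linearMap R (Localization.AtPrime p))).extendScalarsOfIsLocalization p.primeCompl
          (Localization.AtPrime p))
  have hdim : ∀ (p : Ideal R) [p.IsPrime],
      Module.supportDim (Localization.AtPrime p) (Localization.AtPrime p) =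
        ((p.height : ℕ∞) : WithBot ℕ∞) := by
    intro p _
    rw [Module.supportDim_self_eq_ringKrullDim,
      IsLocalization.AtPrime.ringKrullDim_eq_height p (Localization.AtPrime p)]
  have hht : ∀ a : Ideal R, a.height = ⨅ (p : PrimeSpectrum R) (_ : a ≤ p.asIdeal),
      p.asIdeal.height := by
    intro a
    apply le_antisymm
    · exact le_iInf₂ fun p hp => Ideal.height_mono hp
    · rw [Ideal.height_eq_inf_minimalPrimes]
      exact le_iInf₂ fun J hJ => iInf₂_le_of_le ⟨J, hJ.1.1⟩ hJ.1.2 le_rfl
  constructor
  · intro hCM a ha
    rw [Groth.Agent.H6.Depth.idealDepth_eq_iInf a R, hht a]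
    congr 1
    funext p
    congr 1
    funext hp
    haveI := p.2
    rw [hdepth p.asIdeal]
    have h1 := (hCM.isCohenMacaulayLocalRing_localization p.asIdeal).supportDim_eq_depth
    rw [hdim p.asIdeal] at h1
    exact (WithBot.coe_injective h1).symm
  · intro h
    refine LocCoh.IsCohenMacaulayRing.mk ?_
    intro p hp
    haveI := hN p
    refine LocCoh.IsCohenMacaulayLocalRing.mk ?_
    rw [hdim p]
    congr 1
    apply le_antisymm
    · have h1 := h p hp.ne_top
      rw [Groth.Agent.H6.Depth.idealDepth_eq_iInf p R] at h1
      rw [← h1, ← hdepth p]
      exact iInf₂_le (⟨p, hp⟩ : PrimeSpectrum R) le_rfl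
    · obtain ⟨d, hd, hdle⟩ := Groth.Agent.H6.Depth.exists_depth_eq (R := Localization.AtPrime p)
        (Localization.AtPrime p)
      rw [hdim p] at hdle
      rw [hd]
      have h2 : (((d : ℕ) : ℕ∞) : WithBot ℕ∞) ≤ ((p.height : ℕ∞) : WithBot ℕ∞) := hdle
      exact WithBot.coe_le_coe.mp h2

end Groth.Agent.S14424
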