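import Groth.Statements.S14426
import Groth.Agent.Lib.Helper2.Kos10

set_option autoImplicit false
universe u
open Koszul3

namespace Groth.Agent.S14426

open CategoryTheory CategoryTheory.Limits in
/-- Let (R, m) be a Noetherian local ring, M a nonzero finitely generated R-module and x_1, …, x_n
elements of m generating the ideal a. Then depth(a, M) ≤ n; the Koszul cohomology H^p(x; M) vanishes
for every p < depth(a, M); and H^r(x; M) is nonzero for r = depth(a, M). (Cohomological indexing
with H^n(x; M) = M/(x)M; in homological indexing this reads H_i = 0 for i > n − r and H_{n−r} ≠ 0.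
Koszul complex realised by iterated mapping cones, as in the prelude.) -/
theorem result {R : Type u} [CommRing R] [IsNoetherianRing R] [IsLocalRing R]
    (M : Type u) [AddCommGroup M] [Module R M] [Module.Finite R M] [Nontrivial M]
    (xs : List R) (hxs : ∀ x ∈ xs, x ∈ IsLocalRing.maximalIdeal R) :
    LocCoh.idealDepth (Ideal.span {x | x ∈ xs}) M ≤ xs.length ∧
      (∀ p : ℕ, (p : ℕ∞) < LocCoh.idealDepth (Ideal.span {x | x ∈ xs}) M → IsZero (CohIII.koszulH xs (ModuleCat.of R M) p)) ∧
      (∀ r : ℕ, LocCoh.idealDepth (Ideal.span {x | x ∈ xs}) M = r → ¬ IsZero (CohIII.koszulH xs (ModuleCat.of R M) r)) := by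
  open Groth.Agent.H2.Kos RingTheory.Sequence in
  classical
  -- the ideal
  have hI : Ideal.span {x | x ∈ xs} = Ideal.ofList xs := rfl
  have hle : Ideal.span {x | x ∈ xs} ≤ (Module.annihilator R M).jacobson := by
    refine le_trans ?_ (IsLocalRing.maximalIdeal_le_jacobson _)
    exact Ideal.span_le.mpr fun x hx => hxs x hx
  have hne : ¬ (Ideal.span {x | x ∈ xs} • (⊤ : Submodule R M) = ⊤) := fun h =>
    Submodule.top_ne_ideal_smul_of_le_jacobson_annihilator hle h.symm
  have hD : LocCoh.idealDepth (Ideal.span {x | x ∈ xs}) M =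
      ⨆ (rs : List R) (_ : IsWeaklyRegular M rs ∧ ∀ r ∈ rs, r ∈ Ideal.span {x | x ∈ xs}),
        (rs.length : ℕ∞) := by
    unfold LocCoh.idealDepth
    rw [if_neg hne]
  have htop := not_isZero_top xs hxs M
  -- existence of long regular sequences below the depth
  have hex : ∀ p : ℕ, (p : ℕ∞) < LocCoh.idealDepth (Ideal.span {x | x ∈ xs}) M →
      ∃ rs : List R, IsWeaklyRegular M rs ∧ (∀ r ∈ rs, r ∈ Ideal.span {x | x ∈ xs}) ∧
        p < rs.length := by
    intro p hp
    rw [hD, lt_iSup_iff] at hp
    obtain ⟨rs, hp⟩ := hp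
    rw [lt_iSup_iff] at hp
    obtain ⟨hrs, hp⟩ := hp
    exact ⟨rs, hrs.1, hrs.2, by exact_mod_cast hp⟩
  have hleD : ∀ rs : List R, IsWeaklyRegular M rs → (∀ r ∈ rs, r ∈ Ideal.span {x | x ∈ xs}) →
      (rs.length : ℕ∞) ≤ LocCoh.idealDepth (Ideal.span {x | x ∈ xs}) M := by
    intro rs h1 h2
    rw [hD]
    exact le_iSup₂ (f := fun (rs : List R)
      (_ : IsWeaklyRegular M rs ∧ ∀ r ∈ rs, r ∈ Ideal.span {x | x ∈ xs}) => (rs.length : ℕ∞))
      rs ⟨h1, h2⟩
  have hvan : ∀ p : ℕ, (p : ℕ∞) < LocCoh.idealDepth (Ideal.span {x | x ∈ xs}) M →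
      Limits.IsZero (CohIII.koszulH xs (ModuleCat.of R M) p) := by
    intro p hp
    obtain ⟨rs, h1, h2, h3⟩ := hex p hp
    exact isZero_of_lt_length xs rs M h1 h2 p h3
  refine ⟨?_, hvan, ?_⟩
  · by_contra hlt
    rw [not_le] at hlt
    have := hvan xs.length hlt
    exact htop (isZero_homology_cast _ (sub_self _) this)
  · intro r hr
    -- a regular sequence of length exactly r
    have hexr : ∃ rs : List R, IsWeaklyRegular M rs ∧
        (∀ r ∈ rs, r ∈ Ideal.span {x | x ∈ xs}) ∧ rs.length = r := by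
      rcases Nat.eq_zero_or_pos r with h0 | hpos
      · exact ⟨[], IsWeaklyRegular.nil R M, by simp, h0.symm⟩
      · obtain ⟨rs, h1, h2, h3⟩ := hex (r - 1) (by
          rw [hr]
          exact_mod_cast Nat.sub_lt hpos Nat.one_pos)
        have h4 := hleD rs h1 h2
        rw [hr] at h4
        have h5 : rs.length ≤ r := by exact_mod_cast h4
        exact ⟨rs, h1, h2, by omega⟩
    obtain ⟨rs, h1, h2, h3⟩ := hexr
    have hmax : ∀ z ∈ Ideal.span {x | x ∈ xs}, ¬ IsWeaklyRegular M (rs ++ [z]) := by
      intro z hz hreg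
      have h4 := hleD (rs ++ [z]) hreg (by
        intro w hw
        rcases List.mem_append.mp hw with hw | hw
        · exact h2 w hw
        · rw [List.mem_singleton.mp hw]
          exact hz)
      rw [hr, List.length_append, List.length_singleton, h3] at h4
      have : r + 1 ≤ r := by exact_mod_cast h4
      omega
    have := not_isZero_at_length xs rs M h1 h2 hmax
    rw [h3] at this
    exact this

end Groth.Agent.S14426
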