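import Groth.Statements.S14434
import Groth.Agent.Lib.Helper2.TorBalLin
import Groth.Agent.Lib.Helper2.TorOne

set_option autoImplicit false
universe u
open CAlg

namespace Groth.Agent.S14434

/-- Let R be a commutative ring, M an R-module and x ∈ R a non-zero-divisor on R and on M. Then
Tor_i^R(M, R/(x)) = 0 for all i ≥ 1 (Tor computed as the left derived functors of the tensor product
on R-modules). -/
theorem result {R : Type u} [CommRing R] (M : Type u) [AddCommGroup M] [Module R M]
    (x : R) (hxR : IsSMulRegular R x) (hxM : IsSMulRegular M x) (i : ℕ) (hi : 1 ≤ i) :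
    Subsingleton (DRing.Tor R i M (R ⧸ Ideal.span {x})) := by
  let I : Ideal R := Ideal.span {x}
  let d : R →ₗ[R] R := LinearMap.lsmul R R x
  let ε : R →ₗ[R] (R ⧸ I) := Submodule.mkQ I
  have hd : Function.Injective d := fun a b hab => hxR (by simpa [d] using hab)
  have hε : Function.Surjective ε := Submodule.mkQ_surjective I
  have hdε : Function.Exact d ε := by
    intro y
    simp only [ε, d, Submodule.mkQ_apply, Submodule.Quotient.mk_eq_zero, Set.mem_range,
      LinearMap.lsmul_apply, smul_eq_mul]
    rw [Ideal.mem_span_singleton']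
    constructor
    · rintro ⟨a, ha⟩; exact ⟨a, by rw [mul_comm]; exact ha⟩
    · rintro ⟨a, ha⟩; exact ⟨a, by rw [mul_comm]; exact ha⟩
  obtain ⟨n, rfl⟩ : ∃ n, i = n + 1 := ⟨i - 1, by omega⟩
  cases n with
  | zero =>
    refine Groth.Agent.H2.TorOne.subsingleton_tor_one M (R ⧸ I) d ε hdε hε ?_
    have h1 : d.lTensor M = x • LinearMap.id := by
      ext m
      simp only [d, TensorProduct.AlgebraTensorModule.curry_apply, LinearMap.restrictScalars_comp,
        TensorProduct.curry_apply, LinearMap.coe_comp, LinearMap.coe_restrictScalars,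
        Function.comp_apply, LinearMap.lTensor_tmul, LinearMap.lsmul_apply, smul_eq_mul, mul_one,
        LinearMap.smul_apply, LinearMap.id_coe, id_eq]
      rw [TensorProduct.smul_tmul', TensorProduct.smul_tmul, smul_eq_mul, mul_one]
    rw [h1]
    intro a b hab
    have e := TensorProduct.rid R M
    apply e.injective
    apply hxM
    simpa using congrArg e hab
  | succ n =>
    apply ModuleCat.subsingleton_of_isZero
    haveI : Module.Flat R (ModuleCat.of R R) := inferInstanceAs (Module.Flat R R)
    exact Groth.Agent.H2.TorBal.isZero_tor_X₃_right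
      (Groth.Agent.H2.TorBal.scOfLinearMaps d ε hdε)
      (Groth.Agent.H2.TorBal.scOfLinearMaps_shortExact d ε hd hdε hε) (ModuleCat.of R M) (n + 1)
      (Groth.Agent.H2.TorBal.isZero_tor_succ_of_flat_right _ (ModuleCat.of R R) (n + 1))
      (Groth.Agent.H2.TorBal.isZero_tor_succ_of_flat_right _ (ModuleCat.of R R) n)

end Groth.Agent.S14434
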