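import Groth.Statements.S14435
import Groth.Agent.Lib.Helper6.LCDepth
import Groth.Agent.S11614

set_option autoImplicit false
universe u
open LocCoh

namespace Groth.Agent.S14435

/-- Let (A, m) be a Noetherian local ring, φ : A → B a finite homomorphism of commutative rings, a ⊆ m
an ideal and M a finitely generated B-module. Then depth(a, M), computed over A, equals depth(aB,
M), computed over B (depths by regular sequences, ⊤ when aM = M). -/
theorem result {A B : Type u} [CommRing A] [IsNoetherianRing A] [IsLocalRing A]
    [CommRing B] [Algebra A B] [Module.Finite A B] (a : Ideal A) (ha : a ≤ IsLocalRing.maximalIdeal A)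
    (M : Type u) [AddCommGroup M] [Module B M] [Module A M] [IsScalarTower A B M] [Module.Finite B M] :
    LocCoh.idealDepth a M = LocCoh.idealDepth (a.map (algebraMap A B)) M := by
  haveI : IsNoetherian A B := isNoetherian_of_isNoetherianRing_of_finite A B
  haveI : IsNoetherianRing B := isNoetherian_of_tower A ‹IsNoetherian A B›
  haveI : Module.Finite A M := Module.Finite.trans B M
  have hiff : (a.map (algebraMap A B)) • (⊤ : Submodule B M) = ⊤ ↔
      a • (⊤ : Submodule A M) = ⊤ := by
    rw [← Submodule.restrictScalars_eq_top_iff A B M, Ideal.smul_restrictScalars,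
      Submodule.restrictScalars_top]
  by_cases hA : a • (⊤ : Submodule A M) = ⊤
  · unfold LocCoh.idealDepth
    rw [if_pos hA, if_pos (hiff.mpr hA)]
  · have hB : (a.map (algebraMap A B)) • (⊤ : Submodule B M) ≠ ⊤ := fun h => hA (hiff.mp h)
    apply ENat.eq_of_forall_natCast_le_iff
    intro n
    rw [Groth.Agent.H6.LC.le_idealDepth_iff a M hA n,
      Groth.Agent.H6.LC.le_idealDepth_iff (a.map (algebraMap A B)) M hB n]
    refine forall_congr' fun i => forall_congr' fun _ => ?_
    obtain ⟨φ, -⟩ := Groth.Agent.S11614.result A B a M i
    exact ⟨fun h => φ.toEquiv.subsingleton, fun h => φ.symm.toEquiv.subsingleton⟩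

end Groth.Agent.S14435
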