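import Groth.Statements.S14437
import Mathlib

set_option autoImplicit false
universe u
open CAlg

namespace Groth.Agent.S14437

open IsLocalRing TensorProduct

section setup
variable (k : Type u) [Field k]
    (A B : Type u) [CommRing A] [CommRing B] [IsLocalRing A] [IsLocalRing B]
    [Algebra k A] [Algebra k B] [Algebra A B] [IsScalarTower k A B]

/-- the constant term `B → k` -/
noncomputable def evB (hB : Function.Bijective (algebraMap k (ResidueField B))) : B →ₐ[k] k :=
  ((AlgEquiv.ofBijective (Algebra.ofId k (ResidueField B)) hB).symm : ResidueField B →ₐ[k] k).comp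
    (IsScalarTower.toAlgHom k B (ResidueField B))

theorem algebraMap_evB (hB : Function.Bijective (algebraMap k (ResidueField B))) (b : B) :
    algebraMap k (ResidueField B) (evB k B hB b) = residue B b := by
  have := (AlgEquiv.ofBijective (Algebra.ofId k (ResidueField B)) hB).apply_symm_apply
    (residue B b)
  exact this

theorem sub_evB_mem (hB : Function.Bijective (algebraMap k (ResidueField B))) (b : B) :
    b - algebraMap k B (evB k B hB b) ∈ maximalIdeal B := by
  rw [← residue_eq_zero_iff, map_sub, sub_eq_zero]
  have : residue B (algebraMap k B (evB k B hB b)) =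
      algebraMap k (ResidueField B) (evB k B hB b) := by
    rw [IsScalarTower.algebraMap_apply k B (ResidueField B)]
    rfl
  rw [this, algebraMap_evB]

/-- the projection `B → m_B` -/
noncomputable def prB (hB : Function.Bijective (algebraMap k (ResidueField B))) :
    B →ₗ[k] maximalIdeal B where
  toFun b := ⟨b - algebraMap k B (evB k B hB b), sub_evB_mem k B hB b⟩
  map_add' x y := by
    apply Subtype.ext
    simp only [map_add, Submodule.coe_add]
    ring
  map_smul' c x := by
    apply Subtype.ext
    show c • x - algebraMap k B (evB k B hB (c • x)) = c • (x - algebraMap k B (evB k B hB x))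
    rw [map_smul, smul_eq_mul, map_mul, smul_sub, Algebra.smul_def c (algebraMap k B _)]

end setup

section alpha
variable (k : Type u) [Field k]
    (A B : Type u) [CommRing A] [CommRing B] [IsLocalRing A] [IsLocalRing B]
    [Algebra k A] [Algebra k B] [Algebra A B] [IsScalarTower k A B]


/-- `x ↦ 1 ⊗ dx` on `m_B` -/
noncomputable def fB : maximalIdeal B →ₗ[k] (ResidueField B ⊗[B] Ω[B⁄A]) where
  toFun x := (1 : ResidueField B) ⊗ₜ[B] KaehlerDifferential.D A B (x : B)
  map_add' x y := by simp [tmul_add]
  map_smul' c x := by
    simp only [RingHom.id_apply]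
    show (1 : ResidueField B) ⊗ₜ[B] KaehlerDifferential.D A B (c • (x : B)) = _
    rw [Derivation.map_smul_of_tower, TensorProduct.tmul_smul]

end alpha

section alpha2
variable (k : Type u) [Field k]
    (A B : Type u) [CommRing A] [CommRing B] [IsLocalRing A] [IsLocalRing B]
    [Algebra k A] [Algebra k B] [Algebra A B] [IsScalarTower k A B]

theorem smul_one_residue (x : B) (hx : x ∈ maximalIdeal B) : x • (1 : ResidueField B) = 0 := by
  rw [Algebra.smul_def, mul_one]
  exact (residue_eq_zero_iff x).mpr hx

theorem fB_apply (x : maximalIdeal B) :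
    fB k A B x = (1 : ResidueField B) ⊗ₜ[B] KaehlerDifferential.D A B (x : B) := rfl

theorem fB_mul (x y : maximalIdeal B) : fB k A B (x * y) = 0 := by
  rw [fB_apply]
  show (1 : ResidueField B) ⊗ₜ[B] KaehlerDifferential.D A B ((x : B) * (y : B)) = 0
  rw [Derivation.leibniz, tmul_add, ← smul_tmul, ← smul_tmul, smul_one_residue B _ x.2,
    smul_one_residue B _ y.2, zero_tmul, zero_tmul, add_zero]

/-- the comparison map `m_B/m_B² → κ ⊗ Ω_{B/A}` -/
noncomputable def αB : (maximalIdeal B).Cotangent →ₗ[k] (ResidueField B ⊗[B] Ω[B⁄A]) :=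
  Ideal.Cotangent.lift (fB k A B) (fB_mul k A B)

theorem αB_toCotangent (x : maximalIdeal B) :
    αB k A B ((maximalIdeal B).toCotangent x) =
      (1 : ResidueField B) ⊗ₜ[B] KaehlerDifferential.D A B (x : B) := rfl

theorem D_algebraMap_k (c : k) : KaehlerDifferential.D A B (algebraMap k B c) = 0 := by
  rw [IsScalarTower.algebraMap_apply k A B, Derivation.map_algebraMap]

theorem αB_surjective (hB : Function.Bijective (algebraMap k (ResidueField B))) :
    Function.Surjective (αB k A B) := by
  rw [← LinearMap.range_eq_top, eq_top_iff]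
  rintro n -
  have key : ∀ (ω : Ω[B⁄A]) (l : ResidueField B), l ⊗ₜ[B] ω ∈ LinearMap.range (αB k A B) := by
    intro ω
    have hω : ω ∈ Submodule.span B (Set.range (KaehlerDifferential.D A B)) := by
      rw [KaehlerDifferential.span_range_derivation]; trivial
    induction hω using Submodule.span_induction with
    | mem ω h =>
      obtain ⟨b, rfl⟩ := h
      intro l
      obtain ⟨c, rfl⟩ := hB.2 l
      have : algebraMap k (ResidueField B) c ⊗ₜ[B] KaehlerDifferential.D A B b =
          c • αB k A B ((maximalIdeal B).toCotangent (prB k B hB b)) := by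
        rw [αB_toCotangent]
        show _ = c • ((1 : ResidueField B) ⊗ₜ[B]
          KaehlerDifferential.D A B (b - algebraMap k B (evB k B hB b)))
        rw [map_sub, D_algebraMap_k, sub_zero, TensorProduct.smul_tmul', Algebra.smul_def, mul_one]
      rw [this]
      exact Submodule.smul_mem _ _ (LinearMap.mem_range_self _ _)
    | zero => intro l; rw [tmul_zero]; exact Submodule.zero_mem _
    | add x y _ _ hx hy => intro l; rw [tmul_add]; exact Submodule.add_mem _ (hx l) (hy l)
    | smul b x _ hx => intro l; rw [← smul_tmul]; exact hx _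
  induction n with
  | zero => exact Submodule.zero_mem _
  | tmul l ω => exact key ω l
  | add x y hx hy => exact Submodule.add_mem _ hx hy

end alpha2

section ker
variable (k : Type u) [Field k]
    (A B : Type u) [CommRing A] [CommRing B] [IsLocalRing A] [IsLocalRing B]
    [Algebra k A] [Algebra k B] [Algebra A B] [IsScalarTower k A B]
    (hle : maximalIdeal A ≤ Ideal.comap (IsScalarTower.toAlgHom k A B) (maximalIdeal B))

/-- the image of `m_A/m_A²` -/
noncomputable abbrev WB : Submodule k (maximalIdeal B).Cotangent :=
  LinearMap.range (Ideal.mapCotangent (maximalIdeal A) (maximalIdeal B)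
    (IsScalarTower.toAlgHom k A B) hle)

theorem WB_le_ker : WB k A B hle ≤ LinearMap.ker (αB k A B) := by
  rintro _ ⟨v, rfl⟩
  obtain ⟨x, rfl⟩ := Ideal.toCotangent_surjective _ v
  rw [LinearMap.mem_ker, Ideal.mapCotangent_toCotangent, αB_toCotangent]
  show (1 : ResidueField B) ⊗ₜ[B] KaehlerDifferential.D A B (algebraMap A B x) = 0
  rw [Derivation.map_algebraMap, tmul_zero]

variable (hB : Function.Bijective (algebraMap k (ResidueField B)))

/-- the `k`-linear map underlying the derivation attached to a functional -/
noncomputable def D₀ (φ : (maximalIdeal B).Cotangent →ₗ[k] k) : B →ₗ[k] ResidueField B :=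
  (Algebra.linearMap k (ResidueField B)) ∘ₗ φ ∘ₗ
    ((maximalIdeal B).toCotangent.restrictScalars k) ∘ₗ prB k B hB

theorem D₀_apply (φ : (maximalIdeal B).Cotangent →ₗ[k] k) (b : B) :
    D₀ k B hB φ b = algebraMap k (ResidueField B)
      (φ ((maximalIdeal B).toCotangent (prB k B hB b))) := rfl

theorem prB_mul (b b' : B) :
    (maximalIdeal B).toCotangent (prB k B hB (b * b')) =
      evB k B hB b • (maximalIdeal B).toCotangent (prB k B hB b') +
      evB k B hB b' • (maximalIdeal B).toCotangent (prB k B hB b) := by
  have hR : evB k B hB b • (maximalIdeal B).toCotangent (prB k B hB b') +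
      evB k B hB b' • (maximalIdeal B).toCotangent (prB k B hB b) =
      (maximalIdeal B).toCotangent (evB k B hB b • prB k B hB b' + evB k B hB b' • prB k B hB b) := by
    rw [map_add, LinearMap.map_smul_of_tower, LinearMap.map_smul_of_tower]
  rw [hR, Ideal.toCotangent_eq]
  have h1 : (prB k B hB b : B) * (prB k B hB b' : B) ∈ maximalIdeal B ^ 2 := by
    rw [pow_two]
    exact Ideal.mul_mem_mul (prB k B hB b).2 (prB k B hB b').2
  convert h1 using 1
  show (b * b' - algebraMap k B (evB k B hB (b * b'))) -
    (evB k B hB b • (b' - algebraMap k B (evB k B hB b')) +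
      evB k B hB b' • (b - algebraMap k B (evB k B hB b))) =
    (b - algebraMap k B (evB k B hB b)) * (b' - algebraMap k B (evB k B hB b'))
  rw [map_mul, map_mul, Algebra.smul_def, Algebra.smul_def]
  ring

theorem D₀_mul (φ : (maximalIdeal B).Cotangent →ₗ[k] k) (b b' : B) :
    D₀ k B hB φ (b * b') = b • D₀ k B hB φ b' + b' • D₀ k B hB φ b := by
  rw [D₀_apply, prB_mul, map_add, map_smul, map_smul, smul_eq_mul, smul_eq_mul, map_add, map_mul,
    map_mul, algebraMap_evB, algebraMap_evB, ← D₀_apply, ← D₀_apply, Algebra.smul_def,
    Algebra.smul_def]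
  rfl

theorem D₀_algebraMap (φ : (maximalIdeal B).Cotangent →ₗ[k] k)
    (hφ : WB k A B hle ≤ LinearMap.ker φ) (a : A) :
    D₀ k B hB φ (algebraMap A B a) = 0 := by
  set c := evB k B hB (algebraMap A B a) with hc
  have hx : a - algebraMap k A c ∈ maximalIdeal A := by
    by_contra h
    have hu : IsUnit (a - algebraMap k A c) := by
      by_contra h'
      exact h ((mem_maximalIdeal _).mpr h')
    have hu' : IsUnit (algebraMap A B (a - algebraMap k A c)) := hu.map _
    have hm : algebraMap A B (a - algebraMap k A c) ∈ maximalIdeal B := by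
      rw [map_sub, ← IsScalarTower.algebraMap_apply k A B]
      exact sub_evB_mem k B hB _
    exact (mem_maximalIdeal _).mp hm hu'
  have hpr : (maximalIdeal B).toCotangent (prB k B hB (algebraMap A B a)) =
      Ideal.mapCotangent (maximalIdeal A) (maximalIdeal B) (IsScalarTower.toAlgHom k A B) hle
        ((maximalIdeal A).toCotangent ⟨_, hx⟩) := by
    rw [Ideal.mapCotangent_toCotangent]
    congr 1
    apply Subtype.ext
    show algebraMap A B a - algebraMap k B c = algebraMap A B (a - algebraMap k A c)
    rw [map_sub, ← IsScalarTower.algebraMap_apply k A B]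
  rw [D₀_apply, hpr]
  have : φ (Ideal.mapCotangent (maximalIdeal A) (maximalIdeal B) (IsScalarTower.toAlgHom k A B) hle
        ((maximalIdeal A).toCotangent ⟨_, hx⟩)) = 0 := hφ (LinearMap.mem_range_self _ _)
  rw [this, map_zero]

/-- the derivation attached to a functional vanishing on `W` -/
noncomputable def Dφ (φ : (maximalIdeal B).Cotangent →ₗ[k] k)
    (hφ : WB k A B hle ≤ LinearMap.ker φ) : Derivation A B (ResidueField B) :=
  Derivation.mk'
    { toFun := D₀ k B hB φ
      map_add' := map_add _
      map_smul' := fun a b => by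
        simp only [RingHom.id_apply]
        rw [Algebra.smul_def, D₀_mul, D₀_algebraMap k A B hle hB φ hφ, smul_zero, add_zero,
          algebraMap_smul] }
    (D₀_mul k B hB φ)

theorem Dφ_apply (φ : (maximalIdeal B).Cotangent →ₗ[k] k)
    (hφ : WB k A B hle ≤ LinearMap.ker φ) (b : B) :
    Dφ k A B hle hB φ hφ b = D₀ k B hB φ b := rfl

include hB in
theorem ker_le_WB : LinearMap.ker (αB k A B) ≤ WB k A B hle := by
  intro v hv
  by_contra hvW
  obtain ⟨φ, hφv, hφW⟩ := Submodule.exists_le_ker_of_notMem hvW
  apply hφv
  set ψ : ResidueField B ⊗[B] Ω[B⁄A] →ₗ[ResidueField B] ResidueField B :=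
    LinearMap.liftBaseChange (ResidueField B) (Dφ k A B hle hB φ hφW).liftKaehlerDifferential
    with hψ
  have hcomp : ∀ v : (maximalIdeal B).Cotangent,
      ψ (αB k A B v) = algebraMap k (ResidueField B) (φ v) := by
    intro v
    obtain ⟨x, rfl⟩ := Ideal.toCotangent_surjective _ v
    rw [αB_toCotangent, hψ, LinearMap.liftBaseChange_tmul, one_smul,
      Derivation.liftKaehlerDifferential_comp_D, Dφ_apply, D₀_apply]
    congr 3
    apply Subtype.ext
    show (x : B) - algebraMap k B (evB k B hB x) = x
    have : evB k B hB (x : B) = 0 := by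
      apply hB.1
      rw [algebraMap_evB, map_zero]
      exact (residue_eq_zero_iff _).mpr x.2
    rw [this, map_zero, sub_zero]
  have := hcomp v
  rw [LinearMap.mem_ker.mp hv, map_zero] at this
  apply hB.1
  rw [← this, map_zero]

end ker

/-- Let k be a field and A → B a local homomorphism of Noetherian local k-algebras with residue fields k
(k → A/m_A and k → B/m_B bijective) — for instance the local rings at a closed point x and at its
image y under a morphism of schemes of finite type over an algebraically closed k. Then dim_k
(Ω_{B/A} ⊗_B B/m_B) + rank(m_A/m_A² → m_B/m_B²) = dim_k (m_B/m_B²): the fibre at x of the sheaf of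
relative differentials is dual to the kernel of the tangent map T_x X → T_y Y. (The published
statement is the canonical isomorphism (Ω_{X/Y})_(x)^∨ ≅ ker(df_x); stated here as the resulting
equality of dimensions. Its second assertion, dim (Ω_{X/Y})_(x) ≥ r when the fibre has an
r-dimensional component through x, is not included.) -/
theorem result (k : Type u) [Field k]
    (A B : Type u) [CommRing A] [CommRing B] [IsLocalRing A] [IsLocalRing B] [IsNoetherianRing A] [IsNoetherianRing B]
    [Algebra k A] [Algebra k B] [Algebra A B] [IsScalarTower k A B]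
    (hle : IsLocalRing.maximalIdeal A ≤ Ideal.comap (IsScalarTower.toAlgHom k A B) (IsLocalRing.maximalIdeal B))
    (hA : Function.Bijective (algebraMap k (IsLocalRing.ResidueField A)))
    (hB : Function.Bijective (algebraMap k (IsLocalRing.ResidueField B))) :
    Module.finrank (IsLocalRing.ResidueField B) (TensorProduct B (IsLocalRing.ResidueField B) (Ω[B⁄A])) +
      Module.finrank k ↥(LinearMap.range (Ideal.mapCotangent (IsLocalRing.maximalIdeal A) (IsLocalRing.maximalIdeal B)
        (IsScalarTower.toAlgHom k A B) hle)) =
      Module.finrank k (IsLocalRing.CotangentSpace B) := by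
  have h1 : Module.finrank k (ResidueField B) = 1 :=
    (LinearEquiv.ofBijective (Algebra.linearMap k (ResidueField B)) hB).finrank_eq.symm.trans
      (Module.finrank_self k)
  have h2 : Module.finrank (ResidueField B) (ResidueField B ⊗[B] Ω[B⁄A]) =
      Module.finrank k (ResidueField B ⊗[B] Ω[B⁄A]) := by
    rw [← Module.finrank_mul_finrank k (ResidueField B) (ResidueField B ⊗[B] Ω[B⁄A]), h1, one_mul]
  haveI : Module.Finite k (ResidueField B) :=
    Module.Finite.of_surjective (Algebra.linearMap k (ResidueField B)) hB.2
  haveI : IsScalarTower k (ResidueField B) (CotangentSpace B) := by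
    apply IsScalarTower.of_algebraMap_smul
    intro c v
    rw [IsScalarTower.algebraMap_apply k B (ResidueField B), algebraMap_smul, algebraMap_smul]
  haveI : Module.Finite k (CotangentSpace B) := Module.Finite.trans (ResidueField B) _
  have h3 := LinearMap.finrank_range_add_finrank_ker (αB k A B)
  have h4 : LinearMap.ker (αB k A B) = WB k A B hle :=
    le_antisymm (ker_le_WB k A B hle hB) (WB_le_ker k A B hle)
  have h5 : LinearMap.range (αB k A B) = ⊤ := LinearMap.range_eq_top.mpr (αB_surjective k A B hB)
  rw [h4, h5, finrank_top] at h3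
  rw [h2]
  exact h3

end Groth.Agent.S14437
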