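import Groth.Statements.S14442
import Mathlib.Tactic
-- import your own Groth.Agent.* helpers here

set_option autoImplicit false
universe u
open GrNak

namespace Groth.Agent.S14442

/-- Let R be a commutative ℕ-graded ring with irrelevant ideal R_+ = ⊕_{i>0} R_i, M an ℕ-graded R-module
and N a graded submodule of M (closed under taking homogeneous components). If M = R_+ M + N then N
= M. (The published statement is for finitely generated ℤ-graded modules over a graded quotient of a
polynomial ring, whose degrees are then bounded below; stated here for non-negatively graded modules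
over any ℕ-graded commutative ring, where the same lowest-degree argument applies without finite
generation.) -/
theorem result {R : Type u} [CommRing R] {σ : Type u} [SetLike σ R] [AddSubmonoidClass σ R]
    (𝒜 : ℕ → σ) [GradedRing 𝒜]
    {M : Type u} [AddCommGroup M] [Module R M] {τ : Type u} [SetLike τ M] [AddSubmonoidClass τ M]
    (ℳ : ℕ → τ) [DirectSum.Decomposition ℳ] [SetLike.GradedSMul 𝒜 ℳ]
    (N : Submodule R M) (hN : ∀ x ∈ N, ∀ i : ℕ, (DirectSum.decompose ℳ x i : M) ∈ N)
    (h : (HomogeneousIdeal.irrelevant 𝒜).toIdeal • (⊤ : Submodule R M) ⊔ N = ⊤) :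
    N = ⊤ := by
  classical
  let π : ℕ → M →+ M := fun d => (AddSubmonoidClass.subtype (ℳ d)).comp
    ((DFinsupp.evalAddMonoidHom d).comp (DirectSum.decomposeAddEquiv ℳ).toAddMonoidHom)
  have hπ : ∀ d x, π d x = (DirectSum.decompose ℳ x d : M) := fun d x => rfl
  have hπ_same : ∀ d x, x ∈ ℳ d → π d x = x := fun d x hx => by
    rw [hπ, DirectSum.decompose_of_mem_same ℳ hx]
  have hπ_ne : ∀ d e x, x ∈ ℳ e → e ≠ d → π d x = 0 := fun d e x hx hne => by
    rw [hπ, DirectSum.decompose_of_mem_ne ℳ hx hne]
  have main : ∀ d, ∀ x ∈ ℳ d, x ∈ N := by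
    intro d
    induction d using Nat.strong_induction_on with
    | _ d ih =>
      intro x hx
      have key : ∀ y ∈ (HomogeneousIdeal.irrelevant 𝒜).toIdeal • (⊤ : Submodule R M),
          π d y ∈ N := by
        intro y hy
        refine Submodule.smul_induction_on hy ?_ ?_
        · intro r hr m _
          have hr0 : (DirectSum.decompose 𝒜 r 0 : R) = 0 :=
            (HomogeneousIdeal.mem_irrelevant_iff 𝒜 r).1 hr
          rw [← DirectSum.sum_support_decompose 𝒜 r, ← DirectSum.sum_support_decompose ℳ m,
            Finset.sum_smul, map_sum]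
          refine Submodule.sum_mem _ fun i _ => ?_
          rw [Finset.smul_sum, map_sum]
          refine Submodule.sum_mem _ fun j _ => ?_
          have hij : (DirectSum.decompose 𝒜 r i : R) • (DirectSum.decompose ℳ m j : M) ∈
              ℳ (i + j) := by
            have := SetLike.GradedSMul.smul_mem (A := 𝒜) (B := ℳ)
              (SetLike.coe_mem (DirectSum.decompose 𝒜 r i))
              (SetLike.coe_mem (DirectSum.decompose ℳ m j))
            exact this
          by_cases hd : i + j = d
          · rw [hπ_same d _ (hd ▸ hij)]
            rcases Nat.eq_zero_or_pos i with rfl | hi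
            · rw [hr0, zero_smul]; exact N.zero_mem
            · exact N.smul_mem _ (ih j (by omega) _ (SetLike.coe_mem _))
          · rw [hπ_ne d _ _ hij hd]; exact N.zero_mem
        · intro u v hu hv
          rw [map_add]; exact N.add_mem hu hv
      have hx' : x ∈ (HomogeneousIdeal.irrelevant 𝒜).toIdeal • (⊤ : Submodule R M) ⊔ N :=
by
        rw [h]; exact Submodule.mem_top
      obtain ⟨y, hy, n, hn, rfl⟩ := Submodule.mem_sup.1 hx'
      have := hπ_same d _ hx
      rw [map_add] at this
      rw [← this]
      exact N.add_mem (key y hy) (hN n hn d)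
  rw [eq_top_iff]
  intro x _
  rw [← DirectSum.sum_support_decompose ℳ x]
  exact Submodule.sum_mem _ fun i _ => main i _ (SetLike.coe_mem _)

end Groth.Agent.S14442
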