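import Groth.Statements.S14457
import Groth.Agent.Lib.Helper6.AdjoinRootUnram
import Groth.Agent.Lib.Helper8.Hens.FiniteEtaleLift

set_option autoImplicit false
universe u
open CAlg

namespace Groth.Agent.S14457

open Polynomial in
/-- Let A be a commutative ring, a an element of A and n ≥ 1 an integer. The A-algebra A[T]/(T^n − a) is
etale exactly when either n = 1 or the product n·a is a unit of A. (The exponent n is a positive
integer here; for n = 0 the quotient is (A/(1 − a))[T] and the equivalence fails.) -/
theorem result (A : Type u) [CommRing A] (a : A) (n : ℕ) (hn : 1 ≤ n) :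
    Algebra.Etale A (AdjoinRoot ((X : A[X]) ^ n - C a)) ↔ n = 1 ∨ IsUnit ((n : A) * a) := by
  set f : A[X] := X ^ n - C a with hf
  have hmonic : f.Monic := monic_X_pow_sub_C a (by omega)
  have hder : derivative f = C (n : A) * X ^ (n - 1) := by
    simp [hf, derivative_X_pow]
  set r := AdjoinRoot.root f with hr
  have hrn : r ^ n = algebraMap A (AdjoinRoot f) a := by
    have h0 : aeval r (X ^ n - C a : A[X]) = 0 := by
      rw [hr, AdjoinRoot.aeval_eq, AdjoinRoot.mk_self]
    simpa [sub_eq_zero] using h0
  have hval : aeval r (derivative f) = algebraMap A (AdjoinRoot f) (n : A) * r ^ (n - 1) := by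
    rw [hder]; simp
  have hmul : aeval r (derivative f) * r = algebraMap A (AdjoinRoot f) ((n : A) * a) := by
    rw [hval, mul_assoc, ← pow_succ, Nat.sub_add_cancel hn, hrn, map_mul]
  constructor
  · intro hE
    by_cases h1 : n = 1
    · exact Or.inl h1
    right
    have hu : IsUnit (aeval r (derivative f)) := Groth.Agent.H6.isUnit_derivative_of_formallyUnramified f
    rw [hval] at hu
    have hu1 : IsUnit (algebraMap A (AdjoinRoot f) (n : A)) := (IsUnit.mul_iff.1 hu).1
    have hu2 : IsUnit (r ^ (n - 1)) := (IsUnit.mul_iff.1 hu).2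
    have hur : IsUnit r := (isUnit_pow_iff (by omega)).1 hu2
    have hua : IsUnit (algebraMap A (AdjoinRoot f) a) := by rw [← hrn]; exact hur.pow n
    haveI : Module.Finite A (AdjoinRoot f) := hmonic.finite_adjoinRoot
    haveI : Algebra.IsIntegral A (AdjoinRoot f) := Algebra.IsIntegral.of_finite A _
    have hinj : Function.Injective (algebraMap A (AdjoinRoot f)) := by
      rw [injective_iff_map_eq_zero]
      intro x hx
      have hx' : AdjoinRoot.mk f (C x) = 0 := hx
      rw [AdjoinRoot.mk_eq_zero] at hx'
      by_contra hx0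
      have hC0 : (C x : A[X]) ≠ 0 := by rwa [Ne, C_eq_zero]
      haveI : Nontrivial A := ⟨⟨x, 0, hx0⟩⟩
      refine hmonic.not_dvd_of_degree_lt hC0 ?_ hx'
      rw [degree_C hx0, hf, degree_X_pow_sub_C (by omega) a]
      exact_mod_cast (by omega : 0 < n)
    apply Groth.Agent.H6.isUnit_of_isUnit_algebraMap_of_integral hinj
    rw [map_mul]
    exact hu1.mul hua
  · intro h
    apply Groth.Agent.H8.Hens.etale_adjoinRoot_of_isUnit f hmonic
    rcases h with rfl | hu
    · rw [hval]; simp
    · have hu' : IsUnit (aeval r (derivative f) * r) := by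
        rw [hmul]; exact hu.map _
      exact (IsUnit.mul_iff.1 hu').1

end Groth.Agent.S14457
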