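import Groth.Statements.S14458
import Mathlib.Tactic
-- import your own Groth.Agent.* helpers here

set_option autoImplicit false
universe u
open CAlg

namespace Groth.Agent.S14458

open TensorProduct in
/-- Let R be an Artinian local ring with residue field k and M an R-module, not necessarily finitely
generated. If M ⊗_R k = 0 then M = 0. -/
theorem result {R : Type u} [CommRing R]
    [IsArtinianRing R] [IsLocalRing R] (M : Type u) [AddCommGroup M] [Module R M]
    (h : Subsingleton ((IsLocalRing.ResidueField R) ⊗[R] M)) : Subsingleton M := by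
  have h1 : (IsLocalRing.maximalIdeal R) • (⊤ : Submodule R M) = ⊤ := by
    have e := TensorProduct.quotTensorEquivQuotSMul M (IsLocalRing.maximalIdeal R)
    have h' : Subsingleton ((R ⧸ IsLocalRing.maximalIdeal R) ⊗[R] M) := h
    have : Subsingleton (M ⧸ (IsLocalRing.maximalIdeal R) • (⊤ : Submodule R M)) :=
      e.symm.toEquiv.subsingleton
    exact Submodule.Quotient.subsingleton_iff.1 this
  obtain ⟨n, hn⟩ := IsArtinianRing.isNilpotent_jacobson_bot (R := R)
  rw [IsLocalRing.jacobson_eq_maximalIdeal ⊥ bot_ne_top] at hn
  have h2 : ∀ n, (IsLocalRing.maximalIdeal R)^n • (⊤ : Submodule R M) = ⊤ := by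
    intro n; induction n with
    | zero => simp
    | succ n ih => rw [pow_succ, mul_smul, h1, ih]
  have h3 := h2 n
  rw [hn, Ideal.zero_eq_bot, Submodule.bot_smul] at h3
  exact (Submodule.subsingleton_iff R).1 (subsingleton_of_bot_eq_top h3)

end Groth.Agent.S14458
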