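import Groth.Statements.S14478
import Groth.Agent.Lib.Helper7.CommonCompl
-- import your own Groth.Agent.* helpers here

set_option autoImplicit false
universe u
open CharCyc

namespace Groth.Agent.S14478

/-- Let V be a finite-dimensional vector space over a field k, let W = V × V^∨ with V^∨ the dual space,
and let T ⊆ W be a subspace with dim T = dim V; put V₁ = V ∩ T, where V sits in W as V × 0. Then
there is a complement V₂ of V₁ in V with the following property: for every injective linear map A₁ :
V₁ → V₁^∨, the map A : V → V^∨ extending A₁ by zero along the decompositions V = V₁ ⊕ V₂ and V^∨ =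
V₁^∨ ⊕ V₂^∨ (so A v = A₁(p v) ∘ p, with p : V → V₁ the projection along V₂) has graph Γ ⊆ W with Γ ∩
T = 0. -/
theorem result (k V : Type u) [Field k] [AddCommGroup V] [Module k V]
    [FiniteDimensional k V] (T : Submodule k (V × Module.Dual k V))
    (hT : Module.finrank k T = Module.finrank k V) :
    ∃ (V₂ : Submodule k V) (h : IsCompl (T.comap (LinearMap.inl k V (Module.Dual k V))) V₂),
      ∀ A₁ : T.comap (LinearMap.inl k V (Module.Dual k V)) →ₗ[k]
          Module.Dual k (T.comap (LinearMap.inl k V (Module.Dual k V))),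
        Function.Injective A₁ →
          LinearMap.graph ((Submodule.projectionOnto _ V₂ h).dualMap ∘ₗ A₁ ∘ₗ
              Submodule.projectionOnto _ V₂ h) ⊓ T = ⊥ := by
  classical
  set V₁ := T.comap (LinearMap.inl k V (Module.Dual k V)) with hV₁
  let I : Submodule k (Module.Dual k V) := T.map (LinearMap.snd k V (Module.Dual k V))
  let J : Submodule k V := I.dualCoannihilator
  -- dimension count
  let q : ↥T →ₗ[k] Module.Dual k V := (LinearMap.snd k V (Module.Dual k V)).domRestrict T
  have hrange : LinearMap.range q = I := by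
    ext φ
    simp only [LinearMap.mem_range, Submodule.mem_map, I, q]
    constructor
    · rintro ⟨t, rfl⟩
      exact ⟨t.1, t.2, rfl⟩
    · rintro ⟨t, ht, rfl⟩
      exact ⟨⟨t, ht⟩, rfl⟩
  -- V₁ ≃ ker q
  let f : ↥V₁ →ₗ[k] ↥(LinearMap.ker q) :=
    { toFun := fun v => ⟨⟨(v.1, 0), v.2⟩, by simp [q, LinearMap.mem_ker]⟩
      map_add' := by
        intro a b
        apply Subtype.ext
        apply Subtype.ext
        simp
      map_smul' := by
        intro c a
        apply Subtype.ext
        apply Subtype.ext
        simp }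
  have hfinj : Function.Injective f := by
    intro a b hab
    apply Subtype.ext
    have := congrArg (fun x : ↥(LinearMap.ker q) => (x.1.1 : V × Module.Dual k V).1) hab
    exact this
  have hfsurj : Function.Surjective f := by
    rintro ⟨⟨⟨v, φ⟩, ht⟩, hker⟩
    have hφ : φ = 0 := by
      have := LinearMap.mem_ker.mp hker
      simpa [q] using this
    subst hφ
    exact ⟨⟨v, ht⟩, rfl⟩
  have hdimker : Module.finrank k ↥(LinearMap.ker q) = Module.finrank k ↥V₁ :=
    (LinearEquiv.ofBijective f ⟨hfinj, hfsurj⟩).finrank_eq.symm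
  have hrn := LinearMap.finrank_range_add_finrank_ker (K := k) (V := ↥T) (V₂ := Module.Dual k V) q
  rw [hrange, hdimker, hT] at hrn
  have hJ := Subspace.finrank_add_finrank_dualCoannihilator_eq I
  have hdim : Module.finrank k ↥V₁ = Module.finrank k ↥J := by
    change Module.finrank k ↥I + Module.finrank k ↥J = Module.finrank k V at hJ
    omega
  obtain ⟨V₂, hc1, hc2⟩ := Groth.Agent.H7.CommonCompl.exists_common_compl V₁ J hdim
  refine ⟨V₂, hc1, ?_⟩
  intro A₁ hA₁
  rw [eq_bot_iff]
  rintro ⟨v, φ⟩ ⟨hgraph, hxT⟩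
  rw [SetLike.mem_coe, LinearMap.mem_graph_iff] at hgraph
  simp only at hgraph
  -- φ = A v
  have hφI : φ ∈ I := ⟨(v, φ), hxT, rfl⟩
  have hφ0 : φ = 0 := by
    ext w
    have hw : w ∈ J ⊔ V₂ := by rw [hc2.sup_eq_top]; trivial
    obtain ⟨j, hj, c, hc, rfl⟩ := Submodule.mem_sup.mp hw
    rw [map_add]
    have h1 : φ j = 0 := (Submodule.mem_dualCoannihilator j).mp hj φ hφI
    have h2 : φ c = 0 := by
      rw [hgraph]
      simp only [LinearMap.comp_apply, LinearMap.dualMap_apply]
      rw [(Submodule.projectionOnto_apply_eq_zero_iff hc1).mpr hc, map_zero]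
    rw [h1, h2, add_zero, LinearMap.zero_apply]
  subst hφ0
  have h3 : A₁ (Submodule.projectionOnto V₁ V₂ hc1 v) = 0 := by
    have hsurj := Submodule.projectionOnto_surjective hc1
    have hinj : Function.Injective (Submodule.projectionOnto V₁ V₂ hc1).dualMap :=
      LinearMap.dualMap_injective_of_surjective hsurj
    apply hinj
    rw [map_zero]
    exact hgraph.symm
  have h4 : Submodule.projectionOnto V₁ V₂ hc1 v = 0 := by
    apply hA₁
    rw [h3, map_zero]
  have hv2 : v ∈ V₂ := (Submodule.projectionOnto_apply_eq_zero_iff hc1).mp h4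
  have hv1 : v ∈ V₁ := hxT
  have hv0 : v = 0 := by
    have : v ∈ V₁ ⊓ V₂ := ⟨hv1, hv2⟩
    rw [hc1.inf_eq_bot] at this
    exact this
  subst hv0
  rfl

end Groth.Agent.S14478
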