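import Groth.Statements.S14479
import Mathlib.Tactic
-- import your own Groth.Agent.* helpers here

set_option autoImplicit false
universe u
open CharCyc

namespace Groth.Agent.S14479

/-- Let V be a finite-dimensional vector space over a field k. If dim V is even or the characteristic of
k is different from 2, there is a bilinear form B on V such that the bilinear form (v, w) ↦ B(v, w)
+ B(w, v) (B plus its transpose, as a map V → V^∨) is nondegenerate. -/
theorem result (k V : Type u) [Field k] [AddCommGroup V] [Module k V]
    [FiniteDimensional k V] (h : Even (Module.finrank k V) ∨ ringChar k ≠ 2) :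
    ∃ B : LinearMap.BilinForm k V, (B + B.flip).Nondegenerate := by
  classical
  have key : ∀ {ι : Type} [Fintype ι] [DecidableEq ι] (b : Module.Basis ι k V) (M : Matrix ι ι k),
      (M + M.transpose).det ≠ 0 → ∃ B : LinearMap.BilinForm k V, (B + B.flip).Nondegenerate := by
    intro ι _ _ b M hdet
    refine ⟨Matrix.toBilin b M, ?_⟩
    rw [LinearMap.BilinForm.nondegenerate_iff_det_ne_zero b]
    have : LinearMap.BilinForm.toMatrix b (Matrix.toBilin b M + (Matrix.toBilin b M).flip) =
        M + M.transpose := by
      ext i j
      rw [LinearMap.BilinForm.toMatrix_apply, LinearMap.add_apply, LinearMap.add_apply,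
        LinearMap.BilinForm.flip_apply, Matrix.add_apply, Matrix.transpose_apply,
        ← LinearMap.BilinForm.toMatrix_apply b, ← LinearMap.BilinForm.toMatrix_apply b,
        LinearMap.BilinForm.toMatrix_toBilin]
    rw [this]
    exact hdet
  rcases h with h | h
  · obtain ⟨m, hm⟩ := h
    let e : Fin (Module.finrank k V) ≃ Fin m ⊕ Fin m := (finCongr hm).trans finSumFinEquiv.symm
    let b : Module.Basis (Fin m ⊕ Fin m) k V := (Module.finBasis k V).reindex e
    apply key b (Matrix.fromBlocks 0 1 0 0)
    rw [Matrix.fromBlocks_transpose, Matrix.fromBlocks_add]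
    simp only [Matrix.transpose_zero, Matrix.transpose_one, add_zero, zero_add]
    apply Matrix.det_ne_zero_of_right_inverse (B := Matrix.fromBlocks 0 1 1 0)
    rw [Matrix.fromBlocks_multiply]
    simp [Matrix.fromBlocks_one]
  · apply key (Module.finBasis k V) (1 : Matrix _ _ k)
    rw [Matrix.transpose_one, ← two_smul k (1 : Matrix (Fin (Module.finrank k V)) (Fin (Module.finrank k V)) k),
      Matrix.det_smul, Matrix.det_one, mul_one]
    exact pow_ne_zero _ (Ring.two_ne_zero h)

end Groth.Agent.S14479
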