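import Groth.Statements.S14502
import Mathlib
import Groth.Agent.Lib.Helper1.LatDet

set_option autoImplicit false
universe u
open IntTh

namespace Groth.Agent.S14502

open Groth.Agent.H1.LatDet Groth.Agent.H1.LatDist

theorem chi_eq_ordFrac_det (A : Type u) [CommRing A] [IsDomain A] [IsNoetherianRing A]
    [IsLocalRing A] (hA : ringKrullDim A = 1) (K : Type u) [Field K] [Algebra A K]
    [IsFractionRing A K] (V : Type u) [AddCommGroup V] [Module K V] [Module A V]
    [IsScalarTower A K V] [FiniteDimensional K V]
    (M : Submodule A V) (hM : IsLat K M) (φ : V ≃ₗ[K] V) :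
    chi M φ = CycAlg.ordFrac A K (LinearMap.det φ.toLinearMap) := by
  let b := Module.finBasis K V
  let e : V ≃ₗ[K] (Fin (Module.finrank K V) → K) := b.equivFun
  set g : (Fin (Module.finrank K V) → K) ≃ₗ[K] (Fin (Module.finrank K V) → K) :=
    (e.symm.trans φ).trans e with hg
  rw [← chi_conj e M φ, chi_indep hA (hM.map e) (isLat_M0 (A := A) (K := K))]
  set Mat := LinearMap.toMatrix' (g : (Fin (Module.finrank K V) → K) →ₗ[K] (Fin (Module.finrank K V) → K)) with hMat
  have hdetg : LinearMap.det (g : (Fin (Module.finrank K V) → K) →ₗ[K] (Fin (Module.finrank K V) → K)) =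
      LinearMap.det φ.toLinearMap := by
    have : (g : (Fin (Module.finrank K V) → K) →ₗ[K] (Fin (Module.finrank K V) → K)) =
        (e : V →ₗ[K] _) ∘ₗ φ.toLinearMap ∘ₗ (e.symm : _ →ₗ[K] V) := by
      ext x; simp [hg]
    rw [this, LinearMap.det_conj]
  have hdet : Mat.det = LinearMap.det φ.toLinearMap := by
    rw [hMat, LinearMap.det_toMatrix', hdetg]
  have hne : Mat.det ≠ 0 := by
    rw [hdet]; exact (LinearEquiv.isUnit_det' φ).ne_zero
  have hgm : mEq Mat hne = g := by
    ext v : 1
    rw [mEq_apply, ← Matrix.toLin'_apply, hMat, Matrix.toLin'_toMatrix']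
    rfl
  have := chiM_eq (A := A) hA Mat hne
  unfold chiM at this
  rw [hgm] at this
  rw [this, hdet]

/-- Let A be a Noetherian local domain of Krull dimension one with fraction field K, V a
finite-dimensional K-vector space, M a lattice in V (a finitely generated A-submodule spanning V
over K) and φ a K-linear automorphism of V. Then φ(M) is a lattice, the A-modules M/(M ∩ φ(M)) and
φ(M)/(M ∩ φ(M)) have finite length, and the distance length_A(M/(M ∩ φ(M))) − length_A(φ(M)/(M ∩
φ(M))) equals the order of det φ at the closed point, i.e. length_A(A/(a)) − length_A(A/(b)) for det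
φ = a/b. -/
theorem result (A : Type u) [CommRing A] [IsDomain A] [IsNoetherianRing A]
    [IsLocalRing A] (hA : ringKrullDim A = 1) (K : Type u) [Field K] [Algebra A K]
    [IsFractionRing A K] (V : Type u) [AddCommGroup V] [Module K V] [Module A V]
    [IsScalarTower A K V] [FiniteDimensional K V]
    (M : Submodule A V) [Submodule.IsLattice K M] (φ : V ≃ₗ[K] V) :
    Submodule.IsLattice K (M.map (φ.toLinearMap.restrictScalars A)) ∧
      Module.length A (↥M ⧸ (M ⊓ M.map (φ.toLinearMap.restrictScalars A)).submoduleOf M) < ⊤ ∧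
      Module.length A (↥(M.map (φ.toLinearMap.restrictScalars A)) ⧸
          (M ⊓ M.map (φ.toLinearMap.restrictScalars A)).submoduleOf
            (M.map (φ.toLinearMap.restrictScalars A))) < ⊤ ∧
      ((Module.length A (↥M ⧸ (M ⊓ M.map (φ.toLinearMap.restrictScalars A)).submoduleOf M)).toNat : ℤ) -
          ((Module.length A (↥(M.map (φ.toLinearMap.restrictScalars A)) ⧸
            (M ⊓ M.map (φ.toLinearMap.restrictScalars A)).submoduleOf
              (M.map (φ.toLinearMap.restrictScalars A)))).toNat : ℤ) =
        CycAlg.ordFrac A K (LinearMap.det φ.toLinearMap) := by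
  have hM : IsLat K M := IsLat.of_isLattice M
  have hφM := hM.map (A := A) φ
  refine ⟨hφM.isLattice, ?_, ?_, ?_⟩
  · have := rl_lt_top hA hM hφM
    rw [← rl_inf_right] at this
    exact this
  · have := rl_lt_top hA hφM hM
    rw [← rl_inf_right, inf_comm] at this
    exact this
  · exact chi_eq_ordFrac_det A hA K V M hM φ

end Groth.Agent.S14502
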