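import Groth.Statements.S14503
import Mathlib
import Groth.Agent.S14502
import Groth.Agent.Lib.Helper1.LatDet

set_option autoImplicit false
universe u
open IntTh

namespace Groth.Agent.S14503

open Groth.Agent.H1.LatDet Groth.Agent.H1.LatDist

/-- Let A ⊆ B be a module-finite extension of domains with A Noetherian local of Krull dimension one, K
⊆ L their fraction fields, and r ∈ B nonzero. Then B/rB has finite length as an A-module and
length_A(B/rB) equals the order at the closed point of A of the norm N_{L/K}(r), i.e.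
length_A(A/(a)) − length_A(A/(b)) for N_{L/K}(r) = a/b. -/
theorem result (A : Type u) [CommRing A] [IsDomain A]
    [IsNoetherianRing A] [IsLocalRing A] (hA : ringKrullDim A = 1) (B : Type u) [CommRing B]
    [IsDomain B] [Algebra A B] (hinj : Function.Injective (algebraMap A B)) [Module.Finite A B]
    (K L : Type u) [Field K] [Field L] [Algebra A K] [IsFractionRing A K] [Algebra B L]
    [IsFractionRing B L] [Algebra K L] [Algebra A L] [IsScalarTower A B L] [IsScalarTower A K L]
    [FiniteDimensional K L] (r : B) (hr : r ≠ 0) :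
    Module.length A (B ⧸ Ideal.span {r}) < ⊤ ∧
      ((Module.length A (B ⧸ Ideal.span {r})).toNat : ℤ) =
        CycAlg.ordFrac A K (Algebra.norm K (algebraMap B L r)) := by
  haveI : FaithfulSMul A B := (faithfulSMul_iff_algebraMap_injective A B).mpr hinj
  haveI : Algebra.IsAlgebraic A B := inferInstance
  let f : B →ₗ[A] L := (IsScalarTower.toAlgHom A B L).toLinearMap
  have hf : ∀ b, f b = algebraMap B L b := fun b => rfl
  have hfinj : Function.Injective f := IsFractionRing.injective B L
  set M : Submodule A L := LinearMap.range f with hMdef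
  have hM : IsLat K M := by
    constructor
    · rw [hMdef, LinearMap.range_eq_map]
      exact Submodule.FG.map _ Module.Finite.fg_top
    · rw [eq_top_iff]
      intro y _
      obtain ⟨⟨b, a⟩, h⟩ := IsLocalizedModule.surj (nonZeroDivisors A) f y
      have ha0 : (a : A) ≠ 0 := nonZeroDivisors.ne_zero a.2
      have haK : algebraMap A K (a : A) ≠ 0 := by
        rw [Ne, map_eq_zero_iff _ (IsFractionRing.injective A K)]; exact ha0
      have h' : (a : A) • y = f b := h
      have : y = (algebraMap A K (a : A))⁻¹ • f b := by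
        rw [← h', ← algebraMap_smul K (a : A) y, smul_smul, inv_mul_cancel₀ haK, one_smul]
      rw [this]
      exact Submodule.smul_mem _ _ (Submodule.subset_span ⟨b, rfl⟩)
  set ρ : L := algebraMap B L r with hρdef
  have hρ : ρ ≠ 0 := by
    rw [hρdef, Ne, map_eq_zero_iff _ (IsFractionRing.injective B L)]; exact hr
  let φ : L ≃ₗ[K] L := LinearEquiv.ofLinearMap (LinearMap.mulLeft K ρ) (LinearMap.mulLeft K ρ⁻¹)
    (by ext x; simp only [LinearMap.comp_apply, LinearMap.mulLeft_apply, LinearMap.id_apply];
        rw [← mul_assoc, mul_inv_cancel₀ hρ, one_mul])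
    (by ext x; simp only [LinearMap.comp_apply, LinearMap.mulLeft_apply, LinearMap.id_apply];
        rw [← mul_assoc, inv_mul_cancel₀ hρ, one_mul])
  have hφ : ∀ x, φ x = ρ * x := fun x => rfl
  have hdet : LinearMap.det φ.toLinearMap = Algebra.norm K ρ := by
    rw [Algebra.norm_apply]; rfl
  set φM := M.map ((φ.restrictScalars A : L ≃ₗ[A] L) : L →ₗ[A] L) with hφM
  have hle : φM ≤ M := by
    rintro _ ⟨_, ⟨b, rfl⟩, rfl⟩
    refine ⟨r * b, ?_⟩
    change f (r * b) = ρ * f b
    rw [hf, hf, map_mul]
  have hlat := hM.map (A := A) φ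
  have hfin : rl M φM < ⊤ := rl_lt_top hA hM hlat
  -- identify the quotient
  let g : B →ₗ[A] (↥M ⧸ φM.submoduleOf M) :=
    (φM.submoduleOf M).mkQ ∘ₗ f.rangeRestrict
  have hg : Function.Surjective g :=
    (Submodule.mkQ_surjective _).comp f.surjective_rangeRestrict
  have hker : LinearMap.ker g = (Ideal.span {r}).restrictScalars A := by
    ext b
    rw [LinearMap.mem_ker, Submodule.restrictScalars_mem, Ideal.mem_span_singleton']
    change (Submodule.Quotient.mk (f.rangeRestrict b) : ↥M ⧸ φM.submoduleOf M) = 0 ↔ _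
    rw [Submodule.Quotient.mk_eq_zero]
    change f b ∈ φM ↔ _
    constructor
    · rintro ⟨_, ⟨b', rfl⟩, hb'⟩
      refine ⟨b', ?_⟩
      apply hfinj
      have : ρ * f b' = f b := hb'
      rw [← this, hf, hf, map_mul, mul_comm]
    · rintro ⟨b', rfl⟩
      refine ⟨f b', ⟨b', rfl⟩, ?_⟩
      change ρ * f b' = f (b' * r)
      rw [hf, hf, map_mul, mul_comm]
  have hlen : rl M φM = Module.length A (B ⧸ Ideal.span {r}) := by
    unfold rl
    rw [← (g.quotKerEquivOfSurjective hg).length_eq, (Submodule.quotEquivOfEq _ _ hker).length_eq]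
    exact (Submodule.Quotient.restrictScalarsEquiv A (Ideal.span {r})).length_eq
  refine ⟨hlen ▸ hfin, ?_⟩
  have h1 := Groth.Agent.S14502.chi_eq_ordFrac_det A hA K L M hM φ
  unfold chi at h1
  rw [dist_of_le hle, hlen, hdet] at h1
  exact h1

end Groth.Agent.S14503
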