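import Groth.Statements.S14511
import Mathlib.Tactic
-- import your own Groth.Agent.* helpers here

set_option autoImplicit false
universe u
open CAlgX

namespace Groth.Agent.S14511

/-- Let R be a commutative ring and P ∈ R[x_1, …, x_r] a polynomial of total degree at most r. Then the
coefficient of the monomial x_1 ⋯ x_r in P equals Σ_J (−1)^{|J|} P(δ_J), the sum over all subsets J
⊆ {1, …, r} (the empty one included), where δ_J is the point with coordinate −1 at the indices in J
and 0 at the others. -/
theorem result (R : Type u) [CommRing R] (r : ℕ)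
    (P : MvPolynomial (Fin r) R) (hP : P.totalDegree ≤ r) :
    MvPolynomial.coeff (∑ i : Fin r, Finsupp.single i 1) P =
      ∑ J : Finset (Fin r), (-1 : R) ^ J.card * MvPolynomial.eval (fun j => if j ∈ J then (-1 : R) else 0) P := by
  classical
  have hone_apply : ∀ i : Fin r, (∑ j : Fin r, Finsupp.single j 1 : Fin r →₀ ℕ) i = 1 := by
    intro i
    rw [Finsupp.finset_sum_apply]
    simp [Finsupp.single_apply]
  have hA : ∀ e : Fin r →₀ ℕ,
      ∑ J : Finset (Fin r), (-1 : R) ^ J.card * ∏ i, (if i ∈ J then (-1 : R) else 0) ^ e i =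
        ∏ i, ((0 : R) ^ (e i) - (-1) ^ (e i)) := by
    intro e
    have hpa := Finset.prod_add (fun i => -((-1 : R) ^ (e i))) (fun i => (0 : R) ^ (e i))
      (Finset.univ : Finset (Fin r))
    rw [Finset.powerset_univ] at hpa
    have h2 : ∀ J : Finset (Fin r),
        (-1 : R) ^ J.card * ∏ i, (if i ∈ J then (-1 : R) else 0) ^ e i =
          (∏ i ∈ J, -((-1 : R) ^ (e i))) * ∏ i ∈ Finset.univ \ J, (0 : R) ^ (e i) := by
      intro J
      rw [Finset.prod_neg, ← Finset.prod_sdiff (Finset.subset_univ J)]
      have e1 : ∏ i ∈ Finset.univ \ J, (if i ∈ J then (-1 : R) else 0) ^ e i =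
          ∏ i ∈ Finset.univ \ J, (0 : R) ^ (e i) :=
        Finset.prod_congr rfl (fun i hi => by rw [if_neg (Finset.mem_sdiff.1 hi).2])
      have e2 : ∏ i ∈ J, (if i ∈ J then (-1 : R) else 0) ^ e i = ∏ i ∈ J, (-1 : R) ^ (e i) :=
        Finset.prod_congr rfl (fun i hi => by rw [if_pos hi])
      rw [e1, e2]; ring
    rw [Finset.sum_congr rfl (fun J _ => h2 J), ← hpa]
    apply Finset.prod_congr rfl
    intro i _
    ring
  have hB : ∀ d ∈ P.support, ∏ i, ((0 : R) ^ (d i) - (-1) ^ (d i)) =
      if d = ∑ j : Fin r, Finsupp.single j 1 then 1 else 0 := by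
    intro d hd
    have hdeg : ∑ i, d i ≤ r := by
      have := MvPolynomial.le_totalDegree hd
      rw [Finsupp.sum_fintype _ _ (fun _ => rfl)] at this
      exact this.trans hP
    split_ifs with h
    · apply Finset.prod_eq_one
      intro i _
      rw [h, hone_apply]
      simp
    · by_cases hz : ∃ i, d i = 0
      · obtain ⟨i, hi⟩ := hz
        apply Finset.prod_eq_zero (Finset.mem_univ i)
        rw [hi]; simp
      · exfalso
        push_neg at hz
        apply h
        ext i
        rw [hone_apply]
        by_contra hne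
        have h2 : 2 ≤ d i := by have := hz i; omega
        have hlt : ∑ i : Fin r, 1 < ∑ i, d i := by
          apply Finset.sum_lt_sum
          · intro j _
            have := hz j; omega
          · exact ⟨i, Finset.mem_univ i, by omega⟩
        simp at hlt
        omega
  simp_rw [MvPolynomial.eval_eq', Finset.mul_sum]
  rw [Finset.sum_comm]
  have hC : ∀ d ∈ P.support, ∑ J : Finset (Fin r), (-1 : R) ^ J.card *
      (MvPolynomial.coeff d P * ∏ i, (if i ∈ J then (-1 : R) else 0) ^ d i) =
      MvPolynomial.coeff d P * (if d = ∑ j : Fin r, Finsupp.single j 1 then 1 else 0) := by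
    intro d hd
    rw [← hB d hd, ← hA d, Finset.mul_sum]
    apply Finset.sum_congr rfl
    intro J _
    ring
  rw [Finset.sum_congr rfl hC]
  simp only [mul_ite, mul_one, mul_zero, Finset.sum_ite_eq', MvPolynomial.mem_support_iff]
  split_ifs with h
  · rfl
  · push_neg at h
    exact h

end Groth.Agent.S14511
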