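import Groth.Statements.S14519
import Groth.Agent.Lib.Helper8.CurveTop
import Groth.Agent.Lib.Helper8.SmoothNormal
import Groth.Agent.Lib.Helper8.LocalIso
-- import your own Groth.Agent.* helpers here

set_option autoImplicit false
universe u
open CategoryTheory CategoryTheory.Limits AlgebraicGeometry
open Curves

namespace Groth.Agent.S14519

/-- Let k be an algebraically closed field and f : X → Y a birational morphism over k between smooth
curves (X, Y integral, separated, of finite type and smooth over k, of dimension one; f sends the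
generic point of X to that of Y and the induced map of function fields K(Y) → K(X) is bijective).
Then f is an open immersion. -/
theorem result (k : Type u) [Field k] [IsAlgClosed k]
    (X Y : Scheme.{u}) [X.Over (Spec (CommRingCat.of k))] [Y.Over (Spec (CommRingCat.of k))]
    [IsIntegral X] [IsSeparated (X ↘ (Spec (CommRingCat.of k)))] [LocallyOfFiniteType (X ↘ (Spec (CommRingCat.of k)))] [QuasiCompact (X ↘ (Spec (CommRingCat.of k)))] [Smooth (X ↘ (Spec (CommRingCat.of k)))] (hdimX : topologicalKrullDim X = 1)
    [IsIntegral Y] [IsSeparated (Y ↘ (Spec (CommRingCat.of k)))] [LocallyOfFiniteType (Y ↘ (Spec (CommRingCat.of k)))] [QuasiCompact (Y ↘ (Spec (CommRingCat.of k)))] [Smooth (Y ↘ (Spec (CommRingCat.of k)))] (hdimY : topologicalKrullDim Y = 1)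
    (f : X ⟶ Y) (hf : f ≫ (Y ↘ (Spec (CommRingCat.of k))) = (X ↘ (Spec (CommRingCat.of k))))
    (e : f (genericPoint X) = genericPoint Y)
    (hbir : Function.Bijective (Y.presheaf.stalkSpecializes (specializes_of_eq e) ≫ f.stalkMap (genericPoint X)).hom) :
    IsOpenImmersion f := by
  classical
  have hX : IsLocallyNoetherian X :=
    LocallyOfFiniteType.isLocallyNoetherian (X ↘ (Spec (CommRingCat.of k)))
  have hXc : CompactSpace X := QuasiCompact.compactSpace_of_compactSpace (X ↘ (Spec (CommRingCat.of k)))
  have hXn : IsNoetherian X := {}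
  have hXns : TopologicalSpace.NoetherianSpace X := inferInstance
  have hYj : JacobsonSpace Y := LocallyOfFiniteType.jacobsonSpace (Y ↘ (Spec (CommRingCat.of k)))
  have hfl : LocallyOfFiniteType f := by
    have : LocallyOfFiniteType (f ≫ (Y ↘ (Spec (CommRingCat.of k)))) := by rw [hf]; infer_instance
    exact locallyOfFiniteType_of_comp f (Y ↘ (Spec (CommRingCat.of k)))
  have hfs : IsSeparated f := by
    have : IsSeparated (f ≫ (Y ↘ (Spec (CommRingCat.of k)))) := by rw [hf]; infer_instance
    exact IsSeparated.of_comp f (Y ↘ (Spec (CommRingCat.of k)))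
  have hLQF : LocallyQuasiFinite f :=
    Groth.Agent.H8.CurveTop.locallyQuasiFinite_of_curves f hdimX.le hdimY e
  have hN : ∀ y : Y, IsIntegrallyClosed (Y.presheaf.stalk y) :=
    Groth.Agent.H8.SmoothNormal.isIntegrallyClosed_stalk_of_smooth_field k Y
      (Y ↘ (Spec (CommRingCat.of k)))
  have hiso1 : IsIso (Y.presheaf.stalkSpecializes (specializes_of_eq e)) := by
    refine ⟨Y.presheaf.stalkSpecializes (specializes_of_eq e.symm), ?_, ?_⟩
    · rw [TopCat.Presheaf.stalkSpecializes_comp, TopCat.Presheaf.stalkSpecializes_refl]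
    · rw [TopCat.Presheaf.stalkSpecializes_comp, TopCat.Presheaf.stalkSpecializes_refl]
  have hbir' : IsIso (f.stalkMap (genericPoint X)) := by
    have h1 : IsIso (Y.presheaf.stalkSpecializes (specializes_of_eq e) ≫
        f.stalkMap (genericPoint X)) :=
      (ConcreteCategory.isIso_iff_bijective _).mpr hbir
    exact IsIso.of_isIso_comp_left (Y.presheaf.stalkSpecializes (specializes_of_eq e)) _
  exact (Groth.Agent.H8.LocalIso.isLocalIso_of_birational hN f e hbir').2 hfs

end Groth.Agent.S14519
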