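import Groth.Statements.S1452
import Groth.Agent.S1451
import Groth.Agent.Lib.Helper1.SourceDescent

set_option autoImplicit false
universe u
open FlatMor

namespace Groth.Agent.S1452

open AlgebraicGeometry CategoryTheory Limits in
/-- Let f : X → Y and g : Y → Z with Y integral and the local ring of Y at y = f x geometrically
unibranch; assume g ∘ f is étale on an open neighbourhood of x and some generization of x maps to
the generic point of Y. Then f is étale on an open neighbourhood of x and g is étale on an open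
neighbourhood of y. -/
theorem result {X Y Z : Scheme.{u}} (f : X ⟶ Y) (g : Y ⟶ Z) [IsIntegral Y] (x : X)
    (hY : CAlg2.IsGeomUnibranch (Y.presheaf.stalk (f x))) (het : ∃ U : X.Opens, x ∈ U ∧ Etale (U.ι ≫ f ≫ g))
    (hsp : ∃ x' : X, x' ⤳ x ∧ f x' = genericPoint ↑Y) :
    (∃ U : X.Opens, x ∈ U ∧ Etale (U.ι ≫ f)) ∧ ∃ V : Y.Opens, f x ∈ V ∧ Etale (V.ι ≫ g) := by
  obtain ⟨U, hxU, hU⟩ := het
  obtain ⟨x', hx'x, hx'⟩ := hsp
  haveI := hU
  haveI hU' : Etale ((U.ι ≫ f) ≫ g) := by rwa [Category.assoc]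
  haveI hlft : LocallyOfFiniteType (U.ι ≫ f) := locallyOfFiniteType_of_comp (U.ι ≫ f) g
  haveI hfu : FormallyUnramified (U.ι ≫ f) := FormallyUnramified.of_comp (U.ι ≫ f) g
  have hx'U : x' ∈ U := hx'x.mem_open U.2 hxU
  have hfx : (U.ι ≫ f) (⟨x, hxU⟩ : U.toScheme) = f x := rfl
  have hY1 : CAlg2.IsGeomUnibranch (Y.presheaf.stalk ((U.ι ≫ f) (⟨x, hxU⟩ : U.toScheme))) := by
    have : ∀ y : Y, y = f x → CAlg2.IsGeomUnibranch (Y.presheaf.stalk y) := by
      rintro _ rfl; exact hY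
    exact this _ hfx
  have hsp1 : ∃ x'' : U.toScheme, x'' ⤳ (⟨x, hxU⟩ : U.toScheme) ∧
      (U.ι ≫ f) x'' = genericPoint ↑Y := by
    refine ⟨⟨x', hx'U⟩, ?_, ?_⟩
    · refine (U.ι.isOpenEmbedding.isInducing.specializes_iff).mp ?_
      exact hx'x
    · exact hx'
  have hunr1 : ∃ W : U.toScheme.Opens, (⟨x, hxU⟩ : U.toScheme) ∈ W ∧
      FormallyUnramified (W.ι ≫ (U.ι ≫ f)) := by
    refine ⟨⊤, trivial, ?_⟩
    exact MorphismProperty.comp_mem _ _ _ inferInstance hfu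
  obtain ⟨W, hxW, hW⟩ := Groth.Agent.S1451.result (U.ι ≫ f) (⟨x, hxU⟩ : U.toScheme) hY1 hsp1 hunr1
  haveI := hW
  constructor
  · refine ⟨U.ι ''ᵁ W, ⟨⟨x, hxU⟩, hxW, rfl⟩, ?_⟩
    have e1 : (U.ι ''ᵁ W).ι ≫ f = (U.ι.isoImage W).inv ≫ (W.ι ≫ U.ι ≫ f) :=
      (Scheme.Hom.isoImage_inv_ι_assoc U.ι W f).symm
    rw [e1]
    infer_instance
  · obtain ⟨φ, hφ⟩ : ∃ φ : W.toScheme ⟶ Y, φ = W.ι ≫ U.ι ≫ f := ⟨_, rfl⟩
    haveI hφet : Etale φ := by rw [hφ]; exact hW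
    obtain ⟨V, hV⟩ : ∃ V : Y.Opens, (V : Set Y) = Set.range φ :=
      ⟨⟨Set.range φ, φ.isOpenMap.isOpen_range⟩, rfl⟩
    have hsub : Set.range φ ⊆ Set.range V.ι := by
      rw [Scheme.Opens.range_ι, hV]
    obtain ⟨φ', hφ'⟩ : ∃ φ' : W.toScheme ⟶ V.toScheme, φ' ≫ V.ι = φ :=
      ⟨IsOpenImmersion.lift V.ι φ hsub, IsOpenImmersion.lift_fac _ _ _⟩
    haveI : Etale (φ' ≫ V.ι) := by rw [hφ']; exact hφet
    haveI hφ'et : Etale φ' := Etale.of_comp φ' V.ι
    have hfxV : f x ∈ V := by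
      have : f x ∈ (V : Set Y) := by
        rw [hV]
        refine ⟨⟨⟨x, hxU⟩, hxW⟩, ?_⟩
        rw [hφ]; rfl
      exact this
    refine ⟨V, hfxV, ?_⟩
    refine Groth.Agent.H1.SourceDescent.etale_of_family (fun _ : Unit => W.toScheme)
      (fun _ => φ') (V.ι ≫ g) ?_ ?_
    · intro y
      refine ⟨(), ?_⟩
      have hy : V.ι y ∈ (V : Set Y) := y.2
      rw [hV] at hy
      obtain ⟨w, hw⟩ := hy
      refine ⟨w, ?_⟩
      apply V.ι.isOpenEmbedding.injective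
      have : V.ι (φ' w) = φ w := by rw [← hφ']; rfl
      rw [← hw]; exact this
    · intro _
      change Etale (φ' ≫ V.ι ≫ g)
      rw [← Category.assoc, hφ', hφ]
      simp only [Category.assoc]
      infer_instance

end Groth.Agent.S1452
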