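import Groth.Statements.S14539
import Mathlib
import Groth.Agent.Lib.Helper9.Points.Extend
import Groth.Agent.Lib.Helper9.ComodStab

set_option autoImplicit false
universe u v w
open TensorProduct
open PrincBund

namespace Groth.Agent.S14539

/-- Let k be an algebraically closed field of characteristic 0, A a commutative Hopf algebra over k (the
coordinate ring of an affine group scheme G over k, not necessarily of finite type) and V a right
A-comodule, of any dimension. If a k-subspace W of V is mapped into itself by the action of every
k-rational point of G (every k-algebra homomorphism A → k, acting on V through the coaction), then W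
is a subcomodule of V. -/
theorem result (k : Type u) (A : Type v) [Field k] [IsAlgClosed k]
    [CharZero k] [CommRing A] [HopfAlgebra k A]
    (V : Type w) [AddCommGroup V] [Module k V] [HopfRep.Comod k A V] (W : Submodule k V)
    (hW : ∀ g : A →ₐ[k] k, W.map (HopfRep.Comod.act k A V g) ≤ W) :
    HopfRep.IsSubcomod (k := k) (A := A) W := by
  classical
  intro w hw
  rw [Groth.Agent.H9.Stab.mem_range_rTensor_iff_sliceL]
  intro ψ hψ
  apply Groth.Agent.H9.Points.eq_zero_of_forall_point (k := k)
  intro g
  have h1 : g (Groth.Agent.H9.Comod.sliceL ψ (HopfRep.Comod.coact (k := k) (A := A) w)) =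
      ψ (Groth.Agent.H9.Comod.slice g.toLinearMap (HopfRep.Comod.coact (k := k) (A := A) w)) :=
    Groth.Agent.H9.Comod.apply_sliceL g.toLinearMap ψ _
  rw [h1]
  apply hψ
  apply hW g
  exact ⟨w, hw, rfl⟩

end Groth.Agent.S14539
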