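import Groth.Statements.S1458
import Mathlib

set_option autoImplicit false
universe u
open FlatMor

namespace Groth.Agent.S1458

open TensorProduct MvPolynomial

section UI

variable {A B : Type u} [CommRing A] [CommRing B] [Algebra A B] {n m : ℕ}
  (π : (Fin n → A) →ₗ[A] B)

/-- `x ↦ Σ bᵢ ⊗ xᵢ` -/
noncomputable def E (A' : Type u) [CommRing A'] [Algebra A A'] (x : Fin n → A') : B ⊗[A] A' :=
  ∑ i, π (Pi.single i 1) ⊗ₜ[A] x i

lemma pi_eq (v : Fin n → A) : π v = ∑ l, v l • π (Pi.single l 1) := by
  conv_lhs => rw [pi_eq_sum_univ' v]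
  rw [map_sum]
  refine Finset.sum_congr rfl fun l _ => ?_
  rw [← map_smul]

variable {A' : Type u} [CommRing A'] [Algebra A A']

lemma E_add (x x' : Fin n → A') : E π A' (x + x') = E π A' x + E π A' x' := by
  simp only [E, Pi.add_apply, TensorProduct.tmul_add, Finset.sum_add_distrib]

lemma E_sub (x x' : Fin n → A') : E π A' (x - x') = E π A' x - E π A' x' := by
  simp only [E, Pi.sub_apply, TensorProduct.tmul_sub, Finset.sum_sub_distrib]

lemma E_zero : E π A' (0 : Fin n → A') = 0 := by
  simp [E]

lemma E_sum {κ : Type*} (s : Finset κ) (x : κ → Fin n → A') :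
    E π A' (∑ k ∈ s, x k) = ∑ k ∈ s, E π A' (x k) := by
  classical
  induction s using Finset.induction_on with
  | empty => simp [E_zero]
  | insert a s ha ih => rw [Finset.sum_insert ha, Finset.sum_insert ha, E_add, ih]

lemma E_surjective (hπ : Function.Surjective π) (t : B ⊗[A] A') : ∃ x, E π A' x = t := by
  induction t using TensorProduct.induction_on with
  | zero => exact ⟨0, E_zero π⟩
  | tmul b a =>
    obtain ⟨v, rfl⟩ := hπ b
    refine ⟨fun i => algebraMap A A' (v i) * a, ?_⟩
    rw [pi_eq π v, TensorProduct.sum_tmul]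
    refine Finset.sum_congr rfl fun i _ => ?_
    rw [TensorProduct.smul_tmul, Algebra.smul_def]
  | add x y hx hy =>
    obtain ⟨x', rfl⟩ := hx
    obtain ⟨y', rfl⟩ := hy
    exact ⟨x' + y', E_add π x' y'⟩

lemma E_rel (r : Fin m → (Fin n → A)) (hr : ∀ k, π (r k) = 0) (y : Fin m → A') :
    E π A' (fun l => ∑ k, y k * algebraMap A A' (r k l)) = 0 := by
  have h : (fun l => ∑ k, y k * algebraMap A A' (r k l)) =
      ∑ k, (fun l => y k * algebraMap A A' (r k l)) := by
    ext l; simp
  rw [h, E_sum]
  refine Finset.sum_eq_zero fun k _ => ?_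
  have : E π A' (fun l => y k * algebraMap A A' (r k l)) = π (r k) ⊗ₜ[A] y k := by
    rw [pi_eq π (r k), TensorProduct.sum_tmul]
    refine Finset.sum_congr rfl fun l _ => ?_
    rw [TensorProduct.smul_tmul, Algebra.smul_def, mul_comm]
  rw [this, hr k, TensorProduct.zero_tmul]


lemma E_ker (hπ : Function.Surjective π) (r : Fin m → (Fin n → A))
    (hr : Submodule.span A (Set.range r) = LinearMap.ker π) (z : Fin n → A')
    (hz : E π A' z = 0) : ∃ y : Fin m → A', ∀ l, z l = ∑ k, y k * algebraMap A A' (r k l) := by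
  -- lift to `(Fin n → A) ⊗ A'`
  let ζ : (Fin n → A) ⊗[A] A' := ∑ l, (Pi.single l (1 : A) : Fin n → A) ⊗ₜ[A] z l
  have hζ : LinearMap.rTensor A' π ζ = 0 := by
    simp only [ζ, map_sum, LinearMap.rTensor_tmul]
    exact hz
  have hex := rTensor_exact A' (LinearMap.exact_subtype_ker_map π) hπ
  obtain ⟨w, hw⟩ := (hex ζ).mp hζ
  have key : ∀ w : (LinearMap.ker π) ⊗[A] A', ∃ y : Fin m → A',
      LinearMap.rTensor A' (LinearMap.ker π).subtype w = ∑ k, r k ⊗ₜ[A] y k := by
    intro w
    induction w using TensorProduct.induction_on with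
    | zero => exact ⟨0, by simp⟩
    | tmul κ a =>
      have hκ : (κ : Fin n → A) ∈ Submodule.span A (Set.range r) := by rw [hr]; exact κ.2
      obtain ⟨d, hd⟩ := (Submodule.mem_span_range_iff_exists_fun A).mp hκ
      refine ⟨fun k => d k • a, ?_⟩
      rw [LinearMap.rTensor_tmul, Submodule.subtype_apply, ← hd, TensorProduct.sum_tmul]
      refine Finset.sum_congr rfl fun k _ => ?_
      rw [TensorProduct.smul_tmul]
    | add x y hx hy =>
      obtain ⟨y1, h1⟩ := hx
      obtain ⟨y2, h2⟩ := hy
      refine ⟨y1 + y2, ?_⟩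
      rw [map_add, h1, h2, ← Finset.sum_add_distrib]
      refine Finset.sum_congr rfl fun k _ => ?_
      rw [Pi.add_apply, TensorProduct.tmul_add]
  obtain ⟨y, hy⟩ := key w
  rw [hw] at hy
  -- evaluate
  let Ψ : (Fin n → A) ⊗[A] A' →ₗ[A] (Fin n → A') :=
    TensorProduct.lift
      { toFun := fun v =>
          { toFun := fun a => fun l => algebraMap A A' (v l) * a
            map_add' := fun a a' => by ext l; simp [mul_add]
            map_smul' := fun c a => by ext l; simp [Algebra.smul_def]; ring }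
        map_add' := fun v v' => by ext a l; simp [add_mul]
        map_smul' := fun c v => by ext a l; simp [Algebra.smul_def]; ring }
  have hΨ : ∀ (v : Fin n → A) (a : A') (l : Fin n), Ψ (v ⊗ₜ a) l = algebraMap A A' (v l) * a :=
    fun v a l => rfl
  refine ⟨y, fun l => ?_⟩
  have h1 := congrArg (fun t => Ψ t l) hy
  simp only [ζ, map_sum, Finset.sum_apply, hΨ] at h1
  rw [← h1.trans (Finset.sum_congr rfl fun k _ => mul_comm _ _)]
  rw [Finset.sum_eq_single l]
  · simp
  · intro j _ hj
    simp [hj]
  · simp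

lemma E_mul (c : Fin n → Fin n → (Fin n → A))
    (hc : ∀ i j, π (c i j) = π (Pi.single i 1) * π (Pi.single j 1)) (x : Fin n → A') :
    E π A' x * E π A' x - E π A' x =
      E π A' (fun l => (∑ i, ∑ j, algebraMap A A' (c i j l) * x i * x j) - x l) := by
  have h : (fun l => (∑ i, ∑ j, algebraMap A A' (c i j l) * x i * x j) - x l) =
      (∑ i, ∑ j, fun l => algebraMap A A' (c i j l) * x i * x j) - x := by
    ext l; simp
  rw [h, E_sub, E_sum]
  congr 1
  simp only [E_sum]
  rw [E, Finset.sum_mul]
  refine Finset.sum_congr rfl fun i _ => ?_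
  rw [Finset.mul_sum]
  refine Finset.sum_congr rfl fun j _ => ?_
  rw [Algebra.TensorProduct.tmul_mul_tmul, ← hc, pi_eq π (c i j), TensorProduct.sum_tmul, E]
  refine Finset.sum_congr rfl fun l _ => ?_
  rw [TensorProduct.smul_tmul, Algebra.smul_def, mul_assoc]

end UI

open TensorProduct in
/-- Let A → B be a finite ring map of finite presentation. Then there are a finitely presented A-algebra
A_u and an idempotent e_u of B ⊗_A A_u such that for every A-algebra A' and every idempotent e of B
⊗_A A' there is an A-algebra map A_u → A' whose induced map B ⊗ A_u → B ⊗ A' sends e_u to e. -/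
theorem result {A B : Type u} [CommRing A] [CommRing B] [Algebra A B] [Module.Finite A B] [Algebra.FinitePresentation A B] :
    ∃ (Au : Type u) (_ : CommRing Au) (_ : Algebra A Au) (eu : B ⊗[A] Au), Algebra.FinitePresentation A Au ∧ IsIdempotentElem eu ∧
      ∀ (A' : Type u) [CommRing A'] [Algebra A A'] (e : B ⊗[A] A'), IsIdempotentElem e →
        ∃ φ : Au →ₐ[A] A', Algebra.TensorProduct.map (AlgHom.id A B) φ eu = e := by
  haveI : Module.FinitePresentation A B :=
    Module.FinitePresentation.of_finite_of_finitePresentation A B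
  obtain ⟨n, π, hπ⟩ := Module.Finite.exists_fin' A B
  have hK : (LinearMap.ker π).FG := Module.FinitePresentation.fg_ker π hπ
  obtain ⟨m, r, hr⟩ := Submodule.fg_iff_exists_fin_generating_family.mp hK
  have hr0 : ∀ k, π (r k) = 0 := fun k => by
    have : r k ∈ LinearMap.ker π := by rw [← hr]; exact Submodule.subset_span ⟨k, rfl⟩
    exact this
  choose c hc using fun i j => hπ (π (Pi.single i 1) * π (Pi.single j 1))
  -- the universal algebra
  let ρ : Fin n → MvPolynomial (Fin n ⊕ Fin m) A := fun l =>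
    (∑ i, ∑ j, C (c i j l) * X (Sum.inl i) * X (Sum.inl j)) - X (Sum.inl l) -
      ∑ k, X (Sum.inr k) * C (r k l)
  let I : Ideal (MvPolynomial (Fin n ⊕ Fin m) A) := Ideal.span (Set.range ρ)
  let Au := MvPolynomial (Fin n ⊕ Fin m) A ⧸ I
  let xu : Fin n → Au := fun i => Ideal.Quotient.mk I (X (Sum.inl i))
  let yu : Fin m → Au := fun k => Ideal.Quotient.mk I (X (Sum.inr k))
  have hrel : ∀ l, (∑ i, ∑ j, algebraMap A Au (c i j l) * xu i * xu j) - xu l =
      ∑ k, yu k * algebraMap A Au (r k l) := by
    intro l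
    have h0 : Ideal.Quotient.mk I (ρ l) = 0 :=
      Ideal.Quotient.eq_zero_iff_mem.mpr (Ideal.subset_span ⟨l, rfl⟩)
    simp only [ρ, map_sub, map_sum, map_mul] at h0
    rw [sub_eq_zero] at h0
    exact h0
  refine ⟨Au, inferInstance, inferInstance, E π Au xu, ?_, ?_, ?_⟩
  · exact Algebra.FinitePresentation.quotient (Submodule.fg_span (Set.finite_range ρ))
  · have h1 := E_mul π c hc xu
    have h2 : (fun l => (∑ i, ∑ j, algebraMap A Au (c i j l) * xu i * xu j) - xu l) =
        fun l => ∑ k, yu k * algebraMap A Au (r k l) := funext hrel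
    rw [h2, E_rel π r hr0 yu, sub_eq_zero] at h1
    exact h1
  · intro A' _ _ e he
    obtain ⟨x', rfl⟩ := E_surjective π hπ e
    have h1 := E_mul π c hc x'
    rw [he.eq, sub_self] at h1
    obtain ⟨y', hy'⟩ := E_ker π hπ r hr _ h1.symm
    have hvan : ∀ a ∈ I, MvPolynomial.aeval (Sum.elim x' y') a = 0 := by
      intro a ha
      have hle : I ≤ RingHom.ker (MvPolynomial.aeval (R := A) (Sum.elim x' y')).toRingHom := by
        rw [Ideal.span_le]
        rintro _ ⟨l, rfl⟩
        rw [SetLike.mem_coe, RingHom.mem_ker]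
        change MvPolynomial.aeval (Sum.elim x' y') (ρ l) = 0
        simp only [ρ, map_sub, map_sum, map_mul, MvPolynomial.aeval_X, MvPolynomial.aeval_C,
          Sum.elim_inl, Sum.elim_inr]
        rw [hy' l, sub_self]
      exact hle ha
    let φ : Au →ₐ[A] A' := Ideal.Quotient.liftₐ I (MvPolynomial.aeval (Sum.elim x' y')) hvan
    refine ⟨φ, ?_⟩
    simp only [E, map_sum, Algebra.TensorProduct.map_tmul, AlgHom.coe_id, id_eq]
    refine Finset.sum_congr rfl fun i _ => ?_
    congr 1
    change φ (Ideal.Quotient.mk I (X (Sum.inl i))) = x' i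
    have := Ideal.Quotient.liftₐ_apply I (MvPolynomial.aeval (R := A) (Sum.elim x' y')) hvan
      (Ideal.Quotient.mk I (X (Sum.inl i)))
    refine this.trans ?_
    have h2 := Ideal.Quotient.lift_mk I (MvPolynomial.aeval (R := A) (Sum.elim x' y')).toRingHom hvan
      (a := X (Sum.inl i))
    refine h2.trans ?_
    simp

end Groth.Agent.S1458
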