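import Groth.Statements.S14596
import Groth.Agent.Lib.Helper9.Misc.QuoFin

set_option autoImplicit false
universe u
open CategoryTheory MonoidalCategory CartesianMonoidalCategory MonObj GrpObj AlgebraicGeometry CategoryTheory.Limits
open AlgGrp

namespace Groth.Agent.S14596

/-- Let k be a perfect field, G a k-group scheme of finite type and r₀ : G⁰_red → G the reduced neutral
component of G, i.e. a homomorphism and closed immersion from a reduced k-group scheme whose image
is the connected component of the identity. Then the homogeneous space G/G⁰_red is finite, and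
G⁰_red is the smallest closed subgroup scheme H of G such that G/H is finite: every such H contains
G⁰_red. -/
theorem result (k : Type u) [Field k] [PerfectField k]
    (G G₀ : Over (Spec (CommRingCat.of k))) [GrpObj G] [GrpObj G₀] [LocallyOfFiniteType G.hom] [QuasiCompact G.hom]
    [LocallyOfFiniteType G₀.hom] [QuasiCompact G₀.hom]
    (r₀ : G₀ ⟶ G) [IsMonHom r₀] [IsClosedImmersion r₀.left] [IsReduced G₀.left] (t : ↥((𝟙_ (Over (Spec (CommRingCat.of k)))).left))
    (hr₀ : Set.range ⇑r₀.left.base = connectedComponent ((η[G]).left.base t)) :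
    (∀ (X : Over (Spec (CommRingCat.of k))) (a : AlgGrp.Action G X) (o : 𝟙_ (Over (Spec (CommRingCat.of k))) ⟶ X), AGF.IsQuotient r₀ X a o → IsFinite X.hom) ∧
    ∀ (H : Over (Spec (CommRingCat.of k))) [GrpObj H] (h : H ⟶ G) [IsMonHom h] [IsClosedImmersion h.left]
      (X : Over (Spec (CommRingCat.of k))) (a : AlgGrp.Action G X) (o : 𝟙_ (Over (Spec (CommRingCat.of k))) ⟶ X),
      AGF.IsQuotient h X a o → IsFinite X.hom → ∃ g : G₀ ⟶ H, g ≫ h = r₀ := by
  haveI : IsLocallyNoetherian G.left := LocallyOfFiniteType.isLocallyNoetherian G.hom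
  haveI : CompactSpace G.left := QuasiCompact.compactSpace_of_compactSpace G.hom
  haveI : IsNoetherian G.left := {}
  haveI : TopologicalSpace.NoetherianSpace G.left := inferInstance
  have hr₀' : Set.range r₀.left = connectedComponent ((η[G]).left.base t) := hr₀
  have hopen : IsOpen (Set.range r₀.left) := by
    rw [hr₀']
    exact Groth.Agent.H5.Lim.isOpen_connectedComponent_of_finite
      TopologicalSpace.NoetherianSpace.finite_irreducibleComponents _
  haveI : ConnectedSpace G₀.left := by
    have hpre : _root_.IsPreconnected (Set.univ : Set G₀.left) := by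
      rw [← r₀.left.isEmbedding.isInducing.isPreconnected_image, Set.image_univ, hr₀']
      exact isPreconnected_connectedComponent
    exact { toPreconnectedSpace := ⟨hpre⟩, toNonempty := ⟨(η[G₀]).left t⟩ }
  refine ⟨fun X a o hX => Groth.Agent.H9.QuoFin.finite_quotient k G G₀ X r₀ hopen a o hX,
    fun H _ h _ _ X a o hX hfin => ?_⟩
  haveI := hfin
  exact Groth.Agent.H9.QuoFin.factor_of_finite k G G₀ H X r₀ h a o hX

end Groth.Agent.S14596
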