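import Groth.Statements.S1460
import Mathlib

set_option autoImplicit false
universe u
open FlatMor

namespace Groth.Agent.S1460

open AlgebraicGeometry CategoryTheory Limits TensorProduct

lemma exists_model {A B : Type u} [CommRing A] [CommRing B] [Algebra A B]
    [Algebra.FinitePresentation A B] :
    ∃ (A₀ B₀ : Type u) (_ : CommRing A₀) (_ : CommRing B₀) (α : A₀ →+* A) (γ : A₀ →+* B₀)
      (β : B₀ →+* B), Algebra.FiniteType ℤ A₀ ∧ γ.FiniteType ∧
      IsPushout (CommRingCat.ofHom α) (CommRingCat.ofHom γ)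
        (CommRingCat.ofHom (algebraMap A B)) (CommRingCat.ofHom β) := by
  let P := Algebra.Presentation.ofFinitePresentation A B
  let A₀ := P.Core
  let B₀ := P.ModelOfHasCoeffs A₀
  let e := P.tensorModelOfHasCoeffsEquiv A₀
  refine ⟨A₀, B₀, inferInstance, inferInstance, algebraMap A₀ A, algebraMap A₀ B₀,
    (e.toAlgHom.toRingHom).comp (Algebra.TensorProduct.includeRight : B₀ →ₐ[A₀] A ⊗[A₀] B₀).toRingHom,
    inferInstance, ?_, ?_⟩
  · have : Algebra.FinitePresentation A₀ B₀ := inferInstance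
    have : Algebra.FiniteType A₀ B₀ := inferInstance
    exact (RingHom.finiteType_algebraMap (A := A₀) (B := B₀)).mpr this
  · refine (CommRingCat.isPushout_tensorProduct A₀ A B₀).of_iso (Iso.refl _) (Iso.refl _)
      (Iso.refl _) e.toRingEquiv.toCommRingCatIso (by simp) (by simp) ?_ ?_
    · refine CommRingCat.hom_ext (RingHom.ext fun x => ?_)
      simp only [Iso.refl_hom, Category.id_comp]
      change e (x ⊗ₜ 1) = algebraMap A B x
      have h1 := Algebra.Presentation.tensorModelOfHasCoeffsEquiv_tmul (P := P) A₀ x 1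
      simp only [map_one, mul_one] at h1
      exact h1
    · refine CommRingCat.hom_ext (RingHom.ext fun x => ?_)
      rfl

open AlgebraicGeometry CategoryTheory Limits in
/-- Let f : X → S be a morphism of finite presentation between affine schemes. Then f is the base change
of a morphism of finite type f₀ : X₀ → S₀ between affine schemes with S₀ of finite type over ℤ. -/
theorem result {X S : Scheme.{u}} (f : X ⟶ S) [IsAffine X] [IsAffine S] [LocallyOfFinitePresentation f] :
    ∃ (X₀ S₀ : Scheme.{u}) (f₀ : X₀ ⟶ S₀) (g : S ⟶ S₀) (g' : X ⟶ X₀), IsAffine X₀ ∧ IsAffine S₀ ∧ IsPullback g' f f₀ g ∧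
      Algebra.FiniteType ℤ Γ(S₀, ⊤) ∧ LocallyOfFiniteType f₀ := by
  have hfp : RingHom.FinitePresentation f.appTop.hom :=
    (HasRingHomProperty.iff_of_isAffine (P := @LocallyOfFinitePresentation)).mp inferInstance
  algebraize [f.appTop.hom]
  obtain ⟨A₀, B₀, _, _, α, γ, β, hA₀, hγ, hpo⟩ := exists_model (A := Γ(S, ⊤)) (B := Γ(X, ⊤))
  have hpo' : IsPushout (CommRingCat.ofHom α) (CommRingCat.ofHom γ) f.appTop (CommRingCat.ofHom β) :=
    hpo
  have sq1 := (isPullback_SpecMap_of_isPushout _ _ _ _ hpo').flip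
  have sq2 : IsPullback X.isoSpec.hom f (Spec.map f.appTop) S.isoSpec.hom :=
    IsPullback.of_horiz_isIso ⟨Scheme.isoSpec_hom_naturality f⟩
  have sq3 := sq2.paste_horiz sq1
  refine ⟨Spec (CommRingCat.of B₀), Spec (CommRingCat.of A₀), Spec.map (CommRingCat.ofHom γ),
    S.isoSpec.hom ≫ Spec.map (CommRingCat.ofHom α), X.isoSpec.hom ≫ Spec.map (CommRingCat.ofHom β),
    inferInstance, inferInstance, sq3, ?_, ?_⟩
  · exact Algebra.FiniteType.equiv hA₀
      (Scheme.ΓSpecIso (CommRingCat.of A₀)).symm.commRingCatIsoToRingEquiv.toIntAlgEquiv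
  · exact (HasRingHomProperty.Spec_iff (P := @LocallyOfFiniteType)).mpr hγ

end Groth.Agent.S1460
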