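import Groth.Statements.S14608
import Mathlib

set_option autoImplicit false
universe u v
open CAlg

namespace Groth.Agent.S14608

open TensorProduct in
lemma cancel_nat {A : Type u} [CommRing A] (R : Type u) [CommRing R] [Algebra A R]
    (κ : Type u) [Field κ] [Algebra R κ] [Algebra A κ] [IsScalarTower A R κ]
    {X Y : Type v} [AddCommGroup X] [Module A X] [AddCommGroup Y] [Module A Y]
    (f : X →ₗ[A] Y) (z : κ ⊗[R] (R ⊗[A] X)) :
    (AlgebraTensorModule.cancelBaseChange A R κ κ Y) ((f.baseChange R).lTensor κ z) =
      f.lTensor κ (AlgebraTensorModule.cancelBaseChange A R κ κ X z) := by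
  induction z using TensorProduct.induction_on with
  | zero => simp
  | add a b ha hb => simp only [map_add, ha, hb]
  | tmul k w =>
    induction w using TensorProduct.induction_on with
    | zero => simp
    | add a b ha hb =>
      simp only [tmul_add, map_add, ha, hb]
    | tmul a x =>
      simp

open TensorProduct in
lemma inj_iff {A : Type u} [CommRing A] (R : Type u) [CommRing R] [Algebra A R]
    (κ : Type u) [Field κ] [Algebra R κ] [Algebra A κ] [IsScalarTower A R κ]
    {X Y : Type v} [AddCommGroup X] [Module A X] [AddCommGroup Y] [Module A Y]
    (f : X →ₗ[A] Y) :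
    Function.Injective ((f.baseChange R).lTensor κ) ↔ Function.Injective (f.lTensor κ) := by
  constructor
  · intro h a b hab
    apply (AlgebraTensorModule.cancelBaseChange A R κ κ X).symm.injective
    apply h
    apply (AlgebraTensorModule.cancelBaseChange A R κ κ Y).injective
    rw [cancel_nat, cancel_nat]
    simpa using hab
  · intro h a b hab
    apply (AlgebraTensorModule.cancelBaseChange A R κ κ X).injective
    apply h
    rw [← cancel_nat, ← cancel_nat, hab]

open TensorProduct in
/-- Claim A -/
lemma claimA {A : Type u} [CommRing A] (κ : Type u) [Field κ] [Algebra A κ]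
    {M F : Type v} [AddCommGroup M] [Module A M] [AddCommGroup F] [Module A F]
    (δ : M →ₗ[A] F) :
    Function.Exact (LinearMap.lTensor κ (LinearMap.ker δ).subtype) (LinearMap.lTensor κ δ) ↔
      Function.Injective (LinearMap.lTensor κ (LinearMap.range δ).subtype) := by
  have hex : Function.Exact (LinearMap.ker δ).subtype δ.rangeRestrict := by
    rw [LinearMap.exact_iff, LinearMap.ker_rangeRestrict, Submodule.range_subtype]
  have hex2 := lTensor_exact κ hex δ.surjective_rangeRestrict
  have hsurj : Function.Surjective (LinearMap.lTensor κ δ.rangeRestrict) :=
    LinearMap.lTensor_surjective κ δ.surjective_rangeRestrict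
  have hcomp : LinearMap.lTensor κ δ =
      LinearMap.lTensor κ (LinearMap.range δ).subtype ∘ₗ LinearMap.lTensor κ δ.rangeRestrict := by
    rw [← LinearMap.lTensor_comp]
    congr 1
  constructor
  · intro hE
    rw [injective_iff_map_eq_zero]
    intro w hw
    obtain ⟨z, rfl⟩ := hsurj w
    have h1 : LinearMap.lTensor κ δ z = 0 := by
      rw [hcomp, LinearMap.comp_apply, hw]
    exact (hex2 z).2 ((hE z).1 h1)
  · intro hinj z
    rw [hcomp, LinearMap.comp_apply, ← hex2 z]
    constructor
    · intro hz
      apply hinj
      rw [hz, map_zero]
    · intro hz
      rw [hz, map_zero]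

open TensorProduct in
/-- Claim B, forward direction. -/
lemma claimB_fwd (A : Type u) [CommRing A] [IsNoetherianRing A]
    (F : Type v) [AddCommGroup F] [Module A F] [Module.Finite A F] [Module.Free A F]
    (I : Submodule A F) (p : Ideal A) [p.IsPrime]
    (h : Function.Injective (LinearMap.lTensor p.ResidueField I.subtype)) :
    Module.Free (Localization.AtPrime p) (Localization.AtPrime p ⊗[A] (F ⧸ I)) := by
  have : IsNoetherian A F := isNoetherian_of_isNoetherianRing_of_finite A F
  have hfinI : Module.Finite A I := Module.IsNoetherian.finite A I
  refine Module.free_of_lTensor_residueField_injective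
    (I.subtype.baseChange (Localization.AtPrime p))
    (I.mkQ.baseChange (Localization.AtPrime p)) ?_ ?_ ?_
  · rw [LinearMap.baseChange_eq_ltensor]
    exact LinearMap.lTensor_surjective _ I.mkQ_surjective
  · have := lTensor_exact (Localization.AtPrime p) (LinearMap.exact_subtype_mkQ I)
      I.mkQ_surjective
    rw [LinearMap.baseChange_eq_ltensor, LinearMap.baseChange_eq_ltensor]
    exact this
  · exact (inj_iff (Localization.AtPrime p) p.ResidueField I.subtype).2 h

open TensorProduct in
/-- If the localized quotient is free, the localized inclusion splits. -/
lemma split_of_free (A : Type u) [CommRing A] [IsNoetherianRing A]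
    (F : Type v) [AddCommGroup F] [Module A F] [Module.Finite A F] [Module.Free A F]
    (I : Submodule A F) (p : Ideal A) [p.IsPrime]
    (h : Module.Free (Localization.AtPrime p) (Localization.AtPrime p ⊗[A] (F ⧸ I))) :
    ∃ r : (Localization.AtPrime p ⊗[A] F) →ₗ[Localization.AtPrime p]
        (Localization.AtPrime p ⊗[A] I),
      r ∘ₗ I.subtype.baseChange (Localization.AtPrime p) = LinearMap.id := by
  have hinj : Function.Injective (I.subtype.baseChange (Localization.AtPrime p)) := by
    rw [LinearMap.baseChange_eq_ltensor]
    exact Module.Flat.lTensor_preserves_injective_linearMap _ Subtype.val_injective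
  have hsurj : Function.Surjective (I.mkQ.baseChange (Localization.AtPrime p)) := by
    rw [LinearMap.baseChange_eq_ltensor]
    exact LinearMap.lTensor_surjective _ I.mkQ_surjective
  have hex : Function.Exact (I.subtype.baseChange (Localization.AtPrime p))
      (I.mkQ.baseChange (Localization.AtPrime p)) := by
    have := lTensor_exact (Localization.AtPrime p) (LinearMap.exact_subtype_mkQ I)
      I.mkQ_surjective
    rw [LinearMap.baseChange_eq_ltensor, LinearMap.baseChange_eq_ltensor]
    exact this
  have := (Function.Exact.split_tfae hex hinj hsurj).out 0 1
  exact this.mp (Module.projective_lifting_property _ _ hsurj)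

open TensorProduct in
/-- Let A be a Noetherian ring, M a finitely generated A-module, F a finitely generated free A-module, δ
: M → F an A-linear map and p a prime of A with residue field κ(p). The following are equivalent:
(a) the natural map (ker δ) ⊗ κ(p) → ker(δ ⊗ κ(p)) is surjective (its image is the whole kernel);
(b) that map is bijective; (c) (F / im δ) localized at p is a free module over the local ring A_p.
Moreover, if these hold then (im δ) localized at p is free over A_p. (The published statement takes
M to be the cokernel of a map of finitely generated free modules; over a Noetherian ring this is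
every finitely generated M, which is what this row takes.) -/
theorem result (A : Type u) [CommRing A] [IsNoetherianRing A]
    (M : Type v) (F : Type v) [AddCommGroup M] [Module A M] [Module.Finite A M]
    [AddCommGroup F] [Module A F] [Module.Finite A F] [Module.Free A F]
    (δ : M →ₗ[A] F) (p : Ideal A) [p.IsPrime] :
    [ Function.Exact (LinearMap.lTensor p.ResidueField (LinearMap.ker δ).subtype)
        (LinearMap.lTensor p.ResidueField δ),
      Function.Exact (LinearMap.lTensor p.ResidueField (LinearMap.ker δ).subtype)
        (LinearMap.lTensor p.ResidueField δ) ∧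
        Function.Injective (LinearMap.lTensor p.ResidueField (LinearMap.ker δ).subtype),
      Module.Free (Localization.AtPrime p)
        (LocalizedModule p.primeCompl (F ⧸ LinearMap.range δ)) ].TFAE ∧
    (Function.Exact (LinearMap.lTensor p.ResidueField (LinearMap.ker δ).subtype)
        (LinearMap.lTensor p.ResidueField δ) →
      Module.Free (Localization.AtPrime p)
        (LocalizedModule p.primeCompl (LinearMap.range δ))) := by
  have hNF : IsNoetherian A F := isNoetherian_of_isNoetherianRing_of_finite A F
  have hfinI : Module.Finite A (LinearMap.range δ) := Module.IsNoetherian.finite A _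
  have eC := LocalizedModule.equivTensorProduct p.primeCompl (F ⧸ LinearMap.range δ)
  have eI := LocalizedModule.equivTensorProduct p.primeCompl (LinearMap.range δ)
  have h13 : Function.Exact (LinearMap.lTensor p.ResidueField (LinearMap.ker δ).subtype)
        (LinearMap.lTensor p.ResidueField δ) → Module.Free (Localization.AtPrime p)
        (LocalizedModule p.primeCompl (F ⧸ LinearMap.range δ)) := by
    intro hE
    have := claimB_fwd A F (LinearMap.range δ) p ((claimA p.ResidueField δ).1 hE)
    exact Module.Free.of_equiv eC.symm
  have hsplit : Module.Free (Localization.AtPrime p)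
        (LocalizedModule p.primeCompl (F ⧸ LinearMap.range δ)) →
      ∃ r : (Localization.AtPrime p ⊗[A] F) →ₗ[Localization.AtPrime p]
        (Localization.AtPrime p ⊗[A] (LinearMap.range δ)),
      r ∘ₗ (LinearMap.range δ).subtype.baseChange (Localization.AtPrime p) = LinearMap.id := by
    intro h
    exact split_of_free A F (LinearMap.range δ) p (Module.Free.of_equiv eC)
  have h31 : Module.Free (Localization.AtPrime p)
        (LocalizedModule p.primeCompl (F ⧸ LinearMap.range δ)) →
      Function.Exact (LinearMap.lTensor p.ResidueField (LinearMap.ker δ).subtype)
        (LinearMap.lTensor p.ResidueField δ) := by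
    intro h
    obtain ⟨r, hr⟩ := hsplit h
    refine (claimA p.ResidueField δ).2 ?_
    refine (inj_iff (Localization.AtPrime p) p.ResidueField (LinearMap.range δ).subtype).1 ?_
    have : LinearMap.lTensor p.ResidueField r ∘ₗ LinearMap.lTensor p.ResidueField
        ((LinearMap.range δ).subtype.baseChange (Localization.AtPrime p)) = LinearMap.id := by
      rw [← LinearMap.lTensor_comp, hr, LinearMap.lTensor_id]
    exact Function.HasLeftInverse.injective ⟨_, LinearMap.congr_fun this⟩
  have hIproj : Module.Free (Localization.AtPrime p)
        (LocalizedModule p.primeCompl (F ⧸ LinearMap.range δ)) →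
      Module.Projective (Localization.AtPrime p)
        (Localization.AtPrime p ⊗[A] (LinearMap.range δ)) := by
    intro h
    obtain ⟨r, hr⟩ := hsplit h
    exact Module.Projective.of_split _ _ hr
  have h3inj : Module.Free (Localization.AtPrime p)
        (LocalizedModule p.primeCompl (F ⧸ LinearMap.range δ)) →
      Function.Injective (LinearMap.lTensor p.ResidueField (LinearMap.ker δ).subtype) := by
    intro h
    have hP := hIproj h
    have hex : Function.Exact (LinearMap.ker δ).subtype δ.rangeRestrict := by
      rw [LinearMap.exact_iff, LinearMap.ker_rangeRestrict, Submodule.range_subtype]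
    have hinj : Function.Injective
        ((LinearMap.ker δ).subtype.baseChange (Localization.AtPrime p)) := by
      rw [LinearMap.baseChange_eq_ltensor]
      exact Module.Flat.lTensor_preserves_injective_linearMap _ Subtype.val_injective
    have hsurj : Function.Surjective (δ.rangeRestrict.baseChange (Localization.AtPrime p)) := by
      rw [LinearMap.baseChange_eq_ltensor]
      exact LinearMap.lTensor_surjective _ δ.surjective_rangeRestrict
    have hex' : Function.Exact ((LinearMap.ker δ).subtype.baseChange (Localization.AtPrime p))
        (δ.rangeRestrict.baseChange (Localization.AtPrime p)) := by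
      have := lTensor_exact (Localization.AtPrime p) hex δ.surjective_rangeRestrict
      rw [LinearMap.baseChange_eq_ltensor, LinearMap.baseChange_eq_ltensor]
      exact this
    obtain ⟨r2, hr2⟩ := ((Function.Exact.split_tfae hex' hinj hsurj).out 0 1).mp
      (Module.projective_lifting_property _ _ hsurj)
    refine (inj_iff (Localization.AtPrime p) p.ResidueField (LinearMap.ker δ).subtype).1 ?_
    have : LinearMap.lTensor p.ResidueField r2 ∘ₗ LinearMap.lTensor p.ResidueField
        ((LinearMap.ker δ).subtype.baseChange (Localization.AtPrime p)) = LinearMap.id := by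
      rw [← LinearMap.lTensor_comp, hr2, LinearMap.lTensor_id]
    exact Function.HasLeftInverse.injective ⟨_, LinearMap.congr_fun this⟩
  refine ⟨?_, ?_⟩
  · tfae_have 1 → 3 := h13
    tfae_have 3 → 2 := fun h => ⟨h31 h, h3inj h⟩
    tfae_have 2 → 1 := And.left
    tfae_finish
  · intro hE
    have hP := hIproj (h13 hE)
    have : Module.Free (Localization.AtPrime p)
        (Localization.AtPrime p ⊗[A] (LinearMap.range δ)) :=
      Module.free_of_flat_of_isLocalRing
    exact Module.Free.of_equiv eI.symm

end Groth.Agent.S14608
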