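import Groth.Statements.S14610
import Mathlib
import Groth.Agent.Lib.Helper1.RedFlatUV

set_option autoImplicit false
universe u v
open CAlg

namespace Groth.Agent.S14610

open TensorProduct Groth.Agent.H1.FibDimUV in
lemma aux (A : Type u) [CommRing A]
    [IsNoetherianRing A] [IsReduced A] (M : Type v) (F : Type v) [AddCommGroup M] [Module A M]
    [Module.Finite A M] [AddCommGroup F] [Module A F] [Module.Finite A F] [Module.Free A F]
    (δ : M →ₗ[A] F)
    (h : IsLocallyConstant (fibKer δ)) :
    Module.Projective A M ∧ Module.Projective A (LinearMap.ker δ) ∧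
      Module.Projective A (F ⧸ LinearMap.range δ) ∧
      ∀ (N : Type v) [AddCommGroup N] [Module A N],
        Function.Injective (LinearMap.rTensor N (LinearMap.ker δ).subtype) ∧
        Function.Exact (LinearMap.rTensor N (LinearMap.ker δ).subtype) (LinearMap.rTensor N δ) := by
  -- Step 1-3
  have hker : ∀ x y : PrimeSpectrum A, y ⤳ x → fibKer δ y = fibKer δ x := by
    intro x y hxy
    have ho : IsOpen {z | fibKer δ z = fibKer δ x} := h.isOpen_fiber _
    exact hxy.mem_open ho rfl
  have hdimle : ∀ x y : PrimeSpectrum A, y ⤳ x → fibDim M y ≤ fibDim M x := by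
    intro x y hxy
    exact ((fibDim_le_eventually M x).filter_mono hxy).self_of_nhds
  have hrkle : ∀ x y : PrimeSpectrum A, y ⤳ x → fibRank δ x ≤ fibRank δ y := by
    intro x y hxy
    exact ((fibRank_ge_eventually δ x).filter_mono hxy).self_of_nhds
  have hdim : ∀ x y : PrimeSpectrum A, y ⤳ x → fibDim M y = fibDim M x := by
    intro x y hxy
    have e1 := fibRank_add_fibKer δ x
    have e2 := fibRank_add_fibKer δ y
    have := hker x y hxy
    have := hdimle x y hxy
    have := hrkle x y hxy
    omega
  have hrk : ∀ x y : PrimeSpectrum A, y ⤳ x → fibRank δ y = fibRank δ x := by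
    intro x y hxy
    have e1 := fibRank_add_fibKer δ x
    have e2 := fibRank_add_fibKer δ y
    have := hker x y hxy
    have := hdimle x y hxy
    have := hrkle x y hxy
    omega
  have hF : ∀ x : PrimeSpectrum A, fibDim F x = Module.finrank A F := by
    intro x
    have : Nontrivial A := (algebraMap A x.asIdeal.ResidueField).domain_nontrivial
    unfold fibDim
    rw [Module.finrank_baseChange]
  have hC : ∀ x y : PrimeSpectrum A, y ⤳ x →
      fibDim (F ⧸ LinearMap.range δ) y = fibDim (F ⧸ LinearMap.range δ) x := by
    intro x y hxy
    have e1 := fibRank_add_fibDim δ x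
    have e2 := fibRank_add_fibDim δ y
    rw [hF] at e1 e2
    have := hrk x y hxy
    omega
  -- Step 4
  have hMflat : Module.Flat A M := flat_of_fibDim_eq_of_specializes M hdim
  have hMfp : Module.FinitePresentation A M := Module.finitePresentation_of_finite A M
  have hMproj : Module.Projective A M := Module.Flat.projective_of_finitePresentation
  -- Step 5
  have hCflat : Module.Flat A (F ⧸ LinearMap.range δ) := flat_of_fibDim_eq_of_specializes _ hC
  have hCfp : Module.FinitePresentation A (F ⧸ LinearMap.range δ) :=
    Module.finitePresentation_of_finite A _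
  have hCproj : Module.Projective A (F ⧸ LinearMap.range δ) :=
    Module.Flat.projective_of_finitePresentation
  -- Step 6
  obtain ⟨r1, hr1⟩ : ∃ l', l' ∘ₗ (LinearMap.range δ).subtype = LinearMap.id := by
    have := (Function.Exact.split_tfae (LinearMap.exact_subtype_mkQ (LinearMap.range δ))
      Subtype.val_injective (Submodule.mkQ_surjective _)).out 0 1
    exact this.mp (Module.projective_lifting_property _ _ (Submodule.mkQ_surjective _))
  have hIproj : Module.Projective A (LinearMap.range δ) := Module.Projective.of_split _ _ hr1
  -- Step 7
  have hex : Function.Exact (LinearMap.ker δ).subtype δ.rangeRestrict := by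
    rw [LinearMap.exact_iff, LinearMap.ker_rangeRestrict, Submodule.range_subtype]
  obtain ⟨r2, hr2⟩ : ∃ l', l' ∘ₗ (LinearMap.ker δ).subtype = LinearMap.id := by
    have := (Function.Exact.split_tfae hex
      Subtype.val_injective δ.surjective_rangeRestrict).out 0 1
    exact this.mp (Module.projective_lifting_property _ _ δ.surjective_rangeRestrict)
  have hKproj : Module.Projective A (LinearMap.ker δ) := Module.Projective.of_split _ _ hr2
  refine ⟨hMproj, hKproj, hCproj, ?_⟩
  intro N _ _
  have hinj1 : Function.Injective (LinearMap.rTensor N (LinearMap.ker δ).subtype) := by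
    have : LinearMap.rTensor N r2 ∘ₗ LinearMap.rTensor N (LinearMap.ker δ).subtype =
        LinearMap.id := by
      rw [← LinearMap.rTensor_comp, hr2, LinearMap.rTensor_id]
    exact Function.HasLeftInverse.injective ⟨_, LinearMap.congr_fun this⟩
  have hinj2 : Function.Injective (LinearMap.rTensor N (LinearMap.range δ).subtype) := by
    have : LinearMap.rTensor N r1 ∘ₗ LinearMap.rTensor N (LinearMap.range δ).subtype =
        LinearMap.id := by
      rw [← LinearMap.rTensor_comp, hr1, LinearMap.rTensor_id]
    exact Function.HasLeftInverse.injective ⟨_, LinearMap.congr_fun this⟩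
  refine ⟨hinj1, ?_⟩
  have hex2 := rTensor_exact N hex δ.surjective_rangeRestrict
  have hcomp : LinearMap.rTensor N δ =
      LinearMap.rTensor N (LinearMap.range δ).subtype ∘ₗ LinearMap.rTensor N δ.rangeRestrict := by
    rw [← LinearMap.rTensor_comp]
    congr 1
  intro z
  rw [hcomp, LinearMap.comp_apply, ← hex2 z]
  constructor
  · intro hz
    apply hinj2
    rw [hz, map_zero]
  · intro hz
    rw [hz, map_zero]

open TensorProduct in
/-- Let A be a reduced Noetherian ring, M a finitely generated A-module, F a finitely generated free
A-module and δ : M → F an A-linear map such that the function p ↦ dim_{κ(p)} ker(δ ⊗ κ(p)) is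
locally constant on Spec A. Then M, ker δ and coker δ = F / im δ are projective A-modules, and for
every A-module N the natural map (ker δ) ⊗ N → M ⊗ N is injective with image equal to the kernel of
δ ⊗ N. -/
theorem result (A : Type u) [CommRing A]
    [IsNoetherianRing A] [IsReduced A] (M : Type v) (F : Type v) [AddCommGroup M] [Module A M]
    [Module.Finite A M] [AddCommGroup F] [Module A F] [Module.Finite A F] [Module.Free A F]
    (δ : M →ₗ[A] F)
    (h : IsLocallyConstant (fun x : PrimeSpectrum A =>
      Module.finrank x.asIdeal.ResidueField
        (LinearMap.ker (δ.baseChange x.asIdeal.ResidueField)))) :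
    Module.Projective A M ∧ Module.Projective A (LinearMap.ker δ) ∧
      Module.Projective A (F ⧸ LinearMap.range δ) ∧
      ∀ (N : Type v) [AddCommGroup N] [Module A N],
        Function.Injective (LinearMap.rTensor N (LinearMap.ker δ).subtype) ∧
        Function.Exact (LinearMap.rTensor N (LinearMap.ker δ).subtype) (LinearMap.rTensor N δ) := by
  exact aux A M F δ h

end Groth.Agent.S14610
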