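import Groth.Statements.S14614
import Groth.Agent.Lib.Helper6.OI1

set_option autoImplicit false
universe u
open Mor

namespace Groth.Agent.S14614

open CategoryTheory AlgebraicGeometry in
/-- Let S be a locally Noetherian scheme and i : Z → S a closed immersion with the following property:
for every Artinian local ring A with residue field k and every morphism g : Spec A → S, if the
restriction Spec k → Spec A → S of g factors through i then so does g. Then i is also an open
immersion, i.e. the closed subscheme Z is open in S as a subscheme. (The published hypothesis is an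
equivalence; its other direction always holds, so this row assumes only the implication.) -/
theorem result (S : Scheme.{u}) [IsLocallyNoetherian S]
    {Z : Scheme.{u}} (i : Z ⟶ S) [IsClosedImmersion i]
    (h : ∀ (A : Type u) [CommRing A] [IsArtinianRing A] [IsLocalRing A] (g : Spec (CommRingCat.of A) ⟶ S),
      (∃ t : Spec (CommRingCat.of (IsLocalRing.ResidueField A)) ⟶ Z,
          t ≫ i = Spec.map (CommRingCat.ofHom (IsLocalRing.residue A)) ≫ g) →
        ∃ g' : Spec (CommRingCat.of A) ⟶ Z, g' ≫ i = g) :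
    IsOpenImmersion i := by
  apply IsZariskiLocalAtTarget.of_iSup_eq_top (P := @IsOpenImmersion)
    (fun U : S.affineOpens => (U : S.Opens)) (iSup_affineOpens_eq_top S)
  intro U
  have hUaff : IsAffine (U : S.Opens).toScheme := U.2
  have hcl : IsClosedImmersion (i ∣_ (U : S.Opens)) :=
    MorphismProperty.of_isPullback (isPullback_morphismRestrict i U).flip inferInstance
  obtain ⟨hVaff, hsurj⟩ := IsClosedImmersion.isAffine_surjective_of_isAffine (i ∣_ (U : S.Opens))
  rw [(MorphismProperty.arrow_mk_iso_iff @IsOpenImmersion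
    (arrowIsoSpecΓOfIsAffine (i ∣_ (U : S.Opens))))]
  rw [isOpenImmersion_SpecMap_iff_of_surjective _ hsurj]
  have hN : IsNoetherianRing Γ((U : S.Opens).toScheme, ⊤) :=
    IsLocallyNoetherian.component_noetherian (X := (U : S.Opens).toScheme) ⟨⊤, isAffineOpen_top _⟩
  apply Groth.Agent.H6.OI.ring_core
  intro A _ _ _ γ hγ
  let V : Z.Opens := i ⁻¹ᵁ (U : S.Opens)
  let φ := (i ∣_ (U : S.Opens)).appTop
  let τ : Γ(V.toScheme, ⊤) →+* IsLocalRing.ResidueField A :=
    RingHom.liftOfSurjective φ.hom hsurj ⟨(IsLocalRing.residue A).comp γ, hγ⟩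
  have hτ : τ.comp φ.hom = (IsLocalRing.residue A).comp γ :=
    RingHom.liftOfSurjective_comp _ hsurj _
  let g : Spec (CommRingCat.of A) ⟶ S :=
    Spec.map (CommRingCat.ofHom γ) ≫ (U : S.Opens).toScheme.isoSpec.inv ≫ (U : S.Opens).ι
  let t : Spec (CommRingCat.of (IsLocalRing.ResidueField A)) ⟶ Z :=
    Spec.map (CommRingCat.ofHom τ) ≫ V.toScheme.isoSpec.inv ≫ V.ι
  have ht : t ≫ i = Spec.map (CommRingCat.ofHom (IsLocalRing.residue A)) ≫ g := by
    simp only [t, g, Category.assoc]
    rw [← morphismRestrict_ι, ← Scheme.isoSpec_inv_naturality_assoc, ← Spec.map_comp_assoc,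
      ← Spec.map_comp_assoc]
    congr 2
    ext x
    exact congr($hτ x)
  obtain ⟨g', hg'⟩ := h A g ⟨t, ht⟩
  have hrange : Set.range g' ⊆ Set.range V.ι := by
    rintro _ ⟨a, rfl⟩
    rw [Scheme.Opens.range_ι]
    change i (g' a) ∈ (U : S.Opens)
    rw [← Scheme.Hom.comp_apply, hg']
    simp only [g, Scheme.Hom.comp_apply]
    exact ((U : S.Opens).toScheme.isoSpec.inv _).2
  let l := IsOpenImmersion.lift V.ι g' hrange
  have hl : l ≫ V.ι = g' := IsOpenImmersion.lift_fac _ _ _
  have h1 : l ≫ (i ∣_ (U : S.Opens)) =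
      Spec.map (CommRingCat.ofHom γ) ≫ (U : S.Opens).toScheme.isoSpec.inv := by
    rw [← cancel_mono (U : S.Opens).ι, Category.assoc, morphismRestrict_ι, reassoc_of% hl, hg']
    simp only [g, Category.assoc]
  let ψ := Spec.preimage (l ≫ V.toScheme.isoSpec.hom)
  have hψ : Spec.map ψ = l ≫ V.toScheme.isoSpec.hom := Spec.map_preimage _
  have h2 : φ ≫ ψ = CommRingCat.ofHom γ := by
    apply Spec.map_injective
    rw [Spec.map_comp, hψ, Category.assoc, Scheme.isoSpec_hom_naturality, reassoc_of% h1]
    simp
  intro b hb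
  rw [RingHom.mem_ker] at hb ⊢
  have h3 : ψ.hom (φ.hom b) = γ b := congr($h2 b)
  rw [← h3, hb, map_zero]

end Groth.Agent.S14614
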