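import Groth.Statements.S14615
import Mathlib.Tactic
-- import your own Groth.Agent.* helpers here

set_option autoImplicit false
universe u
open Formal2

namespace Groth.Agent.S14615

/-- Let … → G_2 → G_1 → G_0 be an inverse system of abelian groups with transition maps t_n : G_{n+1} →
G_n, and suppose that for every i there is j ≥ i such that the composite transition map G_j → G_i is
zero; this is expressed by asking that every sequence (x_n) ∈ ∏ G_n satisfying x_n = t_n(x_{n+1})
for i ≤ n < j has x_i = 0. Then both lim G_n and lim¹ G_n vanish: the map (x_n) ↦ (x_n −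
t_n(x_{n+1})) on ∏ G_n, whose kernel is lim and whose cokernel is lim¹, is injective and surjective. -/
theorem result (G : ℕ → Type u)
    [∀ n, AddCommGroup (G n)] (t : ∀ n, G (n + 1) →+ G n)
    (h : ∀ i : ℕ, ∃ j : ℕ, i ≤ j ∧
      ∀ x : ∀ n, G n, (∀ n, i ≤ n → n < j → x n = t n (x (n + 1))) → x i = 0) :
    Formal2.limZero G t = ⊥ ∧ Function.Surjective (Formal2.towerDiff G t) := by
  classical
  constructor
  · rw [eq_bot_iff]
    intro x hx
    have hx' : Formal2.towerDiff G t x = 0 := hx
    have hcomp : ∀ n, x n = t n (x (n + 1)) := by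
      intro n
      have := congrFun hx' n
      exact sub_eq_zero.1 this
    rw [AddSubgroup.mem_bot]
    funext i
    obtain ⟨j, _, hj⟩ := h i
    exact hj x (fun n _ _ => hcomp n)
  · intro y
    choose j hj1 hj2 using h
    -- truncated solutions
    let F : ℕ → ∀ n, G n := fun d => Nat.rec (fun _ => 0) (fun _ Fd n => y n + t n (Fd (n + 1))) d
    have hF0 : ∀ n, F 0 n = 0 := fun n => rfl
    have hFs : ∀ d n, F (d + 1) n = y n + t n (F d (n + 1)) := fun d n => rfl
    have hstab : ∀ n d d', j n - n ≤ d → j n - n ≤ d' → F d n = F d' n := by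
      intro n d d' hd hd'
      have hz := hj2 n (fun m => F (d + n - m) m - F (d' + n - m) m) (by
        intro m hnm hmj
        have e1 : d + n - m = (d + n - (m + 1)) + 1 := by omega
        have e2 : d' + n - m = (d' + n - (m + 1)) + 1 := by omega
        show F (d + n - m) m - F (d' + n - m) m =
          t m (F (d + n - (m + 1)) (m + 1) - F (d' + n - (m + 1)) (m + 1))
        rw [e1, e2, hFs, hFs, map_sub]
        abel)
      simp only [Nat.add_sub_cancel] at hz
      exact sub_eq_zero.1 hz
    refine ⟨fun n => F (j n - n) n, ?_⟩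
    funext n
    show F (j n - n) n - t n (F (j (n + 1) - (n + 1)) (n + 1)) = y n
    have h1 : F (j n - n) n = F (max (j n - n) (j (n + 1) - (n + 1)) + 1) n :=
      hstab n (j n - n) (max (j n - n) (j (n + 1) - (n + 1)) + 1) le_rfl (by omega)
    have h2 : F (j (n + 1) - (n + 1)) (n + 1) = F (max (j n - n) (j (n + 1) - (n + 1))) (n + 1) :=
      hstab (n + 1) (j (n + 1) - (n + 1)) (max (j n - n) (j (n + 1) - (n + 1))) le_rfl (by omega)
    rw [h1, h2, hFs]
    abel

end Groth.Agent.S14615
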