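import Groth.Statements.S14619
import Groth.Agent.Lib.Helper2.TruncG4
import Groth.Agent.Lib.Helper2.MumS
import Groth.Agent.Lib.Helper2.RpB6

set_option autoImplicit false
universe u
open Coherent

namespace Groth.Agent.S14619

open CategoryTheory CategoryTheory.Limits AlgebraicGeometry in
/-- Let A be a Noetherian ring, X a proper scheme over Spec A and F a coherent O_X-module flat over Spec
A. Suppose H^p(X, F) = 0 for all p > d and H^p(X_y, F|X_y) = 0 for every point y of Spec A and every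
p < d'. Then there is a cochain complex L of finitely generated projective A-modules, with L^i = 0
unless d' ≤ i ≤ d and with L = 0 when all H^p(X, F) vanish, such that for every A-algebra B and
every p the cohomology H^p(X ×_A Spec B, ξ^*F) of the pulled-back module is isomorphic to H^p(L ⊗_A
B). Only the existence of these isomorphisms of abelian groups is asserted (no naturality in B). -/
theorem result (A : Type u) [CommRing A] [IsNoetherianRing A] (X : Scheme.{u}) [X.Over (Spec (CommRingCat.of A))]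
    [IsProper (X ↘ Spec (CommRingCat.of A))] (F : X.Modules) (hF : Coh.IsCoh F)
    (hfl : FlatMod.IsFlatOver (X ↘ Spec (CommRingCat.of A)) F) (d' d : ℕ)
    (hd : ∀ p : ℕ, d < p → Subsingleton (Coh.HH X F p))
    (hd' : ∀ (y : ↑(Spec (CommRingCat.of A))) (p : ℕ), p < d' →
      Subsingleton (CohIII.fiberH (X ↘ Spec (CommRingCat.of A)) F y p)) :
    ∃ L : CochainComplex (ModuleCat.{u} A) ℤ,
      (∀ i, Module.Finite A (L.X i) ∧ Module.Projective A (L.X i)) ∧
      (∀ i : ℤ, i < (d' : ℤ) ∨ (d : ℤ) < i → IsZero (L.X i)) ∧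
      ((∀ p : ℕ, Subsingleton (Coh.HH X F p)) → ∀ i, IsZero (L.X i)) ∧
      ∀ (B : Type u) [CommRing B] [Algebra A B] (p : ℕ),
        Nonempty (Coh.HH (pullback (X ↘ Spec (CommRingCat.of A)) (Spec.map (CommRingCat.ofHom (algebraMap A B))))
            ((Scheme.Modules.pullback (pullback.fst (X ↘ Spec (CommRingCat.of A))
              (Spec.map (CommRingCat.ofHom (algebraMap A B))))).obj F) p ≃+
          CohIII.T L (p : ℤ) (ModuleCat.of A B)) := by
  haveI : F.IsQuasicoherent := hF.1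
  obtain ⟨ι, hfin, U, haff, hU, L₀, v, hL₀, ⟨n, hn⟩, hv, hq⟩ :=
    Groth.Agent.H2.Mum.exists_resolution' A X F hF hfl
  haveI := hfin
  haveI := hv
  have hK : ∀ i, Module.Finite A (L₀.X i) ∧ Module.Projective A (L₀.X i) := fun i =>
    ⟨(hL₀ i).1, by haveI := (hL₀ i).2; infer_instance⟩
  -- negative degrees
  have hneg : ∀ p : ℤ, p < 0 → ∀ x, CohIII.dRank (Groth.Agent.H2.Mum.flip L₀) (-p) x = 0 :=
    fun p hp x => Groth.Agent.H2.RpC.dRank_eq_zero_of_isZero_TFun (Groth.Agent.H2.Mum.flip L₀) (-p) x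
      (IsZero.of_iso (Groth.Agent.H2.Mum.isZero_TFun_neg A F U L₀ v hq _ p hp)
        ((Groth.Agent.H2.Mum.flipTFunIso L₀ p).app _))
  -- homology of `L₀`
  have hH : ∀ m : ℕ, Subsingleton (Coh.HH X F m) → IsZero (L₀.homology (m : ℤ)) := fun m hm => by
    haveI : Subsingleton ((Groth.Agent.H2.Mum.flip L₀).homology (-(m : ℤ)) : ModuleCat.{u} A) :=
      (Groth.Agent.H2.Mum.flipHomologyEquiv A F U L₀ v haff hU m).toEquiv.subsingleton
    exact IsZero.of_iso (ModuleCat.isZero_of_subsingleton _)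
      (Groth.Agent.H2.Mum.flipHomologyIso A L₀ (m : ℤ)).symm
  -- base change
  have hbc : ∀ (B : Type u) [CommRing B] [Algebra A B] (p : ℕ),
      Nonempty (Coh.HH (pullback (X ↘ Spec (CommRingCat.of A))
          (Spec.map (CommRingCat.ofHom (algebraMap A B))))
        ((Scheme.Modules.pullback (pullback.fst (X ↘ Spec (CommRingCat.of A))
          (Spec.map (CommRingCat.ofHom (algebraMap A B))))).obj F) p ≃+
        CohIII.T L₀ (p : ℤ) (ModuleCat.of A B)) := by
    intro B _ _ p
    letI : (pullback (X ↘ Spec (CommRingCat.of A))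
        (Spec.map (CommRingCat.ofHom (algebraMap A B)))).Over (Spec (CommRingCat.of B)) :=
      ⟨pullback.snd _ _⟩
    have sq : IsPullback (pullback.fst (X ↘ Spec (CommRingCat.of A))
        (Spec.map (CommRingCat.ofHom (algebraMap A B))))
        ((pullback (X ↘ Spec (CommRingCat.of A))
          (Spec.map (CommRingCat.ofHom (algebraMap A B)))) ↘ Spec (CommRingCat.of B))
        (X ↘ Spec (CommRingCat.of A)) (Spec.map (CommRingCat.ofHom (algebraMap A B))) :=
      IsPullback.of_hasPullback _ _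
    have e1 := (Groth.Agent.H2.Mum.bcH A B (pullback.fst (X ↘ Spec (CommRingCat.of A))
        (Spec.map (CommRingCat.ofHom (algebraMap A B)))) F U sq haff hU L₀ v hq p).symm.toAddEquiv
    have e2 := (Groth.Agent.H2.Mum.bcFlipHomologyIso (algebraMap A B) L₀
      (p : ℤ)).toLinearEquiv.symm.toAddEquiv
    have e3 : ((CohIII.bcCx (algebraMap A B) (Groth.Agent.H2.Mum.flip L₀)).homology (-(p : ℤ)) :
          ModuleCat.{u} B) ≃+
        ((CohIII.TFun (Groth.Agent.H2.Mum.flip L₀) (-(p : ℤ))).obj (ModuleCat.of A B) :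
          ModuleCat.{u} A) :=
      (Groth.Agent.H8.TFun.TObjIsoRestrict (B := B) (Groth.Agent.H2.Mum.flip L₀)
        (-(p : ℤ))).toLinearEquiv.symm.toAddEquiv
    have e4 := (((Groth.Agent.H2.Mum.flipTFunIso L₀ (p : ℤ)).app
      (ModuleCat.of A B))).toLinearEquiv.toAddEquiv
    exact ⟨e1.trans (e2.trans (e3.trans e4))⟩
  by_cases hall : ∀ p : ℕ, Subsingleton (Coh.HH X F p)
  · obtain ⟨L, hL1, hL2, hL3⟩ := Groth.Agent.H2.TruncG.truncate L₀ hK n hn 0 (-1)
      (fun p hp => by
        obtain ⟨m, rfl⟩ : ∃ m : ℕ, p = (m : ℤ) := ⟨p.toNat, by omega⟩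
        exact hH m (hall m)) hneg
    refine ⟨L, hL1, fun i _ => hL2 i (by omega), fun _ i => hL2 i (by omega), fun B _ _ p => ?_⟩
    obtain ⟨e⟩ := hbc B p
    obtain ⟨e'⟩ := hL3 (ModuleCat.of A B) (p : ℤ)
    exact ⟨e.trans e'.symm.toLinearEquiv.toAddEquiv⟩
  · obtain ⟨L, hL1, hL2, hL3⟩ := Groth.Agent.H2.TruncG.truncate L₀ hK n hn (d' : ℤ) (d : ℤ)
      (fun p hp => by
        obtain ⟨m, rfl⟩ : ∃ m : ℕ, p = (m : ℤ) := ⟨p.toNat, by omega⟩
        exact hH m (hd m (by exact_mod_cast hp)))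
      (fun p hp x => by
        by_cases hp0 : p < 0
        · exact hneg p hp0 x
        · obtain ⟨m, rfl⟩ : ∃ m : ℕ, p = (m : ℤ) := ⟨p.toNat, by omega⟩
          rw [← Groth.Agent.H2.Mum.fiberRank_eq_dRank A F U haff hU L₀ v hq m x]
          haveI := hd' x m (by exact_mod_cast hp)
          exact Module.finrank_zero_of_subsingleton)
    refine ⟨L, hL1, hL2, fun h => absurd h hall, fun B _ _ p => ?_⟩
    obtain ⟨e⟩ := hbc B p
    obtain ⟨e'⟩ := hL3 (ModuleCat.of A B) (p : ℤ)
    exact ⟨e.trans e'.symm.toLinearEquiv.toAddEquiv⟩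

end Groth.Agent.S14619
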