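import Groth.Statements.S14620
import Groth.Agent.Lib.Helper8.Hens.HenselianFinite
-- import your own Groth.Agent.* helpers here

set_option autoImplicit false
universe u
open Hensel

namespace Groth.Agent.S14620

/-- In the strictly henselian case, let f : A → B be a finite local homomorphism of local rings. If A is
strictly henselian (henselian local with separably closed residue field), then so is B. -/
theorem result {A B : Type u} [CommRing A] [IsLocalRing A]
    [CommRing B] [IsLocalRing B] (f : A →+* B) (hf : f.Finite) [IsLocalHom f]
    (hA : EtCoh.IsStrictlyHenselianLocalRing A) : EtCoh.IsStrictlyHenselianLocalRing B := by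
  obtain ⟨hA1, hA2⟩ := hA
  letI := f.toAlgebra
  haveI : Module.Finite A B := hf
  haveI hB : HenselianLocalRing B := Groth.Agent.H8.Hens.henselianLocalRing_of_finite A B
  refine ⟨hB, ?_⟩
  haveI : IsLocalHom (algebraMap A B) := ‹IsLocalHom f›
  haveI : Algebra.IsIntegral A B := Algebra.IsIntegral.of_finite A B
  haveI : Algebra.IsAlgebraic (IsLocalRing.ResidueField A) (IsLocalRing.ResidueField B) := by
    refine ⟨fun y => ?_⟩
    obtain ⟨b, rfl⟩ := IsLocalRing.residue_surjective y
    have hb : IsIntegral A b := Algebra.IsIntegral.isIntegral b
    have h1 : IsIntegral A (IsLocalRing.residue B b) := hb.map (IsScalarTower.toAlgHom A B (IsLocalRing.ResidueField B))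
    exact (h1.tower_top (A := IsLocalRing.ResidueField A)).isAlgebraic
  exact Algebra.IsAlgebraic.isSepClosed (F := IsLocalRing.ResidueField A)

end Groth.Agent.S14620
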