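import Groth.Statements.S14655
import Groth.Agent.Lib.Helper9.Misc.PCM2
import Groth.Agent.Lib.Helper6.Liai3

set_option autoImplicit false
universe u
open FiltBl

namespace Groth.Agent.S14655

open AlgebraicGeometry in
/-- Let A be a Noetherian ℕ-graded commutative ring which is a Cohen–Macaulay ring. Then the scheme Proj
A is Cohen–Macaulay: every local ring of Proj A is a Cohen–Macaulay local ring. -/
theorem result (A : Type u) [CommRing A]
    (𝒜 : ℕ → AddSubgroup A) [GradedRing 𝒜] [LocCoh.IsCohenMacaulayRing A] (x : Proj 𝒜) :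
    LocCoh.IsCohenMacaulayLocalRing ((Proj 𝒜).presheaf.stalk x) := by
  have e := (AlgebraicGeometry.Proj.stalkIso 𝒜 x).commRingCatIsoToRingEquiv
  haveI : LocCoh.IsCohenMacaulayLocalRing
      (HomogeneousLocalization.AtPrime 𝒜 x.asHomogeneousIdeal.toIdeal) :=
    Groth.Agent.H9.PCM.cm_atPrime 𝒜 x.asHomogeneousIdeal.toIdeal
      x.asHomogeneousIdeal.isHomogeneous x.not_irrelevant_le
  exact Groth.Agent.H6.Liai.cmLocal_of_ringEquiv e.symm

end Groth.Agent.S14655
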