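import Groth.Statements.S14656
import Groth.Agent.Lib.Helper9.Misc.PSO1

set_option autoImplicit false
universe u
open FiltBl

namespace Groth.Agent.S14656

open AlgebraicGeometry in
/-- Let A be a Noetherian ℕ-graded commutative ring satisfying Serre's condition (S_1) (every
localization A_p has depth at least min(1, dim A_p)). Then every local ring of the scheme Proj A
satisfies (S_1). -/
theorem result (A : Type u) [CommRing A] [IsNoetherianRing A]
    (𝒜 : ℕ → AddSubgroup A) [GradedRing 𝒜] (hA : LocCoh.HasSk 1 A A) (x : Proj 𝒜) :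
    LocCoh.HasSk 1 ((Proj 𝒜).presheaf.stalk x) ((Proj 𝒜).presheaf.stalk x) := by
  have e := (AlgebraicGeometry.Proj.stalkIso 𝒜 x).commRingCatIsoToRingEquiv
  have hR : LocCoh.HasSk 1 (HomogeneousLocalization.AtPrime 𝒜 x.asHomogeneousIdeal.toIdeal)
      (HomogeneousLocalization.AtPrime 𝒜 x.asHomogeneousIdeal.toIdeal) :=
    Groth.Agent.H9.PSO.hasSk_one_atPrime 𝒜 x.asHomogeneousIdeal.toIdeal hA x.not_irrelevant_le
  haveI : IsNoetherianRing (Localization.AtPrime x.asHomogeneousIdeal.toIdeal) :=
    IsLocalization.isNoetherianRing x.asHomogeneousIdeal.toIdeal.primeCompl _ inferInstance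
  haveI : IsNoetherianRing (HomogeneousLocalization.AtPrime 𝒜 x.asHomogeneousIdeal.toIdeal) :=
    (Groth.Agent.H9.PCM.cpure 𝒜 x.asHomogeneousIdeal.toIdeal).isNoetherianRing
  exact Groth.Agent.H9.PSO.hasSk_of_ringEquiv e.symm 1 hR

end Groth.Agent.S14656
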