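import Groth.Statements.S14670
import Groth.Agent.Lib.Helper1.Miracle
import Groth.Agent.Lib.Helper1.RegNormal
import Groth.Agent.Lib.Helper1.FlatDim

set_option autoImplicit false
universe u
open CAlg

namespace Groth.Agent.S14670

namespace Groth.Agent.S14670

open IsLocalRing

/-- For an integral extension `R → S` with `R` local, `q` maximal in `S`: the fibre ring
`S_q / 𝔪 S_q` has dimension zero. -/
theorem ringKrullDim_fiber_eq_zero (R S : Type u) [CommRing R] [CommRing S] [IsLocalRing R]
    [Algebra R S] [Algebra.IsIntegral R S] (q : Ideal S) [hq : q.IsMaximal]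
    [IsLocalHom (algebraMap R (Localization.AtPrime q))] :
    ringKrullDim (Localization.AtPrime q ⧸
      (maximalIdeal R).map (algebraMap R (Localization.AtPrime q))) = 0 := by
  set Sq := Localization.AtPrime q
  set I := (maximalIdeal R).map (algebraMap R Sq) with hI
  set T := Sq ⧸ I
  haveI : Nontrivial T := Groth.Agent.H1.FlatDim.nontrivial_fiber R Sq
  haveI : IsLocalRing T := Groth.Agent.H1.FlatDim.isLocalRing_fiber R Sq
  have hle : ringKrullDim T ≤ 0 := by
    haveI : Ring.KrullDimLE 0 T := by
      rw [Ring.krullDimLE_zero_iff]
      intro P hP
      -- the prime of `S` under `P`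
      let φ : S →+* T := (Ideal.Quotient.mk I).comp (algebraMap S Sq)
      set Q := P.comap φ with hQ
      haveI : Q.IsPrime := Ideal.comap_isPrime φ P
      have hQq : Q ≤ q := by
        intro s hs
        by_contra hsq
        have hu : IsUnit (algebraMap S Sq s) :=
          IsLocalization.map_units Sq (⟨s, hsq⟩ : q.primeCompl)
        have hu' : IsUnit (φ s) := hu.map (Ideal.Quotient.mk I)
        exact hP.ne_top (Ideal.eq_top_of_isUnit_mem P hs hu')
      have hmQ : maximalIdeal R ≤ Q.comap (algebraMap R S) := by
        intro r hr
        rw [Ideal.mem_comap, hQ, Ideal.mem_comap]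
        have : φ (algebraMap R S r) = 0 := by
          show Ideal.Quotient.mk I (algebraMap S Sq (algebraMap R S r)) = 0
          rw [← IsScalarTower.algebraMap_apply R S Sq, Ideal.Quotient.eq_zero_iff_mem]
          exact Ideal.mem_map_of_mem _ hr
        rw [this]
        exact P.zero_mem
      have hQeq : Q = q := by
        by_contra hne
        have hlt : Q < q := lt_of_le_of_ne hQq hne
        have h1 := Ideal.IsIntegral.comap_lt_comap (R := R) hlt
        have h2 : q.comap (algebraMap R S) ≤ maximalIdeal R :=
          le_maximalIdeal (Ideal.comap_ne_top _ hq.ne_top)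
        exact absurd (lt_of_lt_of_le h1 h2) (not_lt_of_ge hmQ)
      -- so `P` contains the maximal ideal of `T`
      have hmax : maximalIdeal T ≤ P := by
        have h3 : maximalIdeal T = (maximalIdeal Sq).map (Ideal.Quotient.mk I) :=
          Groth.Agent.H1.FlatDim.maximalIdeal_fiber R Sq
        rw [h3, ← Localization.AtPrime.map_eq_maximalIdeal, Ideal.map_map, Ideal.map_le_iff_le_comap]
        intro s hs
        have : s ∈ Q := hQeq ▸ hs
        exact this
      have : P = maximalIdeal T := le_antisymm (le_maximalIdeal hP.ne_top) hmax
      rw [this]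
      exact maximalIdeal.isMaximal T
    exact (Ring.krullDimLE_iff).mp inferInstance
  exact le_antisymm hle ringKrullDim_nonneg_of_nontrivial

theorem main (R S : Type u) [CommRing R] [CommRing S]
    [IsRegularLocalRing R] [IsDomain S] [Algebra R S] [Module.Finite R S]
    (hinj : Function.Injective (algebraMap R S))
    (hCM : ∀ (q : Ideal S) [q.IsMaximal], LocCoh.IsCohenMacaulayLocalRing (Localization.AtPrime q)) :
    Module.Flat R S := by
  haveI : IsDomain R := Groth.Agent.H7.Reg.isDomain R
  haveI : IsIntegrallyClosed R := Groth.Agent.H1.Reg.isIntegrallyClosed R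
  haveI : FaithfulSMul R S := (faithfulSMul_iff_algebraMap_injective R S).mpr hinj
  haveI : Algebra.IsIntegral R S := Algebra.IsIntegral.of_finite R S
  haveI : IsNoetherianRing S := IsNoetherianRing.of_finite R S
  haveI : Algebra.HasGoingDown R S := inferInstance
  apply Module.flat_of_isLocalized_maximal S S (fun q _ => Localization.AtPrime q)
    (fun q _ => Algebra.linearMap S (Localization.AtPrime q))
  intro q hq
  set Sq := Localization.AtPrime q
  have hover : q.comap (algebraMap R S) = maximalIdeal R :=
    eq_maximalIdeal (Ideal.isMaximal_comap_of_isIntegral_of_isMaximal q)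
  haveI : q.LiesOver (maximalIdeal R) := ⟨hover.symm⟩
  haveI : IsLocalHom (algebraMap R Sq) := by
    rw [((IsLocalRing.local_hom_TFAE (algebraMap R Sq)).out 0 2 rfl rfl)]
    rw [IsScalarTower.algebraMap_eq R S Sq, ← Ideal.map_map,
      ← Localization.AtPrime.map_eq_maximalIdeal]
    apply Ideal.map_mono
    rw [Ideal.map_le_iff_le_comap, hover]
  haveI := hCM q
  haveI : IsNoetherianRing Sq := inferInstance
  have hCM' : LocCoh.IsCohenMacaulayModule Sq Sq :=
    LocCoh.IsCohenMacaulayLocalRing.supportDim_eq_depth
  apply Groth.Agent.H1.Miracle.flat_of_cm (A := R) (B := Sq) Sq hCM'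
  have h0 := ringKrullDim_fiber_eq_zero R S q
  have hIeq : (((maximalIdeal R).map (algebraMap R Sq)) • (⊤ : Submodule Sq Sq)) =
      (maximalIdeal R).map (algebraMap R Sq) := by rw [smul_eq_mul, Ideal.mul_top]
  rw [Module.supportDim_self_eq_ringKrullDim,
    Module.supportDim_eq_of_equiv (Submodule.quotEquivOfEq _ _ hIeq),
    Module.supportDim_quotient_eq_ringKrullDim, h0, add_zero]
  apply le_antisymm
  · have := Groth.Agent.H1.FlatDim.ringKrullDim_le_add_fiber R Sq
    rwa [h0, add_zero] at this
  · rw [IsLocalization.AtPrime.ringKrullDim_eq_height q Sq,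
      ← IsLocalRing.maximalIdeal_height_eq_ringKrullDim (R := R),
      Ideal.height_eq_height_add_of_liesOver_of_hasGoingDown (maximalIdeal R) q]
    exact_mod_cast le_self_add

end Groth.Agent.S14670

/-- Let R be a regular local ring and S an integral domain containing R as a subring over which it is a
finitely generated module, such that the localization of S at each of its maximal ideals is a
Cohen–Macaulay local ring. Then S is a flat R-module. (The published statement does not require S to
be a domain; in that generality it fails — for a discrete valuation ring R with residue field κ the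
ring R × κ contains R diagonally, is finite over R with Cohen–Macaulay localizations, and is not
flat — and the printed argument needs every maximal ideal of S to have height dim R, which holds
when S is a domain by going down.) -/
theorem result (R S : Type u) [CommRing R] [CommRing S]
    [IsRegularLocalRing R] [IsDomain S] [Algebra R S] [Module.Finite R S]
    (hinj : Function.Injective (algebraMap R S))
    (hCM : ∀ (q : Ideal S) [q.IsMaximal], LocCoh.IsCohenMacaulayLocalRing (Localization.AtPrime q)) :
    Module.Flat R S := by
  exact Groth.Agent.S14670.main R S hinj hCM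

end Groth.Agent.S14670
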