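import Groth.Statements.S14676
import Mathlib.Tactic
import Groth.Agent.Lib.Helper7.Hensel
-- import your own Groth.Agent.* helpers here

set_option autoImplicit false
universe u
open CAlg

namespace Groth.Agent.S14676

/-- Let A be a commutative ring which is separated and complete for the I-adic topology of an ideal I,
let P be any polynomial over A (not assumed monic) and a₀ an element of A such that P(a₀) lies in I
and P'(a₀) is a unit modulo I. Then there is a unique a in A congruent to a₀ modulo I with P(a) = 0. -/
theorem result (A : Type u) [CommRing A] (I : Ideal A) [IsAdicComplete I A]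
    (P : Polynomial A) (a₀ : A) (h₀ : P.eval a₀ ∈ I)
    (h₁ : IsUnit (Ideal.Quotient.mk I (P.derivative.eval a₀))) :
    ∃! a : A, a - a₀ ∈ I ∧ P.IsRoot a := by
  obtain ⟨a, hroot, haI⟩ := Groth.Agent.H7.hensel_exists A I P a₀ h₀ h₁
  refine ⟨a, ⟨haI, hroot⟩, ?_⟩
  rintro b ⟨hbI, hbroot⟩
  have hder : IsUnit (Ideal.Quotient.mk I (P.derivative.eval a)) := by
    have : Ideal.Quotient.mk I (P.derivative.eval a) = Ideal.Quotient.mk I (P.derivative.eval a₀) := by
      have h : a ≡ a₀ [SMOD I] := SModEq.sub_mem.2 haI
      exact SModEq.def.mp (h.eval _)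
    rw [this]; exact h₁
  have hba : b - a ∈ I := by
    have : b - a = (b - a₀) - (a - a₀) := by ring
    rw [this]; exact I.sub_mem hbI haI
  exact (Groth.Agent.H7.hensel_unique A I (IsAdicComplete.le_jacobson_bot I) P a b hroot hbroot hba hder).symm

end Groth.Agent.S14676
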