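import Groth.Statements.S1471
import Mathlib
import Groth.Agent.Lib.Helper1.RedSub

set_option autoImplicit false
universe u
open FlatMor

namespace Groth.Agent.S1471

open AlgebraicGeometry CategoryTheory Limits TensorProduct

lemma isReduced_tensor_of_nil {A Ap κ B : Type u} [CommRing A] [CommRing Ap] [CommRing κ]
    [CommRing B] [Algebra A Ap] [Algebra Ap κ] [Algebra A κ] [IsScalarTower A Ap κ] [Algebra A B]
    [_root_.IsReduced B] (M : Submonoid A) [IsLocalization M Ap]
    (hsurj : Function.Surjective (algebraMap Ap κ))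
    (hker : RingHom.ker (algebraMap Ap κ) ≤ nilradical Ap) : _root_.IsReduced (B ⊗[A] κ) := by
  haveI : _root_.IsReduced (B ⊗[A] Ap) :=
    isReduced_localizationPreserves (Algebra.algebraMapSubmonoid B M) (B ⊗[A] Ap)
      ‹_root_.IsReduced B›
  let g : Ap →ₗ[A] κ := (IsScalarTower.toAlgHom A Ap κ).toLinearMap
  have hg : Function.Surjective g := hsurj
  let θ : B ⊗[A] Ap →ₐ[A] B ⊗[A] κ :=
    Algebra.TensorProduct.map (AlgHom.id A B) (IsScalarTower.toAlgHom A Ap κ)
  have hθ : ∀ x, θ x = LinearMap.lTensor B g x := by
    intro x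
    induction x using TensorProduct.induction_on with
    | zero => simp
    | tmul b a => simp [θ, g]
    | add x y hx hy => rw [map_add, map_add, hx, hy]
  have hex := lTensor_exact B (LinearMap.exact_subtype_ker_map g) hg
  have hzero : ∀ y : B ⊗[A] (LinearMap.ker g), LinearMap.lTensor B (LinearMap.ker g).subtype y = 0 := by
    intro y
    induction y using TensorProduct.induction_on with
    | zero => simp
    | tmul b k =>
      rw [LinearMap.lTensor_tmul]
      have hk : IsNilpotent (k.1 : Ap) := by
        apply mem_nilradical.mp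
        apply hker
        rw [RingHom.mem_ker]
        exact k.2
      have h1 : IsNilpotent ((1 : B) ⊗ₜ[A] (k.1 : Ap)) :=
        hk.map (Algebra.TensorProduct.includeRight : Ap →ₐ[A] B ⊗[A] Ap)
      have h2 : b ⊗ₜ[A] (k.1 : Ap) = (b ⊗ₜ 1) * ((1 : B) ⊗ₜ[A] (k.1 : Ap)) := by simp
      rw [Submodule.subtype_apply, h2, h1.eq_zero, mul_zero]
    | add x y hx hy => rw [map_add, hx, hy, add_zero]
  have hinj : Function.Injective θ := by
    rw [injective_iff_map_eq_zero]
    intro x hx
    rw [hθ] at hx
    obtain ⟨y, rfl⟩ := (hex x).mp hx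
    exact hzero y
  have hsurjθ : Function.Surjective θ := by
    intro t
    obtain ⟨x, hx⟩ := LinearMap.lTensor_surjective B hg t
    exact ⟨x, (hθ x).trans hx⟩
  let e : B ⊗[A] Ap ≃+* B ⊗[A] κ := RingEquiv.ofBijective θ ⟨hinj, hsurjθ⟩
  exact isReduced_of_injective e.symm e.symm.injective

/-- fibre ring over a minimal prime of a reduced algebra is reduced -/
lemma isReduced_tensor_residueField {R B : Type u} [CommRing R] [CommRing B] [Algebra R B]
    [_root_.IsReduced B] (p : Ideal R) [p.IsPrime] (hp : p ∈ minimalPrimes R) :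
    _root_.IsReduced (B ⊗[R] p.ResidueField) := by
  apply isReduced_tensor_of_nil (Ap := Localization.AtPrime p) p.primeCompl
  · exact Ideal.Quotient.mk_surjective
  · intro x hx
    have h1 := IsLocalization.AtPrime.radical_map_of_mem_minimalPrimes (A := Localization.AtPrime p)
      p ⊥ hp
    rw [Ideal.map_bot, IsLocalization.AtPrime.map_eq_maximalIdeal] at h1
    change x ∈ (⊥ : Ideal (Localization.AtPrime p)).radical
    rw [h1]
    have : RingHom.ker (algebraMap (Localization.AtPrime p) p.ResidueField) =
        IsLocalRing.maximalIdeal (Localization.AtPrime p) := Ideal.mk_ker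
    rw [← this]
    exact hx

/-- affine case -/
lemma isReduced_pullback_spec_residueField (R B : CommRingCat.{u}) [_root_.IsReduced B]
    (g : Spec B ⟶ Spec R) (p : Ideal R) [p.IsPrime] (hp : p ∈ minimalPrimes R) :
    AlgebraicGeometry.IsReduced
      (Limits.pullback g (Spec.map (CommRingCat.ofHom (algebraMap R p.ResidueField)))) := by
  obtain ⟨φ, rfl⟩ := Spec.map_surjective g
  algebraize [φ.hom]
  haveI : _root_.IsReduced (B ⊗[R] p.ResidueField) := isReduced_tensor_residueField p hp
  have e := pullbackSpecIso R B p.ResidueField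
  exact isReduced_of_isOpenImmersion e.hom

lemma mem_minimalPrimes_of_isGenericPoint {Y : Scheme.{u}} (R : CommRingCat.{u})
    (j : Spec R ⟶ Y) [IsOpenImmersion j] (η' : Spec R) (W : Set ↑Y)
    (hW : W ∈ irreducibleComponents ↑Y) (hη : IsGenericPoint (j η') W) :
    η'.asIdeal ∈ minimalPrimes R := by
  refine ⟨⟨η'.isPrime, bot_le⟩, ?_⟩
  rintro q ⟨hq, -⟩ hqp
  let y' : Spec R := ⟨q, hq⟩
  have hsp : y' ⤳ η' := (PrimeSpectrum.le_iff_specializes y' η').mp hqp
  have hsp' : j y' ⤳ j η' := hsp.map j.continuous
  have hWsub : W ⊆ closure {j y'} := by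
    rw [← hη.def]
    exact closure_minimal (Set.singleton_subset_iff.mpr hsp'.mem_closure) isClosed_closure
  have hirr : IsIrreducible (closure {j y'}) := isIrreducible_singleton.closure
  have hle : closure {j y'} ⊆ W := hW.2 hirr hWsub
  have hgen : IsGenericPoint (j y') W := Set.Subset.antisymm hle hWsub
  have heq : j y' = j η' := hgen.eq hη
  have : y' = η' := j.isOpenEmbedding.injective heq
  rw [← this]

lemma isReduced_fiber_of_isReduced {Z Y : Scheme.{u}} [AlgebraicGeometry.IsReduced Z] (h : Z ⟶ Y)
    (η : Y) (W : Set ↑Y) (hW : W ∈ irreducibleComponents ↑Y) (hη : IsGenericPoint η W) :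
    AlgebraicGeometry.IsReduced (h.fiber η) := by
  -- affine chart around η
  obtain ⟨i, η', hη'⟩ : ∃ i, ∃ η' : Spec (Y.affineOpenCover.X i), Y.affineOpenCover.f i η' = η :=
    ⟨_, Y.affineOpenCover.covers η⟩
  subst hη'
  let R : CommRingCat.{u} := Y.affineOpenCover.X i
  let j : Spec R ⟶ Y := Y.affineOpenCover.f i
  haveI hpp : η'.asIdeal.IsPrime := η'.isPrime
  have hmin : η'.asIdeal ∈ minimalPrimes R := mem_minimalPrimes_of_isGenericPoint R j η' W hW hη
  let ψ : R ⟶ CommRingCat.of η'.asIdeal.ResidueField :=
    CommRingCat.ofHom (algebraMap R η'.asIdeal.ResidueField)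
  -- the localized source
  haveI : AlgebraicGeometry.IsReduced (pullback h j) := isReduced_of_isOpenImmersion (pullback.fst h j)
  -- P' is reduced
  let 𝒰 := Scheme.Pullback.openCoverOfLeft (pullback h j).affineOpenCover.openCover
    (pullback.snd h j) (Spec.map ψ)
  haveI : ∀ k, AlgebraicGeometry.IsReduced (𝒰.X k) := fun k => by
    change AlgebraicGeometry.IsReduced (pullback ((pullback h j).affineOpenCover.f k ≫ pullback.snd h j)
      (Spec.map ψ))
    haveI : _root_.IsReduced ((pullback h j).affineOpenCover.X k) := by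
      haveI : IsOpenImmersion ((pullback h j).affineOpenCover.f k) :=
        (pullback h j).affineOpenCover.map_prop k
      have : AlgebraicGeometry.IsReduced (Spec ((pullback h j).affineOpenCover.X k)) :=
        isReduced_of_isOpenImmersion ((pullback h j).affineOpenCover.f k)
      exact (affine_isReduced_iff _).mp this
    exact isReduced_pullback_spec_residueField R _ _ η'.asIdeal hmin
  haveI hP' : AlgebraicGeometry.IsReduced (pullback (pullback.snd h j) (Spec.map ψ)) :=
    AlgebraicGeometry.IsReduced.of_openCover _ 𝒰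
  -- compare with the fibre
  let α : Spec (Y.residueField (j η')) ⟶ Spec (CommRingCat.of η'.asIdeal.ResidueField) :=
    inv (Spec.map (j.residueFieldMap η')) ≫ Spec.map (Scheme.Spec.residueFieldIso R η').inv
  have hα : α ≫ Spec.map ψ ≫ j = Y.fromSpecResidueField (j η') := by
    simp only [α, ψ, Category.assoc]
    rw [IsIso.inv_comp_eq]
    have e1 := Scheme.Spec.map_residueFieldIso_inv_eq_fromSpecResidueField R η'
    have e2 := congrArg (fun t => t ≫ j) e1
    exact (Category.assoc _ _ _).symm.trans
      (e2.trans (Scheme.Hom.SpecMap_residueFieldMap_fromSpecResidueField j η').symm)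
  have sq1 : IsPullback (pullback.fst (pullback.snd h j) (Spec.map ψ) ≫ pullback.fst h j)
      (pullback.snd (pullback.snd h j) (Spec.map ψ)) h (Spec.map ψ ≫ j) :=
    (IsPullback.of_hasPullback (pullback.snd h j) (Spec.map ψ)).paste_horiz
      (IsPullback.of_hasPullback h j)
  have sq2 : IsPullback (𝟙 (pullback (pullback.snd h j) (Spec.map ψ)))
      (pullback.snd (pullback.snd h j) (Spec.map ψ) ≫ inv α)
      (pullback.snd (pullback.snd h j) (Spec.map ψ)) α :=
    IsPullback.of_horiz_isIso ⟨by simp⟩
  have sq3 := sq2.paste_horiz sq1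
  rw [hα] at sq3
  change AlgebraicGeometry.IsReduced (pullback h (Y.fromSpecResidueField (j η')))
  exact isReduced_of_isOpenImmersion sq3.isoPullback.inv

open AlgebraicGeometry CategoryTheory Limits in
/-- Let f : X → Y and η a generic point of an irreducible component of Y. Then the fibre over η of the
composite X_red → X → Y is reduced; since it is a closed subscheme of X_η with the same underlying
set, this says (X_η)_red = (X_red)_η. -/
theorem result {X Y : Scheme.{u}} (f : X ⟶ Y) (η : Y) (W : Set ↑Y) (hW : W ∈ irreducibleComponents ↑Y) (hη : IsGenericPoint η W) :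
    IsReduced ((X.nilradical.subschemeι ≫ f).fiber η) := by
  haveI : AlgebraicGeometry.IsReduced X.nilradical.subscheme := by
    apply Groth.Agent.H1.RS.isReduced_subscheme_of_isRadical
    intro U
    exact Ideal.radical_isRadical _
  exact isReduced_fiber_of_isReduced _ η W hW hη

end Groth.Agent.S1471
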