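import Groth.Statements.S14741
import Groth.Agent.Lib.Lead.SC.CohDim
import Mathlib

set_option autoImplicit false
universe u
open CategoryTheory AlgebraicGeometry
open ValPrufer

namespace Groth.Agent.S14741

/-- Let R be a semilocal Prüfer domain (an integral domain with finitely many maximal ideals whose
localisations at primes are valuation rings) of finite Krull dimension, m ≥ 1, X a closed subscheme
of projective (m-1)-space over R which is flat over R, and F a finitely presented (equivalently,
coherent) O_X-module. Then H^q(X, F) = 0 for all q > m. -/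
theorem result
    (R : Type u) [CommRing R] [IsDomain R]
    (hR : ∀ (p : Ideal R) [p.IsPrime], ValuationRing (Localization.AtPrime p))
    (hfin : Finite (MaximalSpectrum R)) (hdim : ringKrullDim R < ⊤)
    (m : ℕ) (hm : 1 ≤ m) (X : Scheme.{u}) (ι : X ⟶ CohB1.ProjSpace (m - 1) R) [IsClosedImmersion ι]
    [Flat (ι ≫ CohB1.ProjSpace.toSpec (m - 1) R)]
    (F : X.Modules) (hF : CohB1.IsFP F) (q : ℕ) (hq : m < q) :
    Subsingleton (Coh.HH X F q) := by
  classical
  obtain ⟨p, rfl⟩ : ∃ p, q = p + 1 := ⟨q - 1, by omega⟩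
  let 𝒜 := CohB1.polyGrading (m - 1) R
  let D : Fin (m - 1 + 1) → (CohB1.ProjSpace (m - 1) R).Opens :=
    fun j => AlgebraicGeometry.Proj.basicOpen 𝒜 (MvPolynomial.X j)
  have hAff : ∀ j, AlgebraicGeometry.IsAffineOpen (D j) := fun j =>
    AlgebraicGeometry.Proj.isAffineOpen_basicOpen 𝒜 (MvPolynomial.X j) (m := 1)
      (MvPolynomial.isHomogeneous_X R j) Nat.one_pos
  have hcov : ⨆ j, D j = ⊤ := by
    apply AlgebraicGeometry.Proj.iSup_basicOpen_eq_top' 𝒜
      (fun j : Fin (m - 1 + 1) => (MvPolynomial.X j : MvPolynomial (Fin (m - 1 + 1)) R))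
    · intro j; exact ⟨1, MvPolynomial.isHomogeneous_X R j⟩
    · rw [eq_top_iff]
      intro q _
      induction q using MvPolynomial.induction_on with
      | C a =>
        have h0 : (MvPolynomial.C a : MvPolynomial (Fin (m - 1 + 1)) R) ∈ 𝒜 0 :=
          MvPolynomial.isHomogeneous_C _ a
        exact Subalgebra.algebraMap_mem _ (⟨_, h0⟩ : 𝒜 0)
      | add q q' hq hq' => exact Subalgebra.add_mem _ (hq trivial) (hq' trivial)
      | mul_X q j hq =>
        exact Subalgebra.mul_mem _ (hq trivial) (Algebra.subset_adjoin (Set.mem_range_self j))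
  have hPsep : (CohB1.ProjSpace (m - 1) R).IsSeparated :=
    inferInstanceAs (AlgebraicGeometry.Proj 𝒜).IsSeparated
  have hXsep : X.IsSeparated := by
    have e : CategoryTheory.Limits.terminal.from X =
        ι ≫ CategoryTheory.Limits.terminal.from (CohB1.ProjSpace (m - 1) R) :=
      (CategoryTheory.Limits.terminal.comp_from ι).symm
    have h1 : AlgebraicGeometry.IsSeparated
        (CategoryTheory.Limits.terminal.from (CohB1.ProjSpace (m - 1) R)) := hPsep.1
    constructor
    rw [e]
    infer_instance
  have hQ : F.IsQuasicoherent := by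
    have := hF
    infer_instance
  have key := Groth.Agent.LD.SC.subsingleton_HH_of_affine_cover X F
    (Finset.univ.image (fun j => ι ⁻¹ᵁ D j))
    (fun W hW => by
      obtain ⟨j, -, rfl⟩ := Finset.mem_image.mp hW
      exact (hAff j).preimage ι)
    (by
      rw [Finset.sup_image]
      have h1 : (Finset.univ.sup (id ∘ fun j => ι ⁻¹ᵁ D j)) = ⨆ j, ι ⁻¹ᵁ D j :=
        Finset.sup_univ_eq_iSup _
      rw [h1, ← AlgebraicGeometry.Scheme.Hom.preimage_iSup, hcov]
      rfl)
    p (by
      refine Finset.card_image_le.trans ?_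
      rw [Finset.card_univ, Fintype.card_fin]
      omega)
  exact key

end Groth.Agent.S14741
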