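import Groth.Statements.S14769
import Groth.Agent.Lib.Helper2.ProConsLib
import Groth.Agent.S14768

set_option autoImplicit false
universe u
open CategoryTheory CategoryTheory.Limits AlgebraicGeometry
open Subtr

namespace Groth.Agent.S14769

/-- Let f : X ⟶ Y be any morphism of schemes. Then every base change of f has the lifting property for
ordered pairs of points if and only if, for every valuation ring V and morphism g : Spec V ⟶ Y,
there are a valuation ring V', a morphism a : Spec V' ⟶ X and a surjective morphism b : Spec V' ⟶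
Spec V with a ≫ f = b ≫ g. (The published statement assumes f universally submersive for the
constructible topologies and concludes universal subtrusiveness; for quasi-compact f the two agree.) -/
theorem result {X Y : Scheme.{u}} (f : X ⟶ Y) :
    Subtr.UnivSSubtrusive f ↔
      ∀ (V : Type u) [CommRing V] [IsDomain V] [ValuationRing V] (g : Spec (CommRingCat.of V) ⟶ Y),
        ∃ (V' : Type u) (_ : CommRing V') (_ : IsDomain V') (_ : ValuationRing V')
          (a : Spec (CommRingCat.of V') ⟶ X) (b : Spec (CommRingCat.of V') ⟶ Spec (CommRingCat.of V)),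
          Surjective b ∧ a ≫ f = b ≫ g := by
  constructor
  · intro hf V _ _ _ g
    have H : Subtr.IsSSubtrusive (pullback.snd f g) := hf _ _ _ (IsPullback.of_hasPullback f g).flip
    obtain ⟨p, p', hp, hp1, hp2⟩ := H (IsLocalRing.specializes_closedPoint
      (⟨⊥, Ideal.isPrime_bot⟩ : PrimeSpectrum V))
    obtain ⟨V', i1, i2, i3, k, hk1, hk2⟩ :=
      Groth.Agent.H2.ProConsLib.exists_valuationRing_of_specializes hp
    refine ⟨V', i1, i2, i3, k ≫ pullback.fst f g, k ≫ pullback.snd f g, ⟨?_⟩, ?_⟩
    · apply Groth.Agent.H2.ProConsLib.surjective_of_valuationRing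
      · rw [Scheme.Hom.comp_apply, hk1, hp1]
      · rw [Scheme.Hom.comp_apply, hk2, hp2]
    · rw [Category.assoc, Category.assoc, pullback.condition]
  · intro h
    rw [Groth.Agent.S14768.result]
    intro V _ _ _ g y y' hyy'
    obtain ⟨V₁, i1, i2, i3, g₁, hg1, hg2⟩ :=
      Groth.Agent.H2.ProConsLib.exists_valuationRing_of_specializes hyy'
    obtain ⟨V', j1, j2, j3, a, b, hb, hab⟩ := h V₁ (g₁ ≫ g)
    let k : Spec (CommRingCat.of V') ⟶ pullback f g := pullback.lift a (b ≫ g₁)
      (by rw [hab, Category.assoc])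
    have hk : k ≫ pullback.snd f g = b ≫ g₁ := pullback.lift_snd _ _ _
    have hbc : b (IsLocalRing.closedPoint V') = IsLocalRing.closedPoint V₁ := by
      obtain ⟨q, hq⟩ := hb.surj (IsLocalRing.closedPoint V₁)
      apply Groth.Agent.H2.ProConsLib.eq_closedPoint_of_specializes
      rw [← hq]
      exact (IsLocalRing.specializes_closedPoint q).map b.continuous
    have hbg : b (⟨⊥, Ideal.isPrime_bot⟩ : PrimeSpectrum V') =
        (⟨⊥, Ideal.isPrime_bot⟩ : PrimeSpectrum V₁) := by
      obtain ⟨q, hq⟩ := hb.surj (⟨⊥, Ideal.isPrime_bot⟩ : PrimeSpectrum V₁)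
      apply Groth.Agent.H2.ProConsLib.eq_bot_of_specializes_bot
      rw [← hq]
      have : (⟨⊥, Ideal.isPrime_bot⟩ : PrimeSpectrum V') ⤳ q := by
        rw [← PrimeSpectrum.le_iff_specializes]
        exact bot_le (a := q.asIdeal)
      exact this.map b.continuous
    refine ⟨k (IsLocalRing.closedPoint V'), k (⟨⊥, Ideal.isPrime_bot⟩ : PrimeSpectrum V'),
      (IsLocalRing.specializes_closedPoint _).map k.continuous, ?_, ?_⟩
    · rw [← Scheme.Hom.comp_apply, hk, Scheme.Hom.comp_apply, hbc, hg1]
    · rw [← Scheme.Hom.comp_apply, hk, Scheme.Hom.comp_apply, hbg, hg2]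

end Groth.Agent.S14769
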