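import Groth.Statements.S14772
import Mathlib
import Groth.Agent.Lib.Helper1.Subtr6

set_option autoImplicit false
universe u
open CategoryTheory CategoryTheory.Limits AlgebraicGeometry
open Subtr

namespace Groth.Agent.S14772

open Groth.Agent.Lib.Helper1.Subtr1 Groth.Agent.Lib.Helper1.Subtr6
  Groth.Agent.Lib.Helper1.ValLift Groth.Agent.Lib.Helper1.PairLift IsLocalRing

namespace Aux

/-- a finite type algebra is a quotient of a polynomial ring in a positive number of
variables indexed by `ULift (Fin n)` -/
theorem exists_surjective_mvPolynomial (A R : Type u) [CommRing A] [CommRing R] [Algebra A R]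
    [Algebra.FiniteType A R] :
    ∃ (n : ℕ) (_ : 0 < n) (θ : MvPolynomial (ULift.{u} (Fin n)) A →ₐ[A] R),
      Function.Surjective θ := by
  obtain ⟨n, θ₀, hθ₀⟩ := Algebra.FiniteType.iff_quotient_mvPolynomial''.1
    (inferInstance : Algebra.FiniteType A R)
  let v : ULift.{u} (Fin (n + 1)) → R := fun i =>
    if h : i.down.val < n then θ₀ (MvPolynomial.X ⟨i.down.val, h⟩) else 0
  let e : Fin n → ULift.{u} (Fin (n + 1)) := fun j => ULift.up (Fin.castSucc j)
  refine ⟨n + 1, Nat.succ_pos n, MvPolynomial.aeval v, ?_⟩
  have hcomp : (MvPolynomial.aeval v).comp (MvPolynomial.rename e) = θ₀ := by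
    apply MvPolynomial.algHom_ext
    intro j
    simp only [AlgHom.comp_apply, MvPolynomial.rename_X, MvPolynomial.aeval_X, v, e]
    have : ((Fin.castSucc j : Fin (n + 1)) : ℕ) < n := j.2
    simp
  intro y
  obtain ⟨P, rfl⟩ := hθ₀ y
  exact ⟨MvPolynomial.rename e P, by rw [← hcomp]; rfl⟩

/-- pairs over a finite type algebra lift as soon as pairs lift over the affine spaces -/
theorem exists_pair_of_affineSpace {X Y : Scheme.{u}} (f : X ⟶ Y)
    (H : ∀ n : ℕ, 0 < n →
      Subtr.IsSSubtrusive (pullback.snd f (AffineSpace (ULift.{u} (Fin n)) Y ↘ Y)))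
    (A : Type u) [CommRing A] (a : Spec (.of A) ⟶ Y) [IsOpenImmersion a]
    (R : Type u) [CommRing R] [IsDomain R] [Algebra A R] [Algebra.FiniteType A R]
    (p : Ideal R) [hp : p.IsPrime] :
    ∃ w' w : ↑(pullback (kR a R) f), w' ⤳ w ∧
      (pullback.fst (kR a R) f w').asIdeal = ⊥ ∧ (pullback.fst (kR a R) f w).asIdeal = p := by
  obtain ⟨n, hn, θ, hθ⟩ := exists_surjective_mvPolynomial A R
  let I := ULift.{u} (Fin n)
  let π : AffineSpace I Y ⟶ Y := AffineSpace I Y ↘ Y
  let F : pullback f π ⟶ AffineSpace I Y := pullback.snd f π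
  have hF : Subtr.IsSSubtrusive F := H n hn
  let j₁ : Spec (.of R) ⟶ Spec (.of (MvPolynomial I A)) := Spec.map (CommRingCat.ofHom θ.toRingHom)
  have hj₁ : IsClosedImmersion j₁ := IsClosedImmersion.spec_of_surjective _ hθ
  have hmap : IsOpenImmersion (AffineSpace.map I a) :=
    MorphismProperty.of_isPullback (AffineSpace.isPullback_map (n := I) a).flip inferInstance
  let iR : Spec (.of R) ⟶ AffineSpace I Y :=
    j₁ ≫ (AffineSpace.SpecIso I (.of A)).inv ≫ AffineSpace.map I a
  have hiR : IsPreimmersion iR := inferInstance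
  have hover : iR ≫ π = kR a R := by
    simp only [iR, π, j₁, Category.assoc, AffineSpace.map_over, AffineSpace.SpecIso_inv_over_assoc]
    rw [← Category.assoc, ← Spec.map_comp]
    congr 2
    ext x
    exact θ.commutes x
  let η : Spec (.of R) := (⟨⊥, Ideal.isPrime_bot⟩ : PrimeSpectrum R)
  let P₀ : Spec (.of R) := (⟨p, hp⟩ : PrimeSpectrum R)
  have hηP : η ⤳ P₀ := bot_specializes (V := CommRingCat.of R) P₀
  obtain ⟨x, x', hx, e1, e2⟩ := hF (hηP.map iR.continuous)
  obtain ⟨w, hw1, hw2⟩ := Scheme.Pullback.exists_preimage_pullback (f := F) (g := iR) x P₀ e1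
  obtain ⟨w', hw'1, hw'2⟩ := Scheme.Pullback.exists_preimage_pullback (f := F) (g := iR) x' η e2
  have hemb : Topology.IsEmbedding (pullback.fst F iR) := (pullback.fst F iR).isEmbedding
  have hww : w' ⤳ w := by
    apply hemb.specializes_iff.1
    rw [hw1, hw'1]
    exact hx
  let t : pullback F iR ⟶ pullback (kR a R) f :=
    pullback.lift (pullback.snd F iR) (pullback.fst F iR ≫ pullback.fst f π) (by
      rw [← hover, ← Category.assoc, ← pullback.condition, Category.assoc, Category.assoc,
        pullback.condition])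
  have ht : t ≫ pullback.fst (kR a R) f = pullback.snd F iR := pullback.lift_fst _ _ _
  refine ⟨t w', t w, hww.map t.continuous, ?_, ?_⟩
  · rw [← Scheme.Hom.comp_apply, ht, hw'2]
  · rw [← Scheme.Hom.comp_apply, ht, hw2]

end Aux

/-- Let f : X ⟶ Y be a quasi-compact morphism of schemes. Then every base change of f has the lifting
property for ordered pairs of points if and only if, for every integer n ≥ 1, the base change X ×_Y
𝔸ⁿ_Y ⟶ 𝔸ⁿ_Y has it. (The published statement is about universally subtrusive morphisms f, with the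
condition that f be universally submersive for the constructible topologies added on both sides, and
does not assume f quasi-compact; this row states the quasi-compact case, where that condition is
automatic once f is surjective.) -/
theorem result {X Y : Scheme.{u}} (f : X ⟶ Y) [QuasiCompact f] :
    Subtr.UnivSSubtrusive f ↔
      ∀ n : ℕ, 0 < n →
        Subtr.IsSSubtrusive (pullback.snd f (AffineSpace (ULift.{u} (Fin n)) Y ↘ Y)) := by
  constructor
  · intro hf n _
    exact hf (pullback.fst f _) _ (pullback.snd f _) (IsPullback.of_hasPullback f _).flip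
  · intro H
    apply univSSubtrusive_of_valLift
    apply valLift_of_forall_finiteType
    intro A _ a _ R _ _ _ _ p _
    exact Aux.exists_pair_of_affineSpace f H A a R p

end Groth.Agent.S14772
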