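import Groth.Statements.S14783
import Mathlib
import Groth.Agent.Lib.Helper1.Subtr4

set_option autoImplicit false
universe u
open CategoryTheory CategoryTheory.Limits AlgebraicGeometry
open Subtr

namespace Groth.Agent.S14783

open Groth.Agent.Lib.Helper1.Subtr1 Groth.Agent.Lib.Helper1.Subtr4 Groth.Agent.H2.ProConsLib

/-- Let f : S' ⟶ S be a quasi-compact morphism of schemes every base change of which has the lifting
property for ordered pairs of points, and E ⊆ S any subset. For E to be both locally closed and
retrocompact it is necessary and sufficient that f⁻¹(E) be both. -/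
theorem result {S' S : Scheme.{u}} (f : S' ⟶ S)
    [QuasiCompact f] (hf : Subtr.UnivSSubtrusive f) (E : Set S) :
    (IsLocallyClosed E ∧ IsRetrocompact E) ↔
      (IsLocallyClosed (f ⁻¹' E) ∧ IsRetrocompact (f ⁻¹' E)) := by
  constructor
  · rintro ⟨h1, h2⟩
    refine ⟨h1.preimage f.continuous, ?_⟩
    exact isRetrocompact_of_isProConstructible
      (isProConstructible_preimage f (isProConstructible_of_isLocallyClosed_of_isRetrocompact h1 h2))
  · rintro ⟨h1, h2⟩
    have hs : Function.Surjective f := IsSSubtrusive.surjective (UnivSSubtrusive.isSSubtrusive hf)
    have hpro' : ProCons.IsProConstructible (f ⁻¹' E) :=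
      isProConstructible_of_isLocallyClosed_of_isRetrocompact h1 h2
    have hpro : ProCons.IsProConstructible E := by
      have := isProConstructible_image f hpro'
      rwa [Set.image_preimage_eq _ hs] at this
    refine ⟨?_, isRetrocompact_of_isProConstructible hpro⟩
    exact isLocallyClosed_of_preimage (valLift_of_univSSubtrusive hf) h1 E subset_rfl hpro
      subset_closure

end Groth.Agent.S14783
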