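import Groth.Statements.S14784
import Mathlib
import Groth.Agent.Lib.Helper1.Subtr4

set_option autoImplicit false
universe u
open CategoryTheory CategoryTheory.Limits AlgebraicGeometry
open Subtr

namespace Groth.Agent.S14784

open Groth.Agent.Lib.Helper1.Subtr1 Groth.Agent.Lib.Helper1.Subtr4 Groth.Agent.H2.ProConsLib

/-- Let f : S' ⟶ S be a morphism of schemes of finite presentation every base change of which has the
lifting property for ordered pairs of points, and E ⊆ S a subset. Then E is locally closed if and
only if f⁻¹(E) is locally closed. (The published statement is for algebraic spaces; this row is the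
case of schemes.) -/
theorem result {S' S : Scheme.{u}} (f : S' ⟶ S)
    [LocallyOfFinitePresentation f] [QuasiCompact f] [QuasiSeparated f]
    (hf : Subtr.UnivSSubtrusive f) (E : Set S) :
    IsLocallyClosed E ↔ IsLocallyClosed (f ⁻¹' E) := by
  constructor
  · intro h
    exact h.preimage f.continuous
  · intro h
    have hs : Function.Surjective f := IsSSubtrusive.surjective (UnivSSubtrusive.isSSubtrusive hf)
    let Z₁ : Set S := (f '' (closure (f ⁻¹' E))ᶜ)ᶜ
    have hpro : ProCons.IsProConstructible Z₁ :=
      isProConstructible_compl (isIndConstructible_image f
        (isIndConstructible_of_isOpen isClosed_closure.isOpen_compl))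
    refine isLocallyClosed_of_preimage (valLift_of_univSSubtrusive hf) h Z₁ ?_ hpro ?_
    · rintro e he ⟨x, hx, rfl⟩
      exact hx (subset_closure he)
    · intro x hx
      by_contra hcon
      exact hx ⟨x, hcon, rfl⟩

end Groth.Agent.S14784
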