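import Groth.Statements.S14807
import Mathlib.Tactic
-- import your own Groth.Agent.* helpers here

set_option autoImplicit false
universe u
open CAlg

namespace Groth.Agent.S14807

/-- Let G be a finite abelian group, written additively, and ℓ a prime number. Every sequence (g_n)_{n ≥
0} of elements of G with ℓ^n · g_n = 0 and ℓ · g_{n+1} = g_n for all n is identically zero; in other
words the inverse limit of the subgroups of ℓ^n-torsion elements, with transition maps
multiplication by ℓ, vanishes. -/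
theorem result (G : Type u) [AddCommGroup G] [Finite G]
    (ℓ : ℕ) (hℓ : ℓ.Prime) (g : ℕ → G) (htor : ∀ n : ℕ, ℓ ^ n • g n = 0)
    (hcomp : ∀ n : ℕ, ℓ • g (n + 1) = g n) (n : ℕ) : g n = 0 := by
  classical
  have key : ∀ x : G, (∃ m, ℓ ^ m • x = 0) → ℓ ^ (Nat.card G) • x = 0 := by
    rintro x ⟨m, hm⟩
    have h1 : addOrderOf x ∣ ℓ ^ m := addOrderOf_dvd_of_nsmul_eq_zero hm
    obtain ⟨j, hj, hj'⟩ := (Nat.dvd_prime_pow hℓ).1 h1
    have h2 : addOrderOf x ≤ Nat.card G := addOrderOf_le_card
    have h3 : j < ℓ ^ j := Nat.lt_pow_self hℓ.one_lt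
    have h4 : j ≤ Nat.card G := by omega
    have : ℓ ^ Nat.card G = ℓ ^ (Nat.card G - j) * ℓ ^ j := by rw [← pow_add]; congr 1; omega
    rw [this, mul_smul, ← hj', addOrderOf_nsmul_eq_zero, smul_zero]
  have iter : ∀ k n, ℓ ^ k • g (n + k) = g n := by
    intro k; induction k with
    | zero => intro n; simp
    | succ k ih => intro n; rw [pow_succ, mul_smul, ← add_assoc, hcomp, ih]
  rw [← iter (Nat.card G) n]
  exact key _ ⟨_, htor _⟩

end Groth.Agent.S14807
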