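import Groth.Statements.S14811
import Groth.Agent.Lib.Helper5.IntN.BC4

set_option autoImplicit false
universe u
open CategoryTheory CategoryTheory.Limits AlgebraicGeometry
open Pic13

namespace Groth.Agent.S14811

/-- Let X be a proper scheme over a field k, L an invertible O_X-module and k ⊆ E an arbitrary field
extension. Then L is numerically trivial on X (degree 0 on every closed subscheme of X which is
integral of dimension one) if and only if the pullback of L to X_E = X ×_k Spec E is numerically
trivial on X_E regarded as a scheme over E. -/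
theorem result (k : Type u) [Field k] (X : Scheme.{u})
    [X.Over (Spec (CommRingCat.of k))] [IsProper (X ↘ Spec (CommRingCat.of k))] (L : X.Modules) (hL : PicF.IsInvertible L)
    (E : Type u) [Field E] [Algebra k E] :
    Pic13.IsNumEquivZero k X L ↔
      @Pic13.IsNumEquivZero E _ (pullback (X ↘ Spec (CommRingCat.of k)) (Spec.map (CommRingCat.ofHom (algebraMap k E))))
        ⟨pullback.snd (X ↘ Spec (CommRingCat.of k)) (Spec.map (CommRingCat.ofHom (algebraMap k E)))⟩
        ((Scheme.Modules.pullback (pullback.fst (X ↘ Spec (CommRingCat.of k)) (Spec.map (CommRingCat.ofHom (algebraMap k E))))).obj L) := by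
  obtain ⟨L', hLi', ⟨e⟩⟩ := Groth.Agent.H5.Glue.exists_inverse L hL
  letI : (Curv2.bc k X E).Over (Spec (CommRingCat.of E)) := ⟨Curv2.bcSnd k X E⟩
  haveI : IsProper ((Curv2.bc k X E) ↘ Spec (CommRingCat.of E)) :=
    Groth.Agent.H5.IntN.isProper_bcSnd k E X
  have hM : PicF.IsInvertible ((Scheme.Modules.pullback (Curv2.bcFst k X E)).obj L) :=
    Groth.Agent.LD.QC.isInvertible_pullback _ hL
  have hM' : PicF.IsInvertible ((Scheme.Modules.pullback (Curv2.bcFst k X E)).obj L') :=
    Groth.Agent.LD.QC.isInvertible_pullback _ hLi'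
  have e' : CohB1.tensorMod ((Scheme.Modules.pullback (Curv2.bcFst k X E)).obj L)
      ((Scheme.Modules.pullback (Curv2.bcFst k X E)).obj L') ≅
        Coh.structureModule (Curv2.bc k X E) :=
    (Groth.Agent.LD.QC.pbTensorIso (Curv2.bcFst k X E) L L' hL hLi').symm ≪≫
      (Scheme.Modules.pullback (Curv2.bcFst k X E)).mapIso e ≪≫
        Groth.Agent.LD.QC.pbUnitIso (Curv2.bcFst k X E)
  rw [Groth.Agent.H5.IntN.isNumEquivZero_iff_nefP k L L' hL hLi' e]
  have key := Groth.Agent.H5.IntN.isNumEquivZero_iff_nefP E (X := Curv2.bc k X E)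
    ((Scheme.Modules.pullback (Curv2.bcFst k X E)).obj L)
    ((Scheme.Modules.pullback (Curv2.bcFst k X E)).obj L') hM hM' e'
  refine Iff.trans ?_ key.symm
  exact ⟨fun h => ⟨Groth.Agent.H5.IntN.NefP.bc k E L hL h.1,
      Groth.Agent.H5.IntN.NefP.bc k E L' hLi' h.2⟩,
    fun h => ⟨Groth.Agent.H5.IntN.NefP.of_bc k E L hL h.1,
      Groth.Agent.H5.IntN.NefP.of_bc k E L' hLi' h.2⟩⟩

end Groth.Agent.S14811
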