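import Groth.Statements.S14825
import Groth.Agent.Lib.Lead.Misc.AlbGen
import Groth.Agent.Lib.Lead.Misc.AlbConst
import Groth.Agent.Lib.Lead.FF.H0Const

set_option autoImplicit false
universe u
open CategoryTheory MonoidalCategory CartesianMonoidalCategory MonObj GrpObj AlgebraicGeometry
open AbVar

namespace Groth.Agent.S14825

/-- In the pointed case, let k be a field and X a proper k-scheme with H^0(X, O_X) one-dimensional and a
k-rational point x₀; let alb : X → A be the Albanese morphism (A an abelian variety over k — proper,
geometrically integral group scheme — with alb(x₀) = 0, universal among pointed k-morphisms from X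
to abelian varieties, the latter being geometrically reduced, connected, proper group schemes). Then
X has Albanese dimension zero, i.e. the image of alb is a single point of A (X is connected, so this
says the image is zero-dimensional), if and only if A is the trivial abelian variety, i.e. A → Spec
k is an isomorphism. (The published statement does not assume a rational point (it works with the
Albanese torsor); this row assumes one.) -/
theorem result (k : Type u) [Field k] (X : Scheme.{u}) [X.Over (Spec (CommRingCat.of k))]
    [IsProper (X ↘ Spec (CommRingCat.of k))] (h0 : Module.finrank k (Coh.HH X (Coh.structureModule X) 0) = 1)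
    (x₀ : 𝟙_ (Over (Spec (CommRingCat.of k))) ⟶ Over.mk (X ↘ Spec (CommRingCat.of k)))
    (A : Over (Spec (CommRingCat.of k))) [GrpObj A] [IsProper A.hom] [GeometricallyIntegral A.hom]
    (alb : Over.mk (X ↘ Spec (CommRingCat.of k)) ⟶ A) (halb : x₀ ≫ alb = η[A])
    (huniv : ∀ (B : Over (Spec (CommRingCat.of k))) [GrpObj B] [IsProper B.hom] [GeometricallyReduced B.hom] [ConnectedSpace ↥B.left]
      (g : Over.mk (X ↘ Spec (CommRingCat.of k)) ⟶ B), x₀ ≫ g = η[B] → ∃! h : A ⟶ B, IsMonHom h ∧ alb ≫ h = g) :
    (Set.range alb.left.base).Subsingleton ↔ IsIso A.hom := by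
  let f : X ⟶ Spec (CommRingCat.of k) := X ↘ Spec (CommRingCat.of k)
  let XO : Over (Spec (CommRingCat.of k)) := Over.mk f
  let s : Spec (CommRingCat.of k) ⟶ X := x₀.left
  have hs : s ≫ f = 𝟙 _ := Over.w x₀
  haveI : Subsingleton ↥(Spec (CommRingCat.of k)) :=
    inferInstanceAs (Subsingleton (PrimeSpectrum k))
  haveI : Nonempty ↥(Spec (CommRingCat.of k)) :=
    inferInstanceAs (Nonempty (PrimeSpectrum k))
  constructor
  · intro hsub
    -- global functions are constants
    haveI hiso : IsIso f.appTop := by
      letI : Algebra k Γ(X, ⊤) := (Coh.toGlobal f).toAlgebra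
      have hfr : Module.finrank k Γ(X, ⊤) = 1 := by
        rw [← h0]; exact (Groth.Agent.LD.FF.finrank_HH0_eq k X).symm
      haveI : Nontrivial Γ(X, ⊤) := by
        apply Module.nontrivial_of_finrank_pos (R := k)
        rw [hfr]; exact Nat.one_pos
      have hbot : (⊥ : Subalgebra k Γ(X, ⊤)) = ⊤ := Subalgebra.bot_eq_top_of_finrank_eq_one hfr
      have hsurj : Function.Surjective (algebraMap k Γ(X, ⊤)) :=
        Algebra.surjective_algebraMap_iff.mpr hbot.symm
      have hinj : Function.Injective (algebraMap k Γ(X, ⊤)) := (algebraMap k Γ(X, ⊤)).injective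
      have hbij : Function.Bijective (Coh.toGlobal f) := ⟨hinj, hsurj⟩
      have hbij2 : Function.Bijective f.appTop.hom := by
        have e : Coh.toGlobal f = f.appTop.hom.comp (Scheme.ΓSpecIso (CommRingCat.of k)).inv.hom := rfl
        have hb' : Function.Bijective (Scheme.ΓSpecIso (CommRingCat.of k)).hom.hom :=
          (ConcreteCategory.isIso_iff_bijective _).mp inferInstance
        have : (f.appTop.hom : _ → _) =
            (Coh.toGlobal f) ∘ (Scheme.ΓSpecIso (CommRingCat.of k)).hom.hom := by
          funext x
          rw [e]
          change _ = f.appTop.hom ((Scheme.ΓSpecIso (CommRingCat.of k)).inv.hom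
            ((Scheme.ΓSpecIso (CommRingCat.of k)).hom.hom x))
          congr 1
          exact (congrArg (fun φ => φ.hom x) (Scheme.ΓSpecIso (CommRingCat.of k)).hom_inv_id).symm
        rw [this]
        exact hbij.comp hb'
      exact (ConcreteCategory.isIso_iff_bijective f.appTop).mpr hbij2
    have hc := Groth.Agent.LD.Misc.comp_section_comp_eq_of_subsingleton_range f s hs alb.left hsub
    have hconst : alb = toUnit XO ≫ η[A] := by
      ext1
      rw [← halb]
      change alb.left = f ≫ s ≫ alb.left
      rw [← Category.assoc]; exact hc.symm
    haveI : IrreducibleSpace ↥A.left :=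
      GeometricallyIrreducible.irreducibleSpace_of_subsingleton (f := A.hom)
    have htriv := Groth.Agent.LD.Misc.alb_trivial_of_const x₀ alb (fun g hg => huniv A g hg) hconst
    refine ⟨(η[A]).left, ?_, Over.w η[A]⟩
    have := congrArg (fun φ : A ⟶ A => φ.left) htriv
    exact this.symm
  · intro hiso
    haveI : Subsingleton ↥A.left := by
      refine ⟨fun a b => ?_⟩
      exact A.hom.isOpenEmbedding.injective (Subsingleton.elim _ _)
    exact Set.subsingleton_of_subsingleton

end Groth.Agent.S14825
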