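import Groth.Statements.S1484
import Mathlib.RingTheory.Algebraic.Integral
import Mathlib.RingTheory.Ideal.Operations

set_option autoImplicit false
universe u
open FlatMor

namespace Groth.Agent.S1484

/-- Let R be a ring, p_1, …, p_r primes of R none of which is contained in another, k_i ⊆ κ(p_i)
subfields over which κ(p_i) is not algebraic, and J an ideal of R contained in none of the p_i. Then
some x ∈ J has image in κ(p_i) transcendental over k_i for every i. -/
theorem result {R : Type u} [CommRing R] {r : ℕ} (p : Fin r → Ideal R) [∀ i, (p i).IsPrime]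
    (hp : ∀ i j, i ≠ j → ¬ p i ≤ p j) (k : ∀ i, Subfield (p i).ResidueField)
    (hk : ∀ i, ¬ Algebra.IsAlgebraic ↥(k i) (p i).ResidueField) (J : Ideal R) (hJ : ∀ i, ¬ J ≤ p i) :
    ∃ x ∈ J, ∀ i, Transcendental ↥(k i) (algebraMap R (p i).ResidueField x) := by
  classical
  -- Step A: an element of `R` with transcendental image
  have hA : ∀ i, ∃ c : R, Transcendental ↥(k i) (algebraMap R (p i).ResidueField c) := by
    intro i
    by_contra hcon
    simp only [not_exists, Transcendental, not_not] at hcon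
    apply hk i
    rw [Algebra.isAlgebraic_def]
    intro t
    obtain ⟨a, b, -, rfl⟩ := IsFractionRing.div_surjective (A := R ⧸ p i) t
    obtain ⟨a, rfl⟩ := Ideal.Quotient.mk_surjective a
    obtain ⟨b, rfl⟩ := Ideal.Quotient.mk_surjective b
    have ha := hcon a
    have hb := hcon b
    rw [IsScalarTower.algebraMap_apply R (R ⧸ p i) (p i).ResidueField] at ha hb
    rw [div_eq_mul_inv]
    exact ha.mul hb.inv
  choose c hc using hA
  -- Step B
  have hB : ∀ i, ∃ y ∈ J, y ∉ p i ∧ ∀ j, j ≠ i → y ∈ p j := by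
    intro i
    obtain ⟨a, haJ, hap⟩ := Set.not_subset.mp (hJ i)
    have hb : ∀ j, j ≠ i → ∃ b ∈ p j, b ∉ p i := fun j hj ↦ Set.not_subset.mp (hp j i hj)
    choose! b hbj hbi using hb
    refine ⟨a * ∏ j ∈ Finset.univ.erase i, b j, J.mul_mem_right _ haJ, ?_, ?_⟩
    · intro hmem
      rcases (Ideal.IsPrime.mem_or_mem inferInstance hmem) with h | h
      · exact hap h
      · rw [Ideal.IsPrime.prod_mem_iff] at h
        obtain ⟨j, hj, hjm⟩ := h
        exact hbi j (Finset.ne_of_mem_erase hj) hjm
    · intro j hj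
      refine Ideal.mul_mem_left _ _ ?_
      exact Ideal.IsPrime.prod_mem_iff.mpr ⟨j, Finset.mem_erase.mpr ⟨hj, Finset.mem_univ _⟩,
        hbj j hj⟩
  choose y hyJ hyp hyq using hB
  -- Step C
  have hC : ∀ i, ∃ z ∈ J, Transcendental ↥(k i) (algebraMap R (p i).ResidueField z) ∧
      ∀ j, j ≠ i → z ∈ p j := by
    intro i
    by_cases hy : Transcendental ↥(k i) (algebraMap R (p i).ResidueField (y i))
    · exact ⟨y i, hyJ i, hy, hyq i⟩
    · refine ⟨y i * c i, J.mul_mem_right _ (hyJ i), ?_, fun j hj ↦ Ideal.mul_mem_right _ _ (hyq i j hj)⟩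
      rw [Transcendental, not_not] at hy
      intro halg
      rw [map_mul] at halg
      have hne : algebraMap R (p i).ResidueField (y i) ≠ 0 := by
        rw [Ne, Ideal.algebraMap_residueField_eq_zero]
        exact hyp i
      exact hc i (IsAlgebraic.of_mul (mem_nonZeroDivisors_of_ne_zero hne) hy halg)
  choose z hzJ hzt hzq using hC
  refine ⟨∑ i, z i, J.sum_mem fun i _ ↦ hzJ i, fun i ↦ ?_⟩
  rw [map_sum, Finset.sum_eq_single i]
  · exact hzt i
  · intro j _ hj
    rw [Ideal.algebraMap_residueField_eq_zero]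
    exact hzq j i hj.symm
  · intro h
    exact absurd (Finset.mem_univ i) h

end Groth.Agent.S1484
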