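import Groth.Statements.S14840
import Mathlib
import Groth.Agent.H4.WRe

set_option autoImplicit false
open CategoryTheory MonoidalCategory CartesianMonoidalCategory AlgebraicGeometry
universe u
open AlgGrp

namespace Groth.Agent.S14840

/-- Let G be a group scheme over a scheme S, affine over S and with structure sheaf locally free over
O_S (each point of S has an affine open neighbourhood U such that the sections of O_G over the
preimage of U form a free module over the sections of O_S over U), acting on an S-scheme Y which is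
separated over S. Then the subfunctor of G-fixed points of Y is a closed subfunctor: there are an
S-scheme Z and a closed immersion i : Z → Y over S such that a T-valued point y of Y factors through
i exactly when it is fixed, i.e. g · y = y for every S-scheme T' over T and every T'-valued point g
of G. -/
theorem result
    {S : Scheme.{u}} (G Y : Over S) [GrpObj G] (a : AlgGrp.Action G Y)
    [IsAffineHom G.hom] [IsSeparated Y.hom]
    (hfree : ∀ s : S, ∃ U : S.affineOpens, s ∈ (U : S.Opens) ∧
      @Module.Free Γ(S, U) Γ(G.left, G.hom ⁻¹ᵁ U) _ _ (G.hom.app U).hom.toAlgebra.toModule) :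
    ∃ (Z : Over S) (i : Z ⟶ Y), IsClosedImmersion i.left ∧
      ∀ (T : Over S) (y : T ⟶ Y),
        (∀ (T' : Over S) (t : T' ⟶ T) (g : T' ⟶ G), lift g (t ≫ y) ≫ a.act = t ≫ y) ↔
          ∃ z : T ⟶ Z, z ≫ i = y := by
  have hW : IsClosedImmersion (Limits.equalizer.ι a.act (snd G Y)).left := inferInstance
  have hw : ∀ ⦃T'' : Scheme.{u}⦄ (s : T'' ⟶ (G ⊗ Y).left),
      (∃ l : T'' ⟶ (Limits.equalizer a.act (snd G Y)).left,
        l ≫ (Limits.equalizer.ι a.act (snd G Y)).left = s) ↔ s ≫ a.act.left = s ≫ (snd G Y).left :=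
    fun T'' s => Groth.Agent.H4.WRd.over_eq_factor_iff a.act (snd G Y) s
  have hPB : IsPullback (fst G Y).left (snd G Y).left G.hom Y.hom :=
    IsPullback.of_hasPullback G.hom Y.hom
  obtain ⟨Z₀, c₀, hc₀, hZ⟩ := Groth.Agent.H4.WRc.weil_rep (snd G Y).left
    (Limits.equalizer.ι a.act (snd G Y)).left (by
      intro y
      obtain ⟨U, hsU, hfreeU⟩ := hfree (Y.hom y)
      have hp : @Module.Projective Γ(S, U.1) _ Γ(G.left, G.hom ⁻¹ᵁ U.1) _
          (G.hom.app U.1).hom.toAlgebra.toModule := by
        letI := (G.hom.app U.1).hom.toAlgebra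
        haveI : Module.Free Γ(S, U.1) Γ(G.left, G.hom ⁻¹ᵁ U.1) := hfreeU
        infer_instance
      exact Groth.Agent.H4.WRd.loc_model G.hom Y.hom (fst G Y).left (snd G Y).left hPB U.1 U.2
        hp y hsU)
  refine ⟨Over.mk (c₀ ≫ Y.hom), Over.homMk c₀ rfl, hc₀, ?_⟩
  intro T y
  rw [Groth.Agent.H4.WRe.over_rep c₀ y, ← hZ y.left,
    ← Groth.Agent.H4.WRe.eq_iff_predW a.act (snd G Y) _ hw y]
  constructor
  · intro h T' t g
    rw [h T' t g, lift_snd]
  · intro h T' t g
    rw [h T' t g, lift_snd]

end Groth.Agent.S14840
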