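import Groth.Statements.S14846
import Mathlib

set_option autoImplicit false
universe u v w
open Brauer

namespace Groth.Agent.S14846

open TensorProduct

section act
variable {K : Type u} {L : Type v} [Field K] [Field L] [Algebra K L]
  {A : Type w} [Ring A] [Algebra K A]

/-- the action of the Galois group on `L ⊗ A` -/
noncomputable def σ (γ : L ≃ₐ[K] L) : L ⊗[K] A →ₐ[K] L ⊗[K] A :=
  Algebra.TensorProduct.map (γ : L →ₐ[K] L) (AlgHom.id K A)

theorem σ_tmul (γ : L ≃ₐ[K] L) (l : L) (a : A) : σ γ (l ⊗ₜ[K] a) = γ l ⊗ₜ a := rfl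

theorem σ_mul (γ δ : L ≃ₐ[K] L) (x : L ⊗[K] A) : σ (γ * δ) x = σ γ (σ δ x) := by
  induction x with
  | zero => simp
  | tmul l a => simp [σ_tmul]
  | add x y hx hy => simp [hx, hy]

theorem σ_one (x : L ⊗[K] A) : σ (1 : L ≃ₐ[K] L) x = x := by
  induction x with
  | zero => simp
  | tmul l a => simp [σ_tmul]
  | add x y hx hy => simp [hx, hy]

theorem σ_inv_σ (γ : L ≃ₐ[K] L) (x : L ⊗[K] A) : σ γ⁻¹ (σ γ x) = x := by
  rw [← σ_mul, inv_mul_cancel, σ_one]

theorem σ_σ_inv (γ : L ≃ₐ[K] L) (x : L ⊗[K] A) : σ γ (σ γ⁻¹ x) = x := by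
  rw [← σ_mul, mul_inv_cancel, σ_one]

theorem repr_σ {ι : Type*} (b : Module.Basis ι K A) (γ : L ≃ₐ[K] L) (z : L ⊗[K] A) (j : ι) :
    (Algebra.TensorProduct.basis L b).repr (σ γ z) j =
      γ ((Algebra.TensorProduct.basis L b).repr z j) := by
  induction z with
  | zero => simp
  | tmul l a => simp [σ_tmul]
  | add x y hx hy => simp [hx, hy]

end act

section descent
variable {K : Type u} {L : Type v} [Field K] [Field L] [Algebra K L]
  {A : Type w} [Ring A] [Algebra K A]

theorem smul_mem_tsi (𝔞 : TwoSidedIdeal (L ⊗[K] A)) (l : L) {z : L ⊗[K] A} (hz : z ∈ 𝔞) :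
    l • z ∈ 𝔞 := by
  rw [Algebra.smul_def]
  exact 𝔞.mul_mem_left _ _ hz

theorem eq_top_of_stable [IsGalois K L] [IsSimpleRing A] (𝔞 : TwoSidedIdeal (L ⊗[K] A))
    (h0 : 𝔞 ≠ ⊥) (hst : ∀ (γ : L ≃ₐ[K] L) (x : L ⊗[K] A), x ∈ 𝔞 → σ γ x ∈ 𝔞) : 𝔞 = ⊤ := by
  classical
  set b := Module.Basis.ofVectorSpace K A with hb
  set bL := Algebra.TensorProduct.basis L b with hbL
  have key : ∀ n : ℕ, ∀ z ∈ 𝔞, z ≠ 0 → (bL.repr z).support.card = n →
      (1 : L ⊗[K] A) ∈ 𝔞 := by
    intro n
    induction n using Nat.strong_induction_on with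
    | _ n ih =>
      intro z hz hz0 hcard
      have hne : (bL.repr z).support.Nonempty := by
        rw [Finsupp.support_nonempty_iff]
        intro h
        exact hz0 (bL.repr.map_eq_zero_iff.mp h)
      obtain ⟨j₀, hj₀⟩ := hne
      set c := bL.repr z j₀ with hc
      have hc0 : c ≠ 0 := Finsupp.mem_support_iff.mp hj₀
      set z' := c⁻¹ • z with hz'
      have hz'mem : z' ∈ 𝔞 := smul_mem_tsi 𝔞 _ hz
      have hrepr : ∀ j, bL.repr z' j = c⁻¹ * bL.repr z j := by
        intro j
        rw [hz', map_smul, Finsupp.smul_apply, smul_eq_mul]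
      have hz'0 : z' ≠ 0 := by
        rw [hz']
        exact smul_ne_zero (inv_ne_zero hc0) hz0
      have hj₀1 : bL.repr z' j₀ = 1 := by rw [hrepr, ← hc, inv_mul_cancel₀ hc0]
      have hsupp : (bL.repr z').support = (bL.repr z).support := by
        ext j
        simp only [Finsupp.mem_support_iff, hrepr]
        simp [hc0]
      by_cases hfix : ∀ γ : L ≃ₐ[K] L, σ γ z' = z'
      · -- all coordinates lie in K
        have hK : ∀ j, bL.repr z' j ∈ Set.range (algebraMap K L) := by
          intro j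
          rw [InfiniteGalois.mem_range_algebraMap_iff_fixed]
          intro γ
          rw [← repr_σ, hfix γ]
        let g : L → K := fun l => if h : l ∈ Set.range (algebraMap K L) then h.choose else 0
        have hg : ∀ l, l ∈ Set.range (algebraMap K L) → algebraMap K L (g l) = l := by
          intro l hl
          simp only [g, dif_pos hl]
          exact hl.choose_spec
        have hg0 : g 0 = 0 := by
          apply (algebraMap K L).injective
          rw [hg 0 ⟨0, map_zero _⟩, map_zero]
        set f : _ →₀ K := (bL.repr z').mapRange g hg0 with hf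
        set a : A := Finsupp.linearCombination K b f with ha
        have hza : (1 : L) ⊗ₜ[K] a = z' := by
          apply bL.repr.injective
          rw [hbL, Algebra.TensorProduct.basis_repr_tmul, ha, Module.Basis.repr_linearCombination,
            one_smul]
          ext j
          rw [Finsupp.mapRange_apply, hf, Finsupp.mapRange_apply]
          exact hg _ (hK j)
        have ha0 : a ≠ 0 := by
          intro h
          apply hz'0
          rw [← hza, h, TensorProduct.tmul_zero]
        -- the contraction of `𝔞` to `A`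
        set 𝔠 : TwoSidedIdeal A :=
          TwoSidedIdeal.comap (Algebra.TensorProduct.includeRight : A →ₐ[K] L ⊗[K] A).toRingHom 𝔞
          with h𝔠
        have hmem : ∀ a' : A, a' ∈ 𝔠 ↔ (1 : L) ⊗ₜ[K] a' ∈ 𝔞 := by
          intro a'
          rw [h𝔠, TwoSidedIdeal.mem_comap]
          rfl
        have h𝔠top : 𝔠 = ⊤ := by
          rcases eq_bot_or_eq_top 𝔠 with h | h
          · exfalso
            have : a ∈ 𝔠 := by rw [hmem, hza]; exact hz'mem
            rw [h, TwoSidedIdeal.mem_bot] at this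
            exact ha0 this
          · exact h
        have : (1 : A) ∈ 𝔠 := by rw [h𝔠top]; trivial
        rw [hmem] at this
        exact this
      · push_neg at hfix
        obtain ⟨γ, hγ⟩ := hfix
        set w := σ γ z' - z' with hw
        have hwmem : w ∈ 𝔞 := 𝔞.sub_mem (hst γ z' hz'mem) hz'mem
        have hw0 : w ≠ 0 := sub_ne_zero.mpr hγ
        have hwrepr : ∀ j, bL.repr w j = γ (bL.repr z' j) - bL.repr z' j := by
          intro j
          rw [hw, map_sub, Finsupp.sub_apply, repr_σ]
        have hsub : (bL.repr w).support ⊆ (bL.repr z).support.erase j₀ := by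
          intro j hj
          rw [Finsupp.mem_support_iff, hwrepr] at hj
          rw [Finset.mem_erase, ← hsupp, Finsupp.mem_support_iff]
          constructor
          · rintro rfl
            apply hj
            rw [hj₀1, map_one, sub_self]
          · intro h
            apply hj
            rw [h, map_zero, sub_self]
        have hlt : (bL.repr w).support.card < n := by
          calc (bL.repr w).support.card ≤ ((bL.repr z).support.erase j₀).card :=
                Finset.card_le_card hsub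
            _ < (bL.repr z).support.card := Finset.card_erase_lt_of_mem hj₀
            _ = n := hcard
        exact ih _ hlt w hwmem hw0 rfl
  obtain ⟨z, hz, hz0⟩ : ∃ z ∈ 𝔞, z ≠ 0 := by
    by_contra h
    push_neg at h
    apply h0
    rw [eq_bot_iff]
    intro x hx
    rw [TwoSidedIdeal.mem_bot]
    exact h x hx
  have h1 := key _ z hz hz0 rfl
  exact (TwoSidedIdeal.one_mem_iff 𝔞).mp h1

end descent

section main
variable {K : Type u} {L : Type v} [Field K] [Field L] [Algebra K L]
  {A : Type w} [Ring A] [Algebra K A]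

/-- the ring automorphism given by `γ` -/
noncomputable def eσ (γ : L ≃ₐ[K] L) : (L ⊗[K] A) ≃+* (L ⊗[K] A) :=
  RingEquiv.ofRingHom (σ γ : L ⊗[K] A →ₐ[K] L ⊗[K] A).toRingHom
    (σ γ⁻¹ : L ⊗[K] A →ₐ[K] L ⊗[K] A).toRingHom
    (RingHom.ext fun x => σ_σ_inv γ x) (RingHom.ext fun x => σ_inv_σ γ x)

/-- the image of a two-sided ideal under `γ` -/
noncomputable def img (I : TwoSidedIdeal (L ⊗[K] A)) (γ : L ≃ₐ[K] L) :
    TwoSidedIdeal (L ⊗[K] A) := (eσ γ).mapTwoSidedIdeal I

theorem mem_img (I : TwoSidedIdeal (L ⊗[K] A)) (γ : L ≃ₐ[K] L) (y : L ⊗[K] A) :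
    y ∈ img I γ ↔ σ γ⁻¹ y ∈ I := by
  rw [img, RingEquiv.mapTwoSidedIdeal_apply, TwoSidedIdeal.mem_comap]
  rfl

theorem coe_img (I : TwoSidedIdeal (L ⊗[K] A)) (γ : L ≃ₐ[K] L) :
    (img I γ : Set (L ⊗[K] A)) = σ γ '' (I : Set (L ⊗[K] A)) := by
  ext y
  simp only [SetLike.mem_coe, mem_img, Set.mem_image]
  constructor
  · intro h
    exact ⟨_, h, σ_σ_inv γ y⟩
  · rintro ⟨x, hx, rfl⟩
    rw [σ_inv_σ]
    exact hx

theorem isAtom_img (I : TwoSidedIdeal (L ⊗[K] A)) (hI : IsAtom I) (γ : L ≃ₐ[K] L) :
    IsAtom (img I γ) := by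
  unfold img
  rw [OrderIso.isAtom_iff]
  exact hI

/-- right annihilator of a two-sided ideal -/
def rann {B : Type*} [Ring B] (J : TwoSidedIdeal B) : TwoSidedIdeal B :=
  TwoSidedIdeal.mk' {y | ∀ x ∈ J, x * y = 0}
    (by intro x _; simp)
    (by intro y z hy hz x hx; rw [mul_add, hy x hx, hz x hx, add_zero])
    (by intro y hy x hx; rw [mul_neg, hy x hx, neg_zero])
    (by
      intro b y hy x hx
      rw [← mul_assoc]
      exact hy _ (J.mul_mem_right _ _ hx))
    (by
      intro y b hy x hx
      rw [← mul_assoc, hy x hx, zero_mul])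

theorem mem_rann {B : Type*} [Ring B] (J : TwoSidedIdeal B) (y : B) :
    y ∈ rann J ↔ ∀ x ∈ J, x * y = 0 := by
  rw [rann, TwoSidedIdeal.mem_mk']
  rfl

end main

open TensorProduct in
/-- Let L/K be a Galois extension with group Γ = Aut_K(L), and A a K-algebra which is a simple ring. If
L ⊗_K A is semisimple, then Γ, acting on L ⊗_K A through the first tensor factor, permutes its
simple components, i.e. its minimal nonzero two-sided ideals, transitively: any minimal two-sided
ideal is carried onto any other by some γ ⊗ id. -/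
theorem result
    {K : Type u} {L : Type v} [Field K] [Field L] [Algebra K L] [IsGalois K L]
    {A : Type w} [Ring A] [Algebra K A] [IsSimpleRing A]
    [IsSemisimpleRing (L ⊗[K] A)]
    (I J : TwoSidedIdeal (L ⊗[K] A)) (hI : IsAtom I) (hJ : IsAtom J) :
    ∃ γ : L ≃ₐ[K] L, (J : Set (L ⊗[K] A)) =
      Algebra.TensorProduct.map (γ : L →ₐ[K] L) (AlgHom.id K A) '' (I : Set (L ⊗[K] A)) := by
  by_contra hcon
  push_neg at hcon
  have hne : ∀ γ : L ≃ₐ[K] L, J ≠ img I γ := by
    intro γ h
    apply hcon γ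
    rw [h, coe_img]
    rfl
  set S : TwoSidedIdeal (L ⊗[K] A) := ⨆ γ : L ≃ₐ[K] L, img I γ with hS
  have hStop : S = ⊤ := by
    apply eq_top_of_stable
    · intro h
      have h1 : img I 1 ≤ S := le_iSup (fun γ : L ≃ₐ[K] L => img I γ) 1
      rw [h, le_bot_iff] at h1
      exact (isAtom_img I hI 1).1 h1
    · intro δ x hx
      have hle : S ≤ TwoSidedIdeal.comap (σ δ : L ⊗[K] A →ₐ[K] L ⊗[K] A).toRingHom S := by
        apply iSup_le
        intro γ y hy
        rw [TwoSidedIdeal.mem_comap]
        have h1 : img I (δ * γ) ≤ S := le_iSup (fun γ : L ≃ₐ[K] L => img I γ) (δ * γ)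
        apply h1
        rw [mem_img] at hy ⊢
        rw [_root_.mul_inv_rev, σ_mul]
        show σ γ⁻¹ (σ δ⁻¹ (σ δ y)) ∈ I
        rw [σ_inv_σ]
        exact hy
      have := hle hx
      rw [TwoSidedIdeal.mem_comap] at this
      exact this
  have hle : S ≤ rann J := by
    apply iSup_le
    intro γ y hy
    rw [mem_rann]
    intro x hx
    have hinf : J ⊓ img I γ = ⊥ := (hJ.disjoint_of_ne (isAtom_img I hI γ) (hne γ)).eq_bot
    have : x * y ∈ J ⊓ img I γ := by
      rw [TwoSidedIdeal.mem_inf]
      exact ⟨J.mul_mem_right _ _ hx, (img I γ).mul_mem_left _ _ hy⟩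
    rw [hinf, TwoSidedIdeal.mem_bot] at this
    exact this
  have h1 : (1 : L ⊗[K] A) ∈ rann J := hle (by rw [hStop]; trivial)
  rw [mem_rann] at h1
  apply hJ.1
  rw [eq_bot_iff]
  intro x hx
  rw [TwoSidedIdeal.mem_bot]
  have := h1 x hx
  rwa [mul_one] at this

end Groth.Agent.S14846
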