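import Groth.Statements.S14847
import Mathlib
import Groth.Agent.S14843
import Groth.Agent.Lib.Helper9.ComodIntegral
import Groth.Agent.Lib.Helper1.TraceIntegral

set_option autoImplicit false
universe u v
open HopfRep

namespace Groth.Agent.S14847


open TensorProduct in
/-- When K is a field of characteristic zero and G = Spec A is a finite group scheme over K, the
coordinate Hopf algebra A is cosemisimple, i.e. A is the internal direct sum of simple
subcoalgebras. Here a subcoalgebra of A is a subspace B whose comultiplication lands in the image of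
B ⊗ B, and a simple subcoalgebra is a nonzero subcoalgebra D whose only subcoalgebras contained in D
are 0 and D. -/
theorem result {K : Type u} {A : Type v} [Field K] [CharZero K]
    [CommRing A] [HopfAlgebra K A] [Module.Finite K A] :
    ∃ (ι : Type v) (D : ι → Submodule K A), iSupIndep D ∧ iSup D = ⊤ ∧ ∀ i,
        D i ≠ ⊥ ∧ (∀ b ∈ (D i), CoalgebraStruct.comul (R := K) b ∈ LinearMap.range (TensorProduct.map (D i).subtype (D i).subtype)) ∧
        ∀ B : Submodule K A, B ≤ D i → (∀ b ∈ B, CoalgebraStruct.comul (R := K) b ∈ LinearMap.range (TensorProduct.map B.subtype B.subtype)) → B = ⊥ ∨ B = D i := by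
  haveI : Nontrivial A := by
    refine ⟨⟨0, 1, fun h => ?_⟩⟩
    have := congrArg (CoalgebraStruct.counit (R := K) (A := A)) h
    simp at this
  have hpos : 0 < Module.finrank K A := Module.finrank_pos
  have hne : (Module.finrank K A : K) ≠ 0 := by exact_mod_cast hpos.ne'
  let α : A →ₗ[K] K := (Module.finrank K A : K)⁻¹ • Algebra.trace K A
  have hα : Groth.Agent.H9.Integral.IsIntegral α := by
    intro b
    have := Groth.Agent.H1.TraceIntegral.trace_isIntegral (K := K) b
    simp only [α, LinearMap.rTensor_smul, LinearMap.smul_apply, map_smul, this, smul_smul,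
      smul_eq_mul]
  have h1 : α 1 = 1 := by
    simp only [α, LinearMap.smul_apply, smul_eq_mul]
    have h := Algebra.trace_algebraMap (R := K) (S := A) (1 : K)
    rw [map_one] at h
    rw [h, nsmul_eq_mul, mul_one, inv_mul_cancel₀ hne]
  exact (Groth.Agent.S14843.result (K := K) (C := A)).mpr (fun V _ _ _ =>
    Groth.Agent.H9.Integral.isSemisimpleComod_of_integral hα h1)

end Groth.Agent.S14847
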