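import Groth.Statements.S14848
import Mathlib

set_option autoImplicit false
universe u v
open McKay

namespace Groth.Agent.S14848

section
variable {L : Type*} [Field L]

lemma pow_eq_one_iff_of_diag (ξ : L) (hξ0 : ξ ≠ 0) (hξ2 : ξ - ξ⁻¹ ≠ 0)
    (M : Matrix (Fin 2) (Fin 2) L) (hM : M = !![0, -1; 1, ξ + ξ⁻¹]) (k : ℕ) :
    M ^ k = 1 ↔ ξ ^ k = 1 := by
  let P : Matrix (Fin 2) (Fin 2) L := !![1, 1; -ξ, -ξ⁻¹]
  let D : Matrix (Fin 2) (Fin 2) L := Matrix.diagonal ![ξ, ξ⁻¹]
  have hMP : M * P = P * D := by
    rw [hM]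
    ext i j
    fin_cases i <;> fin_cases j <;> simp [P, D, Matrix.mul_apply, Fin.sum_univ_two] <;> field_simp <;> ring
  have hdet : P.det = ξ - ξ⁻¹ := by
    simp [P, Matrix.det_fin_two]
    ring
  have hunit : IsUnit P.det := by rw [hdet]; exact isUnit_iff_ne_zero.mpr hξ2
  have hpow : ∀ k : ℕ, M ^ k * P = P * D ^ k := by
    intro k
    induction k with
    | zero => simp
    | succ k ih => rw [pow_succ, mul_assoc, hMP, ← mul_assoc, ih, mul_assoc, ← pow_succ]
  have hD : D ^ k = Matrix.diagonal ![ξ ^ k, ξ⁻¹ ^ k] := by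
    rw [Matrix.diagonal_pow]
    congr 1
    ext i
    fin_cases i <;> simp
  constructor
  · intro h
    have h1 := hpow k
    rw [h, one_mul] at h1
    have h2 : D ^ k = 1 := by
      have := congrArg (fun X => P⁻¹ * X) h1
      simp only [← mul_assoc, Matrix.nonsing_inv_mul _ hunit, one_mul] at this
      exact this.symm
    rw [hD] at h2
    have := congrFun (congrFun h2 0) 0
    simpa using this
  · intro h
    have h2 : D ^ k = 1 := by
      rw [hD, h, inv_pow, h, inv_one]
      ext i j
      fin_cases i <;> fin_cases j <;> simp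
    have h1 := hpow k
    rw [h2, mul_one] at h1
    have := congrArg (fun X => X * P⁻¹) h1
    simp only [mul_assoc, Matrix.mul_nonsing_inv _ hunit, mul_one] at this
    exact this

lemma exists_SL_of_matrix {K : Type*} [Field K] (A : Matrix (Fin 2) (Fin 2) K) (hA : A.det = 1)
    (n : ℕ) (h : ∀ k : ℕ, A ^ k = 1 ↔ n ∣ k) :
    ∃ M : Matrix.SpecialLinearGroup (Fin 2) K, orderOf M = n := by
  let M : Matrix.SpecialLinearGroup (Fin 2) K := ⟨A, hA⟩
  have key : ∀ k : ℕ, M ^ k = 1 ↔ n ∣ k := by
    intro k
    rw [← h k]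
    constructor
    · intro hk
      have := congrArg (fun X : Matrix.SpecialLinearGroup (Fin 2) K =>
        (X : Matrix (Fin 2) (Fin 2) K)) hk
      simp only [Matrix.SpecialLinearGroup.coe_pow, Matrix.SpecialLinearGroup.coe_one] at this
      exact this
    · intro hk
      apply Subtype.ext
      rw [Matrix.SpecialLinearGroup.coe_pow]
      exact hk
  refine ⟨M, ?_⟩
  apply Nat.dvd_antisymm
  · exact orderOf_dvd_of_pow_eq_one ((key n).mpr dvd_rfl)
  · exact (key _).mp (pow_orderOf_eq_one M)
end

/-- Let K be a field of characteristic zero, L an extension field of K and ξ ∈ L a primitive n-th root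
of unity (n ≥ 1) with ξ + ξ⁻¹ ∈ K, say ξ + ξ⁻¹ = 2c with c ∈ K (the character of the natural
two-dimensional representation of the cyclic group of order n takes values in K). Then the cyclic
group of order n is realisable over K as a subgroup of SL(2, K): there is an element of SL(2, K) of
order n. -/
theorem result {K : Type u} {L : Type v} [Field K] [Field L]
    [CharZero K] [Algebra K L] (n : ℕ) (hn : 1 ≤ n) (ξ : L) (hξ : IsPrimitiveRoot ξ n) (c : K)
    (hc : algebraMap K L (2 * c) = ξ + ξ⁻¹) :
    ∃ M : Matrix.SpecialLinearGroup (Fin 2) K, orderOf M = n := by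
  have hξ0 : ξ ≠ 0 := hξ.ne_zero (by omega)
  by_cases h2 : ξ ^ 2 = 1
  · -- n ∣ 2
    have hdvd : n ∣ 2 := hξ.dvd_of_pow_eq_one 2 h2
    rcases (Nat.dvd_prime Nat.prime_two).mp hdvd with h1 | h1
    · subst h1
      exact ⟨1, orderOf_one⟩
    · subst h1
      refine exists_SL_of_matrix (!![-1, 0; 0, -1] : Matrix (Fin 2) (Fin 2) K)
        (by simp [Matrix.det_fin_two]) 2 ?_
      intro k
      have hA : (!![-1, 0; 0, -1] : Matrix (Fin 2) (Fin 2) K) = -1 := by
        ext i j
        fin_cases i <;> fin_cases j <;> simp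
      rw [hA]
      rcases Nat.even_or_odd k with hk | hk
      · rw [hk.neg_one_pow]
        simp [hk.two_dvd]
      · rw [hk.neg_one_pow]
        have : ¬ 2 ∣ k := by
          rw [← even_iff_two_dvd, Nat.not_even_iff_odd]; exact hk
        simp only [this, iff_false]
        intro h
        have := congrFun (congrFun h 0) 0
        simp at this
        have h2 : (2 : K) = 0 := by linear_combination -this
        exact two_ne_zero h2
  · have hξ2 : ξ - ξ⁻¹ ≠ 0 := by
      intro h
      apply h2
      have : ξ = ξ⁻¹ := sub_eq_zero.mp h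
      calc ξ ^ 2 = ξ * ξ := pow_two ξ
        _ = ξ * ξ⁻¹ := by rw [← this]
        _ = 1 := mul_inv_cancel₀ hξ0
    refine exists_SL_of_matrix (!![0, -1; 1, 2 * c] : Matrix (Fin 2) (Fin 2) K)
      (by simp [Matrix.det_fin_two]) n ?_
    have hinj : Function.Injective ((algebraMap K L).mapMatrix : Matrix (Fin 2) (Fin 2) K →+* _) := by
      intro A B hAB
      ext i j
      have := congrFun (congrFun hAB i) j
      simp only [RingHom.mapMatrix_apply, Matrix.map_apply] at this
      exact (algebraMap K L).injective this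
    have hML : (algebraMap K L).mapMatrix (!![0, -1; 1, 2 * c] : Matrix (Fin 2) (Fin 2) K)
        = !![0, -1; 1, ξ + ξ⁻¹] := by
      rw [← hc]
      ext i j
      fin_cases i <;> fin_cases j <;> simp
    intro k
    have e1 : (!![0, -1; 1, 2 * c] : Matrix (Fin 2) (Fin 2) K) ^ k = 1 ↔
        ((algebraMap K L).mapMatrix (!![0, -1; 1, 2 * c] : Matrix (Fin 2) (Fin 2) K)) ^ k = 1 := by
      rw [← map_pow (algebraMap K L).mapMatrix]
      constructor
      · intro h
        rw [h, map_one]
      · intro h
        apply hinj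
        rw [h, map_one]
    rw [e1, pow_eq_one_iff_of_diag ξ hξ0 hξ2 _ hML k]
    exact hξ.pow_eq_one_iff_dvd k

end Groth.Agent.S14848
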