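import Groth.Statements.S14849
import Mathlib

set_option autoImplicit false
universe u v
open McKay

namespace Groth.Agent.S14849

open Matrix

section mats
variable {K : Type u} [Field K]

/-- the rotation matrix -/
def Am (c : K) : Matrix (Fin 2) (Fin 2) K := !![c, c ^ 2 - 1; 1, c]

/-- the reflection-type matrix -/
def Bm (c x y : K) : Matrix (Fin 2) (Fin 2) K := !![x, -((c ^ 2 - 1) * y); y, -x]

theorem det_Am (c : K) : (Am c).det = 1 := by
  simp only [Am, Matrix.det_fin_two_of]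
  ring

theorem det_Bm (c x y : K) (h : x ^ 2 - (c ^ 2 - 1) * y ^ 2 = -1) : (Bm c x y).det = 1 := by
  simp only [Bm, Matrix.det_fin_two_of]
  linear_combination (-1 : K) * h

theorem Bm_sq (c x y : K) (h : x ^ 2 - (c ^ 2 - 1) * y ^ 2 = -1) :
    Bm c x y * Bm c x y = -1 := by
  ext i j
  fin_cases i <;> fin_cases j <;> simp [Bm, Matrix.mul_apply, Fin.sum_univ_two] <;>
    first | ring1 | linear_combination h

theorem Am_Bm_Am (c x y : K) : Am c * Bm c x y * Am c = Bm c x y := by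
  ext i j
  fin_cases i <;> fin_cases j <;> simp [Am, Bm, Matrix.mul_apply, Fin.sum_univ_two] <;> ring

end mats

section diag
variable {L : Type v} [Field L]

/-- eigenvector matrix -/
def Pm (c ξ : L) : Matrix (Fin 2) (Fin 2) L := !![ξ - c, ξ⁻¹ - c; 1, 1]

/-- diagonal matrix of powers -/
def Dm (ξ : L) (k : ℕ) : Matrix (Fin 2) (Fin 2) L := !![ξ ^ k, 0; 0, (ξ⁻¹) ^ k]

theorem Dm_zero (ξ : L) : Dm ξ 0 = 1 := by
  ext i j
  fin_cases i <;> fin_cases j <;> simp [Dm]

theorem Dm_succ (ξ : L) (k : ℕ) : Dm ξ k * Dm ξ 1 = Dm ξ (k + 1) := by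
  ext i j
  fin_cases i <;> fin_cases j <;> simp [Dm, Matrix.mul_apply, Fin.sum_univ_two, pow_succ]

theorem Am_mul_Pm (c ξ : L) (hξ : ξ ≠ 0) (h : 2 * c = ξ + ξ⁻¹) :
    Am c * Pm c ξ = Pm c ξ * Dm ξ 1 := by
  have hx : ξ * ξ⁻¹ = 1 := mul_inv_cancel₀ hξ
  ext i j
  fin_cases i <;> fin_cases j <;> simp [Am, Pm, Dm, Matrix.mul_apply, Fin.sum_univ_two] <;>
    first | ring1 | linear_combination ξ * h + hx | linear_combination ξ⁻¹ * h + hx

theorem Am_pow_mul_Pm (c ξ : L) (hξ : ξ ≠ 0) (h : 2 * c = ξ + ξ⁻¹) (k : ℕ) :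
    Am c ^ k * Pm c ξ = Pm c ξ * Dm ξ k := by
  induction k with
  | zero => simp [Dm_zero]
  | succ k ih =>
    rw [pow_succ, Matrix.mul_assoc, Am_mul_Pm c ξ hξ h, ← Matrix.mul_assoc, ih, Matrix.mul_assoc,
      Dm_succ]

theorem isUnit_Pm (c ξ : L) (hξ : ξ ≠ 0) (h2 : ξ ^ 2 ≠ 1) : IsUnit (Pm c ξ) := by
  rw [Matrix.isUnit_iff_isUnit_det]
  have : (Pm c ξ).det = ξ - ξ⁻¹ := by
    simp only [Pm, Matrix.det_fin_two_of]
    ring
  rw [this, isUnit_iff_ne_zero]
  intro h0
  apply h2
  have hx : ξ * ξ⁻¹ = 1 := mul_inv_cancel₀ hξ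
  linear_combination ξ * h0 + hx

theorem Am_pow_eq_one_iff (c ξ : L) (hξ : ξ ≠ 0) (h2 : ξ ^ 2 ≠ 1) (h : 2 * c = ξ + ξ⁻¹) (k : ℕ) :
    Am c ^ k = 1 ↔ ξ ^ k = 1 := by
  have key := Am_pow_mul_Pm c ξ hξ h k
  constructor
  · intro h1
    rw [h1, Matrix.one_mul] at key
    have := congrFun (congrFun key 1) 0
    simp [Pm, Dm, Matrix.mul_apply, Fin.sum_univ_two] at this
    exact this.symm
  · intro h1
    have hD : Dm ξ k = 1 := by
      ext i j
      fin_cases i <;> fin_cases j <;> simp [Dm, h1, inv_pow]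
    rw [hD, Matrix.mul_one] at key
    have := (isUnit_Pm c ξ hξ h2).mul_left_inj (b := Am c ^ k) (c := 1)
    rw [← this, key, Matrix.one_mul]

theorem Am_pow_eq_neg_one (c ξ : L) (hξ : ξ ≠ 0) (h2 : ξ ^ 2 ≠ 1) (h : 2 * c = ξ + ξ⁻¹) (k : ℕ)
    (h1 : ξ ^ k = -1) : Am c ^ k = -1 := by
  have key := Am_pow_mul_Pm c ξ hξ h k
  have hD : Dm ξ k = -1 := by
    ext i j
    fin_cases i <;> fin_cases j <;> simp [Dm, h1, inv_pow, inv_neg]
  rw [hD, Matrix.mul_neg, Matrix.mul_one] at key
  have := (isUnit_Pm c ξ hξ h2).mul_left_inj (b := Am c ^ k) (c := -1)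
  rw [← this, key, Matrix.neg_mul, Matrix.one_mul]

end diag

section bc
variable {K : Type u} {L : Type v} [Field K] [Field L] [Algebra K L]

theorem map_Am (c : K) :
    (algebraMap K L).mapMatrix (Am c) = Am (algebraMap K L c) := by
  ext i j
  fin_cases i <;> fin_cases j <;> simp [Am]

theorem Am_pow_eq_one_iff' (c : K) (ξ : L) (hξ : ξ ≠ 0) (h2 : ξ ^ 2 ≠ 1)
    (h : algebraMap K L (2 * c) = ξ + ξ⁻¹) (k : ℕ) :
    Am c ^ k = 1 ↔ ξ ^ k = 1 := by
  have hinj : Function.Injective ((algebraMap K L).mapMatrix (m := Fin 2)) :=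
    Matrix.map_injective (algebraMap K L).injective
  have h' : 2 * algebraMap K L c = ξ + ξ⁻¹ := by rw [← h, map_mul, map_ofNat]
  rw [← Am_pow_eq_one_iff (algebraMap K L c) ξ hξ h2 h' k, ← map_Am, ← map_pow]
  constructor
  · intro h1; rw [h1, map_one]
  · intro h1; apply hinj; rw [h1, map_one]

theorem Am_pow_eq_neg_one' (c : K) (ξ : L) (hξ : ξ ≠ 0) (h2 : ξ ^ 2 ≠ 1)
    (h : algebraMap K L (2 * c) = ξ + ξ⁻¹) (k : ℕ) (h1 : ξ ^ k = -1) :
    Am c ^ k = -1 := by
  have hinj : Function.Injective ((algebraMap K L).mapMatrix (m := Fin 2)) :=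
    Matrix.map_injective (algebraMap K L).injective
  have h' : 2 * algebraMap K L c = ξ + ξ⁻¹ := by rw [← h, map_mul, map_ofNat]
  apply hinj
  rw [map_pow, map_Am, Am_pow_eq_neg_one (algebraMap K L c) ξ hξ h2 h' k h1, map_neg, map_one]

end bc

section grp

theorem exists_hom {G : Type*} [Group G] (n : ℕ) (hn : 2 ≤ n) (A B : G)
    (h1 : A ^ (2 * n) = 1) (h2 : B * B = A ^ n) (h3 : A * B * A = B)
    (h4 : ∀ k : ℕ, A ^ k = 1 → 2 * n ∣ k) :
    ∃ f : QuaternionGroup n →* G, Function.Injective f := by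
  haveI : NeZero (2 * n) := ⟨by omega⟩
  set pw : ZMod (2 * n) → G := fun i => A ^ i.val with hpw
  have pw_add : ∀ i j, pw (i + j) = pw i * pw j := by
    intro i j
    simp only [hpw]
    rw [ZMod.val_add, ← pow_add, ← pow_eq_pow_mod _ h1]
  have pw_zero : pw 0 = 1 := by simp [hpw]
  have pw_sub : ∀ i j, pw (j - i) = (pw i)⁻¹ * pw j := by
    intro i j
    have := pw_add i (j - i)
    rw [add_sub_cancel] at this
    rw [this, inv_mul_cancel_left]
  have pw_n : pw (n : ZMod (2 * n)) = A ^ n := by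
    simp only [hpw]
    rw [ZMod.val_natCast, Nat.mod_eq_of_lt (by omega)]
  have conj : ∀ k : ℕ, A ^ k * B = B * (A ^ k)⁻¹ := by
    intro k
    induction k with
    | zero => simp
    | succ k ih =>
      have hAB : A * B = B * A⁻¹ := by
        rw [eq_mul_inv_iff_mul_eq, h3]
      rw [pow_succ, mul_assoc, hAB, ← mul_assoc, ih, mul_assoc, ← _root_.mul_inv_rev, ← pow_succ']
      rw [pow_succ]
  have conj' : ∀ i, pw i * B = B * (pw i)⁻¹ := fun i => conj _
  let f : QuaternionGroup n → G := fun g =>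
    match g with
    | QuaternionGroup.a i => pw i
    | QuaternionGroup.xa i => B * pw i
  have hf : ∀ g h, f (g * h) = f g * f h := by
    intro g h
    rcases g with i | i <;> rcases h with j | j
    · show f (QuaternionGroup.a i * QuaternionGroup.a j) = pw i * pw j
      rw [QuaternionGroup.a_mul_a]
      exact pw_add i j
    · show f (QuaternionGroup.a i * QuaternionGroup.xa j) = pw i * (B * pw j)
      rw [QuaternionGroup.a_mul_xa]
      show B * pw (j - i) = _
      rw [pw_sub, ← mul_assoc, ← mul_assoc, conj']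
    · show f (QuaternionGroup.xa i * QuaternionGroup.a j) = B * pw i * pw j
      rw [QuaternionGroup.xa_mul_a]
      show B * pw (i + j) = _
      rw [pw_add, mul_assoc]
    · show f (QuaternionGroup.xa i * QuaternionGroup.xa j) = B * pw i * (B * pw j)
      rw [QuaternionGroup.xa_mul_xa]
      show pw (n + j - i) = _
      rw [add_sub_assoc, pw_add, pw_sub, pw_n, ← h2]
      rw [mul_assoc B (pw i), ← mul_assoc (pw i), conj']
      simp only [mul_assoc]
  refine ⟨MonoidHom.mk' f hf, ?_⟩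
  rw [injective_iff_map_eq_one]
  intro g hg
  rcases g with i | i
  · have hi : pw i = 1 := hg
    have := h4 _ hi
    have hlt : i.val < 2 * n := ZMod.val_lt i
    have h0 : i.val = 0 := Nat.eq_zero_of_dvd_of_lt this hlt
    rw [ZMod.val_eq_zero] at h0
    rw [h0]; rfl
  · exfalso
    have hi : B * pw i = 1 := hg
    have hB : B = A ^ ((-i).val) := by
      have : pw (-i) = (pw i)⁻¹ := by
        have := pw_sub i 0
        rw [zero_sub, pw_zero, mul_one] at this
        exact this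
      show B = pw (-i)
      rw [this]
      exact eq_inv_of_mul_eq_one_left hi
    -- B commutes with A
    have hcomm : A * B = B * A := by
      rw [hB, ← pow_succ', ← pow_succ]
    have hAA : A ^ 2 = 1 := by
      have : A * B * A = B * A * A := by rw [hcomm]
      rw [h3] at this
      have h5 : B * 1 = B * (A * A) := by rw [mul_one, ← mul_assoc]; exact this
      have := mul_left_cancel h5
      rw [pow_two]; exact this.symm
    have := h4 2 hAA
    have := Nat.le_of_dvd (by norm_num) this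
    omega

end grp

/-- the rotation in SL₂ -/
def As {K : Type u} [Field K] (c : K) : Matrix.SpecialLinearGroup (Fin 2) K := ⟨Am c, det_Am c⟩

/-- the reflection in SL₂ -/
def Bs {K : Type u} [Field K] (c x y : K) (h : x ^ 2 - (c ^ 2 - 1) * y ^ 2 = -1) :
    Matrix.SpecialLinearGroup (Fin 2) K := ⟨Bm c x y, det_Bm c x y h⟩

/-- Let K be a field of characteristic zero, L an extension field of K, n ≥ 2, and ξ ∈ L a primitive
2n-th root of unity with ξ + ξ⁻¹ = 2c for some c ∈ K. If the Hilbert symbol of -1 and c² - 1 over K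
equals 1, i.e. x² - (c² - 1) y² = -1 has a solution in K, then the binary dihedral group of order 4n
(generators σ, τ with τ² = σⁿ = (τσ)²) is isomorphic to a subgroup of SL(2, K). (The published
statement is an equivalence; this row is the direction realising the group from a solution of the
conic.) -/
theorem result {K : Type u} {L : Type v}
    [Field K] [Field L] [CharZero K] [Algebra K L] (n : ℕ) (hn : 2 ≤ n) (ξ : L)
    (hξ : IsPrimitiveRoot ξ (2 * n)) (c : K) (hc : algebraMap K L (2 * c) = ξ + ξ⁻¹)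
    (hsol : ∃ x y : K, x ^ 2 - (c ^ 2 - 1) * y ^ 2 = -1) :
    ∃ f : QuaternionGroup n →* Matrix.SpecialLinearGroup (Fin 2) K, Function.Injective f := by
  obtain ⟨x, y, hxy⟩ := hsol
  have hξ0 : ξ ≠ 0 := hξ.ne_zero (by omega)
  have hξ2 : ξ ^ 2 ≠ 1 := hξ.pow_ne_one_of_pos_of_lt (by norm_num) (by omega)
  have hξn : ξ ^ n = -1 := by
    have h1 : (ξ ^ n) ^ 2 = 1 := by rw [← pow_mul, mul_comm]; exact hξ.pow_eq_one
    have h2 : ξ ^ n ≠ 1 := hξ.pow_ne_one_of_pos_of_lt (by omega) (by omega)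
    have : (ξ ^ n - 1) * (ξ ^ n + 1) = 0 := by linear_combination h1
    rcases mul_eq_zero.mp this with h | h
    · exact absurd (sub_eq_zero.mp h) h2
    · exact eq_neg_of_add_eq_zero_left h
  apply exists_hom n hn (As c) (Bs c x y hxy)
  · apply Subtype.ext
    rw [Matrix.SpecialLinearGroup.coe_pow]
    exact (Am_pow_eq_one_iff' c ξ hξ0 hξ2 hc _).mpr hξ.pow_eq_one
  · apply Subtype.ext
    rw [Matrix.SpecialLinearGroup.coe_pow, Matrix.SpecialLinearGroup.coe_mul]
    exact (Bm_sq c x y hxy).trans (Am_pow_eq_neg_one' c ξ hξ0 hξ2 hc n hξn).symm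
  · apply Subtype.ext
    rw [Matrix.SpecialLinearGroup.coe_mul, Matrix.SpecialLinearGroup.coe_mul]
    exact Am_Bm_Am c x y
  · intro k hk
    have : Am c ^ k = 1 := by
      have := congrArg Subtype.val hk
      rwa [Matrix.SpecialLinearGroup.coe_pow] at this
    exact hξ.dvd_of_pow_eq_one k ((Am_pow_eq_one_iff' c ξ hξ0 hξ2 hc k).mp this)

end Groth.Agent.S14849
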