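import Groth.Statements.S14856
import Mathlib

set_option autoImplicit false
universe u
open CAlg

namespace Groth.Agent.S14856

lemma ghost_formula (p : ℕ) [Fact p.Prime] (S : Type u) [CommRing S] (x : WittVector p S) (n : ℕ) :
    WittVector.ghostComponent n x =
      ∑ i ∈ Finset.range (n + 1), (p : S) ^ i * x.coeff i ^ (p ^ (n - i)) := by
  rw [WittVector.ghostComponent_apply, wittPolynomial_eq_sum_C_mul_X_pow, map_sum]
  refine Finset.sum_congr rfl fun i _ => ?_
  simp

lemma term_dvd (p : ℕ) [Fact p.Prime] (S : Type u) [CommRing S] (s : ℕ) (hs : 1 ≤ s) (n i : ℕ)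
    (hi : i ≤ n) (a : S) (ha : (p : S) ^ s ∣ a) :
    (p : S) ^ (n + s) ∣ (p : S) ^ i * a ^ (p ^ (n - i)) := by
  have hp : 1 < p := (Fact.out : p.Prime).one_lt
  have h1 : n - i < p ^ (n - i) := Nat.lt_pow_self hp
  have h2 : n + s ≤ i + s * p ^ (n - i) := by
    have : s * (n - i + 1) ≤ s * p ^ (n - i) := Nat.mul_le_mul_left s h1
    nlinarith [Nat.sub_add_cancel hi]
  calc (p : S) ^ (n + s) ∣ (p : S) ^ (i + s * p ^ (n - i)) := pow_dvd_pow _ h2
    _ = (p : S) ^ i * ((p : S) ^ s) ^ (p ^ (n - i)) := by rw [pow_add, pow_mul]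
    _ ∣ (p : S) ^ i * a ^ (p ^ (n - i)) := mul_dvd_mul_left _ (pow_dvd_pow_of_dvd ha _)

/-- Let p be a prime and S a commutative ring in which p is a non-zero-divisor. For a p-typical Witt
vector x over S, a natural number m and an integer s ≥ 1, the power p^s divides each of the Witt
components x_0, …, x_m if and only if p^(n+s) divides the n-th ghost component w_n(x) = x_0^(p^n) +
p x_1^(p^(n-1)) + ⋯ + p^n x_n for every n ≤ m. -/
theorem result (p : ℕ) [Fact p.Prime] (S : Type u) [CommRing S]
    (hS : ∀ y : S, (p : S) * y = 0 → y = 0) (x : WittVector p S) (m s : ℕ) (hs : 1 ≤ s) :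
    (∀ i ≤ m, (p : S) ^ s ∣ x.coeff i) ↔
      (∀ n ≤ m, (p : S) ^ (n + s) ∣ WittVector.ghostComponent n x) := by
  have hcancel : ∀ (k : ℕ) (y : S), (p : S) ^ k * y = 0 → y = 0 := by
    intro k
    induction k with
    | zero => intro y hy; simpa using hy
    | succ k ih =>
      intro y hy
      rw [pow_succ, mul_assoc] at hy
      exact hS y (ih _ hy)
  constructor
  · intro h n hn
    rw [ghost_formula]
    refine Finset.dvd_sum fun i hi => ?_
    rw [Finset.mem_range] at hi
    exact term_dvd p S s hs n i (by omega) _ (h i (by omega))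
  · intro h i
    induction i using Nat.strong_induction_on with
    | _ n ih =>
      intro hn
      have hw := h n hn
      rw [ghost_formula, Finset.sum_range_succ] at hw
      have hrest : (p : S) ^ (n + s) ∣
          ∑ i ∈ Finset.range n, (p : S) ^ i * x.coeff i ^ (p ^ (n - i)) := by
        refine Finset.dvd_sum fun i hi => ?_
        rw [Finset.mem_range] at hi
        exact term_dvd p S s hs n i (by omega) _ (ih i hi (by omega))
      have hlast : (p : S) ^ (n + s) ∣ (p : S) ^ n * x.coeff n ^ (p ^ (n - n)) :=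
        (dvd_add_right hrest).mp hw
      rw [Nat.sub_self, pow_zero, pow_one] at hlast
      obtain ⟨z, hz⟩ := hlast
      refine ⟨z, ?_⟩
      have : (p : S) ^ n * (x.coeff n - (p : S) ^ s * z) = 0 := by
        rw [mul_sub, hz, pow_add]; ring
      exact sub_eq_zero.mp (hcancel n _ this)

end Groth.Agent.S14856
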