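import Groth.Statements.S14859
import Groth.Agent.Lib.Helper8.Disp
import Mathlib
-- import your own Groth.Agent.* helpers here

set_option autoImplicit false
universe u v w
open Disp

namespace Groth.Agent.S14859

/-- Let p be a prime, R a commutative ring with p-typical Witt vectors W = W(R), and (P, Q, F, V⁻¹) a
3n-display over R with a normal decomposition P = L ⊕ T, Q = L + I_R·T. Then V⁻¹ ⊕ F : L ⊕ T → P is
a Frobenius-linear isomorphism; stated here in the case where L and T are free with bases (l_i) and
(t_j): the family consisting of the V⁻¹(l_i) and the F(t_j) is a basis of the W-module P, i.e. it is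
linearly independent over W and spans P. -/
theorem result (p : ℕ) [Fact p.Prime] (R : Type u) [CommRing R]
    (P : Type v) [AddCommGroup P] [Module (WittVector p R) P] (D : W4c1extbt610.Display3n p R P)
    (L T : Submodule (WittVector p R) P) (hLT : IsCompl L T)
    (hQ : D.Q = L ⊔ W4c1extbt610.IV p R • T) (hLQ : L ≤ D.Q)
    (ιL ιT : Type w) (bL : Module.Basis ιL (WittVector p R) L) (bT : Module.Basis ιT (WittVector p R) T) :
    LinearIndependent (WittVector p R)
        (Sum.elim (fun i : ιL => D.Vinv ⟨(bL i : P), hLQ (bL i).2⟩) (fun j : ιT => D.F (bT j : P))) ∧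
      Submodule.span (WittVector p R)
        (Set.range (Sum.elim (fun i : ιL => D.Vinv ⟨(bL i : P), hLQ (bL i).2⟩) (fun j : ιT => D.F (bT j : P)))) = ⊤ := by
  classical
  have hfin : Module.Finite (WittVector p R) P := D.finite
  have hspan : Submodule.span (WittVector p R)
      (Set.range (Sum.elim (fun i : ιL => D.Vinv ⟨(bL i : P), hLQ (bL i).2⟩) (fun j : ιT => D.F (bT j : P)))) = ⊤ := by
    apply Groth.Agent.H8.Disp.eq_top_of_normal D L T hQ hLQ (Set.range (fun i => (bL i : P)))
      (Set.range (fun j => (bT j : P)))
    case hsL =>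
      have h1 : (Set.range fun i => (bL i : P)) = L.subtype '' (Set.range bL) := by
        rw [← Set.range_comp]; rfl
      rw [h1, ← Submodule.map_span, bL.span_eq, Submodule.map_top, Submodule.range_subtype]
    case hsT =>
      have h1 : (Set.range fun i => (bT i : P)) = T.subtype '' (Set.range bT) := by
        rw [← Set.range_comp]; rfl
      rw [h1, ← Submodule.map_span, bT.span_eq, Submodule.map_top, Submodule.range_subtype]
    case hL =>
      rintro _ ⟨i, rfl⟩
      exact Submodule.subset_span ⟨Sum.inl i, rfl⟩
    case hT =>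
      rintro _ ⟨j, rfl⟩
      exact Submodule.subset_span ⟨Sum.inr j, rfl⟩
  refine ⟨?_, hspan⟩
  let b : Module.Basis (ιL ⊕ ιT) (WittVector p R) P :=
    (bL.prod bT).map (Submodule.prodEquivOfIsCompl L T hLT)
  let φ : P →ₗ[WittVector p R] P := b.constr (WittVector p R)
    (Sum.elim (fun i : ιL => D.Vinv ⟨(bL i : P), hLQ (bL i).2⟩) (fun j : ιT => D.F (bT j : P)))
  have hφsurj : Function.Surjective φ := by
    rw [← LinearMap.range_eq_top, Module.Basis.constr_range, hspan]
  have hφinj := OrzechProperty.injective_of_surjective_endomorphism φ hφsurj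
  have hv : (Sum.elim (fun i : ιL => D.Vinv ⟨(bL i : P), hLQ (bL i).2⟩) (fun j : ιT => D.F (bT j : P))) = φ ∘ b := by
    ext i
    rw [Function.comp_apply, Module.Basis.constr_basis]
  rw [hv]
  exact b.linearIndependent.map' φ (LinearMap.ker_eq_bot.mpr hφinj)

end Groth.Agent.S14859
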