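import Groth.Statements.S14864
import Mathlib

set_option autoImplicit false
universe u
open CAlg

namespace Groth.Agent.S14864

section
variable (p : ℕ) [Fact p.Prime] (R : Type u) [CommRing R]
open WittVector

lemma I_mul_I_le :
    (RingHom.ker (WittVector.constantCoeff : WittVector p R →+* R)) *
      (RingHom.ker (WittVector.constantCoeff : WittVector p R →+* R)) ≤
    Ideal.span {(p : WittVector p R)} *
      (RingHom.ker (WittVector.constantCoeff : WittVector p R →+* R)) := by
  rw [Ideal.mul_le]
  intro x hx y hy
  rw [RingHom.mem_ker] at hx hy
  have hx' : x = verschiebung (x.shift 1) := by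
    have := eq_iterate_verschiebung (x := x) (n := 1) (by
      intro i hi
      have : i = 0 := by omega
      subst this
      exact hx)
    simpa using this
  have hy' : y = verschiebung (y.shift 1) := by
    have := eq_iterate_verschiebung (x := y) (n := 1) (by
      intro i hi
      have : i = 0 := by omega
      subst this
      exact hy)
    simpa using this
  have key : x * y = (p : WittVector p R) * verschiebung (x.shift 1 * y.shift 1) := by
    conv_lhs => rw [hx', hy']
    have h1 := (verschiebung_mul_frobenius (x.shift 1) (verschiebung (y.shift 1))).symm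
    rw [h1, frobenius_verschiebung]
    have h2 : x.shift 1 * (y.shift 1 * (p : WittVector p R)) = p • (x.shift 1 * y.shift 1) := by
      rw [nsmul_eq_mul]; ring
    rw [h2, map_nsmul, nsmul_eq_mul]
  rw [key]
  refine Ideal.mul_mem_mul (Ideal.mem_span_singleton_self _) ?_
  rw [RingHom.mem_ker]
  exact verschiebung_coeff_zero (x.shift 1 * y.shift 1)

lemma I_pow_le (n : ℕ) :
    (RingHom.ker (WittVector.constantCoeff : WittVector p R →+* R)) ^ (n + 1) ≤
    Ideal.span {(p : WittVector p R)} ^ n *
      (RingHom.ker (WittVector.constantCoeff : WittVector p R →+* R)) := by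
  induction n with
  | zero => simp
  | succ n ih =>
    rw [pow_succ]
    refine (Ideal.mul_mono_left ih).trans ?_
    rw [mul_assoc, pow_succ, mul_assoc]
    exact Ideal.mul_mono_right (I_mul_I_le p R)

lemma iterate_frobenius_natCast_pow (k N : ℕ) :
    (frobenius^[k]) ((p : WittVector p R) ^ N) = (p : WittVector p R) ^ N := by
  induction k with
  | zero => rfl
  | succ k ih => rw [Function.iterate_succ_apply', ih, map_pow, map_natCast]

lemma p_pow_mem_ker_truncate (N : ℕ) (hN : (p : R) ^ N = 0) (k : ℕ) :
    (p : WittVector p R) ^ (N * k) ∈ RingHom.ker (WittVector.truncate (p := p) (R := R) k) := by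
  induction k with
  | zero =>
    rw [mem_ker_truncate]
    intro i hi
    omega
  | succ k ih =>
    rw [mem_ker_truncate] at ih ⊢
    have hx := eq_iterate_verschiebung ih
    rw [Nat.mul_succ, pow_add, hx, iterate_verschiebung_mul_left, iterate_frobenius_natCast_pow]
    have h0 : ((((p : WittVector p R) ^ (N * k)).shift k) * (p : WittVector p R) ^ N).coeff 0 = 0 := by
      have := map_mul (WittVector.constantCoeff : WittVector p R →+* R)
        (((p : WittVector p R) ^ (N * k)).shift k) ((p : WittVector p R) ^ N)
      rw [map_pow, map_natCast, hN, mul_zero] at this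
      exact this
    intro i hi
    rcases Nat.lt_succ_iff_lt_or_eq.mp hi with h | h
    · exact iterate_verschiebung_coeff_eq_zero _ h
    · subst h
      have := iterate_verschiebung_coeff
        ((((p : WittVector p R) ^ (N * i)).shift i) * (p : WittVector p R) ^ N) i 0
      rw [zero_add] at this
      rw [this, h0]
end

/-- Let p be a prime and R a commutative ring in which p is nilpotent; write W = W(R) for the p-typical
Witt vectors, I ⊆ W for the kernel of the projection onto the zeroth component, and I_n ⊆ W for the
kernel of the truncation W → W_n(R). The p-adic topology on W equals its I-adic topology — every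
power of the ideal pW contains some power of I and every power of I contains some power of pW — and
this common topology is finer than the V-adic one: every I_n contains some power of pW. -/
theorem result (p : ℕ) [Fact p.Prime] (R : Type u) [CommRing R]
    (hp : IsNilpotent (p : R)) :
    (∀ n : ℕ, ∃ m : ℕ, (RingHom.ker (WittVector.constantCoeff : WittVector p R →+* R)) ^ m ≤ Ideal.span {(p : WittVector p R)} ^ n) ∧
      (∀ n : ℕ, ∃ m : ℕ, Ideal.span {(p : WittVector p R)} ^ m ≤ (RingHom.ker (WittVector.constantCoeff : WittVector p R →+* R)) ^ n) ∧
        ∀ n : ℕ, ∃ m : ℕ, Ideal.span {(p : WittVector p R)} ^ m ≤ RingHom.ker (WittVector.truncate (p := p) (R := R) n) := by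
  obtain ⟨N, hN⟩ := hp
  refine ⟨fun n => ⟨n + 1, (I_pow_le p R n).trans Ideal.mul_le_left⟩, fun n => ⟨N * n, ?_⟩,
    fun n => ⟨N * n, ?_⟩⟩
  · rw [pow_mul]
    apply Ideal.pow_right_mono
    rw [Ideal.span_singleton_pow, Ideal.span_singleton_le_iff_mem, RingHom.mem_ker, map_pow,
      map_natCast, hN]
  · rw [Ideal.span_singleton_pow, Ideal.span_singleton_le_iff_mem]
    exact p_pow_mem_ker_truncate p R N hN n

end Groth.Agent.S14864
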