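import Groth.Statements.S14869
import Mathlib

set_option autoImplicit false
universe u v w
open CAlg

namespace Groth.Agent.S14869

open TensorProduct in
/-- Let S → R be a surjective homomorphism of commutative rings, let π : P_1 → P_2 be a surjective
homomorphism of S-modules with P_2 projective, and let π̄ : R ⊗_S P_1 → R ⊗_S P_2 be its base
change. Then every R-linear section σ̄ of π̄ lifts to a section of π: there is an S-linear map σ :
P_2 → P_1 with π ∘ σ = id whose base change R ⊗_S σ is σ̄. -/
theorem result (S R : Type u) [CommRing S] [CommRing R] [Algebra S R]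
    (hSR : Function.Surjective (algebraMap S R))
    (P₁ : Type v) [AddCommGroup P₁] [Module S P₁]
    (P₂ : Type w) [AddCommGroup P₂] [Module S P₂] [Module.Projective S P₂]
    (π : P₁ →ₗ[S] P₂) (hπ : Function.Surjective π)
    (σ' : R ⊗[S] P₂ →ₗ[R] R ⊗[S] P₁) (hσ' : (π.baseChange R).comp σ' = LinearMap.id) :
    ∃ σ : P₂ →ₗ[S] P₁, π.comp σ = LinearMap.id ∧ σ.baseChange R = σ' := by
  obtain ⟨σ₀, hσ₀⟩ := Module.projective_lifting_property π LinearMap.id hπ
  have hmk : Function.Surjective (TensorProduct.mk S R P₁ 1) :=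
    TensorProduct.mk_surjective S P₁ R hSR
  obtain ⟨δ, hδdef⟩ : ∃ δ : R ⊗[S] P₂ →ₗ[R] R ⊗[S] P₁, δ = σ' - σ₀.baseChange R := ⟨_, rfl⟩
  obtain ⟨μ, hμ⟩ := Module.projective_lifting_property (TensorProduct.mk S R P₁ 1)
    ((δ.restrictScalars S).comp (TensorProduct.mk S R P₂ 1)) hmk
  have hμ' : μ.baseChange R = δ := by
    apply TensorProduct.AlgebraTensorModule.curry_injective
    ext x
    have := LinearMap.congr_fun hμ x
    simpa using this
  have hδ : (π.baseChange R).comp δ = 0 := by
    rw [hδdef, LinearMap.comp_sub, hσ', ← LinearMap.baseChange_comp, hσ₀,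
      LinearMap.baseChange_id]
    ext x
    simp
  have hπτ : π.comp ((LinearMap.id - σ₀.comp π).comp μ) = 0 := by
    rw [← LinearMap.comp_assoc, LinearMap.comp_sub, LinearMap.comp_id, ← LinearMap.comp_assoc,
      hσ₀, LinearMap.id_comp]
    ext x
    simp
  have hτ' : ((LinearMap.id - σ₀.comp π).comp μ).baseChange R = δ := by
    rw [LinearMap.baseChange_comp, LinearMap.baseChange_sub, LinearMap.baseChange_id, hμ',
      LinearMap.baseChange_comp, LinearMap.sub_comp, LinearMap.id_comp, LinearMap.comp_assoc, hδ,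
      LinearMap.comp_zero]
    ext x
    simp
  refine ⟨σ₀ + (LinearMap.id - σ₀.comp π).comp μ, ?_, ?_⟩
  · rw [LinearMap.comp_add, hσ₀, hπτ, add_zero]
  · rw [LinearMap.baseChange_add, hτ', hδdef]
    abel

end Groth.Agent.S14869
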