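import Groth.Statements.S14882
import Mathlib
-- import your own Groth.Agent.* helpers here

set_option autoImplicit false
universe u
open CategoryTheory MonoidalCategory CartesianMonoidalCategory MonObj GrpObj AlgebraicGeometry CategoryTheory.Limits
open AlgGrp

namespace Groth.Agent.S14882

/-- Over an algebraically closed field k of characteristic zero, let G be an algebraic group (a smooth
k-group scheme of finite type), X a variety (reduced, separated, of finite type over k) and Γ a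
finite group acting on X on the right (x ↦ x·σ, with x·(στ) = (x·σ)·τ). Let φ and φ' be 1-cocycles Γ
→ G(X), φ_{στ} = φ_σ · (φ_τ ∘ (·σ)), with attached Γ-linearizations of X × G given on points by
λ_σ(x, g) = (x·σ, φ_σ(x)⁻¹·g) and λ'_σ(x, g) = (x·σ, φ'_σ(x)⁻¹·g). Then the two Γ-linearized trivial
bundles are isomorphic, meaning that there is an automorphism Φ of X × G over X, commuting with the
action of G by right multiplication, with Φ ∘ λ_σ = λ'_σ ∘ Φ for every σ, if and only if the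
cocycles are cohomologous: there is ψ in G(X) with φ_σ = ψ⁻¹ · φ'_σ · (ψ ∘ (·σ)) for every σ. Hence
isomorphism classes of Γ-linearizations of the trivial bundle correspond to H¹(Γ, G(X)). -/
theorem result (k : Type u) [Field k] [IsAlgClosed k] [CharZero k]
    (G X : Over (Spec (CommRingCat.of k))) [GrpObj G] [Smooth G.hom] [QuasiCompact G.hom]
    [LocallyOfFiniteType X.hom] [QuasiCompact X.hom] [IsSeparated X.hom] [IsReduced X.left]
    (Γ : Type) [Group Γ] [Finite Γ] (ρ : Γ → (X ⟶ X)) (hρ₁ : ρ 1 = 𝟙 X) (hρ : ∀ σ τ : Γ, ρ (σ * τ) = ρ σ ≫ ρ τ)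
    (φ φ' : Γ → (X ⟶ G)) (hφ : ∀ σ τ : Γ, φ (σ * τ) = φ σ * (ρ σ ≫ φ τ))
    (hφ' : ∀ σ τ : Γ, φ' (σ * τ) = φ' σ * (ρ σ ≫ φ' τ))
    (lam lam' : Γ → (X ⊗ G ⟶ X ⊗ G))
    (hlam : ∀ (σ : Γ) (T : Over (Spec (CommRingCat.of k))) (x : T ⟶ X) (g : T ⟶ G),
      lift x g ≫ lam σ = lift (x ≫ ρ σ) ((x ≫ φ σ)⁻¹ * g))
    (hlam' : ∀ (σ : Γ) (T : Over (Spec (CommRingCat.of k))) (x : T ⟶ X) (g : T ⟶ G),
      lift x g ≫ lam' σ = lift (x ≫ ρ σ) ((x ≫ φ' σ)⁻¹ * g)) :
    (∃ Φ : X ⊗ G ⟶ X ⊗ G, IsIso Φ ∧ Φ ≫ fst X G = fst X G ∧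
      (∀ (T : Over (Spec (CommRingCat.of k))) (x : T ⟶ X) (g h : T ⟶ G),
        lift x (g * h) ≫ Φ ≫ snd X G = (lift x g ≫ Φ ≫ snd X G) * h) ∧
      ∀ σ : Γ, lam σ ≫ Φ = Φ ≫ lam' σ) ↔
    ∃ ψ : X ⟶ G, ∀ σ : Γ, φ σ = ψ⁻¹ * φ' σ * (ρ σ ≫ ψ) := by
  have hx1 : ∀ (T : Over (Spec (CommRingCat.of k))) (x : T ⟶ X),
      lift x (1 : T ⟶ G) = x ≫ lift (𝟙 X) 1 := by
    intro T x
    apply CartesianMonoidalCategory.hom_ext
    · simp
    · simp
  constructor
  · rintro ⟨Φ, -, h₁, h₂, hcomm⟩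
    obtain ⟨ψ, hψ⟩ : ∃ ψ : X ⟶ G, ψ = lift (𝟙 X) 1 ≫ Φ ≫ snd X G := ⟨_, rfl⟩
    have hform : ∀ (T : Over (Spec (CommRingCat.of k))) (x : T ⟶ X) (g : T ⟶ G),
        lift x g ≫ Φ = lift x ((x ≫ ψ) * g) := by
      intro T x g
      apply CartesianMonoidalCategory.hom_ext
      · rw [Category.assoc, h₁, lift_fst, lift_fst]
      · rw [Category.assoc, lift_snd]
        have h := h₂ T x 1 g
        rw [_root_.one_mul] at h
        rw [h, hx1, hψ, Category.assoc]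
    refine ⟨ψ, fun σ => ?_⟩
    have h1 := congrArg (fun z => lift (𝟙 X) (1 : X ⟶ G) ≫ z ≫ snd X G) (hcomm σ)
    simp only [Category.assoc] at h1
    rw [← Category.assoc (lift (𝟙 X) 1) (lam σ), hlam, ← Category.assoc _ Φ, hform, lift_snd,
      ← Category.assoc (lift (𝟙 X) 1) Φ, hform, ← Category.assoc _ (lam' σ), hlam', lift_snd] at h1
    simp only [Category.id_comp, _root_.mul_one] at h1
    -- h1 : (ρ σ ≫ ψ) * (φ σ)⁻¹ = (φ' σ)⁻¹ * ψ
    have h2 : φ σ = ψ⁻¹ * φ' σ * (ρ σ ≫ ψ) := by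
      have h3 : (φ σ)⁻¹ = (ρ σ ≫ ψ)⁻¹ * ((φ' σ)⁻¹ * ψ) := by
        rw [← h1, inv_mul_cancel_left]
      have h4 := congrArg (fun z => z⁻¹) h3
      simp only [_root_.inv_inv, _root_.mul_inv_rev] at h4
      rw [h4, _root_.mul_assoc]
    exact h2
  · rintro ⟨ψ, hψ⟩
    obtain ⟨Φ, hΦdef⟩ : ∃ Φ : X ⊗ G ⟶ X ⊗ G, Φ = lift (fst X G) ((fst X G ≫ ψ) * snd X G) :=
      ⟨_, rfl⟩
    obtain ⟨Ψ, hΨdef⟩ : ∃ Ψ : X ⊗ G ⟶ X ⊗ G, Ψ = lift (fst X G) ((fst X G ≫ ψ)⁻¹ * snd X G) :=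
      ⟨_, rfl⟩
    have hΦ : ∀ (T : Over (Spec (CommRingCat.of k))) (x : T ⟶ X) (g : T ⟶ G),
        lift x g ≫ Φ = lift x ((x ≫ ψ) * g) := by
      intro T x g
      rw [hΦdef]
      apply CartesianMonoidalCategory.hom_ext
      · rw [Category.assoc, lift_fst, lift_fst, lift_fst]
      · rw [Category.assoc, lift_snd, lift_snd, MonObj.comp_mul, ← Category.assoc, lift_fst,
          lift_snd]
    have hΨ : ∀ (T : Over (Spec (CommRingCat.of k))) (x : T ⟶ X) (g : T ⟶ G),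
        lift x g ≫ Ψ = lift x ((x ≫ ψ)⁻¹ * g) := by
      intro T x g
      rw [hΨdef]
      apply CartesianMonoidalCategory.hom_ext
      · rw [Category.assoc, lift_fst, lift_fst, lift_fst]
      · rw [Category.assoc, lift_snd, lift_snd, MonObj.comp_mul, GrpObj.comp_inv,
          ← Category.assoc, lift_fst, lift_snd]
    have huniv : ∀ (A B : X ⊗ G ⟶ X ⊗ G),
        (∀ (T : Over (Spec (CommRingCat.of k))) (x : T ⟶ X) (g : T ⟶ G),
          lift x g ≫ A = lift x g ≫ B) → A = B := by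
      intro A B h
      have := h (X ⊗ G) (fst X G) (snd X G)
      rwa [lift_fst_snd, Category.id_comp, Category.id_comp] at this
    refine ⟨Φ, ⟨⟨Ψ, ?_, ?_⟩⟩, ?_, ?_, ?_⟩
    · apply huniv
      intro T x g
      rw [← Category.assoc, hΦ, hΨ, inv_mul_cancel_left, Category.comp_id]
    · apply huniv
      intro T x g
      rw [← Category.assoc, hΨ, hΦ, mul_inv_cancel_left, Category.comp_id]
    · rw [hΦdef, lift_fst]
    · intro T x g h
      rw [← Category.assoc, hΦ, lift_snd, ← Category.assoc, hΦ, lift_snd, _root_.mul_assoc]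
    · intro σ
      apply huniv
      intro T x g
      rw [← Category.assoc, hlam, hΦ, ← Category.assoc, hΦ, hlam']
      congr 1
      rw [hψ σ, MonObj.comp_mul, MonObj.comp_mul, GrpObj.comp_inv, Category.assoc]
      group

end Groth.Agent.S14882
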