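import Groth.Statements.S1489
import Groth.Agent.Lib.Helper5.Thick.FEtHom2

set_option autoImplicit false
universe u
open FlatMor

namespace Groth.Agent.S1489

open AlgebraicGeometry CategoryTheory Limits in
/-- A morphism f : X → S is étale if and only if it is locally of finite presentation and formally
étale, i.e. has the unique lifting property against first order thickenings of affine schemes (rings
in the same universe). -/
theorem result {X S : Scheme.{u}} (f : X ⟶ S) :
    Etale f ↔ LocallyOfFinitePresentation f ∧ MoreMor.IsFormallyEtaleHom f := by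
  constructor
  · intro hf
    refine ⟨⟨fun {U} hU {V} hV e => ?_⟩, ?_⟩
    · have h1 := hf.etale_appLE hU hV e
      letI := (f.appLE U V e).hom.toAlgebra
      have h2 : Algebra.Etale Γ(S, U) Γ(X, V) := h1
      exact (h2.finitePresentation : Algebra.FinitePresentation Γ(S, U) Γ(X, V))
    · apply Groth.Agent.H5.Thick.isFormallyEtaleHom_of_formallyEtale_appLE
      intro V U hV hU e
      have h1 := hf.etale_appLE hU hV e
      letI := (f.appLE U V e).hom.toAlgebra
      have h2 : Algebra.Etale Γ(S, U) Γ(X, V) := h1
      exact (h2.formallyEtale : Algebra.FormallyEtale Γ(S, U) Γ(X, V))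
  · rintro ⟨hfp, hfe⟩
    refine ⟨fun {U} hU {V} hV e => ?_⟩
    have h1 := hfp.finitePresentation_appLE hU hV e
    have h2 := Groth.Agent.H5.Thick.formallyEtale_appLE_of_isFormallyEtaleHom f hfe V U hV hU e
    letI := (f.appLE U V e).hom.toAlgebra
    have h1' : Algebra.FinitePresentation Γ(S, U) Γ(X, V) := h1
    have h2' : Algebra.FormallyEtale Γ(S, U) Γ(X, V) := h2
    exact (⟨h2', h1'⟩ : Algebra.Etale Γ(S, U) Γ(X, V))

end Groth.Agent.S1489
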