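import Groth.Statements.S14913
import Mathlib
import Groth.Agent.H4.PerfAWN
import Groth.Agent.H4.UHFactor

set_option autoImplicit false
universe u
open CategoryTheory AlgebraicGeometry
open PerfSch

namespace Groth.Agent.S14913

open CategoryTheory CategoryTheory.Limits AlgebraicGeometry TensorProduct
open Groth.Agent.H4.PerfAWN Groth.Agent.H4.UHFactor


lemma quasiCompact_of_comp_surjective {X Y Z : Scheme.{u}} (g : X ⟶ Y) (f : Y ⟶ Z)
    [QuasiCompact (g ≫ f)] [Surjective g] : QuasiCompact f := by
  refine ⟨fun U hU hc => ?_⟩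
  have h1 : IsCompact ((g ≫ f) ⁻¹' U) := QuasiCompact.isCompact_preimage (f := g ≫ f) U hU hc
  have h2 : f ⁻¹' U = g '' ((g ≫ f) ⁻¹' U) := by
    ext y
    constructor
    · intro hy
      obtain ⟨x, rfl⟩ := g.surjective y
      exact ⟨x, hy, rfl⟩
    · rintro ⟨x, hx, rfl⟩
      exact hx
  rw [h2]
  exact h1.image g.continuous

/-- Let p be a prime and let X, Y, X', Y' be schemes of characteristic p (p = 0 in the structure sheaf).
Let π_X : X' ⟶ X and π_Y : Y' ⟶ Y be perfections: X' is perfect (its absolute Frobenius is an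
isomorphism) and every morphism from a perfect scheme of characteristic p to X factors uniquely
through π_X, and likewise for π_Y. Let f : X ⟶ Y be a morphism and f' : X' ⟶ Y' the induced morphism
of perfections, the one with f' ≫ π_Y = π_X ≫ f. Then f is quasi-compact if and only if f' is
quasi-compact. -/
theorem result (p : ℕ) [Fact p.Prime] {X Y XP YP : Scheme.{u}}
    [FrobSch.IsCharP X p] [FrobSch.IsCharP Y p] [FrobSch.IsCharP XP p] [FrobSch.IsCharP YP p]
    (πX : XP ⟶ X) (πY : YP ⟶ Y) (hX : FrobSch.IsPerfection πX p) (hY : FrobSch.IsPerfection πY p)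
    (f : X ⟶ Y) (fP : XP ⟶ YP) (w : fP ≫ πY = πX ≫ f) :
    AlgebraicGeometry.QuasiCompact f ↔ AlgebraicGeometry.QuasiCompact fP := by
  have hπX := (uh_of_isPerfection p πX hX).1
  have hπY := (uh_of_isPerfection p πY hY).1
  haveI := uh_integral πX hπX
  haveI := uh_integral πY hπY
  haveI := uh_surj πX hπX
  constructor
  · intro hf
    have h1 : QuasiCompact (fP ≫ πY) := by
      rw [w]; infer_instance
    exact MorphismProperty.of_postcomp (W := @QuasiCompact) (W' := @QuasiSeparated) fP πY
      inferInstance h1
  · intro hfP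
    haveI : QuasiCompact (πX ≫ f) := by
      rw [← w]; infer_instance
    exact quasiCompact_of_comp_surjective πX f


end Groth.Agent.S14913
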