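import Groth.Statements.S14914
import Mathlib
import Groth.Agent.H4.PerfAWN
import Groth.Agent.H4.UHFactor

set_option autoImplicit false
universe u
open CategoryTheory AlgebraicGeometry
open PerfSch

namespace Groth.Agent.S14914

open CategoryTheory CategoryTheory.Limits AlgebraicGeometry TensorProduct
open Groth.Agent.H4.PerfAWN Groth.Agent.H4.UHFactor Groth.Agent.H4.AWNSch2


lemma quasiSeparated_of_comp_uh {X Y Z : Scheme.{u}} (g : X ⟶ Y) (f : Y ⟶ Z)
    (hg : FlatMor.IsUnivHomeo g) [h : QuasiSeparated (g ≫ f)] : QuasiSeparated f := by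
  refine HasAffineProperty.of_iSup_eq_top (P := @QuasiSeparated)
    (fun U : Z.affineOpens => U) (iSup_affineOpens_eq_top Z) fun U => ?_
  have h1 : QuasiSeparatedSpace ↥((g ≫ f) ⁻¹ᵁ U.1) :=
    HasAffineProperty.restrict (P := @QuasiSeparated) h U
  have h2 : FlatMor.IsUnivHomeo (g ∣_ (f ⁻¹ᵁ U.1)) := IsZariskiLocalAtTarget.restrict hg _
  have h3 : IsHomeomorph (g ∣_ (f ⁻¹ᵁ U.1)) := h2 _ _ _ IsPullback.of_id_snd
  show QuasiSeparatedSpace ↥(f ⁻¹ᵁ U.1)
  exact (quasiSeparatedSpace_congr h3.homeomorph).mp h1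

/-- Let p be a prime and let X, Y, X', Y' be schemes of characteristic p (p = 0 in the structure sheaf).
Let π_X : X' ⟶ X and π_Y : Y' ⟶ Y be perfections: X' is perfect (its absolute Frobenius is an
isomorphism) and every morphism from a perfect scheme of characteristic p to X factors uniquely
through π_X, and likewise for π_Y. Let f : X ⟶ Y be a morphism and f' : X' ⟶ Y' the induced morphism
of perfections, the one with f' ≫ π_Y = π_X ≫ f. Then f is quasi-separated if and only if f' is
quasi-separated. -/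
theorem result (p : ℕ) [Fact p.Prime] {X Y XP YP : Scheme.{u}}
    [FrobSch.IsCharP X p] [FrobSch.IsCharP Y p] [FrobSch.IsCharP XP p] [FrobSch.IsCharP YP p]
    (πX : XP ⟶ X) (πY : YP ⟶ Y) (hX : FrobSch.IsPerfection πX p) (hY : FrobSch.IsPerfection πY p)
    (f : X ⟶ Y) (fP : XP ⟶ YP) (w : fP ≫ πY = πX ≫ f) :
    AlgebraicGeometry.QuasiSeparated f ↔ AlgebraicGeometry.QuasiSeparated fP := by
  have hπX := (uh_of_isPerfection p πX hX).1
  have hπY := (uh_of_isPerfection p πY hY).1
  haveI := uh_integral πX hπX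
  haveI := uh_integral πY hπY
  constructor
  · intro hf
    have h1 : QuasiSeparated (fP ≫ πY) := by
      rw [w]; infer_instance
    exact MorphismProperty.of_postcomp (W := @QuasiSeparated) (W' := ⊤) fP πY trivial h1
  · intro hfP
    haveI : QuasiSeparated (πX ≫ f) := by
      rw [← w]; infer_instance
    exact quasiSeparated_of_comp_uh πX f hπX


end Groth.Agent.S14914
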