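import Groth.Statements.S14916
import Mathlib
import Groth.Agent.H4.PerfAWN
import Groth.Agent.H4.UHFactor

set_option autoImplicit false
universe u
open CategoryTheory AlgebraicGeometry
open PerfSch

namespace Groth.Agent.S14916

open CategoryTheory CategoryTheory.Limits AlgebraicGeometry TensorProduct
open Groth.Agent.H4.PerfAWN Groth.Agent.H4.UHFactor Groth.Agent.H4.AWNSch2


lemma diag_map {X Y Z : Scheme.{u}} (g : X ⟶ Y) (f : Y ⟶ Z)
    (h₁ : (g ≫ f) ≫ 𝟙 Z = g ≫ f) (h₂ : (g ≫ f) ≫ 𝟙 Z = g ≫ f) :
    pullback.diagonal (g ≫ f) ≫ pullback.map (g ≫ f) (g ≫ f) f f g g (𝟙 Z) h₁ h₂ =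
      g ≫ pullback.diagonal f := by
  apply pullback.hom_ext
  · rw [Category.assoc, Category.assoc, pullback.lift_fst, ← Category.assoc,
      pullback.diagonal_fst, Category.id_comp, pullback.diagonal_fst, Category.comp_id]
  · rw [Category.assoc, Category.assoc, pullback.lift_snd, ← Category.assoc,
      pullback.diagonal_snd, Category.id_comp, pullback.diagonal_snd, Category.comp_id]

lemma isSeparated_of_comp_uh {X Y Z : Scheme.{u}} (g : X ⟶ Y) (f : Y ⟶ Z)
    (hg : FlatMor.IsUnivHomeo g) [h : IsSeparated (g ≫ f)] : IsSeparated f := by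
  have hm : FlatMor.IsUnivHomeo (pullback.map (g ≫ f) (g ≫ f) f f g g (𝟙 Z)
      ((Category.comp_id _).trans rfl) ((Category.comp_id _).trans rfl)) :=
    MorphismProperty.pullbackMap (P := FlatMor.IsUnivHomeo.{u}) hg hg rfl rfl
  have hcomm : pullback.diagonal (g ≫ f) ≫ pullback.map (g ≫ f) (g ≫ f) f f g g (𝟙 Z)
      ((Category.comp_id _).trans rfl) ((Category.comp_id _).trans rfl) =
      g ≫ pullback.diagonal f := by
    exact diag_map g f _ _
  have hhomeo : IsHomeomorph (pullback.map (g ≫ f) (g ≫ f) f f g g (𝟙 Z)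
      ((Category.comp_id _).trans rfl) ((Category.comp_id _).trans rfl)) :=
    hm _ _ _ IsPullback.of_id_snd
  haveI := uh_surj g hg
  have hrange : Set.range (pullback.diagonal f) =
      (pullback.map (g ≫ f) (g ≫ f) f f g g (𝟙 Z)
        ((Category.comp_id _).trans rfl) ((Category.comp_id _).trans rfl)) ''
        Set.range (pullback.diagonal (g ≫ f)) := by
    ext z
    constructor
    · rintro ⟨y, rfl⟩
      obtain ⟨x, rfl⟩ := g.surjective y
      refine ⟨pullback.diagonal (g ≫ f) x, ⟨x, rfl⟩, ?_⟩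
      rw [← Scheme.Hom.comp_apply, hcomm, Scheme.Hom.comp_apply]
    · rintro ⟨_, ⟨x, rfl⟩, rfl⟩
      refine ⟨g x, ?_⟩
      rw [← Scheme.Hom.comp_apply, ← hcomm, Scheme.Hom.comp_apply]
  constructor
  apply IsClosedImmersion.of_isPreimmersion
  rw [hrange]
  exact hhomeo.isClosedMap _ (pullback.diagonal (g ≫ f)).isClosedEmbedding.isClosed_range

/-- Let p be a prime and let X, Y, X', Y' be schemes of characteristic p (p = 0 in the structure sheaf).
Let π_X : X' ⟶ X and π_Y : Y' ⟶ Y be perfections: X' is perfect (its absolute Frobenius is an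
isomorphism) and every morphism from a perfect scheme of characteristic p to X factors uniquely
through π_X, and likewise for π_Y. Let f : X ⟶ Y be a morphism and f' : X' ⟶ Y' the induced morphism
of perfections, the one with f' ≫ π_Y = π_X ≫ f. Then f is separated if and only if f' is separated. -/
theorem result (p : ℕ) [Fact p.Prime] {X Y XP YP : Scheme.{u}}
    [FrobSch.IsCharP X p] [FrobSch.IsCharP Y p] [FrobSch.IsCharP XP p] [FrobSch.IsCharP YP p]
    (πX : XP ⟶ X) (πY : YP ⟶ Y) (hX : FrobSch.IsPerfection πX p) (hY : FrobSch.IsPerfection πY p)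
    (f : X ⟶ Y) (fP : XP ⟶ YP) (w : fP ≫ πY = πX ≫ f) :
    AlgebraicGeometry.IsSeparated f ↔ AlgebraicGeometry.IsSeparated fP := by
  have hπX := (uh_of_isPerfection p πX hX).1
  have hπY := (uh_of_isPerfection p πY hY).1
  haveI := uh_integral πX hπX
  haveI := uh_integral πY hπY
  constructor
  · intro hf
    have h1 : IsSeparated (fP ≫ πY) := by
      rw [w]; infer_instance
    exact MorphismProperty.of_postcomp (W := @IsSeparated) (W' := ⊤) fP πY trivial h1
  · intro hfP
    haveI : IsSeparated (πX ≫ f) := by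
      rw [← w]; infer_instance
    exact isSeparated_of_comp_uh πX f hπX


end Groth.Agent.S14916
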