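import Groth.Statements.S7424
import Mathlib
import Groth.Agent.H4.AWNSch2

set_option autoImplicit false
universe u
open CategoryTheory AlgebraicGeometry
open HTop

namespace Groth.Agent.S7424

open CategoryTheory CategoryTheory.Limits AlgebraicGeometry TensorProduct
open Groth.Agent.H4.AWNSch Groth.Agent.H4.AWNSch2


/-- the glued scheme of absolute weak normalizations of the affine opens is an absolute weak
normalization: it is a universal homeomorphism, it is absolutely weakly normal, and maps from
absolutely weakly normal schemes lift uniquely along universal homeomorphisms -/
theorem isAWNormalization_awnToBase (X : Scheme.{u}) : HTop.IsAWNormalization (awnToBase X) :=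
  ⟨uh_awnToBase X, fun _ π hπ => existsUnique_lift (isAWN_awnSch X) π hπ (awnToBase X)⟩

/-- Every scheme `X` has an absolute weak normalization `X^awn → X`: a universal homeomorphism to `X`
which is initial among universal homeomorphisms with target `X`. -/
theorem result (X : Scheme.{u}) :
    ∃ (X' : Scheme.{u}) (ν : X' ⟶ X), HTop.IsAWNormalization ν := by
  exact ⟨awnSch X, awnToBase X, isAWNormalization_awnToBase X⟩


end Groth.Agent.S7424
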