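import Groth.Statements.S7425
import Mathlib
import Groth.Agent.H4.AWNSch2
import Groth.Agent.S7424

set_option autoImplicit false
universe u
open CategoryTheory AlgebraicGeometry
open HTop

namespace Groth.Agent.S7425

open CategoryTheory CategoryTheory.Limits AlgebraicGeometry TensorProduct
open Groth.Agent.H4.AWNSch Groth.Agent.H4.AWNSch2


/-- the source of any absolute weak normalization is absolutely weakly normal -/
lemma isAWN_of_isAWNormalization {X X' : Scheme.{u}} (ν : X' ⟶ X)
    (hν : HTop.IsAWNormalization ν) : HTop.IsAWN X' := by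
  have h0 := Groth.Agent.S7424.isAWNormalization_awnToBase X
  obtain ⟨a, ha, -⟩ := hν.2 _ (awnToBase X) h0.1
  obtain ⟨b, hb, -⟩ := h0.2 _ ν hν.1
  have ha : a ≫ awnToBase X = ν := ha
  have hb : b ≫ ν = awnToBase X := hb
  have hab : a ≫ b = 𝟙 X' := by
    apply (hν.2 _ ν hν.1).unique
    · show (a ≫ b) ≫ ν = ν
      rw [Category.assoc, hb, ha]
    · exact Category.id_comp _
  have hba : b ≫ a = 𝟙 _ := by
    apply (h0.2 _ (awnToBase X) h0.1).unique
    · show (b ≫ a) ≫ awnToBase X = awnToBase X
      rw [Category.assoc, ha, hb]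
    · exact Category.id_comp _
  haveI : IsIso a := ⟨b, hab, hba⟩
  exact isAWN_of_isOpenImmersion a (isAWN_awnSch X)

/-- Let `ν : X^awn → X` be an absolute weak normalization and `π : Y → X` a universal homeomorphism.
Then `Y` is absolutely weakly normal exactly when the induced morphism `h : X^awn → Y` over `X` is
an isomorphism. -/
theorem result {X X' Y : Scheme.{u}} (ν : X' ⟶ X)
    (hν : HTop.IsAWNormalization ν) (π : Y ⟶ X) (hπ : FlatMor.IsUnivHomeo π) (h : X' ⟶ Y) (hh : h ≫ π = ν) :
    IsIso h ↔ HTop.IsAWN Y := by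
  constructor
  · intro hi
    exact isAWN_of_isOpenImmersion (inv h) (isAWN_of_isAWNormalization ν hν)
  · intro hY
    obtain ⟨s, hs, -⟩ := existsUnique_lift hY ν hν.1 π
    have hs : s ≫ ν = π := hs
    have h1 : h ≫ s = 𝟙 X' := by
      apply (hν.2 _ ν hν.1).unique
      · show (h ≫ s) ≫ ν = ν
        rw [Category.assoc, hs, hh]
      · exact Category.id_comp _
    have h2 : s ≫ h = 𝟙 Y := by
      apply lift_unique hY π hπ
      rw [Category.assoc, hh, hs, Category.id_comp]
    exact ⟨s, h1, h2⟩


end Groth.Agent.S7425
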