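import Groth.Statements.S7426
import Mathlib
import Groth.Agent.H4.AWNSch2
import Groth.Agent.S7424
import Groth.Agent.S7425
import Groth.Agent.S7421
import Groth.Agent.Lib.Helper1.UnivHomeoMore

set_option autoImplicit false
universe u
open CategoryTheory AlgebraicGeometry
open HTop

namespace Groth.Agent.S7426

open CategoryTheory CategoryTheory.Limits AlgebraicGeometry TensorProduct
open Groth.Agent.H4.AWNSch Groth.Agent.H4.AWNSch2


lemma uh_id (X : Scheme.{u}) : FlatMor.IsUnivHomeo (𝟙 X) :=
  MorphismProperty.id_mem _ _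

lemma isSeminormal_of_isAWN {X : Scheme.{u}} (h : HTop.IsAWN X) : HTop.IsSeminormal X := by
  intro x
  obtain ⟨U, hxU, hU⟩ := h x
  exact ⟨U, hxU, hU.1⟩

lemma isReduced_of_isAWN {X : Scheme.{u}} (h : HTop.IsAWN X) : AlgebraicGeometry.IsReduced X :=
  Groth.Agent.S7421.result.2 X (isSeminormal_of_isAWN h)

/-- a universal homeomorphism from a reduced scheme onto an absolutely weakly normal scheme is an
isomorphism -/
lemma isIso_of_isAWN {X Y : Scheme.{u}} (hX : HTop.IsAWN X) (π : Y ⟶ X)
    (hπ : FlatMor.IsUnivHomeo π) [AlgebraicGeometry.IsReduced Y] : IsIso π := by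
  obtain ⟨s, hs, -⟩ := existsUnique_lift hX π hπ (𝟙 X)
  have hs : s ≫ π = 𝟙 X := hs
  have hsUH : FlatMor.IsUnivHomeo s :=
    (Groth.Agent.H1.isUnivHomeo_two_out_of_three s π).2 (by rw [hs]; exact uh_id X) hπ
  haveI : Surjective s := by
    rw [Groth.Agent.H1.isUnivHomeo_eq] at hsUH
    exact hsUH.2
  haveI : IsIntegralHom π := ((Groth.Agent.H1.isUnivHomeo_iff_integral π).mp hπ).1
  have h2 : π ≫ s = 𝟙 Y := by
    apply ext_of_isDominant_of_isSeparated π _ s
    · rw [← Category.assoc, hs, Category.id_comp, Category.comp_id]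
    · rw [Category.assoc, hs, Category.comp_id, Category.id_comp]
  exact ⟨s, h2, hs⟩

/-- For a scheme `X` the following are equivalent: `X` is absolutely weakly normal; `X^awn → X` is an
isomorphism (equivalently, the identity of `X` is an absolute weak normalization); every universal
homeomorphism `Y → X` with `Y` reduced is an isomorphism. -/
theorem result (X : Scheme.{u}) :
    (HTop.IsAWN X ↔ HTop.IsAWNormalization (𝟙 X)) ∧
    (HTop.IsAWN X ↔ ∀ (Y : Scheme.{u}) (π : Y ⟶ X), FlatMor.IsUnivHomeo π → AlgebraicGeometry.IsReduced Y → IsIso π) := by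
  refine ⟨⟨fun hX => ⟨uh_id X, fun Y π hπ => existsUnique_lift hX π hπ (𝟙 X)⟩,
    fun h => Groth.Agent.S7425.isAWN_of_isAWNormalization _ h⟩, ?_, ?_⟩
  · intro hX Y π hπ hY
    exact isIso_of_isAWN hX π hπ
  · intro H
    have h0 := Groth.Agent.S7424.isAWNormalization_awnToBase X
    haveI : IsIso (awnToBase X) :=
      H _ (awnToBase X) h0.1 (isReduced_of_isAWN (isAWN_awnSch X))
    exact isAWN_of_isOpenImmersion (inv (awnToBase X)) (isAWN_awnSch X)


end Groth.Agent.S7426
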