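import Groth.Statements.S14920
import Mathlib
import Groth.Agent.H4.PerfImm
import Groth.Agent.S7426

set_option autoImplicit false
universe u
open CategoryTheory AlgebraicGeometry
open PerfSch

namespace Groth.Agent.S14920

open CategoryTheory CategoryTheory.Limits AlgebraicGeometry TensorProduct
open Groth.Agent.H4.PerfAWN Groth.Agent.H4.PerfImm Groth.Agent.H4.UHFactor Groth.Agent.H4.AWNSch



/-- Let p be a prime and let X, Y, X', Y' be schemes of characteristic p (p = 0 in the structure sheaf).
Let π_X : X' ⟶ X and π_Y : Y' ⟶ Y be perfections: X' is perfect (its absolute Frobenius is an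
isomorphism) and every morphism from a perfect scheme of characteristic p to X factors uniquely
through π_X, and likewise for π_Y. Let f : X ⟶ Y be a morphism and f' : X' ⟶ Y' the induced morphism
of perfections, the one with f' ≫ π_Y = π_X ≫ f. If f is an open immersion, then so is f'. -/
theorem result (p : ℕ) [Fact p.Prime] {X Y XP YP : Scheme.{u}}
    [FrobSch.IsCharP X p] [FrobSch.IsCharP Y p] [FrobSch.IsCharP XP p] [FrobSch.IsCharP YP p]
    (πX : XP ⟶ X) (πY : YP ⟶ Y) (hX : FrobSch.IsPerfection πX p) (hY : FrobSch.IsPerfection πY p)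
    (f : X ⟶ Y) (fP : XP ⟶ YP) (w : fP ≫ πY = πX ≫ f)
    [AlgebraicGeometry.IsOpenImmersion f] : AlgebraicGeometry.IsOpenImmersion fP := by
  obtain ⟨hπX, hXP⟩ := uh_of_isPerfection p πX hX
  obtain ⟨hπY, hYP⟩ := uh_of_isPerfection p πY hY
  have hfst : FlatMor.IsUnivHomeo (pullback.fst f πY) := MorphismProperty.pullback_fst _ _ hπY
  have hk1 : pullback.lift πX fP w.symm ≫ pullback.fst f πY = πX := pullback.lift_fst _ _ _
  have hk2 : pullback.lift πX fP w.symm ≫ pullback.snd f πY = fP := pullback.lift_snd _ _ _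
  have hk : FlatMor.IsUnivHomeo (pullback.lift πX fP w.symm) :=
    (Groth.Agent.H1.isUnivHomeo_two_out_of_three _ (pullback.fst f πY)).2
      (by rw [hk1]; exact hπX) hfst
  have hZ : HTop.IsAWN (pullback f πY) := isAWN_of_isOpenImmersion (pullback.snd f πY) hYP
  haveI : AlgebraicGeometry.IsReduced XP := Groth.Agent.S7426.isReduced_of_isAWN hXP
  haveI : IsIso (pullback.lift πX fP w.symm) := Groth.Agent.S7426.isIso_of_isAWN hZ _ hk
  rw [← hk2]
  infer_instance


end Groth.Agent.S14920
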