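import Groth.Statements.S14922
import Mathlib
import Groth.Agent.H4.PerfImm
import Groth.Agent.H4.FrobUH
import Groth.Agent.S7426

set_option autoImplicit false
universe u
open CategoryTheory AlgebraicGeometry
open PerfSch

namespace Groth.Agent.S14922

open CategoryTheory CategoryTheory.Limits AlgebraicGeometry TensorProduct
open Groth.Agent.H4.PerfAWN Groth.Agent.H4.PerfImm Groth.Agent.H4.UHFactor Groth.Agent.H4.AWNSch
open Groth.Agent.H4.FrobUH


/-- a scheme étale over a perfect scheme is perfect -/
lemma isPerfect_of_etale (p : ℕ) [Fact p.Prime] {Z W : Scheme.{u}} [FrobSch.IsCharP W p]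
    [FrobSch.IsCharP Z p] (g : Z ⟶ W) [Etale g] (hW : FrobSch.IsPerfect W p) :
    FrobSch.IsPerfect Z p := by
  haveI : IsIso (FrobSch.frob W p) := hW
  haveI : Etale (FrobSch.relFrob g p ≫ pullback.snd g (FrobSch.frob W p)) := by
    rw [FrobSch.relFrob_snd]; infer_instance
  haveI : Etale (FrobSch.relFrob g p) :=
    MorphismProperty.of_postcomp (W := @Etale) (W' := @Etale) (FrobSch.relFrob g p)
      (pullback.snd g (FrobSch.frob W p)) inferInstance inferInstance
  haveI : IsIso (FrobSch.relFrob g p) :=
    Groth.Agent.H1.isIso_of_weaklyEtale_of_isUnivHomeo _ (relFrob_uh p g)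
  show IsIso (FrobSch.frob Z p)
  rw [← FrobSch.relFrob_fst g p]
  infer_instance

/-- Let p be a prime and let X, Y, X', Y' be schemes of characteristic p (p = 0 in the structure sheaf).
Let π_X : X' ⟶ X and π_Y : Y' ⟶ Y be perfections: X' is perfect (its absolute Frobenius is an
isomorphism) and every morphism from a perfect scheme of characteristic p to X factors uniquely
through π_X, and likewise for π_Y. Let f : X ⟶ Y be a morphism and f' : X' ⟶ Y' the induced morphism
of perfections, the one with f' ≫ π_Y = π_X ≫ f. If f is etale, then the commutative square formed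
by f', π_X, π_Y and f is cartesian, i.e. X' with the maps f' and π_X is a fibre product of Y' and X
over Y; in particular f', being a base change of f, is etale. (The published item states that the
perfection of an etale morphism is etale; this row states what its proof establishes, that X' ⟶ X
×_Y Y' is an isomorphism, from which etaleness of f' follows by base change.) -/
theorem result (p : ℕ) [Fact p.Prime] {X Y XP YP : Scheme.{u}}
    [FrobSch.IsCharP X p] [FrobSch.IsCharP Y p] [FrobSch.IsCharP XP p] [FrobSch.IsCharP YP p]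
    (πX : XP ⟶ X) (πY : YP ⟶ Y) (hX : FrobSch.IsPerfection πX p) (hY : FrobSch.IsPerfection πY p)
    (f : X ⟶ Y) (fP : XP ⟶ YP) (w : fP ≫ πY = πX ≫ f)
    [AlgebraicGeometry.Etale f] : IsPullback fP πX πY f := by
  obtain ⟨hπX, hXP⟩ := uh_of_isPerfection p πX hX
  obtain ⟨hπY, hYP⟩ := uh_of_isPerfection p πY hY
  have hfst : FlatMor.IsUnivHomeo (pullback.fst f πY) := MorphismProperty.pullback_fst _ _ hπY
  have hk1 : pullback.lift πX fP w.symm ≫ pullback.fst f πY = πX := pullback.lift_fst _ _ _
  have hk2 : pullback.lift πX fP w.symm ≫ pullback.snd f πY = fP := pullback.lift_snd _ _ _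
  have hk : FlatMor.IsUnivHomeo (pullback.lift πX fP w.symm) :=
    (Groth.Agent.H1.isUnivHomeo_two_out_of_three _ (pullback.fst f πY)).2
      (by rw [hk1]; exact hπX) hfst
  haveI : FrobSch.IsCharP (pullback f πY) p := FrobSch.IsCharP.of_hom (pullback.snd f πY) p
  have hZ : HTop.IsAWN (pullback f πY) :=
    isAWN_of_isPerfect p (isPerfect_of_etale p (pullback.snd f πY) hY.1)
  haveI : AlgebraicGeometry.IsReduced XP := Groth.Agent.S7426.isReduced_of_isAWN hXP
  haveI : IsIso (pullback.lift πX fP w.symm) := Groth.Agent.S7426.isIso_of_isAWN hZ _ hk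
  exact (IsPullback.of_iso_pullback ⟨w.symm⟩ (asIso (pullback.lift πX fP w.symm)) hk1 hk2).flip


end Groth.Agent.S14922
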