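import Groth.Statements.S14984
import Mathlib
import Groth.Agent.Lib.Helper9.Comod

set_option autoImplicit false
universe u v w
open HopfRep

namespace Groth.Agent.S14984

open TensorProduct in
theorem aux14984 (R : Type u) (A : Type v) (B : Type w)
    [CommRing R] [CommRing A] [HopfAlgebra R A]
    [CommRing B] [Algebra R B] [HopfRep.Comod R A B] [GLin.IsCoactAlg R A B]
    (C : Subalgebra R B)
    (hC : ∀ c : C, HopfRep.Comod.coact (k := R) (A := A) (c : B) = (c : B) ⊗ₜ[R] (1 : A))
    (β : TensorProduct R C A →ₗ[C] TensorProduct R C B)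
    (hβ : @Hoch.IsComodHom C _ (TensorProduct R C A) _ _ _
        (TensorProduct R C A) _ _
        (HopfRep.Comod.regular C (TensorProduct R C A))
        (TensorProduct R C B) _ _
        (CoactBr.Comod.baseChange R C A B) β) (hβ1 : β 1 = 1) :
    ∃ α : A →ₗ[R] B, Hoch.IsComodHom A α ∧ α 1 = 1 := by
  -- multiplication `C ⊗ B → B`
  let μ : TensorProduct R C B →ₗ[R] B :=
    TensorProduct.lift ((LinearMap.mul R B) ∘ₗ (C.val.toLinearMap))
  have hμ : ∀ (c : C) (b : B), μ (c ⊗ₜ[R] b) = (c : B) * b := fun c b => by simp [μ]
  let Ξ : TensorProduct C (TensorProduct R C B) (TensorProduct R C A) →ₗ[R] TensorProduct R B A :=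
    (LinearMap.rTensor A μ) ∘ₗ
      ((TensorProduct.AlgebraTensorModule.cancelBaseChange R C C (TensorProduct R C B) A).toLinearMap.restrictScalars R)
  have hΞ : ∀ (y : TensorProduct R C B) (c : C) (a : A),
      Ξ (y ⊗ₜ[C] (c ⊗ₜ[R] a)) = μ (c • y) ⊗ₜ[R] a := by
    intro y c a
    simp [Ξ]
  let α : A →ₗ[R] B := μ ∘ₗ (β.restrictScalars R) ∘ₗ (TensorProduct.mk R C A 1)
  have hα_apply : ∀ a : A, α a = μ (β ((1 : C) ⊗ₜ[R] a)) := fun a => rfl
  refine ⟨α, ?_, ?_⟩
  · -- comodule map
    have h1 : ∀ (c : C) (t : TensorProduct R B A),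
        Ξ (TensorProduct.AlgebraTensorModule.tensorTensorTensorComm R C R C C C B A
          (((1 : C) ⊗ₜ[C] c) ⊗ₜ[R] t)) = ((c : B) ⊗ₜ[R] (1 : A)) * t := by
      intro c t
      induction t using TensorProduct.induction_on with
      | zero => simp
      | tmul b a =>
        rw [TensorProduct.AlgebraTensorModule.tensorTensorTensorComm_tmul, hΞ,
          TensorProduct.smul_tmul', hμ, Algebra.TensorProduct.tmul_mul_tmul, one_mul, smul_eq_mul,
          mul_one]
      | add t t' ht ht' => simp only [TensorProduct.tmul_add, map_add, ht, ht', mul_add]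
    have h2 : ∀ y : TensorProduct R C B,
        Ξ ((CoactBr.Comod.baseChange R C A B).coact y) =
          HopfRep.Comod.coact (k := R) (A := A) (μ y) := by
      intro y
      induction y using TensorProduct.induction_on with
      | zero => simp
      | tmul c b =>
        rw [CoactBr.baseChange_coact_tmul, h1, hμ, GLin.IsCoactAlg.coact_mul]
        congr 1
        exact (hC c).symm
      | add y z hy hz => simp only [map_add, hy, hz]
    have h3 : ∀ t : TensorProduct R A A,
        Ξ (LinearMap.rTensor (TensorProduct R C A) β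
          (TensorProduct.AlgebraTensorModule.tensorTensorTensorComm R C R C C C A A
            (((1 : C) ⊗ₜ[C] (1 : C)) ⊗ₜ[R] t))) = LinearMap.rTensor A α t := by
      intro t
      induction t using TensorProduct.induction_on with
      | zero => simp
      | tmul a₁ a₂ =>
        rw [TensorProduct.AlgebraTensorModule.tensorTensorTensorComm_tmul, LinearMap.rTensor_tmul,
          hΞ, one_smul, LinearMap.rTensor_tmul, hα_apply]
      | add t t' ht ht' => simp only [TensorProduct.tmul_add, map_add, ht, ht']
    rw [Groth.Agent.H9.Comod.isComodHom_iff]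
    intro a
    have hβa := LinearMap.congr_fun hβ ((1 : C) ⊗ₜ[R] a)
    simp only [LinearMap.comp_apply] at hβa
    rw [hα_apply, ← h2, hβa]
    rw [show (HopfRep.Comod.regular C (TensorProduct R C A)).coact ((1 : C) ⊗ₜ[R] a) =
      CoalgebraStruct.comul (R := C) ((1 : C) ⊗ₜ[R] a) from rfl, TensorProduct.comul_tmul,
      show CoalgebraStruct.comul (R := C) (1 : C) = (1 : C) ⊗ₜ[C] (1 : C) from rfl, h3]
    rfl
  · rw [hα_apply, show ((1 : C) ⊗ₜ[R] (1 : A)) = (1 : TensorProduct R C A) from rfl, hβ1,
      show (1 : TensorProduct R C B) = (1 : C) ⊗ₜ[R] (1 : B) from rfl, hμ]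
    simp

/-- Let `R` be a commutative ring, `A` a commutative Hopf algebra over `R`, flat as an `R`-module, `B` a
commutative `R`-algebra with a coaction of `A` that is an algebra map (an action of `G = Spec A` on
`X = Spec B`), and `C = B^A` the ring of invariants. If the action base-changed along `R → C` — the
`C`-Hopf algebra `C ⊗ A` coacting on `C ⊗ B` — is tame, i.e. there is a `C`-linear comodule map `β :
C ⊗ A → C ⊗ B` (regular coaction on the source, base-changed coaction on the target) with `β 1 = 1`,
then the original action is tame: there is an `R`-linear comodule map `α : A → B` with `α 1 = 1`.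
(The converse is the case `S = C` of stability of tameness under base change. The published lemma
also lists, as a third equivalent condition, tameness of the action of `C ⊗ A` on `B` itself over
`C`; that condition is not stated here.) -/
theorem result
    (R : Type u) (A : Type v) (B : Type w)
    [CommRing R] [CommRing A] [HopfAlgebra R A] [Module.Flat R A]
    [CommRing B] [Algebra R B] [HopfRep.Comod R A B] [GLin.IsCoactAlg R A B]
    (h : ∃ β : TensorProduct R ↥(GLin.invariants R A B) A →ₗ[↥(GLin.invariants R A B)]
        TensorProduct R ↥(GLin.invariants R A B) B,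
      @Hoch.IsComodHom ↥(GLin.invariants R A B) _ (TensorProduct R ↥(GLin.invariants R A B) A) _ _ _
        (TensorProduct R ↥(GLin.invariants R A B) A) _ _
        (HopfRep.Comod.regular ↥(GLin.invariants R A B) (TensorProduct R ↥(GLin.invariants R A B) A))
        (TensorProduct R ↥(GLin.invariants R A B) B) _ _
        (CoactBr.Comod.baseChange R ↥(GLin.invariants R A B) A B) β ∧ β 1 = 1) :
    ∃ α : A →ₗ[R] B, Hoch.IsComodHom A α ∧ α 1 = 1 := by
  obtain ⟨β, hβ, hβ1⟩ := h
  exact aux14984 R A B (GLin.invariants R A B) (fun c => c.2) β hβ hβ1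

end Groth.Agent.S14984
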