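import Groth.Statements.S1499
import Groth.Agent.Lib.Lead.QC.AmpleFamily
import Groth.Agent.S9691

set_option autoImplicit false
universe u
attribute [local instance] HasDerivedCategory.standard
open FlatMor

namespace Groth.Agent.S1499

open AlgebraicGeometry CategoryTheory Limits in
/-- Let f : X → Y with Y having an ample family of invertible modules, and suppose some O_X-module is
ample relative to f. Then X has an ample family of invertible modules. -/
theorem result {X Y : Scheme.{u}} (f : X ⟶ Y)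
    (hY : MoreMor.HasAmpleFamily Y) (L : X.Modules) (hL : RelAmple.IsRelAmple f L) :
    MoreMor.HasAmpleFamily X := by
  obtain ⟨hYc, hYf⟩ := hY
  haveI := hYc
  haveI : QuasiCompact f := hL.1
  haveI : CompactSpace X := QuasiCompact.compactSpace_of_compactSpace f
  haveI : QuasiSeparatedSpace Y := LD.QC.quasiSeparatedSpace_of_genLocus_cover (fun y => by
    obtain ⟨K, n, t, hK, hn, hyt, haff⟩ := hYf y
    exact ⟨_, t, LD.QC.isInvertible_tensorPow hK n, hyt, haff⟩)
  haveI : IsSeparated f := Groth.Agent.S9691.result f L hL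
  haveI : QuasiSeparatedSpace X := quasiSeparatedSpace_of_quasiSeparated f
  have hLinv : PicF.IsInvertible L := LD.QC.isInvertible_of_isRelAmple f L hL
  refine ⟨inferInstance, fun x => ?_⟩
  obtain ⟨K, n, t, hK, hn, hyt, haff⟩ := hYf (f x)
  let M := CohB1.tensorPow ((Scheme.Modules.pullback f).obj K) n
  have hM : PicF.IsInvertible M :=
    LD.QC.isInvertible_tensorPow (LD.QC.isInvertible_pullback f hK) n
  let t' : LD.QC.unitMod X ⟶ M := LD.QC.pbPowHom f K hK t
  have ht' : CohB1.genLocus M t' = f ⁻¹ᵁ CohB1.genLocus _ t := LD.QC.genLocus_pbPowHom f K hK t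
  have hxt' : x ∈ CohB1.genLocus M t' := by rw [ht']; exact hyt
  have hamp : CohB1.IsAmple (L.restrict (CohB1.genLocus M t').ι) :=
    (LD.QC.isAmple_restrict_iff (CohB1.genLocus M t').ι (f ⁻¹ᵁ CohB1.genLocus _ t)
      (by rw [Scheme.Opens.opensRange_ι, ht']) L).mpr (hL.2 ⟨_, haff⟩)
  obtain ⟨k, n', T, hxT, hTaff, -⟩ :=
    LD.QC.exists_affine_genLocus_of_isAmple_restrict M hM t' L hLinv hamp x hxt'
  let L' := CohB1.tensorMod (CohB1.tensorMod (CohB1.tensorPow L (k + 1)) (CohB1.tensorPow M n')) M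
  have hL' : PicF.IsInvertible L' :=
    LD.QC.isInvertible_tensorMod (LD.QC.isInvertible_tensorMod
      (LD.QC.isInvertible_tensorPow hLinv (k + 1)) (LD.QC.isInvertible_tensorPow hM n')) hM
  haveI : L'.IsQuasicoherent := LD.QC.qc_of_isInvertible L' hL'
  refine ⟨L', 1, T ≫ (LD.QC.unitorL L').inv, hL', le_rfl, ?_, ?_⟩
  · have := LD.QC.genLocus_comp_iso T (LD.QC.unitorL L').symm
    change x ∈ CohB1.genLocus _ (T ≫ (LD.QC.unitorL L').symm.hom)
    rw [this]; exact hxT
  · have := LD.QC.genLocus_comp_iso T (LD.QC.unitorL L').symm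
    change IsAffineOpen (CohB1.genLocus _ (T ≫ (LD.QC.unitorL L').symm.hom))
    rw [this]; exact hTaff

end Groth.Agent.S1499
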