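import Groth.Statements.S15004
import Mathlib.Tactic
-- import your own Groth.Agent.* helpers here

set_option autoImplicit false
universe u v
open Harb

namespace Groth.Agent.S15004

/-- Let C be a finite family of d curves, recorded as an incidence relation between a type of points and
a finite index type, such that any two distinct curves of the family meet in exactly h points; for a
point p write r_p for the number of curves of the family through p. Then for every curve C_i of the
family, Σ_{p ∈ C_i} (r_p − 1) = h (d − 1), the sum being finitely supported. (The published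
statement is for a transversal arrangement of curves on a geometrically ruled surface with invariant
e, all numerically equivalent to a C₀ + b f, where any two of the curves meet transversally in h =
2ab − a²e points; only this common pairwise intersection count enters the proof, and this row states
the identity for an abstract incidence relation.) -/
theorem result (P : Type u) (ι : Type v) [Fintype ι]
    (inc : P → ι → Prop) (h : ℕ)
    (hfin : ∀ i j : ι, i ≠ j → {p : P | inc p i ∧ inc p j}.Finite)
    (hcount : ∀ i j : ι, i ≠ j → {p : P | inc p i ∧ inc p j}.ncard = h) (i : ι) :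
    ∑ᶠ p ∈ {p : P | inc p i}, (Nat.card {j : ι // inc p j} - 1) = h * (Fintype.card ι - 1) := by
  classical
  have hr : ∀ p : P, Nat.card {j : ι // inc p j} = (Finset.univ.filter (fun j => inc p j)).card := by
    intro p
    rw [Nat.card_eq_fintype_card, Fintype.card_subtype]
  have hmultI : ∀ i j : ι, i ≠ j → ∀ p, inc p i → inc p j →
      2 ≤ (Finset.univ.filter (fun j => inc p j)).card := by
    intro i j hij p hi hj
    exact Finset.one_lt_card.2 ⟨i, by simp [hi], j, by simp [hj], hij⟩
  have hMfin : {p : P | 2 ≤ (Finset.univ.filter (fun j => inc p j)).card}.Finite := by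
    have : {p : P | 2 ≤ (Finset.univ.filter (fun j => inc p j)).card} ⊆
        ⋃ x : {x : ι × ι // x.1 ≠ x.2}, {p : P | inc p x.1.1 ∧ inc p x.1.2} := by
      intro p hp
      simp only [Set.mem_setOf_eq] at hp
      obtain ⟨i, hi, j, hj, hij⟩ := Finset.one_lt_card.1 hp
      simp only [Finset.mem_filter, Finset.mem_univ, true_and] at hi hj
      exact Set.mem_iUnion.2 ⟨⟨(i, j), hij⟩, hi, hj⟩
    exact (Set.finite_iUnion fun x => hfin _ _ x.2).subset this
  have hM : ∀ p, p ∈ hMfin.toFinset ↔ 2 ≤ (Finset.univ.filter (fun j => inc p j)).card := fun p => by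
    simp
  have hI : ∀ j, i ≠ j → (hMfin.toFinset.filter (fun p => inc p i ∧ inc p j)).card = h := by
    intro j hij
    rw [← hcount i j hij]
    have hset : {p : P | inc p i ∧ inc p j} = ↑(hMfin.toFinset.filter (fun p => inc p i ∧ inc p j)) := by
      ext p
      simp only [Set.mem_setOf_eq, Finset.coe_filter, hM]
      constructor
      · intro h; exact ⟨hmultI i j hij p h.1 h.2, h⟩
      · intro h; exact h.2
    rw [hset, Set.ncard_coe_finset]
  have hsum : ∑ᶠ p ∈ {p : P | inc p i}, (Nat.card {j : ι // inc p j} - 1) =
      ∑ p ∈ hMfin.toFinset.filter (fun p => inc p i), (Nat.card {j : ι // inc p j} - 1) := by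
    apply finsum_mem_eq_sum_of_inter_support_eq
    ext p
    simp only [Set.mem_inter_iff, Set.mem_setOf_eq, Function.mem_support, Finset.coe_filter, hM, hr]
    constructor
    · rintro ⟨h1, h2⟩; exact ⟨⟨by omega, h1⟩, h2⟩
    · rintro ⟨⟨_, h1⟩, h2⟩; exact ⟨h1, h2⟩
  rw [hsum]
  have hterm : ∀ p ∈ hMfin.toFinset.filter (fun p => inc p i), Nat.card {j : ι // inc p j} - 1 =
      ∑ j ∈ (Finset.univ : Finset ι).erase i, if inc p j then 1 else 0 := by
    intro p hp
    have hpi : inc p i := (Finset.mem_filter.1 hp).2
    rw [hr, ← Finset.card_filter, ← Finset.card_erase_of_mem (by simp [hpi] : i ∈ Finset.univ.filter (fun j => inc p j))]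
    congr 1
    ext j
    simp only [Finset.mem_erase, Finset.mem_filter, Finset.mem_univ, true_and, and_true]
  rw [Finset.sum_congr rfl hterm, Finset.sum_comm]
  have h3 : ∀ j ∈ (Finset.univ : Finset ι).erase i,
      (∑ p ∈ hMfin.toFinset.filter (fun p => inc p i), if inc p j then 1 else 0) = h := by
    intro j hj
    rw [← Finset.card_filter, Finset.filter_filter]
    exact hI j (Finset.ne_of_mem_erase hj).symm
  rw [Finset.sum_congr rfl h3, Finset.sum_const, Finset.card_erase_of_mem (Finset.mem_univ i),
    Finset.card_univ, smul_eq_mul, mul_comm]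

end Groth.Agent.S15004
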