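import Groth.Statements.S15005
import Mathlib.Tactic
-- import your own Groth.Agent.* helpers here

set_option autoImplicit false
universe u v
open Harb

namespace Groth.Agent.S15005

/-- Let C be a finite family of d curves, recorded as an incidence relation between a type of points and
a finite index type, such that any two distinct curves of the family meet in exactly h points; let
t_k be the number of k-fold points (points lying on exactly k curves of the family). Then f₂ − f₁ =
Σ_{k ≥ 2} k(k − 1) t_k equals h d(d − 1), where f_i = Σ_{k ≥ 2} k^i t_k. (The published statement is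
for a transversal arrangement of curves on a geometrically ruled surface with invariant e, all
numerically equivalent to a C₀ + b f, where any two of the curves meet transversally in h = 2ab −
a²e points; only this common pairwise intersection count enters the proof, and this row states the
identity for an abstract incidence relation.) -/
theorem result (P : Type u) (ι : Type v) [Fintype ι]
    (inc : P → ι → Prop) (h : ℕ)
    (hfin : ∀ i j : ι, i ≠ j → {p : P | inc p i ∧ inc p j}.Finite)
    (hcount : ∀ i j : ι, i ≠ j → {p : P | inc p i ∧ inc p j}.ncard = h) :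
    ∑ k ∈ Finset.Icc 2 (Fintype.card ι), k * (k - 1) * Nat.card {p : P // Nat.card {j : ι // inc p j} = k} =
      h * (Fintype.card ι * (Fintype.card ι - 1)) := by
  classical
  have hr : ∀ p : P, Nat.card {j : ι // inc p j} = (Finset.univ.filter (fun j => inc p j)).card := by
    intro p
    rw [Nat.card_eq_fintype_card, Fintype.card_subtype]
  have hmultI : ∀ i j : ι, i ≠ j → ∀ p, inc p i → inc p j →
      2 ≤ (Finset.univ.filter (fun j => inc p j)).card := by
    intro i j hij p hi hj
    exact Finset.one_lt_card.2 ⟨i, by simp [hi], j, by simp [hj], hij⟩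
  have hMfin : {p : P | 2 ≤ (Finset.univ.filter (fun j => inc p j)).card}.Finite := by
    have : {p : P | 2 ≤ (Finset.univ.filter (fun j => inc p j)).card} ⊆
        ⋃ x : {x : ι × ι // x.1 ≠ x.2}, {p : P | inc p x.1.1 ∧ inc p x.1.2} := by
      intro p hp
      simp only [Set.mem_setOf_eq] at hp
      obtain ⟨i, hi, j, hj, hij⟩ := Finset.one_lt_card.1 hp
      simp only [Finset.mem_filter, Finset.mem_univ, true_and] at hi hj
      exact Set.mem_iUnion.2 ⟨⟨(i, j), hij⟩, hi, hj⟩
    exact (Set.finite_iUnion fun x => hfin _ _ x.2).subset this
  have hM : ∀ p, p ∈ hMfin.toFinset ↔ 2 ≤ (Finset.univ.filter (fun j => inc p j)).card := fun p => by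
    simp
  have hrle : ∀ p : P, (Finset.univ.filter (fun j => inc p j)).card ≤ Fintype.card ι :=
    fun p => Finset.card_le_univ _
  have ht : ∀ k, 2 ≤ k → Nat.card {p : P // Nat.card {j : ι // inc p j} = k} =
      (hMfin.toFinset.filter (fun p => (Finset.univ.filter (fun j => inc p j)).card = k)).card := by
    intro k hk
    have hset : {p : P | Nat.card {j : ι // inc p j} = k} =
        ↑(hMfin.toFinset.filter (fun p => (Finset.univ.filter (fun j => inc p j)).card = k)) := by
      ext p
      simp only [Set.mem_setOf_eq, hr, Finset.coe_filter, hM]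
      constructor
      · intro h; exact ⟨by omega, h⟩
      · intro h; exact h.2
    show {p : P | Nat.card {j : ι // inc p j} = k}.ncard = _
    rw [hset, Set.ncard_coe_finset]
  have hL : ∑ k ∈ Finset.Icc 2 (Fintype.card ι),
      k * (k - 1) * Nat.card {p : P // Nat.card {j : ι // inc p j} = k} =
      ∑ p ∈ hMfin.toFinset, (Finset.univ.filter (fun j => inc p j)).card *
        ((Finset.univ.filter (fun j => inc p j)).card - 1) := by
    rw [← Finset.sum_fiberwise_of_maps_to (s := hMfin.toFinset) (t := Finset.Icc 2 (Fintype.card ι))
      (g := fun p => (Finset.univ.filter (fun j => inc p j)).card)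
      (fun p hp => by simp only [Finset.mem_Icc]; exact ⟨(hM p).1 hp, hrle p⟩)]
    apply Finset.sum_congr rfl
    intro k hk
    rw [ht k (Finset.mem_Icc.1 hk).1, Finset.card_eq_sum_ones, Finset.mul_sum]
    apply Finset.sum_congr rfl
    intro p hp
    rw [(Finset.mem_filter.1 hp).2, mul_one]
  have hI : ∀ i j, i ≠ j → (hMfin.toFinset.filter (fun p => inc p i ∧ inc p j)).card = h := by
    intro i j hij
    rw [← hcount i j hij]
    have hset : {p : P | inc p i ∧ inc p j} = ↑(hMfin.toFinset.filter (fun p => inc p i ∧ inc p j)) := by
      ext p
      simp only [Set.mem_setOf_eq, Finset.coe_filter, hM]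
      constructor
      · intro h; exact ⟨hmultI i j hij p h.1 h.2, h⟩
      · intro h; exact h.2
    rw [hset, Set.ncard_coe_finset]
  have hR : ∑ p ∈ hMfin.toFinset, (Finset.univ.filter (fun j => inc p j)).card *
        ((Finset.univ.filter (fun j => inc p j)).card - 1) =
      h * (Fintype.card ι * (Fintype.card ι - 1)) := by
    have h1 : ∀ p : P, (Finset.univ.filter (fun j => inc p j)).card *
        ((Finset.univ.filter (fun j => inc p j)).card - 1) =
        ((Finset.univ.filter (fun j => inc p j)).offDiag).card := by
      intro p; rw [Finset.offDiag_card, Nat.mul_sub_one]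
    have h2 : ∀ p : P, (Finset.univ.filter (fun j => inc p j)).offDiag =
        (Finset.univ : Finset ι).offDiag.filter (fun x => inc p x.1 ∧ inc p x.2) := by
      intro p; ext ⟨i, j⟩
      simp only [Finset.mem_offDiag, Finset.mem_filter, Finset.mem_univ, true_and]
      tauto
    have h4 : ∀ p : P, (Finset.univ.filter (fun j => inc p j)).card *
        ((Finset.univ.filter (fun j => inc p j)).card - 1) =
        ∑ x ∈ (Finset.univ : Finset ι).offDiag, if inc p x.1 ∧ inc p x.2 then 1 else 0 := by
      intro p; rw [h1, h2, Finset.card_filter]
    rw [Finset.sum_congr rfl (fun p _ => h4 p), Finset.sum_comm]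
    have h3 : ∀ x ∈ (Finset.univ : Finset ι).offDiag,
        (∑ p ∈ hMfin.toFinset, if inc p x.1 ∧ inc p x.2 then 1 else 0) = h := by
      intro x hx
      rw [← Finset.card_filter]
      exact hI _ _ (Finset.mem_offDiag.1 hx).2.2
    refine (Finset.sum_congr rfl h3).trans ?_
    rw [Finset.sum_const, Finset.offDiag_card, smul_eq_mul,
      Finset.card_univ, ← Nat.mul_sub_one, mul_comm]
  rw [hL, hR]

end Groth.Agent.S15005
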