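import Groth.Statements.S15007
import Mathlib.Tactic
-- import your own Groth.Agent.* helpers here

set_option autoImplicit false
universe u v
open Harb

namespace Groth.Agent.S15007

/-- Let C be a finite family of d ≥ 2 curves, recorded as an incidence relation between a type of points
and a finite index type, such that any two distinct curves of the family meet in exactly h ≥ 1
points and no point lies on every curve of the family. Then f₀ ≥ h + 2: the number of multiple
points (points lying on at least two of the curves) is at least h + 2. (The published claim reads f₀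
≥ 2ab − a²e + 2 for a transversal arrangement of d ≥ 4 curves on a geometrically ruled surface with
invariant e ≥ 4, all numerically equivalent to a C₀ + b f with a ≥ 1 and b ≥ ae and with no point
common to all of them, satisfying in addition either a ≥ 2, or a = 1 with some four of the curves
having no point in common, where any two of the curves meet transversally in h = 2ab − a²e ≥ 1
points; only d ≥ 2, h ≥ 1 and the absence of a common point enter the proof, and this row states the
bound for an abstract incidence relation.) -/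
theorem result (P : Type u) (ι : Type v) [Fintype ι]
    (inc : P → ι → Prop) (h : ℕ) (hh : 0 < h) (hd : 2 ≤ Fintype.card ι)
    (hfin : ∀ i j : ι, i ≠ j → {p : P | inc p i ∧ inc p j}.Finite)
    (hcount : ∀ i j : ι, i ≠ j → {p : P | inc p i ∧ inc p j}.ncard = h)
    (hnone : ∀ p : P, ∃ i : ι, ¬ inc p i) :
    h + 2 ≤ Nat.card {p : P // 2 ≤ Nat.card {j : ι // inc p j}} := by
  classical
  have hr : ∀ p : P, Nat.card {j : ι // inc p j} = (Finset.univ.filter (fun j => inc p j)).card := by
    intro p
    rw [Nat.card_eq_fintype_card, Fintype.card_subtype]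
  have hmultI : ∀ i j : ι, i ≠ j → ∀ p, inc p i → inc p j → 2 ≤ Nat.card {j : ι // inc p j} := by
    intro i j hij p hi hj
    rw [hr]
    exact Finset.one_lt_card.2 ⟨i, by simp [hi], j, by simp [hj], hij⟩
  have hMfin : {p : P | 2 ≤ Nat.card {j : ι // inc p j}}.Finite := by
    have : {p : P | 2 ≤ Nat.card {j : ι // inc p j}} ⊆
        ⋃ x : {x : ι × ι // x.1 ≠ x.2}, {p : P | inc p x.1.1 ∧ inc p x.1.2} := by
      intro p hp
      simp only [Set.mem_setOf_eq] at hp
      rw [hr] at hp
      obtain ⟨i, hi, j, hj, hij⟩ := Finset.one_lt_card.1 hp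
      simp only [Finset.mem_filter, Finset.mem_univ, true_and] at hi hj
      exact Set.mem_iUnion.2 ⟨⟨(i, j), hij⟩, hi, hj⟩
    exact (Set.finite_iUnion fun x => hfin _ _ x.2).subset this
  show h + 2 ≤ {p : P | 2 ≤ Nat.card {j : ι // inc p j}}.ncard
  · obtain ⟨i₁, i₂, h12⟩ := Fintype.one_lt_card_iff.1 hd
    have hne : {p : P | inc p i₁ ∧ inc p i₂}.Nonempty := by
      rw [← Set.ncard_pos (hfin _ _ h12), hcount _ _ h12]; exact hh
    obtain ⟨p, hp1, hp2⟩ := hne
    obtain ⟨i₃, hp3⟩ := hnone p
    have h13 : i₁ ≠ i₃ := fun h => hp3 (h ▸ hp1)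
    have h23 : i₂ ≠ i₃ := fun h => hp3 (h ▸ hp2)
    by_cases hq : ∃ q, inc q i₂ ∧ inc q i₃ ∧ ¬ inc q i₁
    · obtain ⟨q, hq2, hq3, hq1⟩ := hq
      have hT : insert q (insert p {x : P | inc x i₁ ∧ inc x i₃}) ⊆
          {p : P | 2 ≤ Nat.card {j : ι // inc p j}} := by
        intro x hx
        rcases hx with rfl | rfl | ⟨hx1, hx3⟩
        · exact hmultI _ _ h23 _ hq2 hq3
        · exact hmultI _ _ h12 _ hp1 hp2
        · exact hmultI _ _ h13 _ hx1 hx3
      have hcard : (insert q (insert p {x : P | inc x i₁ ∧ inc x i₃})).ncard = h + 2 := by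
        rw [Set.ncard_insert_of_notMem _ ((hfin _ _ h13).insert p),
          Set.ncard_insert_of_notMem _ (hfin _ _ h13), hcount _ _ h13]
        · rintro ⟨_, h3⟩; exact hp3 h3
        · rintro (rfl | ⟨h1, _⟩)
          · exact hq1 hp1
          · exact hq1 h1
      rw [← hcard]
      exact Set.ncard_le_ncard hT hMfin
    · exfalso
      push_neg at hq
      have hsub : {x : P | inc x i₂ ∧ inc x i₃} ⊆ {x : P | inc x i₁ ∧ inc x i₃} :=
        fun x ⟨h2, h3⟩ => ⟨hq x h2 h3, h3⟩
      have heq := Set.eq_of_subset_of_ncard_le hsub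
        (by rw [hcount _ _ h13, hcount _ _ h23]) (hfin _ _ h13)
      have hsub2 : {x : P | inc x i₁ ∧ inc x i₃} ⊆ {x : P | inc x i₁ ∧ inc x i₂} := by
        intro x hx
        have hx' : x ∈ {x : P | inc x i₂ ∧ inc x i₃} := heq ▸ hx
        exact ⟨hx.1, hx'.1⟩
      have heq2 := Set.eq_of_subset_of_ncard_le hsub2
        (by rw [hcount _ _ h13, hcount _ _ h12]) (hfin _ _ h12)
      have : p ∈ {x : P | inc x i₁ ∧ inc x i₃} := heq2 ▸ (⟨hp1, hp2⟩ : p ∈ {x : P | inc x i₁ ∧ inc x i₂})
      exact hp3 this.2

end Groth.Agent.S15007
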