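import Groth.Statements.S15010
import Groth.Agent.Lib.Helper7.LatMat
-- import your own Groth.Agent.* helpers here

set_option autoImplicit false
universe u
open TFCurv

namespace Groth.Agent.S15010

/-- Let O be a one-dimensional Noetherian local domain with algebraically closed residue field whose
integral closure O~ in its fraction field K is a finite O-module. If M and N are O-submodules of K^n
with O^n ⊆ M ⊆ O~^n and O^n ⊆ N ⊆ O~^n, then every O-linear isomorphism M → N is the restriction of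
x ↦ A·x for an invertible n × n matrix A with entries in O~. -/
theorem result (O : Type u) [CommRing O] [IsDomain O] [IsNoetherianRing O] [IsLocalRing O] (hdim : ringKrullDim O = 1) [IsAlgClosed (IsLocalRing.ResidueField O)] (K : Type u) [Field K] [Algebra O K] [IsFractionRing O K] (hfin : Module.Finite O ↥(integralClosure O K)) (n : ℕ) (M N : Submodule O (Fin n → K)) (hM1 : Submodule.pi Set.univ (fun _ : Fin n => (1 : Submodule O K)) ≤ M) (hM2 : M ≤ Submodule.pi Set.univ (fun _ : Fin n => (Subalgebra.toSubmodule (integralClosure O K)))) (hN1 : Submodule.pi Set.univ (fun _ : Fin n => (1 : Submodule O K)) ≤ N) (hN2 : N ≤ Submodule.pi Set.univ (fun _ : Fin n => (Subalgebra.toSubmodule (integralClosure O K)))) (φ : ↥M ≃ₗ[O] ↥N) : ∃ A : Matrix (Fin n) (Fin n) ↥(integralClosure O K), IsUnit A ∧ ∀ x : ↥M, ((φ x : ↥N) : Fin n → K) = (A.map (algebraMap ↥(integralClosure O K) K)).mulVec (x : Fin n → K) := by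
  classical
  have heP : ∀ j : Fin n, (Pi.single j (1 : K) : Fin n → K) ∈
      Submodule.pi Set.univ (fun _ : Fin n => (1 : Submodule O K)) := by
    intro j
    rw [Submodule.mem_pi]
    intro i _
    by_cases hij : i = j
    · subst hij
      rw [Pi.single_eq_same]
      exact Submodule.one_le.mp le_rfl
    · rw [Pi.single_eq_of_ne hij]
      exact Submodule.zero_mem _
  have heM : ∀ j : Fin n, (Pi.single j (1 : K) : Fin n → K) ∈ M := fun j => hM1 (heP j)
  have heN : ∀ j : Fin n, (Pi.single j (1 : K) : Fin n → K) ∈ N := fun j => hN1 (heP j)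
  let ψ : ↥M →ₗ[O] (Fin n → K) := N.subtype ∘ₗ φ.toLinearMap
  let ψ' : ↥N →ₗ[O] (Fin n → K) := M.subtype ∘ₗ φ.symm.toLinearMap
  have hψ := Groth.Agent.H7.LatMat.linear_eq_mulVec O K n M heM ψ
  have hψ' := Groth.Agent.H7.LatMat.linear_eq_mulVec O K n N heN ψ'
  have hAmem : ∀ i j, ψ ⟨Pi.single j 1, heM j⟩ i ∈ integralClosure O K := by
    intro i j
    have h1 : ((φ ⟨Pi.single j 1, heM j⟩ : ↥N) : Fin n → K) ∈
        Submodule.pi Set.univ (fun _ : Fin n => (Subalgebra.toSubmodule (integralClosure O K))) :=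
      hN2 (φ ⟨Pi.single j 1, heM j⟩).2
    rw [Submodule.mem_pi] at h1
    exact h1 i (Set.mem_univ i)
  have hBmem : ∀ i j, ψ' ⟨Pi.single j 1, heN j⟩ i ∈ integralClosure O K := by
    intro i j
    have h1 : ((φ.symm ⟨Pi.single j 1, heN j⟩ : ↥M) : Fin n → K) ∈
        Submodule.pi Set.univ (fun _ : Fin n => (Subalgebra.toSubmodule (integralClosure O K))) :=
      hM2 (φ.symm ⟨Pi.single j 1, heN j⟩).2
    rw [Submodule.mem_pi] at h1
    exact h1 i (Set.mem_univ i)
  let A : Matrix (Fin n) (Fin n) ↥(integralClosure O K) := Matrix.of fun i j => ⟨_, hAmem i j⟩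
  let B : Matrix (Fin n) (Fin n) ↥(integralClosure O K) := Matrix.of fun i j => ⟨_, hBmem i j⟩
  have hAK : A.map (algebraMap ↥(integralClosure O K) K) =
      Matrix.of fun i j => ψ ⟨Pi.single j 1, heM j⟩ i := by
    ext i j; rfl
  have hBK : B.map (algebraMap ↥(integralClosure O K) K) =
      Matrix.of fun i j => ψ' ⟨Pi.single j 1, heN j⟩ i := by
    ext i j; rfl
  have hAB : A * B = 1 := by
    have hinj : Function.Injective (algebraMap ↥(integralClosure O K) K) := Subtype.val_injective
    apply Matrix.map_injective hinj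
    beta_reduce
    rw [Matrix.map_mul, Matrix.map_one _ (map_zero _) (map_one _), hAK, hBK]
    ext i j
    have h1 : ((Matrix.of fun i j => ψ ⟨Pi.single j 1, heM j⟩ i) *
        (Matrix.of fun i j => ψ' ⟨Pi.single j 1, heN j⟩ i)) i j =
        ((Matrix.of fun i j => ψ ⟨Pi.single j 1, heM j⟩ i).mulVec
          (ψ' ⟨Pi.single j 1, heN j⟩)) i := by
      simp [Matrix.mul_apply, Matrix.mulVec, dotProduct]
    rw [h1]
    have h2 : ψ' ⟨Pi.single j 1, heN j⟩ = ((φ.symm ⟨Pi.single j 1, heN j⟩ : ↥M) : Fin n → K) := rfl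
    rw [h2, ← hψ]
    have h3 : ψ (φ.symm ⟨Pi.single j 1, heN j⟩) = Pi.single j 1 := by
      simp [ψ]
    rw [h3, Matrix.one_apply, Pi.single_apply]
  refine ⟨A, ⟨⟨A, B, hAB, _root_.mul_eq_one_comm.mp hAB⟩, rfl⟩, ?_⟩
  intro x
  rw [hAK]
  exact hψ x

end Groth.Agent.S15010
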