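import Groth.Statements.S15011
import Mathlib
import Groth.Agent.Lib.Helper2.Mult2

set_option autoImplicit false
universe u
open TFCurv

namespace Groth.Agent.S15011

/-- Let O be a one-dimensional Noetherian local domain with maximal ideal m and algebraically closed
residue field, whose integral closure O~ in its fraction field K is a finite O-module; put e =
length(O~/m O~), the multiplicity of O. Then a finitely generated torsion-free O-module of rank n
can be generated by at most n·e elements. -/
theorem result (O : Type u) [CommRing O] [IsDomain O] [IsNoetherianRing O] [IsLocalRing O] (hdim : ringKrullDim O = 1) [IsAlgClosed (IsLocalRing.ResidueField O)] (K : Type u) [Field K] [Algebra O K] [IsFractionRing O K] (hfin : Module.Finite O ↥(integralClosure O K)) (M : Type u) [AddCommGroup M] [Module O M] [Module.Finite O M] [NoZeroSMulDivisors O M] (n : ℕ) (hn : Module.finrank K (TensorProduct O K M) = n) : ((⊤ : Submodule O M).spanFinrank : ℕ∞) ≤ (n : ℕ∞) * Module.length O (↥(integralClosure O K) ⧸ (IsLocalRing.maximalIdeal O) • (⊤ : Submodule O ↥(integralClosure O K))) := by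
  haveI : Infinite (IsLocalRing.ResidueField O) := IsAlgClosed.instInfinite
  obtain ⟨x, hxm, hx0, hxC⟩ := Groth.Agent.H2.Mult2.exists_principal_reduction O K hdim hfin
  rw [Groth.Agent.H2.Mult2.spanFinrank_top_eq_length, ← hxC]
  haveI : NoZeroSMulDivisors O ↥(integralClosure O K) := by
    constructor
    intro c b hcb
    have h1 : Function.Injective (algebraMap O K) := IsFractionRing.injective O K
    by_cases hc : c = 0
    · exact Or.inl hc
    · right
      have h2 : algebraMap O K c * (b : K) = 0 := by
        have := congrArg (Subtype.val) hcb
        rw [← Algebra.smul_def]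
        exact this
      rcases mul_eq_zero.mp h2 with h | h
      · exact absurd (h1 (by rw [h, map_zero])) hc
      · exact Subtype.ext h
  rw [Groth.Agent.H2.Mult1.length_quot_smul hdim x hx0 ↥(integralClosure O K),
    Groth.Agent.H2.Mult2.finrank_integralClosure, Nat.cast_one, mul_one]
  have hM := Groth.Agent.H2.Mult1.length_quot_smul hdim x hx0 M
  rw [← Groth.Agent.H2.Mult2.finrank_eq_of_tensor O K M, hn] at hM
  rw [mul_comm, ← hM]
  exact Groth.Agent.H2.Mult2.length_quot_maximalIdeal_le O M x hxm

end Groth.Agent.S15011
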