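import Groth.Statements.S15013
import Groth.Agent.Lib.Helper6.Ischebeck

set_option autoImplicit false
universe u
open CategoryTheory
open TFCurv

namespace Groth.Agent.S15013

/-- Let O be a one-dimensional Noetherian local domain with algebraically closed residue field whose
integral closure O~ in its fraction field K is a finite O-module, and let w be a canonical ideal of
O, taken here as a nonzero finitely generated O-submodule of K whose injective dimension as an
O-module is at most one. Then Ext^i_O(M, w) vanishes for all i ≥ 1 and every finitely generated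
torsion-free O-module M. -/
theorem result (O : Type u) [CommRing O] [IsDomain O] [IsNoetherianRing O] [IsLocalRing O] (hdim : ringKrullDim O = 1) [IsAlgClosed (IsLocalRing.ResidueField O)] (K : Type u) [Field K] [Algebra O K] [IsFractionRing O K] (hfin : Module.Finite O ↥(integralClosure O K)) (ω : Submodule O K) (hω0 : ω ≠ ⊥) (hωfg : ω.FG) (hωinj : HasInjectiveDimensionLT (ModuleCat.of O ↥ω) 2) (M : Type u) [AddCommGroup M] [Module O M] [Module.Finite O M] [NoZeroSMulDivisors O M] (i : ℕ) (hi : 1 ≤ i) : Subsingleton (Abelian.Ext (ModuleCat.of O M) (ModuleCat.of O ↥ω) i) := by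
  by_cases h2 : 2 ≤ i
  · exact HasInjectiveDimensionLT.subsingleton (ModuleCat.of O ↥ω) 2 i h2 _
  · have hi1 : i = 1 := by omega
    subst hi1
    have hm : IsLocalRing.maximalIdeal O ≠ ⊥ := by
      intro h
      have hF : IsField O := IsLocalRing.isField_iff_maximalIdeal_eq.mpr h
      have := ringKrullDim_eq_zero_of_isField hF
      rw [hdim] at this
      exact one_ne_zero this
    obtain ⟨x, hxm, hx0⟩ := Submodule.exists_mem_ne_zero_of_ne_bot hm
    have hreg : IsSMulRegular M x := by
      intro a b hab
      have h1 : x • (a - b) = 0 := by rw [smul_sub]; exact sub_eq_zero.mpr hab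
      rcases smul_eq_zero.mp h1 with h | h
      · exact absurd h hx0
      · exact sub_eq_zero.mp h
    haveI : Module.Finite O (ModuleCat.of O M) := ‹Module.Finite O M›
    haveI : Module.Finite O (ModuleCat.of O ↥ω) := Module.Finite.iff_fg.mpr hωfg
    have h3 : Subsingleton (Abelian.Ext (ModuleCat.of O (QuotSMulTop x (ModuleCat.of O M)))
        (ModuleCat.of O ↥ω) (1 + 1)) :=
      HasInjectiveDimensionLT.subsingleton (ModuleCat.of O ↥ω) 2 2 le_rfl _
    exact Groth.Agent.H6.Isch.ext_subsingleton_of_quotSMulTop (ModuleCat.of O M)
      (ModuleCat.of O ↥ω) hxm hreg 1 h3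

end Groth.Agent.S15013
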