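import Groth.Statements.S15017
import Mathlib.Tactic
-- import your own Groth.Agent.* helpers here

set_option autoImplicit false
open TFCurv

namespace Groth.Agent.S15017

/-- Let Γ be a numerical semigroup (a submonoid of (ℕ, +) with finite complement), Γ ≠ ℕ, with conductor
c (every n ≥ c lies in Γ, c − 1 does not). If Γ is symmetric (for x < c, x is a gap exactly when c −
1 − x ∈ Γ) and has multiplicity greater than 2 (neither 1 nor 2 lies in Γ), then Γ is generated by
its elements smaller than c: every minimal generator of Γ is less than the conductor. -/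
theorem result (Γ : AddSubmonoid ℕ) (c : ℕ) (hc : ∀ n : ℕ, c ≤ n → n ∈ Γ) (hc0 : c ≠ 0) (hc1 : c - 1 ∉ Γ) (hsymm : ∀ x : ℕ, x < c → (x ∉ Γ ↔ c - 1 - x ∈ Γ)) (he : (1 : ℕ) ∉ Γ ∧ (2 : ℕ) ∉ Γ) : AddSubmonoid.closure {γ : ℕ | γ ∈ Γ ∧ γ < c} = Γ := by
  classical
  apply le_antisymm
  · rw [AddSubmonoid.closure_le]
    rintro γ ⟨h, _⟩
    exact h
  · have hex : ∃ γ, γ ∈ Γ ∧ γ ≠ 0 := ⟨c, hc c le_rfl, hc0⟩
    obtain ⟨heΓ, he0⟩ := Nat.find_spec hex
    have hemin : ∀ γ, γ ∈ Γ → γ ≠ 0 → Nat.find hex ≤ γ :=
      fun γ h1 h2 => Nat.find_min' hex ⟨h1, h2⟩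
    generalize Nat.find hex = e at heΓ he0 hemin
    have he3 : 3 ≤ e := by
      have h1 : e ≠ 1 := fun h => he.1 (h ▸ heΓ)
      have h2 : e ≠ 2 := fun h => he.2 (h ▸ heΓ)
      omega
    have hec : e ≤ c := hemin c (hc c le_rfl) hc0
    have hgap : ∀ x, 0 < x → x < e → x ∉ Γ := fun x h1 h2 h3 => by
      have := hemin x h3 (by omega)
      omega
    have hec' : e < c := by
      by_contra h
      have hce : e = c := by omega
      have h1 : (1 : ℕ) < c := by omega
      have h2 := (hsymm 1 h1).1 he.1
      have h3 := hemin _ h2 (by omega)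
      omega
    intro n hn
    induction n using Nat.strong_induction_on with
    | _ n ih =>
      by_cases hnc : n < c
      · exact AddSubmonoid.subset_closure ⟨hn, hnc⟩
      · push_neg at hnc
        suffices ∃ a b, a ∈ Γ ∧ b ∈ Γ ∧ a ≠ 0 ∧ b ≠ 0 ∧ a + b = n by
          obtain ⟨a, b, ha, hb, ha0, hb0, rfl⟩ := this
          exact add_mem (ih a (by omega) ha) (ih b (by omega) hb)
        by_cases h1 : c ≤ n - e
        · exact ⟨e, n - e, heΓ, hc _ h1, he0, by omega, by omega⟩
        · push_neg at h1
          by_cases h2 : n - c + 1 < e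
          · refine ⟨e, n - e, heΓ, ?_, he0, by omega, by omega⟩
            have hx : e - (n - c + 1) ∉ Γ := hgap _ (by omega) (by omega)
            have h3 := (hsymm (e - (n - c + 1)) (by omega)).1 hx
            have heq : c - 1 - (e - (n - c + 1)) = n - e := by omega
            rwa [heq] at h3
          · have hn_eq : n = c - 1 + e := by omega
            obtain ⟨r, hr0, hre, hrc⟩ : ∃ r, r ≠ 0 ∧ r < e ∧ r ≠ (c - 1) % e := by
              by_cases h : (c - 1) % e = 1
              · exact ⟨2, by omega, by omega, by omega⟩
              · exact ⟨1, by omega, by omega, fun h' => h h'.symm⟩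
            have hex2 : ∃ a, a ∈ Γ ∧ a % e = r := by
              refine ⟨e * c + r, hc _ ?_, ?_⟩
              · nlinarith
              · rw [Nat.mul_add_mod, Nat.mod_eq_of_lt hre]
            obtain ⟨haΓ, har⟩ := Nat.find_spec hex2
            have hamin := fun m (hm : m < Nat.find hex2) => Nat.find_min hex2 hm
            generalize Nat.find hex2 = a at haΓ har hamin
            have ha0 : a ≠ 0 := by
              rintro rfl
              rw [Nat.zero_mod] at har
              exact hr0 har.symm
            have hae : e ≤ a := hemin a haΓ ha0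
            have hae' : a - e ∉ Γ := by
              intro h
              apply hamin (a - e) (by omega)
              refine ⟨h, ?_⟩
              rw [← har]
              conv_rhs => rw [show a = (a - e) + e by omega]
              exact (Nat.add_mod_right _ _).symm
            have hlt : a - e < c := by
              by_contra h; exact hae' (hc _ (by omega))
            have hb := (hsymm (a - e) hlt).1 hae'
            have hne : a ≠ n := by
              intro h
              rw [h, hn_eq, Nat.add_mod_right] at har
              exact hrc har.symm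
            refine ⟨a, n - a, haΓ, ?_, ha0, by omega, by omega⟩
            have heq : c - 1 - (a - e) = n - a := by omega
            rwa [heq] at hb

end Groth.Agent.S15017
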