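import Groth.Statements.S15018
import Mathlib.Tactic
-- import your own Groth.Agent.* helpers here

set_option autoImplicit false
open TFCurv

namespace Groth.Agent.S15018

/-- Let Γ be a numerical semigroup (a submonoid of (ℕ, +) with finite complement), Γ ≠ ℕ, with conductor
c (every n ≥ c lies in Γ, c − 1 does not). Then Γ is symmetric (for x < c, x is a gap exactly when c
− 1 − x ∈ Γ) if and only if there is exactly one gap n of Γ such that Γ ∪ {n} is again stable under
adding elements of Γ, i.e. n + γ ∈ Γ for every nonzero γ ∈ Γ. -/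
theorem result (Γ : AddSubmonoid ℕ) (c : ℕ) (hc : ∀ n : ℕ, c ≤ n → n ∈ Γ) (hc0 : c ≠ 0) (hc1 : c - 1 ∉ Γ) : (∀ x : ℕ, x < c → (x ∉ Γ ↔ c - 1 - x ∈ Γ)) ↔ ∃! n : ℕ, n ∉ Γ ∧ ∀ γ : ℕ, γ ∈ Γ → γ ≠ 0 → n + γ ∈ Γ := by
  classical
  have hF : c - 1 ∉ Γ ∧ ∀ γ, γ ∈ Γ → γ ≠ 0 → c - 1 + γ ∈ Γ :=
    ⟨hc1, fun γ _ h0 => hc _ (by omega)⟩
  constructor
  · intro hsymm
    refine ⟨c - 1, hF, ?_⟩
    rintro n ⟨hn, hnΓ⟩
    have hnc : n < c := by
      by_contra h; exact hn (hc n (by omega))
    have h1 := (hsymm n hnc).1 hn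
    by_contra hne
    have h0 : c - 1 - n ≠ 0 := by omega
    have h2 := hnΓ _ h1 h0
    have heq : n + (c - 1 - n) = c - 1 := by omega
    rw [heq] at h2; exact hc1 h2
  · rintro ⟨n₀, hn₀, huniq⟩
    have huniq' : ∀ n, n ∉ Γ → (∀ γ, γ ∈ Γ → γ ≠ 0 → n + γ ∈ Γ) → n = c - 1 := by
      intro n h1 h2
      rw [huniq n ⟨h1, h2⟩, huniq (c-1) hF]
    intro x hx
    constructor
    · intro hxΓ
      by_contra hnot
      let P : ℕ → Prop := fun g => g < c ∧ g ∉ Γ ∧ c - 1 - g ∉ Γ
      have hPx : P x := ⟨hx, hxΓ, hnot⟩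
      have hh : P (Nat.findGreatest P c) := Nat.findGreatest_spec (P := P) hx.le hPx
      obtain ⟨h1, h2, h3⟩ := hh
      have hEq : Nat.findGreatest P c = c - 1 := by
        apply huniq' _ h2
        intro γ hγ hγ0
        by_contra hnotin
        have hlt : Nat.findGreatest P c + γ < c := by
          by_contra hge; exact hnotin (hc _ (by omega))
        have hnP : ¬ P (Nat.findGreatest P c + γ) := by
          intro hP
          have := Nat.le_findGreatest (P := P) hlt.le hP
          omega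
        have h4 : c - 1 - (Nat.findGreatest P c + γ) ∈ Γ := by
          by_contra h5; exact hnP ⟨hlt, hnotin, h5⟩
        have h6 : c - 1 - Nat.findGreatest P c = (c - 1 - (Nat.findGreatest P c + γ)) + γ := by
          omega
        apply h3
        rw [h6]
        exact Γ.add_mem h4 hγ
      rw [hEq] at h3
      have h7 : c - 1 - (c - 1) = 0 := by omega
      rw [h7] at h3
      exact h3 Γ.zero_mem
    · intro h1 h2
      have h3 := Γ.add_mem h2 h1
      have heq : x + (c - 1 - x) = c - 1 := by omega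
      rw [heq] at h3; exact hc1 h3

end Groth.Agent.S15018
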