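import Groth.Statements.S15019
import Mathlib.Tactic
-- import your own Groth.Agent.* helpers here

set_option autoImplicit false
open TFCurv

namespace Groth.Agent.S15019

/-- Let Γ be a numerical semigroup (a submonoid of (ℕ, +) with finite complement), Γ ≠ ℕ, with conductor
c (every n ≥ c lies in Γ, c − 1 does not), let e be its multiplicity (the least nonzero element of
Γ), and let S ⊆ ℕ be a Γ-module in normal form: 0 ∈ S and γ + s ∈ S for all γ ∈ Γ, s ∈ S. Then the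
set of gaps n of S with S ∪ {n} again a Γ-module (n + γ ∈ S for every nonzero γ ∈ Γ) has at most e −
1 elements, and so does the set of nonzero s ∈ S with S ∖ {s} again a Γ-module (s − γ ∉ S for every
nonzero γ ∈ Γ with γ ≤ s). -/
theorem result (Γ : AddSubmonoid ℕ) (c : ℕ) (hc : ∀ n : ℕ, c ≤ n → n ∈ Γ) (hc0 : c ≠ 0) (hc1 : c - 1 ∉ Γ) (e : ℕ) (he : e ∈ Γ) (he0 : e ≠ 0) (hemin : ∀ γ : ℕ, γ ∈ Γ → γ ≠ 0 → e ≤ γ) (S : Set ℕ) (hS0 : (0 : ℕ) ∈ S) (hS : ∀ γ : ℕ, γ ∈ Γ → ∀ s : ℕ, s ∈ S → γ + s ∈ S) : {n : ℕ | n ∉ S ∧ ∀ γ : ℕ, γ ∈ Γ → γ ≠ 0 → n + γ ∈ S}.encard ≤ ((e - 1 : ℕ) : ℕ∞) ∧ {s : ℕ | s ∈ S ∧ s ≠ 0 ∧ ∀ γ : ℕ, γ ∈ Γ → γ ≠ 0 → γ ≤ s → s - γ ∉ S}.encard ≤ ((e - 1 : ℕ) : ℕ∞) := by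
  classical
  have he_pos : 0 < e := Nat.pos_of_ne_zero he0
  have hke : ∀ k : ℕ, k * e ∈ Γ := fun k => by
    induction k with
    | zero => simpa using Γ.zero_mem
    | succ k ih => rw [Nat.succ_mul]; exact Γ.add_mem ih he
  have h0S : ∀ k, k * e ∈ S := fun k => by simpa using hS _ (hke k) 0 hS0
  have hcard : ((Finset.Ico 1 e : Finset ℕ) : Set ℕ).encard = ((e - 1 : ℕ) : ℕ∞) := by
    rw [Set.encard_coe_eq_coe_finsetCard, Nat.card_Ico]
  have hmod : ∀ n m : ℕ, n % e = m % e → n < m → ∃ k, m = n + e + k * e := by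
    intro n m hnm hlt
    have hdvd : e ∣ m - n := (Nat.modEq_iff_dvd' hlt.le).1 hnm
    obtain ⟨t, ht⟩ := hdvd
    have ht0 : t ≠ 0 := by
      rintro rfl
      rw [mul_zero] at ht; omega
    obtain ⟨t', rfl⟩ : ∃ t', t = t' + 1 := ⟨t - 1, by omega⟩
    refine ⟨t', ?_⟩
    rw [mul_add, mul_one, mul_comm] at ht
    omega
  constructor
  · rw [← hcard]
    apply Set.encard_le_encard_of_injOn (f := fun n => n % e)
    · rintro n ⟨hn, hnΓ⟩
      simp only [Finset.coe_Ico, Set.mem_Ico]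
      refine ⟨?_, Nat.mod_lt _ he_pos⟩
      by_contra h
      have h0 : n % e = 0 := by omega
      apply hn
      have := h0S (n / e)
      rwa [Nat.div_mul_cancel (Nat.dvd_of_mod_eq_zero h0)] at this
    · rintro n ⟨hn, hnΓ⟩ m ⟨hm, hmΓ⟩ hnm
      simp only at hnm
      by_contra hne
      rcases Nat.lt_or_gt_of_ne hne with hlt | hlt
      · obtain ⟨k, hk⟩ := hmod n m hnm hlt
        apply hm
        rw [hk, add_comm]; exact hS _ (hke k) _ (hnΓ e he he0)
      · obtain ⟨k, hk⟩ := hmod m n hnm.symm hlt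
        apply hn
        rw [hk, add_comm]; exact hS _ (hke k) _ (hmΓ e he he0)
  · rw [← hcard]
    apply Set.encard_le_encard_of_injOn (f := fun n => n % e)
    · rintro s ⟨hs, hs0, hsΓ⟩
      simp only [Finset.coe_Ico, Set.mem_Ico]
      refine ⟨?_, Nat.mod_lt _ he_pos⟩
      by_contra h
      have h0 : s % e = 0 := by omega
      have hsq : s / e * e = s := Nat.div_mul_cancel (Nat.dvd_of_mod_eq_zero h0)
      have hsmem : s ∈ Γ := hsq ▸ hke (s / e)
      have := hsΓ s hsmem hs0 le_rfl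
      rw [Nat.sub_self] at this
      exact this hS0
    · rintro s ⟨hs, hs0, hsΓ⟩ t ⟨ht, ht0, htΓ⟩ hst
      simp only at hst
      by_contra hne
      rcases Nat.lt_or_gt_of_ne hne with hlt | hlt
      · obtain ⟨k, hk⟩ := hmod s t hst hlt
        have hγ : (k + 1) * e ∈ Γ := hke (k + 1)
        have hγ0 : (k + 1) * e ≠ 0 := Nat.mul_ne_zero (by omega) he0
        have hexp : (k + 1) * e = e + k * e := by ring
        have h1 := htΓ _ hγ hγ0 (by rw [hexp]; omega)
        apply h1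
        have : t - (k + 1) * e = s := by rw [hexp]; omega
        rw [this]; exact hs
      · obtain ⟨k, hk⟩ := hmod t s hst.symm hlt
        have hγ : (k + 1) * e ∈ Γ := hke (k + 1)
        have hγ0 : (k + 1) * e ≠ 0 := Nat.mul_ne_zero (by omega) he0
        have hexp : (k + 1) * e = e + k * e := by ring
        have h1 := hsΓ _ hγ hγ0 (by rw [hexp]; omega)
        apply h1
        have : s - (k + 1) * e = t := by rw [hexp]; omega
        rw [this]; exact ht

end Groth.Agent.S15019
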