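import Groth.Statements.S15024
import Groth.Agent.Lib.Helper2.TorNormA

set_option autoImplicit false
universe u
open CategoryTheory
open TFCurv

namespace Groth.Agent.S15024

/-- Let O be a one-dimensional Noetherian local domain with algebraically closed residue field whose
integral closure O~ in its fraction field K is a finite O-module, M a finitely generated
torsion-free O-module and f : O^n → M an injective O-linear map whose cokernel T has finite length.
Then Tor_1^O(O~, M) and Tor_1^O(O~, T) are isomorphic (existence of an isomorphism only), and O~ ⊗_O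
f : O~ ⊗ O^n → O~ ⊗ M is injective, so that 0 → O~^n → O~ ⊗ M → O~ ⊗ T → 0 is exact. -/
theorem result (O : Type u) [CommRing O] [IsDomain O] [IsNoetherianRing O] [IsLocalRing O] (hdim : ringKrullDim O = 1) [IsAlgClosed (IsLocalRing.ResidueField O)] (K : Type u) [Field K] [Algebra O K] [IsFractionRing O K] (hfin : Module.Finite O ↥(integralClosure O K)) (M : Type u) [AddCommGroup M] [Module O M] [Module.Finite O M] [NoZeroSMulDivisors O M] (n : ℕ) (f : (Fin n → O) →ₗ[O] M) (hf : Function.Injective f) (hT : IsFiniteLength O (M ⧸ LinearMap.range f)) : Nonempty (((Tor (ModuleCat.{u} O) 1).obj (ModuleCat.of O ↥(integralClosure O K))).obj (ModuleCat.of O M) ≅ ((Tor (ModuleCat.{u} O) 1).obj (ModuleCat.of O ↥(integralClosure O K))).obj (ModuleCat.of O (M ⧸ LinearMap.range f))) ∧ Function.Injective (LinearMap.lTensor ↥(integralClosure O K) f) := by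
  classical
  obtain ⟨a, ha0, ha⟩ := Groth.Agent.H2.TorNorm.exists_ne_zero_smul hdim hT
  have hinj : Function.Injective (LinearMap.lTensor ↥(integralClosure O K) f) := by
    rw [injective_iff_map_eq_zero]
    intro x hx
    exact Groth.Agent.H2.TorNorm.eq_zero_of_smul_eq_zero K n ha0 x
      (Groth.Agent.H2.TorNorm.smul_eq_zero_of_mem_ker _ f hf a ha x hx)
  refine ⟨?_, hinj⟩
  have hex : Function.Exact f (LinearMap.range f).mkQ := LinearMap.exact_map_mkQ_range f
  have hS := Groth.Agent.H2.TorBal.scOfLinearMaps_shortExact f (LinearMap.range f).mkQ hf hex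
    (Submodule.mkQ_surjective _)
  have hepi : Epi (((Tor (ModuleCat.{u} O) 1).obj (ModuleCat.of O ↥(integralClosure O K))).map
      (Groth.Agent.H2.TorBal.scOfLinearMaps f (LinearMap.range f).mkQ hex).g) :=
    (Groth.Agent.H2.TorBal.epi_tor_succ_g_iff_mono_tor_f _ _ hS 0).2
      ((Groth.Agent.H2.TorBal.mono_tor_zero_map_iff _ _).2 hinj)
  have hmono : Mono (((Tor (ModuleCat.{u} O) 1).obj (ModuleCat.of O ↥(integralClosure O K))).map
      (Groth.Agent.H2.TorBal.scOfLinearMaps f (LinearMap.range f).mkQ hex).g) := by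
    obtain ⟨⟨w0, ex⟩, -⟩ := Groth.Agent.H2.TorBal.tor_les_right
      (ModuleCat.of O ↥(integralClosure O K)) _ hS 1
    haveI : Module.Flat O
        ↑(Groth.Agent.H2.TorBal.scOfLinearMaps f (LinearMap.range f).mkQ hex).X₁ :=
      inferInstanceAs (Module.Flat O (Fin n → O))
    have hz := Groth.Agent.H2.TorBal.isZero_tor_succ_of_flat_right
      (ModuleCat.of O ↥(integralClosure O K))
      (Groth.Agent.H2.TorBal.scOfLinearMaps f (LinearMap.range f).mkQ hex).X₁ 0
    exact ex.mono_g (hz.eq_of_src _ _)
  have hiso := isIso_of_mono_of_epi (((Tor (ModuleCat.{u} O) 1).obj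
    (ModuleCat.of O ↥(integralClosure O K))).map
      (Groth.Agent.H2.TorBal.scOfLinearMaps f (LinearMap.range f).mkQ hex).g)
  exact ⟨@asIso _ _ _ _ _ hiso⟩

end Groth.Agent.S15024
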