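import Groth.Statements.S15025
import Groth.Agent.Lib.Helper2.TorNormA

set_option autoImplicit false
universe u
open CategoryTheory
open TFCurv

namespace Groth.Agent.S15025

/-- Let O be a one-dimensional Noetherian local domain with algebraically closed residue field whose
integral closure O~ in its fraction field K is a finite O-module, M a finitely generated
torsion-free O-module and g : M → O^n an injective O-linear map whose cokernel T' has finite length.
Then the torsion submodule of O~ ⊗_O M is O-linearly isomorphic to Tor_1^O(O~, T') (existence of an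
isomorphism only). -/
theorem result (O : Type u) [CommRing O] [IsDomain O] [IsNoetherianRing O] [IsLocalRing O] (hdim : ringKrullDim O = 1) [IsAlgClosed (IsLocalRing.ResidueField O)] (K : Type u) [Field K] [Algebra O K] [IsFractionRing O K] (hfin : Module.Finite O ↥(integralClosure O K)) (M : Type u) [AddCommGroup M] [Module O M] [Module.Finite O M] [NoZeroSMulDivisors O M] (n : ℕ) (g : M →ₗ[O] (Fin n → O)) (hg : Function.Injective g) (hT : IsFiniteLength O ((Fin n → O) ⧸ LinearMap.range g)) : Nonempty (↥(Submodule.torsion O (TensorProduct O ↥(integralClosure O K) M)) ≃ₗ[O] ↑(((Tor (ModuleCat.{u} O) 1).obj (ModuleCat.of O ↥(integralClosure O K))).obj (ModuleCat.of O ((Fin n → O) ⧸ LinearMap.range g)))) := by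
  classical
  obtain ⟨a, ha0, ha⟩ := Groth.Agent.H2.TorNorm.exists_ne_zero_smul hdim hT
  have hex : Function.Exact g (LinearMap.range g).mkQ := LinearMap.exact_map_mkQ_range g
  have hS := Groth.Agent.H2.TorBal.scOfLinearMaps_shortExact g (LinearMap.range g).mkQ hg hex
    (Submodule.mkQ_surjective _)
  obtain ⟨-, δ, w₁, w₂, ex1, ex2⟩ := Groth.Agent.H2.TorBal.tor_les_right
    (ModuleCat.of O ↥(integralClosure O K)) _ hS 0
  haveI : Module.Flat O
      ↑(Groth.Agent.H2.TorBal.scOfLinearMaps g (LinearMap.range g).mkQ hex).X₂ :=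
    inferInstanceAs (Module.Flat O (Fin n → O))
  have hz := Groth.Agent.H2.TorBal.isZero_tor_succ_of_flat_right
    (ModuleCat.of O ↥(integralClosure O K))
    (Groth.Agent.H2.TorBal.scOfLinearMaps g (LinearMap.range g).mkQ hex).X₂ 0
  have hinj : Function.Injective δ.hom := by
    rw [← ModuleCat.mono_iff_injective]
    exact ex1.mono_g (hz.eq_of_src _ _)
  have hrange : LinearMap.range δ.hom = LinearMap.ker
      (((Tor (ModuleCat.{u} O) 0).obj (ModuleCat.of O ↥(integralClosure O K))).map
        (Groth.Agent.H2.TorBal.scOfLinearMaps g (LinearMap.range g).mkQ hex).f).hom :=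
    (ShortComplex.moduleCat_exact_iff_range_eq_ker _).1 ex2
  let e1 := (LinearEquiv.ofInjective δ.hom hinj).trans (LinearEquiv.ofEq _ _ hrange)
  let e : (Tor (ModuleCat.{u} O) 0).obj (ModuleCat.of O ↥(integralClosure O K)) ≅
      MonoidalCategory.tensorLeft (ModuleCat.of O ↥(integralClosure O K)) :=
    Functor.leftDerivedZeroIsoSelf _
  have hnat := e.hom.naturality
    (Groth.Agent.H2.TorBal.scOfLinearMaps g (LinearMap.range g).mkQ hex).f
  let e2 := Groth.Agent.H2.TorBC.kerEquivOfComm
    (e.app (Groth.Agent.H2.TorBal.scOfLinearMaps g (LinearMap.range g).mkQ hex).X₁).toLinearEquiv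
    (e.app (Groth.Agent.H2.TorBal.scOfLinearMaps g (LinearMap.range g).mkQ hex).X₂).toLinearEquiv
    (((Tor (ModuleCat.{u} O) 0).obj (ModuleCat.of O ↥(integralClosure O K))).map
        (Groth.Agent.H2.TorBal.scOfLinearMaps g (LinearMap.range g).mkQ hex).f).hom
    (LinearMap.lTensor ↥(integralClosure O K) g)
    (fun x => by
      have := congrArg (fun φ => φ.hom x) hnat
      exact this)
  have hker : LinearMap.ker (LinearMap.lTensor ↥(integralClosure O K) g) =
      Submodule.torsion O (TensorProduct O ↥(integralClosure O K) M) := by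
    ext x
    rw [LinearMap.mem_ker, Submodule.mem_torsion_iff]
    constructor
    · intro hx
      exact ⟨⟨a, mem_nonZeroDivisors_of_ne_zero ha0⟩,
        Groth.Agent.H2.TorNorm.smul_eq_zero_of_mem_ker _ g hg a ha x hx⟩
    · rintro ⟨b, hb⟩
      refine Groth.Agent.H2.TorNorm.eq_zero_of_smul_eq_zero K n
        (nonZeroDivisors.ne_zero b.2) _ ?_
      have : (b : O) • LinearMap.lTensor ↥(integralClosure O K) g x =
          LinearMap.lTensor ↥(integralClosure O K) g ((b : O) • x) := (map_smul _ _ _).symm
      rw [this]
      have hb' : (b : O) • x = 0 := hb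
      rw [hb', map_zero]
  exact ⟨((e1.trans e2).trans (LinearEquiv.ofEq _ _ hker)).symm⟩

end Groth.Agent.S15025
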