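import Groth.Statements.S15040
import Groth.Agent.Lib.Helper6.TFD6

set_option autoImplicit false
universe u
open CategoryTheory
open TFCurv

namespace Groth.Agent.S15040

/-- Let O be a one-dimensional Gorenstein local domain with algebraically closed residue field whose
integral closure O~ in its fraction field K is a finite O-module, and let M be an intermediate ring
O ⊆ M ⊆ O~ (an overring of O), viewed as an O-module. Put M⁻¹ = {x ∈ K | x·M ⊆ O}, which lies in O
and is identified with an ideal of O. Then Ext¹_O(M, M) and Hom_O(M⁻¹, O/M⁻¹) are isomorphic abelian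
groups (existence of an additive isomorphism only). -/
theorem result (O : Type u) [CommRing O] [IsDomain O] [LocCoh.IsGorensteinLocalRing O] (hdim : ringKrullDim O = 1) [IsAlgClosed (IsLocalRing.ResidueField O)] (K : Type u) [Field K] [Algebra O K] [IsFractionRing O K] (hfin : Module.Finite O ↥(integralClosure O K)) (M : Subalgebra O K) (hM : M ≤ integralClosure O K) : Nonempty (Abelian.Ext (ModuleCat.of O ↥M) (ModuleCat.of O ↥M) 1 ≃+ (↥((1 : Submodule O K) / Subalgebra.toSubmodule M) →ₗ[O] (O ⧸ Submodule.comap (Algebra.linearMap O K) ((1 : Submodule O K) / Subalgebra.toSubmodule M)))) := by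
  obtain ⟨n, hn⟩ := LocCoh.IsGorensteinLocalRing.exists_hasInjectiveDimensionLT (A := O)
  have hW := Groth.Agent.H6.TFD.isCan_self hdim n hn
  haveI : IsNoetherian O ↥(integralClosure O K) := isNoetherian_of_isNoetherianRing_of_finite O _
  haveI : Module.Finite O ↥M :=
    Module.Finite.of_injective (Subalgebra.inclusion hM).toLinearMap
      (Subalgebra.inclusion_injective hM)
  haveI : Module.IsTorsionFree O ↥M := inferInstance
  obtain ⟨e⟩ := Groth.Agent.H6.TFD.ext_one_overring M hdim hW
  exact ⟨e.toAddEquiv⟩

end Groth.Agent.S15040
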