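import Groth.Statements.S15049
import Groth.Agent.Lib.Helper2.LT6

set_option autoImplicit false
universe u
open LubinTate

namespace Groth.Agent.S15049

/-- Let O be a discrete valuation ring with finite residue field of cardinality q, π a uniformizer of O,
and f = πT + T^q ∈ O[[T]]. Then there is a one-dimensional commutative formal group law F(X,Y) over
O for which f is an endomorphism, f(F(X,Y)) = F(f(X), f(Y)); and F is the unique power series in
O[[X,Y]] with zero constant term and linear part X + Y satisfying this identity. (The published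
statement is for the ring of integers of a finite extension of ℚ_p or of 𝔽_q((X)); completeness is
not used and any discrete valuation ring with finite residue field is allowed here.) -/
theorem result (O : Type u) [CommRing O] [IsDomain O] [IsDiscreteValuationRing O]
    [Finite (IsLocalRing.ResidueField O)] (π : O) (hπ : Irreducible π) (f : PowerSeries O)
    (hf : f = π • PowerSeries.X + PowerSeries.X ^ Nat.card (IsLocalRing.ResidueField O)) :
    ∃ F : FormalGroup O, F.IsComm ∧
      PowerSeries.subst F.toPowerSeries f =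
        MvPowerSeries.subst (fun i : Fin 2 => PowerSeries.subst (MvPowerSeries.X i : MvPowerSeries (Fin 2) O) f) F.toPowerSeries ∧
      ∀ G : MvPowerSeries (Fin 2) O, G.constantCoeff = 0 → G.coeff (Finsupp.single 0 1) = 1 →
        G.coeff (Finsupp.single 1 1) = 1 →
        PowerSeries.subst G f =
        MvPowerSeries.subst (fun i : Fin 2 => PowerSeries.subst (MvPowerSeries.X i : MvPowerSeries (Fin 2) O) f) G →
        G = F.toPowerSeries := by
  classical
  have hq := Groth.Agent.H2.LT.two_le_card (O := O)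
  have hf' : f = Groth.Agent.H2.LT.fser π 1 (Nat.card (IsLocalRing.ResidueField O)) := by
    rw [hf]; simp [Groth.Agent.H2.LT.fser]
  have hf0 : PowerSeries.constantCoeff f = 0 := by
    have : Nat.card (IsLocalRing.ResidueField O) ≠ 0 := by omega
    rw [hf]; simp [this]
  obtain ⟨Φ, ⟨h0, h1, h2⟩, huniq⟩ :=
    Groth.Agent.H2.LT.existsUnique_dvr hπ (σ := Fin 2) (fun _ => (1 : O))
  rw [← hf'] at h2
  have IΦ : Groth.Agent.H2.LT.Inter f f Φ := ⟨h0, h2⟩
  -- general uniqueness helper
  have uniq : ∀ {τ : Type} [Finite τ] (G₁ G₂ : MvPowerSeries τ O),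
      Groth.Agent.H2.LT.Inter f f G₁ → Groth.Agent.H2.LT.Inter f f G₂ →
      (∀ j : τ, MvPowerSeries.coeff (Finsupp.single j 1) G₁ =
        MvPowerSeries.coeff (Finsupp.single j 1) G₂) → G₁ = G₂ := by
    intro τ _ G₁ G₂ hG₁ hG₂ hlin
    rw [hf'] at hG₁ hG₂
    exact Groth.Agent.H2.LT.unique_dvr hπ _ _ hG₁.1 hG₂.1 hlin hG₁.2 hG₂.2
  have IX3 : ∀ i : Fin 3, Groth.Agent.H2.LT.Inter f f (MvPowerSeries.X i : MvPowerSeries (Fin 3) O) :=
    fun i => Groth.Agent.H2.LT.Inter.X hf0 i
  have IX2 : ∀ i : Fin 2, Groth.Agent.H2.LT.Inter f f (MvPowerSeries.X i : MvPowerSeries (Fin 2) O) :=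
    fun i => Groth.Agent.H2.LT.Inter.X hf0 i
  have Ipair : ∀ {τ : Type} [Finite τ] (a b : MvPowerSeries τ O),
      Groth.Agent.H2.LT.Inter f f a → Groth.Agent.H2.LT.Inter f f b →
      ∀ i : Fin 2, Groth.Agent.H2.LT.Inter f f ((![a, b] : Fin 2 → MvPowerSeries τ O) i) := by
    intro τ _ a b ha hb i
    fin_cases i
    · exact ha
    · exact hb
  have Isub : ∀ {τ : Type} [Finite τ] (a b : MvPowerSeries τ O),
      Groth.Agent.H2.LT.Inter f f a → Groth.Agent.H2.LT.Inter f f b →
      Groth.Agent.H2.LT.Inter f f (MvPowerSeries.subst (![a, b] : Fin 2 → MvPowerSeries τ O) Φ) := by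
    intro τ _ a b ha hb
    exact Groth.Agent.H2.LT.Inter.comp hf0 hf0 IΦ (Ipair a b ha hb)
  have lin : ∀ {τ : Type} [Finite τ] (a b : MvPowerSeries τ O),
      Groth.Agent.H2.LT.Inter f f a → Groth.Agent.H2.LT.Inter f f b → ∀ j : τ,
      MvPowerSeries.coeff (Finsupp.single j 1)
        (MvPowerSeries.subst (![a, b] : Fin 2 → MvPowerSeries τ O) Φ) =
      MvPowerSeries.coeff (Finsupp.single j 1) a + MvPowerSeries.coeff (Finsupp.single j 1) b := by
    intro τ _ a b ha hb j
    rw [Groth.Agent.H2.LT.coeff_single_subst _ h0 _ (fun i => (Ipair a b ha hb i).1) j,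
      Fin.sum_univ_two, h1 0, h1 1, one_mul, one_mul]
    rfl
  let F : FormalGroup O :=
    { toPowerSeries := Φ
      zero_constantCoeff := h0
      lin_coeff_X := h1 0
      lin_coeff_Y := h1 1
      assoc := by
        apply uniq
        · exact Isub _ _ (Isub _ _ (IX3 0) (IX3 1)) (IX3 2)
        · exact Isub _ _ (IX3 0) (Isub _ _ (IX3 1) (IX3 2))
        · intro j
          rw [lin _ _ (Isub _ _ (IX3 0) (IX3 1)) (IX3 2), lin _ _ (IX3 0) (IX3 1),
            lin _ _ (IX3 0) (Isub _ _ (IX3 1) (IX3 2)), lin _ _ (IX3 1) (IX3 2)]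
          ring }
  refine ⟨F, ⟨?_⟩, ?_, ?_⟩
  · change Φ = MvPowerSeries.subst ![MvPowerSeries.X 1, MvPowerSeries.X 0] Φ
    apply uniq
    · exact IΦ
    · exact Isub _ _ (IX2 1) (IX2 0)
    · intro j
      rw [lin _ _ (IX2 1) (IX2 0), h1 j]
      fin_cases j
      · simp [MvPowerSeries.coeff_X, Finsupp.single_left_inj]
      · simp [MvPowerSeries.coeff_X, Finsupp.single_left_inj]
  · exact h2
  · intro G hG0 hG1 hG2 hG
    apply huniq
    refine ⟨hG0, ?_, ?_⟩
    · intro i
      fin_cases i
      · exact hG1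
      · exact hG2
    · rw [← hf']
      exact hG

end Groth.Agent.S15049
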