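import Groth.Statements.S15051
import Groth.Agent.Lib.Helper2.LT6

set_option autoImplicit false
universe u
open LubinTate

namespace Groth.Agent.S15051

/-- Let O be a discrete valuation ring with finite residue field of cardinality q, π a uniformizer of O,
and f = πT + T^q ∈ O[[T]]; let F be a one-dimensional formal group law over O for which f is an
endomorphism, f(F(X,Y)) = F(f(X), f(Y)), and g ∈ O[[T]] a power series with zero constant term which
commutes with f, g(f(T)) = f(g(T)). Then g is an endomorphism of F, that is g(F(X,Y)) = F(g(X),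
g(Y)); so α ↦ [α] maps O into the endomorphisms of the Lubin–Tate formal group. (The published
statement is for the ring of integers of a finite extension of ℚ_p or of 𝔽_q((X)); completeness is
not used and any discrete valuation ring with finite residue field is allowed here.) -/
theorem result (O : Type u) [CommRing O] [IsDomain O] [IsDiscreteValuationRing O]
    [Finite (IsLocalRing.ResidueField O)] (π : O) (hπ : Irreducible π) (f : PowerSeries O)
    (hf : f = π • PowerSeries.X + PowerSeries.X ^ Nat.card (IsLocalRing.ResidueField O))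
    (F : FormalGroup O)
    (hF : PowerSeries.subst F.toPowerSeries f =
        MvPowerSeries.subst (fun i : Fin 2 => PowerSeries.subst (MvPowerSeries.X i : MvPowerSeries (Fin 2) O) f) F.toPowerSeries)
    (g : PowerSeries O) (hg0 : g.constantCoeff = 0)
    (hgf : PowerSeries.subst g f = PowerSeries.subst f g) :
    PowerSeries.subst F.toPowerSeries g =
      MvPowerSeries.subst (fun i : Fin 2 => PowerSeries.subst (MvPowerSeries.X i : MvPowerSeries (Fin 2) O) g)
        F.toPowerSeries := by
  classical
  have hq := Groth.Agent.H2.LT.two_le_card (O := O)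
  have hf' : f = Groth.Agent.H2.LT.fser π 1 (Nat.card (IsLocalRing.ResidueField O)) := by
    rw [hf]; simp [Groth.Agent.H2.LT.fser]
  have hf0 : PowerSeries.constantCoeff f = 0 := by
    have : Nat.card (IsLocalRing.ResidueField O) ≠ 0 := by omega
    rw [hf]; simp [this]
  have hIF : Groth.Agent.H2.LT.Inter f f F.toPowerSeries := ⟨F.zero_constantCoeff, hF⟩
  have hIg : Groth.Agent.H2.LT.Inter f f (g : MvPowerSeries Unit O) :=
    (Groth.Agent.H2.LT.inter_unit_iff f f g).mpr ⟨hg0, hgf⟩
  have h1 : Groth.Agent.H2.LT.Inter f f (PowerSeries.subst F.toPowerSeries g) :=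
    Groth.Agent.H2.LT.Inter.psubst hf0 hf0 hIg hIF
  have hgX : ∀ i : Fin 2, Groth.Agent.H2.LT.Inter f f
      (PowerSeries.subst (MvPowerSeries.X i : MvPowerSeries (Fin 2) O) g) :=
    fun i => Groth.Agent.H2.LT.Inter.psubst hf0 hf0 hIg (Groth.Agent.H2.LT.Inter.X hf0 i)
  have h2 : Groth.Agent.H2.LT.Inter f f (MvPowerSeries.subst
      (fun i : Fin 2 => PowerSeries.subst (MvPowerSeries.X i : MvPowerSeries (Fin 2) O) g)
      F.toPowerSeries) :=
    Groth.Agent.H2.LT.Inter.comp hf0 hf0 hIF hgX
  rw [hf'] at h1 h2
  apply Groth.Agent.H2.LT.unique_dvr hπ _ _ h1.1 h2.1 ?_ h1.2 h2.2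
  intro j
  rw [Groth.Agent.H2.LT.coeff_single_psubst g hg0 _ F.zero_constantCoeff j,
    Groth.Agent.H2.LT.coeff_single_subst _ F.zero_constantCoeff _ (fun i => (hgX i).1) j]
  simp_rw [Groth.Agent.H2.LT.coeff_single_psubst g hg0 _ (MvPowerSeries.constantCoeff_X _)]
  rw [Fin.sum_univ_two, F.lin_coeff_X, F.lin_coeff_Y]
  fin_cases j
  · simp [F.lin_coeff_X, MvPowerSeries.coeff_X, Finsupp.single_left_inj]
  · simp [F.lin_coeff_Y, MvPowerSeries.coeff_X, Finsupp.single_left_inj]

end Groth.Agent.S15051
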