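import Groth.Statements.S15052
import Groth.Agent.Lib.Helper2.LT7

set_option autoImplicit false
universe u
open LubinTate

namespace Groth.Agent.S15052

/-- Let O be a discrete valuation ring with finite residue field of cardinality q, π a uniformizer of O,
and f = πT + T^q ∈ O[[T]]; let K be the fraction field of O and F a one-dimensional formal group law
over O for which f is an endomorphism, f(F(X,Y)) = F(f(X), f(Y)). Then there is a unique power
series ℓ ∈ K[[T]] with zero constant term and linear coefficient 1 such that ℓ(f(T)) = π·ℓ(T); this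
logarithm is a homomorphism to the additive formal group, ℓ(F(T,S)) = ℓ(T) + ℓ(S), and it is
O-linear in the sense that ℓ(g(T)) = α·ℓ(T) for every α ∈ O and every series g ∈ O[[T]] with zero
constant term and linear coefficient α commuting with f. (The published statement is for the ring of
integers of a finite extension of ℚ_p; completeness is not used and any discrete valuation ring with
finite residue field is allowed here.) -/
theorem result (O : Type u) [CommRing O] [IsDomain O] [IsDiscreteValuationRing O]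
    [Finite (IsLocalRing.ResidueField O)] (K : Type u) [Field K] [Algebra O K] [IsFractionRing O K]
    (π : O) (hπ : Irreducible π) (f : PowerSeries O)
    (hf : f = π • PowerSeries.X + PowerSeries.X ^ Nat.card (IsLocalRing.ResidueField O))
    (F : FormalGroup O)
    (hF : PowerSeries.subst F.toPowerSeries f =
        MvPowerSeries.subst (fun i : Fin 2 => PowerSeries.subst (MvPowerSeries.X i : MvPowerSeries (Fin 2) O) f) F.toPowerSeries) :
    ∃ ℓ : PowerSeries K, (ℓ.constantCoeff = 0 ∧ ℓ.coeff 1 = 1 ∧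
      PowerSeries.subst (PowerSeries.map (algebraMap O K) f) ℓ = algebraMap O K π • ℓ) ∧
      (∀ ℓ' : PowerSeries K, ℓ'.constantCoeff = 0 → ℓ'.coeff 1 = 1 →
        PowerSeries.subst (PowerSeries.map (algebraMap O K) f) ℓ' = algebraMap O K π • ℓ' → ℓ' = ℓ) ∧
      PowerSeries.subst ((F.toPowerSeries).map (algebraMap O K)) ℓ =
        PowerSeries.subst (MvPowerSeries.X (0 : Fin 2) : MvPowerSeries (Fin 2) K) ℓ +
          PowerSeries.subst (MvPowerSeries.X (1 : Fin 2) : MvPowerSeries (Fin 2) K) ℓ ∧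
      (∀ (α : O) (g : PowerSeries O), g.constantCoeff = 0 → g.coeff 1 = α →
        PowerSeries.subst g f = PowerSeries.subst f g →
        PowerSeries.subst (PowerSeries.map (algebraMap O K) g) ℓ = algebraMap O K α • ℓ) := by
  classical
  have hq := Groth.Agent.H2.LT.two_le_card (O := O)
  have hinj : Function.Injective (algebraMap O K) := IsFractionRing.injective O K
  have hf' : f = Groth.Agent.H2.LT.fser π 1 (Nat.card (IsLocalRing.ResidueField O)) := by
    rw [hf]; simp [Groth.Agent.H2.LT.fser]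
  have hf0 : PowerSeries.constantCoeff f = 0 := by
    have : Nat.card (IsLocalRing.ResidueField O) ≠ 0 := by omega
    rw [hf]; simp [this]
  have hfK : PowerSeries.map (algebraMap O K) f =
      Groth.Agent.H2.LT.fser (algebraMap O K π) 1 (Nat.card (IsLocalRing.ResidueField O)) := by
    rw [hf', Groth.Agent.H2.LT.map_fser, map_one]
  have hfK0 : PowerSeries.constantCoeff (Groth.Agent.H2.LT.fser (algebraMap O K π) 1
      (Nat.card (IsLocalRing.ResidueField O))) = 0 := by
    have : Nat.card (IsLocalRing.ResidueField O) ≠ 0 := by omega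
    simp [Groth.Agent.H2.LT.fser, this]
  have hπK : algebraMap O K π ≠ 0 := by
    intro h
    exact hπ.ne_zero (hinj (h.trans (map_zero _).symm))
  have hne : ∀ n : ℕ, 1 ≤ n → algebraMap O K π - algebraMap O K π ^ (n + 1) ≠ 0 := by
    intro n hn h
    have h1 : algebraMap O K (π - π ^ (n + 1)) = 0 := by rw [map_sub, map_pow]; exact h
    have h2 := hinj (h1.trans (map_zero _).symm)
    have := Groth.Agent.H2.LT.hreg_dvr hπ n hn 1 (by rw [mul_one]; exact h2)
    exact one_ne_zero this
  obtain ⟨ℓ, ⟨hℓ0, hℓ1, hℓ2⟩, huniq⟩ :=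
    Groth.Agent.H2.LT.existsUnique_field (σ := Unit) hπK hne 1 0 hq (le_refl 2) (fun _ => (1 : K))
  have Iℓ : Groth.Agent.H2.LT.Inter
      (Groth.Agent.H2.LT.fser (algebraMap O K π) 1 (Nat.card (IsLocalRing.ResidueField O)))
      (Groth.Agent.H2.LT.fser (algebraMap O K π) 0 2) ℓ := ⟨hℓ0, hℓ2⟩
  refine ⟨ℓ, ⟨hℓ0, hℓ1 (), ?_⟩, ?_, ?_, ?_⟩
  · rw [hfK, ← Groth.Agent.H2.LT.ract_unit, ← hℓ2, Groth.Agent.H2.LT.lact_lin _ ℓ hℓ0]
  · intro ℓ' h0 h1 h2
    apply huniq
    refine ⟨h0, fun _ => h1, ?_⟩
    rw [Groth.Agent.H2.LT.lact_lin _ ℓ' h0, Groth.Agent.H2.LT.ract_unit, ← hfK, h2]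
  · have IFK : Groth.Agent.H2.LT.Inter
        (Groth.Agent.H2.LT.fser (algebraMap O K π) 1 (Nat.card (IsLocalRing.ResidueField O)))
        (Groth.Agent.H2.LT.fser (algebraMap O K π) 1 (Nat.card (IsLocalRing.ResidueField O)))
        (F.toPowerSeries.map (algebraMap O K)) := by
      have := Groth.Agent.H2.LT.Inter.map (algebraMap O K) hf0
        (⟨F.zero_constantCoeff, hF⟩ : Groth.Agent.H2.LT.Inter f f F.toPowerSeries)
      rwa [hfK] at this
    have I1 := Groth.Agent.H2.LT.Inter.psubst hfK0 hfK0 Iℓ IFK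
    have IA : ∀ i : Fin 2, Groth.Agent.H2.LT.Inter
        (Groth.Agent.H2.LT.fser (algebraMap O K π) 1 (Nat.card (IsLocalRing.ResidueField O)))
        (Groth.Agent.H2.LT.fser (algebraMap O K π) 0 2)
        (PowerSeries.subst (MvPowerSeries.X i : MvPowerSeries (Fin 2) K) ℓ) :=
      fun i => Groth.Agent.H2.LT.Inter.psubst hfK0 hfK0 Iℓ (Groth.Agent.H2.LT.Inter.X hfK0 i)
    have I2 := Groth.Agent.H2.LT.Inter.add_lin hfK0 (IA 0) (IA 1)
    apply Groth.Agent.H2.LT.unique_field hne 1 0 hq le_rfl _ _ I1 I2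
    intro j
    rw [Groth.Agent.H2.LT.coeff_single_psubst ℓ hℓ0 _ IFK.1 j, map_add,
      Groth.Agent.H2.LT.coeff_single_psubst ℓ hℓ0 _ (MvPowerSeries.constantCoeff_X 0) j,
      Groth.Agent.H2.LT.coeff_single_psubst ℓ hℓ0 _ (MvPowerSeries.constantCoeff_X 1) j]
    have hl1 : PowerSeries.coeff 1 ℓ = 1 := hℓ1 ()
    rw [hl1, MvPowerSeries.coeff_map]
    fin_cases j
    · simp [F.lin_coeff_X, MvPowerSeries.coeff_X, Finsupp.single_left_inj]
    · simp [F.lin_coeff_Y, MvPowerSeries.coeff_X, Finsupp.single_left_inj]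
  · intro α g hg0 hg1 hgf
    have IgK : Groth.Agent.H2.LT.Inter
        (Groth.Agent.H2.LT.fser (algebraMap O K π) 1 (Nat.card (IsLocalRing.ResidueField O)))
        (Groth.Agent.H2.LT.fser (algebraMap O K π) 1 (Nat.card (IsLocalRing.ResidueField O)))
        (PowerSeries.map (algebraMap O K) g : MvPowerSeries Unit K) := by
      have := Groth.Agent.H2.LT.Inter.map (algebraMap O K) hf0
        ((Groth.Agent.H2.LT.inter_unit_iff f f g).mpr ⟨hg0, hgf⟩)
      rwa [hfK] at this
    have I1 := Groth.Agent.H2.LT.Inter.psubst (τ := Unit) hfK0 hfK0 Iℓ IgK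
    have I2 := Groth.Agent.H2.LT.Inter.smul_lin hfK0 (algebraMap O K α) Iℓ
    apply Groth.Agent.H2.LT.unique_field (σ := Unit) hne 1 0 hq le_rfl _ _ I1 I2
    intro j
    have hl1 : PowerSeries.coeff 1 ℓ = 1 := hℓ1 ()
    have := Groth.Agent.H2.LT.coeff_one_psubst ℓ (PowerSeries.map (algebraMap O K) g) hℓ0 IgK.1
    rw [hl1, PowerSeries.coeff_map, hg1, one_mul] at this
    refine this.trans ?_
    change _ = PowerSeries.coeff 1 (algebraMap O K α • ℓ)
    rw [PowerSeries.coeff_smul, hl1, smul_eq_mul, mul_one]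

end Groth.Agent.S15052
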