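import Groth.Statements.S15058
import Groth.Agent.Lib.Helper2.FGInv

set_option autoImplicit false
universe u
open FmlGrp

namespace Groth.Agent.S15058

/-- Let R be a commutative ring and F(X,Y) ∈ R[[X,Y]] a one-dimensional formal group law (zero constant
term, linear part X + Y, associative). Then there is a power series g(X) ∈ R[[X]] with zero constant
term which is a two-sided inverse for F, F(X, g(X)) = 0 = F(g(X), X), and it is unique: every power
series with zero constant term which is a right inverse or a left inverse equals g. (The published
text proves this for formal group laws of any finite dimension with coefficients in a complete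
Noetherian local ring; the argument is a formal degree-by-degree construction, and this row states
the one-dimensional case over an arbitrary commutative ring.) -/
theorem result (R : Type u) [CommRing R] (F : FormalGroup R) :
    ∃ g : PowerSeries R, g.constantCoeff = 0 ∧
      F.toPowerSeries.subst ![PowerSeries.X, g] = (0 : PowerSeries R) ∧
      F.toPowerSeries.subst ![g, PowerSeries.X] = (0 : PowerSeries R) ∧
      ∀ k : PowerSeries R, k.constantCoeff = 0 →
        (F.toPowerSeries.subst ![PowerSeries.X, k] = (0 : PowerSeries R) ∨
          F.toPowerSeries.subst ![k, PowerSeries.X] = (0 : PowerSeries R)) → k = g := by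
  have hX : MvPowerSeries.constantCoeff (PowerSeries.X : MvPowerSeries Unit R) = 0 :=
    PowerSeries.constantCoeff_X
  obtain ⟨g, hg0, hg⟩ := Groth.Agent.H2.FGInv.exists_right_inv F (PowerSeries.X : MvPowerSeries Unit R) hX
  obtain ⟨g', hg'0, hg'⟩ := Groth.Agent.H2.FGInv.exists_right_inv F g hg0
  let x : F.Point Unit := ⟨PowerSeries.X, PowerSeries.HasSubst.of_constantCoeff_zero hX⟩
  let gp : F.Point Unit := ⟨g, PowerSeries.HasSubst.of_constantCoeff_zero hg0⟩
  let gp' : F.Point Unit := ⟨g', PowerSeries.HasSubst.of_constantCoeff_zero hg'0⟩
  have h1 : x + gp = 0 := Subtype.ext hg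
  have h2 : gp + gp' = 0 := Subtype.ext hg'
  have h3 : x = gp' := left_neg_eq_right_neg h1 h2
  have h4 : gp + x = 0 := h3 ▸ h2
  refine ⟨g, hg0, hg, congrArg Subtype.val h4, ?_⟩
  intro k hk0 hk
  let kp : F.Point Unit := ⟨k, PowerSeries.HasSubst.of_constantCoeff_zero hk0⟩
  rcases hk with hk | hk
  · have h5 : x + kp = 0 := Subtype.ext hk
    have h6 := left_neg_eq_right_neg h4 h5
    exact (congrArg Subtype.val h6).symm
  · have h5 : kp + x = 0 := Subtype.ext hk
    have h6 := left_neg_eq_right_neg h5 h1
    exact congrArg Subtype.val h6

end Groth.Agent.S15058
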