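import Groth.Statements.S15060
import Groth.Agent.Lib.Helper2.LT6

set_option autoImplicit false
universe u
open LubinTate

namespace Groth.Agent.S15060

/-- Let O be a discrete valuation ring with finite residue field of cardinality q, π a uniformizer of O,
f = πT + T^q ∈ O[[T]], and F a one-dimensional formal group law over O for which f is an
endomorphism, f(F(X,Y)) = F(f(X), f(Y)). For α ∈ O write [α] for a power series with zero constant
term and linear coefficient α commuting with f (it is unique). Then for all α, β ∈ O and all such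
series [α], [β], [αβ], [α+β] one has [α]([β](T)) = [αβ](T) and F([α](T), [β](T)) = [α+β](T): the map
α ↦ [α] is a ring homomorphism from O to the endomorphisms of F with their formal-group addition and
composition. (The published statement is for the ring of integers of a finite extension of ℚ_p or of
𝔽_q((X)); completeness is not used and any discrete valuation ring with finite residue field is
allowed here.) -/
theorem result (O : Type u) [CommRing O] [IsDomain O] [IsDiscreteValuationRing O]
    [Finite (IsLocalRing.ResidueField O)] (π : O) (hπ : Irreducible π) (f : PowerSeries O)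
    (hf : f = π • PowerSeries.X + PowerSeries.X ^ Nat.card (IsLocalRing.ResidueField O))
    (F : FormalGroup O)
    (hF : PowerSeries.subst F.toPowerSeries f =
        MvPowerSeries.subst (fun i : Fin 2 => PowerSeries.subst (MvPowerSeries.X i : MvPowerSeries (Fin 2) O) f)
          F.toPowerSeries)
    (α β : O) (gα gβ gαβ gs : PowerSeries O)
    (hα0 : gα.constantCoeff = 0) (hα1 : gα.coeff 1 = α) (hαf : PowerSeries.subst gα f = PowerSeries.subst f gα)
    (hβ0 : gβ.constantCoeff = 0) (hβ1 : gβ.coeff 1 = β) (hβf : PowerSeries.subst gβ f = PowerSeries.subst f gβ)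
    (hαβ0 : gαβ.constantCoeff = 0) (hαβ1 : gαβ.coeff 1 = α * β)
    (hαβf : PowerSeries.subst gαβ f = PowerSeries.subst f gαβ)
    (hs0 : gs.constantCoeff = 0) (hs1 : gs.coeff 1 = α + β) (hsf : PowerSeries.subst gs f = PowerSeries.subst f gs) :
    PowerSeries.subst gβ gα = gαβ ∧ F.toPowerSeries.subst ![gα, gβ] = gs := by
  classical
  have hq := Groth.Agent.H2.LT.two_le_card (O := O)
  have hf' : f = Groth.Agent.H2.LT.fser π 1 (Nat.card (IsLocalRing.ResidueField O)) := by
    rw [hf]; simp [Groth.Agent.H2.LT.fser]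
  have hf0 : PowerSeries.constantCoeff f = 0 := by
    have : Nat.card (IsLocalRing.ResidueField O) ≠ 0 := by omega
    rw [hf]; simp [this]
  have hIF : Groth.Agent.H2.LT.Inter f f F.toPowerSeries := ⟨F.zero_constantCoeff, hF⟩
  have hIα : Groth.Agent.H2.LT.Inter f f (gα : MvPowerSeries Unit O) :=
    (Groth.Agent.H2.LT.inter_unit_iff f f gα).mpr ⟨hα0, hαf⟩
  have hIβ : Groth.Agent.H2.LT.Inter f f (gβ : MvPowerSeries Unit O) :=
    (Groth.Agent.H2.LT.inter_unit_iff f f gβ).mpr ⟨hβ0, hβf⟩
  have hIαβ : Groth.Agent.H2.LT.Inter f f (gαβ : MvPowerSeries Unit O) :=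
    (Groth.Agent.H2.LT.inter_unit_iff f f gαβ).mpr ⟨hαβ0, hαβf⟩
  have hIs : Groth.Agent.H2.LT.Inter f f (gs : MvPowerSeries Unit O) :=
    (Groth.Agent.H2.LT.inter_unit_iff f f gs).mpr ⟨hs0, hsf⟩
  constructor
  · have h1 : Groth.Agent.H2.LT.Inter f f (PowerSeries.subst gβ gα) :=
      Groth.Agent.H2.LT.Inter.psubst (τ := Unit) hf0 hf0 hIα hIβ
    rw [hf'] at h1 hIαβ
    apply Groth.Agent.H2.LT.unique_dvr (σ := Unit) hπ _ _ h1.1 hIαβ.1 ?_ h1.2 hIαβ.2
    intro j
    have := Groth.Agent.H2.LT.coeff_one_psubst gα gβ hα0 hβ0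
    rw [hα1, hβ1] at this
    exact this.trans hαβ1.symm
  · have hΨ : ∀ i : Fin 2, Groth.Agent.H2.LT.Inter f f ((![gα, gβ] : Fin 2 → PowerSeries O) i) := by
      intro i
      fin_cases i
      · exact hIα
      · exact hIβ
    have h1 : Groth.Agent.H2.LT.Inter f f
        (MvPowerSeries.subst (![gα, gβ] : Fin 2 → PowerSeries O) F.toPowerSeries) :=
      Groth.Agent.H2.LT.Inter.comp (τ := Unit) hf0 hf0 hIF hΨ
    rw [hf'] at h1 hIs
    apply Groth.Agent.H2.LT.unique_dvr (σ := Unit) hπ _ _ h1.1 hIs.1 ?_ h1.2 hIs.2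
    intro j
    rw [Groth.Agent.H2.LT.coeff_single_subst _ F.zero_constantCoeff _ (fun i => (hΨ i).1) j,
      Fin.sum_univ_two, F.lin_coeff_X, F.lin_coeff_Y, one_mul, one_mul]
    change PowerSeries.coeff 1 gα + PowerSeries.coeff 1 gβ = PowerSeries.coeff 1 gs
    rw [hα1, hβ1, hs1]

end Groth.Agent.S15060
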