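import Groth.Statements.S15084
import Mathlib

set_option autoImplicit false
universe u
open MovLem

namespace Groth.Agent.S15084

/-- Let A be a Noetherian integrally closed domain with fraction field K, let B be a domain with
fraction field L, and let A → B be an injective ring homomorphism, with K → L the induced map of
fraction fields, such that Spec B → Spec A is surjective (every prime ideal of A is the contraction
of a prime ideal of B). If a ∈ K is such that its image in L lies in B, then a ∈ A. (The published
statement: for a surjective morphism f : Y → X of normal integral separated schemes of finite type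
over a perfect field and a Cartier divisor D on X, if f^*D is effective then D is effective; a
Cartier divisor is locally the divisor of a nonzero rational function a, effectivity of div(a) on a
normal scheme means that a is a regular function, and this row is that local statement, which is
what the published proof establishes.) -/
theorem result
    (A B K L : Type u) [CommRing A] [IsDomain A] [IsNoetherianRing A] [IsIntegrallyClosed A]
    [CommRing B] [IsDomain B] [Field K] [Field L]
    [Algebra A B] [Algebra A K] [IsFractionRing A K] [Algebra B L] [IsFractionRing B L]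
    [Algebra K L] [Algebra A L] [IsScalarTower A K L] [IsScalarTower A B L]
    (hinj : Function.Injective (algebraMap A B))
    (hsurj : ∀ p : Ideal A, p.IsPrime → ∃ q : Ideal B, q.IsPrime ∧ q.comap (algebraMap A B) = p)
    (a : K) (ha : algebraMap K L a ∈ (algebraMap B L).range) :
    a ∈ (algebraMap A K).range := by
  classical
  by_contra hna
  -- A inside K as an A-submodule
  set N₀ : Submodule A K := LinearMap.range (Algebra.linearMap A K) with hN₀
  have hmemN₀ : ∀ w : K, w ∈ N₀ ↔ w ∈ (algebraMap A K).range := by
    intro w
    rw [hN₀, LinearMap.mem_range, RingHom.mem_range]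
    rfl
  have haN : a ∉ N₀ := fun h => hna ((hmemN₀ a).1 h)
  obtain ⟨β, hβ⟩ := ha
  -- maximal colon ideal
  obtain ⟨P, ⟨hPtop, z, rfl⟩, hPmax⟩ :=
    set_has_maximal_iff_noetherian.mpr (inferInstance : IsNoetherianRing A)
      { P : Ideal A | P ≠ ⊤ ∧ ∃ z : A, P = N₀.colon {z • a} }
      ⟨N₀.colon {(1 : A) • a}, by
        refine ⟨?_, 1, rfl⟩
        intro htop
        have h1 : (1 : A) ∈ N₀.colon {(1 : A) • a} := by rw [htop]; trivial
        rw [Submodule.mem_colon_singleton, one_smul, one_smul] at h1
        exact haN h1⟩
  set w : K := z • a with hw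
  have hwN : w ∉ N₀ := by
    intro h
    apply hPtop
    rw [Ideal.eq_top_iff_one, Submodule.mem_colon_singleton, one_smul]
    exact h
  -- P is prime
  have hPprime : (N₀.colon {w}).IsPrime := by
    refine ⟨hPtop, ?_⟩
    intro x y hxy
    rw [or_iff_not_imp_left]
    intro hx
    rw [Submodule.mem_colon_singleton] at hx hxy
    have H₁ : N₀.colon {w} ≤ N₀.colon {x • w} := by
      intro c hc
      rw [Submodule.mem_colon_singleton] at hc ⊢
      rw [smul_comm]
      exact N₀.smul_mem x hc
    have hmem : N₀.colon {x • w} ∈ { P : Ideal A | P ≠ ⊤ ∧ ∃ z : A, P = N₀.colon {z • a} } := by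
      refine ⟨?_, x * z, by rw [hw, smul_smul]⟩
      intro htop
      have h1 : (1 : A) ∈ N₀.colon {x • w} := by rw [htop]; trivial
      rw [Submodule.mem_colon_singleton, one_smul] at h1
      exact hx h1
    have heq := H₁.eq_of_not_lt (hPmax _ hmem)
    rw [heq, Submodule.mem_colon_singleton, smul_smul, mul_comm]
    exact hxy
  -- w is in the image of B
  have hwL : algebraMap K L w = algebraMap B L (algebraMap A B z * β) := by
    rw [hw, Algebra.smul_def, map_mul, map_mul, hβ, ← IsScalarTower.algebraMap_apply A K L,
      IsScalarTower.algebraMap_apply A B L]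
  -- P ≠ ⊥
  obtain ⟨s0, t0, ht0, hst⟩ := IsFractionRing.div_surjective (A := A) w
  have ht0' : algebraMap A K t0 ≠ 0 :=
    IsFractionRing.to_map_ne_zero_of_mem_nonZeroDivisors ht0
  have ht0P : t0 ∈ N₀.colon {w} := by
    rw [Submodule.mem_colon_singleton, (hmemN₀ _)]
    refine ⟨s0, ?_⟩
    rw [Algebra.smul_def, ← hst]
    field_simp
  have ht0ne : t0 ≠ 0 := fun h => ht0' (by rw [h, map_zero])
  by_cases hcase : ∀ d ∈ N₀.colon {w}, ∃ d' ∈ N₀.colon {w}, d • w = algebraMap A K d'
  · -- integral case
    set N : Submodule A K := Submodule.map (Algebra.linearMap A K) (N₀.colon {w}) with hN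
    have hNbot : N ≠ ⊥ := by
      intro h
      have h1 : algebraMap A K t0 ∈ N := ⟨t0, ht0P, rfl⟩
      rw [h, Submodule.mem_bot] at h1
      exact ht0' h1
    have hNfg : N.FG := Submodule.FG.map _ (IsNoetherian.noetherian _)
    have hint : IsIntegral A w := by
      apply isIntegral_of_smul_mem_submodule N hNbot hNfg w
      rintro _ ⟨d, hd, rfl⟩
      obtain ⟨d', hd', hdd'⟩ := hcase d hd
      refine ⟨d', hd', ?_⟩
      rw [Algebra.linearMap_apply, Algebra.linearMap_apply, ← hdd', Algebra.smul_def, smul_eq_mul,
        mul_comm]
    obtain ⟨y, hy⟩ := IsIntegrallyClosed.isIntegral_iff.1 hint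
    exact hwN ((hmemN₀ w).2 ⟨y, hy⟩)
  · push Not at hcase
    obtain ⟨d, hdP, hd⟩ := hcase
    have hdw : d • w ∈ N₀ := Submodule.mem_colon_singleton.1 hdP
    obtain ⟨s, hs⟩ := (hmemN₀ _).1 hdw
    have hsP : s ∉ N₀.colon {w} := fun h => hd s h hs.symm
    obtain ⟨q, hq, hqP⟩ := hsurj _ hPprime
    have h1 : algebraMap B L (algebraMap A B d * (algebraMap A B z * β)) =
        algebraMap B L (algebraMap A B s) := by
      rw [map_mul, ← hwL, ← IsScalarTower.algebraMap_apply A B L, ← IsScalarTower.algebraMap_apply A B L,
        IsScalarTower.algebraMap_apply A K L, IsScalarTower.algebraMap_apply A K L s, ← map_mul, hs,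
        Algebra.smul_def]
    have h2 := IsFractionRing.injective B L h1
    have hdq : algebraMap A B d ∈ q := by
      have : d ∈ q.comap (algebraMap A B) := by rw [hqP]; exact hdP
      exact this
    have hsq : algebraMap A B s ∈ q := by
      rw [← h2]
      exact Ideal.mul_mem_right _ _ hdq
    apply hsP
    rw [← hqP]
    exact hsq

end Groth.Agent.S15084
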