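import Groth.Statements.S15115
import Mathlib
import Groth.Agent.Lib.Helper9.ComodInv

set_option autoImplicit false
universe u
open HopfRep

namespace Groth.Agent.S15115

open TensorProduct in
/-- Let k be an algebraically closed field, H a finite-dimensional commutative Hopf algebra over k all
of whose finite-dimensional comodules are semisimple (a finite linearly reductive group scheme G
over k), A a commutative k-algebra, and M an A-module with an H-coaction that is A-linear (G acts on
M by A-module maps, A carrying the trivial action). Let A' be a commutative A-algebra and N = A' ⊗_A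
M its base change, exhibited by an A-linear map φ : M → N, with the induced coaction: A'-linear and
compatible with φ. Then invariants commute with this base change: writing M^G for the A-submodule of
coinvariant elements of M, the natural map A' ⊗_A M^G → N, a' ⊗ m ↦ a' φ(m), is injective and its
image is exactly the set of coinvariant elements of N. (The published statement is the isomorphism
ρ^* π_* F → π'_* σ^* F for a tame Deligne–Mumford stack with coarse moduli space π and any base
change ρ of the coarse space; this row is the statement about invariants to which its proof reduces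
it, for modules that need not be finitely generated.) -/
theorem result (k : Type u) [Field k] [IsAlgClosed k]
    (H : Type u) [CommRing H] [HopfAlgebra k H] [Module.Finite k H] (hred : HopfRep.IsLinearlyReductive k H)
    (A : Type u) [CommRing A] [Algebra k A]
    (M : Type u) [AddCommGroup M] [Module k M] [Module A M] [IsScalarTower k A M] [HopfRep.Comod k H M]
    (hlin : ∀ (a : A) (m : M), HopfRep.Comod.coact (k := k) (A := H) (a • m) = a • HopfRep.Comod.coact (k := k) (A := H) m)
    (A' : Type u) [CommRing A'] [Algebra k A'] [Algebra A A'] [IsScalarTower k A A']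
    (N : Type u) [AddCommGroup N] [Module k N] [Module A N] [Module A' N]
    [IsScalarTower k A N] [IsScalarTower A A' N] [IsScalarTower k A' N] [HopfRep.Comod k H N]
    (φ : M →ₗ[A] N) (hφ : IsBaseChange A' φ)
    (hcomp : ∀ m : M, HopfRep.Comod.coact (k := k) (A := H) (φ m) =
      LinearMap.rTensor H (φ.restrictScalars k) (HopfRep.Comod.coact (k := k) (A := H) m))
    (hlinN : ∀ (a' : A') (n : N), HopfRep.Comod.coact (k := k) (A := H) (a' • n) = a' • HopfRep.Comod.coact (k := k) (A := H) n)
    (P : Submodule A M) (hP : (P : Set M) = (HopfRep.fixedPts k H M : Set M)) :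
    Function.Injective (TensorProduct.lift (((Algebra.lsmul A A N : A' →ₐ[A] Module.End A N).toLinearMap).compl₂ (φ ∘ₗ P.subtype))) ∧
      Set.range (TensorProduct.lift (((Algebra.lsmul A A N : A' →ₐ[A] Module.End A N).toLinearMap).compl₂ (φ ∘ₗ P.subtype))) =
        (HopfRep.fixedPts k H N : Set N) := by
  have hM : HopfRep.IsSemisimpleComod k H M :=
    Groth.Agent.H9.Comod.isSemisimpleComod_of_fd_semisimple (fun X _ _ _ hX => hred X hX)
  have hN : HopfRep.IsSemisimpleComod k H N :=
    Groth.Agent.H9.Comod.isSemisimpleComod_of_fd_semisimple (fun X _ _ _ hX => hred X hX)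
  obtain ⟨EM, hEM₁, hEM₂, hEM₃⟩ := Groth.Agent.H9.Comod.exists_reynolds hM
  obtain ⟨EN, hEN₁, hEN₂, hEN₃⟩ := Groth.Agent.H9.Comod.exists_reynolds hN
  have hPmem : ∀ m : M, m ∈ P ↔ m ∈ HopfRep.fixedPts k H M := by
    intro m
    rw [← SetLike.mem_coe, hP, SetLike.mem_coe]
  -- comodule maps
  have hsmulM : ∀ a : A, Hoch.IsComodHom H ((LinearMap.lsmul A M a).restrictScalars k) := by
    intro a
    rw [Groth.Agent.H9.Comod.isComodHom_iff]
    intro m
    show HopfRep.Comod.coact (k := k) (A := H) (a • m) = _
    rw [hlin]
    generalize HopfRep.Comod.coact (k := k) (A := H) m = y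
    induction y using TensorProduct.induction_on with
    | zero => simp
    | tmul u h => rw [LinearMap.rTensor_tmul]; rfl
    | add y z hy hz => rw [smul_add, map_add, hy, hz]
  have hsmulN : ∀ a' : A', Hoch.IsComodHom H ((LinearMap.lsmul A' N a').restrictScalars k) := by
    intro a'
    rw [Groth.Agent.H9.Comod.isComodHom_iff]
    intro n
    show HopfRep.Comod.coact (k := k) (A := H) (a' • n) = _
    rw [hlinN]
    generalize HopfRep.Comod.coact (k := k) (A := H) n = y
    induction y using TensorProduct.induction_on with
    | zero => simp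
    | tmul u h => rw [LinearMap.rTensor_tmul]; rfl
    | add y z hy hz => rw [smul_add, map_add, hy, hz]
  have hφc : Hoch.IsComodHom H (φ.restrictScalars k) := by
    rw [Groth.Agent.H9.Comod.isComodHom_iff]
    intro m
    exact hcomp m
  -- naturality
  have hEM_smul : ∀ (a : A) (m : M), EM (a • m) = a • EM m := by
    intro a m
    have := Groth.Agent.H9.Comod.reynolds_comm hM EM hEM₁ hEM₂ hEM₃ EM hEM₁ hEM₂ hEM₃ _ (hsmulM a)
    exact LinearMap.congr_fun this m
  have hEN_smul : ∀ (a' : A') (n : N), EN (a' • n) = a' • EN n := by
    intro a' n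
    have := Groth.Agent.H9.Comod.reynolds_comm hN EN hEN₁ hEN₂ hEN₃ EN hEN₁ hEN₂ hEN₃ _ (hsmulN a')
    exact LinearMap.congr_fun this n
  have hEφ : ∀ m : M, EN (φ m) = φ (EM m) := by
    intro m
    have := Groth.Agent.H9.Comod.reynolds_comm hM EM hEM₁ hEM₂ hEM₃ EN hEN₁ hEN₂ hEN₃ _ hφc
    exact LinearMap.congr_fun this m
  have hEMmem : ∀ m : M, EM m ∈ P := fun m =>
    (hPmem _).mpr (Groth.Agent.H9.Comod.reynolds_mem_fixedPts EM hEM₂ hEM₃ m)
  -- A-linear corestriction
  let EP : M →ₗ[A] P :=
    { toFun := fun m => ⟨EM m, hEMmem m⟩
      map_add' := fun x y => Subtype.ext (map_add EM x y)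
      map_smul' := fun a x => Subtype.ext (hEM_smul a x) }
  have hEP : EP ∘ₗ P.subtype = LinearMap.id := by
    apply LinearMap.ext
    intro p
    apply Subtype.ext
    exact (hEM₃ _).mpr ((hPmem _).mp p.2)
  set T := TensorProduct.lift (((Algebra.lsmul A A N : A' →ₐ[A] Module.End A N).toLinearMap).compl₂
    (φ ∘ₗ P.subtype)) with hT
  have hT_tmul : ∀ (a' : A') (p : P), T (a' ⊗ₜ[A] p) = a' • φ (p : M) := by
    intro a' p
    simp [T]
  have hTeq : ∀ x : TensorProduct A A' P, T x = hφ.equiv (LinearMap.lTensor A' P.subtype x) := by
    intro x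
    induction x using TensorProduct.induction_on with
    | zero => simp
    | tmul a' p =>
      rw [hT_tmul, LinearMap.lTensor_tmul, IsBaseChange.equiv_tmul]
      rfl
    | add x y hx hy => rw [map_add, map_add, map_add, hx, hy]
  have hTsmul : ∀ (a' : A') (x : TensorProduct A A' P), T (a' • x) = a' • T x := by
    intro a' x
    induction x using TensorProduct.induction_on with
    | zero => simp
    | tmul b p => rw [TensorProduct.smul_tmul', hT_tmul, hT_tmul, smul_eq_mul, mul_smul]
    | add x y hx hy => rw [smul_add, map_add, map_add, hx, hy, smul_add]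
  constructor
  · have hinj : Function.Injective (LinearMap.lTensor A' P.subtype) := by
      apply Function.LeftInverse.injective (g := LinearMap.lTensor A' EP)
      intro x
      rw [← LinearMap.comp_apply, ← LinearMap.lTensor_comp, hEP, LinearMap.lTensor_id,
        LinearMap.id_apply]
    intro x y hxy
    rw [hTeq, hTeq] at hxy
    exact hinj (hφ.equiv.injective hxy)
  · apply Set.Subset.antisymm
    · rintro _ ⟨x, rfl⟩
      show T x ∈ HopfRep.fixedPts k H N
      induction x using TensorProduct.induction_on with
      | zero => rw [map_zero]; exact zero_mem _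
      | tmul a' p =>
        rw [hT_tmul]
        have h1 : φ (p : M) ∈ HopfRep.fixedPts k H N :=
          Groth.Agent.H9.Comod.map_mem_fixedPts hφc ((hPmem _).mp p.2)
        exact Groth.Agent.H9.Comod.map_mem_fixedPts (hsmulN a') h1
      | add x y hx hy => rw [map_add]; exact add_mem hx hy
    · intro n hn
      have hn' : EN n = n := (hEN₃ n).mpr hn
      have key : ∀ n : N, EN n ∈ Set.range T := by
        intro n
        induction n using hφ.inductionOn with
        | zero => exact ⟨0, by simp⟩
        | tmul m => exact ⟨(1 : A') ⊗ₜ[A] EP m, by rw [hT_tmul, one_smul, hEφ]; rfl⟩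
        | smul a' n hn =>
          obtain ⟨x, hx⟩ := hn
          refine ⟨a' • x, ?_⟩
          rw [hEN_smul, ← hx, hTsmul]
        | add n₁ n₂ h₁ h₂ =>
          obtain ⟨x, hx⟩ := h₁
          obtain ⟨y, hy⟩ := h₂
          exact ⟨x + y, by rw [map_add, map_add, hx, hy]⟩
      rw [← hn']
      exact key n

end Groth.Agent.S15115
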