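import Groth.Statements.S15117
import Mathlib
import Groth.Agent.Lib.Helper9.ComodCoeff

set_option autoImplicit false
universe u v w
open TensorProduct
open NRGIT

namespace Groth.Agent.S15117

/-- Let k be a field, π : A → B a map of commutative bialgebras over k, W a right A-comodule and V ⊆ W a
subcomodule all of whose elements are coinvariant for the B-coaction induced through π. Then the
coaction of every v ∈ V lies in V ⊗ A' ⊆ W ⊗ A, where A' ⊆ A is the set of elements a with (π ⊗
id)(Δ a) = 1 ⊗ a, i.e. coinvariant for the coaction of B on A through π on the left factor; the row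
states membership in the span of the pure tensors w ⊗ a with w ∈ V and a ∈ A'. (The published
statement is for a linear algebraic group H over an algebraically closed field of characteristic
zero, a normal subgroup N and an H-stable space V of N-invariant sections of a linearised line
bundle, with the coaction landing in O(H)^N ⊗ V, where O(H)^N is the ring of functions on H
invariant under N acting by right multiplication; this row is the comodule form, for any bialgebra
map over a field, where normality of N is not needed.) -/
theorem result (k : Type u) [Field k]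
    (A B : Type v) [CommRing A] [CommRing B] [Bialgebra k A] [Bialgebra k B] (π : A →ₐc[k] B)
    (W : Type w) [AddCommGroup W] [Module k W] [HopfRep.Comod k A W]
    (V : Submodule k W) (hV : HopfRep.IsSubcomod (k := k) (A := A) V)
    (hfix : ∀ v ∈ V, (π.toLinearMap.lTensor W) (HopfRep.Comod.coact (k := k) (A := A) v) = v ⊗ₜ[k] (1 : B))
    (v : W) (hv : v ∈ V) :
    HopfRep.Comod.coact (k := k) (A := A) v ∈
      Submodule.span k {x : W ⊗[k] A | ∃ w ∈ V, ∃ a : A,
        (π.toLinearMap.rTensor A) (Coalgebra.comul (R := k) a) = (1 : B) ⊗ₜ[k] a ∧ x = w ⊗ₜ[k] a} := by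
  classical
  letI cV := ComodSub.Comod.restr (inferInstance : HopfRep.Comod k A W) V hV
  have hsub : Hoch.IsComodHom A V.subtype := ComodSub.isComodHom_subtype inferInstance V hV
  have hsub' : ∀ u : V, HopfRep.Comod.coact (k := k) (A := A) (u : W) =
      LinearMap.rTensor A V.subtype (HopfRep.Comod.coact (k := k) (A := A) u) := fun u =>
    (Groth.Agent.H9.Comod.isComodHom_iff V.subtype).mp hsub u
  let A' : Submodule k A := LinearMap.ker
    (π.toLinearMap.rTensor A ∘ₗ (CoalgebraStruct.comul (R := k) (A := A)) - TensorProduct.mk k B A 1)
  have hA' : ∀ a : A, a ∈ A' ↔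
      (π.toLinearMap.rTensor A) (Coalgebra.comul (R := k) a) = (1 : B) ⊗ₜ[k] a := by
    intro a
    simp only [A', LinearMap.mem_ker, LinearMap.sub_apply, LinearMap.comp_apply, sub_eq_zero,
      TensorProduct.mk_apply]
  -- fixed under B on V itself
  have hfixV : ∀ u : V, (π.toLinearMap.lTensor V) (HopfRep.Comod.coact (k := k) (A := A) u) =
      u ⊗ₜ[k] (1 : B) := by
    intro u
    have hinj : Function.Injective (LinearMap.rTensor B V.subtype) :=
      Module.Flat.rTensor_preserves_injective_linearMap _ V.injective_subtype
    apply hinj
    have := hfix (u : W) u.2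
    rw [hsub' u] at this
    rw [LinearMap.rTensor_tmul, Submodule.subtype_apply, ← this]
    generalize HopfRep.Comod.coact (k := k) (A := A) u = y
    induction y using TensorProduct.induction_on with
    | zero => simp
    | tmul a b => simp
    | add y z hy hz => simp only [map_add, hy, hz]
  have key : ∀ u : V, HopfRep.Comod.coact (k := k) (A := A) u ∈
      LinearMap.range (A'.subtype.lTensor V) := by
    intro u
    rw [Groth.Agent.H9.Comod.mem_range_lTensor_subtype_iff_sliceL]
    intro ψ
    rw [hA']
    have h1 := (Groth.Agent.H9.Comod.isComodHom_iff _).mp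
      (Groth.Agent.H9.Comod.isComodHom_mcoef (A := A) ψ) u
    have h1' : Coalgebra.comul (R := k) (Groth.Agent.H9.Comod.mcoef A ψ u) =
        LinearMap.rTensor A (Groth.Agent.H9.Comod.mcoef A ψ)
          (HopfRep.Comod.coact (k := k) (A := A) u) := h1
    have h2 : ∀ u' : V, π (Groth.Agent.H9.Comod.mcoef A ψ u') = ψ u' • (1 : B) := by
      intro u'
      have := congrArg (Groth.Agent.H9.Comod.sliceL ψ) (hfixV u')
      rw [Groth.Agent.H9.Comod.sliceL_lTensor, Groth.Agent.H9.Comod.sliceL_tmul] at this
      exact this
    show (π.toLinearMap.rTensor A) (Coalgebra.comul (R := k)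
      (Groth.Agent.H9.Comod.mcoef A ψ u)) = (1 : B) ⊗ₜ[k] (Groth.Agent.H9.Comod.mcoef A ψ u)
    rw [h1', ← LinearMap.comp_apply, ← LinearMap.rTensor_comp]
    have h3 : π.toLinearMap ∘ₗ Groth.Agent.H9.Comod.mcoef A ψ =
        (LinearMap.toSpanSingleton k B 1) ∘ₗ ψ := by
      apply LinearMap.ext
      intro u'
      simp only [LinearMap.comp_apply, LinearMap.toSpanSingleton_apply]
      exact h2 u'
    rw [h3]
    show _ = (1 : B) ⊗ₜ[k] (Groth.Agent.H9.Comod.sliceL ψ (HopfRep.Comod.coact (k := k) (A := A) u))
    generalize HopfRep.Comod.coact (k := k) (A := A) u = y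
    induction y using TensorProduct.induction_on with
    | zero => simp
    | tmul a b =>
      simp only [LinearMap.rTensor_tmul, LinearMap.comp_apply, LinearMap.toSpanSingleton_apply,
        Groth.Agent.H9.Comod.sliceL_tmul, TensorProduct.tmul_smul, TensorProduct.smul_tmul']
    | add y z hy hz => simp only [map_add, hy, hz, TensorProduct.tmul_add]
  obtain ⟨y, hy⟩ := key ⟨v, hv⟩
  have := hsub' ⟨v, hv⟩
  rw [← hy] at this
  change HopfRep.Comod.coact (k := k) (A := A) v = _ at this
  rw [this]
  clear hy this
  induction y using TensorProduct.induction_on with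
  | zero => simp
  | tmul u a =>
    apply Submodule.subset_span
    exact ⟨u, u.2, a, (hA' a).mp a.2, by simp⟩
  | add y z hy hz =>
    rw [map_add, map_add]
    exact add_mem hy hz

end Groth.Agent.S15117
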