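import Groth.Statements.S15134
import Groth.Agent.Lib.Helper6.ArtFunTorsor

set_option autoImplicit false
universe u v
open CategoryTheory
open ArtFun

namespace Groth.Agent.S15134

/-- Let k be a field and F a functor on local Artinian k-algebras with residue field k with F(k) a
point. If F satisfies (H2') — the comparison map F(A₁ ×_k A₂) → F(A₁) × F(A₂) is bijective for every
pair of objects — then F satisfies condition (L): for every small extension f : B → A with kernel J,
writing P = B ×_k B, Q = A ×_k A, r : P → Q for the map induced by f, and C = P/K with K the ideal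
of P consisting of the pairs (b, b) with b ∈ J, every element of F(Q) whose two images in F(A) agree
lifts along F(C) → F(Q). Here P and Q are pinned as fibre products over k, K is described through
the two projections, and the two inequalities on K (it lies in the maximal ideal of P and is killed
by r), which always hold, are taken as hypotheses so that the quotient object and the factored map
can be named. -/
theorem result
    {k : Type u} [Field k] (F : ArtFun.Art k k ⥤ Type v) (h0 : ArtFun.H0 F)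
    (h2' : ∀ ⦃P A' A'' : ArtFun.Art k k⦄ (p' : P ⟶ A') (p'' : P ⟶ A'')
      (h : ArtFun.Art.IsFibreProd p' p'' (ArtFun.Art.toBase A') (ArtFun.Art.toBase A'')),
      Function.Bijective (ArtFun.cmp F h))
    ⦃B A : ArtFun.Art k k⦄ (f : B ⟶ A) (hf : ArtFun.Art.IsSmallExt f)
    ⦃P : ArtFun.Art k k⦄ (p₁ p₂ : P ⟶ B)
    (hP : ArtFun.Art.IsFibreProd p₁ p₂ (ArtFun.Art.toBase B) (ArtFun.Art.toBase B))
    ⦃Q : ArtFun.Art k k⦄ (q₁ q₂ : Q ⟶ A)
    (hQ : ArtFun.Art.IsFibreProd q₁ q₂ (ArtFun.Art.toBase A) (ArtFun.Art.toBase A))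
    (r : P ⟶ Q) (hr₁ : r ≫ q₁ = p₁ ≫ f) (hr₂ : r ≫ q₂ = p₂ ≫ f)
    (hK : Ideal.span {z : P | p₁ z = p₂ z ∧ f (p₁ z) = 0} ≤ IsLocalRing.maximalIdeal P)
    (hKr : Ideal.span {z : P | p₁ z = p₂ z ∧ f (p₁ z) = 0} ≤ RingHom.ker r.toAlgHom)
    (y : F.obj Q) (hy : F.map q₁ y = F.map q₂ y) :
    ∃ z : F.obj (ArtFun.Art.quot P (Ideal.span {z : P | p₁ z = p₂ z ∧ f (p₁ z) = 0}) hK),
      F.map (ArtFun.Art.quotFactor hK r hKr) z = y := by
  obtain ⟨ΔB, hΔB1, hΔB2⟩ := Groth.Agent.H6.fp_exists_lift hP (𝟙 B) (𝟙 B) rfl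
  obtain ⟨ΔA, hΔA1, hΔA2⟩ := Groth.Agent.H6.fp_exists_lift hQ (𝟙 A) (𝟙 A) rfl
  have hker : RingHom.ker f.toAlgHom ≤
      RingHom.ker (ΔB ≫ ArtFun.Art.quotMk P _ hK).toAlgHom := by
    intro b hb
    rw [RingHom.mem_ker]
    change Ideal.Quotient.mk _ (ΔB b) = 0
    rw [Ideal.Quotient.eq_zero_iff_mem]
    apply Ideal.subset_span
    have e1 : p₁ (ΔB b) = b := congrArg (fun g : B ⟶ B => g b) hΔB1
    have e2 : p₂ (ΔB b) = b := congrArg (fun g : B ⟶ B => g b) hΔB2
    refine ⟨by rw [e1, e2], ?_⟩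
    rw [e1]
    exact hb
  obtain ⟨a, ha⟩ := Groth.Agent.H6.art_exists_factor f hf.1 _ hker
  have hΔ : a ≫ ArtFun.Art.quotFactor hK r hKr = ΔA := by
    apply Groth.Agent.H6.fp_hom_ext hQ
    · apply Groth.Agent.H6.art_epi_of_surjective f hf.1
      rw [hΔA1, ← Category.assoc, ← Category.assoc, ha, Category.assoc ΔB,
        ArtFun.Art.quotMk_quotFactor, Category.assoc, hr₁, ← Category.assoc, hΔB1, Category.id_comp, Category.comp_id]
    · apply Groth.Agent.H6.art_epi_of_surjective f hf.1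
      rw [hΔA2, ← Category.assoc, ← Category.assoc, ha, Category.assoc ΔB,
        ArtFun.Art.quotMk_quotFactor, Category.assoc, hr₂, ← Category.assoc, hΔB2, Category.id_comp, Category.comp_id]
  refine ⟨F.map a (F.map q₁ y), ?_⟩
  rw [← Groth.Agent.H6.map_comp_apply', hΔ]
  apply (Groth.Agent.H6.cmp_injective_iff F hQ).1 (h2' q₁ q₂ hQ).1
  · rw [← Groth.Agent.H6.map_comp_apply', hΔA1, Groth.Agent.H6.map_id_apply']
  · rw [← Groth.Agent.H6.map_comp_apply', hΔA2, Groth.Agent.H6.map_id_apply', hy]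

end Groth.Agent.S15134
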