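import Groth.Statements.S15135
import Mathlib.Tactic
-- import your own Groth.Agent.* helpers here

set_option autoImplicit false
universe u v
open Deform

namespace Groth.Agent.S15135

/-- For R-modules M ⊆ N, the first-order embedded deformations of M in N are in canonical bijection with
Hom_R(M, N/M). Writing N ⊗ k[ε] = N ⊕ εN as N × N (the pair (x, y) standing for x + εy), such a
deformation is an R-submodule L of N × N which is stable under multiplication by ε (if (x, y) ∈ L
then (0, x) ∈ L), reduces to M (x ∈ M exactly when (x, y) ∈ L for some y) and is flat over the dual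
numbers, flatness being stated elementwise as: (0, y) ∈ L only if y ∈ M (for a submodule reducing to
M this is the equality of the kernel and the image of ε on L, i.e. flatness over k[ε] when R is an
algebra over a field k). To φ : M → N/M corresponds the submodule of all (x, y) with x ∈ M and y ≡
φ(x) mod M. The first clause says this rule defines exactly one submodule for each φ; the second
says that a submodule has the three properties precisely when its membership is given by this rule
for some φ. (The published statement is a linear isomorphism t_G ≅ Hom_R(M, N/M) for the functor G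
of flat deformations of M inside N ⊗ A over local Artinian algebras A; this row states only the
underlying bijection, and the obstruction half is not stated here.) -/
theorem result
    (R : Type u) [CommRing R] (N : Type v) [AddCommGroup N] [Module R N] (M : Submodule R N) :
    (∀ φ : M →ₗ[R] (N ⧸ M), ∃! L : Submodule R (N × N),
        ∀ x y : N, (x, y) ∈ L ↔ ∃ h : x ∈ M, Submodule.Quotient.mk y = φ ⟨x, h⟩) ∧
    (∀ L : Submodule R (N × N),
      ((∀ x y : N, (x, y) ∈ L → ((0 : N), x) ∈ L) ∧
        (∀ x : N, x ∈ M ↔ ∃ y : N, (x, y) ∈ L) ∧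
        (∀ y : N, ((0 : N), y) ∈ L → y ∈ M)) ↔
      ∃ φ : M →ₗ[R] (N ⧸ M), ∀ x y : N, (x, y) ∈ L ↔ ∃ h : x ∈ M, Submodule.Quotient.mk y = φ ⟨x, h⟩) := by
  constructor
  · intro φ
    let L : Submodule R (N × N) :=
      { carrier := {p | ∃ h : p.1 ∈ M, Submodule.Quotient.mk p.2 = φ ⟨p.1, h⟩}
        add_mem' := by
          rintro ⟨x1, y1⟩ ⟨x2, y2⟩ ⟨h1, e1⟩ ⟨h2, e2⟩
          refine ⟨M.add_mem h1 h2, ?_⟩
          show Submodule.Quotient.mk (y1 + y2) = φ ⟨x1 + x2, _⟩
          rw [Submodule.Quotient.mk_add, e1, e2, ← map_add]; rfl
        zero_mem' := ⟨M.zero_mem, by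
          show Submodule.Quotient.mk (0:N) = φ ⟨0, _⟩
          rw [Submodule.Quotient.mk_zero]; exact (map_zero φ).symm⟩
        smul_mem' := by
          rintro c ⟨x, y⟩ ⟨h, e⟩
          refine ⟨M.smul_mem c h, ?_⟩
          show Submodule.Quotient.mk (c • y) = φ ⟨c • x, _⟩
          rw [Submodule.Quotient.mk_smul, e, ← map_smul]; rfl }
    refine ⟨L, fun x y => Iff.rfl, ?_⟩
    intro L' hL'
    ext ⟨x, y⟩
    rw [hL' x y]; rfl
  · intro L
    constructor
    · rintro ⟨h1, h2, h3⟩
      have hex : ∀ x : M, ∃ y : N, ((x : N), y) ∈ L := fun x => (h2 x).1 x.2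
      choose Y hY using hex
      have hdiff : ∀ x y y', (x, y) ∈ L → (x, y') ∈ L → y - y' ∈ M := by
        intro x y y' hy hy'
        apply h3
        have := L.sub_mem hy hy'
        simpa using this
      let φ : M →ₗ[R] (N ⧸ M) :=
        { toFun := fun x => Submodule.Quotient.mk (Y x)
          map_add' := by
            intro a b
            rw [← Submodule.Quotient.mk_add, Submodule.Quotient.eq]
            exact hdiff _ _ _ (hY (a + b)) (by have := L.add_mem (hY a) (hY b); simpa using this)
          map_smul' := by
            intro c a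
            simp only [RingHom.id_apply]
            rw [← Submodule.Quotient.mk_smul, Submodule.Quotient.eq]
            exact hdiff _ _ _ (hY (c • a)) (by have := L.smul_mem c (hY a); simpa using this) }
      refine ⟨φ, ?_⟩
      intro x y
      constructor
      · intro hxy
        have hx : x ∈ M := (h2 x).2 ⟨y, hxy⟩
        refine ⟨hx, ?_⟩
        show Submodule.Quotient.mk y = Submodule.Quotient.mk (Y ⟨x, hx⟩)
        rw [Submodule.Quotient.eq]
        exact hdiff x _ _ hxy (hY ⟨x, hx⟩)
      · rintro ⟨hx, e⟩
        have e' : Submodule.Quotient.mk y = Submodule.Quotient.mk (Y ⟨x, hx⟩) := e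
        rw [Submodule.Quotient.eq] at e'
        obtain ⟨y', hy'⟩ := (h2 _).1 e'
        have h0 := h1 _ _ hy'
        have := L.add_mem (hY ⟨x, hx⟩) h0
        simpa using this
    · rintro ⟨φ, hφ⟩
      refine ⟨?_, ?_, ?_⟩
      · intro x y hxy
        obtain ⟨hx, _⟩ := (hφ x y).1 hxy
        rw [hφ]
        refine ⟨M.zero_mem, ?_⟩
        rw [(Submodule.Quotient.mk_eq_zero M).2 hx]
        exact (map_zero φ).symm
      · intro x
        constructor
        · intro hx
          obtain ⟨y, hy⟩ := Submodule.Quotient.mk_surjective M (φ ⟨x, hx⟩)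
          exact ⟨y, (hφ x y).2 ⟨hx, hy⟩⟩
        · rintro ⟨y, hy⟩
          exact ((hφ x y).1 hy).1
      · intro y hy
        obtain ⟨h0, e⟩ := (hφ 0 y).1 hy
        rw [← Submodule.Quotient.mk_eq_zero M, e]
        exact map_zero φ

end Groth.Agent.S15135
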