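import Groth.Statements.S15150
import Groth.Agent.Lib.Helper2.NilBound

set_option autoImplicit false
universe u
open HilbZeta

namespace Groth.Agent.S15150

/-- Let A be a reduced commutative ring, S an A-algebra together with an A-algebra homomorphism π : S →
A (a section of Spec S → Spec A), with kernel m, and I an ideal of S such that S/I is a finite
projective A-module of constant rank d and m is contained in the radical of I (the finite flat
subscheme Spec S/I of degree d lies, as a set, on the section). Then m^d ⊆ I: the subscheme lies in
the (d−1)-st infinitesimal neighbourhood of the section. (The published statement is for a closed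
subscheme, flat and proper of degree d over a Noetherian base, of a family of reduced curve
singularities with a section, with no reducedness assumption on the base; over the dual numbers k[ε]
the ideal (x − ε) of k[ε][x] has quotient free of rank one and radical containing x but does not
contain x, so the base is taken reduced here, and the statement is given in its affine form, to
which the argument reduces at once; the curve hypotheses play no role and are dropped; the condition
that Spec S/I lies set-theoretically on the section, which the published argument deduces from
properness of Z inside the germ, is a hypothesis here.) -/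
theorem result (A : Type u) [CommRing A] [IsReduced A]
    (S : Type u) [CommRing S] [Algebra A S] (π : S →ₐ[A] A) (I : Ideal S) (d : ℕ)
    [Module.Finite A (S ⧸ I)] [Module.Projective A (S ⧸ I)]
    (hrank : ∀ p : PrimeSpectrum A, Module.rankAtStalk (R := A) (S ⧸ I) p = d)
    (hsupp : RingHom.ker π ≤ I.radical) :
    RingHom.ker π ^ d ≤ I := by
  intro y hy
  rw [← Ideal.Quotient.eq_zero_iff_mem]
  apply Groth.Agent.H2.NilBound.eq_zero_of_fibres (A := A) (B := S ⧸ I)
  intro p hp
  let φ : S →+* TensorProduct A p.ResidueField (S ⧸ I) :=
    (Algebra.TensorProduct.includeRight (R := A) (A := p.ResidueField)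
      (B := S ⧸ I)).toRingHom.comp (Ideal.Quotient.mk I)
  have hφ : ∀ s, φ s = (1 : p.ResidueField) ⊗ₜ[A] (Ideal.Quotient.mk I s) := fun s => rfl
  rw [← hφ]
  have hnil : ∀ x ∈ Ideal.map φ (RingHom.ker π.toRingHom), IsNilpotent x := by
    have : Ideal.map φ (RingHom.ker π.toRingHom) ≤ nilradical _ := by
      rw [Ideal.map_le_iff_le_comap]
      intro x hx
      obtain ⟨N, hN⟩ := hsupp hx
      rw [Ideal.mem_comap, mem_nilradical]
      refine ⟨N, ?_⟩
      rw [← map_pow, hφ, Ideal.Quotient.eq_zero_iff_mem.2 hN, TensorProduct.tmul_zero]
    intro x hx
    exact mem_nilradical.1 (this hx)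
  have hfin : Module.finrank p.ResidueField (TensorProduct A p.ResidueField (S ⧸ I)) = d := by
    rw [← hrank ⟨p, hp⟩, Module.rankAtStalk_eq]
  have h0 := Groth.Agent.H2.NilBound.pow_finrank_eq_bot (K := p.ResidueField)
    (Ideal.map φ (RingHom.ker π.toRingHom)) hnil
  rw [hfin, ← Ideal.map_pow] at h0
  have : φ y ∈ Ideal.map φ (RingHom.ker π.toRingHom ^ d) := Ideal.mem_map_of_mem φ hy
  rw [h0] at this
  exact this

end Groth.Agent.S15150
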