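import Groth.Statements.S15164
import Mathlib.Tactic
-- import your own Groth.Agent.* helpers here

set_option autoImplicit false
universe u v
open BddFin

namespace Groth.Agent.S15164

/-- Let K be a field of characteristic p > 2, V a finite-dimensional K-vector space and q a quadratic
form on V that does not represent zero (q x = 0 only for x = 0). Then the group of K-linear
automorphisms of V preserving q has no element of order p: if g preserves q and g ^ p = 1 then g =
1. (Non-degeneracy of q, also assumed in the published statement, follows from anisotropy since 2 is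
invertible, so it is not repeated here.) -/
theorem result
    (K : Type u) [Field K] (p : ℕ) [Fact p.Prime] [CharP K p] (hp : p ≠ 2)
    (V : Type v) [AddCommGroup V] [Module K V] [FiniteDimensional K V]
    (q : QuadraticForm K V) (hq : q.Anisotropic)
    (g : V ≃ₗ[K] V) (hg : ∀ x : V, q (g x) = q x) (hgp : g ^ p = 1) : g = 1 := by
  classical
  by_contra hne
  have hnt : Nontrivial V := by
    by_contra h
    rw [not_nontrivial_iff_subsingleton] at h
    apply hne; ext x; exact Subsingleton.elim _ _
  let G : Module.End K V := g.toLinearMap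
  have hGp : G ^ p = 1 := by
    have := congrArg LinearEquiv.automorphismGroup.toLinearMapMonoidHom hgp
    rwa [map_pow, map_one] at this
  haveI : CharP (Module.End K V) p :=
    charP_of_injective_algebraMap (algebraMap K (Module.End K V)).injective p
  have hN : (G - 1) ^ p = 0 := by
    rw [sub_pow_char_of_commute _ (Commute.one_right G), hGp, one_pow, sub_self]
  have hG1 : G - 1 ≠ 0 := by
    intro h
    apply hne
    ext x
    have := LinearMap.congr_fun (sub_eq_zero.1 h) x
    exact this
  have hex : ∃ k, (G - 1) ^ (k + 1) = 0 :=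
    ⟨p - 1, by rwa [Nat.sub_add_cancel (Fact.out : p.Prime).one_le]⟩
  have hk : (G - 1) ^ (Nat.find hex + 1) = 0 := Nat.find_spec hex
  have hk0 : Nat.find hex ≠ 0 := by
    intro h0; rw [h0, zero_add, pow_one] at hk; exact hG1 hk
  obtain ⟨j, hj⟩ := Nat.exists_eq_succ_of_ne_zero hk0
  have hk' : (G - 1) ^ (j + 1) ≠ 0 := Nat.find_min hex (by omega : j < Nat.find hex)
  rw [hj] at hk
  obtain ⟨v, hv⟩ : ∃ v, ((G - 1) ^ (j + 1)) v ≠ 0 := by
    by_contra h; push_neg at h; exact hk' (LinearMap.ext h)
  have hw0 : (G - 1) (((G - 1) ^ j) v) ≠ 0 := by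
    rw [← Module.End.mul_apply, ← pow_succ']; exact hv
  have hNw : (G - 1) ((G - 1) (((G - 1) ^ j) v)) = 0 := by
    have h3 : (G - 1) ^ (j.succ + 1) = (G - 1) * ((G - 1) * (G - 1) ^ j) := by
      rw [pow_succ', pow_succ']
    have := LinearMap.congr_fun hk v
    rw [h3] at this
    exact this
  generalize ((G - 1) ^ j) v = u at hw0 hNw
  have hgu : g u = u + (G - 1) u := by
    simp only [LinearMap.sub_apply, Module.End.one_apply]
    show g u = u + (g u - u)
    abel
  generalize (G - 1) u = w at hw0 hNw hgu
  have hgw : g w = w := by
    have : G w - w = 0 := hNw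
    exact sub_eq_zero.1 this
  have h1 : q (u + w) = q u := by rw [← hgu, hg]
  have h2 : q (u + (2 : K) • w) = q u := by
    have : g (u + w) = u + (2 : K) • w := by rw [map_add, hgu, hgw, two_smul]; abel
    rw [← this, hg, h1]
  have e1 : QuadraticMap.polar q u w = - q w := by
    unfold QuadraticMap.polar; rw [h1]; ring
  have e2 : QuadraticMap.polar q u ((2 : K) • w) = - q ((2 : K) • w) := by
    unfold QuadraticMap.polar; rw [h2]; ring
  rw [QuadraticMap.polar_smul_right, e1, QuadraticMap.map_smul] at e2
  have h2ne : (2 : K) ≠ 0 := by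
    apply Ring.two_ne_zero
    rw [ringChar.eq K p]; exact hp
  have hqw : q w = 0 := by
    simp only [smul_eq_mul] at e2
    have : (2 : K) * q w = 0 := by linear_combination e2
    exact (mul_eq_zero.1 this).resolve_left h2ne
  exact hw0 (hq w hqw)

end Groth.Agent.S15164
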