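import Groth.Statements.S1517
import Mathlib

set_option autoImplicit false
universe u
open Brauer

namespace Groth.Agent.S1517

/-- Left multiplication by an element of a right ideal, as an endomorphism of the right ideal. -/
def leftMulEnd {A : Type u} [Ring A] (M : Submodule Aᵐᵒᵖ A) (x : M) : Module.End Aᵐᵒᵖ M where
  toFun m := ⟨(x : A) * (m : A), by
    have := M.smul_mem (MulOpposite.op (m : A)) x.2
    simpa [MulOpposite.smul_eq_mul_unop] using this⟩
  map_add' m m' := Subtype.ext (by simp [mul_add])
  map_smul' c m := Subtype.ext (by simp [MulOpposite.smul_eq_mul_unop, mul_assoc])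

theorem leftMulEnd_apply_coe {A : Type u} [Ring A] (M : Submodule Aᵐᵒᵖ A) (x m : M) :
    ((leftMulEnd M x m : M) : A) = (x : A) * (m : A) := rfl

/-- Let A be a ring with no nontrivial two-sided ideals and M a nonzero right ideal, viewed as a right
A-module with endomorphism ring A'. Then every A'-linear endomorphism of M is right multiplication
by exactly one element of A; that is, the natural map from A to the bicommutant of M is a bijection. -/
theorem result (A : Type u) [Ring A] [IsSimpleRing A]
    (M : Submodule Aᵐᵒᵖ A) (hM : M ≠ ⊥)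
    (g : Module.End (Module.End Aᵐᵒᵖ M) M) :
    ∃! a : A, ∀ m : M, (g m : A) = (m : A) * a := by
  -- the two-sided ideal AM
  let I : Ideal A := Ideal.span (M : Set A)
  have hmulM : ∀ m ∈ M, ∀ b : A, m * b ∈ M := fun m hm b ↦ by
    have := M.smul_mem (MulOpposite.op b) hm
    simpa [MulOpposite.smul_eq_mul_unop] using this
  have hI2 : I.IsTwoSided := by
    refine ⟨fun {a} b ha ↦ ?_⟩
    induction ha using Submodule.span_induction with
    | mem x hx => exact Ideal.subset_span (hmulM x hx b)
    | zero => simp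
    | add x y _ _ hx hy => rw [add_mul]; exact I.add_mem hx hy
    | smul c x _ hx => rw [smul_eq_mul, mul_assoc]; exact I.mul_mem_left c hx
  have hIne : I ≠ ⊥ := by
    intro h
    apply hM
    rw [eq_bot_iff]
    intro m hm
    have : m ∈ I := Ideal.subset_span hm
    rw [h] at this
    exact this
  have hItop : I = ⊤ :=
    ((isSimpleRing_iff_isTwoSided_imp.mp ‹IsSimpleRing A›).2 I hI2).resolve_left hIne
  have h1 : (1 : A) ∈ Submodule.span A (M : Set A) := by
    change (1 : A) ∈ I
    rw [hItop]; trivial
  obtain ⟨n, c, mm, hc⟩ := Submodule.mem_span_set'.mp h1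
  -- mm i : ↥(M : Set A)
  let ms : Fin n → M := fun i ↦ ⟨(mm i : A), (mm i).2⟩
  have hone : ∑ i, c i * (ms i : A) = 1 := by simpa [ms] using hc
  have hex : ∀ m : M, (g m : A) = (m : A) * ∑ i, c i * (g (ms i) : A) := by
    intro m
    -- m = Σ L_{m c_i} (ms i)
    let xs : Fin n → M := fun i ↦ ⟨(m : A) * c i, hmulM _ m.2 _⟩
    have hm : m = ∑ i, leftMulEnd M (xs i) (ms i) := by
      apply Subtype.ext
      rw [AddSubmonoidClass.coe_finsetSum]
      simp only [leftMulEnd_apply_coe, xs]
      calc (m : A) = (m : A) * 1 := (mul_one _).symm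
        _ = (m : A) * ∑ i, c i * (ms i : A) := by rw [hone]
        _ = ∑ i, (m : A) * c i * (ms i : A) := by
          rw [Finset.mul_sum]; exact Finset.sum_congr rfl fun i _ ↦ (mul_assoc _ _ _).symm
    have hg : g m = ∑ i, leftMulEnd M (xs i) (g (ms i)) := by
      conv_lhs => rw [hm]
      rw [map_sum]
      refine Finset.sum_congr rfl fun i _ ↦ ?_
      exact g.map_smul (leftMulEnd M (xs i)) (ms i)
    rw [hg, AddSubmonoidClass.coe_finsetSum, Finset.mul_sum]
    refine Finset.sum_congr rfl fun i _ ↦ ?_
    rw [leftMulEnd_apply_coe, mul_assoc]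
  refine ⟨∑ i, c i * (g (ms i) : A), hex, ?_⟩
  intro a' ha'
  have key : ∀ m : M, (m : A) * (a' - ∑ i, c i * (g (ms i) : A)) = 0 := by
    intro m
    rw [mul_sub, ← ha' m, hex m, sub_self]
  have : (1 : A) * (a' - ∑ i, c i * (g (ms i) : A)) = 0 := by
    rw [← hone, Finset.sum_mul]
    refine Finset.sum_eq_zero fun i _ ↦ ?_
    rw [mul_assoc, key, mul_zero]
  rw [one_mul, sub_eq_zero] at this
  exact this

end Groth.Agent.S1517
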