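import Groth.Statements.S15224
import Mathlib.Tactic
-- import your own Groth.Agent.* helpers here

set_option autoImplicit false
open Finset
open W4c2rk2extmaps

namespace Groth.Agent.S15224

/-- In a commutative ℚ-algebra R let y be an element and put c_k = y^k / k! for every k. Then for k ≥ 2,
Σ_{i=1}^{k-1} (-1)^(i-1) c_i c_(k-i) + (-1)^(k-1) c_k = c_k. (The published statement concerns the
Chern classes of a specific vector bundle on a Jacobian, which are of the form c_k = (4θ)^k / k!;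
the printed argument establishes the identity for every sequence of this form in a commutative
ℚ-algebra, which is the form stated here.) -/
theorem result (R : Type*) [CommRing R] [Algebra ℚ R] (y : R)
    (c : ℕ → R) (hc : ∀ k : ℕ, c k = ((Nat.factorial k : ℚ)⁻¹) • y ^ k)
    (k : ℕ) (hk : 2 ≤ k) :
    (∑ i ∈ Finset.Ico 1 k, (-1 : R) ^ (i - 1) * c i * c (k - i)) + (-1 : R) ^ (k - 1) * c k = c k := by
  have hk1 : 1 ≤ k := by omega
  have hQ : (∑ i ∈ Finset.Ico 1 k, (-1 : ℚ) ^ (i - 1) *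
      ((Nat.factorial i : ℚ)⁻¹ * (Nat.factorial (k - i) : ℚ)⁻¹)) +
      (-1 : ℚ) ^ (k - 1) * (Nat.factorial k : ℚ)⁻¹ = (Nat.factorial k : ℚ)⁻¹ := by
    have h0 := Int.alternating_sum_range_choose (n := k)
    rw [if_neg (by omega)] at h0
    have h0' : ∑ m ∈ Finset.range (k + 1), ((-1 : ℚ) ^ m * (k.choose m : ℚ)) = 0 := by
      exact_mod_cast h0
    rw [Finset.sum_range_succ, Finset.range_eq_Ico,
      Finset.sum_eq_sum_Ico_succ_bot (by omega : 0 < k)] at h0'
    simp only [pow_zero, Nat.choose_zero_right, Nat.cast_one, mul_one, Nat.choose_self,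
      zero_add] at h0'
    have hneg : ∀ i : ℕ, 1 ≤ i → (-1 : ℚ) ^ i = -(-1) ^ (i - 1) := by
      intro i hi
      obtain ⟨j, rfl⟩ := Nat.exists_eq_add_of_le' hi
      simp [pow_succ]
    have hterm : ∀ i ∈ Finset.Ico 1 k, (-1 : ℚ) ^ (i - 1) *
        ((Nat.factorial i : ℚ)⁻¹ * (Nat.factorial (k - i) : ℚ)⁻¹) =
        -((Nat.factorial k : ℚ)⁻¹) * ((-1 : ℚ) ^ i * (k.choose i : ℚ)) := by
      intro i hi
      obtain ⟨hi1, hik⟩ := Finset.mem_Ico.1 hi
      rw [Nat.cast_choose ℚ hik.le, hneg i hi1]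
      have h1 : (Nat.factorial i : ℚ) ≠ 0 := Nat.cast_ne_zero.2 (Nat.factorial_ne_zero i)
      have h2 : (Nat.factorial (k - i) : ℚ) ≠ 0 := Nat.cast_ne_zero.2 (Nat.factorial_ne_zero _)
      have h3 : (Nat.factorial k : ℚ) ≠ 0 := Nat.cast_ne_zero.2 (Nat.factorial_ne_zero k)
      field_simp
    rw [Finset.sum_congr rfl hterm, ← Finset.mul_sum]
    have hsum : ∑ i ∈ Finset.Ico 1 k, (-1 : ℚ) ^ i * (k.choose i : ℚ) = -1 - (-1) ^ k := by
      linarith
    rw [hsum, hneg k hk1]; ring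
  have hR1 : ∀ i ∈ Finset.Ico 1 k, (-1 : R) ^ (i - 1) * c i * c (k - i) =
      ((-1 : ℚ) ^ (i - 1) * ((Nat.factorial i : ℚ)⁻¹ * (Nat.factorial (k - i) : ℚ)⁻¹)) • y ^ k := by
    intro i hi
    obtain ⟨hi1, hik⟩ := Finset.mem_Ico.1 hi
    have hy : y ^ k = y ^ i * y ^ (k - i) := by rw [← pow_add, Nat.add_sub_cancel' hik.le]
    rw [hc, hc, hy]
    simp only [Algebra.smul_def, map_mul, map_pow, map_neg, map_one]
    ring
  have hR2 : (-1 : R) ^ (k - 1) * c k = ((-1 : ℚ) ^ (k - 1) * (Nat.factorial k : ℚ)⁻¹) • y ^ k := by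
    rw [hc]
    simp only [Algebra.smul_def, map_mul, map_pow, map_neg, map_one]
    ring
  rw [Finset.sum_congr rfl hR1, hR2, ← Finset.sum_smul, ← add_smul, hQ, hc]

end Groth.Agent.S15224
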