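import Groth.Statements.S15225
import Groth.Agent.Lib.Helper5.Curve6.OmegaInv

set_option autoImplicit false
open CategoryTheory CategoryTheory.Limits AlgebraicGeometry MonoidalCategory
open VBCurve

namespace Groth.Agent.S15225

open Groth.Agent.LD Groth.Agent.LD.QC Groth.Agent.H5.Curve2 Groth.Agent.H5.Curve4 Groth.Agent.H5.DegC Groth.Agent.H5.Curve6

/-- Let X be a smooth proper integral curve over ℂ of genus at least 2 which is non-hyperelliptic (no
invertible module of degree 2 has two independent global sections), K a module isomorphic to its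
sheaf of differentials, and E a slope-stable finite locally free module of rank 2 and degree 0 or 1
(degrees are χ(−) minus rank times χ(O_X)). Call E very stable when every O_X-linear map α : E → E ⊗
K with α ∘ α = 0 (the composite E → E ⊗ K → (E ⊗ K) ⊗ K) is zero; for rank 2 this is the absence of
non-zero nilpotent K-valued endomorphisms. Then E fails to be very stable exactly when E has a line
subbundle L, i.e. an invertible submodule whose quotient E/L is invertible, together with a non-zero
O_X-linear map E/L → L ⊗ K. (With det E = Λ and L the dual of a line bundle L₀ the space of such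
maps is H^0(K ⊗ L₀^{-2} ⊗ Λ^{-1}), which is how the criterion is usually written.) -/
theorem result
    (X : Scheme.{0}) [X.Over (Spec (CommRingCat.of ℂ))] [IsIntegral X]
    [IsProper (X ↘ Spec (CommRingCat.of ℂ))] [Smooth (X ↘ Spec (CommRingCat.of ℂ))]
    (hdim : topologicalKrullDim X = 1) (hg : 2 ≤ Curv2.genus ℂ X)
    (hnh : ∀ M : X.Modules, PicF.IsInvertible M → Curv2.deg ℂ X M 1 = 2 →
      Module.finrank ℂ (Coh.HH X M 0) ≤ 1)
    (K : X.Modules) (eK : K ≅ Omega.sheaf (X ↘ Spec (CommRingCat.of ℂ)))
    (E : X.Modules) (hE : FlatMod.IsFinLocFreeOfRank 2 E)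
    (hdegE : Curv2.deg ℂ X E 2 = 0 ∨ Curv2.deg ℂ X E 2 = 1)
    (hst : ModFun.IsSlopeStable ℂ X E 2) :
    (¬ ∀ α : E ⟶ CohB1.tensorMod E K,
        α ≫ (CohB1.sheafifyMod X).map
          (MonoidalCategoryStruct.whiskerRight (C := CohB1.PMod X) α.val (CohB1.toPMod K)) = 0 → α = 0) ↔
      ∃ (L : X.Modules) (j : L ⟶ E), PicF.IsInvertible L ∧ Mono j ∧ PicF.IsInvertible (cokernel j) ∧
        ∃ β : cokernel j ⟶ CohB1.tensorMod L K, β ≠ 0 := by
  haveI := Curve.isLocallyNoetherian ℂ X
  haveI : IsNoetherian X := Groth.Agent.H5.Curve2.isNoetherian_of_proper ℂ X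
  have hK : PicF.IsInvertible K := isInvertible_of_iso_omega ℂ X hdim eK
  have hw : ∀ α : E ⟶ CohB1.tensorMod E K,
      α ≫ (CohB1.sheafifyMod X).map
        (MonoidalCategoryStruct.whiskerRight (C := CohB1.PMod X) α.val (CohB1.toPMod K)) =
      α ≫ KoszTw.tensorMap α (𝟙 K) := by
    intro α
    rw [← KoszTw.tensorBi_map_app]; rfl
  constructor
  · intro h
    push Not at h
    obtain ⟨α, hα2, hα⟩ := h
    rw [hw] at hα2
    have hEK : FlatMod.IsFinLocFreeOfRank 2 (CohB1.tensorMod E K) :=
      isFinLocFreeOfRank_tensorMod_of_isInvertible 2 _ _ hE hK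
    obtain ⟨a, b, hab, ha, hb, -⟩ := kernel_image_facts ℂ X hdim.le 2 2 hE hEK α
    have hbpos := rank_coimage_pos X hα b hb
    have hapos : 0 < a := by
      rcases Nat.eq_zero_or_pos a with h0 | h
      · exfalso
        subst h0
        haveI : Mono α := mono_of_rank_kernel_zero X α ha
        haveI : Mono (KoszTw.tensorMap α (𝟙 K)) := mono_tensorMap_of_isInvertible α K hK
        apply hα
        rw [← cancel_mono (KoszTw.tensorMap α (𝟙 K)), hα2, zero_comp]
        rfl
      · exact h
    have ha1 : a = 1 := by omega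
    have hb1 : b = 1 := by omega
    subst ha1
    subst hb1
    refine ⟨kernel α, kernel.ι α, (isInvertible_iff _).mpr ha, inferInstance,
      (isInvertible_iff _).mpr hb, ?_⟩
    let S : ShortComplex X.Modules := ShortComplex.mk (kernel.ι α) α (kernel.condition α)
    have hS : S.Exact := ShortComplex.exact_kernel α
    have hS' := exact_tensorMap_of_isInvertible hS K hK
    haveI : Mono (KoszTw.tensorMap (kernel.ι α) (𝟙 K)) := mono_tensorMap_of_isInvertible _ K hK
    have h0 : Abelian.factorThruCoimage α ≫ KoszTw.tensorMap α (𝟙 K) = 0 := by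
      rw [← cancel_epi (Abelian.coimage.π α), ← Category.assoc, Abelian.coimage.fac, hα2,
        comp_zero]
      rfl
    refine ⟨hS'.lift _ h0, ?_⟩
    intro hβ
    apply hα
    have h1 := hS'.lift_f _ h0
    rw [hβ, zero_comp] at h1
    rw [← Abelian.coimage.fac α, ← h1, comp_zero]
  · rintro ⟨L, j, hL, hj, hQ, β, hβ⟩
    haveI := hj
    push Not
    haveI : Mono (KoszTw.tensorMap j (𝟙 K)) := mono_tensorMap_of_isInvertible j K hK
    refine ⟨cokernel.π j ≫ β ≫ KoszTw.tensorMap j (𝟙 K), ?_, ?_⟩
    · rw [hw]
      simp only [Category.assoc, tensorMap_comp_id]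
      rw [← Category.assoc (KoszTw.tensorMap j (𝟙 K)), ← tensorMap_comp_id, cokernel.condition,
        tensorMap_zero_id hK, zero_comp, comp_zero, comp_zero]
      rfl
    · intro h0
      apply hβ
      rw [← cancel_epi (cokernel.π j), ← cancel_mono (KoszTw.tensorMap j (𝟙 K)), Category.assoc,
        h0, comp_zero, zero_comp]

end Groth.Agent.S15225
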