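import Groth.Statements.S15229
import Mathlib.Tactic
import Groth.Agent.S15224
-- import your own Groth.Agent.* helpers here

set_option autoImplicit false
open Finset
open W4c2rk2extmaps

namespace Groth.Agent.S15229

/-- In a commutative ℚ-algebra R let θ, η be elements and g a natural number, and put c_k = (4θ)^k / k!.
Suppose θ^(g+1) = 0 and that η satisfies the relation η^(g+1) = Σ_{i=1}^{g+1} (-1)^(i-1) c_i
η^(g+1-i). Then η^(g+k) θ^(g-k) = c_k η^g θ^(g-k) for every 1 ≤ k ≤ g. (The published statement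
concerns the first Chern class η of the tautological line bundle on a projective bundle P(U) over a
g-dimensional Jacobian, with c_k the Chern classes of U, which are (4θ)^k / k!; there θ^(g+1)
vanishes for dimension reasons and the displayed relation is the projective-bundle relation, and the
printed argument derives the identity from exactly these three inputs, which is the form stated
here.) -/
theorem result (R : Type*) [CommRing R] [Algebra ℚ R]
    (θ η : R) (g : ℕ) (c : ℕ → R) (hc : ∀ k : ℕ, c k = ((Nat.factorial k : ℚ)⁻¹) • ((4 : R) * θ) ^ k)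
    (hθ : θ ^ (g + 1) = 0)
    (hrel : η ^ (g + 1) = ∑ i ∈ Finset.Ico 1 (g + 2), (-1 : R) ^ (i - 1) * c i * η ^ (g + 1 - i))
    (k : ℕ) (hk1 : 1 ≤ k) (hkg : k ≤ g) :
    η ^ (g + k) * θ ^ (g - k) = c k * η ^ g * θ ^ (g - k) := by
  have hcq : ∀ i, c i = ((Nat.factorial i : ℚ)⁻¹ * 4 ^ i) • θ ^ i := by
    intro i
    rw [hc, mul_pow, mul_smul]
    congr 1
    rw [Algebra.smul_def, map_pow, map_ofNat]
  have hvan : ∀ i m, g + 1 ≤ i + m → c i * θ ^ m = 0 := by
    intro i m h
    rw [hcq, smul_mul_assoc, ← pow_add]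
    obtain ⟨t, ht⟩ := Nat.exists_eq_add_of_le h
    rw [ht, pow_add, hθ, zero_mul, smul_zero]
  revert hk1 hkg
  induction k using Nat.strong_induction_on with
  | _ k ih =>
    intro hk1 hkg
    have h1 : η ^ (g + k) * θ ^ (g - k) = ∑ i ∈ Finset.Ico 1 (g + 2),
        (-1 : R) ^ (i - 1) * c i * η ^ (g + 1 - i) * (η ^ (k - 1) * θ ^ (g - k)) := by
      rw [← Finset.sum_mul, ← hrel, ← mul_assoc, ← pow_add]
      congr 2
      omega
    have h2 : ∑ i ∈ Finset.Ico 1 (g + 2),
        (-1 : R) ^ (i - 1) * c i * η ^ (g + 1 - i) * (η ^ (k - 1) * θ ^ (g - k)) =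
        ∑ i ∈ Finset.Ico 1 (k + 1),
        (-1 : R) ^ (i - 1) * c i * η ^ (g + 1 - i) * (η ^ (k - 1) * θ ^ (g - k)) := by
      symm
      apply Finset.sum_subset (Finset.Ico_subset_Ico le_rfl (by omega))
      intro i hi hni
      have h0 : c i * θ ^ (g - k) = 0 := hvan i (g - k) (by
        simp only [Finset.mem_Ico, not_and, not_lt] at hi hni
        have := hni hi.1
        omega)
      calc (-1 : R) ^ (i - 1) * c i * η ^ (g + 1 - i) * (η ^ (k - 1) * θ ^ (g - k))
          = (-1 : R) ^ (i - 1) * η ^ (g + 1 - i) * η ^ (k - 1) * (c i * θ ^ (g - k)) := by ring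
        _ = 0 := by rw [h0, mul_zero]
    rw [h1, h2, Finset.sum_Ico_succ_top hk1]
    have h3 : ∀ i ∈ Finset.Ico 1 k,
        (-1 : R) ^ (i - 1) * c i * η ^ (g + 1 - i) * (η ^ (k - 1) * θ ^ (g - k)) =
        ((-1 : R) ^ (i - 1) * c i * c (k - i)) * (η ^ g * θ ^ (g - k)) := by
      intro i hi
      obtain ⟨hi1, hik⟩ := Finset.mem_Ico.1 hi
      have ihk := ih (k - i) (by omega) (by omega) (by omega)
      have e1 : η ^ (g + 1 - i) * η ^ (k - 1) = η ^ (g + (k - i)) := by
        rw [← pow_add]; congr 1; omega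
      have e2 : θ ^ i * θ ^ (g - k) = θ ^ (g - (k - i)) := by
        rw [← pow_add]; congr 1; omega
      calc (-1 : R) ^ (i - 1) * c i * η ^ (g + 1 - i) * (η ^ (k - 1) * θ ^ (g - k))
          = (-1 : R) ^ (i - 1) * (((Nat.factorial i : ℚ)⁻¹ * 4 ^ i) •
              (η ^ (g + (k - i)) * θ ^ (g - (k - i)))) := by
            rw [hcq i, ← e1, ← e2]; simp only [Algebra.smul_def]; ring
        _ = (-1 : R) ^ (i - 1) * (((Nat.factorial i : ℚ)⁻¹ * 4 ^ i) •
              (c (k - i) * η ^ g * θ ^ (g - (k - i)))) := by rw [ihk]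
        _ = ((-1 : R) ^ (i - 1) * c i * c (k - i)) * (η ^ g * θ ^ (g - k)) := by
            rw [← e2, hcq i]; simp only [Algebra.smul_def]; ring
    rw [Finset.sum_congr rfl h3, ← Finset.sum_mul]
    have h4 : (-1 : R) ^ (k - 1) * c k * η ^ (g + 1 - k) * (η ^ (k - 1) * θ ^ (g - k)) =
        ((-1 : R) ^ (k - 1) * c k) * (η ^ g * θ ^ (g - k)) := by
      have : η ^ (g + 1 - k) * η ^ (k - 1) = η ^ g := by rw [← pow_add]; congr 1; omega
      rw [← this]; ring
    rw [h4, ← add_mul]
    have h5 : (∑ i ∈ Finset.Ico 1 k, (-1 : R) ^ (i - 1) * c i * c (k - i)) +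
        (-1 : R) ^ (k - 1) * c k = c k := by
      rcases Nat.lt_or_ge k 2 with hlt | hge
      · have : k = 1 := by omega
        subst this; simp
      · exact Groth.Agent.S15224.result R (4 * θ) c hc k hge
    rw [h5]; ring

end Groth.Agent.S15229
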