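import Groth.Statements.S15233
import Mathlib

set_option autoImplicit false
universe u
open CategoryTheory CategoryTheory.Limits Opposite
open CohSite

namespace Groth.Agent.S15233

/-- Let C be a small category with a Grothendieck topology J, and let B be a class of objects forming a
prebasis: for every object V and every covering sieve S of V, the arrows of S whose domain lies in B
generate a covering sieve of V. If F is a presheaf of abelian groups on C such that F(U) = 0 for
every object U in B, then the sheafification of F is zero. -/
theorem result {C : Type u} [SmallCategory C] (J : GrothendieckTopology C)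
    (B : ObjectProperty C)
    (hB : ∀ (V : C) (S : Sieve V), S ∈ J V →
      Sieve.generate (fun (U : C) => {g : U ⟶ V | S.arrows g ∧ B U}) ∈ J V)
    (F : Cᵒᵖ ⥤ AddCommGrpCat.{u}) (hF : ∀ U : C, B U → IsZero (F.obj (op U))) :
    IsZero ((presheafToSheaf J AddCommGrpCat.{u}).obj F) := by
  have key : ∀ (G : Sheaf J AddCommGrpCat.{u}) (φ : F ⟶ G.obj), φ = 0 := by
    intro G φ
    ext V x
    induction V using Opposite.rec with | _ V => ?_
    have hsh : Presieve.IsSheaf J (G.obj ⋙ forget AddCommGrpCat.{u}) := by
      rw [← isSheaf_iff_isSheaf_of_type]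
      exact (Presheaf.isSheaf_iff_isSheaf_forget J G.obj (forget AddCommGrpCat.{u})).1 G.property
    refine (hsh.isSeparated _ (hB V ⊤ (J.top_mem V))).ext ?_
    rintro W g ⟨U, a, b, ⟨_, hU⟩, rfl⟩
    have h0 : F.map b.op x = 0 := by
      have := AddCommGrpCat.subsingleton_of_isZero (hF U hU)
      exact Subsingleton.elim _ _
    have h1 : G.obj.map b.op (φ.app (op V) x) = φ.app (op U) (F.map b.op x) :=
      (NatTrans.naturality_apply φ b.op x).symm
    change G.obj.map (a ≫ b).op (φ.app (op V) x) = G.obj.map (a ≫ b).op ((0 : F ⟶ G.obj).app (op V) x)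
    rw [op_comp, Functor.map_comp]
    simp only [ConcreteCategory.comp_apply, h1, h0, map_zero]
    simp
  rw [IsZero.iff_id_eq_zero]
  apply ((sheafificationAdjunction J AddCommGrpCat.{u}).homEquiv F _).injective
  rw [key _ (((sheafificationAdjunction J AddCommGrpCat.{u}).homEquiv F _) (𝟙 _)),
    key _ (((sheafificationAdjunction J AddCommGrpCat.{u}).homEquiv F _) 0)]

end Groth.Agent.S15233
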