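import Groth.Statements.S15241
import Groth.Agent.Lib.Helper3.KleimanB
import Groth.Agent.Lib.Helper3.KleimanF
import Groth.Agent.Lib.Helper3.FBaseDim
import Groth.Agent.Lib.Helper9.Misc.CAR5
import Groth.Agent.Lib.Helper9.Misc.TOR4
import Groth.Agent.S0414

set_option autoImplicit false
universe u
open CategoryTheory CategoryTheory.Limits MonoidalCategory CartesianMonoidalCategory MonObj GrpObj AlgebraicGeometry
open AGF

namespace Groth.Agent.S15241

/-- Let k be an algebraically closed field of characteristic zero, G a group variety over k (an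
integral, separated k-group scheme of finite type) acting on a variety X over k (integral,
separated, of finite type) of dimension n such that G(k) acts transitively on X(k), and let Y₁, Y₂
be closed irreducible subsets of X of dimensions r and s. Then for g in a nonempty open subset of G
the translate g · Y₁ meets Y₂ properly: there is a nonempty open V ⊆ G such that for every k-point g
of G lying in V, the intersection of Y₂ with the image of Y₁ under x ↦ g · x is either empty or has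
every irreducible component of dimension exactly r + s − n (and then n ≤ r + s). (The published
statement also asserts multiplicity one along each component, which is not stated here. The
published setting is over the complex numbers with G affine; this row assumes an algebraically
closed field of characteristic zero and any group variety, which is all the printed argument uses.) -/
theorem result (k : Type u) [Field k] [IsAlgClosed k] [CharZero k]
    (G X : Over (Spec (CommRingCat.of k))) [GrpObj G] (a : AlgGrp.Action G X)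
    [IsIntegral G.left] [IsSeparated G.hom] [LocallyOfFiniteType G.hom] [QuasiCompact G.hom]
    [IsIntegral X.left] [IsSeparated X.hom] [LocallyOfFiniteType X.hom] [QuasiCompact X.hom]
    (htrans : ∀ x x' : 𝟙_ (Over (Spec (CommRingCat.of k))) ⟶ X,
      ∃ σ : 𝟙_ (Over (Spec (CommRingCat.of k))) ⟶ G, CartesianMonoidalCategory.lift σ x ≫ a.act = x')
    (Y₁ Y₂ : Set ↥X.left) (h₁c : IsClosed Y₁) (h₁i : IsIrreducible Y₁) (h₂c : IsClosed Y₂) (h₂i : IsIrreducible Y₂)
    (n r s : ℕ) (hn : topologicalKrullDim ↥X.left = n) (hr : topologicalKrullDim ↥Y₁ = r)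
    (hs : topologicalKrullDim ↥Y₂ = s) :
    ∃ V : G.left.Opens, (V : Set ↥G.left).Nonempty ∧
      ∀ σ : 𝟙_ (Over (Spec (CommRingCat.of k))) ⟶ G, Set.range ⇑σ.left.base ⊆ (V : Set ↥G.left) →
        ⇑(CartesianMonoidalCategory.lift (CartesianMonoidalCategory.toUnit X ≫ σ) (𝟙 X) ≫ a.act).left.base '' Y₁ ∩ Y₂ = ∅ ∨
        (n ≤ r + s ∧ ∀ C ∈ irreducibleComponents
            ↥(⇑(CartesianMonoidalCategory.lift (CartesianMonoidalCategory.toUnit X ≫ σ) (𝟙 X) ≫ a.act).left.base '' Y₁ ∩ Y₂),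
          topologicalKrullDim ↥C = ((r + s - n : ℕ) : WithBot ℕ∞)) := by
  classical
  -- the reduced structures on `Y₁`, `Y₂`
  obtain ⟨Y1, ι₁, hι₁c, hY1r, hι₁r⟩ :=
    Groth.Agent.H3.KleimanF.exists_reduced_closedImmersion Y₁ h₁c
  obtain ⟨Y2, ι₂, hι₂c, hY2r, hι₂r⟩ :=
    Groth.Agent.H3.KleimanF.exists_reduced_closedImmersion Y₂ h₂c
  haveI := hι₁c
  haveI := hι₂c
  obtain ⟨hY1i, hY1d⟩ :=
    Groth.Agent.H3.KleimanF.irreducibleSpace_and_dim_of_range ι₁ Y₁ hι₁r h₁i
  obtain ⟨hY2i, hY2d⟩ :=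
    Groth.Agent.H3.KleimanF.irreducibleSpace_and_dim_of_range ι₂ Y₂ hι₂r h₂i
  haveI := hY1i
  haveI := hY2i
  rw [hr] at hY1d
  rw [hs] at hY2d
  haveI : Smooth G.hom := Groth.Agent.H9.CAR.S0353_main k G
  haveI : LocallyOfFiniteType (Groth.Agent.H3.KleimanB.Yo ι₁).hom :=
    inferInstanceAs (LocallyOfFiniteType (ι₁ ≫ X.hom))
  haveI : QuasiCompact (Groth.Agent.H3.KleimanB.Yo ι₁).hom :=
    inferInstanceAs (QuasiCompact (ι₁ ≫ X.hom))
  haveI : LocallyOfFiniteType (ι₂ ≫ X.hom) := inferInstance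
  -- the product `G × Y₁`
  haveI hPlft : LocallyOfFiniteType (G ⊗ Groth.Agent.H3.KleimanB.Yo ι₁).hom := by
    rw [Over.tensorObj_hom]; infer_instance
  haveI hPqc : QuasiCompact (G ⊗ Groth.Agent.H3.KleimanB.Yo ι₁).hom := by
    rw [Over.tensorObj_hom]; infer_instance
  haveI : GeometricallyIrreducible G.hom :=
    Groth.Agent.H9.TOR.geometricallyIrreducible_of_connected G
  haveI : IrreducibleSpace ↥(Groth.Agent.H3.KleimanB.Yo ι₁).left :=
    inferInstanceAs (IrreducibleSpace ↥Y1)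
  haveI : IrreducibleSpace ↥(pullback G.hom (Groth.Agent.H3.KleimanB.Yo ι₁).hom) := inferInstance
  haveI hPirr : IrreducibleSpace ↥(G ⊗ Groth.Agent.H3.KleimanB.Yo ι₁).left :=
    inferInstanceAs (IrreducibleSpace ↥(pullback G.hom (Groth.Agent.H3.KleimanB.Yo ι₁).hom))
  -- the map `h : G × Y₁ ⟶ X` is flat
  haveI : LocallyOfFiniteType ((Groth.Agent.H3.KleimanB.hmap a ι₁).left ≫ X.hom) := by
    rw [Over.w]; infer_instance
  haveI : QuasiCompact ((Groth.Agent.H3.KleimanB.hmap a ι₁).left ≫ X.hom) := by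
    rw [Over.w]; infer_instance
  haveI hhlft : LocallyOfFiniteType (Groth.Agent.H3.KleimanB.hmap a ι₁).left :=
    locallyOfFiniteType_of_comp _ X.hom
  haveI hhqc : QuasiCompact (Groth.Agent.H3.KleimanB.hmap a ι₁).left :=
    QuasiCompact.of_comp _ X.hom
  obtain ⟨U₀, hU₀d, hU₀f, -⟩ := Groth.Agent.S0414.result (Groth.Agent.H3.KleimanB.hmap a ι₁).left
  haveI : IsZariskiLocalAtTarget @Flat :=
    HasRingHomProperty.instIsZariskiLocalAtTarget _ (Q := RingHom.Flat)
  haveI hflat : Flat (Groth.Agent.H3.KleimanB.hmap a ι₁).left :=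
    Groth.Agent.H3.KleimanB.of_equivariant @Flat a htrans (Groth.Agent.H3.KleimanB.hmap a ι₁)
      (Groth.Agent.H3.KleimanB.Lmap ι₁) (fun σ => inferInstance)
      (Groth.Agent.H3.KleimanB.Lmap_hmap a ι₁) U₀ hU₀d.nonempty hU₀f
  -- the projection `q : (G × Y₁) ×_X Y₂ ⟶ G` is flat over a nonempty open
  haveI : LocallyOfFiniteType (fst G (Groth.Agent.H3.KleimanB.Yo ι₁)).left :=
    inferInstanceAs (LocallyOfFiniteType (pullback.fst G.hom (Groth.Agent.H3.KleimanB.Yo ι₁).hom))
  haveI : QuasiCompact (fst G (Groth.Agent.H3.KleimanB.Yo ι₁)).left :=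
    inferInstanceAs (QuasiCompact (pullback.fst G.hom (Groth.Agent.H3.KleimanB.Yo ι₁).hom))
  obtain ⟨V, hVd, hVf, -⟩ := Groth.Agent.S0414.result
    (pullback.fst (Groth.Agent.H3.KleimanB.hmap a ι₁).left ι₂ ≫
      (fst G (Groth.Agent.H3.KleimanB.Yo ι₁)).left)
  refine ⟨V, hVd.nonempty, ?_⟩
  intro σ hσ
  obtain ⟨j, sq⟩ := Groth.Agent.H3.KleimanB.exists_isPullback_fibre a ι₁ ι₂ σ
  obtain ⟨j', s', hj', hs', sq'⟩ := Groth.Agent.H3.KleimanB.isPullback_restrict sq V hσ
  have hfσ := Groth.Agent.H3.KleimanB.translate_eq a ι₁ σ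
  haveI : IsIso (Groth.Agent.H3.OrbTrans.tact a σ).left :=
    (Over.forget _).map_isIso (Groth.Agent.H3.OrbTrans.tact a σ)
  haveI hfσc : IsClosedImmersion (CartesianMonoidalCategory.lift
      (toUnit (Groth.Agent.H3.KleimanB.Yo ι₁) ≫ σ) (Groth.Agent.H3.KleimanB.fo ι₁) ≫ a.act).left := by
    rw [hfσ]; infer_instance
  have hrange : Set.range (pullback.fst (CartesianMonoidalCategory.lift
      (toUnit (Groth.Agent.H3.KleimanB.Yo ι₁) ≫ σ) (Groth.Agent.H3.KleimanB.fo ι₁) ≫ a.act).left ι₂ ≫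
      (CartesianMonoidalCategory.lift
      (toUnit (Groth.Agent.H3.KleimanB.Yo ι₁) ≫ σ) (Groth.Agent.H3.KleimanB.fo ι₁) ≫ a.act).left) =
      ⇑(CartesianMonoidalCategory.lift (CartesianMonoidalCategory.toUnit X ≫ σ) (𝟙 X) ≫
        a.act).left.base '' Y₁ ∩ Y₂ := by
    rw [Scheme.Pullback.range_fst_comp, hι₂r]
    congr 1
    rw [hfσ, Scheme.Hom.comp_base, TopCat.coe_comp, Set.range_comp, hι₁r]
    rfl
  by_cases hemp : IsEmpty ↥(pullback (CartesianMonoidalCategory.lift
      (toUnit (Groth.Agent.H3.KleimanB.Yo ι₁) ≫ σ) (Groth.Agent.H3.KleimanB.fo ι₁) ≫ a.act).left ι₂)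
  · left
    rw [← hrange]
    exact Set.range_eq_empty _
  · right
    rw [not_isEmpty_iff] at hemp
    obtain ⟨m, hm⟩ : ∃ m : ℕ, topologicalKrullDim ↥G.left = m := by
      obtain ⟨z⟩ : Nonempty ↥G.left := inferInstance
      obtain ⟨d, hd⟩ := Groth.Agent.H1.FlatFibDim.exists_localDim_eq_natCast G.hom z
      exact ⟨d, by rw [← Groth.Agent.H1.EquiDim.localDim_eq_dim G.hom z, hd]⟩
    have hP : topologicalKrullDim ↥(G ⊗ Groth.Agent.H3.KleimanB.Yo ι₁).left =
        ((m + r : ℕ) : WithBot ℕ∞) := by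
      have h1 := Groth.Agent.H3.FBaseDim.dim_pullback G.hom (Groth.Agent.H3.KleimanB.Yo ι₁).hom
      have h2 : topologicalKrullDim ↥(Groth.Agent.H3.KleimanB.Yo ι₁).left = r := hY1d
      rw [hm, h2] at h1
      rw [show topologicalKrullDim ↥(G ⊗ Groth.Agent.H3.KleimanB.Yo ι₁).left =
        topologicalKrullDim ↥(pullback G.hom (Groth.Agent.H3.KleimanB.Yo ι₁).hom) from rfl, h1]
      push_cast
      rfl
    haveI := hVf
    haveI : LocallyOfFiniteType ((pullback.fst (Groth.Agent.H3.KleimanB.hmap a ι₁).left ι₂ ≫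
      (fst G (Groth.Agent.H3.KleimanB.Yo ι₁)).left) ∣_ V) := inferInstance
    have hloc := fun w => Groth.Agent.H3.KleimanF.localDim_fibre_eq G.hom X.hom (ι₂ ≫ X.hom)
      (G ⊗ Groth.Agent.H3.KleimanB.Yo ι₁).hom (Groth.Agent.H3.KleimanB.hmap a ι₁).left ι₂ _ V _
      j' s' sq' m n s (m + r) hm hn hY2d hP w
    obtain ⟨w₀⟩ := hemp
    obtain ⟨e, he, -⟩ := hloc w₀
    refine ⟨by omega, ?_⟩
    have hcomp := (Groth.Agent.H1.RelDim.forall_dim_irreducibleComponents_iff
      (pullback.fst (CartesianMonoidalCategory.lift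
        (toUnit (Groth.Agent.H3.KleimanB.Yo ι₁) ≫ σ) (Groth.Agent.H3.KleimanB.fo ι₁) ≫ a.act).left ι₂ ≫
        ι₁ ≫ X.hom) ((r + s - n : ℕ) : WithBot ℕ∞)).mpr (fun w => by
          obtain ⟨e', he', hw⟩ := hloc w
          rw [hw]
          congr 1
          omega)
    have hfin := Groth.Agent.H3.KleimanF.dim_components_range
      (pullback.fst (CartesianMonoidalCategory.lift
        (toUnit (Groth.Agent.H3.KleimanB.Yo ι₁) ≫ σ) (Groth.Agent.H3.KleimanB.fo ι₁) ≫ a.act).left ι₂ ≫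
        (CartesianMonoidalCategory.lift
        (toUnit (Groth.Agent.H3.KleimanB.Yo ι₁) ≫ σ) (Groth.Agent.H3.KleimanB.fo ι₁) ≫
          a.act).left).isClosedEmbedding.isEmbedding _ hcomp
    rw [hrange] at hfin
    exact hfin

end Groth.Agent.S15241
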