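import Groth.Statements.S15254
import Groth.Agent.Lib.Lead.PN.AmpleSerreRel
import Groth.Agent.Lib.Lead.PD.LefCoh
import Groth.Agent.Lib.Lead.QC.TensorExact
import Groth.Agent.Lib.Lead.QC.QuotSupp
import Groth.Agent.Lib.Lead.GS.Dim0
import Groth.Agent.Lib.Lead.Misc3.SSBdd
import Groth.Agent.Lib.Lead.DF.Sec
import Groth.Agent.Lib.Helper5.Curve2.C
import Groth.Agent.Lib.Helper5.Deg.Deg3
import Groth.Agent.Lib.Lead.CohLES.Vanish
import Groth.Agent.Lib.Lead.QC.TensorPow

set_option autoImplicit false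
universe u
open CategoryTheory CategoryTheory.Limits AlgebraicGeometry TopologicalSpace
open W4c2seshadripos

namespace Groth.Agent.S15254

/-- Let X be an integral scheme proper over a field k (the published statement: a projective variety), x
a closed point of X with ideal sheaf m_x, and L an ample invertible O_X-module. Then there is m₀
such that for every m ≥ m₀, every i > 1 and every a ≥ 0 the cohomology group H^i(X, m_x^a ⊗ L^{⊗m})
vanishes (here m_x^a ⊗ L^{⊗m} = m_x^a · L^{⊗m}, the ideal sheaf m_x^a being taken as an O_X-module). -/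
theorem result (k : Type u) [Field k] (X : Scheme.{u})
    [X.Over (Spec (CommRingCat.of k))] [IsProper (X ↘ (Spec (CommRingCat.of k)))] [IsIntegral X]
    (x : X) (hx : IsClosed ({x} : Set X)) (L : X.Modules) (hL : CohB1.IsAmple L) :
    ∃ m₀ : ℕ, ∀ m : ℕ, m₀ ≤ m → ∀ i : ℕ, 1 < i → ∀ a : ℕ,
      Subsingleton (Coh.HH X (CohB1.tensorMod (ClSub.idealMod ((W4c2seshadripos.pointIdeal x hx) ^ a))
        (CohB1.tensorPow L m)) i) := by
  classical
  haveI : IsLocallyNoetherian X :=
    LocallyOfFiniteType.isLocallyNoetherian (X ↘ Spec (CommRingCat.of k))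
  have hLi : PicF.IsInvertible L := hL.1
  have hOc : Coh.IsCoh (Groth.Agent.LD.QC.unitMod X) :=
    Groth.Agent.H5.Curve2.isCoh_of_isInvertible (Groth.Agent.LD.QC.isInvertible_unit X)
  obtain ⟨n₀, hn₀⟩ := Groth.Agent.LD.PN.AmS.serre_vanishing_of_isAmple k
    (X ↘ Spec (CommRingCat.of k)) L hLi hL (Groth.Agent.LD.QC.unitMod X) hOc
  refine ⟨n₀, fun m hm i hi a => ?_⟩
  have hLm := Groth.Agent.LD.QC.isInvertible_tensorPow hLi m
  have hS := Groth.Agent.LD.PD.shortExact_idealMod ((W4c2seshadripos.pointIdeal x hx) ^ a)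
  have hS' := Groth.Agent.LD.QC.shortExact_tensorMap_of_isInvertible hS (CohB1.tensorPow L m) hLm
  obtain ⟨j, rfl⟩ : ∃ j, i = j + 2 := ⟨i - 2, by omega⟩
  have h3 : Subsingleton (Coh.HH X (CohB1.tensorMod
      (ClSub.quotMod ((W4c2seshadripos.pointIdeal x hx) ^ a)) (CohB1.tensorPow L m)) (j + 1)) := by
    have hQc := Groth.Agent.LD.QC.isCoh_quotMod ((W4c2seshadripos.pointIdeal x hx) ^ a)
    have hc := Groth.Agent.H5.Curve2.isCoh_tensor_of_isInvertible hQc hLm
    haveI := hc.1
    refine Groth.Agent.LD.GS.subsingleton_HH_of_support_dim _ hc.2 ?_ j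
    refine Groth.Agent.LD.SSBdd.dim_le_zero_of_subset_singleton _ x ?_
    intro y hy
    have h1 := Groth.Agent.H5.Deg.support_tensorMod_subset
      (ClSub.quotMod ((W4c2seshadripos.pointIdeal x hx) ^ a)) hQc.2 hLm hy
    rw [Groth.Agent.LD.QC.support_quotMod] at h1
    have h2 := Groth.Agent.LD.DF.support_pow_subset (W4c2seshadripos.pointIdeal x hx) a h1
    have h4 : ((W4c2seshadripos.pointIdeal x hx).support : Set X) = {x} := by
      unfold W4c2seshadripos.pointIdeal
      exact Scheme.IdealSheafData.coe_support_vanishingIdeal _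
    rw [h4] at h2
    exact h2
  have h2 : Subsingleton (Coh.HH X (CohB1.tensorMod (Groth.Agent.LD.QC.unitMod X)
      (CohB1.tensorPow L m)) (j + 1 + 1)) := hn₀ m hm (j + 1 + 1) (by omega)
  exact Groth.Agent.LD.CL.subsingleton_left hS' (j + 1) h3 h2

end Groth.Agent.S15254
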