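import Groth.Statements.S15255
import Groth.Agent.Lib.Lead.PN.AmpleSerreRel
import Groth.Agent.Lib.Lead.PD.LefCoh
import Groth.Agent.Lib.Lead.QC.TensorExact
import Groth.Agent.Lib.Lead.QC.QuotSupp
import Groth.Agent.Lib.Lead.GS.Dim0
import Groth.Agent.Lib.Lead.Misc3.SSBdd
import Groth.Agent.Lib.Lead.DF.Sec
import Groth.Agent.Lib.Helper5.Curve2.C
import Groth.Agent.Lib.Helper5.Curve2.F
import Groth.Agent.Lib.Helper5.Deg.Deg3
import Groth.Agent.Lib.Lead.CohLES.Vanish
import Groth.Agent.Lib.Lead.QC.TensorPow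
import Groth.Agent.Lib.Helper5.LinEq.A
import Groth.Agent.Lib.Helper5.Curve6.Rat
import Groth.Agent.Lib.Lead.QC.SerreSupp
import Groth.Agent.Lib.Lead.QC.IdealMod
import Groth.Agent.Lib.Lead.QC.Gen

set_option autoImplicit false
universe u
open CategoryTheory CategoryTheory.Limits AlgebraicGeometry TopologicalSpace
open W4c2seshadripos

namespace Groth.Agent.S15255

/-- Let X be an integral scheme proper over a field k (the published statement: a projective variety), x
a closed point of X with ideal sheaf m_x, L an invertible O_X-module and a, m > 0 integers. If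
H^1(X, m_x^a ⊗ L^{⊗m}) is nonzero then so is H^1(X, m_x^(a+1) ⊗ L^{⊗m}) (the ideal sheaves m_x^a
being taken as O_X-modules, so that m_x^a ⊗ L^{⊗m} = m_x^a · L^{⊗m}). -/
theorem result (k : Type u) [Field k]
    (X : Scheme.{u}) [X.Over (Spec (CommRingCat.of k))] [IsProper (X ↘ (Spec (CommRingCat.of k)))]
    [IsIntegral X] (x : X) (hx : IsClosed ({x} : Set X)) (L : X.Modules) (hL : PicF.IsInvertible L)
    (a m : ℕ) (ha : 0 < a) (hm : 0 < m)
    (h : Nontrivial (Coh.HH X (CohB1.tensorMod (ClSub.idealMod ((W4c2seshadripos.pointIdeal x hx) ^ a))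
      (CohB1.tensorPow L m)) 1)) :
    Nontrivial (Coh.HH X (CohB1.tensorMod (ClSub.idealMod ((W4c2seshadripos.pointIdeal x hx) ^ (a + 1)))
      (CohB1.tensorPow L m)) 1) := by
  classical
  haveI : IsLocallyNoetherian X :=
    LocallyOfFiniteType.isLocallyNoetherian (X ↘ Spec (CommRingCat.of k))
  have hOc : Coh.IsCoh (Groth.Agent.LD.QC.unitMod X) :=
    Groth.Agent.H5.Curve2.isCoh_of_isInvertible (Groth.Agent.LD.QC.isInvertible_unit X)
  have hLm := Groth.Agent.LD.QC.isInvertible_tensorPow hL m
  have hle : (W4c2seshadripos.pointIdeal x hx) ^ (a + 1) ≤ (W4c2seshadripos.pointIdeal x hx) ^ a := by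
    intro U
    exact Ideal.pow_le_pow_right (Nat.le_succ a)
  haveI hmono : Mono (Groth.Agent.H5.LinEq.idealModIncl hle) := by
    apply (config := { allowSynthFailures := true }) mono_of_mono_fac
      (Groth.Agent.H5.LinEq.idealModIncl_ι hle)
  have hS : (ShortComplex.mk (Groth.Agent.H5.LinEq.idealModIncl hle)
      (cokernel.π (Groth.Agent.H5.LinEq.idealModIncl hle))
      (cokernel.condition _)).ShortExact :=
    { exact := ShortComplex.exact_cokernel _
      mono_f := hmono
      epi_g := inferInstanceAs (Epi (cokernel.π _)) }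
  have hS' := Groth.Agent.LD.QC.shortExact_tensorMap_of_isInvertible hS (CohB1.tensorPow L m) hLm
  have hI1 : Coh.IsCoh (ClSub.idealMod ((W4c2seshadripos.pointIdeal x hx) ^ (a + 1))) :=
    Groth.Agent.LD.QC.isCoh_of_mono (ClSub.idealModι _) inferInstance hOc
  have hI2 : Coh.IsCoh (ClSub.idealMod ((W4c2seshadripos.pointIdeal x hx) ^ a)) :=
    Groth.Agent.LD.QC.isCoh_of_mono (ClSub.idealModι _) inferInstance hOc
  have hQc : Coh.IsCoh (cokernel (Groth.Agent.H5.LinEq.idealModIncl hle)) :=
    Groth.Agent.LD.QC.isCoh_cokernel _ hI1 hI2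
  have h3 : Subsingleton (Coh.HH X (CohB1.tensorMod
      (cokernel (Groth.Agent.H5.LinEq.idealModIncl hle)) (CohB1.tensorPow L m)) (0 + 1)) := by
    have hc := Groth.Agent.H5.Curve2.isCoh_tensor_of_isInvertible hQc hLm
    haveI := hc.1
    refine Groth.Agent.LD.GS.subsingleton_HH_of_support_dim _ hc.2 ?_ 0
    refine Groth.Agent.LD.SSBdd.dim_le_zero_of_subset_singleton _ x ?_
    intro y hy
    have h1 := Groth.Agent.H5.Deg.support_tensorMod_subset
      (cokernel (Groth.Agent.H5.LinEq.idealModIncl hle)) hQc.2 hLm hy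
    by_contra hyx
    apply h1
    apply Groth.Agent.H5.Curve2.subsingleton_stalk_cokernel_of_locSurjAt
    have hys : y ∉ ((W4c2seshadripos.pointIdeal x hx) ^ (a + 1)).support := by
      intro hmem
      have h2 := Groth.Agent.LD.DF.support_pow_subset (W4c2seshadripos.pointIdeal x hx) (a + 1) hmem
      have h4 : ((W4c2seshadripos.pointIdeal x hx).support : Set X) = {x} := by
        unfold W4c2seshadripos.pointIdeal
        exact Scheme.IdealSheafData.coe_support_vanishingIdeal _
      rw [h4] at h2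
      exact hyx h2
    have hloc := Groth.Agent.H5.Curve6.locSurjAt_idealModι _ y hys
    intro U t hyU
    obtain ⟨W, hWU, hyW, g, hg⟩ := hloc U ((ClSub.idealModι _).app U t) hyU
    refine ⟨W, hWU, hyW, g, ?_⟩
    apply Groth.Agent.LD.QC.idealModι_app_injective _ W
    rw [Groth.Agent.LD.QC.app_res (ClSub.idealModι _) hWU t, ← hg,
      ← Groth.Agent.H5.LinEq.idealModIncl_ι hle]
    rfl
  by_contra hcon
  rw [not_nontrivial_iff_subsingleton] at hcon
  have := Groth.Agent.LD.CL.subsingleton_mid hS' 1 hcon h3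
  exact not_subsingleton _ this

end Groth.Agent.S15255
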