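import Groth.Statements.S15298
import Groth.Agent.Lib.Helper1.PSEval

set_option autoImplicit false
universe u
open CAlg

namespace Groth.Agent.S15298

/-- Let k be a field, A a Noetherian k-algebra and x a non-zero-divisor of A such that A is separated
and complete for the (x)-adic topology, and assume that B = A/xA is formally smooth over k. Then A
is a power series ring over B in the variable x: there is a k-algebra isomorphism e : B[[T]] ≅ A
with e(T) = x whose reduction modulo x is the constant-coefficient map, i.e. e(f) ≡ f(0) mod x for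
every power series f. -/
theorem result (k A : Type u) [Field k]
    [CommRing A] [Algebra k A] [IsNoetherianRing A] (x : A) (hx : x ∈ nonZeroDivisors A)
    [IsAdicComplete (Ideal.span {x}) A] [Algebra.FormallySmooth k (A ⧸ Ideal.span {x})] :
    ∃ e : PowerSeries (A ⧸ Ideal.span {x}) ≃ₐ[k] A,
      e PowerSeries.X = x ∧
      ∀ f : PowerSeries (A ⧸ Ideal.span {x}),
        Ideal.Quotient.mk (Ideal.span {x}) (e f) = PowerSeries.constantCoeff f := by
  obtain ⟨s, hs⟩ := Algebra.FormallySmooth.exists_mkₐ_comp_eq_of_isAdicComplete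
    (R := k) (A := A ⧸ Ideal.span {x}) (S := A) (I := Ideal.span {x}) (AlgHom.id k _)
  have hs' : ∀ b, Ideal.Quotient.mk (Ideal.span {x}) (s b) = b := fun b => AlgHom.congr_fun hs b
  letI : Algebra (A ⧸ Ideal.span {x}) A := s.toRingHom.toAlgebra
  haveI : IsScalarTower k (A ⧸ Ideal.span {x}) A := IsScalarTower.of_algebraMap_eq fun c => by
    change _ = s (algebraMap k _ c)
    rw [AlgHom.commutes]
  have hK : Function.Bijective ((Ideal.Quotient.mk (Ideal.span {x})).comp
      (algebraMap (A ⧸ Ideal.span {x}) A)) := by
    have : (Ideal.Quotient.mk (Ideal.span {x})).comp (algebraMap (A ⧸ Ideal.span {x}) A) =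
        RingHom.id _ := by
      ext b
      exact hs' _
    rw [this]
    exact Function.bijective_id
  obtain ⟨φ, hφX, hφb, hφ⟩ :=
    Groth.Agent.H1.PSEval.exists_bijective_of_nzd (A ⧸ Ideal.span {x}) A x hx hK
  refine ⟨(AlgEquiv.ofBijective φ hφb).restrictScalars k, hφX, fun f => ?_⟩
  have h1 := hφ f 1
  simp only [Finset.range_one, Finset.sum_singleton, pow_zero, mul_one, pow_one] at h1
  change Ideal.Quotient.mk (Ideal.span {x}) (φ f) = _
  rw [← sub_eq_zero, ← PowerSeries.coeff_zero_eq_constantCoeff_apply]
  have h2 : Ideal.Quotient.mk (Ideal.span {x})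
      (algebraMap (A ⧸ Ideal.span {x}) A (PowerSeries.coeff 0 f)) = PowerSeries.coeff 0 f := hs' _
  rw [← h2, ← map_sub, Ideal.Quotient.eq_zero_iff_mem]
  exact h1

end Groth.Agent.S15298
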