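import Groth.Statements.S1530
import Groth.Agent.Lib.Helper5.Curve2.G

set_option autoImplicit false
universe u
open CategoryTheory CategoryTheory.Limits AlgebraicGeometry
open Variety

namespace Groth.Agent.S1530

/-- On a proper curve over a field, an invertible module is ample if and only if its degree is positive. -/
theorem result (k : Type u) [Field k] (X : Scheme.{u}) [X.Over (Spec (CommRingCat.of k))]
    [IsIntegral X] [IsProper (X ↘ (Spec (CommRingCat.of k)))] (hdim : topologicalKrullDim X = 1)
    (L : X.Modules) (hL : PicF.IsInvertible L) :
    CohB1.IsAmple L ↔ 0 < Curv2.deg k X L 1 := by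
  constructor
  · intro hA
    exact Groth.Agent.H5.Curve2.deg_pos_of_isAmple k X hdim hA
  · intro hdeg
    exact Groth.Agent.H5.Curve2.isAmple_of_deg_pos k X hdim.le hL hdeg

end Groth.Agent.S1530
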