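import Groth.Statements.S15311
import Groth.Agent.Lib.Helper2.DRAffK

set_option autoImplicit false
universe u
open DeRhamSh

namespace Groth.Agent.S15311

open CategoryTheory AlgebraicGeometry TopologicalSpace in
/-- Let k be a field of characteristic zero and n ≥ 0. Then the algebraic de Rham cohomology of affine
n-space Spec k[x_1, …, x_n] over k, the hypercohomology of its de Rham complex, vanishes in every
degree i ≠ 0, and in degree 0 it is additively isomorphic to k (existence of an additive
isomorphism; the identification of H^0 with the constants is canonical). (The published computation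
also gives the de Rham homology of affine space; this row is the cohomology statement, for any de
Rham complex of affine n-space over k.) -/
theorem result (k : Type u) [Field k] [CharZero k] (n : ℕ)
    [QuasiSeparated (Spec.map (CommRingCat.ofHom (algebraMap k (MvPolynomial (Fin n) k))))]
    (D : DeRhamSh.OmegaCx (Spec.map (CommRingCat.ofHom (algebraMap k (MvPolynomial (Fin n) k)))))
    [HasDerivedCategory.{u} (Sheaf (Opens.grothendieckTopology ↥(Spec (CommRingCat.of (MvPolynomial (Fin n) k)))) AddCommGrpCat.{u})] :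
    (∀ i : ℤ, i ≠ 0 → Subsingleton (DeRhamSh.HdR D i)) ∧ Nonempty (DeRhamSh.HdR D 0 ≃+ k) := by
  have hd := Groth.Agent.H2.DRA.isDiff_dRing D
  have hP := Groth.Agent.H2.PoincPoly.poincare_poly (Groth.Agent.H2.DRA.dRing D) hd
  refine ⟨fun i hi => ?_, ?_⟩
  · rcases lt_or_gt_of_ne hi with h | h
    · exact Groth.Agent.H2.DRL.subsingleton_HT_of_lt _ D.KZ 0 i
        (fun j hj => Groth.Agent.H2.DRS.isZero_KZ_of_neg D j hj) h
    · obtain ⟨p, rfl⟩ : ∃ p : ℕ, i = ((p + 1 : ℕ) : ℤ) := ⟨(i - 1).toNat, by push_cast; omega⟩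
      obtain ⟨e⟩ := Groth.Agent.H2.DRA.nonempty_HdR_equiv_H D hd (p + 1)
      have e' := Groth.Agent.H2.DRA.derhamHEquiv hd (p + 1)
      haveI := Groth.Agent.H2.DRA.subsingleton_hseq_succ _
        (Groth.Agent.H2.DRA.dAdd (Groth.Agent.H2.DRA.dRing D)) p (by
          intro x hx
          obtain ⟨y, hy⟩ := hP p hx
          exact ⟨y, hy⟩)
      exact (e.trans e').toEquiv.subsingleton
  · obtain ⟨e⟩ := Groth.Agent.H2.DRA.nonempty_HdR_equiv_H D hd 0
    have e' := Groth.Agent.H2.DRA.derhamHEquiv hd 0
    have e'' := Groth.Agent.H2.DRA.hseqZeroEquiv _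
      (Groth.Agent.H2.DRA.dAdd (Groth.Agent.H2.DRA.dRing D))
    obtain ⟨e3⟩ := Groth.Agent.H2.DRA.nonempty_ker_d0_equiv (Groth.Agent.H2.DRA.dRing D) hd.1
    exact ⟨((e.trans e').trans e'').trans e3⟩

end Groth.Agent.S15311
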