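import Groth.Statements.S15315
import Mathlib.Tactic
-- import your own Groth.Agent.* helpers here

set_option autoImplicit false
universe u
open ArLef

namespace Groth.Agent.S15315

/-- For a Noetherian commutative ring A, elements a, b with a a non-zero-divisor on A/(b), and an ideal
I, one has length(A/(aI + bA)) = length(A/(a, b)) + length(A/(I + bA)) as extended natural numbers;
in particular when two of the three quotients have finite length so does the third. -/
theorem result (A : Type u) [CommRing A] [IsNoetherianRing A] (a b : A) (I : Ideal A)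
    (ha : IsSMulRegular (A ⧸ Ideal.span ({b} : Set A)) a) :
    Module.length A (A ⧸ (Ideal.span {a} * I ⊔ Ideal.span {b})) =
      Module.length A (A ⧸ Ideal.span ({a, b} : Set A)) + Module.length A (A ⧸ (I ⊔ Ideal.span {b})) := by
  set Jb : Ideal A := Ideal.span ({b} : Set A) with hJb
  set p : Ideal A := I ⊔ Jb with hp
  set q : Ideal A := Ideal.span {a} * I ⊔ Jb with hq
  set r : Ideal A := Ideal.span ({a, b} : Set A) with hr
  have hb_q : b ∈ q := Ideal.mem_sup_right (Ideal.mem_span_singleton_self b)
  have hpq : p ≤ Submodule.comap (LinearMap.lsmul A A a) q := by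
    intro x hx
    rw [Submodule.mem_comap]
    show a * x ∈ q
    obtain ⟨i, hi, j, hj, rfl⟩ := Submodule.mem_sup.1 hx
    rw [mul_add]
    refine q.add_mem (Ideal.mem_sup_left (Ideal.mul_mem_mul (Ideal.mem_span_singleton_self a) hi)) ?_
    exact Ideal.mem_sup_right (Jb.mul_mem_left a hj)
  have hqr : q ≤ r := by
    refine sup_le ?_ ?_
    · refine Ideal.mul_le.2 ?_
      intro x hx i _
      obtain ⟨c, rfl⟩ := Ideal.mem_span_singleton'.1 hx
      have h0 : c * a * i = (c * i) * a := by ring
      rw [h0]
      exact r.mul_mem_left _ (Ideal.subset_span (by simp))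
    · rw [hJb, Ideal.span_le]
      intro x hx
      rw [Set.mem_singleton_iff] at hx
      subst hx
      exact Ideal.subset_span (by simp)
  let f : (A ⧸ p) →ₗ[A] (A ⧸ q) := Submodule.mapQ p q (LinearMap.lsmul A A a) hpq
  let g : (A ⧸ q) →ₗ[A] (A ⧸ r) := Submodule.factor hqr
  have hf_mk : ∀ x : A, f (Submodule.Quotient.mk x) = Submodule.Quotient.mk (a * x) := fun x => rfl
  have hg_mk : ∀ x : A, g (Submodule.Quotient.mk x) = Submodule.Quotient.mk x := fun x => rfl
  have hf : Function.Injective f := by
    rw [← LinearMap.ker_eq_bot, eq_bot_iff]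
    intro z hz
    obtain ⟨x, rfl⟩ := Submodule.Quotient.mk_surjective p z
    rw [LinearMap.mem_ker, hf_mk, Submodule.Quotient.mk_eq_zero] at hz
    rw [Submodule.mem_bot, Submodule.Quotient.mk_eq_zero]
    obtain ⟨u, hu, j, hj, huj⟩ := Submodule.mem_sup.1 hz
    obtain ⟨i, hi, rfl⟩ := Ideal.mem_span_singleton_mul.1 hu
    have h1 : a * (x - i) ∈ Jb := by
      have : a * (x - i) = j := by rw [mul_sub, ← huj]; ring
      rw [this]; exact hj
    have h2 : a • (Ideal.Quotient.mk Jb (x - i)) = a • (0 : A ⧸ Jb) := by
      rw [smul_zero]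
      show Ideal.Quotient.mk Jb (a * (x - i)) = 0
      exact Ideal.Quotient.eq_zero_iff_mem.2 h1
    have h3 := ha h2
    rw [Ideal.Quotient.eq_zero_iff_mem] at h3
    have : x = i + (x - i) := by ring
    rw [this]
    exact p.add_mem (Ideal.mem_sup_left hi) (Ideal.mem_sup_right h3)
  have hg : Function.Surjective g := by
    intro z
    obtain ⟨x, rfl⟩ := Submodule.Quotient.mk_surjective r z
    exact ⟨Submodule.Quotient.mk x, hg_mk x⟩
  have H : Function.Exact f g := by
    intro z
    obtain ⟨y, rfl⟩ := Submodule.Quotient.mk_surjective q z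
    rw [hg_mk, Submodule.Quotient.mk_eq_zero]
    constructor
    · intro hy
      obtain ⟨s, t, rfl⟩ := Ideal.mem_span_pair.1 hy
      refine ⟨Submodule.Quotient.mk s, ?_⟩
      rw [hf_mk, Submodule.Quotient.eq]
      have : a * s - (s * a + t * b) = -(t * b) := by ring
      rw [this]
      exact q.neg_mem (q.mul_mem_left t hb_q)
    · rintro ⟨w, hw⟩
      obtain ⟨s, rfl⟩ := Submodule.Quotient.mk_surjective p w
      rw [hf_mk, Submodule.Quotient.eq] at hw
      have h1 : y = a * s - (a * s - y) := by ring
      rw [h1]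
      refine r.sub_mem ?_ (hqr hw)
      exact Ideal.mul_mem_right _ _ (Ideal.subset_span (by simp))
  rw [Module.length_eq_add_of_exact f g hf hg H, add_comm]

end Groth.Agent.S15315
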