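import Groth.Statements.S15322


set_option autoImplicit false
universe u
open CategoryTheory AlgebraicGeometry
open ArLef

namespace Groth.Agent.S15322

/-- Let f : D → C be a morphism, τ an automorphism of C and σ an automorphism of D with σ f = f τ; call
σ a good lifting of τ when the fixed-point scheme of σ is the full preimage of that of τ, i.e. every
morphism z : Z → D with z f τ = z f has z σ = z. If f is etale, separated and surjective with D
connected and the fixed-point scheme of τ is non-empty (some point of C, with its residue field, is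
fixed by τ), then τ has at most one good lifting. (The published statement is for a finite etale
cover of smooth projective irreducible curves over a field and a non-trivial τ; the argument uses
only the hypotheses stated here.) -/
theorem result {C D : Scheme.{u}} (f : D ⟶ C) [Etale f] [IsSeparated f] [Surjective f]
    [ConnectedSpace D] (τ : C ≅ C) (σ σ' : D ≅ D)
    (hσ : σ.hom ≫ f = f ≫ τ.hom) (hσ' : σ'.hom ≫ f = f ≫ τ.hom)
    (good : ∀ (Z : Scheme.{u}) (z : Z ⟶ D), z ≫ f ≫ τ.hom = z ≫ f → z ≫ σ.hom = z)
    (good' : ∀ (Z : Scheme.{u}) (z : Z ⟶ D), z ≫ f ≫ τ.hom = z ≫ f → z ≫ σ'.hom = z)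
    (x : C) (hx : C.fromSpecResidueField x ≫ τ.hom = C.fromSpecResidueField x) :
    σ = σ' := by
  obtain ⟨y, rfl⟩ := f.surjective x
  have hgg : σ.hom ≫ f = σ'.hom ≫ f := hσ.trans hσ'.symm
  have he : Limits.pullback.fst (Limits.pullback.lift σ.hom σ'.hom hgg) (Limits.pullback.diagonal f) ≫ σ.hom =
      Limits.pullback.fst (Limits.pullback.lift σ.hom σ'.hom hgg) (Limits.pullback.diagonal f) ≫ σ'.hom := by
    have h1 : Limits.pullback.fst (Limits.pullback.lift σ.hom σ'.hom hgg) (Limits.pullback.diagonal f) ≫
        Limits.pullback.lift σ.hom σ'.hom hgg =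
        Limits.pullback.snd (Limits.pullback.lift σ.hom σ'.hom hgg) (Limits.pullback.diagonal f) ≫
          Limits.pullback.diagonal f := Limits.pullback.condition
    have h2 := congrArg (· ≫ Limits.pullback.fst f f) h1
    have h3 := congrArg (· ≫ Limits.pullback.snd f f) h1
    simp only [Category.assoc, Limits.pullback.lift_fst, Limits.pullback.lift_snd, Limits.pullback.diagonal_fst,
      Limits.pullback.diagonal_snd, Category.comp_id] at h2 h3
    rw [h2, h3]
  have hzf : D.fromSpecResidueField y ≫ f ≫ τ.hom = D.fromSpecResidueField y ≫ f := by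
    rw [← Scheme.Hom.SpecMap_residueFieldMap_fromSpecResidueField_assoc, hx,
      Scheme.Hom.SpecMap_residueFieldMap_fromSpecResidueField]
  have hz1 : D.fromSpecResidueField y ≫ σ.hom = D.fromSpecResidueField y := good _ _ hzf
  have hz2 : D.fromSpecResidueField y ≫ σ'.hom = D.fromSpecResidueField y := good' _ _ hzf
  have hzl : D.fromSpecResidueField y ≫ Limits.pullback.lift σ.hom σ'.hom hgg =
      (D.fromSpecResidueField y ≫ σ.hom) ≫ Limits.pullback.diagonal f := by
    apply Limits.pullback.hom_ext
    · rw [Category.assoc, Category.assoc, Limits.pullback.lift_fst, Limits.pullback.diagonal_fst,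
        Category.comp_id]
    · rw [Category.assoc, Category.assoc, Limits.pullback.lift_snd, Limits.pullback.diagonal_snd,
        Category.comp_id, hz1, hz2]
  have hrange : Set.range (Limits.pullback.fst (Limits.pullback.lift σ.hom σ'.hom hgg)
      (Limits.pullback.diagonal f)) = Set.univ := by
    apply IsClopen.eq_univ
    · exact ⟨(Limits.pullback.fst (Limits.pullback.lift σ.hom σ'.hom hgg)
          (Limits.pullback.diagonal f)).isClosedEmbedding.isClosed_range,
        (Limits.pullback.fst (Limits.pullback.lift σ.hom σ'.hom hgg)
          (Limits.pullback.diagonal f)).isOpenEmbedding.isOpen_range⟩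
    · haveI : Nonempty ↥(Spec (D.residueField y)) := by
        change Nonempty (PrimeSpectrum _); infer_instance
      obtain ⟨pt⟩ := (inferInstance : Nonempty ↥(Spec (D.residueField y)))
      exact ⟨_, ⟨(Limits.pullback.lift (D.fromSpecResidueField y)
        (D.fromSpecResidueField y ≫ σ.hom) hzl) pt, rfl⟩⟩
  haveI : IsIso (Limits.pullback.fst (Limits.pullback.lift σ.hom σ'.hom hgg) (Limits.pullback.diagonal f)) :=
    isIso_of_isOpenImmersion_of_opensRange_eq_top _ (TopologicalSpace.Opens.ext (by
      rw [Scheme.Hom.coe_opensRange, hrange, TopologicalSpace.Opens.coe_top]))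
  exact Iso.ext ((cancel_epi _).mp he)

end Groth.Agent.S15322
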