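import Groth.Statements.S15326

set_option autoImplicit false
universe u
open ArLef

namespace Groth.Agent.S15326

/-- Let A be a commutative ring, t an element generating a prime ideal (a local equation of an
irreducible component C of the closed fibre), v an element outside (t) with π = vt the uniformizer,
and σ a ring automorphism of A with σ(vt) = vt whose fixed-point ideal is contained in (t^i) for
some i ≥ 1 (C has multiplicity at least i in the fixed locus). Then σ(t) - t lies in t^(i+1) A_(t),
the localization at the prime (t): σ - 1 vanishes on (t)/(t^(i+1)) at the generic point of C. -/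
theorem result (A : Type u) [CommRing A] (t v : A)
    [ht : (Ideal.span ({t} : Set A)).IsPrime] (hv : v ∉ Ideal.span ({t} : Set A))
    (σ : A ≃+* A) (hσ : σ (v * t) = v * t) (i : ℕ) (hi : 1 ≤ i)
    (hI : ArLef.fixIdeal σ ≤ Ideal.span ({t ^ i} : Set A)) :
    algebraMap A (Localization.AtPrime (Ideal.span ({t} : Set A))) (σ t - t) ∈
      Ideal.span ({algebraMap A (Localization.AtPrime (Ideal.span ({t} : Set A))) (t ^ (i + 1))} :
        Set (Localization.AtPrime (Ideal.span ({t} : Set A)))) := by
  have hmem : ∀ r : A, σ r - r ∈ Ideal.span ({t ^ i} : Set A) := fun r =>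
    hI (Ideal.subset_span ⟨r, rfl⟩)
  obtain ⟨a, ha⟩ := Ideal.mem_span_singleton'.mp (hmem v)
  obtain ⟨b, hb⟩ := Ideal.mem_span_singleton'.mp (hmem t)
  -- σ v = v + a t^i, σ t = t + b t^i
  have hv' : σ v = v + a * t ^ i := by rw [ha]; ring
  have ht' : σ t = t + b * t ^ i := by rw [hb]; ring
  have hprod : (v + a * t ^ i) * (t + b * t ^ i) = v * t := by
    rw [← hv', ← ht', ← map_mul, hσ]
  obtain ⟨j, rfl⟩ : ∃ j, i = j + 1 := ⟨i - 1, by omega⟩
  have key : v * (b * t ^ (j + 1)) = - (t ^ (j + 2) * (a + a * b * t ^ j)) := by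
    have : v * (b * t ^ (j + 1)) + t ^ (j + 2) * (a + a * b * t ^ j) =
        (v + a * t ^ (j + 1)) * (t + b * t ^ (j + 1)) - v * t := by ring
    rw [hprod, sub_self] at this
    exact eq_neg_of_add_eq_zero_left this
  set L := Localization.AtPrime (Ideal.span ({t} : Set A))
  have hunit : IsUnit (algebraMap A L v) :=
    IsLocalization.map_units L (⟨v, hv⟩ : (Ideal.span ({t} : Set A)).primeCompl)
  obtain ⟨u, hu⟩ := hunit
  rw [← hb, Ideal.mem_span_singleton']
  refine ⟨-(↑u⁻¹ * algebraMap A L (a + a * b * t ^ j)), ?_⟩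
  have h2 := congrArg (algebraMap A L) key
  simp only [map_mul, map_neg, map_pow, map_add] at h2 ⊢
  rw [← hu] at h2
  have h3 : algebraMap A L b * algebraMap A L t ^ (j + 1) =
      ↑u⁻¹ * (↑u * (algebraMap A L b * algebraMap A L t ^ (j + 1))) := by
    rw [← mul_assoc, Units.inv_mul, one_mul]
  rw [h3, h2]
  ring

end Groth.Agent.S15326
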