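import Groth.Statements.S15328
import Groth.Agent.Lib.Helper5.Curve6.Pairs2

set_option autoImplicit false
open CategoryTheory AlgebraicGeometry CategoryTheory.Limits
open VBCurve

namespace Groth.Agent.S15328

open Groth.Agent.LD Groth.Agent.LD.QC Groth.Agent.H5.Curve2 Groth.Agent.H5.Curve4 Groth.Agent.H5.DegC Groth.Agent.H5.Curve6

/-- Let X be a smooth proper integral curve over the complex numbers, L an invertible module on X and
(E, φ) an L-valued Higgs bundle on X: E finite locally free of rank r ≥ 1 and φ : E → E ⊗ L. A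
submodule j : G → E (a monomorphism) is a Higgs submodule when φ restricts to it, that is, some ψ :
G → G ⊗ L followed by j ⊗ L equals j followed by φ; (E, φ) is semistable when deg G · r ≤ deg E · r'
for every finite locally free Higgs submodule G of rank r' ≥ 1, degrees being χ − rank · χ(O).
Suppose (E, φ) is semistable and F is a finite locally free Higgs submodule of rank r' ≥ 1 with the
same slope, deg F · r = deg E · r'. Then the quotient E/F is finite locally free of rank r − r' and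
is semistable of the same slope for its induced Higgs field: for every φ' : E/F → (E/F) ⊗ L
compatible with φ along the projection and every finite locally free submodule G of E/F of rank s ≥
1 to which φ' restricts, deg G · (r − r') ≤ deg(E/F) · s. (The published statement also assumes F
semistable, which the published argument does not use; this row omits it.) -/
theorem result
    (X : Scheme.{0}) [X.Over (Spec (CommRingCat.of ℂ))] [IsIntegral X]
    [IsProper (X ↘ Spec (CommRingCat.of ℂ))] [Smooth (X ↘ Spec (CommRingCat.of ℂ))]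
    (hdim : topologicalKrullDim X = 1)
    (L : X.Modules) (hL : PicF.IsInvertible L)
    (r : ℕ) (hr : 0 < r) (E : X.Modules) (hE : FlatMod.IsFinLocFreeOfRank r E)
    (φ : E ⟶ CohB1.tensorMod E L)
    (hss : ∀ (G : X.Modules) (s : ℕ) (j : G ⟶ E) (ψ : G ⟶ CohB1.tensorMod G L), Mono j → 0 < s →
      FlatMod.IsFinLocFreeOfRank s G →
      ψ ≫ (CohB1.sheafifyMod X).map (MonoidalCategoryStruct.whiskerRight (C := CohB1.PMod X) j.val (CohB1.toPMod L)) = j ≫ φ →
      Curv2.deg ℂ X G s * (r : ℤ) ≤ Curv2.deg ℂ X E r * (s : ℤ))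
    (F : X.Modules) (r' : ℕ) (hr' : 0 < r') (hF : FlatMod.IsFinLocFreeOfRank r' F)
    (i : F ⟶ E) [Mono i] (ψF : F ⟶ CohB1.tensorMod F L)
    (hψF : ψF ≫ (CohB1.sheafifyMod X).map (MonoidalCategoryStruct.whiskerRight (C := CohB1.PMod X) i.val (CohB1.toPMod L)) = i ≫ φ)
    (hslope : Curv2.deg ℂ X F r' * (r : ℤ) = Curv2.deg ℂ X E r * (r' : ℤ)) :
    FlatMod.IsFinLocFreeOfRank (r - r') (cokernel i) ∧
    ∀ (φ' : cokernel i ⟶ CohB1.tensorMod (cokernel i) L),
      cokernel.π i ≫ φ' = φ ≫ (CohB1.sheafifyMod X).map (MonoidalCategoryStruct.whiskerRight (C := CohB1.PMod X) (cokernel.π i).val (CohB1.toPMod L)) →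
      ∀ (G : X.Modules) (s : ℕ) (j : G ⟶ cokernel i) (ψ : G ⟶ CohB1.tensorMod G L), Mono j → 0 < s →
        FlatMod.IsFinLocFreeOfRank s G →
        ψ ≫ (CohB1.sheafifyMod X).map (MonoidalCategoryStruct.whiskerRight (C := CohB1.PMod X) j.val (CohB1.toPMod L)) = j ≫ φ' →
        Curv2.deg ℂ X G s * ((r - r' : ℕ) : ℤ) ≤ Curv2.deg ℂ X (cokernel i) (r - r') * (s : ℤ) := by
  haveI := Curve.isLocallyNoetherian ℂ X
  have hss' : ∀ (G : X.Modules) (s : ℕ) (j : G ⟶ E), Mono j → 0 < s →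
      FlatMod.IsFinLocFreeOfRank s G → IsInv L φ j →
      Curv2.deg ℂ X G s * (r : ℤ) ≤ Curv2.deg ℂ X E r * (s : ℤ) := by
    rintro G s j hj hs hG ⟨ψ, hψ⟩
    exact hss G s j ψ hj hs hG (by rw [← hψ, ← KoszTw.tensorBi_map_app]; rfl)
  have hFinv : IsInv L φ i := ⟨ψF, by rw [← hψF, ← KoszTw.tensorBi_map_app]; rfl⟩
  -- saturation
  obtain ⟨F', i', j, s, hi', hji, hF', hC, hrs, hle, heq, -⟩ :=
    exists_saturation ℂ X hdim.le i r' r hF hE
  haveI := hi'
  haveI : Mono (j ≫ i') := by rw [hji]; infer_instance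
  haveI : Mono j := mono_of_mono j i'
  have hF'inv := isInv_of_saturation ℂ X hdim.le hL φ r' s hF hF' i i' j hji hC hFinv
  have h1 := hss' F' r' i' hi' hr' hF' hF'inv
  have hrz : (0 : ℤ) < r := by exact_mod_cast hr
  have h2 : Curv2.deg ℂ X F' r' ≤ Curv2.deg ℂ X F r' := by
    rw [← hslope] at h1
    exact le_of_mul_le_mul_right h1 hrz
  haveI : IsIso j := heq (le_antisymm hle h2)
  have hs : s = r - r' := by omega
  let e3 : cokernel i ≅ cokernel (j ≫ i') := cokernelIsoOfEq hji.symm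
  let e4 : cokernel (j ≫ i') ≅ cokernel i' := cokernelEpiComp _ _
  have hQ : FlatMod.IsFinLocFreeOfRank (r - r') (cokernel i) := by
    rw [← hs]
    exact isFinLocFreeOfRank_of_iso (e3 ≪≫ e4).symm hC
  refine ⟨hQ, ?_⟩
  intro φ' hφ' G s' jG ψ hjG hs' hG hψ
  haveI := hjG
  have hφ'' : cokernel.π i ≫ φ' = φ ≫ KoszTw.tensorMap (cokernel.π i) (𝟙 L) := by
    rw [hφ', ← KoszTw.tensorBi_map_app]; rfl
  have hGinv : IsInv L φ' jG := ⟨ψ, by rw [← hψ, ← KoszTw.tensorBi_map_app]; rfl⟩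
  obtain ⟨K, ι, hι, hKinv, hK, hKdeg⟩ :=
    exists_preimage_isInv ℂ X hdim.le hL hE hF hG φ i φ' hφ'' jG hGinv
  have h3 := hss' K (r' + s') ι hι (by omega) hK hKinv
  let S : ShortComplex X.Modules := ShortComplex.mk i (cokernel.π i) (cokernel.condition i)
  have hS : S.ShortExact :=
    { exact := ShortComplex.exact_cokernel i
      mono_f := inferInstanceAs (Mono i)
      epi_g := inferInstanceAs (Epi (cokernel.π i)) }
  have hdQ := Curve.deg_add_of_shortExact ℂ X S hS r' r (r - r') hF hE hQ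
  change Curv2.deg ℂ X E r = Curv2.deg ℂ X F r' + Curv2.deg ℂ X (cokernel i) (r - r') at hdQ
  have hr'r : r' ≤ r := by omega
  have hcast : ((r - r' : ℕ) : ℤ) = (r : ℤ) - (r' : ℤ) := by
    rw [Nat.cast_sub hr'r]
  rw [hcast]
  rw [hKdeg] at h3
  push_cast at h3
  have h4 : Curv2.deg ℂ X G s' * (r : ℤ) ≤ Curv2.deg ℂ X E r * (s' : ℤ) := by
    linarith only [h3, hslope]
  have hnn : (0 : ℤ) ≤ (r : ℤ) - (r' : ℤ) := by
    have : (r' : ℤ) ≤ r := by exact_mod_cast hr'r
    linarith only [this]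
  have h5 : (Curv2.deg ℂ X G s' * ((r : ℤ) - (r' : ℤ))) * (r : ℤ) ≤
      (Curv2.deg ℂ X (cokernel i) (r - r') * (s' : ℤ)) * (r : ℤ) := by
    have h6 := mul_le_mul_of_nonneg_right h4 hnn
    have h7 : Curv2.deg ℂ X (cokernel i) (r - r') * (s' : ℤ) * (r : ℤ) =
        Curv2.deg ℂ X E r * (s' : ℤ) * ((r : ℤ) - (r' : ℤ)) := by
      have : Curv2.deg ℂ X (cokernel i) (r - r') = Curv2.deg ℂ X E r - Curv2.deg ℂ X F r' := by
        linarith only [hdQ]
      rw [this]
      have h8 : (Curv2.deg ℂ X E r - Curv2.deg ℂ X F r') * (s' : ℤ) * (r : ℤ) =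
          Curv2.deg ℂ X E r * (s' : ℤ) * (r : ℤ) - (Curv2.deg ℂ X F r' * (r : ℤ)) * (s' : ℤ) := by
        ring
      rw [h8, hslope]
      ring
    rw [h7]
    have h9 : Curv2.deg ℂ X G s' * ((r : ℤ) - (r' : ℤ)) * (r : ℤ) =
        Curv2.deg ℂ X G s' * (r : ℤ) * ((r : ℤ) - (r' : ℤ)) := by ring
    rw [h9]
    exact h6
  exact le_of_mul_le_mul_right h5 hrz

end Groth.Agent.S15328
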