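import Groth.Statements.S15330
import Groth.Agent.Lib.Helper5.Curve6.Pairs3

set_option autoImplicit false
open CategoryTheory AlgebraicGeometry CategoryTheory.Limits
open VBCurve

namespace Groth.Agent.S15330

open Groth.Agent.LD Groth.Agent.LD.QC Groth.Agent.H5.Curve2 Groth.Agent.H5.Curve4 Groth.Agent.H5.DegC Groth.Agent.H5.Curve6

/-- Let X be a smooth proper integral curve over the complex numbers, L an invertible module on X, and
(E, φ_E), (F, φ_F) two L-valued Higgs bundles on X of the same rank r ≥ 1 and the same degree d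
(degree = χ − rank · χ(O)), each semistable: deg G · r ≤ d · s for every finite locally free
submodule G of rank s ≥ 1 to which the Higgs field restricts. Let E_0 ⊂ E_1 ⊂ … ⊂ E_n = E with E_0 =
0 and F = F_0 ⊃ F_1 ⊃ … ⊃ F_n = 0 be chains of finite locally free submodules to which the Higgs
fields restrict, of ranks with rk E_i + rk F_i = r, which are opposite: E_{i+1}/E_i ≅ F_i/F_{i+1} as
O-modules for i < n. Then every E_i of positive rank and every F_i of positive rank has slope d/r,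
that is deg · r = d · rank, and is semistable for its restricted Higgs field; and each graded piece
E_{i+1}/E_i of positive rank is finite locally free of rank rk E_{i+1} − rk E_i, of slope d/r, and
semistable for every Higgs field on it compatible with that of E_{i+1} along the projection. (The
published statement indexes the second chain so that F_i/F_{i+1} matches E_i/E_{i−1} and takes the
isomorphisms of graded pieces as Higgs bundles; here they are assumed as O-modules only, together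
with the rank bookkeeping rk E_i + rk F_i = r that they imply.) -/
theorem result
    (X : Scheme.{0}) [X.Over (Spec (CommRingCat.of ℂ))] [IsIntegral X]
    [IsProper (X ↘ Spec (CommRingCat.of ℂ))] [Smooth (X ↘ Spec (CommRingCat.of ℂ))]
    (hdim : topologicalKrullDim X = 1)
    (L : X.Modules) (hL : PicF.IsInvertible L) (r : ℕ) (hr : 0 < r) (d : ℤ)
    (E : X.Modules) (hE : FlatMod.IsFinLocFreeOfRank r E) (φE : E ⟶ CohB1.tensorMod E L)
    (hEd : Curv2.deg ℂ X E r = d)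
    (hEss : (∀ (G : X.Modules) (s : ℕ) (j : G ⟶ E) (χ : G ⟶ CohB1.tensorMod G L), Mono j → 0 < s →
        FlatMod.IsFinLocFreeOfRank s G →
        χ ≫ (CohB1.sheafifyMod X).map (MonoidalCategoryStruct.whiskerRight (C := CohB1.PMod X) j.val (CohB1.toPMod L)) = j ≫ φE →
        Curv2.deg ℂ X G s * (r : ℤ) ≤ Curv2.deg ℂ X E r * (s : ℤ)))
    (F : X.Modules) (hF : FlatMod.IsFinLocFreeOfRank r F) (φF : F ⟶ CohB1.tensorMod F L)
    (hFd : Curv2.deg ℂ X F r = d)
    (hFss : (∀ (G : X.Modules) (s : ℕ) (j : G ⟶ F) (χ : G ⟶ CohB1.tensorMod G L), Mono j → 0 < s →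
        FlatMod.IsFinLocFreeOfRank s G →
        χ ≫ (CohB1.sheafifyMod X).map (MonoidalCategoryStruct.whiskerRight (C := CohB1.PMod X) j.val (CohB1.toPMod L)) = j ≫ φF →
        Curv2.deg ℂ X G s * (r : ℤ) ≤ Curv2.deg ℂ X F r * (s : ℤ)))
    (n : ℕ)
    (Es : ℕ → X.Modules) (rE : ℕ → ℕ) (hEs : ∀ i, FlatMod.IsFinLocFreeOfRank (rE i) (Es i))
    (ιE : ∀ i, Es i ⟶ E) (hιE : ∀ i, Mono (ιE i))
    (ψE : ∀ i, Es i ⟶ CohB1.tensorMod (Es i) L)
    (hψE : ∀ i, ψE i ≫ (CohB1.sheafifyMod X).map (MonoidalCategoryStruct.whiskerRight (C := CohB1.PMod X) (ιE i).val (CohB1.toPMod L)) = ιE i ≫ φE)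
    (a : ∀ i, Es i ⟶ Es (i + 1)) (ha : ∀ i, a i ≫ ιE (i + 1) = ιE i)
    (hE0 : IsZero (Es 0)) (hEn : IsIso (ιE n))
    (Fs : ℕ → X.Modules) (rF : ℕ → ℕ) (hFs : ∀ i, FlatMod.IsFinLocFreeOfRank (rF i) (Fs i))
    (ιF : ∀ i, Fs i ⟶ F) (hιF : ∀ i, Mono (ιF i))
    (ψF : ∀ i, Fs i ⟶ CohB1.tensorMod (Fs i) L)
    (hψF : ∀ i, ψF i ≫ (CohB1.sheafifyMod X).map (MonoidalCategoryStruct.whiskerRight (C := CohB1.PMod X) (ιF i).val (CohB1.toPMod L)) = ιF i ≫ φF)
    (b : ∀ i, Fs (i + 1) ⟶ Fs i) (hb : ∀ i, b i ≫ ιF i = ιF (i + 1))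
    (hF0 : IsIso (ιF 0)) (hFn : IsZero (Fs n))
    (hrk : ∀ i, i ≤ n → rE i + rF i = r)
    (hopp : ∀ i, i < n → Nonempty (cokernel (a i) ≅ cokernel (b i))) :
    (∀ i, i ≤ n → 0 < rE i →
      Curv2.deg ℂ X (Es i) (rE i) * (r : ℤ) = d * (rE i : ℤ) ∧
      (∀ (G : X.Modules) (s : ℕ) (j : G ⟶ (Es i)) (χ : G ⟶ CohB1.tensorMod G L), Mono j → 0 < s →
        FlatMod.IsFinLocFreeOfRank s G →
        χ ≫ (CohB1.sheafifyMod X).map (MonoidalCategoryStruct.whiskerRight (C := CohB1.PMod X) j.val (CohB1.toPMod L)) = j ≫ ψE i →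
        Curv2.deg ℂ X G s * (rE i : ℤ) ≤ Curv2.deg ℂ X (Es i) (rE i) * (s : ℤ))) ∧
    (∀ i, i ≤ n → 0 < rF i →
      Curv2.deg ℂ X (Fs i) (rF i) * (r : ℤ) = d * (rF i : ℤ) ∧
      (∀ (G : X.Modules) (s : ℕ) (j : G ⟶ (Fs i)) (χ : G ⟶ CohB1.tensorMod G L), Mono j → 0 < s →
        FlatMod.IsFinLocFreeOfRank s G →
        χ ≫ (CohB1.sheafifyMod X).map (MonoidalCategoryStruct.whiskerRight (C := CohB1.PMod X) j.val (CohB1.toPMod L)) = j ≫ ψF i →
        Curv2.deg ℂ X G s * (rF i : ℤ) ≤ Curv2.deg ℂ X (Fs i) (rF i) * (s : ℤ))) ∧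
    (∀ i, i < n → rE i < rE (i + 1) →
      FlatMod.IsFinLocFreeOfRank (rE (i + 1) - rE i) (cokernel (a i)) ∧
      Curv2.deg ℂ X (cokernel (a i)) (rE (i + 1) - rE i) * (r : ℤ) = d * ((rE (i + 1) - rE i : ℕ) : ℤ) ∧
      ∀ (φ' : cokernel (a i) ⟶ CohB1.tensorMod (cokernel (a i)) L),
        cokernel.π (a i) ≫ φ' = ψE (i + 1) ≫ (CohB1.sheafifyMod X).map (MonoidalCategoryStruct.whiskerRight (C := CohB1.PMod X) (cokernel.π (a i)).val (CohB1.toPMod L)) →
        (∀ (G : X.Modules) (s : ℕ) (j : G ⟶ cokernel (a i)) (χ : G ⟶ CohB1.tensorMod G L), Mono j → 0 < s →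
        FlatMod.IsFinLocFreeOfRank s G →
        χ ≫ (CohB1.sheafifyMod X).map (MonoidalCategoryStruct.whiskerRight (C := CohB1.PMod X) j.val (CohB1.toPMod L)) = j ≫ φ' →
        Curv2.deg ℂ X G s * ((rE (i + 1) - rE i : ℕ) : ℤ) ≤ Curv2.deg ℂ X (cokernel (a i)) (rE (i + 1) - rE i) * (s : ℤ))) := by
  haveI := Curve.isLocallyNoetherian ℂ X
  haveI : IsNoetherian X := Groth.Agent.H5.Curve2.isNoetherian_of_proper ℂ X
  have hEss' : IsSSPair ℂ X L r φE := by
    rintro G s j hj hs hG ⟨χ, hχ⟩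
    exact hEss G s j χ hj hs hG (by rw [← hχ, ← KoszTw.tensorBi_map_app]; rfl)
  have hFss' : IsSSPair ℂ X L r φF := by
    rintro G s j hj hs hG ⟨χ, hχ⟩
    exact hFss G s j χ hj hs hG (by rw [← hχ, ← KoszTw.tensorBi_map_app]; rfl)
  have hψE' : ∀ i, ψE i ≫ KoszTw.tensorMap (ιE i) (𝟙 L) = ιE i ≫ φE := fun i => by
    rw [← hψE i, ← KoszTw.tensorBi_map_app]; rfl
  have hψF' : ∀ i, ψF i ≫ KoszTw.tensorMap (ιF i) (𝟙 L) = ιF i ≫ φF := fun i => by
    rw [← hψF i, ← KoszTw.tensorBi_map_app]; rfl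
  haveI : ∀ i, Mono (ιE i) := hιE
  haveI : ∀ i, Mono (ιF i) := hιF
  have ha_mono : ∀ i, Mono (a i) := fun i => by
    haveI : Mono (a i ≫ ιE (i + 1)) := by rw [ha]; infer_instance
    exact mono_of_mono (a i) (ιE (i + 1))
  have hb_mono : ∀ i, Mono (b i) := fun i => by
    haveI : Mono (b i ≫ ιF i) := by rw [hb]; infer_instance
    exact mono_of_mono (b i) (ιF i)
  have hEsc : ∀ i, Coh.IsCoh (Es i) := fun i => Curve.isCoh_of_rank (hEs i)
  have hFsc : ∀ i, Coh.IsCoh (Fs i) := fun i => Curve.isCoh_of_rank (hFs i)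
  -- the Euler characteristics
  have keyχ : ∀ i, i ≤ n →
      Curv2.euler ℂ X (Es i) + Curv2.euler ℂ X (Fs i) = Curv2.euler ℂ X F := by
    intro i
    induction i with
    | zero =>
      intro _
      have h0 : rE 0 = 0 := by
        have := gdim_of_rank (hEs 0)
        rw [gdim_of_isTors (isTors_of_isZero hE0)] at this
        exact this.symm
      have h1 : Curv2.euler ℂ X (Es 0) = 0 := by
        have h2 := hEs 0
        rw [h0] at h2
        have := deg_rank_zero ℂ X h2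
        unfold Curv2.deg at this
        simpa using this
      haveI := hF0
      rw [h1, zero_add, Curve.euler_iso ℂ X (asIso (ιF 0))]
    | succ i ih =>
      intro hi
      have h1 := ih (by omega)
      obtain ⟨e⟩ := hopp i (by omega)
      haveI := ha_mono i
      haveI := hb_mono i
      let S1 : ShortComplex X.Modules :=
        ShortComplex.mk (a i) (cokernel.π (a i)) (cokernel.condition _)
      have hS1 : S1.ShortExact :=
        { exact := ShortComplex.exact_cokernel _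
          mono_f := inferInstanceAs (Mono (a i))
          epi_g := inferInstanceAs (Epi (cokernel.π (a i))) }
      let S2 : ShortComplex X.Modules :=
        ShortComplex.mk (b i) (cokernel.π (b i)) (cokernel.condition _)
      have hS2 : S2.ShortExact :=
        { exact := ShortComplex.exact_cokernel _
          mono_f := inferInstanceAs (Mono (b i))
          epi_g := inferInstanceAs (Epi (cokernel.π (b i))) }
      have e1 := Curve.euler_add ℂ X S1 hS1 (hEsc i) (hEsc (i + 1))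
        (isCoh_cokernel _ (hEsc i) (hEsc (i + 1)))
      have e2 := Curve.euler_add ℂ X S2 hS2 (hFsc (i + 1)) (hFsc i)
        (isCoh_cokernel _ (hFsc (i + 1)) (hFsc i))
      have e3 := Curve.euler_iso ℂ X e
      change Curv2.euler ℂ X (Es (i + 1)) =
        Curv2.euler ℂ X (Es i) + Curv2.euler ℂ X (cokernel (a i)) at e1
      change Curv2.euler ℂ X (Fs i) =
        Curv2.euler ℂ X (Fs (i + 1)) + Curv2.euler ℂ X (cokernel (b i)) at e2
      linarith only [h1, e1, e2, e3]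
  have keyd : ∀ i, i ≤ n →
      Curv2.deg ℂ X (Es i) (rE i) + Curv2.deg ℂ X (Fs i) (rF i) = d := by
    intro i hi
    have h1 := keyχ i hi
    have h2 := hrk i hi
    rw [← hFd]
    unfold Curv2.deg
    have h3 : ((rE i : ℤ) + (rF i : ℤ)) = (r : ℤ) := by exact_mod_cast h2
    have h4 : ((rE i : ℤ) + (rF i : ℤ)) * Curv2.euler ℂ X (Coh.structureModule X) =
        (r : ℤ) * Curv2.euler ℂ X (Coh.structureModule X) := by rw [h3]
    linarith only [h1, h4]
  have hEle : ∀ i, Curv2.deg ℂ X (Es i) (rE i) * (r : ℤ) ≤ d * (rE i : ℤ) := by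
    intro i
    rcases Nat.eq_zero_or_pos (rE i) with h0 | hpos
    · have h2 := hEs i
      rw [h0] at h2 ⊢
      rw [deg_rank_zero ℂ X h2]
      simp
    · have := hEss' (Es i) (rE i) (ιE i) (hιE i) hpos (hEs i) ⟨ψE i, hψE' i⟩
      rwa [hEd] at this
  have hFle : ∀ i, Curv2.deg ℂ X (Fs i) (rF i) * (r : ℤ) ≤ d * (rF i : ℤ) := by
    intro i
    rcases Nat.eq_zero_or_pos (rF i) with h0 | hpos
    · have h2 := hFs i
      rw [h0] at h2 ⊢
      rw [deg_rank_zero ℂ X h2]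
      simp
    · have := hFss' (Fs i) (rF i) (ιF i) (hιF i) hpos (hFs i) ⟨ψF i, hψF' i⟩
      rwa [hFd] at this
  have hEeq : ∀ i, i ≤ n → Curv2.deg ℂ X (Es i) (rE i) * (r : ℤ) = d * (rE i : ℤ) ∧
      Curv2.deg ℂ X (Fs i) (rF i) * (r : ℤ) = d * (rF i : ℤ) := by
    intro i hi
    have h1 := keyd i hi
    have h2 := hEle i
    have h3 := hFle i
    have h4 : ((rE i : ℤ) + (rF i : ℤ)) = (r : ℤ) := by exact_mod_cast hrk i hi
    have h5 : d * (r : ℤ) = d * (rE i : ℤ) + d * (rF i : ℤ) := by rw [← h4]; ring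
    have h6 : Curv2.deg ℂ X (Es i) (rE i) * (r : ℤ) + Curv2.deg ℂ X (Fs i) (rF i) * (r : ℤ) =
        d * (r : ℤ) := by rw [← h1]; ring
    constructor
    · linarith only [h2, h3, h5, h6]
    · linarith only [h2, h3, h5, h6]
  have hEss_i : ∀ i, i ≤ n → IsSSPair ℂ X L (rE i) (ψE i) := fun i hi =>
    isSSPair_of_same_slope ℂ X hr φE hEss' (ιE i) (ψE i) (hψE' i)
      (by rw [hEd]; exact (hEeq i hi).1)
  have hFss_i : ∀ i, i ≤ n → IsSSPair ℂ X L (rF i) (ψF i) := fun i hi =>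
    isSSPair_of_same_slope ℂ X hr φF hFss' (ιF i) (ψF i) (hψF' i)
      (by rw [hFd]; exact (hEeq i hi).2)
  have hrz : (0 : ℤ) < r := by exact_mod_cast hr
  refine ⟨?_, ?_, ?_⟩
  · intro i hi _
    refine ⟨(hEeq i hi).1, ?_⟩
    intro G s j χ hj hs hG hχ
    exact hEss_i i hi G s j hj hs hG ⟨χ, by rw [← hχ, ← KoszTw.tensorBi_map_app]; rfl⟩
  · intro i hi _
    refine ⟨(hEeq i hi).2, ?_⟩
    intro G s j χ hj hs hG hχ
    exact hFss_i i hi G s j hj hs hG ⟨χ, by rw [← hχ, ← KoszTw.tensorBi_map_app]; rfl⟩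
  · intro i hi hlt
    haveI := ha_mono i
    have hpos : 0 < rE (i + 1) := by omega
    haveI : Mono (KoszTw.tensorMap (ιE (i + 1)) (𝟙 L)) := mono_tensorMap_of_isInvertible _ L hL
    have hinv : IsInv L (ψE (i + 1)) (a i) := by
      refine ⟨ψE i, ?_⟩
      rw [← cancel_mono (KoszTw.tensorMap (ιE (i + 1)) (𝟙 L)), Category.assoc,
        ← tensorMap_comp_id, ha, hψE' i, Category.assoc, hψE' (i + 1), ← Category.assoc, ha]
    have h1 := (hEeq i (by omega)).1
    have h2 := (hEeq (i + 1) (by omega)).1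
    have hslope' : Curv2.deg ℂ X (Es i) (rE i) * (rE (i + 1) : ℤ) =
        Curv2.deg ℂ X (Es (i + 1)) (rE (i + 1)) * (rE i : ℤ) := by
      have h3 : (Curv2.deg ℂ X (Es i) (rE i) * (rE (i + 1) : ℤ)) * (r : ℤ) =
          (Curv2.deg ℂ X (Es (i + 1)) (rE (i + 1)) * (rE i : ℤ)) * (r : ℤ) := by
        have h4 : (Curv2.deg ℂ X (Es i) (rE i) * (rE (i + 1) : ℤ)) * (r : ℤ) =
            (Curv2.deg ℂ X (Es i) (rE i) * (r : ℤ)) * (rE (i + 1) : ℤ) := by ring
        have h5 : (Curv2.deg ℂ X (Es (i + 1)) (rE (i + 1)) * (rE i : ℤ)) * (r : ℤ) =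
            (Curv2.deg ℂ X (Es (i + 1)) (rE (i + 1)) * (r : ℤ)) * (rE i : ℤ) := by ring
        rw [h4, h5, h1, h2]
        ring
      exact mul_right_cancel₀ hrz.ne' h3
    obtain ⟨hQ, hdQ, hQss⟩ := quotient_of_same_slope ℂ X hdim.le hL hpos (hEs (i + 1))
      (ψE (i + 1)) (hEss_i (i + 1) (by omega)) (hEs i) (a i) hinv hslope'
    refine ⟨hQ, ?_, ?_⟩
    · have hcast : ((rE (i + 1) - rE i : ℕ) : ℤ) = (rE (i + 1) : ℤ) - (rE i : ℤ) := by
        rw [Nat.cast_sub hlt.le]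
      rw [hcast]
      have h6 : Curv2.deg ℂ X (cokernel (a i)) (rE (i + 1) - rE i) =
          Curv2.deg ℂ X (Es (i + 1)) (rE (i + 1)) - Curv2.deg ℂ X (Es i) (rE i) := by
        linarith only [hdQ]
      rw [h6, sub_mul, h1, h2]
      ring
    · intro φ' hφ' G s j χ hj hs hG hχ
      exact hQss φ' (by rw [hφ', ← KoszTw.tensorBi_map_app]; rfl) G s j hj hs hG
        ⟨χ, by rw [← hχ, ← KoszTw.tensorBi_map_app]; rfl⟩

end Groth.Agent.S15330
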