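import Groth.Statements.S15333
import Groth.Agent.Lib.Helper5.Curve4.VB3

set_option autoImplicit false
universe u
open CategoryTheory CategoryTheory.Limits AlgebraicGeometry
open VBCurve

namespace Groth.Agent.S15333

/-- Let X be a smooth proper integral curve (integral, smooth and proper of dimension one) over an
algebraically closed field k. Let E and F be finite locally free O_X-modules of ranks r ≥ 1 and s ≥
1 which are slope-semistable and slope-stable (deg G · r ≤ deg E · r' for every finite locally free
submodule G ⊂ E of rank r' ≥ 1, with strict inequality when r' < r, and likewise for F; degree = χ −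
rank·χ(O_X)) and which have the same slope, deg E · s = deg F · r. Then either there is no nonzero
homomorphism E → F or E ≅ F; precisely, every nonzero homomorphism E → F is an isomorphism. -/
theorem result (k : Type u) [Field k] [IsAlgClosed k] (X : Scheme.{u}) [X.Over (Spec (CommRingCat.of k))]
    [IsIntegral X] [IsProper (X ↘ Spec (CommRingCat.of k))] [Smooth (X ↘ Spec (CommRingCat.of k))]
    (hdim : topologicalKrullDim X = 1)
    (r s : ℕ) (hr : 0 < r) (hs : 0 < s) (E F : X.Modules)
    (hE : FlatMod.IsFinLocFreeOfRank r E) (hF : FlatMod.IsFinLocFreeOfRank s F)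
    (hEss : ModFun.IsSlopeSemistable k X E r) (hEst : ModFun.IsSlopeStable k X E r)
    (hFss : ModFun.IsSlopeSemistable k X F s) (hFst : ModFun.IsSlopeStable k X F s)
    (hμ : Curv2.deg k X E r * (s : ℤ) = Curv2.deg k X F s * (r : ℤ))
    (f : E ⟶ F) (hf : f ≠ 0) : IsIso f := by
  obtain ⟨a, b, hab, ha, hb, hdeg⟩ :=
    Groth.Agent.H5.Curve4.kernel_image_facts k X hdim.le r s hE hF f
  have hbpos := Groth.Agent.H5.Curve4.rank_coimage_pos X hf b hb
  have habz : (a : ℤ) + (b : ℤ) = (r : ℤ) := by exact_mod_cast hab
  have hsz : (0 : ℤ) < s := by exact_mod_cast hs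
  have hrz : (0 : ℤ) < r := by exact_mod_cast hr
  have hbz : (0 : ℤ) < b := by exact_mod_cast hbpos
  have ha0 : a = 0 := by
    by_contra hne
    have hapos : 0 < a := Nat.pos_of_ne_zero hne
    have har : a < r := by omega
    have hK := hEst (kernel f) a (kernel.ι f) inferInstance hapos har ha
    have hI := hFss (Abelian.coimage f) b (Abelian.factorThruCoimage f) inferInstance hbpos hb
    have h1 : Curv2.deg k X E r * (r : ℤ) =
        Curv2.deg k X (kernel f) a * (r : ℤ) + Curv2.deg k X (Abelian.coimage f) b * (r : ℤ) := by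
      rw [hdeg]; ring
    have h2 : Curv2.deg k X E r * (r : ℤ) =
        Curv2.deg k X E r * (a : ℤ) + Curv2.deg k X E r * (b : ℤ) := by
      rw [← habz]; ring
    have h3 : Curv2.deg k X E r * (b : ℤ) < Curv2.deg k X (Abelian.coimage f) b * (r : ℤ) := by
      linarith
    have h4 : Curv2.deg k X E r * (b : ℤ) * (s : ℤ) <
        Curv2.deg k X (Abelian.coimage f) b * (r : ℤ) * (s : ℤ) := mul_lt_mul_of_pos_right h3 hsz
    have h5 : Curv2.deg k X (Abelian.coimage f) b * (s : ℤ) * (r : ℤ) ≤
        Curv2.deg k X F s * (b : ℤ) * (r : ℤ) := mul_le_mul_of_nonneg_right hI hrz.le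
    have h6 : Curv2.deg k X E r * (s : ℤ) * (b : ℤ) = Curv2.deg k X F s * (r : ℤ) * (b : ℤ) := by
      rw [hμ]
    nlinarith
  subst ha0
  haveI := Groth.Agent.H5.Curve4.mono_of_rank_kernel_zero X f ha
  have hrs : r ≤ s := Groth.Agent.H5.Curve4.rank_le_of_mono X f r s hE hF
  rcases lt_or_eq_of_le hrs with hlt | heq
  · exfalso
    have := hFst E r f inferInstance hr hlt hE
    linarith
  · subst heq
    have hd : Curv2.deg k X E r = Curv2.deg k X F r := by
      have hne : (r : ℤ) ≠ 0 := hrz.ne'
      exact mul_right_cancel₀ hne hμ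
    exact (Groth.Agent.LD.Curve.deg_le_of_mono k X hdim.le r hE hF f).2 hd

end Groth.Agent.S15333
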