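import Groth.Statements.S15336
import Groth.Agent.Lib.Lead.KSch.TorsorSq
import Groth.Agent.Lib.Helper3.TorsorProp
import Groth.Agent.Lib.Helper3.FlatDesc
import Groth.Agent.Lib.Helper5.AlgSp.FppfLocal
import Groth.Agent.Lib.Helper1.FpqcAffine

set_option autoImplicit false
universe u
open CategoryTheory CategoryTheory.Limits AlgebraicGeometry
open VBCurve

namespace Groth.Agent.S15336

/-- Let X be a smooth proper integral curve (integral, smooth and proper of dimension one) over an
algebraically closed field k, G a finite group scheme over k of order n, meaning dim_k H^0(G, O_G) =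
n, and j : P → X a torsor (fppf-locally trivial) under the X-group scheme G ×_k X. Put E = j_*O_P.
Then there is an isomorphism of O_X-modules E ⊗ E ≅ E ⊕ ⋯ ⊕ E (n copies); in particular E is a
finite vector bundle in the sense of Weil (two distinct polynomials in E agree). Existence of an
isomorphism only. (The published statement asserts only that E is finite in this sense; this row
states the isomorphism its argument gives, with n = dim_k H^0(G, O_G).) -/
theorem result (k : Type u) [Field k] [IsAlgClosed k] (X : Scheme.{u}) [X.Over (Spec (CommRingCat.of k))]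
    [IsIntegral X] [IsProper (X ↘ Spec (CommRingCat.of k))] [Smooth (X ↘ Spec (CommRingCat.of k))]
    (hdim : topologicalKrullDim X = 1)
    (G : Scheme.{u}) [G.Over (Spec (CommRingCat.of k))] [GrpObj (G.asOver (Spec (CommRingCat.of k)))]
    [IsFinite (G ↘ Spec (CommRingCat.of k))] (n : ℕ)
    (hn : Module.finrank k (Coh.HH G (Coh.structureModule G) 0) = n)
    (P : Over X) (a : AlgGrp.Action (Red.bc (X ↘ Spec (CommRingCat.of k)) (G.asOver (Spec (CommRingCat.of k)))) P)
    (hP : NonAbH1.IsTorsorFor Scheme.fppfPrecoverage a) :
    Nonempty (CohB1.tensorMod ((Coh.push P.hom).obj (Coh.structureModule P.left))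
        ((Coh.push P.hom).obj (Coh.structureModule P.left)) ≅
      ∐ fun _ : Fin n => (Coh.push P.hom).obj (Coh.structureModule P.left)) := by
  haveI : Subsingleton (Spec (CommRingCat.of k)) :=
    inferInstanceAs (Subsingleton (PrimeSpectrum k))
  haveI : IsDomain (CommRingCat.of k) := inferInstanceAs (IsDomain k)
  haveI : IsNoetherianRing (CommRingCat.of k) := inferInstanceAs (IsNoetherianRing k)
  haveI hfinG : IsFinite (G.asOver (Spec (CommRingCat.of k))).hom :=
    inferInstanceAs (IsFinite (G ↘ Spec (CommRingCat.of k)))
  haveI hflatG : Flat (G.asOver (Spec (CommRingCat.of k))).hom :=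
    inferInstanceAs (Flat (G ↘ Spec (CommRingCat.of k)))
  haveI hlfpG : LocallyOfFinitePresentation (G.asOver (Spec (CommRingCat.of k))).hom :=
    inferInstanceAs (LocallyOfFinitePresentation (G ↘ Spec (CommRingCat.of k)))
  have hfinGX : IsFinite (Red.bc (X ↘ Spec (CommRingCat.of k))
      (G.asOver (Spec (CommRingCat.of k)))).hom :=
    MorphismProperty.pullback_snd (P := @IsFinite) _ _ hfinG
  have hflatGX : Flat (Red.bc (X ↘ Spec (CommRingCat.of k))
      (G.asOver (Spec (CommRingCat.of k)))).hom :=
    MorphismProperty.pullback_snd (P := @Flat) _ _ hflatG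
  have hlfpGX : LocallyOfFinitePresentation (Red.bc (X ↘ Spec (CommRingCat.of k))
      (G.asOver (Spec (CommRingCat.of k)))).hom :=
    MorphismProperty.pullback_snd (P := @LocallyOfFinitePresentation) _ _ hlfpG
  haveI := Groth.Agent.H1.FpqcAffine.descendsAlong_isFinite.{u}
  haveI := Groth.Agent.H3.FlatDesc.flat_descendsAlong_fppf.{u}
  haveI hfin : IsFinite P.hom :=
    Groth.Agent.H3.TorsorProp.hom_of_isTorsorFor a @IsFinite Scheme.fppfPrecoverage hP hfinGX
  haveI hflat : Flat P.hom :=
    Groth.Agent.H3.TorsorProp.hom_of_isTorsorFor a @Flat Scheme.fppfPrecoverage hP hflatGX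
  haveI hlfp : LocallyOfFinitePresentation P.hom :=
    Groth.Agent.H3.TorsorProp.hom_of_isTorsorFor a @LocallyOfFinitePresentation
      Scheme.fppfPrecoverage hP hlfpGX
  exact Groth.Agent.LD.KSch.nonempty_tensorSq_pushUnit_torsor k X G n hn P a hP.1

end Groth.Agent.S15336
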