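import Groth.Statements.S15340
import Groth.Agent.Lib.Helper5.Curve4.VB5

set_option autoImplicit false
universe u
open CategoryTheory CategoryTheory.Limits AlgebraicGeometry
open VBCurve

namespace Groth.Agent.S15340

/-- Let X be a smooth proper integral curve (integral, smooth and proper of dimension one) over an
algebraically closed field k and E a finite locally free O_X-module of rank r ≥ 1 which is
slope-semistable and slope-stable (deg G · r ≤ deg E · r' for finite locally free submodules G of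
rank r' ≥ 1, strictly when r' < r; degree = χ − rank·χ(O_X)). Then E is indecomposable: it is
nonzero and whenever E ≅ E₁ ⊞ E₂ as O_X-modules, one of E₁, E₂ is zero. -/
theorem result (k : Type u) [Field k] [IsAlgClosed k] (X : Scheme.{u}) [X.Over (Spec (CommRingCat.of k))]
    [IsIntegral X] [IsProper (X ↘ Spec (CommRingCat.of k))] [Smooth (X ↘ Spec (CommRingCat.of k))]
    (hdim : topologicalKrullDim X = 1)
    (r : ℕ) (hr : 0 < r) (E : X.Modules) (hE : FlatMod.IsFinLocFreeOfRank r E)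
    (hEss : ModFun.IsSlopeSemistable k X E r) (hEst : ModFun.IsSlopeStable k X E r) :
    ¬ IsZero E ∧ ∀ (E₁ E₂ : X.Modules), Nonempty (E ≅ E₁ ⊞ E₂) → IsZero E₁ ∨ IsZero E₂ := by
  refine ⟨Groth.Agent.H5.Curve4.not_isZero_of_rank_pos X hr hE, ?_⟩
  rintro E₁ E₂ ⟨e⟩
  let p : E ⟶ E := e.hom ≫ biprod.fst ≫ biprod.inl ≫ e.inv
  have hpp : p ≫ p = p := by
    simp only [p, Category.assoc, Iso.inv_hom_id_assoc, biprod.inl_fst_assoc]
  by_cases hp : p = 0
  · left
    have h1 : (biprod.fst ≫ biprod.inl : E₁ ⊞ E₂ ⟶ E₁ ⊞ E₂) = 0 := by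
      have : e.inv ≫ p ≫ e.hom = 0 := by rw [hp]; simp
      simpa [p, Category.assoc] using this
    rw [IsZero.iff_id_eq_zero]
    calc 𝟙 E₁ = biprod.inl ≫ (biprod.fst ≫ biprod.inl : E₁ ⊞ E₂ ⟶ E₁ ⊞ E₂) ≫ biprod.fst := by simp
      _ = 0 := by rw [h1]; simp
  · right
    haveI := Groth.Agent.H5.Curve4.isIso_of_ne_zero_of_stable k X hdim.le r hE hEst p hp
    have hp1 : p = 𝟙 E := by
      have := (cancel_epi p).mp (show p ≫ p = p ≫ 𝟙 E by rw [hpp, Category.comp_id])
      exact this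
    have h1 : (biprod.fst ≫ biprod.inl : E₁ ⊞ E₂ ⟶ E₁ ⊞ E₂) = 𝟙 _ := by
      have : e.inv ≫ p ≫ e.hom = 𝟙 _ := by rw [hp1]; simp
      simpa [p, Category.assoc] using this
    rw [IsZero.iff_id_eq_zero]
    calc 𝟙 E₂ = biprod.inr ≫ (𝟙 (E₁ ⊞ E₂)) ≫ biprod.snd := by simp
      _ = biprod.inr ≫ (biprod.fst ≫ biprod.inl : E₁ ⊞ E₂ ⟶ E₁ ⊞ E₂) ≫ biprod.snd := by rw [h1]
      _ = 0 := by simp

end Groth.Agent.S15340
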