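import Groth.Statements.S15343
import Groth.Agent.Lib.Lead.KSch.WeilFin3
import Groth.Agent.Lib.Helper9.Misc.CAR5
import Groth.Agent.Lib.Helper3.EtSmQf
import Groth.Agent.Lib.Helper3.TorsorProp
import Groth.Agent.Lib.Helper5.AlgSp.FppfLocal
import Groth.Agent.Lib.Helper1.FpqcAffine

set_option autoImplicit false
universe u
open CategoryTheory CategoryTheory.Limits AlgebraicGeometry
open VBCurve

namespace Groth.Agent.S15343

/-- Let X be a smooth proper integral curve (integral, smooth and proper of dimension one) over an
algebraically closed field k of characteristic zero, G a finite group scheme over k and j : P → X a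
torsor (fppf-locally trivial) under the X-group scheme G ×_k X. If E is a finite locally free
O_X-module of rank r with j^*E ≅ O_P^{⊕ r}, then E is finite in the sense of Weil: there are
distinct polynomials P' ≠ Q' with natural-number coefficients and P'(E) ≅ Q'(E), P'(E) being the
direct sum over i of P'_i copies of E^{⊗ i}. (The published statement says that in characteristic
zero an essentially finite bundle is finite; this row takes as hypothesis the characterisation of
essentially finite bundles as those trivialised by a torsor under a finite group scheme.) -/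
theorem result (k : Type u) [Field k] [IsAlgClosed k] (X : Scheme.{u}) [X.Over (Spec (CommRingCat.of k))]
    [IsIntegral X] [IsProper (X ↘ Spec (CommRingCat.of k))] [Smooth (X ↘ Spec (CommRingCat.of k))]
    (hdim : topologicalKrullDim X = 1) [CharZero k]
    (G : Scheme.{u}) [G.Over (Spec (CommRingCat.of k))] [GrpObj (G.asOver (Spec (CommRingCat.of k)))]
    [IsFinite (G ↘ Spec (CommRingCat.of k))]
    (P : Over X) (a : AlgGrp.Action (Red.bc (X ↘ Spec (CommRingCat.of k)) (G.asOver (Spec (CommRingCat.of k)))) P)
    (hP : NonAbH1.IsTorsorFor Scheme.fppfPrecoverage a)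
    (r : ℕ) (E : X.Modules) (hE : FlatMod.IsFinLocFreeOfRank r E)
    (htriv : Nonempty ((Scheme.Modules.pullback P.hom).obj E ≅ FlatMod.freeMod P.left r)) :
    ∃ P' Q' : Polynomial ℕ, P' ≠ Q' ∧ Nonempty ((∐ fun i : Fin (P'.natDegree + 1) => ∐ fun _ : Fin (P'.coeff ↑i) => CohB1.tensorPow E ↑i) ≅
      (∐ fun i : Fin (Q'.natDegree + 1) => ∐ fun _ : Fin (Q'.coeff ↑i) => CohB1.tensorPow E ↑i)) := by
  haveI : LocallyOfFiniteType (G.asOver (Spec (CommRingCat.of k))).hom :=
    inferInstanceAs (LocallyOfFiniteType (G ↘ Spec (CommRingCat.of k)))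
  haveI hsm : Smooth (G.asOver (Spec (CommRingCat.of k))).hom :=
    Groth.Agent.H9.CAR.S0353_main k (G.asOver (Spec (CommRingCat.of k)))
  haveI hfinG : IsFinite (G.asOver (Spec (CommRingCat.of k))).hom :=
    inferInstanceAs (IsFinite (G ↘ Spec (CommRingCat.of k)))
  haveI hetG : Etale (G.asOver (Spec (CommRingCat.of k))).hom :=
    (Groth.Agent.H3.EtSmQf.main _).mpr ⟨hsm, inferInstance⟩
  haveI hsurjG : Surjective (G.asOver (Spec (CommRingCat.of k))).hom :=
    Groth.Agent.H3.TorsorProp.surjective_hom
  have hfinGX : IsFinite (Red.bc (X ↘ Spec (CommRingCat.of k))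
      (G.asOver (Spec (CommRingCat.of k)))).hom :=
    MorphismProperty.pullback_snd (P := @IsFinite) _ _ hfinG
  have hetGX : Etale (Red.bc (X ↘ Spec (CommRingCat.of k))
      (G.asOver (Spec (CommRingCat.of k)))).hom :=
    MorphismProperty.pullback_snd (P := @Etale) _ _ hetG
  have hsurjGX : Surjective (Red.bc (X ↘ Spec (CommRingCat.of k))
      (G.asOver (Spec (CommRingCat.of k)))).hom :=
    MorphismProperty.pullback_snd (P := @Surjective) _ _ hsurjG
  haveI := Groth.Agent.H1.FpqcAffine.descendsAlong_isFinite.{u}
  haveI hfin : IsFinite P.hom :=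
    Groth.Agent.H3.TorsorProp.hom_of_isTorsorFor a @IsFinite Scheme.fppfPrecoverage hP hfinGX
  haveI het : Etale P.hom :=
    Groth.Agent.H3.TorsorProp.hom_of_isTorsorFor a @Etale Scheme.fppfPrecoverage hP hetGX
  haveI hsurj : Surjective P.hom :=
    Groth.Agent.H3.TorsorProp.hom_of_isTorsorFor a @Surjective Scheme.fppfPrecoverage hP hsurjGX
  exact Groth.Agent.LD.KSch.wf_of_trivial_pullback k X r E hE P.left P.hom htriv

end Groth.Agent.S15343
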