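import Groth.Statements.S15346
import Groth.Agent.Lib.Helper8.SpecReflect
import Groth.Agent.Lib.Helper8.MonoVal
import Groth.Agent.Lib.Helper8.DVRSch
-- import your own Groth.Agent.* helpers here

set_option autoImplicit false
universe u
open CategoryTheory CategoryTheory.Limits AlgebraicGeometry
open Mor

namespace Groth.Agent.S15346

/-- Let X be a locally Noetherian scheme and f : Y ⟶ X a monomorphism. Suppose that for every discrete
valuation ring A with fraction field K and every commutative square Spec K ⟶ Y, Spec A ⟶ X over f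
such that some morphism from the spectrum of the residue field of A to Y lies over Spec A ⟶ X, the
square admits a lift Spec A ⟶ Y. Then after every base change X' ⟶ X the projection Y ×_X X' ⟶ X'
reflects specializations. -/
theorem result {X Y : Scheme.{u}} [IsLocallyNoetherian X]
    (f : Y ⟶ X) [Mono f]
    (h : ∀ S : ValuativeCommSq f, IsDiscreteValuationRing S.R →
        (∃ l₀ : Spec (CommRingCat.of (IsLocalRing.ResidueField S.R)) ⟶ Y,
            l₀ ≫ f = Spec.map (CommRingCat.ofHom (IsLocalRing.residue S.R)) ≫ S.i₂) →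
          S.commSq.HasLift) :
    ∀ (X' : Scheme.{u}) (g : X' ⟶ X) (y₀ y₁ : ↥(pullback f g)),
        (pullback.snd f g).base y₁ ⤳ (pullback.snd f g).base y₀ → y₁ ⤳ y₀ := by
  intro X' g y₀ y₁ hs
  refine Groth.Agent.H8.SpecReflect.reflect_of_locallyOfFiniteType f ?_ X' g y₀ y₁ hs
  clear hs y₀ y₁ g X'
  intro X' g _ y₀ y₁ hs
  have hX' : IsLocallyNoetherian X' := LocallyOfFiniteType.isLocallyNoetherian g
  by_cases hne : (pullback.snd f g).base y₁ = (pullback.snd f g).base y₀
  · rw [(pullback.snd f g).injective hne]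
  obtain ⟨B, _, _, _, hB, hcl, hgen⟩ := Groth.Agent.H8.DVRSch.exists_dvr_of_specializes hs hne
  have hpt₁ : f (pullback.fst f g y₁) =
      (Spec.map (CommRingCat.ofHom (algebraMap B (FractionRing B))) ≫ hB ≫ g)
        (IsLocalRing.closedPoint (FractionRing B)) := by
    rw [Scheme.Hom.comp_apply, Scheme.Hom.comp_apply,
      Groth.Agent.H8.DVRSch.specMap_fractionRing_apply, hgen,
      ← Scheme.Hom.comp_apply, ← Scheme.Hom.comp_apply, pullback.condition]
  obtain ⟨i₁, hi₁⟩ := Groth.Agent.H8.MonoVal.mono_lift_field f (FractionRing B) _ _ hpt₁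
  have hpt₀ : f (pullback.fst f g y₀) =
      (Spec.map (CommRingCat.ofHom (IsLocalRing.residue B)) ≫ hB ≫ g)
        (IsLocalRing.closedPoint (IsLocalRing.ResidueField B)) := by
    rw [Scheme.Hom.comp_apply, Scheme.Hom.comp_apply,
      Groth.Agent.H8.MonoVal.specMap_residue_apply, hcl,
      ← Scheme.Hom.comp_apply, ← Scheme.Hom.comp_apply, pullback.condition]
  obtain ⟨l₀, hl₀⟩ := Groth.Agent.H8.MonoVal.mono_lift_field f (IsLocalRing.ResidueField B) _ _ hpt₀
  let S : ValuativeCommSq f :=
    { R := B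
      K := FractionRing B
      i₁ := i₁
      i₂ := hB ≫ g
      commSq := ⟨hi₁⟩ }
  obtain ⟨l, h1, h2⟩ := (h S ‹_› ⟨l₀, hl₀⟩).exists_lift
  exact Groth.Agent.H8.MonoVal.specializes_of_lift f g y₀ y₁ B hB hgen hcl l h2

end Groth.Agent.S15346
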