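import Groth.Statements.S1535
import Mathlib
import Groth.Agent.Lib.Helper5.SM.SM1

set_option autoImplicit false
universe u
open CategoryTheory CategoryTheory.Limits AlgebraicGeometry
open Variety

namespace Groth.Agent.S1535

/-- If X is smooth over a field then every local ring of X is a regular local ring. -/
theorem result (k : Type u) [Field k] (X : Scheme.{u}) [X.Over (Spec (CommRingCat.of k))] [Smooth (X ↘ (Spec (CommRingCat.of k)))] (x : X) :
    IsRegularLocalRing (X.presheaf.stalk x) := by
  have hreg : IsRegularLocalRing
      ((Spec (CommRingCat.of k)).presheaf.stalk ((X ↘ (Spec (CommRingCat.of k))).base x)) := by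
    let e : k ≃ₐ[k] (Spec.structureSheaf k).presheaf.stalk
        ((X ↘ (Spec (CommRingCat.of k))).base x) :=
      IsLocalization.atUnits _ ((X ↘ (Spec (CommRingCat.of k))).base x).asIdeal.primeCompl
        (fun a ha ↦ by aesop (add simp IsUnit.mem_submonoid_iff))
    exact IsRegularLocalRing.of_ringEquiv e.toRingEquiv
  haveI : LocallyOfFiniteType (X ↘ (Spec (CommRingCat.of k))) := inferInstance
  exact (H5.SM.stalk_package (X ↘ (Spec (CommRingCat.of k))) x
    ⟨⊤, trivial, inferInstance⟩).2.mpr hreg

end Groth.Agent.S1535
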