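import Groth.Statements.S15353
import Mathlib
import Groth.Agent.Lib.Helper1.NilLift

set_option autoImplicit false
universe u
open CAlg

namespace Groth.Agent.S15353

open TensorProduct Groth.Agent.H1.NilLift

/-- Let f : A' → A be a surjective ring homomorphism whose kernel is a nilpotent ideal. Then the induced
homomorphism of Picard groups Pic(A') → Pic(A), base change of invertible modules along f, is
bijective. -/
theorem result {A' A : Type u} [CommRing A'] [CommRing A]
    (f : A' →+* A) (hf : Function.Surjective f) (hker : IsNilpotent (RingHom.ker f)) :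
    Function.Bijective (CommRing.Pic.mapRingHom f) := by
  letI := f.toAlgebra
  have hs : Function.Surjective (algebraMap A' A) := hf
  have hI : IsNilpotent (RingHom.ker (algebraMap A' A)) := hker
  show Function.Bijective (CommRing.Pic.mapAlgebra A' A)
  constructor
  · rw [injective_iff_map_eq_one]
    intro M hM
    rw [CommRing.Pic.mapAlgebra_apply, CommRing.Pic.mk_eq_one_iff] at hM
    obtain ⟨e⟩ := hM
    obtain ⟨e'⟩ := nonempty_linearEquiv_self hs hI e
    rw [← CommRing.Pic.mk_eq_self (M := M), CommRing.Pic.mk_eq_one_iff]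
    exact ⟨e'⟩
  · intro N
    obtain ⟨e⟩ : Nonempty ((N : Type u) ⊗[A] ((N⁻¹ : CommRing.Pic A) : Type u) ≃ₗ[A] A) := by
      have := CommRing.Pic.mul_eq_tensor N N⁻¹
      rw [mul_inv_cancel] at this
      exact CommRing.Pic.mk_eq_one_iff.mp this.symm
    obtain ⟨M, _, _, _, _, ⟨eM⟩⟩ := exists_lift_projective hs hI (N : Type u)
    obtain ⟨M', _, _, _, _, ⟨eM'⟩⟩ := exists_lift_projective hs hI ((N⁻¹ : CommRing.Pic A) : Type u)
    have eP : A ⊗[A'] (M ⊗[A'] M') ≃ₗ[A] A :=
      (AlgebraTensorModule.distribBaseChange A' A M M') ≪≫ₗ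
        (TensorProduct.congr eM eM') ≪≫ₗ e
    obtain ⟨eP'⟩ := nonempty_linearEquiv_self hs hI eP
    haveI : Module.Invertible A' M := Module.Invertible.left eP'
    refine ⟨CommRing.Pic.mk A' M, ?_⟩
    rw [CommRing.Pic.mapAlgebra_apply, CommRing.Pic.mk_eq_iff]
    exact ⟨(AlgebraTensorModule.congr (LinearEquiv.refl A A)
      (CommRing.Pic.mk.linearEquiv A' M)) ≪≫ₗ eM⟩

end Groth.Agent.S15353
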