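import Groth.Statements.S15354
import Groth.Agent.Lib.Helper8.MonoVal
-- import your own Groth.Agent.* helpers here

set_option autoImplicit false
universe u
open CategoryTheory CategoryTheory.Limits AlgebraicGeometry
open Mor

namespace Groth.Agent.S15354

/-- Let f : Y ⟶ X be a morphism of schemes, A a valuation ring with fraction field K and residue field
k, and ξ, η : Spec A ⟶ Y two A-points of Y over the same A-point of X. If ξ and η restrict to the
same K-point and to the same k-point of Y, then ξ = η. (The published statement is an equivalence,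
for algebraic spaces locally of finite presentation over a Noetherian scheme, between local
separatedness of f and conditions (a), (b); this row is the necessity of (a) in the case of schemes,
where no hypothesis on f is needed.) -/
theorem result {X Y : Scheme.{u}} (f : Y ⟶ X)
    (A : Type u) [CommRing A] [IsDomain A] [ValuationRing A] (K : Type u) [Field K] [Algebra A K]
    [IsFractionRing A K] (ξ η : Spec (CommRingCat.of A) ⟶ Y) (hf : ξ ≫ f = η ≫ f)
    (hK : Spec.map (CommRingCat.ofHom (algebraMap A K)) ≫ ξ = Spec.map (CommRingCat.ofHom (algebraMap A K)) ≫ η)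
    (hk : Spec.map (CommRingCat.ofHom (IsLocalRing.residue A)) ≫ ξ =
      Spec.map (CommRingCat.ofHom (IsLocalRing.residue A)) ≫ η) :
    ξ = η := by
  have hc : ξ (IsLocalRing.closedPoint A) = η (IsLocalRing.closedPoint A) := by
    have h1 := congr(($hk).base (IsLocalRing.closedPoint (IsLocalRing.ResidueField A)))
    simp only [Scheme.Hom.comp_base, TopCat.hom_comp, ContinuousMap.comp_apply] at h1
    rw [← Groth.Agent.H8.MonoVal.specMap_residue_apply A
      (IsLocalRing.closedPoint (IsLocalRing.ResidueField A))]
    exact h1
  obtain ⟨W, hW, hmem, -⟩ := exists_isAffineOpen_mem_and_subset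
    (x := ξ (IsLocalRing.closedPoint A)) (U := ⊤) trivial
  have hrξ := Groth.Agent.H8.MonoVal.range_subset_of_closedPoint_mem A ξ W hmem
  have hrη := Groth.Agent.H8.MonoVal.range_subset_of_closedPoint_mem A η W (hc ▸ hmem)
  let ξ' := IsOpenImmersion.lift hW.fromSpec ξ (by rw [hW.range_fromSpec]; exact hrξ)
  let η' := IsOpenImmersion.lift hW.fromSpec η (by rw [hW.range_fromSpec]; exact hrη)
  have hξ' : ξ' ≫ hW.fromSpec = ξ := IsOpenImmersion.lift_fac _ _ _
  have hη' : η' ≫ hW.fromSpec = η := IsOpenImmersion.lift_fac _ _ _
  have h2 : Spec.map (CommRingCat.ofHom (algebraMap A K)) ≫ ξ' =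
      Spec.map (CommRingCat.ofHom (algebraMap A K)) ≫ η' := by
    rw [← cancel_mono hW.fromSpec, Category.assoc, Category.assoc, hξ', hη', hK]
  rw [← hξ', ← hη']
  congr 1
  rw [← Spec.map_preimage ξ', ← Spec.map_preimage η', ← Spec.map_comp, ← Spec.map_comp] at h2
  have h3 := Spec.map_injective h2
  rw [← Spec.map_preimage ξ', ← Spec.map_preimage η']
  congr 1
  apply CommRingCat.hom_ext
  apply RingHom.ext
  intro b
  have h4 := congr(($h3).hom b)
  simp only [CommRingCat.hom_comp, RingHom.comp_apply, CommRingCat.hom_ofHom] at h4
  exact IsFractionRing.injective A K h4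

end Groth.Agent.S15354
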