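import Groth.Statements.S15416
import Groth.Agent.Lib.Helper2.GrSyzExist

set_option autoImplicit false
universe u
open GrSyz

namespace Groth.Agent.S15416

/-- Let k be a field, S = k[x_0, …, x_r] graded by degree, 𝔪 = (x_0, …, x_r) its irrelevant ideal and M
a finitely generated ℤ-graded S-module. Then M has a graded free resolution by free modules of
finite rank with chosen homogeneous bases which is minimal: every entry of every differential's
matrix lies in 𝔪. (Finite length is not part of this statement.) -/
theorem result (k : Type u) [Field k] (r : ℕ)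
    (M : Type u) [AddCommGroup M] [Module k M] [Module (MvPolynomial (Fin (r + 1)) k) M]
    [IsScalarTower k (MvPolynomial (Fin (r + 1)) k) M] [Module.Finite (MvPolynomial (Fin (r + 1)) k) M]
    (ℳ : ℤ → Submodule k M) [DirectSum.Decomposition ℳ] [SetLike.GradedSMul (GrSyz.stdGr k (Fin (r + 1))) ℳ] :
    ∃ F : GrSyz.FreeRes (GrSyz.stdGr k (Fin (r + 1))) ℳ, F.IsMinimal (GrSyz.irrel (GrSyz.stdGr k (Fin (r + 1)))).toIdeal := by
  obtain ⟨F, h0, hS⟩ := Groth.Agent.H2.GrSyzExist.exists_freeRes_irredundant
    (GrSyz.stdGr k (Fin (r + 1))) ℳ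
  exact ⟨F, Groth.Agent.H2.GrSyzMin.isMinimal_of_irredundant F _
    (fun n x hx hx' => Groth.Agent.H2.GrSyzMin.isUnit_of_mem_stdGr_of_notMem_irrel n x hx hx')
    h0 hS⟩

end Groth.Agent.S15416
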