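import Groth.Statements.S15432
import Groth.Agent.Lib.Helper2.PtsRes1
import Groth.Agent.Lib.Helper2.PtsRes2
import Groth.Agent.Lib.Helper2.PtsRes3
import Groth.Agent.Lib.Helper2.GrHilbRes
import Groth.Agent.Lib.Helper2.GrSyzBetti2
import Groth.Agent.Lib.Helper2.GrSyzMin

set_option autoImplicit false
universe u
open GrSyz

namespace Groth.Agent.S15432

/-- Let k be a field, Z a nonempty finite set of nonzero vectors of k^3, regarded as points of the
projective plane, I ⊆ S = k[x_0, x_1, x_2] the homogeneous vanishing ideal of Z (a polynomial lies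
in I exactly when each of its homogeneous components vanishes at every vector of Z), M = S/I given
as a ℤ-graded S-module with a surjective degree-preserving S-linear map π : S → M with kernel I, and
F a minimal graded free resolution of M of length at most 2 whose terms F_1 and F_2 have ranks t + 1
and t, with basis degrees a_1 ≥ … ≥ a_{t+1} for F_1 and b_1 ≥ … ≥ b_t for F_2 (non-increasing along
the chosen bases), so that the (i, j) entry of the matrix F_2 → F_1 has degree b_j − a_i. Put e_i =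
b_i − a_i and f_i = b_i − a_{i+1}. Then e_i ≥ 1 and f_i ≥ 1 for every i, and Σ_i a_i = Σ_j b_j
(equivalently a_i = Σ_{j < i} e_j + Σ_{j ≥ i} f_j for every i). (The ordering of both bases is the
standing assumption under which the published statement is made; this row carries it as the
hypotheses on the basis degrees. The further inequalities f_i ≥ e_i and f_i ≥ e_{i+1} follow at once
from the ordering and are not restated.) -/
theorem result (k : Type u) [Field k]
    (Z : Finset (Fin 3 → k)) (hZ : ∀ p ∈ Z, p ≠ 0) (hZne : Z.Nonempty) (I : Ideal (MvPolynomial (Fin 3) k))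
    (hI : ∀ f : MvPolynomial (Fin 3) k, f ∈ I ↔
      ∀ p ∈ Z, ∀ j : ℕ, MvPolynomial.eval p (MvPolynomial.homogeneousComponent j f) = 0)
    (M : Type u) [AddCommGroup M] [Module k M] [Module (MvPolynomial (Fin 3) k) M] [IsScalarTower k (MvPolynomial (Fin 3) k) M]
    (ℳ : ℤ → Submodule k M) [DirectSum.Decomposition ℳ] [SetLike.GradedSMul (GrSyz.stdGr k (Fin 3)) ℳ]
    (π : MvPolynomial (Fin 3) k →ₗ[MvPolynomial (Fin 3) k] M) (hπ : Function.Surjective π)
    (hπg : GrLC.IsGrHom (GrSyz.stdGr k (Fin 3)) ℳ π) (hker : LinearMap.ker π = I)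
    (F : GrSyz.FreeRes (GrSyz.stdGr k (Fin 3)) ℳ) (hF : F.IsMinimal (GrSyz.irrel (GrSyz.stdGr k (Fin 3))).toIdeal) (hlen : F.HasLengthLE 2)
    (t : ℕ) (h1 : F.rk 1 = t + 1) (h2 : F.rk 2 = t)
    (ha : ∀ i j : Fin (t + 1), i ≤ j → F.deg 1 (Fin.cast h1.symm j) ≤ F.deg 1 (Fin.cast h1.symm i))
    (hb : ∀ i j : Fin t, i ≤ j → F.deg 2 (Fin.cast h2.symm j) ≤ F.deg 2 (Fin.cast h2.symm i)) :
    (∀ i : Fin t, 1 ≤ F.deg 2 (Fin.cast h2.symm i) - F.deg 1 (Fin.cast h1.symm i.castSucc) ∧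
        1 ≤ F.deg 2 (Fin.cast h2.symm i) - F.deg 1 (Fin.cast h1.symm i.succ)) ∧
      ∑ i : Fin (t + 1), F.deg 1 (Fin.cast h1.symm i) = ∑ j : Fin t, F.deg 2 (Fin.cast h2.symm j) := by
  classical
  have hm1 : (GrSyz.irrel (GrSyz.stdGr k (Fin 3))).toIdeal ≠ ⊤ := fun h =>
    Groth.Agent.H2.GrSyzBasic.one_notMem_irrel (k := k) (σ := Fin 3) (by rw [h]; trivial)
  have hirr := Groth.Agent.H2.GrSyzMin.irredundant_of_isMinimal
    F (GrSyz.irrel (GrSyz.stdGr k (Fin 3))).toIdeal hm1 hF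
  have hrk3 : F.rk 3 = 0 := hlen 3 (by norm_num)
  have hinj1 : ∀ v : Fin (F.rk 2) → MvPolynomial (Fin 3) k, Matrix.mulVec (F.d 1) v = 0 → v = 0 := by
    intro v hv
    have hmem : v ∈ LinearMap.ker (Matrix.mulVecLin (F.d 1)) := hv
    rw [F.exact_succ 1] at hmem
    obtain ⟨w, rfl⟩ := hmem
    have : IsEmpty (Fin (F.rk (1 + 1 + 1))) := by
      rw [show 1 + 1 + 1 = 3 from rfl, hrk3]
      infer_instance
    funext a
    show Matrix.mulVec (F.d (1 + 1)) w a = 0
    simp only [Matrix.mulVec, dotProduct]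
    exact Finset.sum_of_isEmpty _
  have hG : ∀ p : Fin (F.rk 1), ∃ c, F.d 0 c p ≠ 0 := by
    intro p
    by_contra hcon
    push Not at hcon
    apply hirr.2 0 p
    have h0 : (fun a => F.d 0 a p) = 0 := funext hcon
    rw [h0]
    exact Submodule.zero_mem _
  have hD : ∀ (p : Fin (F.rk 1)) (q : Fin (F.rk 2)), F.deg 2 q - F.deg 1 p ≤ 0 → F.d 1 p q = 0 := by
    intro p q hpq
    by_contra h0
    have h3 : (1 : ℤ) ≤ F.deg 2 q - F.deg 1 p :=
      Groth.Agent.H2.GrSyzBasic.one_le_deg_of_mem_irrel (F.d_mem 1 p q) (hF 1 p q) h0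
    omega
  have part1 := fun i => Groth.Agent.H2.PtsRes.main_ineq (F.rk 0) (F.rk 1) (F.rk 2) h1 h2
    (F.d 0) (F.d 1) (F.deg 1) (F.deg 2) (Groth.Agent.H2.GrSyzBetti.d_mul_d F 0) hinj1 hG hD ha hb i
  refine ⟨part1, ?_⟩
  have hbound : ∀ d : ℤ,
      0 ≤ Groth.Agent.H2.PtsRes.T k (F.deg 0) d - Groth.Agent.H2.PtsRes.T k (F.deg 1) d +
          Groth.Agent.H2.PtsRes.T k (F.deg 2) d ∧
        Groth.Agent.H2.PtsRes.T k (F.deg 0) d - Groth.Agent.H2.PtsRes.T k (F.deg 1) d +
          Groth.Agent.H2.PtsRes.T k (F.deg 2) d ≤ (Z.card : ℤ) := by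
    intro d
    have : ∀ j, FiniteDimensional k (GrSyz.stdGr k (Fin 3) j) := fun j =>
      Groth.Agent.H2.StdGrDim.finiteDimensional_stdGr k 2 j
    have hH := Groth.Agent.H2.GrHilbRes.hilbert_eq F 2 hlen d
    rw [Finset.sum_range_succ, Finset.sum_range_succ, Finset.sum_range_one] at hH
    simp only [pow_zero, pow_one, one_mul, neg_mul, even_two, Even.neg_pow, one_pow] at hH
    have hle := Groth.Agent.H2.PtsRes.finrank_le_card Z I hI ℳ π hπ hπg hker d
    unfold Groth.Agent.H2.PtsRes.T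
    constructor
    · have : (0 : ℤ) ≤ (Module.finrank k (ℳ d) : ℤ) := Int.natCast_nonneg _
      linarith
    · have : (Module.finrank k (ℳ d) : ℤ) ≤ (Z.card : ℤ) := by exact_mod_cast hle
      linarith
  obtain ⟨hA, hB⟩ := Groth.Agent.H2.PtsRes.numeric k (F.deg 0) (F.deg 1) (F.deg 2) (Z.card : ℤ) hbound
  have hrk0 : F.rk 0 = 1 := by
    have e1 : ((F.rk 1 : ℕ) : ℤ) = t + 1 := by exact_mod_cast h1
    have e2 : ((F.rk 2 : ℕ) : ℤ) = t := by exact_mod_cast h2
    have : ((F.rk 0 : ℕ) : ℤ) = 1 := by linarith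
    exact_mod_cast this
  have hdeg0 : ∑ b, F.deg 0 b = 0 :=
    Finset.sum_eq_zero (fun c _ =>
      Groth.Agent.H2.PtsRes.deg0_eq_zero Z I hI ℳ π hπ hπg hker hZne F hrk0 c)
  rw [hdeg0] at hB
  have s1 : ∑ i : Fin (t + 1), F.deg 1 (Fin.cast h1.symm i) = ∑ b, F.deg 1 b :=
    Fintype.sum_equiv (finCongr h1.symm) _ _ (fun i => rfl)
  have s2 : ∑ j : Fin t, F.deg 2 (Fin.cast h2.symm j) = ∑ b, F.deg 2 b :=
    Fintype.sum_equiv (finCongr h2.symm) _ _ (fun i => rfl)
  rw [s1, s2]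
  linarith

end Groth.Agent.S15432
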