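import Groth.Statements.S15433
import Groth.Agent.Lib.Helper2.GrLen3

set_option autoImplicit false
universe u
open GrSyz

namespace Groth.Agent.S15433

/-- Let k be a field, S = k[x_0, …, x_r] graded by degree, 𝔪 = (x_0, …, x_r), and M = S/I a graded
quotient of S, given with a surjective degree-preserving S-linear map π : S → M whose kernel I
contains no nonzero linear form. Let y_0, …, y_t be linear forms forming a weakly regular sequence
on M (each a non-zerodivisor modulo the previous ones) and N = M/(y_0, …, y_t)M, given as a graded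
module with a surjective degree-preserving S-linear map σ : M → N with kernel (y_0, …, y_t)M, and
suppose N has finite length ℓ. Then reg M + (r − t) ≤ ℓ, reg being the Castelnuovo–Mumford
regularity of M in the sense of minimal graded free resolutions. (The published statement is reg S_X
≤ deg X − codim X for an arithmetically Cohen–Macaulay subvariety X of P^r not contained in a
hyperplane; this row is the algebraic statement its proof establishes, with S_X any graded quotient
of S by an ideal without linear forms, the maximal regular sequence of linear forms given, deg X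
replaced by the length of S_X/(y_0, …, y_t)S_X and codim X by r − t, which agree with the degree and
the codimension in that situation.) -/
theorem result (k : Type u) [Field k] (r : ℕ)
    (M : Type u) [AddCommGroup M] [Module k M] [Module (MvPolynomial (Fin (r + 1)) k) M]
    [IsScalarTower k (MvPolynomial (Fin (r + 1)) k) M] [Module.Finite (MvPolynomial (Fin (r + 1)) k) M]
    (ℳ : ℤ → Submodule k M) [DirectSum.Decomposition ℳ] [SetLike.GradedSMul (GrSyz.stdGr k (Fin (r + 1))) ℳ]
    (π : MvPolynomial (Fin (r + 1)) k →ₗ[MvPolynomial (Fin (r + 1)) k] M) (hπ : Function.Surjective π)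
    (hπg : GrLC.IsGrHom (GrSyz.stdGr k (Fin (r + 1))) ℳ π)
    (hlin : ∀ x : MvPolynomial (Fin (r + 1)) k, x ∈ GrSyz.stdGr k (Fin (r + 1)) 1 → π x = 0 → x = 0)
    (ys : List (MvPolynomial (Fin (r + 1)) k)) (hys : ∀ y ∈ ys, y ∈ GrSyz.stdGr k (Fin (r + 1)) 1)
    (hreg : RingTheory.Sequence.IsWeaklyRegular M ys)
    (N : Type u) [AddCommGroup N] [Module k N] [Module (MvPolynomial (Fin (r + 1)) k) N]
    [IsScalarTower k (MvPolynomial (Fin (r + 1)) k) N]
    (𝒩 : ℤ → Submodule k N) [DirectSum.Decomposition 𝒩] [SetLike.GradedSMul (GrSyz.stdGr k (Fin (r + 1))) 𝒩]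
    (σ : M →ₗ[MvPolynomial (Fin (r + 1)) k] N) (hσ : Function.Surjective σ) (hσg : GrLC.IsGrHom ℳ 𝒩 σ)
    (hker : LinearMap.ker σ = Ideal.ofList ys • (⊤ : Submodule (MvPolynomial (Fin (r + 1)) k) M))
    (ℓ : ℕ) (hℓ : Module.length (MvPolynomial (Fin (r + 1)) k) N = (ℓ : ℕ∞)) :
    GrSyz.reg (GrSyz.stdGr k (Fin (r + 1))) ℳ (GrSyz.irrel (GrSyz.stdGr k (Fin (r + 1)))).toIdeal + ((((r : ℤ) + 1 - (ys.length : ℤ) : ℤ) : WithTop ℤ) : WithBot (WithTop ℤ)) ≤
      (((ℓ : ℤ) : WithTop ℤ) : WithBot (WithTop ℤ)) := by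
  have hN : IsFiniteLength (MvPolynomial (Fin (r + 1)) k) N := by
    rw [← Module.length_ne_top_iff, hℓ]
    exact ENat.coe_ne_top ℓ
  have hregeq := Groth.Agent.H2.GrEG.reg_eq_endDeg_of_regular ℳ 𝒩 (Nat.succ_pos r) ys hys hreg σ hσ
    hσg hker hN
  rw [hregeq, Groth.Agent.H2.GrEG.endDeg_add_int_le_iff]
  intro j hj
  by_contra hne
  set Y := Groth.Agent.H2.GrEG.Xrow (k := k) (n := r + 1) 𝒩 with hY
  have hτ : GrLC.IsGrHom (Groth.Agent.H2.GrEG.Sg k (r + 1)).gr Y.gr (σ ∘ₗ π) :=
    fun g m hm => hσg g _ (hπg g m hm)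
  have hτs : Function.Surjective (σ ∘ₗ π) := hσ.comp hπ
  have hne' : Y.gr j ≠ ⊥ := hne
  have hj0 := Groth.Agent.H2.GrEG.nonneg_of_gr_ne_bot Y (σ ∘ₗ π) hτ hτs hne'
  obtain ⟨m, v, hm, hv, hind⟩ := Groth.Agent.H2.GrEG.exists_independent ℳ 𝒩 π hπ hπg hlin ys hys σ
    hker hσg
  have hlen := Groth.Agent.H2.GrEG.add_le_length Y j.toNat
    (fun t ht htj => Groth.Agent.H2.GrEG.gr_ne_bot_of_le Y _ hτ hτs hne' t ht (by omega)) m v hv hind
  have hYl : Module.length (MvPolynomial (Fin (r + 1)) k) Y.carrier = (ℓ : ℕ∞) := hℓ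
  rw [hYl] at hlen
  have h2 : j.toNat + m ≤ ℓ := by exact_mod_cast hlen
  push_cast at hm
  omega

end Groth.Agent.S15433
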