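import Groth.Statements.S15435
import Groth.Agent.Lib.Helper2.RegTilK
import Groth.Agent.S15416
import Groth.Agent.S15418

set_option autoImplicit false
universe u
open GrSyz

namespace Groth.Agent.S15435

/-- Let k be a field, S = k[x_0, …, x_r] graded by degree, 𝔪 = (x_0, …, x_r), and M a finitely generated
ℤ-graded S-module; M̃ and the M(d)~ denote the O-modules on P^r_k associated with the pieces M_n, n
≥ 0 (they depend only on the pieces of large degree), with the canonical maps M_d → H^0(P^r_k,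
M(d)~); graded local cohomology is computed from any *injective resolution in the graded category;
let d ≥ 0. Then M is d-regular, that is H^0_𝔪(M) has no nonzero piece above degree d and H^i_𝔪(M)
vanishes in degree d − i + 1 for every i > 0, if and only if: (1) the sheaf M̃ is d-regular,
H^i(P^r_k, M̃(d − i)) = 0 for 1 ≤ i ≤ r; (2) H^0_𝔪(M) vanishes in every degree e > d; and (3) the
canonical map from M_d to the global sections of M(d)~ is surjective. (The published statement
allows any integer d; it is stated here for d ≥ 0.) -/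
theorem result (k : Type u) [Field k] (r : ℕ)
    (M : Type u) [AddCommGroup M] [Module k M] [Module (MvPolynomial (Fin (r + 1)) k) M]
    [IsScalarTower k (MvPolynomial (Fin (r + 1)) k) M] [Module.Finite (MvPolynomial (Fin (r + 1)) k) M]
    (ℳ : ℤ → Submodule k M) [DirectSum.Decomposition ℳ] [SetLike.GradedSMul (GrSyz.stdGr k (Fin (r + 1))) ℳ]
    [SetLike.GradedSMul (CohB1.polyGrading r k) (fun n : ℕ => ℳ (n : ℤ))]
    (E : GrLC.StarInjRes (GrSyz.stdGr k (Fin (r + 1))) ℳ) (d : ℕ) :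
    (GrLC.endDeg (E.Hgr (GrSyz.irrel (GrSyz.stdGr k (Fin (r + 1)))) 0) ≤ (((d : ℤ) : WithTop ℤ) : WithBot (WithTop ℤ)) ∧
        ∀ i : ℕ, 0 < i → E.Hcomp (GrSyz.irrel (GrSyz.stdGr k (Fin (r + 1)))) i ((d : ℤ) - (i : ℤ) + 1) = ⊥) ↔
      (Curv2.IsMRegular k r (GrTilde.tilde (CohB1.polyGrading r k) (fun n : ℕ => ℳ (n : ℤ)) 0) (d : ℤ) ∧
        (∀ e : ℤ, (d : ℤ) < e → E.Hcomp (GrSyz.irrel (GrSyz.stdGr k (Fin (r + 1)))) 0 e = ⊥) ∧
        Function.Surjective (fun m : ↥(ℳ ((d : ℕ) : ℤ)) => GrTilde.globalOf (CohB1.polyGrading r k) (fun n : ℕ => ℳ (n : ℤ)) m)) := by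
  obtain ⟨F, hF⟩ := Groth.Agent.S15416.result k r M ℳ
  obtain ⟨c, hc⟩ := Groth.Agent.H2.RegTil.exists_bound_all F hF
  have key := Groth.Agent.S15418.result k r M ℳ F hF E (d : ℤ)
  constructor
  · intro h
    have hgen : F.IsGenLE (d : ℤ) := key.2 h
    refine ⟨Groth.Agent.H2.RegTil.isMRegular_tilde k r M ℳ (d : ℤ) F hgen, ?_, ?_⟩
    · intro e he
      rw [Groth.Agent.H2.GrEG.Hcomp_eq_bot_iff]
      exact (Groth.Agent.H2.GrEG.endDeg_le_iff _ (d : ℤ)).1 h.1 e he
    · exact Groth.Agent.H2.RegTil.surjective_of_isGlob ℳ c d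
        (fun t => Groth.Agent.H2.RegTil.isGlob_of_isGenLE F c hc d hgen t)
  · rintro ⟨h1, h2, h3⟩
    apply key.1
    have h0 : Groth.Agent.H2.RegTil.PP k r (Groth.Agent.H2.RegTil.shiftFam ℳ (c : ℤ)) (d + c) := by
      refine ⟨Groth.Agent.H2.RegTil.treg_of_isMRegular ℳ c d
        (Groth.Agent.H2.RegTil.decompMod F (c : ℤ) hc) h1,
        fun t => Groth.Agent.H2.RegTil.isGlob_of_surjective ℳ c d h3 t, ?_⟩
      intro e he n hn hK
      exact Groth.Agent.H2.RegTil.noTors_of_Hcomp ℳ E ((e : ℤ) - (c : ℤ))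
        (h2 _ (by omega)) n hn hK
    intro j b
    have := (Groth.Agent.H2.RegTil.syz_PP F (c : ℤ) hc hF (d + c) h0 j).1 b
    push_cast at this
    omega

end Groth.Agent.S15435
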