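import Groth.Statements.S15437
import Groth.Agent.Lib.Helper2.BettiSum
import Groth.Agent.S15428

set_option autoImplicit false
universe u
open GrSyz

namespace Groth.Agent.S15437

/-- Let k be a field, S = k[x_0, …, x_r] graded by degree and M a ℤ-graded S-module with a finite graded
free resolution F of length at most m by free modules of finite rank with homogeneous bases; write
β_{i,j} for the number of basis vectors of F_i of degree j (the graded Betti numbers when F is
minimal) and B_j = Σ_{i ≤ m} (−1)^i β_{i,j}. Then for every integer d, dim_k M_d = Σ_j B_j C(r + d −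
j, r), where a binomial with d < j counts as zero and only finitely many j contribute; and the B_j
are recovered from the Hilbert function by B_j = dim_k M_j − Σ_{n < j} B_n C(r + j − n, r). (Stated
for any finite graded free resolution; the published statement takes the minimal one.) -/
theorem result (k : Type u) [Field k] (r : ℕ)
    (M : Type u) [AddCommGroup M] [Module k M] [Module (MvPolynomial (Fin (r + 1)) k) M]
    [IsScalarTower k (MvPolynomial (Fin (r + 1)) k) M] [Module.Finite (MvPolynomial (Fin (r + 1)) k) M]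
    (ℳ : ℤ → Submodule k M) [DirectSum.Decomposition ℳ] [SetLike.GradedSMul (GrSyz.stdGr k (Fin (r + 1))) ℳ]
    (F : GrSyz.FreeRes (GrSyz.stdGr k (Fin (r + 1))) ℳ) (m : ℕ) (hF : F.HasLengthLE m) :
    (∀ d : ℤ, (Module.finrank k ↥(ℳ d) : ℤ) =
        ∑ᶠ j : ℤ, (∑ i ∈ Finset.range (m + 1), (-1 : ℤ) ^ i * (F.betti i j : ℤ)) *
          (if j ≤ d then ((Nat.choose (r + (d - j).toNat) r : ℕ) : ℤ) else 0)) ∧
      ∀ j : ℤ, (∑ i ∈ Finset.range (m + 1), (-1 : ℤ) ^ i * (F.betti i j : ℤ)) =
        (Module.finrank k ↥(ℳ j) : ℤ) -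
          ∑ᶠ n : ℤ, (if n < j then (∑ i ∈ Finset.range (m + 1), (-1 : ℤ) ^ i * (F.betti i n : ℤ)) * ((Nat.choose (r + (j - n).toNat) r : ℕ) : ℤ) else 0) := by
  let c : ℤ → ℤ → ℤ :=
    fun d j => if j ≤ d then ((Nat.choose (r + (d - j).toNat) r : ℕ) : ℤ) else 0
  let h : ℤ → ℤ := fun d => (Module.finrank k ↥(ℳ d) : ℤ)
  have hh : ∀ d : ℤ, h d =
      ∑ i ∈ Finset.range (m + 1), (-1 : ℤ) ^ i * ∑ b : Fin (F.rk i), c d (F.deg i b) :=
    fun d => Groth.Agent.S15428.result k r M ℳ F m hF d
  constructor
  · intro d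
    exact Groth.Agent.H2.BettiSum.hilbert_regroup m F.rk F.deg c h hh d
  · intro j
    have h2 := Groth.Agent.H2.BettiSum.betti_recursion m F.rk F.deg c h hh
      (fun d j hdj => if_neg (not_le.2 hdj))
      (fun d => by
        show (if d ≤ d then ((Nat.choose (r + (d - d).toNat) r : ℕ) : ℤ) else 0) = 1
        rw [if_pos le_rfl, sub_self, Int.toNat_zero, add_zero, Nat.choose_self, Nat.cast_one]) j
    refine h2.trans ?_
    congr 1
    apply finsum_congr
    intro n
    by_cases hn : n < j
    · rw [if_pos hn, if_pos hn]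
      show _ * (if n ≤ j then ((Nat.choose (r + (j - n).toNat) r : ℕ) : ℤ) else 0) = _
      rw [if_pos hn.le]
      rfl
    · rw [if_neg hn, if_neg hn]

end Groth.Agent.S15437
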