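import Groth.Statements.S15444
import Mathlib
import Groth.Agent.Lib.Helper9.Misc.WeilCohC

set_option autoImplicit false
universe u v
open CategoryTheory AlgebraicGeometry
open WeilCoh

namespace Groth.Agent.S15444

/-- For a Weil cohomology theory H^* (coefficients in K of characteristic zero, on nonsingular connected
projective varieties over an algebraically closed field k), such a variety X and a closed point x ∈
X, one has Tr_X(cl(x)) = 1. -/
theorem result (k : Type u) [Field k] [IsAlgClosed k] (K : Type v) [Field K] [CharZero K]
    (T : WeilCoh.Theory k K) (X : WeilCoh.Var k) (x : ↥X.obj.left)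
    (hx : IsClosed ({x} : Set ↥X.obj.left)) : T.tr X (T.cl X x) = 1 := by
  open Groth.Agent.H9.WeilA Groth.Agent.H9.WeilB Groth.Agent.H9.WeilC in
  have hpt := T.point (pt k) dim_pt
  have h1 : (1 : T.H (pt k)) ∈ T.gr (pt k) (2 * (WeilCoh.pdim X.obj.left x : ℤ)) := by
    rw [pdim_of_isClosed _ x hx]; exact one_mem T (pt k)
  have h := T.cl_push (toPt k X) x 1 h1
  have hlft : LocallyOfFiniteType X.obj.hom := by
    have : Smooth X.obj.hom := X.property.1
    infer_instance
  have hdeg : (WeilCoh.sm (toPt k X)).residueDegree x = 1 :=
    residueDegree_eq_one_of_isClosed X.obj.hom x hx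
  rw [map_one, mul_one, hpt.1, mul_one, hpt.2, hdeg] at h
  simpa using h

end Groth.Agent.S15444
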