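import Groth.Statements.S15459
import Mathlib
import Groth.Agent.Lib.Helper9.Misc.WeilCohA
import Groth.Agent.Lib.Helper9.Misc.WeilCohC
import Groth.Agent.Lib.Helper9.Misc.WeilCohG
import Groth.Agent.S15444

set_option autoImplicit false
universe u v
open CategoryTheory AlgebraicGeometry
open WeilCoh

namespace Groth.Agent.S15459

/-- In the case r = 1, to which the general case reduces once the cycle class map is known to be a ring
homomorphism: for a Weil cohomology theory H^* (coefficients in K of characteristic zero, on
nonsingular connected projective varieties over an algebraically closed field k), such a variety X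
and a 0-cycle α on X, the intersection number (α) = deg(α) equals Tr_X(cl(α)). The dimension
function δ on X is the one induced from weight 0 on Spec k and deg is the degree of 0-cycles over k. -/
theorem result (k : Type u) [Field k] [IsAlgClosed k] (K : Type v) [Field K] [CharZero K]
    (T : WeilCoh.Theory k K) (X : WeilCoh.Var k) [QuasiCompact X.obj.hom]
    (δ : ↥X.obj.left → ℤ) (hδ : Cyc.DeltaCompat X.obj.hom δ (fun _ => 0))
    (α : AlgebraicCycle X.obj.left ℤ) (hα : α ∈ Cyc.Zk X.obj.left δ 0) :
    (ChowOps.deg X.obj.hom δ α : K) = T.tr X (T.clCyc X α) := by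
  open Groth.Agent.H9.WeilA Groth.Agent.H9.WeilC Groth.Agent.H9.WeilG in
  have hcomp : CompactSpace ↥X.obj.left := QuasiCompact.compactSpace_of_compactSpace X.obj.hom
  have hfin : (Function.support α).Finite := by
    have := α.locallyFiniteSupport.finite_inter_support_of_isCompact isCompact_univ
    simpa using this
  have hsm : Smooth X.obj.hom := X.property.1
  have hlft : LocallyOfFiniteType X.obj.hom := inferInstance
  have key : ∀ x ∈ Function.support α, IsClosed ({x} : Set ↥X.obj.left) ∧ δ x = 0 := by
    intro x hx
    have hδx : δ x = 0 := by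
      by_contra h
      exact hx (hα x h)
    obtain ⟨n, hn1, hn2⟩ := hδ x
    have hn0 : n = 0 := by
      rw [hδx] at hn2
      simp only [zero_add] at hn2
      exact_mod_cast hn2.symm
    refine ⟨isClosed_of_trdeg_zero X.obj.hom x ?_, hδx⟩
    rw [hn1, hn0]
    simp
  have hL : ChowOps.deg X.obj.hom δ α = ∑ x ∈ hfin.toFinset, α x := by
    rw [show ChowOps.deg X.obj.hom δ α = ∑ᶠ x ∈ (X.obj.hom : ↥X.obj.left →
        ↥(Spec (CommRingCat.of k))) ⁻¹' {(IsLocalRing.closedPoint k : PrimeSpectrum k)},
        α x * ((AlgebraicCycle.mapCoeff X.obj.hom δ (fun _ => (0 : ℤ)) x : ℕ) : ℤ) from rfl]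
    have huniv : (X.obj.hom : ↥X.obj.left → ↥(Spec (CommRingCat.of k))) ⁻¹'
        {(IsLocalRing.closedPoint k : PrimeSpectrum k)} = Set.univ := by
      have : Subsingleton (Spec (CommRingCat.of k)) :=
        inferInstanceAs (Subsingleton (PrimeSpectrum k))
      ext z
      simp only [Set.mem_preimage, Set.mem_singleton_iff, Set.mem_univ, iff_true]
      exact Subsingleton.elim _ _
    rw [huniv, finsum_mem_univ, finsum_eq_sum_of_support_subset (s := hfin.toFinset)]
    · refine Finset.sum_congr rfl (fun x hx => ?_)
      obtain ⟨hcl, hδx⟩ := key x (by simpa using hx)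
      have h1 := residueDegree_eq_one_of_isClosed X.obj.hom x hcl
      simp only [AlgebraicCycle.mapCoeff, hδx, if_true, h1]
      simp
    · intro x hx
      simp only [Function.mem_support, ne_eq] at hx
      simp only [Set.Finite.coe_toFinset, Function.mem_support, ne_eq]
      intro h0
      apply hx
      rw [h0, zero_mul]
  have hR : T.clCyc X α = ∑ x ∈ hfin.toFinset, ((α x : ℤ) : K) • T.cl X x := by
    unfold WeilCoh.TheoryOn.clCyc
    rw [finsum_eq_sum_of_support_subset (s := hfin.toFinset)]
    intro x hx
    simp only [Function.mem_support, ne_eq] at hx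
    simp only [Set.Finite.coe_toFinset, Function.mem_support, ne_eq]
    intro h0
    apply hx
    rw [h0, Int.cast_zero, zero_smul]
  rw [hL, hR, map_sum, Int.cast_sum]
  refine Finset.sum_congr rfl (fun x hx => ?_)
  have hx' : x ∈ Function.support α := by simpa using hx
  rw [map_smul, Groth.Agent.S15444.result k K T X x (key x hx').1, smul_eq_mul, mul_one]

end Groth.Agent.S15459
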