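import Groth.Statements.S15441
import Mathlib
import Groth.Agent.Lib.Helper9.Misc.WeilCohA
import Groth.Agent.Lib.Helper9.Misc.WeilCohC
import Groth.Agent.Lib.Helper9.Misc.WeilCohG
import Groth.Agent.S15459

set_option autoImplicit false
universe u v
open WeilCoh

namespace Groth.Agent.S15441

open AlgebraicGeometry CategoryTheory in
/-- Let k be an algebraically closed field of characteristic zero, K a field of characteristic zero and
T a Weil cohomology theory over k with coefficients in K, defined on connected smooth projective
varieties over k; let X be such a variety, δ the weight function on X induced from weight 0 on the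
point Spec k, and α a zero-cycle on X for δ. Then α is homologically equivalent to zero for T, i.e.
its cycle class in the cohomology of X vanishes, if and only if the degree of α over k is zero. -/
theorem result (k : Type u) [Field k] [IsAlgClosed k]
    [CharZero k] (K : Type v) [Field K] [CharZero K] (T : WeilCoh.Theory k K) (X : WeilCoh.Var k)
    [QuasiCompact X.obj.hom] (δ : ↥X.obj.left → ℤ) (hδ : Cyc.DeltaCompat X.obj.hom δ (fun _ => 0))
    (α : AlgebraicCycle X.obj.left ℤ) (hα : α ∈ Cyc.Zk X.obj.left δ 0) :
    T.IsHomEquivZero X α ↔ ChowOps.deg X.obj.hom δ α = 0 := by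
  open Groth.Agent.H9.WeilA Groth.Agent.H9.WeilC Groth.Agent.H9.WeilG in
  have hcomp : CompactSpace ↥X.obj.left := QuasiCompact.compactSpace_of_compactSpace X.obj.hom
  have hfin : (Function.support α).Finite := by
    have := α.locallyFiniteSupport.finite_inter_support_of_isCompact isCompact_univ
    simpa using this
  have hsm : Smooth X.obj.hom := X.property.1
  have hlft : LocallyOfFiniteType X.obj.hom := inferInstance
  have key : ∀ x ∈ Function.support α, IsClosed ({x} : Set ↥X.obj.left) := by
    intro x hx
    have hδx : δ x = 0 := by
      by_contra h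
      exact hx (hα x h)
    obtain ⟨n, hn1, hn2⟩ := hδ x
    have hn0 : n = 0 := by
      rw [hδx] at hn2
      simp only [zero_add] at hn2
      exact_mod_cast hn2.symm
    refine isClosed_of_trdeg_zero X.obj.hom x ?_
    rw [hn1, hn0]
    simp
  have hR : T.clCyc X α = ∑ x ∈ hfin.toFinset, ((α x : ℤ) : K) • T.cl X x := by
    unfold WeilCoh.TheoryOn.clCyc
    rw [finsum_eq_sum_of_support_subset (s := hfin.toFinset)]
    intro x hx
    simp only [Function.mem_support, ne_eq] at hx
    simp only [Set.Finite.coe_toFinset, Function.mem_support, ne_eq]
    intro h0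
    apply hx
    rw [h0, Int.cast_zero, zero_smul]
  have hmem : T.clCyc X α ∈ T.gr X (2 * (WeilCoh.dim X.obj.left : ℤ)) := by
    rw [hR]
    refine Submodule.sum_mem _ (fun x hx => Submodule.smul_mem _ _ ?_)
    have hx' : x ∈ Function.support α := by simpa using hx
    have h1 := T.cl_mem X x
    have h2 : (WeilCoh.codim X.obj.left x : ℤ) = WeilCoh.dim X.obj.left := by
      unfold WeilCoh.codim
      rw [pdim_of_isClosed _ x (key x hx')]
      simp
    rwa [h2] at h1
  have hdeg := Groth.Agent.S15459.result k K T X δ hδ α hα
  unfold WeilCoh.TheoryOn.IsHomEquivZero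
  constructor
  · intro h0
    rw [h0, map_zero] at hdeg
    exact_mod_cast hdeg
  · intro h0
    rw [h0, Int.cast_zero] at hdeg
    have hinj := (T.tr_bijective X).1
    have : (⟨T.clCyc X α, hmem⟩ : T.gr X (2 * (WeilCoh.dim X.obj.left : ℤ))) = 0 := by
      apply hinj
      simp only [map_zero]
      exact hdeg.symm
    exact congrArg Subtype.val this

end Groth.Agent.S15441
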