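import Groth.Statements.S15447
import Mathlib
import Groth.Agent.Lib.Helper9.Misc.WeilCohA

set_option autoImplicit false
universe u v
open CategoryTheory AlgebraicGeometry
open WeilCoh

namespace Groth.Agent.S15447

/-- For a Weil cohomology theory H^* (coefficients in K of characteristic zero, on nonsingular connected
projective varieties over an algebraically closed field k) and morphisms f : X → Y and g : Y → Z of
such varieties, (g ∘ f)_* = g_* ∘ f_* on H^*(X); stated on each H^i(X), with both sides read in the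
total cohomology ring of Z. -/
theorem result (k : Type u) [Field k] [IsAlgClosed k] (K : Type v) [Field K] [CharZero K]
    (T : WeilCoh.Theory k K) (X Y Z : WeilCoh.Var k) (f : X ⟶ Y) (g : Y ⟶ Z) (i : ℤ)
    (a : ↥(T.gr X i)) :
    (T.push (f ≫ g) i a : T.H Z) =
      (T.push g (i + 2 * (WeilCoh.dim Y.obj.left : ℤ) - 2 * (WeilCoh.dim X.obj.left : ℤ))
        (T.push f i a) : T.H Z) := by
  open Groth.Agent.H9.WeilA in
  refine eq_of_forall_tr' T (i + 2 * (WeilCoh.dim Z.obj.left : ℤ) - 2 * (WeilCoh.dim X.obj.left : ℤ))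
    rfl (by ring) (push_mem T (f ≫ g) i a) (push_mem T g _ _) ?_
  intro b hb
  have hb1 : b ∈ T.gr Z (2 * (WeilCoh.dim X.obj.left : ℤ) - i) := mem_of_eq T (by ring) hb
  rw [tr_push_mul T (f ≫ g) i a b hb1]
  have hb2 : b ∈ T.gr Z (2 * (WeilCoh.dim Y.obj.left : ℤ) -
      (i + 2 * (WeilCoh.dim Y.obj.left : ℤ) - 2 * (WeilCoh.dim X.obj.left : ℤ))) :=
    mem_of_eq T (by ring) hb1
  rw [tr_push_mul T g _ (T.push f i a) b hb2]
  have hb3 : T.pull g b ∈ T.gr Y (2 * (WeilCoh.dim X.obj.left : ℤ) - i) := T.pull_mem g _ b hb1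
  rw [tr_push_mul T f i a _ hb3, T.pull_comp f g]
  rfl

end Groth.Agent.S15447
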