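import Groth.Statements.S15449
import Mathlib
import Groth.Agent.Lib.Helper9.Misc.WeilCohA

set_option autoImplicit false
universe u v
open CategoryTheory AlgebraicGeometry
open WeilCoh

namespace Groth.Agent.S15449

/-- For a Weil cohomology theory H^* (coefficients in K of characteristic zero, on nonsingular connected
projective varieties over an algebraically closed field k), such varieties X and Y with product X ×
Y and projections p, q, and α ∈ H^i(Y): p_*(q^*(α)) = Tr_Y(α) (as a multiple of 1 ∈ H^0(X)) if i = 2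
dim Y, and p_*(q^*(α)) = 0 otherwise. The product is any object Q with morphisms p : Q → X, q : Q →
Y forming a cartesian square over Spec k; both sides are read in the total cohomology ring of X. -/
theorem result (k : Type u) [Field k] [IsAlgClosed k] (K : Type v) [Field K] [CharZero K]
    (T : WeilCoh.Theory k K) (X Y Q : WeilCoh.Var k) (p : Q ⟶ X) (q : Q ⟶ Y)
    (hQ : WeilCoh.IsProd p q) (i : ℤ) (a : ↥(T.gr Y i)) :
    (i = 2 * (WeilCoh.dim Y.obj.left : ℤ) →
      (T.push p i ⟨T.pull q a, T.pull_mem q i a a.2⟩ : T.H X) = algebraMap K (T.H X) (T.tr Y a)) ∧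
    (i ≠ 2 * (WeilCoh.dim Y.obj.left : ℤ) →
      (T.push p i ⟨T.pull q a, T.pull_mem q i a a.2⟩ : T.H X) = 0) := by
  open Groth.Agent.H9.WeilA in
  have hdim := dim_prod T p q hQ
  constructor
  · intro hi
    refine eq_of_forall_tr' T 0 (by omega) rfl (push_mem T p i _) (algebraMap_mem T X _) ?_
    intro b hb
    have hb0 : b ∈ T.gr X (2 * (WeilCoh.dim X.obj.left : ℤ)) := mem_of_eq T (by ring) hb
    rw [tr_push_mul' T p i _ b (by omega) hb0]
    show T.tr Q (T.pull q (a : T.H Y) * T.pull p b) = _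
    have hcomm := T.gradedComm Q i (2 * (WeilCoh.dim X.obj.left : ℤ)) _ _
      (T.pull_mem q i a a.2) (T.pull_mem p _ b hb0)
    have hsign : ((-1 : K) ^ (i.natAbs * (2 * (WeilCoh.dim X.obj.left : ℤ)).natAbs)) = 1 := by
      apply Even.neg_one_pow
      rw [hi]
      have : (2 * (WeilCoh.dim Y.obj.left : ℤ)).natAbs = 2 * WeilCoh.dim Y.obj.left := by omega
      rw [this]
      exact ⟨WeilCoh.dim Y.obj.left * (2 * (WeilCoh.dim X.obj.left : ℤ)).natAbs, by ring⟩
    rw [hcomm, hsign, one_smul, T.tr_prod p q hQ b a hb0 (mem_of_eq T hi a.2),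
      Algebra.algebraMap_eq_smul_one, smul_mul_assoc, one_mul, map_smul, smul_eq_mul, mul_comm]
  · intro hi
    refine eq_of_forall_tr' T _ rfl rfl (push_mem T p i _) (Submodule.zero_mem _) ?_
    intro b hb
    rw [zero_mul, map_zero]
    have hb0 : b ∈ T.gr X (2 * (WeilCoh.dim X.obj.left : ℤ) + 2 * (WeilCoh.dim Y.obj.left : ℤ) - i) :=
      mem_of_eq T (by omega) hb
    rw [tr_push_mul' T p i _ b (by omega) hb0]
    show T.tr Q (T.pull q (a : T.H Y) * T.pull p b) = 0
    rcases lt_or_gt_of_ne hi with h | h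
    · have : T.gr X (2 * (WeilCoh.dim X.obj.left : ℤ) + 2 * (WeilCoh.dim Y.obj.left : ℤ) - i) = ⊥ :=
        T.vanish X _ (Or.inr (by omega))
      rw [this, Submodule.mem_bot] at hb0
      rw [hb0, map_zero, mul_zero, map_zero]
    · have : T.gr Y i = ⊥ := T.vanish Y _ (Or.inr h)
      have ha : (a : T.H Y) = 0 := by
        have h2 : (a : T.H Y) ∈ (⊥ : Submodule K (T.H Y)) := this ▸ a.2
        exact (Submodule.mem_bot K).1 h2
      rw [ha, map_zero, zero_mul, map_zero]

end Groth.Agent.S15449
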