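import Groth.Statements.S15451
import Mathlib
import Groth.Agent.Lib.Helper9.Misc.WeilCohA
import Groth.Agent.Lib.Helper9.Misc.WeilCohD
import Groth.Agent.Lib.Helper9.Misc.WeilCohE

set_option autoImplicit false
universe u v
open CategoryTheory AlgebraicGeometry
open WeilCoh

namespace Groth.Agent.S15451

/-- Let H^* be a Weil cohomology theory (coefficients in K of characteristic zero, on nonsingular
connected projective varieties over an algebraically closed field k), φ an endomorphism of such a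
variety X of dimension n, p, q the projections of X × X and Γ_φ the graph of φ. If (e^r_i)_i is a
basis of H^r(X) and (f^{2n−r}_i)_i the dual basis of H^{2n−r}(X) for Poincaré duality,
Tr_X(f^{2n−r}_ℓ ∪ e^r_i) = δ_{i,ℓ}, for every 0 ≤ r ≤ 2n, then cl(Γ_φ) = Σ_{r=0}^{2n} Σ_i
p^*(φ^*(e^r_i)) ∪ q^*(f^{2n−r}_i) in H^{2n}(X × X). Here X × X is any object P with a cartesian
square p, q : P → X over Spec k, Γ_φ is the closure of the image of the generic point of X under the
section j = (id, φ) of p, and the f^{2n−r}_i are any family satisfying the duality relations. -/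
theorem result (k : Type u) [Field k] [IsAlgClosed k] (K : Type v) [Field K] [CharZero K]
    (T : WeilCoh.Theory k K)
    (X P : WeilCoh.Var k) [IrreducibleSpace ↥X.obj.left] (φ : X ⟶ X)
    (p q : P ⟶ X) (hP : WeilCoh.IsProd p q) (j : X ⟶ P) (hjp : j ≫ p = 𝟙 X) (hjq : j ≫ q = φ)
    (ι : ℕ → Type) [∀ r, Fintype (ι r)] [∀ r, DecidableEq (ι r)]
    (e : (r : ℕ) → Module.Basis (ι r) K ↥(T.gr X (r : ℤ)))
    (f : (r : ℕ) → ι r → ↥(T.gr X (2 * (WeilCoh.dim X.obj.left : ℤ) - r)))
    (hef : ∀ r, r ≤ 2 * WeilCoh.dim X.obj.left → ∀ i l : ι r,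
      T.tr X ((f r l : T.H X) * (e r i : T.H X)) = if i = l then 1 else 0) :
    T.cl P (WeilCoh.sm j (genericPoint ↥X.obj.left)) =
      ∑ r ∈ Finset.range (2 * WeilCoh.dim X.obj.left + 1), ∑ i : ι r,
        T.pull p (T.pull φ (e r i : T.H X)) * T.pull q (f r i : T.H X) := by
  open Groth.Agent.H9.WeilA Groth.Agent.H9.WeilD Groth.Agent.H9.WeilE in
  have hdimP := dim_prod T p q hP
  have hpd := pdim_section j p hjp
  have hcod : (WeilCoh.codim P.obj.left (WeilCoh.sm j (genericPoint ↥X.obj.left)) : ℤ) =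
      WeilCoh.dim X.obj.left := by
    unfold WeilCoh.codim
    rw [hpd]
    omega
  set ξ := WeilCoh.sm j (genericPoint ↥X.obj.left) with hξ
  have hcl : T.cl P ξ ∈ T.gr P (2 * (WeilCoh.dim X.obj.left : ℤ)) := mem_of_eq T (by omega) (T.cl_mem P ξ)
  have hterm : ∀ r : ℕ, ∀ i : ι r,
      T.pull p (T.pull φ (e r i : T.H X)) * T.pull q (f r i : T.H X) ∈ T.gr P (2 * (WeilCoh.dim X.obj.left : ℤ)) := by
    intro r i
    have := mul_mem T (T.pull_mem p r _ (T.pull_mem φ r _ (e r i).2))
      (T.pull_mem q _ _ (f r i).2)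
    exact mem_of_eq T (by omega) this
  have hrhs : (∑ r ∈ Finset.range (2 * WeilCoh.dim X.obj.left + 1), ∑ i : ι r,
        T.pull p (T.pull φ (e r i : T.H X)) * T.pull q (f r i : T.H X)) ∈ T.gr P (2 * (WeilCoh.dim X.obj.left : ℤ)) :=
    Submodule.sum_mem _ (fun r _ => Submodule.sum_mem _ (fun i _ => hterm r i))
  refine eq_of_forall_tr T (2 * (WeilCoh.dim X.obj.left : ℤ)) hcl hrhs ?_
  intro b _
  refine tr_ext_kunneth T p q hP _ _ ?_ b
  intro s t x y hx hy
  have hxy := mul_mem T (T.pull_mem p s x hx) (T.pull_mem q t y hy)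
  by_cases hst : s + t = 2 * (WeilCoh.dim X.obj.left : ℤ)
  swap
  · have h1 := mul_mem T hcl hxy
    have h2 := mul_mem T hrhs hxy
    rw [T.tr_vanish P _ _ h1 (by omega), T.tr_vanish P _ _ h2 (by omega)]
  · have hmem : T.pull p x * T.pull q y ∈ T.gr P (2 * (WeilCoh.dim X.obj.left : ℤ)) :=
      mem_of_eq T (by omega) hxy
    rw [hξ, tr_cl_section T j p hjp _ hmem, map_mul (T.pull j)]
    have h1 : T.pull j (T.pull q y) = T.pull φ y := by
      rw [← hjq, T.pull_comp]; rfl
    have h2 : T.pull j (T.pull p x) = x := by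
      have := T.pull_comp j p
      rw [hjp, T.pull_id] at this
      exact (congrArg (fun ψ => ψ x) this).symm
    rw [h1, h2, Finset.sum_mul, map_sum]
    simp_rw [Finset.sum_mul, map_sum]
    have hterm2 : ∀ (r : ℕ) (i : ι r), T.tr P (T.pull p (T.pull φ (e r i : T.H X)) *
        T.pull q (f r i : T.H X) * (T.pull p x * T.pull q y)) =
        (-1 : K) ^ ((2 * (WeilCoh.dim X.obj.left : ℤ) - r).natAbs * s.natAbs) *
          (T.tr X (T.pull φ (e r i : T.H X) * x) * T.tr X ((f r i : T.H X) * y)) := by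
      intro r i
      rw [four_mul T p q _ x _ y (f r i).2 hx, map_smul, smul_eq_mul, tr_prod_all T p q hP]
    simp_rw [hterm2]
    by_cases ht : 0 ≤ t ∧ t ≤ 2 * (WeilCoh.dim X.obj.left : ℤ)
    swap
    · have : y = 0 := eq_zero_of_mem_of_lt T hy (by omega)
      subst this
      simp
    · obtain ⟨r₀, hr₀⟩ : ∃ r₀ : ℕ, (r₀ : ℤ) = t := ⟨t.toNat, by omega⟩
      subst hr₀
      rw [Finset.sum_eq_single r₀]
      · let y' : ↥(T.gr X (r₀ : ℤ)) := ⟨y, hy⟩
        have hy_eq : y = ∑ l : ι r₀, (e r₀).repr y' l • (e r₀ l : T.H X) := by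
          have := congrArg Subtype.val ((e r₀).sum_repr y')
          rw [Submodule.coe_sum] at this
          simpa using this.symm
        have hfy : ∀ i : ι r₀, T.tr X ((f r₀ i : T.H X) * y) = (e r₀).repr y' i := by
          intro i
          rw [hy_eq, Finset.mul_sum, map_sum]
          rw [Finset.sum_eq_single i]
          · rw [mul_smul_comm, map_smul, hef r₀ (by omega) i i, if_pos rfl, smul_eq_mul, mul_one]
          · intro l _ hne
            rw [mul_smul_comm, map_smul, hef r₀ (by omega) l i, if_neg hne, smul_zero]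
          · intro h; exact absurd (Finset.mem_univ i) h
        simp_rw [hfy]
        have hsum : ∑ i : ι r₀, (-1 : K) ^ ((2 * (WeilCoh.dim X.obj.left : ℤ) - r₀).natAbs * s.natAbs) *
            (T.tr X (T.pull φ (e r₀ i : T.H X) * x) * (e r₀).repr y' i) =
            (-1 : K) ^ ((2 * (WeilCoh.dim X.obj.left : ℤ) - r₀).natAbs * s.natAbs) * T.tr X (T.pull φ y * x) := by
          rw [← Finset.mul_sum]
          congr 1
          conv_rhs => rw [hy_eq, map_sum, Finset.sum_mul, map_sum]
          refine Finset.sum_congr rfl (fun i _ => ?_)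
          rw [map_smul, smul_mul_assoc, map_smul, smul_eq_mul, mul_comm]
        rw [hsum, T.gradedComm X s r₀ x (T.pull φ y) hx (T.pull_mem φ _ y hy), map_smul,
          smul_eq_mul]
        congr 1
        have hev : Even ((2 * (WeilCoh.dim X.obj.left : ℤ) - r₀).natAbs * s.natAbs +
            s.natAbs * (r₀ : ℤ).natAbs) := by
          have hs : s = 2 * (WeilCoh.dim X.obj.left : ℤ) - r₀ := by omega
          subst hs
          have : (2 * (WeilCoh.dim X.obj.left : ℤ) - r₀).natAbs *
                (2 * (WeilCoh.dim X.obj.left : ℤ) - r₀).natAbs +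
              (2 * (WeilCoh.dim X.obj.left : ℤ) - r₀).natAbs * (r₀ : ℤ).natAbs =
              (2 * (WeilCoh.dim X.obj.left : ℤ) - r₀).natAbs * (2 * WeilCoh.dim X.obj.left) := by
            have h3 : (2 * (WeilCoh.dim X.obj.left : ℤ) - r₀).natAbs + (r₀ : ℤ).natAbs =
                2 * WeilCoh.dim X.obj.left := by omega
            rw [← h3, mul_add]
          rw [this]
          exact Even.mul_left (even_two_mul _) _
        have h1 : (-1 : K) ^ ((2 * (WeilCoh.dim X.obj.left : ℤ) - r₀).natAbs * s.natAbs) *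
            (-1 : K) ^ (s.natAbs * (r₀ : ℤ).natAbs) = 1 := by
          rw [← pow_add, hev.neg_one_pow]
        have h2 : (-1 : K) ^ ((2 * (WeilCoh.dim X.obj.left : ℤ) - r₀).natAbs * s.natAbs) *
            (-1 : K) ^ ((2 * (WeilCoh.dim X.obj.left : ℤ) - r₀).natAbs * s.natAbs) = 1 := by
          rw [← pow_add, (Even.add_self _).neg_one_pow]
        calc (-1 : K) ^ (s.natAbs * (r₀ : ℤ).natAbs)
            = ((-1 : K) ^ ((2 * (WeilCoh.dim X.obj.left : ℤ) - r₀).natAbs * s.natAbs) *
              (-1 : K) ^ ((2 * (WeilCoh.dim X.obj.left : ℤ) - r₀).natAbs * s.natAbs)) *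
              (-1 : K) ^ (s.natAbs * (r₀ : ℤ).natAbs) := by rw [h2, one_mul]
          _ = (-1 : K) ^ ((2 * (WeilCoh.dim X.obj.left : ℤ) - r₀).natAbs * s.natAbs) *
              ((-1 : K) ^ ((2 * (WeilCoh.dim X.obj.left : ℤ) - r₀).natAbs * s.natAbs) *
              (-1 : K) ^ (s.natAbs * (r₀ : ℤ).natAbs)) := by ring
          _ = (-1 : K) ^ ((2 * (WeilCoh.dim X.obj.left : ℤ) - r₀).natAbs * s.natAbs) := by
              rw [h1, mul_one]
      · intro r _ hne
        apply Finset.sum_eq_zero
        intro i _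
        have : T.tr X ((f r i : T.H X) * y) = 0 :=
          T.tr_vanish X _ _ (mul_mem T (f r i).2 hy) (by omega)
        rw [this]
        simp
      · intro h
        exfalso
        apply h
        rw [Finset.mem_range]
        omega

end Groth.Agent.S15451
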