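import Groth.Statements.S15450
import Mathlib
import Groth.Agent.Lib.Helper9.Misc.WeilCohA
import Groth.Agent.Lib.Helper9.Misc.WeilCohD
import Groth.Agent.Lib.Helper9.Misc.WeilCohE
import Groth.Agent.Lib.Helper9.Misc.WeilCohF
import Groth.Agent.S15451

set_option autoImplicit false
universe u v
open CategoryTheory AlgebraicGeometry
open WeilCoh

namespace Groth.Agent.S15450

/-- Let H^* be a Weil cohomology theory (coefficients in K of characteristic zero, on nonsingular
connected projective varieties over an algebraically closed field k), φ an endomorphism of such a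
variety X, and Γ_φ, Δ ⊂ X × X the graph of φ and the diagonal. Then (Γ_φ · Δ) = Σ_{i=0}^{2 dim X}
(−1)^i trace(φ^* | H^i(X)). The intersection number is written in the form Tr_{X×X}(cl(Γ_φ) ∪ cl(Δ))
that the argument establishes (it equals the Chow-ring intersection number once the cycle class map
is known to be a ring homomorphism compatible with degrees); X × X is any object P with a cartesian
square p, q : P → X over Spec k, Γ_φ and Δ are the closures of the images of the generic point of X
under the sections j = (id, φ) and d = (id, id) of p. -/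
theorem result (k : Type u) [Field k] [IsAlgClosed k] (K : Type v) [Field K] [CharZero K]
    (T : WeilCoh.Theory k K)
    (X P : WeilCoh.Var k) [IrreducibleSpace ↥X.obj.left] (φ : X ⟶ X)
    (p q : P ⟶ X) (hP : WeilCoh.IsProd p q) (j d : X ⟶ P)
    (hjp : j ≫ p = 𝟙 X) (hjq : j ≫ q = φ) (hdp : d ≫ p = 𝟙 X) (hdq : d ≫ q = 𝟙 X) :
    T.tr P (T.cl P (WeilCoh.sm j (genericPoint ↥X.obj.left)) * T.cl P (WeilCoh.sm d (genericPoint ↥X.obj.left))) =
      ∑ i ∈ Finset.range (2 * WeilCoh.dim X.obj.left + 1),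
        (-1 : K) ^ i * LinearMap.trace K ↥(T.gr X (i : ℤ)) (T.pullDeg φ (i : ℤ)) := by
  open Groth.Agent.H9.WeilA Groth.Agent.H9.WeilD Groth.Agent.H9.WeilE Groth.Agent.H9.WeilF in
  have hdimP := dim_prod T p q hP
  have hcodj : (WeilCoh.codim P.obj.left (WeilCoh.sm j (genericPoint ↥X.obj.left)) : ℤ) =
      WeilCoh.dim X.obj.left := by
    unfold WeilCoh.codim
    rw [pdim_section j p hjp]
    omega
  have hcodd : (WeilCoh.codim P.obj.left (WeilCoh.sm d (genericPoint ↥X.obj.left)) : ℤ) =
      WeilCoh.dim X.obj.left := by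
    unfold WeilCoh.codim
    rw [pdim_section d p hdp]
    omega
  have hclj : T.cl P (WeilCoh.sm j (genericPoint ↥X.obj.left)) ∈
      T.gr P (2 * (WeilCoh.dim X.obj.left : ℤ)) := mem_of_eq T (by omega) (T.cl_mem P _)
  have hcld : T.cl P (WeilCoh.sm d (genericPoint ↥X.obj.left)) ∈
      T.gr P (2 * (WeilCoh.dim X.obj.left : ℤ)) := mem_of_eq T (by omega) (T.cl_mem P _)
  -- bases and dual families
  let ι : ℕ → Type := fun r => Fin (Module.finrank K ↥(T.gr X (r : ℤ)))
  let e : (r : ℕ) → Module.Basis (ι r) K ↥(T.gr X (r : ℤ)) := fun r => Module.finBasis K _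
  have hex : ∀ r : ℕ, ∃ f : ι r → ↥(T.gr X (2 * (WeilCoh.dim X.obj.left : ℤ) - r)), ∀ i l : ι r,
      T.tr X ((f l : T.H X) * (e r i : T.H X)) = if i = l then 1 else 0 :=
    fun r => exists_dual_family T (r : ℤ) _ (by omega) (e r)
  choose f hf using hex
  have hΓ := Groth.Agent.S15451.result k K T X P φ p q hP j hjp hjq ι e f (fun r _ => hf r)
  rw [T.gradedComm P _ _ _ _ hclj hcld]
  have hev : Even ((2 * (WeilCoh.dim X.obj.left : ℤ)).natAbs *
      (2 * (WeilCoh.dim X.obj.left : ℤ)).natAbs) := by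
    have : (2 * (WeilCoh.dim X.obj.left : ℤ)).natAbs = 2 * WeilCoh.dim X.obj.left := by omega
    rw [this]
    exact Even.mul_right (even_two_mul _) _
  rw [hev.neg_one_pow, one_smul, tr_cl_section T d p hdp _ hclj, hΓ, map_sum, map_sum]
  refine Finset.sum_congr rfl (fun r hr => ?_)
  rw [map_sum, map_sum, ← sum_tr_dual_eq_trace T (e r) (f r) (hf r) (T.pullDeg φ (r : ℤ)),
    Finset.mul_sum]
  refine Finset.sum_congr rfl (fun i _ => ?_)
  have e1 : T.pull d (T.pull p (T.pull φ (e r i : T.H X))) = T.pull φ (e r i : T.H X) := by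
    rw [pull_pull T d p, hdp, pull_id_apply]
  have e2 : T.pull d (T.pull q (f r i : T.H X)) = (f r i : T.H X) := by
    rw [pull_pull T d q, hdq, pull_id_apply]
  rw [map_mul (T.pull d), e1, e2]
  have hcoe : ((T.pullDeg φ (r : ℤ)) (e r i) : T.H X) = T.pull φ (e r i : T.H X) := rfl
  rw [hcoe, T.gradedComm X _ _ _ _ (T.pull_mem φ _ _ (e r i).2) (f r i).2, map_smul, smul_eq_mul]
  congr 1
  apply neg_one_pow_eq_of_even_add
  rw [Finset.mem_range] at hr
  have h1 : ((r : ℤ)).natAbs = r := by omega
  have h2 : (2 * (WeilCoh.dim X.obj.left : ℤ) - r).natAbs = 2 * WeilCoh.dim X.obj.left - r := by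
    omega
  rw [h1, h2]
  have : r * (2 * WeilCoh.dim X.obj.left - r) + r = r * (2 * WeilCoh.dim X.obj.left - r + 1) := by
    ring
  rw [this]
  rcases Nat.even_or_odd r with he | ho
  · exact Even.mul_right he _
  · apply Even.mul_left
    obtain ⟨m, hm⟩ := ho
    exact ⟨WeilCoh.dim X.obj.left - m, by omega⟩

end Groth.Agent.S15450
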