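import Groth.Statements.S15495
import Mathlib

set_option autoImplicit false
universe u
open CAlg

namespace Groth.Agent.S15495

/-- In an Artinian local ring R whose maximal ideal m contains the prime number p, the multiplicative
group 1 + m is annihilated under some power of p: there is n with (1 + x)^(p^n) = 1 for every x in
m. (The published text makes this assertion inside a proof, for Artinian local algebras over the
Witt ring of a perfect field of characteristic p; only p ∈ m and the nilpotence of m are used.) -/
theorem result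
    (R : Type u) [CommRing R] [IsLocalRing R] [IsArtinianRing R]
    (p : ℕ) (hp : p.Prime) (hpm : (p : R) ∈ IsLocalRing.maximalIdeal R) :
    ∃ n : ℕ, ∀ x ∈ IsLocalRing.maximalIdeal R, (1 + x) ^ (p ^ n) = 1 := by
  classical
  set m := IsLocalRing.maximalIdeal R with hm
  obtain ⟨N, hN⟩ := IsArtinianRing.isNilpotent_jacobson_bot (R := R)
  have hNm : m ^ N = ⊥ := by
    rw [IsLocalRing.jacobson_eq_maximalIdeal ⊥ bot_ne_top] at hN
    exact hN
  -- geometric sums of elements congruent to 1 lie in `m`
  have hgeom : ∀ a : R, a - 1 ∈ m → (∑ i ∈ Finset.range p, a ^ i) ∈ m := by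
    intro a ha
    rw [← Ideal.Quotient.eq_zero_iff_mem, map_sum]
    have h1 : Ideal.Quotient.mk m a = 1 := by
      rw [← map_one (Ideal.Quotient.mk m), Ideal.Quotient.eq]
      exact ha
    simp only [map_pow, h1, one_pow, Finset.sum_const, Finset.card_range, nsmul_eq_mul, mul_one]
    rw [← map_natCast (Ideal.Quotient.mk m), Ideal.Quotient.eq_zero_iff_mem]
    exact hpm
  have key : ∀ n : ℕ, ∀ x ∈ m, (1 + x) ^ (p ^ n) - 1 ∈ m ^ (n + 1) := by
    intro n
    induction n with
    | zero =>
      intro x hx
      simpa using hx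
    | succ n ih =>
      intro x hx
      have hy := ih x hx
      set a := (1 + x) ^ (p ^ n) with ha
      have hya : a - 1 ∈ m := Ideal.pow_le_self (Nat.succ_ne_zero n) hy
      have hfac : (1 + x) ^ (p ^ (n + 1)) - 1 = (∑ i ∈ Finset.range p, a ^ i) * (a - 1) := by
        rw [geom_sum_mul, ha, ← pow_mul, pow_succ]
      rw [hfac, pow_succ' m (n + 1)]
      exact Ideal.mul_mem_mul (hgeom a hya) hy
  refine ⟨N, fun x hx => ?_⟩
  have h := key N x hx
  have h2 : m ^ (N + 1) = ⊥ := by
    rw [pow_succ, hNm, Ideal.bot_mul]
  rw [h2, Ideal.mem_bot, sub_eq_zero] at h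
  exact h

end Groth.Agent.S15495
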