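import Groth.Statements.S15504
import Groth.Agent.Lib.Helper7.SemiFitting
import Mathlib
-- import your own Groth.Agent.* helpers here

set_option autoImplicit false
universe u v
open FrobAlg

namespace Groth.Agent.S15504

/-- Let k be an algebraically closed field of characteristic p, W = W(k) the ring of p-typical Witt
vectors, M a finitely generated torsion W-module and φ a p⁻¹-linear endomorphism of M (additive,
with φ(a·m) = σ⁻¹(a)·φ(m) for the Frobenius automorphism σ of W). Then M = M_s ⊕ M_n for two
φ-stable submodules, with φ bijective on M_s and nilpotent on M_n (one iterate of φ kills M_n). -/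
theorem result (p : ℕ) [Fact p.Prime]
    (k : Type u) [Field k] [CharP k p] [IsAlgClosed k]
    (M : Type v) [AddCommGroup M] [Module (WittVector p k) M] [Module.Finite (WittVector p k) M]
    (hM : Module.IsTorsion (WittVector p k) M)
    (φ : M →ₛₗ[((WittVector.frobeniusEquiv p k).symm : WittVector p k →+* WittVector p k)] M) :
    ∃ Ms Mn : Submodule (WittVector p k) M, IsCompl Ms Mn ∧
      Set.MapsTo φ Ms Ms ∧ Set.MapsTo φ Mn Mn ∧ Set.BijOn φ Ms Ms ∧
      ∃ r : ℕ, ∀ x ∈ Mn, (⇑φ)^[r] x = 0 := by
  haveI : IsNoetherian (WittVector p k) M := isNoetherian_of_isNoetherianRing_of_finite _ _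
  haveI : IsArtinian (WittVector p k) M := by
    obtain ⟨a, ha, ha0⟩ := Submodule.annihilator_top_inter_nonZeroDivisors hM
    have htors : Module.IsTorsionBySet (WittVector p k) M (Ideal.span {a} : Set (WittVector p k)) := by
      rw [Module.isTorsionBySet_span_singleton_iff]
      intro m
      exact (Submodule.mem_annihilator.mp ha) m trivial
    letI := htors.module
    haveI : IsArtinianRing (WittVector p k ⧸ Ideal.span {a}) := by
      rw [isArtinianRing_iff_krullDimLE_zero, Ring.KrullDimLE, Order.krullDimLE_iff,
        ← ENat.WithBot.add_le_add_one_right_iff, Nat.cast_zero, zero_add]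
      exact (ringKrullDim_quotient_succ_le_of_nonZeroDivisor ha0).trans
        (Order.KrullDimLE.krullDim_le)
    haveI : Module.Finite (WittVector p k ⧸ Ideal.span {a}) M :=
      Module.Finite.of_restrictScalars_finite (WittVector p k) _ M
    haveI : IsArtinian (WittVector p k ⧸ Ideal.span {a}) M := inferInstance
    exact isArtinian_of_surjective_algebraMap (R := WittVector p k ⧸ Ideal.span {a})
      Ideal.Quotient.mk_surjective
  exact Groth.Agent.H7.SemiFitting.fitting
    ((WittVector.frobeniusEquiv p k).symm : WittVector p k →+* WittVector p k)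
    ((WittVector.frobeniusEquiv p k) : WittVector p k →+* WittVector p k)
    (fun a => (WittVector.frobeniusEquiv p k).symm_apply_apply a) φ

end Groth.Agent.S15504
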