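import Groth.Statements.S15512
import Groth.Agent.Lib.Helper1.RegExt

set_option autoImplicit false
universe u
open CategoryTheory
open CAlg

namespace Groth.Agent.S15512

theorem exists_nat_of_lt_top (x : WithBot ℕ∞) (hx : x < ⊤) : ∃ n : ℕ, x ≤ (n : WithBot ℕ∞) := by
  induction x with
  | bot => exact ⟨0, bot_le⟩
  | coe x =>
    induction x with
    | top => exact absurd hx (lt_irrefl _)
    | coe n => exact ⟨n, le_rfl⟩

theorem hasProjDim_of_locally_regular (A : Type u) [CommRing A]
    [IsNoetherianRing A]
    (hreg : ∀ m : MaximalSpectrum A, IsRegularLocalRing (Localization.AtPrime m.asIdeal))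
    (n : ℕ) (hn : ringKrullDim A ≤ n) (M : Type u) [AddCommGroup M] [Module A M]
    [Module.Finite A M] : HasProjectiveDimensionLT (ModuleCat.of A M) (n + 1) := by
  change HasProjectiveDimensionLE (ModuleCat.of A M) n
  rw [ModuleCat.hasProjectiveDimensionLE_iff_forall_maximalSpectrum]
  intro m
  haveI := hreg m
  haveI : m.asIdeal.IsPrime := m.isMaximal.isPrime
  have hd : ringKrullDim (Localization.AtPrime m.asIdeal) =
      ((IsLocalRing.maximalIdeal (Localization.AtPrime m.asIdeal)).spanFinrank : ℕ) :=
    (IsRegularLocalRing.spanFinrank_maximalIdeal (R := Localization.AtPrime m.asIdeal)).symm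
  have hle : (IsLocalRing.maximalIdeal (Localization.AtPrime m.asIdeal)).spanFinrank ≤ n := by
    have h1 : ringKrullDim (Localization.AtPrime m.asIdeal) ≤ ringKrullDim A := by
      rw [IsLocalization.AtPrime.ringKrullDim_eq_height m.asIdeal]
      exact Ideal.height_le_ringKrullDim_of_ne_top m.isMaximal.ne_top
    have h2 := (hd.symm.le.trans h1).trans hn
    exact_mod_cast h2
  have := Groth.Agent.H1.Reg.hasProjectiveDimensionLT_of_isRegularLocalRing
    (Localization.AtPrime m.asIdeal) _ hd
    ((ModuleCat.of A M).localizedModule m.asIdeal.primeCompl)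
  exact hasProjectiveDimensionLT_of_ge _
    ((IsLocalRing.maximalIdeal (Localization.AtPrime m.asIdeal)).spanFinrank + 1) (n + 1) (by omega)

/-- Let A be a Noetherian ring which is regular (its localization at every maximal ideal is a regular
local ring) and of finite Krull dimension, M a finitely generated A-module and d a natural number.
If Ext^i_A(M, A) vanishes for every i > d, then the projective dimension of M is at most d. -/
theorem result (A : Type u) [CommRing A]
    [IsNoetherianRing A] (hreg : ∀ m : MaximalSpectrum A, IsRegularLocalRing (Localization.AtPrime m.asIdeal))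
    (hdim : ringKrullDim A < ⊤) (M : Type u) [AddCommGroup M] [Module A M] [Module.Finite A M] (d : ℕ)
    (h : ∀ i : ℕ, d < i → Subsingleton (Abelian.Ext (ModuleCat.of A M) (ModuleCat.of A A) i)) :
    HasProjectiveDimensionLT (ModuleCat.of A M) (d + 1) := by
  obtain ⟨n, hn⟩ := exists_nat_of_lt_top _ hdim
  exact Groth.Agent.H1.Reg.hasProjectiveDimensionLT_of_ext_self_of_lt M d h n
    (hasProjDim_of_locally_regular A hreg n hn M)

end Groth.Agent.S15512
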