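import Groth.Statements.S15522
import Groth.Agent.Lib.Helper2.MumR
import Groth.Agent.Lib.Helper2.MumS
import Groth.Agent.Lib.Helper8.TFunRank

set_option autoImplicit false
universe u
attribute [local instance] HasDerivedCategory.standard
open Coherent

namespace Groth.Agent.S15522

open AlgebraicGeometry CategoryTheory in
/-- Let A be a reduced Noetherian ring, X a proper scheme over Spec A with structure morphism f, F a
coherent O_X-module flat over Spec A, and p a natural number such that the function y ↦ dim_{κ(y)}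
H^p(X_y, F_y) is locally constant on Spec A. For each q write T^q for the functor M ↦ H^q(X, f^*(M~)
⊗ F) from A-modules to abelian groups. Then T^p takes surjections to surjections, and so does
T^(p-1) when p ≥ 1; equivalently, every base-change map H^q(X, F) ⊗_A M → H^q(X, F ⊗_A M) is
bijective for q = p and q = p - 1. (The published statement also asserts that R^p f_*F is locally
free of finite rank; this row states the two exchange properties only, over an affine base.) -/
theorem result (A : Type u) [CommRing A]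
    [IsNoetherianRing A] [IsReduced A] (X : Scheme.{u}) [X.Over (Spec (CommRingCat.of A))]
    [IsProper (X ↘ Spec (CommRingCat.of A))] (F : X.Modules) (hF : Coh.IsCoh F)
    (hfl : FlatMod.IsFlatOver (X ↘ Spec (CommRingCat.of A)) F) (p : ℕ)
    (hconst : IsLocallyConstant (CohIII.fiberRank (X ↘ Spec (CommRingCat.of A)) F p)) :
    (CohIII.tensorAFunctor A F ⋙ CohIII.HAb X p).PreservesEpimorphisms ∧
      ∀ q : ℕ, q + 1 = p → (CohIII.tensorAFunctor A F ⋙ CohIII.HAb X q).PreservesEpimorphisms := by
  obtain ⟨ι, hfin, U, haff, hU, L, v, hL, hb, hq⟩ :=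
    Groth.Agent.H2.Mum.exists_resolution A X F hF hfl
  haveI := hfin
  haveI : F.IsQuasicoherent := hF.1
  have hP : ∀ i, Module.Finite A ((Groth.Agent.H2.Mum.flip L).X i) ∧
      Module.Projective A ((Groth.Agent.H2.Mum.flip L).X i) := fun i => by
    obtain ⟨h1, h2⟩ := Groth.Agent.H2.Mum.flip_finite_free L hL i
    exact ⟨h1, inferInstance⟩
  have hfl' : ∀ i, Module.Flat A ((Groth.Agent.H2.Mum.flip L).X i) := fun i =>
    (Groth.Agent.H2.Mum.flip_finite_flat L hL i).2
  have hrank : CohIII.fiberRank (X ↘ Spec (CommRingCat.of A)) F p =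
      CohIII.dRank (Groth.Agent.H2.Mum.flip L) (-(p : ℤ)) :=
    funext fun y => Groth.Agent.H2.Mum.fiberRank_eq_dRank A F U haff hU L v hq p y
  rw [hrank] at hconst
  obtain ⟨hm, he⟩ := Groth.Agent.H8.TFun.exact_of_dRank_locallyConstant
    (Groth.Agent.H2.Mum.flip L) hP (-(p : ℤ)) hconst
  refine ⟨?_, fun q hqp => ?_⟩
  · exact (Groth.Agent.H2.Mum.preservesEpi_iff (Groth.Agent.H2.Mum.flipNatIso L (p : ℤ)
      (Groth.Agent.H2.Mum.natIso A U F haff hU L v hq p))).2 he
  · have hq' : -(q : ℤ) = -(p : ℤ) + 1 := by subst hqp; push_cast; ring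
    have he' : (CohIII.TFun (Groth.Agent.H2.Mum.flip L) (-(q : ℤ))).PreservesEpimorphisms := by
      rw [hq']
      exact (Groth.Agent.H8.TFun.preservesEpi_iff_preservesMono (Groth.Agent.H2.Mum.flip L) hfl'
        (-(p : ℤ) + 1) (-(p : ℤ)) rfl).2 hm
    exact (Groth.Agent.H2.Mum.preservesEpi_iff (Groth.Agent.H2.Mum.flipNatIso L (q : ℤ)
      (Groth.Agent.H2.Mum.natIso A U F haff hU L v hq q))).2 he'

end Groth.Agent.S15522
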