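import Groth.Statements.S1553
import Mathlib
import Groth.Agent.Lib.Helper1.DimLocC
import Groth.Agent.Lib.Helper1.FibGen
import Groth.Agent.Lib.Helper1.GenPts

set_option autoImplicit false
universe u
open CategoryTheory CategoryTheory.Limits AlgebraicGeometry
open Variety

namespace Groth.Agent.S1553

/-- Let f : X → Y be locally of finite type, x a point with image y such that the local ring of Y at y
is Noetherian, and d a natural number such that at the generic points η of the irreducible
components of X passing through x we have f(η) ≠ y and local fibre dimension d. Then the local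
dimension at x of the fibre over y is at most d + dim O_{Y,y} - 1 (written additively). -/
theorem result {X Y : Scheme.{u}} (f : X ⟶ Y) [LocallyOfFiniteType f]
    (x : X) [IsNoetherianRing (Y.presheaf.stalk (f.base x))] (d : ℕ)
    (hgen : ∀ Z ∈ irreducibleComponents (X : Type u), x ∈ Z → ∀ η : X, IsGenericPoint η Z →
      f.base η ≠ f.base x ∧ FlatMor.fibreDimAt f η = d) :
    FlatMor.fibreDimAt f x + 1 ≤ (d : WithBot ℕ∞) + ringKrullDim (Y.presheaf.stalk (f.base x)) := by
  obtain ⟨z, hfz, hzx, hzmax, hzdim⟩ :=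
    Groth.Agent.H1.FibGen.exists_fibre_generic_fibreDimAt_eq f x
  obtain ⟨tz, htz, hdimz⟩ := Groth.Agent.H1.DimFormula.fibreDimAt_eq_trdeg_of_generic f z
    (fun x' hx' hsp => hzmax x' (hx'.trans hfz) hsp)
  have hN : IsNoetherianRing (Y.presheaf.stalk (f z)) := by
    rw [hfz]; infer_instance
  -- generic points through `z`
  have hgen' : ∀ ξ : X, ξ ⤳ z → ringKrullDim (X.presheaf.stalk ξ) = 0 →
      f ξ ≠ f x ∧ Dual3.resTrdeg f ξ = (d : Cardinal.{u}) := by
    intro ξ hξ h0
    have hcomp := Groth.Agent.H1.GenPts.closure_mem_irreducibleComponents_of_stalk_dim_eq_zero ξ h0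
    have hx : x ∈ closure ({ξ} : Set X) := (specializes_iff_mem_closure.1 (hξ.trans hzx))
    obtain ⟨h1, h2⟩ := hgen _ hcomp hx ξ isGenericPoint_closure
    refine ⟨h1, ?_⟩
    obtain ⟨tξ, htξ, hdimξ⟩ := Groth.Agent.H1.DimFormula.fibreDimAt_eq_trdeg_of_generic f ξ
      (fun x' _ hsp =>
        Groth.Agent.H1.DimIneq.eq_of_specializes_of_stalk_dim_eq_zero ξ x' h0 hsp)
    rw [hdimξ] at h2
    have : tξ = d := by exact_mod_cast h2
    unfold Dual3.resTrdeg
    rw [htξ, this]
  have key := Groth.Agent.H1.DimLoc.stalk_dim_add_resTrdeg_le' f z hN (d : Cardinal.{u})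
    (fun ξ hξ h0 => (hgen' ξ hξ h0).2.le)
  rw [Groth.Agent.H1.DimIneq.toENat_resTrdeg_of_eq_natCast f z tz htz] at key
  -- `1 ≤ dim O_{X,z}`
  obtain ⟨ξ, hξz, hξ0⟩ := Groth.Agent.H1.GenPts.exists_generization_stalk_dim_eq_zero z
  have hne : ξ ≠ z := by
    intro h
    exact (hgen' ξ hξz hξ0).1 (by rw [h, hfz])
  have h1 := Groth.Agent.H1.GenPts.one_le_stalk_dim_of_specializes_ne hξz hne
  rw [← hzdim, hdimz]
  have key' : ringKrullDim (X.presheaf.stalk z) + (tz : WithBot ℕ∞) ≤
      ringKrullDim (Y.presheaf.stalk (f z)) + (d : WithBot ℕ∞) := by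
    simpa using key
  have hstalk : ringKrullDim (Y.presheaf.stalk (f z)) = ringKrullDim (Y.presheaf.stalk (f x)) := by
    rw [hfz]
  rw [hstalk] at key'
  calc (tz : WithBot ℕ∞) + 1 = 1 + (tz : WithBot ℕ∞) := add_comm _ _
    _ ≤ ringKrullDim (X.presheaf.stalk z) + (tz : WithBot ℕ∞) := by gcongr
    _ ≤ ringKrullDim (Y.presheaf.stalk (f x)) + (d : WithBot ℕ∞) := key'
    _ = _ := add_comm _ _

end Groth.Agent.S1553
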