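import Groth.Statements.S15533
import Mathlib
import Groth.Agent.Lib.Lead.FF.H0Etale
import Groth.Agent.Lib.Helper1.SmoothGeom

set_option autoImplicit false
universe u
open OmegaSh

namespace Groth.Agent.S15533

open CategoryTheory AlgebraicGeometry in
/-- For a field k and a smooth proper k-scheme X with structure morphism f, the derivation d : O_X →
Ω_{X/k} of f vanishes on global functions: d(s) = 0 in Γ(X, Ω_{X/k}) for every s ∈ Γ(X, O_X). -/
theorem result (k : Type u) [Field k] (X : Scheme.{u})
    (f : X ⟶ Spec (CommRingCat.of k)) [IsProper f] [Smooth f] (s : Γ(X, ⊤)) :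
    (OmegaSh.dOmega f).app ⊤ s = 0 := by
  haveI : GeometricallyReduced f := by
    rw [geometricallyReduced_iff]
    intro K _ y Z fst snd h
    haveI : Smooth snd := MorphismProperty.of_isPullback h inferInstance
    exact Groth.Agent.H1.SmoothGeom.isReduced_of_smooth_field K snd
  obtain ⟨P, hPsep, hP0⟩ := Groth.Agent.LD.FF.exists_separable_eval₂_eq_zero f s
  letI : Algebra k Γ(X, ⊤) := (Coh.toGlobal f).toAlgebra
  refine Groth.Agent.LD.FF.map_eq_zero_of_separable (k := k) ((OmegaSh.dOmega f).app ⊤) ?_ ?_ s P hPsep ?_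
  · intro a b
    exact (OmegaSh.dOmega f).d_mul (X := Opposite.op ⊤) a b
  · intro c
    exact (OmegaSh.dOmega f).d_app (X := Opposite.op ⊤) ((Scheme.ΓSpecIso (CommRingCat.of k)).inv c)
  · rw [Polynomial.aeval_def]
    exact hP0

end Groth.Agent.S15533
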