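import Groth.Statements.S1554
import Mathlib
import Groth.Agent.Lib.Helper1.DimLocC
import Groth.Agent.Lib.Helper1.FibGen
import Groth.Agent.Lib.Helper1.GenPts
import Groth.Agent.Lib.Helper1.Chev2

set_option autoImplicit false
universe u
open CategoryTheory CategoryTheory.Limits AlgebraicGeometry
open Variety

namespace Groth.Agent.S1554

/-- Let f : X → Y be locally of finite type, x a point with image y such that the local ring of Y at y
is Noetherian of dimension at most one, and d a natural number such that the local fibre dimension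
is d at the generic points of the irreducible components of X passing through x. Then the local
dimension at x of the fibre over y equals d. -/
theorem result {X Y : Scheme.{u}} (f : X ⟶ Y) [LocallyOfFiniteType f]
    (x : X) [IsNoetherianRing (Y.presheaf.stalk (f.base x))] (hdimY : ringKrullDim (Y.presheaf.stalk (f.base x)) ≤ 1) (d : ℕ)
    (hgen : ∀ Z ∈ irreducibleComponents (X : Type u), x ∈ Z → ∀ η : X, IsGenericPoint η Z → FlatMor.fibreDimAt f η = d) :
    FlatMor.fibreDimAt f x = d := by
  -- generic points through `x`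
  have hgen' : ∀ ξ : X, ξ ⤳ x → ringKrullDim (X.presheaf.stalk ξ) = 0 →
      FlatMor.fibreDimAt f ξ = d ∧ Dual3.resTrdeg f ξ = (d : Cardinal.{u}) := by
    intro ξ hξ h0
    have hcomp := Groth.Agent.H1.GenPts.closure_mem_irreducibleComponents_of_stalk_dim_eq_zero ξ h0
    have hx : x ∈ closure ({ξ} : Set X) := specializes_iff_mem_closure.1 hξ
    have h2 := hgen _ hcomp hx ξ isGenericPoint_closure
    refine ⟨h2, ?_⟩
    obtain ⟨tξ, htξ, hdimξ⟩ := Groth.Agent.H1.DimFormula.fibreDimAt_eq_trdeg_of_generic f ξ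
      (fun x' _ hsp =>
        Groth.Agent.H1.DimIneq.eq_of_specializes_of_stalk_dim_eq_zero ξ x' h0 hsp)
    rw [hdimξ] at h2
    have : tξ = d := by exact_mod_cast h2
    unfold Dual3.resTrdeg
    rw [htξ, this]
  apply le_antisymm
  · -- `≤ d`
    obtain ⟨z, hfz, hzx, hzmax, hzdim⟩ :=
      Groth.Agent.H1.FibGen.exists_fibre_generic_fibreDimAt_eq f x
    obtain ⟨tz, htz, hdimz⟩ := Groth.Agent.H1.DimFormula.fibreDimAt_eq_trdeg_of_generic f z
      (fun x' hx' hsp => hzmax x' (hx'.trans hfz) hsp)
    rw [← hzdim]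
    obtain ⟨ξ, hξz, hξ0⟩ := Groth.Agent.H1.GenPts.exists_generization_stalk_dim_eq_zero z
    by_cases hξeq : ξ = z
    · rw [← hξeq]
      exact (hgen' ξ (hξz.trans hzx) hξ0).1.le
    · have h1 := Groth.Agent.H1.GenPts.one_le_stalk_dim_of_specializes_ne hξz hξeq
      have hN : IsNoetherianRing (Y.presheaf.stalk (f z)) := by
        rw [hfz]; infer_instance
      have key := Groth.Agent.H1.DimLoc.stalk_dim_add_resTrdeg_le' f z hN (d : Cardinal.{u})
        (fun ξ' hξ' h0 => (hgen' ξ' (hξ'.trans hzx) h0).2.le)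
      rw [Groth.Agent.H1.DimIneq.toENat_resTrdeg_of_eq_natCast f z tz htz] at key
      have key' : ringKrullDim (X.presheaf.stalk z) + (tz : WithBot ℕ∞) ≤
          ringKrullDim (Y.presheaf.stalk (f z)) + (d : WithBot ℕ∞) := by
        simpa using key
      have hstalk : ringKrullDim (Y.presheaf.stalk (f z)) =
          ringKrullDim (Y.presheaf.stalk (f x)) := by rw [hfz]
      rw [hstalk] at key'
      have h3 : (1 : WithBot ℕ∞) + (tz : WithBot ℕ∞) ≤ 1 + (d : WithBot ℕ∞) :=
        calc (1 : WithBot ℕ∞) + (tz : WithBot ℕ∞)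
            ≤ ringKrullDim (X.presheaf.stalk z) + (tz : WithBot ℕ∞) := by gcongr
          _ ≤ ringKrullDim (Y.presheaf.stalk (f x)) + (d : WithBot ℕ∞) := key'
          _ ≤ 1 + (d : WithBot ℕ∞) := by gcongr
      rw [hdimz]
      have h4 : (1 + tz : ℕ) ≤ (1 + d : ℕ) := by exact_mod_cast h3
      have h5 : tz ≤ d := by omega
      exact_mod_cast h5
  · -- `d ≤`
    obtain ⟨ξ, hξx, hξ0⟩ := Groth.Agent.H1.GenPts.exists_generization_stalk_dim_eq_zero x
    have hξd := (hgen' ξ hξx hξ0).1
    by_contra hcon
    push Not at hcon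
    have h0 := Groth.Agent.H1.Chev.zero_le_fibreDimAt f x
    -- `fibreDimAt f x` is a natural number `m < d`
    obtain ⟨m, hm⟩ : ∃ m : ℕ, FlatMor.fibreDimAt f x = m := by
      induction hfx : FlatMor.fibreDimAt f x with
      | bot => rw [hfx] at h0; exact absurd h0 (by simp)
      | coe a =>
        induction a with
        | top =>
          rw [hfx] at hcon
          exact absurd hcon (by simp)
        | coe n => exact ⟨n, rfl⟩
    have hopen := Groth.Agent.H1.Chev.isOpen_fibreDimAt_le f m
    have hxm : x ∈ {x : X | FlatMor.fibreDimAt f x ≤ m} := hm.le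
    have hξm : FlatMor.fibreDimAt f ξ ≤ m := hξx.mem_open hopen hxm
    rw [hξd] at hξm
    rw [hm] at hcon
    exact absurd (lt_of_le_of_lt hξm hcon) (lt_irrefl _)

end Groth.Agent.S1554
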