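import Groth.Statements.S15545
import Groth.Agent.Lib.Helper2.ProConsLib

set_option autoImplicit false
open CategoryTheory AlgebraicGeometry
universe u
open FDesc

namespace Groth.Agent.S15545

/-- Let f : X' ⟶ X be flat, quasi-compact and surjective, and Z a pro-constructible subset of X (locally
on X an intersection of locally constructible subsets) which is dense in X. Then the preimage of Z
under f is dense in X'. -/
theorem result {X' X : Scheme.{u}} (f : X' ⟶ X)
    [Flat f] [QuasiCompact f] [Surjective f] (Z : Set X) (hZ : ProCons.IsProConstructible Z)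
    (hd : Dense Z) : Dense (f.base ⁻¹' Z) := by
  -- every maximal point of X lies in Z
  have hmax : ∀ η : X, (∀ y : X, y ⤳ η → y = η) → η ∈ Z := by
    intro η hη
    obtain ⟨z, hzZ, hz⟩ := Groth.Agent.H2.ProConsLib.exists_specializes_of_mem_closure hZ
      (hd.closure_eq ▸ Set.mem_univ η : η ∈ closure Z)
    rw [← hη z hz]; exact hzZ
  rw [dense_iff_inter_open]
  intro O hO ⟨x, hxO⟩
  obtain ⟨ξ, hξx, hξ⟩ := Groth.Agent.H2.ProConsLib.exists_maximal_generization x
  refine ⟨ξ, hξx.mem_open hO hxO, ?_⟩
  apply hmax
  intro y hy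
  obtain ⟨ξ', hξ', rfl⟩ := Flat.generalizingMap f hy
  rw [hξ ξ' hξ']

end Groth.Agent.S15545
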