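import Groth.Statements.S15546
import Mathlib

set_option autoImplicit false
open scoped TensorProduct
universe u
open Unram

namespace Groth.Agent.S15546

/-- Let E be a finite extension of a field k which is not separable over k, and K an algebraic closure
of k. Then E ⊗_k K has a nonzero nilpotent element. -/
theorem result (k E K : Type u) [Field k] [Field E]
    [Algebra k E] [FiniteDimensional k E] [Field K] [Algebra k K] [IsAlgClosure k K]
    (h : ¬ Algebra.IsSeparable k E) : ∃ x : E ⊗[k] K, x ≠ 0 ∧ IsNilpotent x := by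
  have : IsAlgClosed K := IsAlgClosure.isAlgClosed k
  rw [Algebra.isSeparable_def] at h
  push Not at h
  obtain ⟨α, hα⟩ := h
  have hint : IsIntegral k α := Algebra.IsIntegral.isIntegral α
  set f := minpoly k α with hf
  have hfsep : ¬ f.Separable := hα
  have hf0 : f ≠ 0 := minpoly.ne_zero hint
  have hfK : ¬ (f.map (algebraMap k K)).Separable := by rwa [Polynomial.separable_map]
  have hfK0 : f.map (algebraMap k K) ≠ 0 := (Polynomial.map_ne_zero_iff (algebraMap k K).injective).2 hf0
  rw [PerfectField.separable_iff_squarefree] at hfK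
  -- not squarefree
  rw [Squarefree] at hfK
  push Not at hfK
  obtain ⟨g, ⟨c, hc⟩, hgu⟩ := hfK
  -- f.map = g * g * c
  have hg0 : g ≠ 0 := by rintro rfl; apply hfK0; rw [hc]; simp
  have hc0 : c ≠ 0 := by rintro rfl; apply hfK0; rw [hc]; simp
  have hgdeg : 0 < g.natDegree := by
    rw [Polynomial.natDegree_pos_iff_degree_pos]
    exact Polynomial.degree_pos_of_ne_zero_of_nonunit hg0 hgu
  set q := g * c with hq
  have hq0 : q ≠ 0 := mul_ne_zero hg0 hc0
  set d := f.natDegree with hd
  have hqdeg : q.natDegree < d := by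
    have : (f.map (algebraMap k K)).natDegree = d := Polynomial.natDegree_map _
    rw [← this, hc, mul_assoc, Polynomial.natDegree_mul hg0 hq0]
    omega
  -- work in K ⊗ E
  let β : K ⊗[k] E := 1 ⊗ₜ α
  have hβ : Polynomial.aeval β (f.map (algebraMap k K)) = 0 := by
    rw [Polynomial.aeval_map_algebraMap]
    have : β = (Algebra.TensorProduct.includeRight : E →ₐ[k] K ⊗[k] E) α := rfl
    rw [this, Polynomial.aeval_algHom_apply, hf, minpoly.aeval, map_zero]
  have hli : LinearIndependent K (fun i : Fin d => (1 : K) ⊗ₜ[k] (α ^ (i : ℕ))) :=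
    Module.Flat.linearIndependent_one_tmul (linearIndependent_pow α)
  have hx0 : Polynomial.aeval β q ≠ 0 := by
    intro h0
    apply hq0
    rw [Polynomial.as_sum_range' q d hqdeg] at h0
    rw [map_sum] at h0
    have h1 : ∑ i : Fin d, q.coeff i • ((1 : K) ⊗ₜ[k] (α ^ (i : ℕ))) = 0 := by
      rw [← h0, ← Fin.sum_univ_eq_sum_range (fun i => Polynomial.aeval β (Polynomial.monomial i (q.coeff i))) d]
      apply Finset.sum_congr rfl
      intro i _
      rw [Polynomial.aeval_monomial, Algebra.smul_def]
      congr 1
      simp [β, Algebra.TensorProduct.tmul_pow]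
    have h2 := Fintype.linearIndependent_iff.1 hli (fun i => q.coeff i) h1
    ext i
    by_cases hi : i < d
    · exact h2 ⟨i, hi⟩
    · rw [Polynomial.coeff_eq_zero_of_natDegree_lt (by omega)]; simp
  have hnil : (Polynomial.aeval β q) ^ 2 = 0 := by
    have : q ^ 2 = f.map (algebraMap k K) * c := by rw [hc, hq]; ring
    rw [← map_pow, this, map_mul, hβ, zero_mul]
  refine ⟨(Algebra.TensorProduct.comm k K E) (Polynomial.aeval β q), ?_, ?_⟩
  · intro h0
    exact hx0 ((Algebra.TensorProduct.comm k K E).injective (by rw [h0, map_zero]))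
  · exact ⟨2, by rw [← map_pow, hnil, map_zero]⟩

end Groth.Agent.S15546
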