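import Groth.Statements.S15557
-- import your own Groth.Agent.* helpers here

set_option autoImplicit false
universe v u
open CategoryTheory
open CohDer

namespace Groth.Agent.S15557

open CategoryTheory.Pretriangulated in
/-- Let T = (X, Y, Z) and T' = (X', Y', Z') be distinguished triangles in a pretriangulated category and
assume that every morphism X → Z' and every morphism X → Z'[-1] is zero. Then composing with the
first map X' → Y' of T' is a bijection Hom(X, X') → Hom(X, Y'), and composing with the second map Y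
→ Z of T is a bijection Hom(Z, Z') → Hom(Y, Z'). (The published lemma is for triangulated
categories; the octahedral axiom plays no role.) -/
theorem result {D : Type u} [Category.{v} D] [Preadditive D]
    [Limits.HasZeroObject D] [HasShift D ℤ] [∀ n : ℤ, (shiftFunctor D n).Additive] [Pretriangulated D]
    (T T' : Triangle D) (hT : T ∈ distinguishedTriangles) (hT' : T' ∈ distinguishedTriangles)
    (hXZ : ∀ u : T.obj₁ ⟶ T'.obj₃, u = 0)
    (hXZ' : ∀ u : T.obj₁ ⟶ (shiftFunctor D (-1 : ℤ)).obj T'.obj₃, u = 0) :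
    Function.Bijective (fun u : T.obj₁ ⟶ T'.obj₁ => u ≫ T'.mor₁) ∧
      Function.Bijective (fun w : T.obj₃ ⟶ T'.obj₃ => T.mor₂ ≫ w) := by
  constructor
  · constructor
    · intro u u' huu'
      have h0 : (u - u') ≫ T'.mor₁ = 0 := by
        rw [Preadditive.sub_comp]
        exact sub_eq_zero.2 huu'
      have hR := inv_rot_of_distTriang _ hT'
      obtain ⟨t, ht, hex⟩ : ∃ (t : (shiftFunctor D (-1 : ℤ)).obj T'.obj₃ ⟶ T'.obj₁),
          t ≫ T'.mor₁ = 0 ∧ ∀ g : T.obj₁ ⟶ T'.obj₁, g ≫ T'.mor₁ = 0 →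
            ∃ ξ : T.obj₁ ⟶ (shiftFunctor D (-1 : ℤ)).obj T'.obj₃, g = ξ ≫ t :=
        ⟨T'.invRotate.mor₁, comp_distTriang_mor_zero₁₂ _ hR,
          fun g hg => Triangle.coyoneda_exact₂ _ hR g hg⟩
      obtain ⟨ξ, hξ⟩ := hex _ h0
      rw [hXZ' ξ, Limits.zero_comp] at hξ
      exact sub_eq_zero.1 hξ
    · intro y
      have h0 : y ≫ T'.mor₂ = 0 := hXZ _
      obtain ⟨x, hx⟩ := Triangle.coyoneda_exact₂ _ hT' y h0
      exact ⟨x, hx.symm⟩
  · constructor
    · intro w w' hww'
      have h0 : T.mor₂ ≫ (w - w') = 0 := by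
        rw [Preadditive.comp_sub]
        exact sub_eq_zero.2 hww'
      obtain ⟨g, hg⟩ := Triangle.yoneda_exact₃ _ hT (w - w') h0
      have hg0 : g = 0 := by
        let e : (shiftFunctor D (1 : ℤ)).obj ((shiftFunctor D (-1 : ℤ)).obj T'.obj₃) ≅ T'.obj₃ :=
          (shiftFunctorCompIsoId D (-1 : ℤ) 1 (by omega)).app T'.obj₃
        obtain ⟨β, hβ⟩ := (shiftFunctor D (1 : ℤ)).map_surjective (g ≫ e.inv)
        rw [hXZ' β, Functor.map_zero] at hβ
        rw [← cancel_mono e.inv, Limits.zero_comp, ← hβ]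
      rw [hg0, Limits.comp_zero] at hg
      exact sub_eq_zero.1 hg
    · intro y
      have h0 : T.mor₁ ≫ y = 0 := hXZ _
      obtain ⟨z, hz⟩ := Triangle.yoneda_exact₂ _ hT y h0
      exact ⟨z, hz.symm⟩

end Groth.Agent.S15557
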