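import Groth.Statements.S1559
import Groth.Agent.Lib.Helper3.GeomSepCl

set_option autoImplicit false
universe u
open CategoryTheory CategoryTheory.Limits AlgebraicGeometry
open Variety

namespace Groth.Agent.S1559

/-- A scheme X over a field k is geometrically connected as soon as its base change to a separable
algebraic closure of k is connected. -/
theorem result (k : Type u) [Field k] (X : Scheme.{u}) [X.Over (Spec (CommRingCat.of k))]
    [ConnectedSpace (Curv2.bc k X (SeparableClosure k))] :
    GeometricallyConnected (X ↘ (Spec (CommRingCat.of k))) := by
  haveI : ConnectedSpace ↥(FBase.bc (X ↘ (Spec (CommRingCat.of k))) (SeparableClosure k)) :=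
    inferInstanceAs (ConnectedSpace (Curv2.bc k X (SeparableClosure k)))
  exact Groth.Agent.H3.GeomSepCl.geometricallyConnected_of_sepClosed (X ↘ (Spec (CommRingCat.of k))) (SeparableClosure k)

end Groth.Agent.S1559
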