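import Groth.Statements.S15590
import Mathlib

set_option autoImplicit false
universe u v
open CAlg

namespace Groth.Agent.S15590

/-- Let A → B be an injective homomorphism of commutative rings which makes B a finite flat A-module,
and suppose B is a Dedekind domain (Noetherian, integrally closed, of Krull dimension at most one; a
field is allowed). Then A is a Dedekind domain. -/
theorem result (A : Type u) (B : Type v)
    [CommRing A] [CommRing B] [Algebra A B] [IsDedekindDomain B]
    (hinj : Function.Injective (algebraMap A B)) [Module.Finite A B] [Module.Flat A B] :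
    IsDedekindDomain A := by
  haveI : IsDomain A := hinj.isDomain (algebraMap A B)
  haveI : FaithfulSMul A B := (faithfulSMul_iff_algebraMap_injective A B).2 hinj
  haveI : Algebra.IsIntegral A B := inferInstance
  haveI : Module.FaithfullyFlat A B := inferInstance
  haveI : IsNoetherianRing A := by
    have h : IsNoetherian B (TensorProduct A B A) :=
      isNoetherian_of_linearEquiv (TensorProduct.AlgebraTensorModule.rid A B B).symm
    exact Submodule.IsNoetherian.of_isNoetherian_tensorProduct_of_faithfullyFlat (A := B) h
  have hker : RingHom.ker (algebraMap A B) = ⊥ := (RingHom.injective_iff_ker_eq_bot _).1 hinj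
  have hdim : Ring.DimensionLEOne A := by
    constructor
    intro p hp0 hp
    obtain ⟨P, hPprime, hPover⟩ :=
      Ideal.exists_ideal_over_prime_of_isIntegral_of_isDomain p (S := B) (by simp [hker])
    have hP0 : P ≠ ⊥ := by
      rintro rfl
      apply hp0
      rw [← hPover, Ideal.comap_bot_of_injective _ hinj]
    have hPmax : P.IsMaximal := Ring.DimensionLEOne.maximalOfPrime hP0 hPprime
    rw [← hPover]
    exact Ideal.isMaximal_comap_of_isIntegral_of_isMaximal P
  haveI : IsDedekindRing A := by
    rw [isDedekindRing_iff (A := A) (FractionRing A)]
    refine ⟨inferInstance, hdim, @fun x hx => ?_⟩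
    let K := FractionRing A
    let L := FractionRing B
    have hle : nonZeroDivisors A ≤ (nonZeroDivisors B).comap (algebraMap A B) :=
      nonZeroDivisors_le_comap_nonZeroDivisors_of_injective _ hinj
    let φ : K →+* L := IsLocalization.map L (algebraMap A B) hle
    have hφ : ∀ a : A, φ (algebraMap A K a) = algebraMap B L (algebraMap A B a) :=
      fun a => IsLocalization.map_eq hle a
    have hint : IsIntegral B (φ x) :=
      IsIntegral.map_of_comp_eq (algebraMap A B) φ (by ext a; simp [hφ]) hx
    obtain ⟨b, hb⟩ := IsIntegrallyClosed.isIntegral_iff.1 hint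
    obtain ⟨a, s, hs, rfl⟩ := IsFractionRing.div_surjective (A := A) x
    have hs0 : s ≠ 0 := nonZeroDivisors.ne_zero hs
    have hsB : algebraMap B L (algebraMap A B s) ≠ 0 := by
      intro h0
      apply hs0
      apply hinj
      apply IsFractionRing.injective B L
      rw [h0, map_zero, map_zero]
    -- a = s * b in B
    have hab : algebraMap A B a = algebraMap A B s * b := by
      apply IsFractionRing.injective B L
      rw [map_mul, hb, map_div₀, hφ, hφ, mul_div_cancel₀ _ hsB]
    -- a ∈ (s) B ∩ A = (s)
    have hmem : a ∈ (Ideal.span {s} : Ideal A) := by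
      rw [← Ideal.comap_map_eq_self_of_faithfullyFlat (B := B) (Ideal.span {s}), Ideal.mem_comap,
        Ideal.map_span, Set.image_singleton, hab]
      exact Ideal.mul_mem_right _ _ (Ideal.subset_span rfl)
    obtain ⟨a', rfl⟩ := Ideal.mem_span_singleton'.1 hmem
    refine ⟨a', ?_⟩
    have hsK : algebraMap A (FractionRing A) s ≠ 0 := by
      intro h0
      apply hs0
      apply IsFractionRing.injective A (FractionRing A)
      rw [h0, map_zero]
    rw [map_mul, mul_div_assoc, div_self hsK, mul_one]
  infer_instance

end Groth.Agent.S15590
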