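import Groth.Statements.S15595
import Groth.Agent.Lib.Helper1.RegFlat

set_option autoImplicit false
universe u
open TensorProduct
attribute [local instance] RingHom.ker_isPrime
open CAlg

namespace Groth.Agent.S15595

section
variable (k K A : Type u) [Field k] [Field K] [Algebra k K] [CommRing A] [Algebra k A]
  [IsLocalRing A] (π : A →ₐ[k] k) (hπ : RingHom.ker π = IsLocalRing.maximalIdeal A)

/-- the residue map `A ⊗ K → K`. -/
noncomputable def psi : A ⊗[k] K →ₐ[k] K :=
  Algebra.TensorProduct.lift ((Algebra.ofId k K).comp π) (AlgHom.id k K) (fun _ _ => Commute.all _ _)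

theorem psi_tmul (a : A) (c : K) : psi k K A π (a ⊗ₜ c) = algebraMap k K (π a) * c := by
  simp [psi, Algebra.ofId_apply]

include hπ in
theorem sub_mem_map (x : A ⊗[k] K) :
    x - (1 : A) ⊗ₜ[k] (psi k K A π x) ∈
      (IsLocalRing.maximalIdeal A).map (algebraMap A (A ⊗[k] K)) := by
  induction x using TensorProduct.induction_on with
  | zero => simp
  | tmul a c =>
    rw [psi_tmul]
    have h1 : (1 : A) ⊗ₜ[k] (algebraMap k K (π a) * c) = (algebraMap k A (π a)) ⊗ₜ[k] c := by
      rw [Algebra.algebraMap_eq_smul_one, Algebra.algebraMap_eq_smul_one, smul_mul_assoc, one_mul,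
        TensorProduct.tmul_smul, TensorProduct.smul_tmul']
    rw [h1, ← TensorProduct.sub_tmul]
    have h2 : a - algebraMap k A (π a) ∈ IsLocalRing.maximalIdeal A := by
      rw [← hπ, RingHom.mem_ker, map_sub, AlgHom.commutes]
      simp
    have h3 : (a - algebraMap k A (π a)) ⊗ₜ[k] c =
        algebraMap A (A ⊗[k] K) (a - algebraMap k A (π a)) * ((1 : A) ⊗ₜ[k] c) := by
      rw [Algebra.TensorProduct.algebraMap_apply, Algebra.TensorProduct.tmul_mul_tmul]
      simp
    rw [h3]
    exact Ideal.mul_mem_right _ _ (Ideal.mem_map_of_mem _ h2)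
  | add x y hx hy =>
    have : x + y - (1 : A) ⊗ₜ[k] (psi k K A π (x + y)) =
        (x - (1 : A) ⊗ₜ[k] (psi k K A π x)) + (y - (1 : A) ⊗ₜ[k] (psi k K A π y)) := by
      rw [map_add, TensorProduct.tmul_add]; ring
    rw [this]
    exact Ideal.add_mem _ hx hy

include hπ in
theorem ker_psi_eq :
    RingHom.ker (psi k K A π) = (IsLocalRing.maximalIdeal A).map (algebraMap A (A ⊗[k] K)) := by
  apply le_antisymm
  · intro x hx
    have := sub_mem_map k K A π hπ x
    rw [RingHom.mem_ker] at hx
    rw [hx, TensorProduct.tmul_zero, sub_zero] at this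
    exact this
  · rw [Ideal.map_le_iff_le_comap]
    intro a ha
    rw [Ideal.mem_comap, RingHom.mem_ker, Algebra.TensorProduct.algebraMap_apply, psi_tmul]
    rw [← hπ, RingHom.mem_ker] at ha
    have : π a = 0 := ha
    simp [this]

end

/-- Let k ⊆ K be a field extension and A a Noetherian local k-algebra with residue field k, recorded by
a k-algebra map π : A → k whose kernel is the maximal ideal. Let π_K : K ⊗_k A → K be the induced
K-algebra map, m' its kernel, and A' the localization of K ⊗_k A at m'. Assume A' is Noetherian.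
Then A is a regular local ring if and only if A' is a regular local ring. -/
theorem result (k K A : Type u) [Field k] [Field K]
    [Algebra k K] [CommRing A] [Algebra k A] [IsLocalRing A] [IsNoetherianRing A]
    (π : A →ₐ[k] k) (hπ : RingHom.ker π = IsLocalRing.maximalIdeal A)
    [IsNoetherianRing (Localization.AtPrime (RingHom.ker
      ((Algebra.TensorProduct.rid k K K).toAlgHom.comp (Algebra.TensorProduct.map (AlgHom.id K K) π))))] :
    IsRegularLocalRing A ↔ IsRegularLocalRing (Localization.AtPrime (RingHom.ker
      ((Algebra.TensorProduct.rid k K K).toAlgHom.comp (Algebra.TensorProduct.map (AlgHom.id K K) π)))) := by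
  set φ := (Algebra.TensorProduct.rid k K K).toAlgHom.comp
    (Algebra.TensorProduct.map (AlgHom.id K K) π) with hφ
  let e : A ⊗[k] K ≃+* K ⊗[k] A := (Algebra.TensorProduct.comm k A K).toRingEquiv
  have hcomp : ∀ x, φ (e x) = psi k K A π x := by
    intro x
    induction x using TensorProduct.induction_on with
    | zero => simp
    | tmul a c =>
      rw [psi_tmul]
      simp [e, φ, Algebra.smul_def, mul_comm]
    | add x y hx hy => rw [map_add, map_add, hx, hy, map_add]
  set n : Ideal (A ⊗[k] K) := RingHom.ker (psi k K A π) with hn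
  have hnm : n = (RingHom.ker φ).comap e := by
    ext x
    rw [Ideal.mem_comap, RingHom.mem_ker, RingHom.mem_ker]
    rw [← hcomp]
  haveI : n.IsPrime := RingHom.ker_isPrime _
  let E : Localization.AtPrime n ≃+* Localization.AtPrime (RingHom.ker φ) :=
    Localization.localRingEquiv n (RingHom.ker φ) e hnm
  haveI : IsNoetherianRing (Localization.AtPrime n) := isNoetherianRing_of_ringEquiv _ E.symm
  have hnmap : n = (IsLocalRing.maximalIdeal A).map (algebraMap A (A ⊗[k] K)) :=
    ker_psi_eq k K A π hπ
  haveI : IsLocalHom (algebraMap A (Localization.AtPrime n)) := by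
    constructor
    intro a ha
    by_contra hna
    have h1 : a ∈ IsLocalRing.maximalIdeal A := (IsLocalRing.mem_maximalIdeal a).mpr hna
    have h2 : algebraMap A (A ⊗[k] K) a ∈ n := by
      rw [hnmap]; exact Ideal.mem_map_of_mem _ h1
    have h3 := (IsLocalization.AtPrime.to_map_mem_maximal_iff (Localization.AtPrime n) n _).mpr h2
    rw [← IsScalarTower.algebraMap_apply] at h3
    exact ((IsLocalRing.mem_maximalIdeal _).mp h3) ha
  haveI : Module.Flat A (Localization.AtPrime n) := Module.Flat.trans A (A ⊗[k] K) _
  have hmax : (IsLocalRing.maximalIdeal A).map (algebraMap A (Localization.AtPrime n)) =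
      IsLocalRing.maximalIdeal (Localization.AtPrime n) := by
    rw [← Localization.AtPrime.map_eq_maximalIdeal]
    have h0 : Ideal.map (algebraMap (A ⊗[k] K) (Localization.AtPrime n)) n =
        Ideal.map (algebraMap (A ⊗[k] K) (Localization.AtPrime n))
          ((IsLocalRing.maximalIdeal A).map (algebraMap A (A ⊗[k] K))) :=
      congrArg (Ideal.map (algebraMap (A ⊗[k] K) (Localization.AtPrime n))) hnmap
    rw [h0, Ideal.map_map, ← IsScalarTower.algebraMap_eq]
  constructor
  · intro h
    haveI := Groth.Agent.H1.RegFlat.isRegularLocalRing_of_flat_of_map_eq A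
      (Localization.AtPrime n) hmax
    exact IsRegularLocalRing.of_ringEquiv (R := Localization.AtPrime n) E
  · intro h
    haveI : IsRegularLocalRing (Localization.AtPrime n) :=
      IsRegularLocalRing.of_ringEquiv (R := Localization.AtPrime (RingHom.ker φ)) E.symm
    exact Groth.Agent.H1.Reg.isRegularLocalRing_of_flat A (Localization.AtPrime n)

end Groth.Agent.S15595
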