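import Groth.Statements.S15612
import Groth.Agent.Lib.Helper8.SchFin.Epi
import Groth.Agent.Lib.Helper8.SchFin.FlatEpi
-- import your own Groth.Agent.* helpers here

set_option autoImplicit false
universe u
open SchFin SchFin.RSpace SchFin.RSpace.Pair

namespace Groth.Agent.S15612

open SchFin in
/-- In a schematic finite space, for a pair (x, P) below a pair (y, Q) (x ≤ y and P the contraction of
the prime Q along the restriction map of rings) the induced map of residue fields from that of (x,
P) to that of (y, Q) is bijective. -/
theorem result (X : RSpace.{u}) (hX : X.IsSchematic) (a b : X.Pair)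
    (h : a.1 ≤ b.1) (hp : PrimeSpectrum.comap (X.res h) b.2 = a.2) :
    Function.Bijective (RSpace.Pair.κMap a b h hp) := by
  have hbij := Groth.Agent.H8.SF.localRingHom_bijective_of_flat_of_isEpi' (X.res h)
    (hX.1.2 a.1 b.1 h)
    (fun T _ g₁ g₂ hg => Groth.Agent.H8.SF.ringHom_ext_of_comp_res_eq hX h g₁ g₂ hg)
    a.2.asIdeal b.2.asIdeal (by rw [← hp]; rfl)
  exact ⟨RingHom.injective _, Ideal.Quotient.lift_surjective_of_surjective _ _
    (Ideal.Quotient.mk_surjective.comp hbij.2)⟩

end Groth.Agent.S15612
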