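import Groth.Statements.S15706
import Groth.Agent.Lib.Helper8.PrimeAvoid
-- import your own Groth.Agent.* helpers here

set_option autoImplicit false
universe u
open CAlg

namespace Groth.Agent.S15706

/-- Let A be a Noetherian ring with Serre's property (S_1), stated here in the equivalent form that
every associated prime of A is a minimal prime of A. Let I be an ideal of A and b an element of A/I
which is regular (a non-zero-divisor) in A/I. Then b is the image of a regular element of A. -/
theorem result (A : Type u) [CommRing A]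
    [IsNoetherianRing A] (hS1 : ∀ p ∈ associatedPrimes A A, p ∈ minimalPrimes A) (I : Ideal A)
    (b : A ⧸ I) (hb : b ∈ nonZeroDivisors (A ⧸ I)) :
    ∃ a : A, a ∈ nonZeroDivisors A ∧ Ideal.Quotient.mk I a = b := by
  classical
  obtain ⟨b₀, rfl⟩ := Ideal.Quotient.mk_surjective b
  have hfin := associatedPrimes.finite A A
  have key := Groth.Agent.H8.exists_add_notMem_of_primes I b₀ hfin.toFinset ?_
  · obtain ⟨y, hyI, hy⟩ := key
    refine ⟨b₀ + y, ?_, ?_⟩
    · by_contra hmem
      have h2 : b₀ + y ∈ ((nonZeroDivisors A : Set A))ᶜ := hmem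
      rw [← biUnion_associatedPrimes_eq_compl_nonZeroDivisors] at h2
      simp only [Set.mem_iUnion] at h2
      obtain ⟨p, hp, hmemp⟩ := h2
      exact hy p (hfin.mem_toFinset.mpr hp) hmemp
    · rw [map_add, Ideal.Quotient.eq_zero_iff_mem.mpr hyI, add_zero]
  · intro p hp
    rw [Set.Finite.mem_toFinset] at hp
    have hpprime : p.IsPrime := hp.isPrime
    refine ⟨hpprime, ?_⟩
    intro hle
    have hIp : I ≤ p := le_sup_left.trans hle
    have hb₀ : b₀ ∈ p := hle (Ideal.mem_sup_right (Ideal.mem_span_singleton_self b₀))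
    have hpmin : p ∈ minimalPrimes A := hS1 p hp
    have hpI : p ∈ I.minimalPrimes := by
      refine ⟨⟨hpprime, hIp⟩, ?_⟩
      rintro q ⟨hq, _⟩ hqp
      exact hpmin.2 ⟨hq, bot_le⟩ hqp
    rw [Ideal.minimalPrimes_eq_comap] at hpI
    obtain ⟨p', hp', rfl⟩ := hpI
    exact notMem_nonZeroDivisors_of_mem_mem_minimalPrimes (show Ideal.Quotient.mk I b₀ ∈ p' from hb₀) hp' hb

end Groth.Agent.S15706
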