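import Groth.Statements.S15717
import Groth.Agent.Lib.Helper6.CMKit
import Groth.Agent.Lib.Helper6.DepthMax
import Groth.Agent.Lib.Helper6.DimLemmas

set_option autoImplicit false
universe u
open CAlg

namespace Groth.Agent.S15717

namespace Groth.Agent.S15717

open RingTheory.Sequence

theorem withBot_top_add_ne (n d : ℕ)
    (hd : ((⊤ : ℕ∞) : WithBot ℕ∞) + (n : WithBot ℕ∞) = (d : WithBot ℕ∞)) : False := by
  rw [← WithBot.coe_natCast, ← WithBot.coe_natCast, ← WithBot.coe_add, top_add,
    WithBot.coe_eq_coe] at hd
  exact absurd hd (by simp)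

theorem withBot_add_cancel (a b : WithBot ℕ∞) (n d : ℕ)
    (hd : a + (n : WithBot ℕ∞) = (d : WithBot ℕ∞))
    (h : a + (n : WithBot ℕ∞) = b + (n : WithBot ℕ∞)) : a = b := by
  rw [hd] at h
  induction a with
  | bot => rw [WithBot.bot_add] at hd; exact absurd hd (by simp)
  | coe a =>
    induction b with
    | bot => rw [WithBot.bot_add] at h; exact absurd h (by simp)
    | coe b =>
      induction a with
      | top => exact (withBot_top_add_ne n d hd).elim
      | coe a =>
        induction b with
        | top => exact (withBot_top_add_ne n d h.symm).elim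
        | coe b =>
          have h1 : a + n = d := by exact_mod_cast hd
          have h2 : d = b + n := by exact_mod_cast h
          have : a = b := by omega
          rw [this]

theorem main (R : Type u) [CommRing R]
    [LocCoh.IsCohenMacaulayLocalRing R] (I : Ideal R)
    (hI : ∀ p ∈ I.minimalPrimes, ringKrullDim (R ⧸ p) = ringKrullDim (R ⧸ I)) :
    ∃ rs : List R, RingTheory.Sequence.IsWeaklyRegular R rs ∧ Ideal.ofList rs ≤ I ∧
      ringKrullDim (R ⧸ Ideal.ofList rs) = ringKrullDim (R ⧸ I) ∧
      I.minimalPrimes ⊆ (Ideal.ofList rs).minimalPrimes := by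
  classical
  haveI : IsNoetherianRing R := inferInstance
  haveI : IsLocalRing R := inferInstance
  by_cases hItop : I = ⊤
  · subst hItop
    have h1 : Ideal.ofList [(1 : R)] = ⊤ := by
      rw [Ideal.ofList_singleton, Ideal.span_singleton_one]
    refine ⟨[1], ?_, le_top, by rw [h1], ?_⟩
    · rw [isWeaklyRegular_singleton_iff]
      exact IsSMulRegular.one R
    · rw [Ideal.minimalPrimes_top]
      exact Set.empty_subset _
  · have hM : LocCoh.IsCohenMacaulayModule R R :=
      LocCoh.IsCohenMacaulayLocalRing.supportDim_eq_depth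
    have hIM : I • (⊤ : Submodule R R) ≠ ⊤ := by
      rw [smul_eq_mul, Ideal.mul_top]; exact hItop
    obtain ⟨rs, -, hreg, hrsI, hmax⟩ := Groth.Agent.H6.Depth.exists_maximal_extension I R hIM []
      (IsWeaklyRegular.nil R R) (by simp)
    have hlen := Groth.Agent.H6.Depth.length_eq_idealDepth_of_maximal I R hIM rs hreg hrsI hmax
    have hdim := Groth.Agent.H6.CM.supportDim_eq_add_idealDepth R hM I hItop
    rw [← hlen] at hdim
    have hJI : Ideal.ofList rs ≤ I := Ideal.span_le.mpr hrsI
    have hJtop : Ideal.ofList rs ≠ ⊤ := fun h => hItop (top_le_iff.mp (h ▸ hJI))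
    have hregular : IsRegular R rs :=
      ⟨hreg, by rw [smul_eq_mul, Ideal.mul_top]; exact hJtop.symm⟩
    have h1 := ringKrullDim_add_length_eq_ringKrullDim_of_isRegular rs hregular
    have hIeq : (I • (⊤ : Submodule R R)) = I := by rw [smul_eq_mul, Ideal.mul_top]
    have h2 : ringKrullDim (R ⧸ I) + (rs.length : WithBot ℕ∞) = ringKrullDim R := by
      rw [← Module.supportDim_self_eq_ringKrullDim (R := R), hdim, ← Module.supportDim_quotient_eq_ringKrullDim,
        Module.supportDim_eq_of_equiv (Submodule.quotEquivOfEq _ _ hIeq)]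
      rfl
    obtain ⟨d, hd⟩ : ∃ d : ℕ, ringKrullDim R = d := by
      have hlt : ringKrullDim R < ⊤ := ringKrullDim_lt_top
      have hge : (0 : WithBot ℕ∞) ≤ ringKrullDim R := ringKrullDim_nonneg_of_nontrivial
      generalize ringKrullDim R = a at hlt hge
      induction a with
      | bot => exact absurd hge (by simp)
      | coe a =>
        induction a with
        | top => exact absurd hlt (lt_irrefl _)
        | coe n => exact ⟨n, rfl⟩
    have h3 : ringKrullDim (R ⧸ Ideal.ofList rs) = ringKrullDim (R ⧸ I) :=
      withBot_add_cancel _ _ rs.length d (h1.trans hd) (h1.trans h2.symm)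
    refine ⟨rs, hreg, hJI, h3, ?_⟩
    intro p hp
    haveI hpp : p.IsPrime := hp.1.1
    refine ⟨⟨hpp, hJI.trans hp.1.2⟩, ?_⟩
    intro q ⟨hq, hJq⟩ hqp
    by_contra hcon
    have hlt : q < p := lt_of_le_of_ne hqp (fun h => hcon (h ▸ le_rfl))
    haveI := hq
    have h4 := Groth.Agent.H6.Dim.ringKrullDim_quotient_add_one_le hlt
    have h5 : ringKrullDim (R ⧸ q) ≤ ringKrullDim (R ⧸ Ideal.ofList rs) :=
      ringKrullDim_le_of_surjective (Ideal.Quotient.factor hJq)
        (Ideal.Quotient.factor_surjective hJq)
    rw [hI p hp, ← h3] at h4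
    have h6 := h4.trans h5
    -- dim R/J is a natural number
    obtain ⟨e, he⟩ : ∃ e : ℕ, ringKrullDim (R ⧸ Ideal.ofList rs) = e := by
      have hle : ringKrullDim (R ⧸ Ideal.ofList rs) ≤ d := hd ▸ ringKrullDim_quotient_le _
      haveI : Nontrivial (R ⧸ Ideal.ofList rs) := Ideal.Quotient.nontrivial_iff.mpr hJtop
      have hge : (0 : WithBot ℕ∞) ≤ ringKrullDim (R ⧸ Ideal.ofList rs) :=
        ringKrullDim_nonneg_of_nontrivial
      generalize ringKrullDim (R ⧸ Ideal.ofList rs) = a at hle hge
      induction a with
      | bot => exact absurd hge (by simp)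
      | coe a =>
        induction a with
        | top => exact absurd hle (by
            rw [← WithBot.coe_natCast, WithBot.coe_le_coe]
            simp)
        | coe n => exact ⟨n, rfl⟩
    rw [he] at h6
    have h7 : ((e + 1 : ℕ) : WithBot ℕ∞) ≤ (e : WithBot ℕ∞) := by exact_mod_cast h6
    have h8 : e + 1 ≤ e := by exact_mod_cast h7
    omega

end Groth.Agent.S15717

/-- Let R be a Cohen–Macaulay local ring and I an ideal of R with R/I equidimensional (all minimal
primes p over I have the same dim R/p). Then there is a regular sequence r_1, ..., r_n in I such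
that the closed subscheme V(r_1, ..., r_n) of Spec R, a local complete intersection, contains V(I),
has the same dimension as V(I), and has the irreducible components of V(I) among its irreducible
components: dim R/(r_1, ..., r_n) = dim R/I and every minimal prime over I is a minimal prime over
(r_1, ..., r_n). The sequence is asked to be weakly regular (each r_i a non-zero-divisor modulo the
previous ones), which for I proper is the same as regular and which also covers I = R with the
sequence (1). -/
theorem result (R : Type u) [CommRing R]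
    [LocCoh.IsCohenMacaulayLocalRing R] (I : Ideal R)
    (hI : ∀ p ∈ I.minimalPrimes, ringKrullDim (R ⧸ p) = ringKrullDim (R ⧸ I)) :
    ∃ rs : List R, RingTheory.Sequence.IsWeaklyRegular R rs ∧ Ideal.ofList rs ≤ I ∧
      ringKrullDim (R ⧸ Ideal.ofList rs) = ringKrullDim (R ⧸ I) ∧
      I.minimalPrimes ⊆ (Ideal.ofList rs).minimalPrimes := by
  exact Groth.Agent.S15717.main R I hI

end Groth.Agent.S15717
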