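import Groth.Statements.S15737
import Mathlib.Tactic
-- import your own Groth.Agent.* helpers here

set_option autoImplicit false
open W4c2invhilbsl2

namespace Groth.Agent.S15737

/-- For a monomial X₀^d₀X₁^d₁X₂^d₂ of the polynomial ring in X₀, X₁, X₂ (X₂ standing for Xⱼ, j = 3 or 4,
of the five-variable ring) put n = d₀ − p·d₁ + q·d₂ (its weight for the torus diag(t, t^(−p), t^q)),
c = d₁ − d₂ and ω = p·d₁ − q·d₂, so that d₀ = n + ω; here 0 < p < q are coprime integers. Then n + ω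
< q − p, that is d₀ < q − p, holds if and only if ω is the least value of ω among all monomials with
the same pair (n, c). -/
theorem result (p q : ℕ) (hp : 0 < p) (hpq : p < q) (hcop : Nat.Coprime p q) (d0 d1 d2 : ℕ) :
    d0 < q - p ↔
      ∀ e0 e1 e2 : ℕ, (e0 : ℤ) - (p : ℤ) * e1 + (q : ℤ) * e2 = (d0 : ℤ) - (p : ℤ) * d1 + (q : ℤ) * d2 → (e1 : ℤ) - e2 = (d1 : ℤ) - d2 →
        (p : ℤ) * d1 - (q : ℤ) * d2 ≤ (p : ℤ) * e1 - (q : ℤ) * e2 := by
  have hP : (0 : ℤ) < p := by exact_mod_cast hp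
  have hPQ : (p : ℤ) < q := by exact_mod_cast hpq
  constructor
  · intro hd e0 e1 e2 hn hc
    have hd' : (d0 : ℤ) < q - p := by
      have : ((d0 : ℕ) : ℤ) < ((q - p : ℕ) : ℤ) := by exact_mod_cast hd
      rwa [Nat.cast_sub hpq.le] at this
    by_contra hlt
    push Not at hlt
    -- t = e1 - d1 = e2 - d2
    obtain ⟨t, ht⟩ : ∃ t : ℤ, t = (e1 : ℤ) - d1 := ⟨_, rfl⟩
    have ht2 : t = (e2 : ℤ) - d2 := by linarith
    have h1 : (p : ℤ) * e1 - q * e2 = (p : ℤ) * d1 - q * d2 - (q - p) * t := by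
      rw [ht]
      have : (e2 : ℤ) = d2 + ((e1 : ℤ) - d1) := by linarith
      rw [this]; ring
    have htpos : 0 < ((q : ℤ) - p) * t := by linarith
    have ht1 : 1 ≤ t := by
      by_contra h
      push Not at h
      have : ((q : ℤ) - p) * t ≤ 0 := mul_nonpos_of_nonneg_of_nonpos (by omega) (by omega)
      linarith
    have : ((q : ℤ) - p) * 1 ≤ (q - p) * t := mul_le_mul_of_nonneg_left ht1 (by omega)
    have he0 : (0 : ℤ) ≤ e0 := by positivity
    linarith
  · intro h
    by_contra hd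
    push Not at hd
    have := h (d0 - (q - p)) (d1 + 1) (d2 + 1) (by push_cast [Nat.cast_sub hd, Nat.cast_sub hpq.le]; ring)
      (by push_cast; ring)
    push_cast at this
    linarith

end Groth.Agent.S15737
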