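import Groth.Statements.S15740
import Mathlib.Tactic
-- import your own Groth.Agent.* helpers here

set_option autoImplicit false
open W4c2invhilbsl2

namespace Groth.Agent.S15740

/-- For a monomial X₀^d₀X₁^d₁X₂^d₂ of the polynomial ring in X₀, X₁, X₂ (X₂ standing for Xⱼ, j = 3 or 4,
of the five-variable ring) put n = d₀ − p·d₁ + q·d₂ (its weight for the torus diag(t, t^(−p), t^q)),
c = d₁ − d₂ and ω = p·d₁ − q·d₂, so that d₀ = n + ω; here 0 < p < q are coprime integers. Suppose n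
≥ 0, c > 0 and d₀ < q − p (the last condition says that ω is the least value of ω for the pair (n,
c)). Then ω ≥ 0 if and only if the remainder of p·c on division by q − p, plus n, is less than q −
p. -/
theorem result (p q : ℕ) (hp : 0 < p) (hpq : p < q) (hcop : Nat.Coprime p q) (d0 d1 d2 : ℕ)
    (hn : 0 ≤ (d0 : ℤ) - (p : ℤ) * d1 + (q : ℤ) * d2) (hc : (d2 : ℤ) < d1) (hd0 : d0 < q - p) :
    0 ≤ (p : ℤ) * d1 - (q : ℤ) * d2 ↔
      Int.emod ((p : ℤ) * ((d1 : ℤ) - d2)) ((q : ℤ) - p) + ((d0 : ℤ) - (p : ℤ) * d1 + (q : ℤ) * d2) < (q : ℤ) - p := by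
  have hP : (0 : ℤ) < p := by exact_mod_cast hp
  have hPQ : (p : ℤ) < q := by exact_mod_cast hpq
  have hd' : (d0 : ℤ) < q - p := by
    have : ((d0 : ℕ) : ℤ) < ((q - p : ℕ) : ℤ) := by exact_mod_cast hd0
    rwa [Nat.cast_sub hpq.le] at this
  have hd0nn : (0 : ℤ) ≤ d0 := by positivity
  have hm : (0 : ℤ) < q - p := by omega
  set r := Int.emod ((p : ℤ) * ((d1 : ℤ) - d2)) ((q : ℤ) - p) with hr
  have hr0 : 0 ≤ r := Int.emod_nonneg _ hm.ne'
  have hr1 : r < q - p := Int.emod_lt_of_pos _ hm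
  have hk := Int.emod_add_mul_ediv ((p : ℤ) * ((d1 : ℤ) - d2)) ((q : ℤ) - p)
  set k := ((p : ℤ) * ((d1 : ℤ) - d2)) / ((q : ℤ) - p) with hk'
  have hr' : ((p : ℤ) * ((d1 : ℤ) - d2)) % ((q : ℤ) - p) = r := rfl
  rw [hr'] at hk
  -- ω = (q-p) * j + r
  obtain ⟨j, hj⟩ : ∃ j : ℤ, j = k - d2 := ⟨_, rfl⟩
  have hω : (p : ℤ) * d1 - q * d2 = (q - p) * j + r := by
    rw [hj]
    have : (p : ℤ) * d1 - q * d2 = (p : ℤ) * ((d1 : ℤ) - d2) - (q - p) * d2 := by ring
    rw [this, ← hk]; ring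
  constructor
  · intro h
    have hlt : (p : ℤ) * d1 - q * d2 < q - p := by linarith
    have hj0 : j = 0 := by
      by_contra hne
      rcases lt_or_gt_of_ne hne with h' | h'
      · have : ((q : ℤ) - p) * j ≤ (q - p) * (-1) := mul_le_mul_of_nonneg_left (by omega) hm.le
        linarith
      · have : ((q : ℤ) - p) * 1 ≤ (q - p) * j := mul_le_mul_of_nonneg_left (by omega) hm.le
        linarith
    rw [hj0] at hω
    linarith
  · intro h
    by_contra hneg
    push Not at hneg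
    have hj1 : j ≤ -1 := by
      by_contra h'
      push Not at h'
      have : 0 ≤ ((q : ℤ) - p) * j := mul_nonneg hm.le (by omega)
      linarith
    have : ((q : ℤ) - p) * j ≤ (q - p) * (-1) := mul_le_mul_of_nonneg_left hj1 hm.le
    linarith

end Groth.Agent.S15740
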