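import Groth.Statements.S15745
import Groth.Agent.Lib.Lead.QC.InvBasis

set_option autoImplicit false
universe u
open QCohSup

namespace Groth.Agent.S15745

open AlgebraicGeometry in
open CategoryTheory in
/-- Let `X` be a scheme, `L` and `L'` invertible `O_X`-modules, `f` a global section of `L` and `g` a
global section of `L'`. Then the open `X_{f ⊗ g}` where `f ⊗ g` generates `L ⊗ L'` is the
intersection of the open `X_f` where `f` generates `L` and the open `X_g` where `g` generates `L'`.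
(The published statement is for a locally ringed space; this row is its case of a scheme.) -/
theorem result
    (X : Scheme.{u}) (L L' : X.Modules) (hL : PicF.IsInvertible L) (hL' : PicF.IsInvertible L')
    (f : Coh.structureModule X ⟶ L) (g : Coh.structureModule X ⟶ L') :
    CohB1.genLocus (CohB1.tensorMod L L') (SecTwist.tmulHom f g) =
      CohB1.genLocus L f ⊓ CohB1.genLocus L' g := by
  ext x
  obtain ⟨U₁, e₁, hxU₁, he₁⟩ := (LD.QC.isInvertible_iff_exists_isBasisOver L).mp hL x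
  obtain ⟨U₂, e₂, hxU₂, he₂⟩ := (LD.QC.isInvertible_iff_exists_isBasisOver L').mp hL' x
  have h1 : U₁ ⊓ U₂ ≤ U₁ := inf_le_left
  have h2 : U₁ ⊓ U₂ ≤ U₂ := inf_le_right
  have hx : x ∈ U₁ ⊓ U₂ := ⟨hxU₁, hxU₂⟩
  have he := he₁.mono h1
  have he' := he₂.mono h2
  obtain ⟨a, ha⟩ := (he _ le_rfl).2 (SecTwist.val f (U₁ ⊓ U₂))
  obtain ⟨b, hb⟩ := (he' _ le_rfl).2 (SecTwist.val g (U₁ ⊓ U₂))
  have ha' : SecTwist.val f (U₁ ⊓ U₂) = a • L.presheaf.map (homOfLE h1).op e₁ := by
    rw [← ha]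
    change a • L.presheaf.map (homOfLE (le_refl _)).op _ = _
    rw [LD.QC.res_self]
  have hb' : SecTwist.val g (U₁ ⊓ U₂) = b • L'.presheaf.map (homOfLE h2).op e₂ := by
    rw [← hb]
    change b • L'.presheaf.map (homOfLE (le_refl _)).op _ = _
    rw [LD.QC.res_self]
  have hab : SecTwist.val (SecTwist.tmulHom f g) (U₁ ⊓ U₂) =
      (a * b) • SecTwist.tmul L L' (U₁ ⊓ U₂) (L.presheaf.map (homOfLE h1).op e₁)
        (L'.presheaf.map (homOfLE h2).op e₂) := by
    rw [SecTwist.val_tmulHom, ha', hb', LD.QC.tmul_smul_left, LD.QC.tmul_smul_right, smul_smul]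
  have hG1 := LD.QC.genLocus_inf_eq_basicOpen f he a ha'
  have hG2 := LD.QC.genLocus_inf_eq_basicOpen g he' b hb'
  have hG3 := LD.QC.genLocus_inf_eq_basicOpen (SecTwist.tmulHom f g) (he.tmul he') (a * b) hab
  have k1 : x ∈ CohB1.genLocus L f ↔ x ∈ X.basicOpen a := by
    rw [← hG1]; exact ⟨fun h => ⟨h, hx⟩, fun h => h.1⟩
  have k2 : x ∈ CohB1.genLocus L' g ↔ x ∈ X.basicOpen b := by
    rw [← hG2]; exact ⟨fun h => ⟨h, hx⟩, fun h => h.1⟩
  have k3 : x ∈ CohB1.genLocus (CohB1.tensorMod L L') (SecTwist.tmulHom f g) ↔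
      x ∈ X.basicOpen (a * b) := by
    rw [← hG3]; exact ⟨fun h => ⟨h, hx⟩, fun h => h.1⟩
  change x ∈ CohB1.genLocus (CohB1.tensorMod L L') (SecTwist.tmulHom f g) ↔
    x ∈ CohB1.genLocus L f ∧ x ∈ CohB1.genLocus L' g
  rw [k1, k2, k3, X.basicOpen_mul]
  rfl

end Groth.Agent.S15745
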