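import Groth.Statements.S1576
import Groth.Agent.Lib.Lead.QC.AssPoint
import Groth.Agent.Lib.Lead.QC.FinType

set_option autoImplicit false
universe u
open CategoryTheory CategoryTheory.Limits AlgebraicGeometry
open Divisors

namespace Groth.Agent.S1576

/-- Let X be locally Noetherian and F coherent. Then the associated points of F lying in any
quasi-compact open subset form a finite set. -/
theorem result (X : Scheme.{u}) [IsLocallyNoetherian X]
    (F : X.Modules) (hF : Coh.IsCoh F) (U : X.Opens) (hU : IsCompact (U : Set X)) :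
    {x : X | x ∈ U ∧ Curv2.IsAssPoint F x}.Finite := by
  obtain ⟨hqc, hft⟩ := hF
  haveI : F.IsQuasicoherent := hqc
  have key : ∀ W : X.Opens, IsAffineOpen W → {x : X | x ∈ W ∧ Curv2.IsAssPoint F x}.Finite := by
    intro W hW
    haveI : IsNoetherianRing Γ(X, W) := IsLocallyNoetherian.component_noetherian ⟨W, hW⟩
    haveI : Module.Finite Γ(X, W) Γ(F, W) := LD.QC.finite_sections_of_isFiniteType F hft hW
    have hfin : (associatedPrimes Γ(X, W) Γ(F, W)).Finite := associatedPrimes.finite _ _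
    have hfin2 : {q : PrimeSpectrum Γ(X, W) | q.asIdeal ∈ associatedPrimes Γ(X, W) Γ(F, W)}.Finite := by
      apply Set.Finite.preimage _ hfin
      intro a _ b _ hab
      exact PrimeSpectrum.ext hab
    refine (hfin2.image hW.fromSpec).subset ?_
    rintro x ⟨hxW, hx⟩
    refine ⟨hW.primeIdealOf ⟨x, hxW⟩, ?_, hW.fromSpec_primeIdealOf ⟨x, hxW⟩⟩
    rw [LD.QC.isAssPoint_iff_isWeakAssPoint, LD.QC.isWeakAssPoint_iff_mem_weakAss F hW x hxW,
      LD.QC.mem_weakAss_iff] at hx
    obtain ⟨m, hm⟩ := hx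
    rw [← LD.QC.colon_bot_singleton_eq_ker] at hm
    obtain ⟨m', hm'⟩ := Submodule.exists_eq_colon_of_mem_minimalPrimes hm
    change IsAssociatedPrime _ _
    rw [isAssociatedPrime_iff]
    exact ⟨(hW.primeIdealOf ⟨x, hxW⟩).2, m', hm'⟩
  obtain ⟨t, ht, e⟩ := isCompact_and_isOpen_iff_finite_and_eq_biUnion_affineOpens.mp ⟨hU, U.2⟩
  have hsub : {x : X | x ∈ U ∧ Curv2.IsAssPoint F x} ⊆
      ⋃ W ∈ t, {x : X | x ∈ (W : X.Opens) ∧ Curv2.IsAssPoint F x} := by
    rintro x ⟨hxU, hx⟩
    have : x ∈ (U : Set X) := hxU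
    rw [e] at this
    obtain ⟨W, hWt, hxW⟩ := Set.mem_iUnion₂.mp this
    exact Set.mem_iUnion₂.mpr ⟨W, hWt, hxW, hx⟩
  exact (ht.biUnion (fun W _ => key W.1 W.2)).subset hsub

end Groth.Agent.S1576
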