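import Groth.Statements.S1707
import Groth.Agent.Lib.Lead.QC.WeakAssInj

set_option autoImplicit false
universe u
open CategoryTheory CategoryTheory.Limits AlgebraicGeometry TopologicalSpace
open SDiv

namespace Groth.Agent.S1707

/-- Let X be a scheme, F a quasi-coherent module and x a point of the support of F such that no other
point of the support specializes to x. Then x is weakly associated to F. -/
theorem result (X : Scheme.{u}) (F : X.Modules) (hF : Coh.IsQCoh F) (x : ↥X)
    (hx : x ∈ CohB1.support F) (hmax : ∀ y : ↥X, y ∈ CohB1.support F → y ⤳ x → y = x) : Curv2.IsWeakAssPoint F x := by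
  haveI : F.IsQuasicoherent := hF
  obtain ⟨U, hU, hxU, -⟩ := exists_isAffineOpen_mem_and_subset (x := x) (U := (⊤ : X.Opens)) trivial
  -- a section with nonzero germ at x
  have hex : ∃ m : Γ(F, U), F.presheaf.germ U x hxU m ≠ 0 := by
    by_contra hall
    push Not at hall
    apply hx
    letI := LD.QC.stalkΓModule F x U hxU
    haveI := LD.QC.isLocalizedModule_germ F hU x hxU
    refine ⟨fun a b => ?_⟩
    obtain ⟨⟨na, sa⟩, hna⟩ := IsLocalizedModule.surj (hU.primeIdealOf ⟨x, hxU⟩).asIdeal.primeCompl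
      (LD.QC.germLinear F x U hxU) a
    obtain ⟨⟨nb, sb⟩, hnb⟩ := IsLocalizedModule.surj (hU.primeIdealOf ⟨x, hxU⟩).asIdeal.primeCompl
      (LD.QC.germLinear F x U hxU) b
    have ha0 : sa • a = 0 := by rw [hna]; exact hall na
    have hb0 : sb • b = 0 := by rw [hnb]; exact hall nb
    have hua := IsLocalizedModule.map_units (LD.QC.germLinear F x U hxU) sa
    have hub := IsLocalizedModule.map_units (LD.QC.germLinear F x U hxU) sb
    rw [Module.End.isUnit_iff] at hua hub
    have ha : a = 0 := hua.injective (by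
      rw [map_zero]; exact ha0)
    have hb : b = 0 := hub.injective (by
      rw [map_zero]; exact hb0)
    rw [ha, hb]
  obtain ⟨m, hm⟩ := hex
  have hann : (LinearMap.ker (LinearMap.toSpanSingleton Γ(X, U) Γ(F, U) m) : Ideal Γ(X, U)) ≤
      (hU.primeIdealOf ⟨x, hxU⟩).asIdeal := by
    intro b hb
    by_contra hbp
    apply hm
    have h1 : X.presheaf.germ U x hxU b • F.presheaf.germ U x hxU m = 0 := by
      rw [← LD.QC.germ_smul, show b • m = 0 from hb, map_zero]
    obtain ⟨u, hu⟩ := LD.QC.isUnit_germ_of_notMem hU x hxU b hbp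
    have h2 := congrArg (fun z => (↑u⁻¹ : X.presheaf.stalk x) • z) h1
    simp only [smul_zero] at h2
    rwa [← hu, smul_smul, Units.inv_mul, one_smul] at h2
  obtain ⟨q, hq, hqp⟩ := Ideal.exists_minimalPrimes_le hann
  let q' : PrimeSpectrum Γ(X, U) := ⟨q, hq.1.1⟩
  have hy : hU.fromSpec q' ∈ U := LD.QC.fromSpec_mem hU q'
  have hysupp : hU.fromSpec q' ∈ CohB1.support F := by
    intro hsub
    have hne := LD.QC.germ_ne_zero_of_ann_le F hU (hU.fromSpec q') hy m (by
      intro b hb
      rw [LD.QC.primeIdealOf_fromSpec hU q' hy]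
      exact hq.1.2 hb)
    exact hne (Subsingleton.elim _ _)
  have hspec : hU.fromSpec q' ⤳ x := by
    have h1 : q' ⤳ hU.primeIdealOf ⟨x, hxU⟩ := (PrimeSpectrum.le_iff_specializes _ _).mp hqp
    have h2 := h1.map hU.fromSpec.continuous
    rwa [hU.fromSpec_primeIdealOf ⟨x, hxU⟩] at h2
  have hyx := hmax _ hysupp hspec
  rw [LD.QC.isWeakAssPoint_iff_mem_weakAss F hU x hxU, LD.QC.mem_weakAss_iff]
  refine ⟨m, ?_⟩
  have hqeq : (hU.primeIdealOf ⟨x, hxU⟩).asIdeal = q := by
    have h3 := LD.QC.primeIdealOf_fromSpec hU q' hy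
    have h4 : hU.primeIdealOf ⟨x, hxU⟩ = q' := by
      rw [← h3]
      congr 1
      exact Subtype.ext hyx.symm
    rw [h4]
  rw [hqeq]
  exact hq

end Groth.Agent.S1707
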