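import Groth.Statements.S15771
import Mathlib
-- import your own Groth.Agent.* helpers here

set_option autoImplicit false
universe u
open TensorProduct
open CAlg

namespace Groth.Agent.S15771

/-- For a ring map B₀ → B with dense image into a topological ring B, a finitely generated B₀-module M₀
and any topological B-module structure on M = B ⊗_{B₀} M₀, the natural map M₀ → M has dense image. -/
theorem result (B₀ B : Type u) [CommRing B₀] [CommRing B] [Algebra B₀ B]
    [TopologicalSpace B] [IsTopologicalRing B] (hφ : DenseRange (algebraMap B₀ B))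
    (M₀ : Type u) [AddCommGroup M₀] [Module B₀ M₀] [Module.Finite B₀ M₀]
    [TopologicalSpace (B ⊗[B₀] M₀)] [IsTopologicalAddGroup (B ⊗[B₀] M₀)] [ContinuousSMul B (B ⊗[B₀] M₀)] :
    DenseRange (fun m : M₀ => (1 : B) ⊗ₜ[B₀] m) := by
  let ι : M₀ →+ (B ⊗[B₀] M₀) := (TensorProduct.mk B₀ B M₀ 1).toAddMonoidHom
  let S : AddSubgroup (B ⊗[B₀] M₀) := ι.range
  have hS : (S : Set (B ⊗[B₀] M₀)) = Set.range (fun m : M₀ => (1 : B) ⊗ₜ[B₀] m) := by
    ext x
    simp [S, ι]
  have key : ∀ x : B ⊗[B₀] M₀, x ∈ S.topologicalClosure := by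
    intro x
    induction x using TensorProduct.induction_on with
    | zero => exact zero_mem _
    | add x y hx hy => exact add_mem hx hy
    | tmul b m =>
      have hcont : Continuous (fun b : B => b • ((1 : B) ⊗ₜ[B₀] m)) :=
        Continuous.smul (f := fun b : B => b) (g := fun _ : B => ((1 : B) ⊗ₜ[B₀] m)) continuous_id continuous_const
      have hb : b ∈ closure (Set.range (algebraMap B₀ B)) := hφ b
      have h1 : b • ((1 : B) ⊗ₜ[B₀] m) ∈ closure ((fun b : B => b • ((1 : B) ⊗ₜ[B₀] m)) '' Set.range (algebraMap B₀ B)) :=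
        image_closure_subset_closure_image hcont ⟨b, hb, rfl⟩
      have h2 : (fun b : B => b • ((1 : B) ⊗ₜ[B₀] m)) '' Set.range (algebraMap B₀ B) ⊆ (S : Set (B ⊗[B₀] M₀)) := by
        rintro _ ⟨_, ⟨c, rfl⟩, rfl⟩
        rw [hS]
        refine ⟨c • m, ?_⟩
        simp [TensorProduct.smul_tmul', Algebra.smul_def]
      have h3 : b • ((1 : B) ⊗ₜ[B₀] m) = b ⊗ₜ[B₀] m := by
        simp [TensorProduct.smul_tmul']
      rw [← h3]
      exact closure_mono h2 h1
  intro x
  rw [← hS]
  exact key x

end Groth.Agent.S15771
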