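import Groth.Statements.S1578
import Groth.Agent.Lib.Lead.QC.AssPoint
import Groth.Agent.Lib.Lead.QC.AssAlg
import Groth.Agent.S12215

set_option autoImplicit false
universe u
open CategoryTheory CategoryTheory.Limits AlgebraicGeometry
open Divisors

namespace Groth.Agent.S1578

/-- Let M be a module over a ring A, F the associated quasi-coherent module on Spec A, and p a prime of
A. If p is an associated prime of M then p is an associated point of F; the converse holds when p is
finitely generated. -/
theorem result (A : CommRingCat.{u}) (M : ModuleCat.{u} A)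
    (p : Spec A) :
    (p.asIdeal ∈ associatedPrimes A M → Curv2.IsAssPoint (tilde M) p) ∧
    (p.asIdeal.FG → Curv2.IsAssPoint (tilde M) p → p.asIdeal ∈ associatedPrimes A M) := by
  constructor
  · intro h
    rw [LD.QC.isAssPoint_iff_isWeakAssPoint, ← Groth.Agent.S12215.result, LD.QC.mem_weakAss_iff]
    obtain ⟨hp, m, hm⟩ := h
    haveI := hp
    refine ⟨m, LD.QC.mem_minimalPrimes_of_eq_radical _ _ ?_⟩
    rw [← LD.QC.colon_bot_singleton_eq_ker]
    exact hm
  · intro hfg h
    rw [LD.QC.isAssPoint_iff_isWeakAssPoint, ← Groth.Agent.S12215.result, LD.QC.mem_weakAss_iff] at h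
    obtain ⟨m, hm⟩ := h
    obtain ⟨m', hm'⟩ := LD.QC.exists_radical_ker_eq_of_fg _ hfg m hm
    refine ⟨p.2, m', ?_⟩
    rw [LD.QC.colon_bot_singleton_eq_ker]
    exact hm'

end Groth.Agent.S1578
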