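import Groth.Statements.S15789
import Groth.Agent.H4.WqA
import Groth.Agent.H4.WqAut
import Groth.Agent.H4.WqSpan
import Groth.Agent.H4.WqTr
import Groth.Agent.H4.MvPSVars
import Groth.Agent.Lib.Helper6.PSCotC
import Groth.Agent.Lib.Helper7.Reg1
import Groth.Agent.Lib.Helper8.Japanese.PSNormal
-- import your own Groth.Agent.* helpers here

set_option autoImplicit false
universe u
open WildQuot

namespace Groth.Agent.S15789

open MvPolynomial in
/-- Let `k` be a field of characteristic `p > 0`, `n ≥ 2`, `R = k[[x_1, …, x_n]]`, `a_1, …, a_n ∈ R`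
nonzero with zero constant term, and `A = R[u_1, …, u_n] / (u_i ^ p - a_i ^ (p-1) u_i - x_i : i =
1..n)`. Then the group of `R`-algebra automorphisms of `A` has exactly `p ^ n` elements, is
commutative and every element has `p`-th power the identity (it is the elementary abelian group
generated by the substitutions `u_i ↦ u_i + a_i`), and an element of `A` is fixed by every
`R`-algebra automorphism if and only if it comes from `R`. (The published statement says that
`Frac(A)/Frac(R)` is Galois with group `(ℤ/pℤ)^n` and `R = A^H`; this row states it through the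
`R`-algebra automorphisms of `A`.) -/
theorem result
    (p : ℕ) [Fact p.Prime] (k : Type u) [Field k] [CharP k p] (n : ℕ) (hn : 2 ≤ n)
    (a : Fin n → MvPowerSeries (Fin n) k)
    (ha0 : ∀ i, a i ≠ 0) (ham : ∀ i, MvPowerSeries.constantCoeff (a i) = 0) :
    let R := MvPowerSeries (Fin n) k
    let I : Ideal (MvPolynomial (Fin n) R) :=
      Ideal.span (Set.range fun i : Fin n =>
        X i ^ p - C (a i ^ (p - 1)) * X i - C (MvPowerSeries.X i))
    Nat.card ((MvPolynomial (Fin n) R ⧸ I) ≃ₐ[R] (MvPolynomial (Fin n) R ⧸ I)) = p ^ n ∧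
      (∀ σ τ : (MvPolynomial (Fin n) R ⧸ I) ≃ₐ[R] (MvPolynomial (Fin n) R ⧸ I), σ * τ = τ * σ) ∧
      (∀ σ : (MvPolynomial (Fin n) R ⧸ I) ≃ₐ[R] (MvPolynomial (Fin n) R ⧸ I), σ ^ p = 1) ∧
      (∀ b : MvPolynomial (Fin n) R ⧸ I,
        (∀ σ : (MvPolynomial (Fin n) R ⧸ I) ≃ₐ[R] (MvPolynomial (Fin n) R ⧸ I), σ b = b) ↔
          b ∈ Set.range (algebraMap R (MvPolynomial (Fin n) R ⧸ I))) := by
  intro R I
  have hp : 2 ≤ p := (Fact.out : p.Prime).two_le
  haveI : IsDomain (MvPowerSeries (Fin n) k) := NoZeroDivisors.to_isDomain _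
  haveI : IsIntegrallyClosed (MvPowerSeries (Fin n) k) :=
    Groth.Agent.H8.Jap.mvPowerSeries_fin_isIntegrallyClosed k n
  have ha : ∀ i, a i ∈ IsLocalRing.maximalIdeal (MvPowerSeries (Fin n) k) := by
    intro i
    rw [IsLocalRing.mem_maximalIdeal, mem_nonunits_iff, MvPowerSeries.isUnit_iff_constantCoeff, ham i]
    simp
  have h := Groth.Agent.H4.WqA.general (R := MvPowerSeries (Fin n) k) p a (MvPowerSeries.X)
    hp Groth.Agent.H4.MvPSVars.maximalIdeal_eq_span_range_X.symm ha
    (Groth.Agent.H6.PSCot.ringKrullDim_mvPowerSeries_ge n)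
  haveI : IsRegularLocalRing (Groth.Agent.H4.WqA.QA p a (MvPowerSeries.X (R := k))) := h.1
  haveI : IsDomain (Groth.Agent.H4.WqA.QA p a (MvPowerSeries.X (R := k))) :=
    Groth.Agent.H7.Reg.isDomain _
  have hinj : Function.Injective (algebraMap (MvPowerSeries (Fin n) k)
      (Groth.Agent.H4.WqA.QA p a (MvPowerSeries.X (R := k)))) :=
    Groth.Agent.H4.WqA.algebraMap_injective p a _ hp
  haveI : CharP (Groth.Agent.H4.WqA.QA p a (MvPowerSeries.X (R := k))) p :=
    charP_of_injective_ringHom (f := (algebraMap (MvPowerSeries (Fin n) k)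
      (Groth.Agent.H4.WqA.QA p a (MvPowerSeries.X (R := k)))).comp (MvPowerSeries.C (σ := Fin n) (R := k)))
      (hinj.comp (MvPowerSeries.C_injective (σ := Fin n) (R := k))) p
  refine ⟨Groth.Agent.H4.WqAut.card_aut p a _ hinj ha0, Groth.Agent.H4.WqAut.aut_comm p a _ hinj ha0,
    Groth.Agent.H4.WqAut.aut_pow p a _ hinj ha0, fun b => ⟨?_, ?_⟩⟩
  · intro hb
    exact Groth.Agent.H4.WqTr.fixed_mem p a _ hinj ha0 b hb
  · rintro ⟨r, rfl⟩ σ
    exact σ.commutes r

end Groth.Agent.S15789
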