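import Groth.Statements.S15791
import Mathlib
import Groth.Agent.Lib.Helper8.Length
-- import your own Groth.Agent.* helpers here

set_option autoImplicit false
universe u v
open WildQuot

namespace Groth.Agent.S15791

/-- Let `A` be a regular local ring of Krull dimension `n` with maximal ideal `m`, let a finite group
`G` of order `g` act on `A` by ring automorphisms, and let `u_1, …, u_n` be an admissible regular
system of parameters: for every choice `σ_1, …, σ_n ∈ G`, the elements `σ_1 u_1, …, σ_n u_n`
generate `m`. With `x_i = ∏_{σ ∈ G} σ u_i` the norms, the length of `A / (x_1, …, x_n)` is at most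
`g ^ n`. (The published statement is for a complete regular local ring containing a `G`-fixed field
of representatives and asserts that the length equals `g ^ n`; this row states the upper bound for
any regular local ring.) -/
theorem result
    (A : Type u) [CommRing A] [IsRegularLocalRing A]
    (G : Type v) [Group G] [Fintype G] [MulSemiringAction G A]
    (n : ℕ) (hn : ringKrullDim A = n) (u : Fin n → A)
    (hu : ∀ τ : Fin n → G,
      Ideal.span (Set.range fun i => τ i • u i) = IsLocalRing.maximalIdeal A) :
    Module.length A (A ⧸ Ideal.span (Set.range fun i => ∏ σ : G, σ • u i)) ≤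
      (Fintype.card G ^ n : ℕ) := by
  classical
  have hspan : ∀ (f : Fin n → A) (j : Fin n),
      Ideal.span (Set.range f) = Ideal.span (f '' {i | i ≠ j}) ⊔ Ideal.span {f j} := by
    intro f j
    rw [← Ideal.span_union]
    congr 1
    ext x
    simp only [Set.mem_range, Set.union_singleton, Set.mem_insert_iff, Set.mem_image,
      Set.mem_ofPred_eq]
    constructor
    · rintro ⟨i, rfl⟩
      by_cases hij : i = j
      · left; rw [hij]
      · right; exact ⟨i, hij, rfl⟩
    · rintro (rfl | ⟨i, _, rfl⟩)
      · exact ⟨j, rfl⟩
      · exact ⟨i, rfl⟩
  set w : Finset (Fin n) → (Fin n → G) → Fin n → A := fun S τ i =>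
    if i ∈ S then ∏ σ : G, σ • u i else τ i • u i with hw
  have key : ∀ (S : Finset (Fin n)) (τ : Fin n → G),
      Module.length A (A ⧸ Ideal.span (Set.range (w S τ))) ≤ ((Fintype.card G ^ S.card : ℕ) : ℕ∞) := by
    intro S
    induction S using Finset.induction_on with
    | empty =>
      intro τ
      have h0 : w ∅ τ = fun i => τ i • u i := by
        funext i; simp [hw]
      rw [h0, hu τ]
      have : IsSimpleModule A (A ⧸ IsLocalRing.maximalIdeal A) :=
        isSimpleModule_iff_isCoatom.mpr (Ideal.isMaximal_def.mp inferInstance)
      rw [Module.length_eq_one]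
      simp
    | insert j S hj ih =>
      intro τ
      rw [hspan _ j]
      have hwj : w (insert j S) τ j = ∏ σ : G, σ • u j := by simp [hw]
      rw [hwj]
      refine (Groth.Agent.H8.length_quotient_sup_span_prod_le _ Finset.univ (fun σ => σ • u j)).trans ?_
      have hterm : ∀ σ : G, Module.length A (A ⧸ (Ideal.span ((w (insert j S) τ) '' {i | i ≠ j}) ⊔
          Ideal.span {σ • u j})) ≤ ((Fintype.card G ^ S.card : ℕ) : ℕ∞) := by
        intro σ
        have h1 := ih (Function.update τ j σ)
        rw [hspan _ j] at h1
        have hwj' : w S (Function.update τ j σ) j = σ • u j := by simp [hw, hj]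
        rw [hwj'] at h1
        have himg : ((w (insert j S) τ) '' {i | i ≠ j}) =
            ((w S (Function.update τ j σ)) '' {i | i ≠ j}) := by
          apply Set.image_congr
          intro i hi
          have hi' : i ≠ j := hi
          simp only [hw, Finset.mem_insert, hi', false_or, Function.update_of_ne hi']
        rw [himg]
        exact h1
      refine (Finset.sum_le_sum (fun σ _ => hterm σ)).trans ?_
      rw [Finset.sum_const, Finset.card_univ, Finset.card_insert_of_notMem hj, pow_succ, nsmul_eq_mul]
      push_cast
      rw [mul_comm]
  have h := key Finset.univ (fun _ => 1)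
  have h1 : w Finset.univ (fun _ => 1) = fun i => ∏ σ : G, σ • u i := by
    funext i; simp [hw]
  rw [h1] at h
  simpa using h

end Groth.Agent.S15791
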