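import Groth.Statements.S15795
import Mathlib
-- import your own Groth.Agent.* helpers here

set_option autoImplicit false
universe u v
open WildQuot

namespace Groth.Agent.S15795

/-- Let `A` be a regular local ring of Krull dimension `n` with maximal ideal `m`, let a finite group
`G` act on `A` by ring automorphisms inducing the identity on the residue field, and let `u_1, …,
u_n` generate `m`. Suppose that for every `σ ∈ G` and every `i`, `σ u_i ∈ (u_1, …, u_i) + m ^ 2`,
i.e. the induced linear maps of `m / m ^ 2` are upper triangular in the basis given by the `u_i`.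
Then the system `u` is admissible: for every choice `σ_1, …, σ_n ∈ G` the elements `σ_1 u_1, …, σ_n
u_n` generate `m`. (The published statement is for a complete regular local ring containing a
`G`-fixed field of representatives; this row drops completeness and asks only that `G` act trivially
on the residue field.) -/
theorem result
    (A : Type u) [CommRing A] [IsRegularLocalRing A]
    (G : Type v) [Group G] [Finite G] [MulSemiringAction G A]
    (hres : ∀ (σ : G) (a : A), σ • a - a ∈ IsLocalRing.maximalIdeal A)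
    (n : ℕ) (hn : ringKrullDim A = n) (u : Fin n → A)
    (hu : Ideal.span (Set.range u) = IsLocalRing.maximalIdeal A)
    (htri : ∀ (σ : G) (i : Fin n),
      σ • u i ∈ Ideal.span (u '' {j | j ≤ i}) ⊔ IsLocalRing.maximalIdeal A ^ 2) :
    ∀ τ : Fin n → G,
      Ideal.span (Set.range fun i => τ i • u i) = IsLocalRing.maximalIdeal A := by
  classical
  intro τ
  obtain ⟨m, hm⟩ : ∃ m, m = IsLocalRing.maximalIdeal A := ⟨_, rfl⟩
  rw [← hm] at hres hu htri ⊢
  -- the action preserves the maximal ideal
  have hmst : ∀ (σ : G) (x : A), x ∈ m → σ • x ∈ m := by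
    intro σ x hx
    rw [hm, IsLocalRing.mem_maximalIdeal, mem_nonunits_iff] at hx ⊢
    intro hunit
    apply hx
    have := hunit.map (MulSemiringAction.toRingHom G A σ⁻¹)
    simpa using this
  have hum : ∀ j, u j ∈ m := fun j => by rw [← hu]; exact Ideal.subset_span ⟨j, rfl⟩
  have hm2st : ∀ (σ : G) (x : A), x ∈ m ^ 2 → σ • x ∈ m ^ 2 := by
    intro σ x hx
    rw [pow_two] at hx ⊢
    refine Submodule.mul_induction_on hx ?_ ?_
    · intro a ha b hb
      rw [smul_mul']
      exact Ideal.mul_mem_mul (hmst σ a ha) (hmst σ b hb)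
    · intro a b ha hb
      rw [smul_add]
      exact Ideal.add_mem _ ha hb
  let I : ℕ → Ideal A := fun k => Ideal.span (u '' {j | (j : ℕ) < k}) ⊔ m ^ 2
  let L : ℕ → Ideal A := fun k => Ideal.span ((fun j => τ j • u j) '' {j | (j : ℕ) < k}) ⊔ m ^ 2
  have hImono : ∀ k l, k ≤ l → I k ≤ I l := by
    intro k l hkl
    exact sup_le_sup_right (Ideal.span_mono (Set.image_mono fun j hj => lt_of_lt_of_le hj hkl)) _
  have hLmono : ∀ k l, k ≤ l → L k ≤ L l := by
    intro k l hkl
    exact sup_le_sup_right (Ideal.span_mono (Set.image_mono fun j hj => lt_of_lt_of_le hj hkl)) _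
  -- stability of I k
  have hIst : ∀ (k : ℕ) (σ : G) (x : A), x ∈ I k → σ • x ∈ I k := by
    intro k σ x hx
    have hle : I k ≤ Ideal.comap (MulSemiringAction.toRingHom G A σ) (I k) := by
      refine sup_le ?_ ?_
      · rw [Ideal.span_le]
        rintro _ ⟨j, hj, rfl⟩
        change σ • u j ∈ I k
        have h1 := htri σ j
        have hle' : Ideal.span (u '' {l | l ≤ j}) ⊔ m ^ 2 ≤ I k := by
          refine sup_le_sup_right (Ideal.span_mono (Set.image_mono ?_)) _
          intro l hl
          exact lt_of_le_of_lt (show (l : ℕ) ≤ j from hl) hj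
        exact hle' h1
      · intro y hy
        change σ • y ∈ I k
        exact Ideal.mem_sup_right (hm2st σ y hy)
    exact hle hx
  have key : ∀ k, k ≤ n → I k ≤ L k := by
    intro k
    induction k with
    | zero =>
      intro _
      simp only [I, L]
      simp
    | succ k ih =>
      intro hk
      have hkn : k < n := hk
      have ihk := ih hkn.le
      have hsplit : I (k + 1) = I k ⊔ Ideal.span {u ⟨k, hkn⟩} := by
        simp only [I]
        have : {j : Fin n | (j : ℕ) < k + 1} = {j : Fin n | (j : ℕ) < k} ∪ {⟨k, hkn⟩} := by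
          ext j
          simp only [Set.mem_ofPred_eq, Set.mem_union, Set.mem_singleton_iff, Fin.ext_iff]
          omega
        rw [this, Set.image_union, Ideal.span_union, Set.image_singleton]
        rw [sup_assoc, sup_assoc, sup_comm (Ideal.span {u ⟨k, hkn⟩})]
      have hτL : τ ⟨k, hkn⟩ • u ⟨k, hkn⟩ ∈ L (k + 1) := by
        refine Ideal.mem_sup_left (Ideal.subset_span ⟨⟨k, hkn⟩, ?_, rfl⟩)
        simp
      rw [hsplit]
      refine sup_le (ihk.trans (hLmono _ _ (Nat.le_succ k))) ?_
      rw [Ideal.span_singleton_le_iff_mem]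
      -- τ_k u_k ∈ I (k+1) = I k ⊔ (u_k)
      have h1 : τ ⟨k, hkn⟩ • u ⟨k, hkn⟩ ∈ I (k + 1) :=
        hIst (k + 1) _ _ (by rw [hsplit]; exact Ideal.mem_sup_right (Ideal.mem_span_singleton_self _))
      rw [hsplit, Submodule.mem_sup] at h1
      obtain ⟨a, ha, b, hb, hab⟩ := h1
      rw [Ideal.mem_span_singleton'] at hb
      obtain ⟨c, rfl⟩ := hb
      by_cases hc : IsUnit c
      · obtain ⟨c', rfl⟩ := hc
        have : u ⟨k, hkn⟩ = (↑c'⁻¹ : A) * (τ ⟨k, hkn⟩ • u ⟨k, hkn⟩ - a) := by
          rw [← hab, add_sub_cancel_left, ← mul_assoc, Units.inv_mul, one_mul]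
        rw [this]
        refine Ideal.mul_mem_left _ _ (Ideal.sub_mem _ hτL ?_)
        exact hLmono _ _ (Nat.le_succ k) (ihk ha)
      · have hcm : c ∈ m := by rw [hm]; exact hc
        have h2 : c * u ⟨k, hkn⟩ ∈ I k := by
          refine Ideal.mem_sup_right ?_
          rw [pow_two]
          exact Ideal.mul_mem_mul hcm (hum _)
        have h3 : τ ⟨k, hkn⟩ • u ⟨k, hkn⟩ ∈ I k := by
          rw [← hab]; exact Ideal.add_mem _ ha h2
        have h4 := hIst k (τ ⟨k, hkn⟩)⁻¹ _ h3
        rw [inv_smul_smul] at h4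
        exact hLmono _ _ (Nat.le_succ k) (ihk h4)
  have hfin := key n le_rfl
  have hIn : m ≤ I n := by
    rw [← hu]
    refine le_trans (Ideal.span_mono ?_) le_sup_left
    rintro _ ⟨j, rfl⟩
    exact ⟨j, j.2, rfl⟩
  have hLn : L n ≤ Ideal.span (Set.range fun i => τ i • u i) ⊔ m • m := by
    simp only [L]
    refine sup_le_sup (Ideal.span_mono (Set.image_subset_range _ _)) ?_
    rw [pow_two]; exact le_rfl
  refine le_antisymm ?_ ?_
  · rw [Ideal.span_le]
    rintro _ ⟨j, rfl⟩
    exact hmst _ _ (hum j)
  · refine Submodule.le_of_le_smul_of_le_jacobson_bot (I := m) (IsNoetherian.noetherian _)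
      (hm ▸ IsLocalRing.maximalIdeal_le_jacobson _) ?_
    exact hIn.trans (hfin.trans hLn)

end Groth.Agent.S15795
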