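import Groth.Statements.S15796
import Mathlib
-- import your own Groth.Agent.* helpers here

set_option autoImplicit false
universe u v
open WildQuot

namespace Groth.Agent.S15796

/-- Let `A` be a Noetherian local ring of Krull dimension `n` whose maximal ideal `m` is generated by
`u_1, …, u_n`, and let a finite group `G` act on `A` by ring automorphisms. If some `σ ∈ G` maps
some `u_i` into the ideal generated by the `u_j` with `j ≠ i`, then the system `u` is not weakly
admissible: for some choice `σ_1, …, σ_n ∈ G` the radical of `(σ_1 u_1, …, σ_n u_n)` does not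
contain `m`. (The published statement is for a linear action on `k[[u_1, …, u_n]]` whose matrix has
a zero diagonal entry; this row assumes instead that some `σ u_i` lies in the ideal generated by the
other `u_j`.) -/
theorem result
    (A : Type u) [CommRing A] [IsLocalRing A] [IsNoetherianRing A]
    (G : Type v) [Group G] [Finite G] [MulSemiringAction G A]
    (n : ℕ) (hn : ringKrullDim A = n) (u : Fin n → A)
    (hu : Ideal.span (Set.range u) = IsLocalRing.maximalIdeal A)
    (σ : G) (i : Fin n) (hσ : σ • u i ∈ Ideal.span (u '' {j | j ≠ i})) :
    ∃ τ : Fin n → G,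
      ¬ IsLocalRing.maximalIdeal A ≤ (Ideal.span (Set.range fun j => τ j • u j)).radical := by
  classical
  refine ⟨Function.update (fun _ => 1) i σ, ?_⟩
  intro hle
  set s : Finset A := (Finset.univ.erase i).image u with hs
  have hK : (s : Set A) = u '' {j | j ≠ i} := by
    ext x; simp [hs]
  have hIK : Ideal.span (Set.range fun j => (Function.update (fun _ => (1 : G)) i σ) j • u j)
      ≤ Ideal.span (s : Set A) := by
    rw [Ideal.span_le]
    rintro _ ⟨j, rfl⟩
    by_cases hj : j = i
    · subst hj
      simp only [Function.update_self]
      rw [hK]; exact hσ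
    · simp only [Function.update_of_ne hj, one_smul]
      exact Ideal.subset_span (by rw [hK]; exact ⟨j, hj, rfl⟩)
  have hKm : Ideal.span (s : Set A) ≤ IsLocalRing.maximalIdeal A := by
    rw [← hu]
    apply Ideal.span_mono
    rw [hK]
    exact Set.image_subset_range _ _
  have hmin : IsLocalRing.maximalIdeal A ∈ (Ideal.span (s : Set A)).minimalPrimes := by
    refine ⟨⟨inferInstance, hKm⟩, ?_⟩
    rintro q ⟨hq, hKq⟩ _
    refine hle.trans ?_
    rw [hq.radical_le_iff]
    exact hIK.trans hKq
  have h1 := Ideal.height_le_card_of_mem_minimalPrimes_span_finset hmin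
  have h2 : s.card ≤ n - 1 := by
    refine Finset.card_image_le.trans ?_
    rw [Finset.card_erase_of_mem (Finset.mem_univ i)]
    simp
  have h3 : (IsLocalRing.maximalIdeal A).height = (n : ℕ∞) := by
    have := IsLocalRing.maximalIdeal_height_eq_ringKrullDim (R := A)
    rw [hn] at this
    exact_mod_cast this
  have hnpos : 0 < n := Fin.pos i
  rw [h3] at h1
  have : (n : ℕ∞) ≤ ((n - 1 : ℕ) : ℕ∞) := h1.trans (by exact_mod_cast h2)
  have : n ≤ n - 1 := by exact_mod_cast this
  omega

end Groth.Agent.S15796
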