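import Groth.Statements.S1580
import Groth.Agent.Lib.Lead.QC.WeakAssInj
import Groth.Agent.Lib.Lead.QC.WeakAssPush
import Groth.Agent.Lib.Lead.QC.Push
import Groth.Agent.Lib.Lead.QC.Compact

set_option autoImplicit false
universe u
open CategoryTheory CategoryTheory.Limits AlgebraicGeometry
open Divisors

namespace Groth.Agent.S1580

/-- Let f : X → S be quasi-compact and quasi-separated and F quasi-coherent on X. A point of S not in
the image of f is not weakly associated to f_* F. -/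
theorem result {X S : Scheme.{u}} (f : X ⟶ S) [QuasiCompact f] [QuasiSeparated f]
    (F : X.Modules) (hF : Coh.IsQCoh F) (s : S) (hs : s ∉ Set.range f.base) :
    ¬ Curv2.IsWeakAssPoint ((Coh.push f).obj F) s := by
  haveI : F.IsQuasicoherent := hF
  haveI : ((Scheme.Modules.pushforward f).obj F).IsQuasicoherent := LD.QC.qc_pushforward f F
  intro hw
  obtain ⟨V, hV, hsV, -⟩ := exists_isAffineOpen_mem_and_subset (x := s) (U := (⊤ : S.Opens)) trivial
  have hw' : Curv2.IsWeakAssPoint ((Scheme.Modules.pushforward f).obj F) s := hw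
  rw [LD.QC.isWeakAssPoint_iff_mem_weakAss _ hV s hsV] at hw'
  have hc : IsCompact (f ⁻¹ᵁ V).1 := f.isCompact_preimage hV.isCompact
  obtain ⟨t, ht, e⟩ := isCompact_and_isOpen_iff_finite_and_eq_biUnion_affineOpens.mp ⟨hc, (f ⁻¹ᵁ V).2⟩
  replace e : f ⁻¹ᵁ V = iSup fun i : t => (i : X.Opens) := by
    ext1; simpa using e
  have h₁ (i : t) : i.1.1 ≤ f ⁻¹ᵁ V := by
    rw [e]
    exact le_iSup (fun i : t => (i : X.Opens)) i
  haveI : Finite t := ht
  letI modP : ∀ i : t, Module Γ(S, V) Γ(F, i.1.1) := fun i =>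
    Module.compHom _ (f.appLE V i.1.1 (h₁ i)).hom
  obtain ⟨i, hi⟩ := LD.QC.exists_mem_weakAss_of_injective_pi
    (N := Γ((Scheme.Modules.pushforward f).obj F, V)) (P := fun i : t => Γ(F, i.1.1))
    (fun i => (F.presheaf.map (homOfLE (h₁ i)).op).hom)
    (by
      intro i a n
      rw [LD.QC.pushforward_smul]
      change F.presheaf.map (homOfLE (h₁ i)).op (f.app V a • (show Γ(F, f ⁻¹ᵁ V) from n)) = _
      rw [LD.QC.smul_res]
      rfl)
    (by
      intro n hn
      exact LD.QC.section_eq_zero_of_cover F (fun i : t => (i : X.Opens)) h₁ e.le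
        (show Γ(F, f ⁻¹ᵁ V) from n) hn)
    _ hw'
  obtain ⟨q, hq, hqp⟩ := LD.QC.exists_weakAss_comap_eq (f.appLE V i.1.1 (h₁ i)).hom
    (N := Γ(F, i.1.1)) (fun a n => rfl) _ hi
  have hqprime : q.IsPrime := by
    rw [LD.QC.mem_weakAss_iff] at hq
    obtain ⟨m, hm⟩ := hq
    exact hm.1.1
  let q' : PrimeSpectrum Γ(X, i.1.1) := ⟨q, hqprime⟩
  have hU := i.1.2
  have hx : hU.fromSpec q' ∈ i.1.1 := LD.QC.fromSpec_mem hU q'
  apply hs
  refine ⟨hU.fromSpec q', ?_⟩
  have h1 := IsAffineOpen.comap_primeIdealOf_appLE V hV i.1.1 hU (h₁ i) hx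
  rw [LD.QC.primeIdealOf_fromSpec hU q' hx] at h1
  have h2 : hV.primeIdealOf ⟨f (hU.fromSpec q'), h₁ i hx⟩ = hV.primeIdealOf ⟨s, hsV⟩ := by
    rw [← h1]
    apply PrimeSpectrum.ext
    rw [← hqp]
    rfl
  have h3 := congrArg hV.fromSpec h2
  rwa [hV.fromSpec_primeIdealOf, hV.fromSpec_primeIdealOf] at h3

end Groth.Agent.S1580
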