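import Groth.Statements.S15808
import Groth.Agent.Lib.Helper8.Wq.CI
import Groth.Agent.S15787
import Groth.Agent.Lib.Helper7.Reg1
import Groth.Agent.Lib.Helper1.RegNormal
-- import your own Groth.Agent.* helpers here

set_option autoImplicit false
universe u
open WildQuot

namespace Groth.Agent.S15808

open MvPolynomial in
/-- Let `k` be a field of characteristic `p > 0`, `n ≥ 2`, `R = k[[x_1, …, x_n]]`, `a_1, …, a_n ∈ R`
with zero constant term and pairwise coprime, `μ ∈ R` nonzero and coprime to each `a_i`; fix an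
index `i₀` and let `B = R[Z_j : j ≠ i₀] / (Z_j ^ p - (μ a_{i₀} a_j) ^ (p-1) Z_j - (a_{i₀} ^ p x_j -
a_j ^ p x_{i₀}) : j ≠ i₀)`, the complete-intersection ring of the minor elements through `u_{i₀}`.
Then `B` is a free `R`-module of rank `p ^ (n-1)`, `B` is an integral domain, and the localisation
`B[1/(μ a_{i₀})]` is integrally closed. (The published statement uses the first index for `i₀`; this
row allows any index.) -/
theorem result
    (p : ℕ) [Fact p.Prime] (k : Type u) [Field k] [CharP k p] (n : ℕ) (hn : 2 ≤ n)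
    (a : Fin n → MvPowerSeries (Fin n) k) (μ : MvPowerSeries (Fin n) k)
    (ham : ∀ i, MvPowerSeries.constantCoeff (a i) = 0) (hcop : ∀ i j, i ≠ j → IsRelPrime (a i) (a j))
    (hμ : μ ≠ 0) (hμa : ∀ i, IsRelPrime μ (a i)) (i₀ : Fin n) :
    let R := MvPowerSeries (Fin n) k
    let r : {j : Fin n // j ≠ i₀} → MvPolynomial {j : Fin n // j ≠ i₀} R := fun j =>
      X j ^ p - C ((μ * a i₀ * a j.1) ^ (p - 1)) * X j
        - C (a i₀ ^ p * MvPowerSeries.X j.1 - a j.1 ^ p * MvPowerSeries.X i₀)
    let B := MvPolynomial {j : Fin n // j ≠ i₀} R ⧸ Ideal.span (Set.range r)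
    Module.Free R B ∧ Module.finrank R B = p ^ (n - 1) ∧ IsDomain B ∧
      IsIntegrallyClosed (Localization.Away (algebraMap R B (μ * a i₀))) := by
  intro R r B
  haveI : CharP (MvPowerSeries (Fin n) k) p :=
    charP_of_injective_algebraMap (algebraMap k (MvPowerSeries (Fin n) k)).injective p
  haveI : IsDomain (MvPowerSeries (Fin n) k) := NoZeroDivisors.to_isDomain _
  have hane : ∀ i, a i ≠ 0 := by
    intro i hi
    obtain ⟨j, hj⟩ : ∃ j : Fin n, j ≠ i := by
      by_cases h0 : (i : ℕ) = 0
      · exact ⟨⟨1, by omega⟩, fun h => by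
          have := congrArg Fin.val h
          simp at this; omega⟩
      · exact ⟨⟨0, by omega⟩, fun h => by
          have := congrArg Fin.val h
          simp at this; omega⟩
    have h1 := hcop i j (Ne.symm hj)
    rw [hi, isRelPrime_zero_left] at h1
    have h2 := (MvPowerSeries.isUnit_iff_constantCoeff).1 h1
    rw [ham j] at h2
    exact not_isUnit_zero h2
  have hμa' : ∀ i, μ * a i ≠ 0 := fun i => mul_ne_zero hμ (hane i)
  have ham' : ∀ i, MvPowerSeries.constantCoeff ((fun i => μ * a i) i) = 0 := by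
    intro i
    simp [ham i]
  have hreg : IsRegularLocalRing (Groth.Agent.H8.WqCI.AA p μ a (fun i => MvPowerSeries.X i)) :=
    (Groth.Agent.S15787.result p k n hn (fun i => μ * a i) ham').1
  haveI := hreg
  haveI : IsDomain (Groth.Agent.H8.WqCI.AA p μ a (fun i => MvPowerSeries.X i)) :=
    Groth.Agent.H7.Reg.isDomain _
  haveI : IsIntegrallyClosed (Groth.Agent.H8.WqCI.AA p μ a (fun i => MvPowerSeries.X i)) :=
    Groth.Agent.H1.Reg.isIntegrallyClosed _
  exact Groth.Agent.H8.WqCI.main p μ a (fun i => MvPowerSeries.X i) i₀ hμa'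

end Groth.Agent.S15808
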