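import Groth.Statements.S15811
import Mathlib
-- import your own Groth.Agent.* helpers here

set_option autoImplicit false
universe u
open WildQuot

namespace Groth.Agent.S15811

/-- Let `R` be an integrally closed domain of prime characteristic `p` with fraction field `K`, and `α ∈
R`. Then `α ≠ 0` and the polynomial `T ^ p - α T` splits into linear factors over `K` — which says
that the finite flat group scheme `Spec R[T]/(T ^ p - α T)` of order `p` has constant generic fibre
(its `p` roots are then distinct) — if and only if `α = a ^ (p-1)` for some nonzero `a ∈ R`. (The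
published statement is that the generic fibre of the finite flat group scheme of order `p` with
parameters `α, β` satisfying `α β = 0`, whose underlying scheme is `Spec R[T]/(T ^ p - α T)`, is
constant if and only if `β = 0` and `α` is the `(p-1)`-th power of a nonzero element of `R`; this
row states the polynomial condition, in which `α ≠ 0` already forces `β = 0` over a domain.) -/
theorem result
    (p : ℕ) [Fact p.Prime] (R : Type u) [CommRing R] [IsDomain R] [IsIntegrallyClosed R]
    [CharP R p] (α : R) :
    (α ≠ 0 ∧ (Polynomial.map (algebraMap R (FractionRing R))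
        (Polynomial.X ^ p - Polynomial.C α * Polynomial.X)).Splits) ↔
      ∃ a : R, a ≠ 0 ∧ α = a ^ (p - 1) := by
  classical
  have hp : p.Prime := Fact.out
  have hp1 : 1 ≤ p - 1 := by have := hp.two_le; omega
  have hpp : p - 1 + 1 = p := by have := hp.two_le; omega
  set K := FractionRing R with hK
  have hinj : Function.Injective (algebraMap R K) := IsFractionRing.injective R K
  have hcharK : CharP K p := charP_of_injective_algebraMap hinj p
  have hmap : Polynomial.map (algebraMap R K) (Polynomial.X ^ p - Polynomial.C α * Polynomial.X)
      = Polynomial.X ^ p - Polynomial.C (algebraMap R K α) * Polynomial.X := by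
    simp
  rw [hmap]
  constructor
  · rintro ⟨hα, hsplit⟩
    have hfac : (Polynomial.X ^ p - Polynomial.C (algebraMap R K α) * Polynomial.X : Polynomial K)
        = Polynomial.X * (Polynomial.X ^ (p - 1) - Polynomial.C (algebraMap R K α)) := by
      rw [mul_sub, ← pow_succ', hpp]; ring
    have hmonic : (Polynomial.X ^ (p - 1) - Polynomial.C (algebraMap R K α) : Polynomial K).Monic :=
      Polynomial.monic_X_pow_sub_C _ (by omega)
    have hne : (Polynomial.X ^ p - Polynomial.C (algebraMap R K α) * Polynomial.X : Polynomial K) ≠ 0 := by
      rw [hfac]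
      exact mul_ne_zero Polynomial.X_ne_zero hmonic.ne_zero
    have hsplit2 : (Polynomial.X ^ (p - 1) - Polynomial.C (algebraMap R K α) : Polynomial K).Splits :=
      Polynomial.Splits.of_dvd hsplit hne ⟨Polynomial.X, by rw [hfac]; ring⟩
    have hdeg : (Polynomial.X ^ (p - 1) - Polynomial.C (algebraMap R K α) : Polynomial K).degree ≠ 0 := by
      rw [Polynomial.degree_X_pow_sub_C (by omega)]
      exact_mod_cast (by omega : p - 1 ≠ 0)
    obtain ⟨b, hb⟩ := hsplit2.exists_eval_eq_zero hdeg
    simp only [Polynomial.eval_sub, Polynomial.eval_pow, Polynomial.eval_X, Polynomial.eval_C,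
      sub_eq_zero] at hb
    have hbint : IsIntegral R b := by
      refine ⟨Polynomial.X ^ (p - 1) - Polynomial.C α, Polynomial.monic_X_pow_sub_C _ (by omega), ?_⟩
      simp [hb]
    obtain ⟨a, rfl⟩ := IsIntegrallyClosed.algebraMap_eq_of_integral hbint
    refine ⟨a, ?_, ?_⟩
    · rintro rfl
      apply hα
      apply hinj
      rw [← hb]
      simp [zero_pow (by omega : p - 1 ≠ 0)]
    · apply hinj
      rw [← hb, map_pow]
  · rintro ⟨a, ha, rfl⟩
    refine ⟨pow_ne_zero _ ha, ?_⟩
    set a' := algebraMap R K a with ha'
    have ha'0 : a' ≠ 0 := by
      rw [ha']; exact (map_ne_zero_iff _ hinj).mpr ha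
    set f : Polynomial K := Polynomial.X ^ p - Polynomial.C (algebraMap R K (a ^ (p - 1))) * Polynomial.X with hf
    have hfdeg : f.natDegree = p := by
      rw [hf]
      have hlt : (Polynomial.C (algebraMap R K (a ^ (p - 1))) * Polynomial.X : Polynomial K).natDegree
          < (Polynomial.X ^ p : Polynomial K).natDegree := by
        rw [Polynomial.natDegree_X_pow]
        refine (Polynomial.natDegree_C_mul_le _ _).trans_lt ?_
        rw [Polynomial.natDegree_X]; exact hp.one_lt
      rw [Polynomial.natDegree_sub_eq_left_of_natDegree_lt hlt, Polynomial.natDegree_X_pow]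
    have hf0 : f ≠ 0 := by
      intro h0
      rw [h0, Polynomial.natDegree_zero] at hfdeg
      exact hp.ne_zero hfdeg.symm
    let φ : ZMod p →+* K := ZMod.castHom (dvd_refl p) K
    have hφinj : Function.Injective φ := φ.injective
    have hroot : ∀ c : ZMod p, φ c * a' ∈ f.roots := by
      intro c
      rw [Polynomial.mem_roots hf0, Polynomial.IsRoot.def, hf]
      simp only [Polynomial.eval_sub, Polynomial.eval_pow, Polynomial.eval_X, Polynomial.eval_mul,
        Polynomial.eval_C, map_pow]
      rw [mul_pow, ← map_pow, ZMod.pow_card, ← ha']
      have : a' ^ p = a' ^ (p - 1) * a' := by rw [← pow_succ, hpp]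
      rw [this]; ring
    have hinj2 : Function.Injective (fun c : ZMod p => φ c * a') := by
      intro c d hcd
      exact hφinj (mul_right_cancel₀ ha'0 hcd)
    rw [Polynomial.splits_iff_card_roots]
    refine le_antisymm (Polynomial.card_roots' f) ?_
    rw [hfdeg]
    have hsub : (Finset.univ.image (fun c : ZMod p => φ c * a')).val ≤ f.roots := by
      rw [Multiset.le_iff_subset (Finset.nodup _)]
      intro x hx
      rw [Finset.mem_val, Finset.mem_image] at hx
      obtain ⟨c, _, rfl⟩ := hx
      exact hroot c
    have hcard := Multiset.card_le_card hsub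
    rw [Finset.card_val, Finset.card_image_of_injective _ hinj2, Finset.card_univ, ZMod.card] at hcard
    exact hcard

end Groth.Agent.S15811
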