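import Groth.Statements.S15816
import Groth.Agent.S15815
import Groth.Agent.S15821

set_option autoImplicit false
universe u
open CategoryTheory
open scoped TensorProduct
open Koszul

namespace Groth.Agent.S15816

/-- Let A be a commutative ring, f = (f_1, …, f_n) a sequence in A that is regular in the weak sense
(f_1 is a non-zero-divisor of A and each f_i is a non-zero-divisor modulo (f_1, …, f_{i-1})), with
Koszul complex K(f) and differentials ∂^q, and let x be a non-zero-divisor of A. Then for every
integer q < 0 the q-th cohomology module of the Koszul complex of (x f_1, …, x f_n) is isomorphic as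
an A-module to Ker(∂^q) ⊗_A A/(x) (existence of an A-linear isomorphism; mapping-cone model of the
Koszul complex). -/
theorem result (A : Type u) [CommRing A] (l : List A)
    (hl : RingTheory.Sequence.IsWeaklyRegular A l) (x : A) (hx : x ∈ nonZeroDivisors A) (q : ℤ) (hq : q < 0) :
    Nonempty ((Koszul.koszul A (l.map (fun f => x * f))).homology q ≅
      ModuleCat.of A (↥(LinearMap.ker ((Koszul.koszul A l).d q (q + 1)).hom) ⊗[A] (A ⧸ Ideal.span {x}))) := by
  obtain ⟨e⟩ := Groth.Agent.S15815.result A l x hx q
  set K := Koszul.koszul A l with hK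
  have hz : Limits.IsZero (K.homology q) := (Groth.Agent.S15821.result A l hl).1 q (by omega)
  have hex : K.ExactAt q := by
    rw [HomologicalComplex.exactAt_iff_isZero_homology]
    exact hz
  have hex' : (K.sc' (q - 1) q (q + 1)).Exact := by
    rw [← HomologicalComplex.exactAt_iff' K (q - 1) q (q + 1) (by simp) (by simp)]
    exact hex
  have hrk : LinearMap.range (K.d (q - 1) q).hom = LinearMap.ker (K.d q (q + 1)).hom := by
    have := (ShortComplex.moduleCat_exact_iff_range_eq_ker _).1 hex'
    exact this
  have h1 : Submodule.comap (LinearMap.ker (K.d q (q + 1)).hom).subtype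
      (Ideal.span {x} • LinearMap.range (K.d (q - 1) q).hom) =
      Ideal.span {x} • (⊤ : Submodule A (LinearMap.ker (K.d q (q + 1)).hom)) := by
    rw [hrk]
    have h2 : LinearMap.ker (K.d q (q + 1)).hom =
        Submodule.map (LinearMap.ker (K.d q (q + 1)).hom).subtype ⊤ := by
      rw [Submodule.map_top, Submodule.range_subtype]
    have h3 : Ideal.span {x} • LinearMap.ker (K.d q (q + 1)).hom =
        Submodule.map (LinearMap.ker (K.d q (q + 1)).hom).subtype
          (Ideal.span {x} • (⊤ : Submodule A (LinearMap.ker (K.d q (q + 1)).hom))) := by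
      rw [Submodule.map_smul'', ← h2]
    rw [h3]
    exact Submodule.comap_map_eq_of_injective (Submodule.injective_subtype _) _
  have e2 : (↥(LinearMap.ker (K.d q (q + 1)).hom) ⧸
        Submodule.comap (LinearMap.ker (K.d q (q + 1)).hom).subtype
          (Ideal.span {x} • LinearMap.range (K.d (q - 1) q).hom)) ≃ₗ[A]
      (↥(LinearMap.ker (K.d q (q + 1)).hom) ⊗[A] (A ⧸ Ideal.span {x})) :=
    (Submodule.quotEquivOfEq _ _ h1) ≪≫ₗ
      (TensorProduct.tensorQuotEquivQuotSMul (LinearMap.ker (K.d q (q + 1)).hom)
        (Ideal.span {x})).symm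
  exact ⟨e ≪≫ e2.toModuleIso⟩

end Groth.Agent.S15816
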