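import Groth.Statements.S1582
import Mathlib
import Groth.Agent.Lib.Helper1.GeomIrrSch
import Groth.Agent.Lib.Helper1.BCTowerApp
import Groth.Agent.Lib.Helper2.UnivOpenDiscrete

set_option autoImplicit false
universe u
open CategoryTheory CategoryTheory.Limits AlgebraicGeometry
open Variety

namespace Groth.Agent.S1582

/-- Let k be algebraically closed and X, Y varieties over k (integral, separated, of finite type). Then
the fibre product X ×_k Y is integral (and so again a variety over k). -/
theorem result (k : Type u) [Field k] [IsAlgClosed k] (X Y : Scheme.{u})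
    (f : X ⟶ Spec (CommRingCat.of k)) (g : Y ⟶ Spec (CommRingCat.of k))
    [IsIntegral X] [IsIntegral Y] [IsSeparated f] [IsSeparated g]
    [LocallyOfFiniteType f] [LocallyOfFiniteType g] [QuasiCompact f] [QuasiCompact g] :
    IsIntegral (pullback f g) := by
  letI : X.Over (Spec (CommRingCat.of k)) := ⟨f⟩
  haveI hiso : IsIso (Spec.map (CommRingCat.ofHom (algebraMap k k))) := by
    have : CommRingCat.ofHom (algebraMap k k) = 𝟙 _ := rfl
    rw [this, Spec.map_id]; infer_instance
  haveI hiso' : IsIso (Curv2.bcFst k X k) := by
    show IsIso (pullback.fst (X ↘ Spec (CommRingCat.of k))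
      (Spec.map (CommRingCat.ofHom (algebraMap k k))))
    infer_instance
  haveI : IrreducibleSpace ↥(Curv2.bc k X k) :=
    (asIso (Curv2.bcFst k X k)).hom.homeomorph.irreducibleSpace_iff.mpr inferInstance
  haveI : GeometricallyIrreducible f :=
    Groth.Agent.H1.GeomIrrSch.geometricallyIrreducible_of_sepClosed k X k
  haveI : IsOpenImmersion (Curv2.bcFst k X k) := IsOpenImmersion.of_isIso _
  have h1 : AlgebraicGeometry.IsReduced (Curv2.bc k X k) :=
    isReduced_of_isOpenImmersion (Curv2.bcFst k X k)
  haveI : AlgebraicGeometry.IsReduced (FBase.bc f k) := h1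
  haveI : GeometricallyReduced f := Groth.Agent.H1.BCTower.s2535 (Ω := k) f
  haveI : GeometricallyIntegral f :=
    GeometricallyIntegral.of_geometricallyReduced_of_geometricallyIrreducible f
  haveI : UniversallyOpen f := Groth.Agent.H2.universallyOpen_of_subsingleton f
  haveI : IsLocallyNoetherian Y := LocallyOfFiniteType.isLocallyNoetherian g
  infer_instance

end Groth.Agent.S1582
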