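import Groth.Statements.S15824
import Groth.Agent.Lib.Helper1.RegNear
import Groth.Agent.Lib.Helper2.CInt2
import Groth.Agent.Lib.Helper1.BCStalkCM
import Groth.Agent.Lib.Helper9.Misc.CMS1
import Groth.Agent.Lib.Helper6.Liai3
import Groth.Agent.Lib.Helper3.DepthAux
-- import your own Groth.Agent.* helpers here

set_option autoImplicit false
universe u
open CategoryTheory AlgebraicGeometry
open RegImm

namespace Groth.Agent.S15824

/-- Let X be a locally Noetherian scheme all of whose local rings are Cohen–Macaulay, and i : Z → X a
closed immersion which is regular (around every point, on some affine open of X the ideal of Z is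
generated by a regular sequence). Then Z has no embedded points (each associated point of Z is
generic in an irreducible component): for every point z of Z, if the maximal ideal of O_{Z,z} is an
associated prime of O_{Z,z} (as a module over itself), then O_{Z,z} has Krull dimension 0. (The
published statement takes X Noetherian and Z a local complete intersection subscheme; the assertion
is local on X and uses only that the ideal of Z is locally generated by a regular sequence.) -/
theorem result {X Z : Scheme.{u}}
    [IsLocallyNoetherian X] (hCM : ∀ x : X, LocCoh.IsCohenMacaulayLocalRing (X.presheaf.stalk x))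
    (i : Z ⟶ X) [IsClosedImmersion i] (hi : RegImm.IsRegularImmersion RegImm.Kind.regular i) (z : Z)
    (hz : IsAssociatedPrime (IsLocalRing.maximalIdeal (Z.presheaf.stalk z)) (Z.presheaf.stalk z)) :
    ringKrullDim (Z.presheaf.stalk z) = 0 := by
  obtain ⟨U, hzU, -, rs, hrs, hker⟩ := hi.2 z
  have hchart : Groth.Agent.H1.RegNear.HasRegChart i z :=
    ⟨U.1, U.2, hzU, rs, hrs, by rw [Scheme.Hom.ker_apply]; exact hker⟩
  obtain ⟨L, hL, hkerL⟩ := Groth.Agent.H1.RegNear.regAt_of_hasRegChart i z hchart
  haveI := hCM (i z)
  haveI : LocCoh.IsCohenMacaulayRing (X.presheaf.stalk (i z)) :=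
    Groth.Agent.H1.BCStalk.cmRing_of_cmLocal _
  have h1 := Groth.Agent.H2.CInt.cm_quot_ofList_take L hL.toIsWeaklyRegular L.length le_rfl
  rw [List.take_length] at h1
  have hsurj : Function.Surjective (i.stalkMap z).hom := i.stalkMap_surjective z
  let e : (X.presheaf.stalk (i z) ⧸ Ideal.ofList L) ≃+* Z.presheaf.stalk z :=
    (Ideal.quotEquivOfEq hkerL.symm).trans (RingHom.quotientKerEquivOfSurjective hsurj)
  haveI := h1
  haveI hZcm : LocCoh.IsCohenMacaulayRing (Z.presheaf.stalk z) :=
    Groth.Agent.H6.Liai.cm_of_ringEquiv e
  haveI hZcmL : LocCoh.IsCohenMacaulayLocalRing (Z.presheaf.stalk z) :=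
    Groth.Agent.H9.CMS.cmLocal_of_cmRing _
  have hdepth : LocCoh.depth (Z.presheaf.stalk z) (Z.presheaf.stalk z) = 0 :=
    (Groth.Agent.H3.DepthAux.depth_eq_zero_iff_mem_associatedPrimes _ _).mpr
      (AssociatedPrimes.mem_iff.mpr hz)
  have h2 := hZcmL.supportDim_eq_depth
  rw [Module.supportDim_self_eq_ringKrullDim, hdepth] at h2
  rw [h2]
  rfl

end Groth.Agent.S15824
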