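import Groth.Statements.S15835
import Mathlib
-- import your own Groth.Agent.* helpers here

set_option autoImplicit false
universe u
open SprIso

namespace Groth.Agent.S15835

/-- Over a commutative ring R of prime characteristic p, let n ≥ 1 and let p^m be the largest power of p
dividing n. The locus of n × n matrices with characteristic polynomial t^n is stable under adding a
scalar matrix a·1 with n·a = 0 exactly when a^(p^m) = 0: for X with characteristic polynomial t^n
and such an a, the matrix X + a·1 has characteristic polynomial t^n if and only if a^(p^m) = 0.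
(Stated on points with values in an arbitrary ring of characteristic p; the scheme-theoretic
assertion about the nilpotent scheme of SL_n is this statement for all such rings.) -/
theorem result (p : ℕ) [Fact p.Prime] (R : Type u) [CommRing R]
    [CharP R p] (n : ℕ) (hn : 0 < n) (X : Matrix (Fin n) (Fin n) R) (hX : X.charpoly = Polynomial.X ^ n)
    (a : R) (ha : (n : R) * a = 0) :
    (X + Matrix.scalar (Fin n) a).charpoly = Polynomial.X ^ n ↔ a ^ (p ^ padicValNat p n) = 0 := by
  classical
  have hp : p.Prime := Fact.out
  have hcharPoly : CharP (Polynomial R) p := inferInstance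
  set m := padicValNat p n with hm
  have hn0 : n ≠ 0 := hn.ne'
  have hfac : n.factorization p = m := Nat.factorization_def n hp
  set n' := n / p ^ m with hn'
  have hnn' : p ^ m * n' = n := by
    have := Nat.ordProj_mul_ordCompl_eq_self n p
    rw [hfac] at this
    exact this
  have hpn' : ¬ p ∣ n' := by
    have := Nat.not_dvd_ordCompl hp hn0
    rw [hfac] at this
    exact this
  have hn'pos : 0 < n' := by
    rcases Nat.eq_zero_or_pos n' with h | h
    · rw [h, mul_zero] at hnn'; exact absurd hnn'.symm hn0
    · exact h
  -- charpoly of X + a
  have hchar : (X + Matrix.scalar (Fin n) a).charpoly = (Polynomial.X - Polynomial.C a) ^ n := by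
    have h1 := Matrix.charpoly_sub_scalar X (-a)
    rw [map_neg, sub_neg_eq_add] at h1
    rw [h1, hX]
    simp [sub_eq_add_neg]
  rw [hchar]
  have hpow : (Polynomial.X - Polynomial.C a : Polynomial R) ^ n
      = Polynomial.expand R (p ^ m) ((Polynomial.X - Polynomial.C (a ^ p ^ m)) ^ n') := by
    rw [← hnn', pow_mul, sub_pow_char_pow, map_pow, map_sub, Polynomial.expand_X,
      Polynomial.expand_C, Polynomial.C_pow]
  have hXn : (Polynomial.X : Polynomial R) ^ n = Polynomial.expand R (p ^ m) (Polynomial.X ^ n') := by
    rw [← hnn', pow_mul]
    simp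
  rw [hpow, hXn, (Polynomial.expand_injective (pow_pos hp.pos m)).eq_iff]
  constructor
  · intro h
    -- compose with X + C b
    set b := a ^ p ^ m with hb
    have h2 := congrArg (fun f : Polynomial R => f.comp (Polynomial.X + Polynomial.C b)) h
    simp only [Polynomial.pow_comp, Polynomial.sub_comp, Polynomial.X_comp, Polynomial.C_comp,
      add_sub_cancel_right] at h2
    have h3 := congrArg (fun f : Polynomial R => f.coeff (n' - 1)) h2
    simp only [Polynomial.coeff_X_add_C_pow, Polynomial.coeff_X_pow] at h3
    have hne : n' - 1 ≠ n' := by omega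
    rw [if_neg hne] at h3
    have hsub : n' - (n' - 1) = 1 := by omega
    have hch : n'.choose (n' - 1) = n' := by
      rw [Nat.choose_symm (by omega : 1 ≤ n'), Nat.choose_one_right]
    rw [hch, hsub, pow_one] at h3
    -- n' is a unit
    have hunit : IsUnit ((n' : ℕ) : R) := by
      have h1 : ((n' : ℕ) : ZMod p) ≠ 0 := by
        rw [Ne, ZMod.natCast_eq_zero_iff]
        exact hpn'
      have h2 : IsUnit ((n' : ℕ) : ZMod p) := IsUnit.mk0 _ h1
      have h3 := h2.map (ZMod.castHom (dvd_refl p) R)
      simpa using h3
    exact (hunit.mul_left_eq_zero).mp h3.symm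
  · intro h
    rw [h]
    simp

end Groth.Agent.S15835
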