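import Groth.Statements.S15841
-- import your own Groth.Agent.* helpers here

set_option autoImplicit false
universe u
open scoped TensorProduct
open SprIso

namespace Groth.Agent.S15841

/-- For a connected reductive group G with maximal torus T whose derived group is simply connected, and
a Coxeter element w (the product of the simple reflections, each once, in any order), an element of
Lie T = k ⊗ X_*(T) fixed by Ad(w) is killed by the differential of every simple root, i.e. lies in
the centre of Lie G. In root-datum form: let P be a root pairing over ℤ with character lattice M and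
cocharacter lattice N, b a base, and suppose each simple coroot has a dual character ω_i in M with
⟨ω_i, α_i^∨⟩ = 1 and ⟨ω_i, α_j^∨⟩ = 0 for every other simple j (the simply connected derived group
hypothesis). If l lists the simple roots without repetition, w^∨ is the composite of the
coreflections along l acting on N, k is a field and H in k ⊗ N satisfies w^∨_k H = H, then (α_i)_k H
= 0 for every simple root α_i, where (α_i)_k is the base change to k of the functional ⟨α_i, −⟩ on
N. (Stated for an arbitrary field k; the published setting is an algebraically closed field, and the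
argument does not depend on k.) -/
theorem result {ι M N : Type u} [AddCommGroup M] [AddCommGroup N]
    (P : RootPairing ι ℤ M N) (b : P.Base)
    (hsc : ∀ i ∈ b.support, ∃ ω : M, P.coroot' i ω = 1 ∧ ∀ j ∈ b.support, j ≠ i → P.coroot' j ω = 0)
    (l : List ι) (hl : l.Nodup) (hlb : ∀ i : ι, i ∈ l ↔ i ∈ b.support)
    (k : Type u) [Field k] (H : k ⊗[ℤ] N)
    (hH : ((l.map (fun i => ((P.coreflection i : N ≃ₗ[ℤ] N) : N →ₗ[ℤ] N))).prod).baseChange k H = H) :
    ∀ i ∈ b.support, (P.root' i).baseChange k H = 0 := by
  classical
  -- notation
  let S : ι → Module.End ℤ N := fun i => ((P.coreflection i : N ≃ₗ[ℤ] N) : N →ₗ[ℤ] N)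
  let C : ι → (ℤ →ₗ[ℤ] N) := fun j => LinearMap.toSpanSingleton ℤ N (P.coroot j)
  have hS : ∀ j, S j = LinearMap.id - (C j) ∘ₗ (P.root' j) := by
    intro j
    ext y
    simp [S, C, P.coreflection_apply]
  have hSk : ∀ j (x : k ⊗[ℤ] N), (P.root' j).baseChange k x = 0 → (S j).baseChange k x = x := by
    intro j x hx
    rw [hS, LinearMap.baseChange_sub, LinearMap.baseChange_id, LinearMap.baseChange_comp]
    simp [hx]
  -- the functionals
  choose! ω hω1 hω2 using hsc
  let f : ι → (N →ₗ[ℤ] ℤ) := fun i => P.toLinearMap (ω i)
  have hf_ne : ∀ i ∈ b.support, ∀ j ∈ b.support, j ≠ i → (f i) ∘ₗ (S j) = f i := by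
    intro i hi j hj hji
    ext y
    have h0 : P.toLinearMap (ω i) (P.coroot j) = 0 := hω2 i hi j hj hji
    simp [f, S, P.coreflection_apply, h0]
  have hf_eq : ∀ i ∈ b.support, (f i) ∘ₗ (S i) = f i - P.root' i := by
    intro i hi
    ext y
    have h0 : P.toLinearMap (ω i) (P.coroot i) = 1 := hω1 i hi
    simp [f, S, P.coreflection_apply, h0]
  -- main induction
  have main : ∀ l : List ι, l.Nodup → (∀ i ∈ l, i ∈ b.support) → ∀ H : k ⊗[ℤ] N,
      ((l.map S).prod).baseChange k H = H → ∀ i ∈ l, (P.root' i).baseChange k H = 0 := by
    intro l
    induction l with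
    | nil => intro _ _ _ _ i hi; simp at hi
    | cons a l' ih =>
      intro hnd hsup H hH
      rw [List.nodup_cons] at hnd
      obtain ⟨hal', hnd'⟩ := hnd
      have ha : a ∈ b.support := hsup a (by simp)
      have hsup' : ∀ i ∈ l', i ∈ b.support := fun i hi => hsup i (by simp [hi])
      rw [List.map_cons, List.prod_cons, LinearMap.baseChange_mul] at hH
      set H' := ((l'.map S).prod).baseChange k H with hH'
      have hH2 : (S a).baseChange k H' = H := hH
      -- F_a is invariant under T_{l'}
      have hinv : ∀ l'' : List ι, (∀ i ∈ l'', i ∈ b.support) → a ∉ l'' →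
          (f a) ∘ₗ (l''.map S).prod = f a := by
        intro l''
        induction l'' with
        | nil => intro _ _; simp only [List.map_nil, List.prod_nil]; rfl
        | cons c l3 ih3 =>
          intro hs hn
          rw [List.map_cons, List.prod_cons, Module.End.mul_eq_comp, ← LinearMap.comp_assoc,
            hf_ne a ha c (hs c (by simp)) (fun h => hn (by simp [h])),
            ih3 (fun i hi => hs i (by simp [hi])) (fun h => hn (by simp [h]))]
      have h1 : (f a).baseChange k H' = (f a).baseChange k H := by
        rw [hH', ← LinearMap.comp_apply, ← LinearMap.baseChange_comp, hinv l' hsup' hal']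
      have h2 : (f a).baseChange k H = (f a).baseChange k H' - (P.root' a).baseChange k H' := by
        conv_lhs => rw [← hH2]
        rw [← LinearMap.comp_apply, ← LinearMap.baseChange_comp, hf_eq a ha, LinearMap.baseChange_sub]
        rfl
      have h3 : (P.root' a).baseChange k H' = 0 := by
        rw [h1] at h2
        have := sub_eq_zero.mpr h2
        simpa using this
      have h4 : H' = H := by rw [← hH2]; exact (hSk a H' h3).symm
      intro i hi
      rcases List.mem_cons.1 hi with rfl | hi'
      · rw [← h4]; exact h3
      · exact ih hnd' hsup' H h4 i hi'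
  intro i hi
  exact main l hl (fun i hi => (hlb i).1 hi) H hH i ((hlb i).2 hi)

end Groth.Agent.S15841
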