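import Groth.Statements.S15844
import Groth.Agent.Lib.Helper9.Misc.Cyc5

set_option autoImplicit false
universe u
open SprIso

namespace Groth.Agent.S15844

/-- General linear group case: this is the case G = GL_n (derived group SL_n simply connected, all
primes good). Let A be a commutative ring, u an n × n matrix over A with characteristic polynomial
(t − 1)^n (a section of the unipotent scheme) and X one with characteristic polynomial t^n (a
section of the nilpotent scheme), both fiberwise regular — at every field-valued point A → K the
commutant in M_n(K) has dimension n — and suppose X commutes with u (X lies in the Lie algebra of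
the centralizer of u). Then Z(u) = Z(X) inside GL_n: for every commutative A-algebra B and every
invertible x ∈ M_n(B), x commutes with u_B if and only if x commutes with X_B. -/
theorem result (A : Type u) [CommRing A] (n : ℕ)
    (u X : Matrix (Fin n) (Fin n) A)
    (hu : u.charpoly = (Polynomial.X - 1) ^ n) (hX : X.charpoly = Polynomial.X ^ n)
    (hureg : ∀ (K : Type u) [Field K] (φ : A →+* K),
      Module.finrank K (Subalgebra.centralizer K ({u.map φ} : Set (Matrix (Fin n) (Fin n) K))) = n)
    (hXreg : ∀ (K : Type u) [Field K] (φ : A →+* K),
      Module.finrank K (Subalgebra.centralizer K ({X.map φ} : Set (Matrix (Fin n) (Fin n) K))) = n)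
    (hXu : X * u = u * X)
    (B : Type u) [CommRing B] [Algebra A B] (x : Matrix (Fin n) (Fin n) B) (hx : IsUnit x) :
    x * u.map (algebraMap A B) = u.map (algebraMap A B) * x ↔
      x * X.map (algebraMap A B) = X.map (algebraMap A B) * x := by
  have hmapreg : ∀ (M : Matrix (Fin n) (Fin n) A)
      (hM : ∀ (K : Type u) [Field K] (φ : A →+* K),
        Module.finrank K (Subalgebra.centralizer K ({M.map φ} : Set (Matrix (Fin n) (Fin n) K))) = n),
      ∀ (K : Type u) [Field K] (φ : B →+* K),
        Module.finrank K (Subalgebra.centralizer K
          ({(M.map (algebraMap A B)).map φ} : Set (Matrix (Fin n) (Fin n) K))) = n := by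
    intro M hM K _ φ
    have h := hM K (φ.comp (algebraMap A B))
    have hmm : (M.map (algebraMap A B)).map φ = M.map (φ.comp (algebraMap A B)) := by
      rw [Matrix.map_map]
      rfl
    rw [hmm]
    exact h
  have hXuB : X.map (algebraMap A B) * u.map (algebraMap A B)
      = u.map (algebraMap A B) * X.map (algebraMap A B) := by
    rw [← Matrix.map_mul, ← Matrix.map_mul, hXu]
  constructor
  · intro hxu
    exact Groth.Agent.H9.Cyc.commute_of_regular (u.map (algebraMap A B)) (hmapreg u hureg)
      x (X.map (algebraMap A B)) hxu hXuB
  · intro hxX
    exact Groth.Agent.H9.Cyc.commute_of_regular (X.map (algebraMap A B)) (hmapreg X hXreg)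
      x (u.map (algebraMap A B)) hxX hXuB.symm

end Groth.Agent.S15844
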