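import Groth.Statements.S15893
-- import your own Groth.Agent.* helpers here

set_option autoImplicit false
universe u v w
open CartDual

namespace Groth.Agent.S15893

theorem gen {R : Type u} [CommRing R] {A : Type v} {B : Type w} {C : Type*} [Semiring A] [Semiring B] [Semiring C]
    [Bialgebra R A] [Bialgebra R B] [Bialgebra R C] (e : B →ₐc[R] C) (he : Function.Bijective e) (h : A →ₐc[R] C) :
    ∃ f : A →ₐc[R] B, ∀ a, e (f a) = h a := by
  refine ⟨((BialgEquiv.ofBijective e he).symm : C →ₐc[R] B).comp h, fun a => ?_⟩
  exact (BialgEquiv.ofBijective e he).apply_symm_apply (h a)


/-- Let R be a commutative ring and A, B commutative and cocommutative Hopf algebras over R, each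
finitely generated and projective as an R-module (finite locally free commutative group schemes G =
Spec A, H = Spec B over Spec R). Then Cartier duality is a fully faithful contravariant functor: the
map sending a bialgebra homomorphism f : A → B (a homomorphism of group schemes H → G) to its
transpose between the dual Hopf algebras, Hom_R(B, R) → Hom_R(A, R) (the dual homomorphism G^D →
H^D), is a bijection between bialgebra homomorphisms A → B and bialgebra homomorphisms Hom_R(B, R) →
Hom_R(A, R). (The published statement also asserts that the canonical map to the double dual is an
isomorphism, which makes duality an involutory anti-equivalence; that part is not restated here. The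
published notes work over a Noetherian base ring; the row allows any commutative base ring.) -/
theorem result (R : Type u) [CommRing R] (A : Type v) (B : Type w)
    [CommRing A] [HopfAlgebra R A] [Coalgebra.IsCocomm R A] [Module.Finite R A] [Module.Projective R A]
    [CommRing B] [HopfAlgebra R B] [Coalgebra.IsCocomm R B] [Module.Finite R B] [Module.Projective R B] :
    Function.Bijective (fun f : A →ₐc[R] B => CartDual.transpose R f) := by
  have hev : Function.Bijective (CartDual.eval R B) := by
    have h1 := Module.bijective_dual_eval R B
    have h2 := (LinearEquiv.dualMap (CartDual.toDual R B)).bijective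
    have h3 := (CartDual.toDual R (CartDual.D R B)).symm.bijective
    exact h3.comp (h2.comp h1)
  constructor
  · intro f f' hff'
    apply BialgHom.ext
    intro a
    apply Module.eval_apply_injective R (V := B)
    ext φ
    have := congrArg (fun g : CartDual.D R B →ₐc[R] CartDual.D R A => g ((CartDual.toDual R B).symm φ) a) hff'
    simpa using this
  · intro g
    obtain ⟨f, hf⟩ := @gen R _ A B (CartDual.D R (CartDual.D R B)) _ _ _ _ _
      (CartDual.instBialgebra R (CartDual.D R B)) (CartDual.eval R B) hev
      ((CartDual.transpose R g).comp (CartDual.eval R A))
    refine ⟨f, ?_⟩
    apply BialgHom.ext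
    intro x
    apply WithConv.ext
    apply LinearMap.ext
    intro a
    change x (f a) = g x a
    have h' := congrArg (fun z : CartDual.D R (CartDual.D R B) => z x) (hf a)
    simp only [CartDual.eval_apply] at h'
    rw [h']
    rfl

end Groth.Agent.S15893
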