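import Groth.Statements.S15894
-- import your own Groth.Agent.* helpers here

set_option autoImplicit false
universe u
open scoped TensorProduct
open Versch

namespace Groth.Agent.S15894

/-- Let p be a prime, R a commutative ring of characteristic p and A = R[ℤ/p] the group algebra of the
cyclic group of order p, the Hopf algebra of the group scheme μ_p of p-th roots of unity over Spec
R. Let v : A → A ⊗_R R^(Frob) be the comorphism of the Verschiebung V : μ_p^(p) → μ_p (the ring map
whose transpose under the canonical pairing is the relative Frobenius of the dual Hopf algebra).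
Then v(c·g) = g ⊗ c for every group element g and every scalar c ∈ R, the scalar being moved into
the Frobenius-twisted factor through the identity of underlying rings: under the identification
μ_p^(p) = μ_p the Verschiebung of μ_p is the identity. -/
theorem result (p : ℕ) [Fact p.Prime] (R : Type u) [CommRing R] [CharP R p]
    (v : MonoidAlgebra R (Multiplicative (ZMod p)) →+* FrobAlg.BaseChange p R (MonoidAlgebra R (Multiplicative (ZMod p))))
    (hv : Versch.IsVerschiebung p R (MonoidAlgebra R (Multiplicative (ZMod p))) v)
    (g : Multiplicative (ZMod p)) (c : R) :
    v (MonoidAlgebra.single g c) = MonoidAlgebra.single g (1 : R) ⊗ₜ[R] FrobAlg.toTwist p R c := by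
  have hgl : ∀ (x : CartDual.D R (MonoidAlgebra R (Multiplicative (ZMod p)))) (n : ℕ),
      (x ^ n) (MonoidAlgebra.single g (1 : R)) = (x (MonoidAlgebra.single g (1 : R))) ^ n := by
    intro x n
    induction n with
    | zero =>
      rw [pow_zero, pow_zero]
      change algebraMap R R (Coalgebra.counit (R := R) (MonoidAlgebra.single g (1 : R))) = 1
      simp [MonoidAlgebra.counit_single]
    | succ n ih =>
      rw [pow_succ, pow_succ, LinearMap.convMul_apply, MonoidAlgebra.comul_single]
      simp only [Bialgebra.comul_one, Algebra.TensorProduct.one_def]
      simp [TensorProduct.map_tmul, ← ih, CartDual.coe_apply]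
  rw [Versch.isVerschiebung_iff] at hv
  apply Versch.evTw_injective p R
  intro x
  rw [hv, Versch.evTw_tmul']
  have hs : MonoidAlgebra.single g c = c • MonoidAlgebra.single g (1 : R) := by
    rw [MonoidAlgebra.smul_single, smul_eq_mul, mul_one]
  rw [hs, CartDual.coe_apply, map_smul, smul_eq_mul, ← CartDual.coe_apply, hgl, map_mul, mul_comm]

end Groth.Agent.S15894
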