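import Groth.Statements.S15895
import Groth.Prelude.Def_CartDual2
-- import your own Groth.Agent.* helpers here

set_option autoImplicit false
universe u
open scoped TensorProduct
open Versch

namespace Groth.Agent.S15895

/-- Let p be a prime, R a commutative ring of characteristic p and B = Hom_R(R[ℤ/p], R) the dual Hopf
algebra of the group algebra of the cyclic group of order p: the Hopf algebra of the constant group
scheme ℤ/p over Spec R (the Cartier dual of μ_p). Let v : B → B ⊗_R R^(Frob) be the comorphism of
the Verschiebung V : (ℤ/p)^(p) → ℤ/p (the ring map whose transpose under the canonical pairing is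
the relative Frobenius of the dual Hopf algebra of B). Then V is the trivial homomorphism: v is the
composite of the counit ε : B → R, the identity of underlying rings R → R^(Frob) and the inclusion
of the twisted factor R^(Frob) → B ⊗_R R^(Frob), i.e. v(b) = 1 ⊗ ε(b). -/
theorem result (p : ℕ) [Fact p.Prime] (R : Type u) [CommRing R]
    [CharP R p] (v : CartDual.D R (MonoidAlgebra R (Multiplicative (ZMod p))) →+* FrobAlg.BaseChange p R (CartDual.D R (MonoidAlgebra R (Multiplicative (ZMod p)))))
    (hv : Versch.IsVerschiebung p R (CartDual.D R (MonoidAlgebra R (Multiplicative (ZMod p)))) v) :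
    v = ((Algebra.TensorProduct.includeRight (R := R) (A := CartDual.D R (MonoidAlgebra R (Multiplicative (ZMod p))))
            (B := FrobAlg.Twist p R)).toRingHom.comp (FrobAlg.toTwist p R).toRingHom).comp
          (Bialgebra.counitAlgHom R (CartDual.D R (MonoidAlgebra R (Multiplicative (ZMod p))))).toRingHom := by
  -- notation
  have hev : Function.Bijective (CartDual.eval R (MonoidAlgebra R (Multiplicative (ZMod p)))) := by
    have h1 := Module.bijective_dual_eval R (MonoidAlgebra R (Multiplicative (ZMod p)))
    have h2 := (LinearEquiv.dualMap (CartDual.toDual R (MonoidAlgebra R (Multiplicative (ZMod p))))).bijective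
    have h3 := (CartDual.toDual R (CartDual.D R (MonoidAlgebra R (Multiplicative (ZMod p))))).symm.bijective
    exact h3.comp (h2.comp h1)
  have hchar : CharP (MonoidAlgebra R (Multiplicative (ZMod p))) p := by
    refine charP_of_injective_algebraMap (R := R) (A := MonoidAlgebra R (Multiplicative (ZMod p))) ?_ p
    intro r s h
    rw [MonoidAlgebra.coe_algebraMap] at h
    exact MonoidAlgebra.single_right_injective h
  have hpow : ∀ a : MonoidAlgebra R (Multiplicative (ZMod p)),
      a ^ p = algebraMap R _ ((Coalgebra.counit (R := R) a) ^ p) := by
    intro a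
    induction a using MonoidAlgebra.induction_linear with
    | zero => simp [zero_pow (Fact.out : p.Prime).ne_zero]
    | add a a' ha ha' => rw [add_pow_char, ha, ha', map_add, add_pow_char, map_add]
    | single g c =>
      rw [MonoidAlgebra.single_pow, MonoidAlgebra.counit_single, MonoidAlgebra.coe_algebraMap]
      have hg : g ^ p = 1 := by
        have : (Multiplicative.toAdd g) * (p : ZMod p) = 0 := by simp
        apply Multiplicative.toAdd.injective
        rw [toAdd_pow, toAdd_one, nsmul_eq_mul, mul_comm]
        exact this
      rw [hg]
      simp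
  rw [Versch.isVerschiebung_iff] at hv
  apply RingHom.ext
  intro b
  apply Versch.evTw_injective p R (CartDual.D R (MonoidAlgebra R (Multiplicative (ZMod p))))
  intro x
  rw [hv]
  change _ = Versch.evTw p R _ x ((1 : CartDual.D R (MonoidAlgebra R (Multiplicative (ZMod p)))) ⊗ₜ[R]
    FrobAlg.toTwist p R (Coalgebra.counit (R := R) b))
  rw [Versch.evTw_tmul', ← map_mul]
  congr 1
  obtain ⟨a, rfl⟩ := hev.2 x
  rw [← map_pow, CartDual.eval_apply, CartDual.eval_apply, hpow, CartDual.coalgebra_counit_apply]
  change _ = (algebraMap R R (Coalgebra.counit (R := R) a)) ^ p * b 1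
  rw [Algebra.algebraMap_eq_smul_one, CartDual.coe_apply, map_smul, smul_eq_mul]
  rfl

end Groth.Agent.S15895
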