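import Groth.Statements.S15897
-- import your own Groth.Agent.* helpers here

set_option autoImplicit false
universe u v
open CartDual

namespace Groth.Agent.S15897

open scoped TensorProduct

/-- Let R be a commutative ring and A a commutative Hopf algebra over R which is finitely generated and
projective as an R-module (a finite locally free R-group scheme G = Spec A, not assumed
commutative). If the convolution product on the dual Hopf algebra Hom_R(A, R) is commutative, then A
is cocommutative, i.e. G is a commutative group scheme. (The dual Hopf algebra is commutative
exactly when A is cocommutative; the other implication is immediate and not stated. The published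
notes work over a Noetherian base ring; the row allows any commutative base ring.) -/
theorem result (R : Type u) [CommRing R] (A : Type v) [CommRing A] [HopfAlgebra R A]
    [Module.Finite R A] [Module.Projective R A] (h : ∀ x y : CartDual.D R A, x * y = y * x) :
    Coalgebra.IsCocomm R A := by
  have key : ∀ (x y : CartDual.D R A) (a : A),
      CartDual.ev₂ R A (x ⊗ₜ y) (Coalgebra.comul (R := R) a) = (x * y) a := by
    intro x y a
    rw [CartDual.ev₂_tmul_eq]
    change _ = LinearMap.mul' R R (TensorProduct.map x.ofConv y.ofConv (Coalgebra.comul (R := R) a))
    have : (TensorProduct.lid R R : R ⊗[R] R →ₗ[R] R) = LinearMap.mul' R R := by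
      apply TensorProduct.ext'
      intro r s
      simp
    rw [this]
    rfl
  have sw : ∀ (x y : CartDual.D R A) (t : A ⊗[R] A),
      CartDual.ev₂ R A (x ⊗ₜ y) (TensorProduct.comm R A A t) = CartDual.ev₂ R A (y ⊗ₜ x) t := by
    intro x y t
    induction t using TensorProduct.induction_on with
    | zero => simp
    | tmul a b => simp [mul_comm]
    | add t t' ht ht' => simp only [map_add, ht, ht']
  refine ⟨?_⟩
  ext a
  apply Module.eval_apply_injective R (V := A ⊗[R] A)
  ext φ
  obtain ⟨z, rfl⟩ := (CartDual.ev₂ R A).surjective φ
  simp only [Module.Dual.eval_apply, LinearMap.coe_comp, LinearEquiv.coe_coe, Function.comp_apply]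
  induction z using TensorProduct.induction_on with
  | zero => simp
  | tmul x y => rw [sw, key, key, h]
  | add z z' hz hz' => simp only [map_add, LinearMap.add_apply, hz, hz']

end Groth.Agent.S15897
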