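import Groth.Statements.S15916
import Groth.Agent.Lib.Helper5.Surf.NefOrthA
import Groth.Agent.Lib.Helper5.Surf.NefOrthB
import Groth.Agent.Lib.Helper1.SmoothDepth

set_option autoImplicit false
universe u
open CategoryTheory CategoryTheory.Limits AlgebraicGeometry TopologicalSpace
open Surf

namespace Groth.Agent.S15916



/-- Let k be an algebraically closed field of characteristic zero and X a smooth projective surface over
k (integral, proper and smooth over k of dimension 2, with a closed immersion over k into some
projective space); intersection numbers of invertible modules are (L·M) = χ(O_X) − χ(L) − χ(M) + χ(L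
⊗ M), and for an integral closed one-dimensional subscheme C ⊆ X write (L·C) = χ(O_C ⊗ L) − χ(O_C);
an invertible module is nef when (L·C) ≥ 0 for all such C. Let D be an invertible module generated
by its global sections, nef, with (D·D) > 0, and let N be a nef invertible module with (D·N) = 0.
Then N is numerically trivial: (N·C) = 0 for every integral curve C ⊆ X. (The published statement
concludes that N is zero in Pic X; on the product of an elliptic curve with the projective line, the
pull-back N of a non-trivial degree-zero class of the elliptic curve is nef, orthogonal to an ample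
base-point-free D, and non-zero, while the printed proof establishes numerical triviality, which is
what this row states.) -/
theorem result (k : Type u) [Field k] [IsAlgClosed k]
    [CharZero k] (X : Scheme.{u}) [X.Over (Spec (CommRingCat.of k))] [IsIntegral X] [IsProper (X ↘ (Spec (CommRingCat.of k)))] [Smooth (X ↘ (Spec (CommRingCat.of k)))]
    (hdim : topologicalKrullDim X = 2)
    (hproj : ∃ (n : ℕ) (ι : X ⟶ CohB1.ProjSpace n k), IsClosedImmersion ι ∧ ι ≫ CohB1.ProjSpace.toSpec n k = (X ↘ (Spec (CommRingCat.of k))))
    (D N : X.Modules) (hDi : PicF.IsInvertible D) (hNi : PicF.IsInvertible N)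
    (hDgg : Curv2.IsGloballyGenerated D)
    (hDnef : ∀ C : X.IdealSheafData, IsIntegral C.subscheme → topologicalKrullDim (C.support : Set X) = 1 → 0 ≤ (Curv2.euler k X (CohB1.tensorMod (ClSub.quotMod C) D) - Curv2.euler k X (ClSub.quotMod C)))
    (hD2 : 0 < FGA.intNum k X 2 ![D, D] (Coh.structureModule X))
    (hNnef : ∀ C : X.IdealSheafData, IsIntegral C.subscheme → topologicalKrullDim (C.support : Set X) = 1 → 0 ≤ (Curv2.euler k X (CohB1.tensorMod (ClSub.quotMod C) N) - Curv2.euler k X (ClSub.quotMod C)))
    (hDN : FGA.intNum k X 2 ![D, N] (Coh.structureModule X) = 0) :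
    ∀ C : X.IdealSheafData, IsIntegral C.subscheme → topologicalKrullDim (C.support : Set X) = 1 → (Curv2.euler k X (CohB1.tensorMod (ClSub.quotMod C) N) - Curv2.euler k X (ClSub.quotMod C)) = 0 := by
  intro C hCint hCdim
  have hd : topologicalKrullDim X ≤ ((2 : ℕ) : WithBot ℕ∞) := le_of_eq hdim
  have hreg : ∀ x : X, IsRegularLocalRing (X.presheaf.stalk x) :=
    fun x => Groth.Agent.H1.SmoothDepth.isRegularLocalRing_stalk_of_smooth k
      (X ↘ (Spec (CommRingCat.of k))) x
  have hproj' := hproj
  obtain ⟨n, ι, hcl, hι⟩ := hproj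
  haveI : IsClosedImmersion ι := hcl
  have hH : CohB1.IsAmple ((Scheme.Modules.pullback ι).obj (Twist.twistProjSpace n k 1)) :=
    Groth.Agent.LD.RRS.Kit.isAmple_hyperplane k n ι
  obtain ⟨N', hN', ⟨eN⟩⟩ := Groth.Agent.H5.Glue.exists_inverse N hNi
  have hnef := Groth.Agent.H5.NefOrth.nefMod_of_forall_curve k N hNi hNnef
  have h1 := Groth.Agent.H5.NefOrth.sq_nonneg_of_nefMod k hd _ hH N hNi hnef
  have h2 := Groth.Agent.LD.RRS.Kit.hodge_index_orth k hdim hreg hproj' D N hDi hNi hD2 hDN
  have hN2 : FGA.intNum k X 2 ![N, N] (Coh.structureModule X) = 0 := le_antisymm h2 h1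
  have h3 := Groth.Agent.H5.NefOrth.orth_all k hdim hreg hproj' D N hDi hNi hD2 hDN hN2 _ hH.1
  rw [Groth.Agent.LD.RRS.Kit.intNum_comm k N _ hNi hH.1] at h3
  have hC : (C.support : Set X) ≠ Set.univ := by
    intro heq
    rw [heq] at hCdim
    have h4 : topologicalKrullDim (Set.univ : Set X) = topologicalKrullDim X :=
      IsHomeomorph.topologicalKrullDim_eq _ (Homeomorph.Set.univ X).isHomeomorph
    rw [h4, hdim] at hCdim
    norm_num at hCdim
  have h5 := Groth.Agent.H5.NefOrth.curve_orth k hdim _ hH N N' hNi eN hnef h3 C hC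
  have hQ : Coh.IsCoh (ClSub.quotMod C) := Groth.Agent.LD.QC.isCoh_quotMod C
  have hdim1 : topologicalKrullDim (CohB1.support (ClSub.quotMod C)) ≤ 1 := by
    rw [Groth.Agent.LD.QC.support_quotMod, hCdim]
  rw [Groth.Agent.H5.IntN.euler_tensor_sub k 2 hd N N' hNi ⟨eN⟩ (ClSub.quotMod C) hQ hdim1]
  exact h5

end Groth.Agent.S15916
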