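import Groth.Statements.S15941
-- import your own Groth.Agent.* helpers here

set_option autoImplicit false
universe u
open HTop

namespace Groth.Agent.S15941

/-- An integrally closed integral domain is a seminormal ring, that is, whenever x^3 = y^2 there is
exactly one element a with x = a^2 and y = a^3. (The published statement is for a normal Noetherian
scheme and reduces at once to this affine integral case; the Noetherian hypothesis plays no role.) -/
theorem result (A : Type u) [CommRing A] [IsDomain A]
    [IsIntegrallyClosed A] : HTop.IsSeminormalRing A := by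
  intro x y hxy
  by_cases hx : x = 0
  · subst hx
    have hy : y = 0 := by
      have : y ^ 2 = 0 := by rw [← hxy]; simp
      exact pow_eq_zero_iff (two_ne_zero) |>.mp this
    refine ⟨0, ⟨by simp, by simp [hy]⟩, ?_⟩
    rintro a ⟨ha, -⟩
    exact pow_eq_zero_iff (two_ne_zero) |>.mp ha.symm
  · have hxK : algebraMap A (FractionRing A) x ≠ 0 := by
      intro h
      exact hx ((IsFractionRing.injective A (FractionRing A)) (by rw [h, map_zero]))
    have hα : (algebraMap A (FractionRing A) y / algebraMap A (FractionRing A) x) ^ 2
        = algebraMap A (FractionRing A) x := by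
      rw [div_pow, ← map_pow, ← hxy, map_pow]
      field_simp
    have hint : IsIntegral A (algebraMap A (FractionRing A) y / algebraMap A (FractionRing A) x) := by
      refine ⟨Polynomial.X ^ 2 - Polynomial.C x, Polynomial.monic_X_pow_sub_C x (by norm_num), ?_⟩
      simp [hα]
    obtain ⟨a, ha⟩ := IsIntegrallyClosed.isIntegral_iff.mp hint
    have ha2 : x = a ^ 2 := by
      apply IsFractionRing.injective A (FractionRing A)
      rw [map_pow, ha, hα]
    have ha3 : y = a ^ 3 := by
      apply IsFractionRing.injective A (FractionRing A)
      rw [map_pow, ha, pow_succ, hα]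
      field_simp
    refine ⟨a, ⟨ha2, ha3⟩, ?_⟩
    rintro b ⟨hb2, hb3⟩
    have hane : a ≠ 0 := by
      rintro rfl
      apply hx
      rw [ha2]
      simp
    apply mul_right_cancel₀ (pow_ne_zero 2 hane)
    calc b * a ^ 2 = b * b ^ 2 := by rw [← ha2, hb2]
      _ = b ^ 3 := by ring
      _ = a ^ 3 := by rw [← hb3, ha3]
      _ = a * a ^ 2 := by ring

end Groth.Agent.S15941
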