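import Groth.Statements.S15961
import Mathlib
import Groth.Agent.H4.SNSch

set_option autoImplicit false
universe u
open HTop

namespace Groth.Agent.S15961

open CategoryTheory CategoryTheory.Limits AlgebraicGeometry TensorProduct
open Groth.Agent.H4.SNSch



open CategoryTheory AlgebraicGeometry in
/-- Let ν : X' → X be a seminormalization of the scheme X (X' seminormal, ν a universal homeomorphism
inducing isomorphisms on residue fields and initial among such morphisms to X) and let U be an open
subscheme of X. Then the restriction of ν over U, ν⁻¹(U) → U, is a seminormalization of U. (The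
published lemma also treats U → X a localisation; that case is not restated.) -/
theorem result {X' X : Scheme.{u}} (ν : X' ⟶ X)
    (hν : HTop.IsSeminormalization ν) (hX' : HTop.IsSeminormal X') (U : X.Opens) :
    HTop.IsSeminormalization (ν ∣_ U) := by
  have h1 : SNMor (ν ∣_ U) :=
    MorphismProperty.of_isPullback (P := SNMor.{u}) (isPullback_morphismRestrict ν U).flip hν.1
  have h2 : HTop.IsSeminormal ((ν ⁻¹ᵁ U : X'.Opens) : Scheme.{u}) :=
    isSeminormal_of_isOpenImmersion (ν ⁻¹ᵁ U).ι hX'
  exact ⟨h1, fun Y π hπ hπ' => existsUnique_lift_sn h2 π ⟨hπ, hπ'⟩ (ν ∣_ U)⟩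


end Groth.Agent.S15961
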