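import Groth.Statements.S15963
import Mathlib
import Groth.Prelude.Def_Pi1
import Groth.Agent.H4.SNSch
import Groth.Agent.S7421

set_option autoImplicit false
universe u
open HTop

namespace Groth.Agent.S15963

open CategoryTheory CategoryTheory.Limits AlgebraicGeometry TensorProduct
open Groth.Agent.H4.SNSch


/-- a finite ring map which factors through an injective map with a Noetherian source has a
finite first factor -/
lemma finite_of_comp_injective {A B C : Type u} [CommRing A] [CommRing B] [CommRing C]
    [IsNoetherianRing A] (f : A →+* B) (g : B →+* C) (hg : Function.Injective g)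
    (h : (g.comp f).Finite) : f.Finite := by
  algebraize [f, g, g.comp f]
  haveI : Module.Finite A C := h
  haveI : IsNoetherian A C := isNoetherian_of_isNoetherianRing_of_finite A C
  exact Module.Finite.of_injective (IsScalarTower.toAlgHom A B C).toLinearMap hg

open CategoryTheory AlgebraicGeometry in
/-- Let S be a reduced Noetherian scheme, π : S̃ → S its normalisation (S̃ has integrally closed local
domains, π is integral and an isomorphism over a dense open subset of S with dense preimage), ν : X'
→ S a seminormalization of S (X' seminormal, ν a universal homeomorphism with residue-field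
isomorphisms, initial among such) and g : S̃ → X' a morphism with g followed by ν equal to π. Then ν
and g are scheme-theoretically dominant (the structure sheaf maps injectively into the direct
image), and if π is finite then so are ν and g. -/
theorem result {S Sn X' : Scheme.{u}}
    [IsNoetherian S] [IsReduced S]
    (π : Sn ⟶ S) [IsIntegralHom π] (hn : Pi1.IsNormalScheme Sn)
    (hbir : ∃ U : S.Opens, Dense (U : Set S) ∧ Dense ((π ⁻¹ᵁ U : Sn.Opens) : Set Sn) ∧ IsIso (π ∣_ U))
    (ν : X' ⟶ S) (hν : HTop.IsSeminormalization ν) (hX' : HTop.IsSeminormal X')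
    (g : Sn ⟶ X') (hg : g ≫ ν = π) :
    (IsSchemeTheoreticallyDominant ν ∧ IsSchemeTheoreticallyDominant g) ∧
      (IsFinite π → IsFinite ν ∧ IsFinite g) := by
  have hνUH := hν.1.1
  have hνUH' := hνUH
  rw [Groth.Agent.H1.isUnivHomeo_eq] at hνUH'
  haveI : Surjective ν := hνUH'.2
  haveI : IsIntegralHom ν := ((Groth.Agent.H1.isUnivHomeo_iff_integral ν).mp hνUH).1
  have hνinj : Function.Injective ν := injective_of_uh ν hνUH
  haveI : IsReduced X' := Groth.Agent.S7421.result.2 X' hX'
  -- π is surjective
  haveI : IsDominant π := by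
    obtain ⟨U, hU, -, hiso⟩ := hbir
    refine ⟨hU.mono ?_⟩
    intro u hu
    have hs : Function.Surjective (π ∣_ U) := (π ∣_ U).surjective
    obtain ⟨s, hs⟩ := hs ⟨u, hu⟩
    refine ⟨s.1, ?_⟩
    have h3 : ((π ∣_ U) s).1 = u := congrArg Subtype.val hs
    rw [← h3]
    exact (morphismRestrict_base_coe π U s).symm
  haveI : Surjective π :=
    surjective_of_isDominant_of_isClosed_range π (π.isClosedMap.isClosed_range)
  haveI : Surjective g := by
    refine ⟨fun x' => ?_⟩
    obtain ⟨s, hs⟩ := π.surjective (ν x')
    refine ⟨s, hνinj ?_⟩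
    rw [← hs, ← hg]
    rfl
  haveI hgd : IsSchemeTheoreticallyDominant g := IsSchemeTheoreticallyDominant.of_isDominant g
  refine ⟨⟨IsSchemeTheoreticallyDominant.of_isDominant ν, hgd⟩, fun hfin => ?_⟩
  haveI : IsFinite (g ≫ ν) := by rw [hg]; exact hfin
  haveI : IsFinite g := IsFinite.of_comp g ν
  refine ⟨?_, inferInstance⟩
  rw [isFinite_iff]
  refine ⟨inferInstance, fun U hU => ?_⟩
  haveI : IsNoetherianRing Γ(S, U) := IsLocallyNoetherian.component_noetherian ⟨U, hU⟩
  have h1 : ((g ≫ ν).app U).hom.Finite := IsFinite.finite_app (g ≫ ν) U hU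
  have h2 : (g ≫ ν).app U = ν.app U ≫ g.app (ν ⁻¹ᵁ U) := Scheme.Hom.comp_app g ν U
  rw [h2] at h1
  exact finite_of_comp_injective (ν.app U).hom (g.app (ν ⁻¹ᵁ U)).hom (g.app_injective _) h1


end Groth.Agent.S15963
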