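import Groth.Statements.S15987
import Mathlib
-- import your own Groth.Agent.* helpers here

set_option autoImplicit false
universe u v
open Deform

namespace Groth.Agent.S15987

open TrivSqZeroExt in
/-- The algebra endomorphism `a + bε ↦ a + (D a + b)ε` of the dual numbers. -/
noncomputable def psi (k : Type u) [Field k] (A : Type u) [CommRing A] [Algebra k A]
    (D : Derivation k A A) : DualNumber A →ₐ[k] DualNumber A :=
  AlgHom.ofLinearMap
    { toFun := fun x => inl x.fst + inr (D x.fst + x.snd)
      map_add' := by
        intro x y
        ext <;> simp <;> abel
      map_smul' := by
        intro c x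
        ext <;> simp }
    (by ext <;> simp)
    (by
      intro x y
      ext
      · simp
      · simp [mul_add]
        ring)

open TrivSqZeroExt in
theorem psi_apply (k : Type u) [Field k] (A : Type u) [CommRing A] [Algebra k A]
    (D : Derivation k A A) (x : DualNumber A) :
    psi k A D x = inl x.fst + inr (D x.fst + x.snd) := rfl

open TrivSqZeroExt in
theorem psi_comp (k : Type u) [Field k] (A : Type u) [CommRing A] [Algebra k A]
    (D : Derivation k A A) : (psi k A D).comp (psi k A (-D)) = AlgHom.id k _ := by
  apply AlgHom.ext
  intro x
  rw [AlgHom.comp_apply, psi_apply, psi_apply]
  ext <;> simp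

open TrivSqZeroExt in
/-- The automorphism attached to a derivation. -/
noncomputable def phi (k : Type u) [Field k] (A : Type u) [CommRing A] [Algebra k A]
    (D : Derivation k A A) : DualNumber A ≃ₐ[k] DualNumber A :=
  AlgEquiv.ofAlgHom (psi k A D) (psi k A (-D)) (psi_comp k A D)
    (by have := psi_comp k A (-D); rwa [neg_neg] at this)

open TrivSqZeroExt in
theorem phi_apply (k : Type u) [Field k] (A : Type u) [CommRing A] [Algebra k A]
    (D : Derivation k A A) (x : DualNumber A) :
    phi k A D x = inl x.fst + inr (D x.fst + x.snd) := rfl


open TrivSqZeroExt in
/-- Let k be a field, A a commutative k-algebra and q_i : A → k (i ∈ ι) k-algebra maps (marked k-points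
of Spec A). The k-algebra automorphisms φ of the ring of dual numbers A[ε] that fix ε (so are
k[ε]-linear), are the identity modulo ε, and satisfy q_i((φ x)_ε) = q_i(x_ε) for all i and x
(compatibility with the trivial lifts A[ε] → k[ε] of the marked points) are in bijection with the
k-derivations D : A → A such that q_i ∘ D = 0 for every i, the bijection sending φ to a ↦ (φ(a))_ε.
(The source identifies the right-hand side with the global vector fields vanishing at the marked
points; the condition the computation yields is q_i ∘ D = 0, which is the same for Spec A smooth
over k but is weaker in general, e.g. for A = k[x]/(x^2) with 2 invertible in k.) -/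
theorem result
    (k : Type u) [Field k] (A : Type u) [CommRing A] [Algebra k A] {ι : Type v} (q : ι → (A →ₐ[k] k)) :
    ∃ e : {φ : DualNumber A ≃ₐ[k] DualNumber A //
            φ DualNumber.eps = DualNumber.eps ∧ (∀ x, (φ x).fst = x.fst) ∧
              ∀ i x, q i (φ x).snd = q i x.snd} ≃
          {D : Derivation k A A // ∀ i a, q i (D a) = 0},
      ∀ φ (a : A), (e φ).1 a = (φ.1 (inl a : DualNumber A)).snd := by
  refine ⟨
    { toFun := fun φ => ⟨Derivation.mk'
          { toFun := fun a => (φ.1 (inl a : DualNumber A)).snd
            map_add' := by intro a b; simp
            map_smul' := by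
              intro c a
              have : (inl (c • a) : DualNumber A) = c • inl a := by ext <;> simp
              rw [this, map_smul]
              simp }
          (by
            intro a b
            have h1 := φ.2.2.1
            simp only [LinearMap.coe_mk, AddHom.coe_mk, inl_mul, map_mul, snd_mul, h1, fst_inl,
              smul_eq_mul]
            simp [mul_comm]), by
          intro i a
          have := φ.2.2.2 i (inl a)
          simpa using this⟩
      invFun := fun D => ⟨phi k A D.1, by
          rw [phi_apply]; ext <;> simp, by
          intro x; rw [phi_apply]; simp, by
          intro i x; rw [phi_apply]; simp [D.2]⟩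
      left_inv := by
        rintro ⟨φ, hε, hfst, hq⟩
        apply Subtype.ext
        apply AlgEquiv.ext
        intro x
        show phi k A _ x = φ x
        rw [phi_apply]
        have hx : x = inl x.fst + inl x.snd * DualNumber.eps := by
          ext <;> simp
        conv_rhs => rw [hx, map_add, map_mul, hε]
        ext
        · simp [hfst]
        · simp [hfst]
      right_inv := by
        rintro ⟨D, hD⟩
        apply Subtype.ext
        ext a
        show (phi k A D (inl a)).snd = D a
        rw [phi_apply]
        simp }, ?_⟩
  intro φ a
  rfl

end Groth.Agent.S15987
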