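import Groth.Statements.S16002
import Groth.Agent.Lib.Helper5.Curve6.Pairs

set_option autoImplicit false
open CategoryTheory AlgebraicGeometry CategoryTheory.Limits
open VBCurve

namespace Groth.Agent.S16002

open Groth.Agent.LD Groth.Agent.LD.QC Groth.Agent.H5.Curve2 Groth.Agent.H5.Curve4 Groth.Agent.H5.DegC Groth.Agent.H5.Curve6

/-- Let X be a smooth proper integral curve over the complex numbers and (L_i)_{i ∈ ι} a family of
invertible O_X-modules. A tuple is a finite locally free O_X-module E of rank r ≥ 1 with maps φ_i :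
E → E ⊗ L_i; a submodule j : G → E (a monomorphism) is invariant when for every i some χ : G → G ⊗
L_i followed by j ⊗ L_i equals j followed by φ_i; the tuple is semistable when deg G · r ≤ deg E · n
for every invariant finite locally free submodule G of rank n ≥ 1, degrees being χ − rank · χ(O_X).
If (E, φ) and (F, ψ) are semistable tuples of ranks r ≥ 1 and s ≥ 1 over the same family (L_i) and f
: E → F is a nonzero module map with f followed by ψ_i equal to φ_i followed by f ⊗ L_i for every i,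
then the slope of E is at most that of F: deg E · s ≤ deg F · r. (The published lemma has finitely
many pairwise commuting twisting maps and morphisms compatible up to one nonzero scalar; the
commutation is not used, the index set is arbitrary here, and the scalar case reduces to this one by
rescaling the ψ_i.) -/
theorem result
    (X : Scheme.{0}) [X.Over (Spec (CommRingCat.of ℂ))] [IsIntegral X]
    [IsProper (X ↘ Spec (CommRingCat.of ℂ))] [Smooth (X ↘ Spec (CommRingCat.of ℂ))]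
    (hdim : topologicalKrullDim X = 1)
    (ι : Type) (L : ι → X.Modules) (hL : ∀ i, PicF.IsInvertible (L i))
    (r s : ℕ) (hr : 0 < r) (hs : 0 < s)
    (E F : X.Modules) (hE : FlatMod.IsFinLocFreeOfRank r E) (hF : FlatMod.IsFinLocFreeOfRank s F)
    (φ : ∀ i, E ⟶ CohB1.tensorMod E (L i)) (ψ : ∀ i, F ⟶ CohB1.tensorMod F (L i))
    (hEss : (∀ (G : X.Modules) (n : ℕ) (j : G ⟶ E), Mono j → 0 < n → FlatMod.IsFinLocFreeOfRank n G →
      (∀ i, ∃ χ : G ⟶ CohB1.tensorMod G (L i), χ ≫ (CohB1.sheafifyMod X).map (MonoidalCategoryStruct.whiskerRight (C := CohB1.PMod X) j.val (CohB1.toPMod (L i))) = j ≫ φ i) →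
      Curv2.deg ℂ X G n * (r : ℤ) ≤ Curv2.deg ℂ X E r * (n : ℤ)))
    (hFss : (∀ (G : X.Modules) (n : ℕ) (j : G ⟶ F), Mono j → 0 < n → FlatMod.IsFinLocFreeOfRank n G →
      (∀ i, ∃ χ : G ⟶ CohB1.tensorMod G (L i), χ ≫ (CohB1.sheafifyMod X).map (MonoidalCategoryStruct.whiskerRight (C := CohB1.PMod X) j.val (CohB1.toPMod (L i))) = j ≫ ψ i) →
      Curv2.deg ℂ X G n * (s : ℤ) ≤ Curv2.deg ℂ X F s * (n : ℤ)))
    (f : E ⟶ F) (hf : ∀ i, f ≫ ψ i = φ i ≫ (CohB1.sheafifyMod X).map (MonoidalCategoryStruct.whiskerRight (C := CohB1.PMod X) f.val (CohB1.toPMod (L i)))) (hne : f ≠ 0) :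
    Curv2.deg ℂ X E r * (s : ℤ) ≤ Curv2.deg ℂ X F s * (r : ℤ) := by
  have hf' : ∀ i, f ≫ ψ i = φ i ≫ KoszTw.tensorMap f (𝟙 (L i)) := by
    intro i
    rw [hf i, ← KoszTw.tensorBi_map_app]; rfl
  obtain ⟨a, b, hab, ha, hb, hdeg⟩ := kernel_image_facts ℂ X hdim.le r s hE hF f
  have hbpos := rank_coimage_pos X hne b hb
  -- the kernel is invariant
  have hKinv : ∀ i, IsInv (L i) (φ i) (kernel.ι f) := fun i =>
    isInv_kernel (hL i) (φ i) (ψ i) f (hf' i)
  have hK : Curv2.deg ℂ X (kernel f) a * (r : ℤ) ≤ Curv2.deg ℂ X E r * (a : ℤ) := by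
    rcases Nat.eq_zero_or_pos a with h0 | hapos
    · subst h0
      rw [deg_rank_zero ℂ X ha]
      simp
    · refine hEss (kernel f) a (kernel.ι f) inferInstance hapos ha (fun i => ?_)
      obtain ⟨χ, hχ⟩ := hKinv i
      exact ⟨χ, by rw [← hχ, ← KoszTw.tensorBi_map_app]; rfl⟩
  -- the image is invariant
  have hI : Curv2.deg ℂ X (Abelian.coimage f) b * (s : ℤ) ≤ Curv2.deg ℂ X F s * (b : ℤ) := by
    refine hFss (Abelian.coimage f) b (Abelian.factorThruCoimage f) inferInstance hbpos hb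
      (fun i => ?_)
    obtain ⟨χ, hχ⟩ := exists_desc_of_isInv (hL i) (φ i) (kernel.ι f) (hKinv i)
    refine ⟨χ, ?_⟩
    have h1 : χ ≫ KoszTw.tensorMap (Abelian.factorThruCoimage f) (𝟙 (L i)) =
        Abelian.factorThruCoimage f ≫ ψ i := by
      rw [← cancel_epi (Abelian.coimage.π f)]
      change cokernel.π (kernel.ι f) ≫ _ = _
      rw [← Category.assoc, hχ, Category.assoc, ← tensorMap_comp_id]
      change _ = Abelian.coimage.π f ≫ _
      rw [← Category.assoc (Abelian.coimage.π f), Abelian.coimage.fac, hf' i]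
    rw [← h1, ← KoszTw.tensorBi_map_app]; rfl
  have habz : (a : ℤ) + (b : ℤ) = (r : ℤ) := by exact_mod_cast hab
  have hbz : (0 : ℤ) < b := by exact_mod_cast hbpos
  have hrz : (0 : ℤ) < r := by exact_mod_cast hr
  have hsz : (0 : ℤ) < s := by exact_mod_cast hs
  -- deg E * b ≤ deg coim * r
  have h2 : Curv2.deg ℂ X E r * (b : ℤ) ≤ Curv2.deg ℂ X (Abelian.coimage f) b * (r : ℤ) := by
    rw [hdeg] at hK ⊢
    rw [← habz] at hK ⊢
    ring_nf at hK ⊢
    linarith only [hK]
  -- combine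
  have h3 : Curv2.deg ℂ X E r * (s : ℤ) * (b : ℤ) ≤ Curv2.deg ℂ X F s * (r : ℤ) * (b : ℤ) := by
    calc Curv2.deg ℂ X E r * (s : ℤ) * (b : ℤ)
        = (Curv2.deg ℂ X E r * (b : ℤ)) * (s : ℤ) := by ring
      _ ≤ (Curv2.deg ℂ X (Abelian.coimage f) b * (r : ℤ)) * (s : ℤ) :=
          mul_le_mul_of_nonneg_right h2 hsz.le
      _ = (Curv2.deg ℂ X (Abelian.coimage f) b * (s : ℤ)) * (r : ℤ) := by ring
      _ ≤ (Curv2.deg ℂ X F s * (b : ℤ)) * (r : ℤ) := mul_le_mul_of_nonneg_right hI hrz.le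
      _ = Curv2.deg ℂ X F s * (r : ℤ) * (b : ℤ) := by ring
  exact le_of_mul_le_mul_right h3 hbz

end Groth.Agent.S16002
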