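import Groth.Statements.S16003
import Groth.Agent.Lib.Helper5.Curve6.TwistEquiv

set_option autoImplicit false
open CategoryTheory AlgebraicGeometry CategoryTheory.Limits
open VBCurve

namespace Groth.Agent.S16003

open Groth.Agent.LD Groth.Agent.LD.QC Groth.Agent.H5.Curve2 Groth.Agent.H5.Curve4 Groth.Agent.H5.DegC Groth.Agent.H5.Curve6

/-- Let X be a smooth proper integral curve over the complex numbers and L an invertible O_X-module; an
L-valued pair is a finite locally free O_X-module E of rank r ≥ 1 with a map φ : E → E ⊗ L; a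
submodule j : G → E (a monomorphism) is φ-invariant when some χ : G → G ⊗ L followed by j ⊗ L equals
j followed by φ; the pair is semistable when deg G · r ≤ deg E · n for every φ-invariant finite
locally free submodule G of rank n ≥ 1, degrees being χ − rank · χ(O_X). If (E, φ) is a semistable
pair and φ is not zero, then L has non-negative degree. (The published statement is for tuples of
finitely many commuting twisting maps; this is the assertion for the one map φ.) -/
theorem result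
    (X : Scheme.{0}) [X.Over (Spec (CommRingCat.of ℂ))] [IsIntegral X]
    [IsProper (X ↘ Spec (CommRingCat.of ℂ))] [Smooth (X ↘ Spec (CommRingCat.of ℂ))]
    (hdim : topologicalKrullDim X = 1)
    (L : X.Modules) (hL : PicF.IsInvertible L)
    (r : ℕ) (hr : 0 < r) (E : X.Modules) (hE : FlatMod.IsFinLocFreeOfRank r E)
    (φ : E ⟶ CohB1.tensorMod E L)
    (hss : (∀ (G : X.Modules) (n : ℕ) (j : G ⟶ E) (χ : G ⟶ CohB1.tensorMod G L), Mono j → 0 < n →
      FlatMod.IsFinLocFreeOfRank n G →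
      χ ≫ (CohB1.sheafifyMod X).map (MonoidalCategoryStruct.whiskerRight (C := CohB1.PMod X) j.val (CohB1.toPMod L)) = j ≫ φ →
      Curv2.deg ℂ X G n * (r : ℤ) ≤ Curv2.deg ℂ X E r * (n : ℤ)))
    (hφ : φ ≠ 0) :
    0 ≤ Curv2.deg ℂ X L 1 := by
  haveI := Curve.isLocallyNoetherian ℂ X
  haveI : IsNoetherian X := Groth.Agent.H5.Curve2.isNoetherian_of_proper ℂ X
  have hss' : IsSSPair ℂ X L r φ := by
    rintro G s j hj hs hG ⟨χ, hχ⟩
    exact hss G s j χ hj hs hG (by rw [← hχ, ← KoszTw.tensorBi_map_app]; rfl)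
  obtain ⟨L', hL', eL⟩ := Groth.Agent.H5.Glue.exists_inverse _ hL
  have hL'd : Curv2.deg ℂ X L' 1 = - Curv2.deg ℂ X L 1 := by
    obtain ⟨e⟩ := eL
    have h1 := deg_tensor ℂ X hdim.le hL hL'
    rw [Curve.deg_iso ℂ X e 1, Curve.deg_structureModule ℂ X] at h1
    linarith only [h1]
  obtain ⟨η, ε, hη, hε, htri⟩ := exists_twist_unit_counit L hL L' hL' eL
  have hEL : FlatMod.IsFinLocFreeOfRank r (CohB1.tensorMod E L) :=
    isFinLocFreeOfRank_tensorMod_of_isInvertible r _ _ hE hL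
  obtain ⟨a, b, hab, ha, hb, hdeg⟩ := kernel_image_facts ℂ X hdim.le r r hE hEL φ
  have hbpos := rank_coimage_pos X hφ b hb
  -- the kernel
  have hK : Curv2.deg ℂ X (kernel φ) a * (r : ℤ) ≤ Curv2.deg ℂ X E r * (a : ℤ) := by
    rcases Nat.eq_zero_or_pos a with h0 | hapos
    · subst h0
      rw [deg_rank_zero ℂ X ha]
      simp
    · exact hss' (kernel φ) a (kernel.ι φ) inferInstance hapos ha
        ⟨0, by rw [zero_comp, kernel.condition]⟩
  -- the twisted image
  have hEq : E.IsQuasicoherent := (Curve.isCoh_of_rank hE).1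
  have hCq : (Abelian.coimage φ).IsQuasicoherent := (Curve.isCoh_of_rank hb).1
  have hELq : (CohB1.tensorMod E L).IsQuasicoherent := qc_tensorMod_of_isInvertible hEq hL
  let p := Abelian.coimage.π φ
  let m := Abelian.factorThruCoimage φ
  have hpm : p ≫ m = φ := Abelian.coimage.fac φ
  haveI : Mono (KoszTw.tensorMap m (𝟙 L')) := mono_tensorMap_of_isInvertible m L' hL'
  let jG : CohB1.tensorMod (Abelian.coimage φ) L' ⟶ E := KoszTw.tensorMap m (𝟙 L') ≫ (η E hEq).inv
  have hGinv : IsInv L φ jG := by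
    refine ⟨jG ≫ p ≫ (ε _ hCq).inv, ?_⟩
    have h1 : (ε _ hCq).inv ≫ KoszTw.tensorMap (KoszTw.tensorMap m (𝟙 L')) (𝟙 L) =
        m ≫ (ε _ hELq).inv := by
      rw [Iso.inv_comp_eq, ← Category.assoc, Iso.eq_comp_inv]
      exact hε _ _ hCq hELq m
    have h2 : KoszTw.tensorMap (η E hEq).hom (𝟙 L) = (ε _ hELq).inv :=
      (Iso.comp_hom_eq_id _).mp (htri E hEq)
    have h3 : KoszTw.tensorMap jG (𝟙 L) =
        KoszTw.tensorMap (KoszTw.tensorMap m (𝟙 L')) (𝟙 L) ≫
          KoszTw.tensorMap (η E hEq).inv (𝟙 L) := tensorMap_comp_id _ _ _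
    calc (jG ≫ p ≫ (ε _ hCq).inv) ≫ KoszTw.tensorMap jG (𝟙 L)
        = jG ≫ p ≫ ((ε _ hCq).inv ≫ KoszTw.tensorMap (KoszTw.tensorMap m (𝟙 L')) (𝟙 L)) ≫
            KoszTw.tensorMap (η E hEq).inv (𝟙 L) := by
          rw [h3]; simp only [Category.assoc]
      _ = jG ≫ p ≫ m ≫ KoszTw.tensorMap (η E hEq).hom (𝟙 L) ≫
            KoszTw.tensorMap (η E hEq).inv (𝟙 L) := by
          rw [h1, h2]; simp only [Category.assoc]
      _ = jG ≫ φ := by
          rw [← tensorMap_comp_id, Iso.hom_inv_id, tensorMap_id_id, Category.comp_id, hpm]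
  have hGL : FlatMod.IsFinLocFreeOfRank b (CohB1.tensorMod (Abelian.coimage φ) L') :=
    isFinLocFreeOfRank_tensorMod_of_isInvertible b _ _ hb hL'
  have hG := hss' _ b jG inferInstance hbpos hGL hGinv
  have hd := deg_tensorMod ℂ hdim.le b 1 (Abelian.coimage φ) L' hb ((isInvertible_iff L').mp hL')
  rw [mul_one] at hd
  rw [hd, hL'd] at hG
  push_cast at hG
  have habz : (a : ℤ) + (b : ℤ) = (r : ℤ) := by exact_mod_cast hab
  have hbz : (0 : ℤ) < b := by exact_mod_cast hbpos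
  have hrz : (0 : ℤ) < r := by exact_mod_cast hr
  -- deg C * r ≥ deg E * b
  have h4 : Curv2.deg ℂ X E r * (b : ℤ) ≤ Curv2.deg ℂ X (Abelian.coimage φ) b * (r : ℤ) := by
    rw [hdeg] at hK ⊢
    rw [← habz] at hK ⊢
    ring_nf at hK ⊢
    linarith only [hK]
  -- conclude
  have h5 : 0 ≤ (b : ℤ) * (r : ℤ) * Curv2.deg ℂ X L 1 := by
    have h6 : ((b : ℤ) * -Curv2.deg ℂ X L 1 + 1 * Curv2.deg ℂ X (Abelian.coimage φ) b) * (r : ℤ) =
        Curv2.deg ℂ X (Abelian.coimage φ) b * (r : ℤ) - (b : ℤ) * (r : ℤ) * Curv2.deg ℂ X L 1 := by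
      ring
    rw [h6] at hG
    linarith only [hG, h4]
  have h7 : (0 : ℤ) < (b : ℤ) * (r : ℤ) := mul_pos hbz hrz
  exact nonneg_of_mul_nonneg_right h5 h7

end Groth.Agent.S16003
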