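import Groth.Statements.S16004
import Groth.Agent.Lib.Helper5.Curve6.ExtU
import Groth.Agent.Lib.Helper5.Curve4.HN2
import Groth.Agent.Lib.Helper5.DegC.TensorDeg

set_option autoImplicit false
open CategoryTheory AlgebraicGeometry CategoryTheory.Limits
open VBCurve

namespace Groth.Agent.S16004

open Groth.Agent.LD Groth.Agent.LD.QC Groth.Agent.H5.Curve2 Groth.Agent.H5.Curve4 Groth.Agent.H5.DegC Groth.Agent.H5.Curve6 Groth.Agent.H5.IntN Groth.Agent.H5.Snap

/-- Let X be a smooth proper integral curve over the complex numbers and L an invertible O_X-module of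
degree 0; an L-valued pair is a finite locally free O_X-module E of rank r ≥ 1 with a map φ : E → E
⊗ L; a submodule j : G → E (a monomorphism) is φ-invariant when some χ : G → G ⊗ L followed by j ⊗ L
equals j followed by φ; the pair is semistable when deg G · r ≤ deg E · n for every φ-invariant
finite locally free submodule G of rank n ≥ 1, degrees being χ − rank · χ(O_X). If (E, φ) is a
semistable pair then E is slope-semistable as a module of rank r: deg G · r ≤ deg E · n for every
finite locally free submodule G of rank n ≥ 1, invariant or not. (The published statement deletes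
one degree-zero twisting map from a tuple of finitely many commuting ones; this is the case of a
single map.) -/
theorem result
    (X : Scheme.{0}) [X.Over (Spec (CommRingCat.of ℂ))] [IsIntegral X]
    [IsProper (X ↘ Spec (CommRingCat.of ℂ))] [Smooth (X ↘ Spec (CommRingCat.of ℂ))]
    (hdim : topologicalKrullDim X = 1)
    (L : X.Modules) (hL : PicF.IsInvertible L) (hL0 : Curv2.deg ℂ X L 1 = 0)
    (r : ℕ) (hr : 0 < r) (E : X.Modules) (hE : FlatMod.IsFinLocFreeOfRank r E)
    (φ : E ⟶ CohB1.tensorMod E L)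
    (hss : (∀ (G : X.Modules) (n : ℕ) (j : G ⟶ E) (χ : G ⟶ CohB1.tensorMod G L), Mono j → 0 < n →
      FlatMod.IsFinLocFreeOfRank n G →
      χ ≫ (CohB1.sheafifyMod X).map (MonoidalCategoryStruct.whiskerRight (C := CohB1.PMod X) j.val (CohB1.toPMod L)) = j ≫ φ →
      Curv2.deg ℂ X G n * (r : ℤ) ≤ Curv2.deg ℂ X E r * (n : ℤ))) :
    ∀ (G : X.Modules) (n : ℕ) (j : G ⟶ E), Mono j → 0 < n → FlatMod.IsFinLocFreeOfRank n G →
      Curv2.deg ℂ X G n * (r : ℤ) ≤ Curv2.deg ℂ X E r * (n : ℤ) := by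
  haveI := Curve.isLocallyNoetherian ℂ X
  haveI : IsNoetherian X := Groth.Agent.H5.Curve2.isNoetherian_of_proper ℂ X
  have hss' : ∀ (G : X.Modules) (n : ℕ) (j : G ⟶ E) (χ : G ⟶ CohB1.tensorMod G L), Mono j → 0 < n →
      FlatMod.IsFinLocFreeOfRank n G → χ ≫ KoszTw.tensorMap j (𝟙 L) = j ≫ φ →
      Curv2.deg ℂ X G n * (r : ℤ) ≤ Curv2.deg ℂ X E r * (n : ℤ) := by
    intro G n j χ hj hn hG hχ
    exact hss G n j χ hj hn hG (by rw [← hχ, ← KoszTw.tensorBi_map_app]; rfl)
  obtain ⟨⟨E₁, r₁, i₁, hi₁, hr₁, hE₁, ha, hq⟩, -⟩ := maxDestab ℂ X hdim.le r hr E hE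
  haveI := hi₁
  obtain ⟨s, hC⟩ := cokernel_locFree_of_maxSl ℂ X hdim.le hE hr₁ i₁ hE₁ ha
  let S : ShortComplex X.Modules := ShortComplex.mk i₁ (cokernel.π i₁) (cokernel.condition i₁)
  have hS : S.ShortExact :=
    { exact := ShortComplex.exact_cokernel i₁
      mono_f := hi₁
      epi_g := inferInstanceAs (Epi (cokernel.π i₁)) }
  have hS' := shortExact_tensorMap_of_isInvertible hS L hL
  haveI : Mono (KoszTw.tensorMap i₁ (𝟙 L)) := hS'.mono_f
  have hCL : FlatMod.IsFinLocFreeOfRank s (CohB1.tensorMod (cokernel i₁) L) :=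
    isFinLocFreeOfRank_tensorMod_of_isInvertible s _ _ hC hL
  obtain ⟨L', hL', ⟨eL⟩⟩ := Groth.Agent.H5.Glue.exists_inverse _ hL
  haveI : L.IsQuasicoherent := qc_of_isInvertible _ hL
  haveI : L'.IsQuasicoherent := qc_of_isInvertible _ hL'
  haveI : (cokernel i₁).IsQuasicoherent := (Curve.isCoh_of_rank hC).1
  have hL'0 : Curv2.deg ℂ X L' 1 = 0 := by
    have h1 := deg_tensor ℂ X hdim.le hL hL'
    rw [Curve.deg_iso ℂ X eL 1, Curve.deg_structureModule ℂ X, hL0] at h1
    linarith
  have hθ : (i₁ ≫ φ) ≫ KoszTw.tensorMap (cokernel.π i₁) (𝟙 L) = 0 := by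
    apply hom_eq_zero_of_slope ℂ X hdim.le r₁ s hE₁ hCL
    · intro G r' i hi hr' hG
      haveI := hi
      exact ha G r' (i ≫ i₁) inferInstance hr' hG
    · intro G r' i hi hr' hG
      haveI := hi
      haveI : Mono (KoszTw.tensorMap i (𝟙 L')) := mono_tensorMap_of_isInvertible i L' hL'
      have hGL : FlatMod.IsFinLocFreeOfRank r' (CohB1.tensorMod G L') :=
        isFinLocFreeOfRank_tensorMod_of_isInvertible r' _ _ hG hL'
      have hd := deg_tensorMod ℂ hdim.le r' 1 G L' hG ((isInvertible_iff L').mp hL')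
      rw [hL'0, mul_one] at hd
      have := hq (CohB1.tensorMod G L') r'
        (KoszTw.tensorMap i (𝟙 L') ≫ (backIso L L' eL (cokernel i₁)).hom) inferInstance hr' hGL
      rw [hd] at this
      push_cast at this
      linarith
  have hχ := hS'.exact.lift_f (i₁ ≫ φ) hθ
  have h1 := hss' E₁ r₁ i₁ _ hi₁ hr₁ hE₁ hχ
  intro G n j hj hn hG
  have h2 := ha G n j hj hn hG
  have hr₁z : (0 : ℤ) < r₁ := by exact_mod_cast hr₁
  have hnz : (0 : ℤ) < n := by exact_mod_cast hn
  have hrz : (0 : ℤ) < r := by exact_mod_cast hr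
  by_contra hcon
  push Not at hcon
  nlinarith

end Groth.Agent.S16004
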