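import Groth.Statements.S16005
import Groth.Agent.Lib.Helper5.Curve6.Pairs

set_option autoImplicit false
open CategoryTheory AlgebraicGeometry CategoryTheory.Limits
open VBCurve

namespace Groth.Agent.S16005

open Groth.Agent.LD Groth.Agent.LD.QC Groth.Agent.H5.Curve2 Groth.Agent.H5.Curve4 Groth.Agent.H5.DegC Groth.Agent.H5.Curve6

/-- Let X be a smooth proper integral curve over the complex numbers and L an invertible O_X-module; an
L-valued pair is a finite locally free O_X-module E of rank r ≥ 1 with a map φ : E → E ⊗ L; a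
submodule j : G → E (a monomorphism) is φ-invariant when some χ : G → G ⊗ L followed by j ⊗ L equals
j followed by φ; the pair is semistable when deg G · r ≤ deg E · n for every φ-invariant finite
locally free submodule G of rank n ≥ 1, degrees being χ − rank · χ(O_X). Let (E, φ) be a pair and ψ
: E → E an endomorphism commuting with φ (ψ followed by φ equals φ followed by ψ ⊗ L); a submodule
is ψ-invariant when ψ restricts to an endomorphism of it. Then (E, φ, ψ) is semistable, meaning deg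
G · r ≤ deg E · n for every finite locally free submodule G of rank n ≥ 1 that is both φ-invariant
and ψ-invariant, if and only if the pair (E, φ) is semistable. (The published statement takes L to
be the canonical sheaf; the row allows any invertible L.) -/
theorem result
    (X : Scheme.{0}) [X.Over (Spec (CommRingCat.of ℂ))] [IsIntegral X]
    [IsProper (X ↘ Spec (CommRingCat.of ℂ))] [Smooth (X ↘ Spec (CommRingCat.of ℂ))]
    (hdim : topologicalKrullDim X = 1)
    (L : X.Modules) (hL : PicF.IsInvertible L)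
    (r : ℕ) (hr : 0 < r) (E : X.Modules) (hE : FlatMod.IsFinLocFreeOfRank r E)
    (φ : E ⟶ CohB1.tensorMod E L) (ψ : E ⟶ E)
    (hcomm : ψ ≫ φ = φ ≫ (CohB1.sheafifyMod X).map (MonoidalCategoryStruct.whiskerRight (C := CohB1.PMod X) ψ.val (CohB1.toPMod L))) :
    (∀ (G : X.Modules) (n : ℕ) (j : G ⟶ E) (χ : G ⟶ CohB1.tensorMod G L) (ψ' : G ⟶ G), Mono j → 0 < n →
      FlatMod.IsFinLocFreeOfRank n G →
      χ ≫ (CohB1.sheafifyMod X).map (MonoidalCategoryStruct.whiskerRight (C := CohB1.PMod X) j.val (CohB1.toPMod L)) = j ≫ φ → ψ' ≫ j = j ≫ ψ →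
      Curv2.deg ℂ X G n * (r : ℤ) ≤ Curv2.deg ℂ X E r * (n : ℤ)) ↔
    (∀ (G : X.Modules) (n : ℕ) (j : G ⟶ E) (χ : G ⟶ CohB1.tensorMod G L), Mono j → 0 < n →
      FlatMod.IsFinLocFreeOfRank n G →
      χ ≫ (CohB1.sheafifyMod X).map (MonoidalCategoryStruct.whiskerRight (C := CohB1.PMod X) j.val (CohB1.toPMod L)) = j ≫ φ →
      Curv2.deg ℂ X G n * (r : ℤ) ≤ Curv2.deg ℂ X E r * (n : ℤ)) := by
  constructor
  · intro H
    have hcomm' : ψ ≫ φ = φ ≫ KoszTw.tensorMap ψ (𝟙 L) := by
      rw [hcomm, ← KoszTw.tensorBi_map_app]; rfl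
    obtain ⟨E₁, r₁, i₁, hi₁, hr₁, hE₁, hQ₁, hmax, hmaxr⟩ :=
      exists_maxSlope_pred ℂ X hdim.le r E hE (fun G _ j => IsInv L φ j)
        ⟨E, r, 𝟙 E, inferInstance, hr, hE, φ, by rw [tensorMap_id_id, Category.comp_id, Category.id_comp]⟩
    haveI := hi₁
    obtain ⟨ψ', hψ'⟩ := exists_restrict_of_commute ℂ X hdim.le hL hE φ ψ hcomm' i₁ hr₁ hE₁ hQ₁
      hmax hmaxr
    obtain ⟨χ₁, hχ₁⟩ := hQ₁
    have h1 := H E₁ r₁ i₁ χ₁ ψ' hi₁ hr₁ hE₁
      (by rw [← hχ₁, ← KoszTw.tensorBi_map_app]; rfl) hψ'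
    intro G n j χ hj hn hG hχ
    have hχ' : χ ≫ KoszTw.tensorMap j (𝟙 L) = j ≫ φ := by
      rw [← hχ, ← KoszTw.tensorBi_map_app]; rfl
    have h2 := hmax G n j hj hn hG ⟨χ, hχ'⟩
    have hr₁z : (0 : ℤ) < r₁ := by exact_mod_cast hr₁
    have hnz : (0 : ℤ) < n := by exact_mod_cast hn
    have hrz : (0 : ℤ) < r := by exact_mod_cast hr
    by_contra hcon
    push Not at hcon
    nlinarith
  · intro H G n j χ ψ' hj hn hG hχ _
    exact H G n j χ hj hn hG hχ

end Groth.Agent.S16005
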