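import Groth.Statements.S16006
import Groth.Agent.Lib.Helper5.Curve6.ExtU

set_option autoImplicit false
open CategoryTheory AlgebraicGeometry CategoryTheory.Limits
open VBCurve

namespace Groth.Agent.S16006

open Groth.Agent.LD Groth.Agent.LD.QC Groth.Agent.H5.Curve2 Groth.Agent.H5.Curve4 Groth.Agent.H5.DegC Groth.Agent.H5.Curve6 Groth.Agent.H5.IntN Groth.Agent.H5.Snap

/-- Let X be a smooth proper integral curve of genus 1 over the complex numbers (genus = dim H¹(O_X))
and L an invertible O_X-module of degree 0 such that L ⊗ L is not isomorphic to O_X; an L-valued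
pair is a finite locally free O_X-module E of rank r ≥ 1 with a map φ : E → E ⊗ L; a submodule j : G
→ E (a monomorphism) is φ-invariant when some χ : G → G ⊗ L followed by j ⊗ L equals j followed by
φ; the pair is semistable when deg G · r ≤ deg E · n for every φ-invariant finite locally free
submodule G of rank n ≥ 1, degrees being χ − rank · χ(O_X), and it is stable when deg G · r < deg E
· n for every φ-invariant finite locally free submodule G of rank n with 1 ≤ n < r. If (E, φ) is a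
stable pair of rank 2, then E is slope-stable as a module of rank 2: deg G · 2 < deg E · n for every
finite locally free submodule G of rank n with 1 ≤ n < 2, φ-invariant or not. (The published
statement assumes only that L is not isomorphic to O_X. For L of order two and E = O_X ⊕ L, the
isomorphism φ : E → E ⊗ L = (O_X ⊗ L) ⊕ (L ⊗ L) that maps the summand O_X of E onto the summand L ⊗
L ≅ O_X and the summand L onto O_X ⊗ L ≅ L leaves no rank-one submodule of degree 0 invariant, so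
(E, φ) is a stable pair while E is not stable; the published argument derives L ⊗ L ≅ O_X in the
split case, so the row assumes L ⊗ L ≄ O_X.) -/
theorem result
    (X : Scheme.{0}) [X.Over (Spec (CommRingCat.of ℂ))] [IsIntegral X]
    [IsProper (X ↘ Spec (CommRingCat.of ℂ))] [Smooth (X ↘ Spec (CommRingCat.of ℂ))]
    (hdim : topologicalKrullDim X = 1)
    (hg : Curv2.genus ℂ X = 1)
    (L : X.Modules) (hL : PicF.IsInvertible L) (hL0 : Curv2.deg ℂ X L 1 = 0)
    (hL2 : ¬ Nonempty (CohB1.tensorMod L L ≅ Coh.structureModule X))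
    (E : X.Modules) (hE : FlatMod.IsFinLocFreeOfRank 2 E)
    (φ : E ⟶ CohB1.tensorMod E L)
    (hst : (∀ (G : X.Modules) (n : ℕ) (j : G ⟶ E) (χ : G ⟶ CohB1.tensorMod G L), Mono j → 0 < n → n < 2 →
      FlatMod.IsFinLocFreeOfRank n G →
      χ ≫ (CohB1.sheafifyMod X).map (MonoidalCategoryStruct.whiskerRight (C := CohB1.PMod X) j.val (CohB1.toPMod L)) = j ≫ φ →
      Curv2.deg ℂ X G n * (2 : ℤ) < Curv2.deg ℂ X E 2 * (n : ℤ))) :
    ∀ (G : X.Modules) (n : ℕ) (j : G ⟶ E), Mono j → 0 < n → n < 2 → FlatMod.IsFinLocFreeOfRank n G →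
      Curv2.deg ℂ X G n * (2 : ℤ) < Curv2.deg ℂ X E 2 * (n : ℤ) := by
  haveI := Curve.isLocallyNoetherian ℂ X
  have hEc : Coh.IsCoh E := Curve.isCoh_of_rank hE
  haveI := hEc.1
  haveI : L.IsQuasicoherent := qc_of_isInvertible _ hL
  -- the invariance condition in terms of `tensorMap`
  have hst' : ∀ (G : X.Modules) (j : G ⟶ E) (χ : G ⟶ CohB1.tensorMod G L), Mono j →
      PicF.IsInvertible G → χ ≫ KoszTw.tensorMap j (𝟙 L) = j ≫ φ →
      Curv2.deg ℂ X G 1 * (2 : ℤ) < Curv2.deg ℂ X E 2 := by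
    intro G j χ hj hG hχ
    have := hst G 1 j χ hj Nat.one_pos (by norm_num) ((isInvertible_iff G).mp hG)
      (by rw [← hχ, ← KoszTw.tensorBi_map_app]; rfl)
    simpa using this
  intro G n j hj hn0 hn2 hG
  have hn : n = 1 := by omega
  subst hn
  haveI := hj
  have hGi : PicF.IsInvertible G := (isInvertible_iff G).mpr hG
  by_contra hcon
  push Not at hcon
  have hne := ne_zero_of_mono_of_isInvertible hGi j
  obtain ⟨M, i, hi, hM, hQ, hdle, hdeg, -, -⟩ := exists_sat_line ℂ X hdim.le hGi hE j hne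
  haveI := hi
  haveI : M.IsQuasicoherent := qc_of_isInvertible _ hM
  haveI : (cokernel i).IsQuasicoherent := qc_of_isInvertible _ hQ
  have hQM : Curv2.deg ℂ X (cokernel i) 1 ≤ Curv2.deg ℂ X M 1 := by
    push_cast at hcon
    linarith
  let S : ShortComplex X.Modules := ShortComplex.mk i (cokernel.π i) (cokernel.condition i)
  have hS : S.ShortExact :=
    { exact := ShortComplex.exact_cokernel i
      mono_f := hi
      epi_g := inferInstanceAs (Epi (cokernel.π i)) }
  have hS' := shortExact_tensorMap_of_isInvertible hS L hL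
  haveI : Mono (KoszTw.tensorMap i (𝟙 L)) := hS'.mono_f
  have hQL : PicF.IsInvertible (CohB1.tensorMod (cokernel i) L) := isInvertible_tensorMod hQ hL
  have hML : PicF.IsInvertible (CohB1.tensorMod M L) := isInvertible_tensorMod hM hL
  have hdQL : Curv2.deg ℂ X (CohB1.tensorMod (cokernel i) L) 1 = Curv2.deg ℂ X (cokernel i) 1 := by
    rw [deg_tensor ℂ X hdim.le hQ hL, hL0, add_zero]
  have hdML : Curv2.deg ℂ X (CohB1.tensorMod M L) 1 = Curv2.deg ℂ X M 1 := by
    rw [deg_tensor ℂ X hdim.le hM hL, hL0, add_zero]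
  -- `L` is not trivial, `H⁰(L) = H¹(L) = 0`
  have hLO : ¬ Nonempty (L ≅ unitMod X) := fun ⟨e⟩ =>
    hL2 ⟨tensorIso' e e ≪≫ unitorL' (unitMod X)⟩
  have hL00 : Subsingleton (Coh.HH X L 0) := by
    by_contra h
    rw [not_subsingleton_iff_nontrivial] at h
    obtain ⟨τ, hτ⟩ := exists_section_ne_zero_of_nontrivial_H0 ℂ X L h
    haveI : IsIso τ := (Curve.deg_le_of_ne_zero ℂ X hdim.le (isInvertible_unit X) hL τ hτ).2
      (by rw [hL0]; exact Curve.deg_structureModule ℂ X)
    exact hLO ⟨(asIso τ).symm⟩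
  have hLc := Groth.Agent.H5.Curve2.isCoh_of_isInvertible hL
  haveI : Module.Finite ℂ (Coh.HH X L 1) := Curve.finite_HH ℂ X _ hLc 1
  have hL10 : Subsingleton (Coh.HH X L 1) := by
    have hde := deg_eq_h0_sub_h1 ℂ X hdim L
    rw [hL0, hg, Module.finrank_zero_of_subsingleton] at hde
    push_cast at hde
    rw [← Module.finrank_zero_iff (R := ℂ)]
    omega
  by_cases hθ : i ≫ φ ≫ KoszTw.tensorMap (cokernel.π i) (𝟙 L) = 0
  · -- `M` is invariant
    have hθ' : (i ≫ φ) ≫ KoszTw.tensorMap (cokernel.π i) (𝟙 L) = 0 := by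
      rw [Category.assoc]; exact hθ
    have hχ := hS'.exact.lift_f (i ≫ φ) hθ'
    have := hst' M i _ hi hM hχ
    linarith
  · obtain ⟨hle, hiso⟩ := Curve.deg_le_of_ne_zero ℂ X hdim.le hM hQL _ hθ
    have hMQ : Curv2.deg ℂ X M 1 = Curv2.deg ℂ X (cokernel i) 1 := by linarith
    haveI := hiso (by rw [hdQL, hMQ])
    have eθ : M ≅ CohB1.tensorMod (cokernel i) L :=
      asIso (i ≫ φ ≫ KoszTw.tensorMap (cokernel.π i) (𝟙 L))
    obtain ⟨Q', hQ', ⟨eQ⟩⟩ := Groth.Agent.H5.Glue.exists_inverse _ hQ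
    haveI : Q'.IsQuasicoherent := qc_of_isInvertible _ hQ'
    have eML : CohB1.tensorMod M Q' ≅ L :=
      tensorIso' eθ (Iso.refl Q') ≪≫ swapIso (cokernel i) L Q' ≪≫
        tensorIso' (Iso.refl L) eQ ≪≫ SecTwist.unitorR L
    have h1 : Subsingleton (Coh.HH X (CohB1.tensorMod M Q') 1) :=
      Groth.Agent.H5.GG.subsingleton_HH_of_iso eML 1 hL10
    obtain ⟨s, hs⟩ := exists_section_of_subsingleton_H1 hS hQ Q' hQ' eQ h1
    let sp := ShortComplex.Splitting.ofExactOfSection S hS.exact s hs inferInstance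
    have hsg : sp.s ≫ cokernel.π i = 𝟙 _ := sp.s_g
    have hid : sp.r ≫ i + cokernel.π i ≫ sp.s = 𝟙 E := sp.id
    haveI : Mono sp.s := mono_of_mono_fac hsg
    by_cases hθ2 : sp.s ≫ φ ≫ KoszTw.tensorMap sp.r (𝟙 L) = 0
    · -- `Q` is invariant
      have hχ : (sp.s ≫ φ ≫ KoszTw.tensorMap (cokernel.π i) (𝟙 L)) ≫ KoszTw.tensorMap sp.s (𝟙 L) =
          sp.s ≫ φ := by
        have h3 : KoszTw.tensorMap (sp.r ≫ i + cokernel.π i ≫ sp.s) (𝟙 L) =
            KoszTw.tensorMap sp.r (𝟙 L) ≫ KoszTw.tensorMap i (𝟙 L) +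
              KoszTw.tensorMap (cokernel.π i) (𝟙 L) ≫ KoszTw.tensorMap sp.s (𝟙 L) := by
          rw [tensorMap_add_id hL, tensorMap_comp_id, tensorMap_comp_id]
        have h4 : sp.s ≫ φ ≫ KoszTw.tensorMap sp.r (𝟙 L) ≫ KoszTw.tensorMap i (𝟙 L) = 0 := by
          have h5 := congrArg (· ≫ KoszTw.tensorMap i (𝟙 L)) hθ2
          simpa only [Category.assoc, zero_comp] using h5
        calc (sp.s ≫ φ ≫ KoszTw.tensorMap (cokernel.π i) (𝟙 L)) ≫ KoszTw.tensorMap sp.s (𝟙 L)
            = sp.s ≫ φ ≫ KoszTw.tensorMap (cokernel.π i) (𝟙 L) ≫ KoszTw.tensorMap sp.s (𝟙 L) := by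
              simp only [Category.assoc]
          _ = sp.s ≫ φ ≫ (KoszTw.tensorMap sp.r (𝟙 L) ≫ KoszTw.tensorMap i (𝟙 L) +
                KoszTw.tensorMap (cokernel.π i) (𝟙 L) ≫ KoszTw.tensorMap sp.s (𝟙 L)) := by
              rw [Preadditive.comp_add, Preadditive.comp_add, h4, zero_add]
          _ = sp.s ≫ φ := by rw [← h3, hid, tensorMap_id_id, Category.comp_id]
      have := hst' (cokernel i) sp.s _ inferInstance hQ hχ
      linarith
    · obtain ⟨hle2, hiso2⟩ := Curve.deg_le_of_ne_zero ℂ X hdim.le hQ hML _ hθ2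
      haveI := hiso2 (by rw [hdML, hMQ])
      have eθ2 : cokernel i ≅ CohB1.tensorMod M L :=
        asIso (sp.s ≫ φ ≫ KoszTw.tensorMap sp.r (𝟙 L))
      have eQ2 : cokernel i ≅ CohB1.tensorMod (cokernel i) (CohB1.tensorMod L L) :=
        eθ2 ≪≫ tensorIso' eθ (Iso.refl L) ≪≫ tensorAssoc _ _ _
      haveI : (CohB1.tensorMod L L).IsQuasicoherent := tensorMod_isQuasicoherent _ _
      exact hL2 ⟨(cancelIso (cokernel i) Q' (CohB1.tensorMod L L) eQ).symm ≪≫
        tensorIso' (Iso.refl Q') eQ2.symm ≪≫ tensorCommAll Q' (cokernel i) ≪≫ eQ⟩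

end Groth.Agent.S16006
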