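import Groth.Statements.S16008
import Groth.Agent.Lib.Helper5.Curve6.GGQ

set_option autoImplicit false
open CategoryTheory AlgebraicGeometry CategoryTheory.Limits
open VBCurve

namespace Groth.Agent.S16008

/-- Let X be a smooth proper integral curve over the complex numbers, of genus g = dim H¹(O_X), E a
finite locally free O_X-module of rank r ≥ 1 and C an integer such that every finite locally free
submodule G of E of rank n ≥ 1 satisfies deg G · r ≤ (deg E + r·C) · n, that is, μ(G) ≤ μ(E) + C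
(degrees being χ − rank · χ(O_X)). Then H¹(X, E ⊗ N) vanishes for every invertible module N with deg
E + r · deg N > r(r − 1)·C + r(2g − 2), that is, whenever μ(E) + deg N > (r − 1)C + 2g − 2. (Only
the degree of the twisting line bundle enters, so any invertible N replaces the twist O_X(m). The
published argument, written for the twists E(m) by a degree-one polarisation, prints the threshold
as m ≥ μ(E) + (r − 1)C + 2g − 1; for E = O(−1) on the projective line and m = −2 that threshold is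
met while H¹(O(−3)) ≠ 0. The degree count in the argument gives the threshold −μ(E) + (r − 1)C + 2g
− 2 < m stated here.) -/
theorem result
    (X : Scheme.{0}) [X.Over (Spec (CommRingCat.of ℂ))] [IsIntegral X]
    [IsProper (X ↘ Spec (CommRingCat.of ℂ))] [Smooth (X ↘ Spec (CommRingCat.of ℂ))]
    (hdim : topologicalKrullDim X = 1)
    (r : ℕ) (hr : 0 < r) (E : X.Modules) (hE : FlatMod.IsFinLocFreeOfRank r E) (C : ℤ)
    (hC : ∀ (G : X.Modules) (n : ℕ) (j : G ⟶ E), Mono j → 0 < n → FlatMod.IsFinLocFreeOfRank n G →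
      Curv2.deg ℂ X G n * (r : ℤ) ≤ (Curv2.deg ℂ X E r + (r : ℤ) * C) * (n : ℤ))
    (N : X.Modules) (hN : PicF.IsInvertible N)
    (hbig : (r : ℤ) * ((r : ℤ) - 1) * C + (r : ℤ) * (2 * (Curv2.genus ℂ X : ℤ) - 2) <
      Curv2.deg ℂ X E r + (r : ℤ) * Curv2.deg ℂ X N 1) :
    Subsingleton (Coh.HH X (CohB1.tensorMod E N) 1) := by
  haveI := Groth.Agent.LD.Curve.isLocallyNoetherian ℂ X
  haveI : IsNoetherian X := Groth.Agent.H5.Curve2.isNoetherian_of_proper ℂ X
  have hEc : Coh.IsCoh E := Groth.Agent.LD.Curve.isCoh_of_rank hE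
  haveI := hEc.1
  haveI qN : N.IsQuasicoherent := Groth.Agent.LD.QC.qc_of_isInvertible N hN
  obtain ⟨N', hN', ⟨e⟩⟩ := Groth.Agent.H5.Glue.exists_inverse N hN
  haveI qN' : N'.IsQuasicoherent := Groth.Agent.LD.QC.qc_of_isInvertible N' hN'
  have hN'1 : FlatMod.IsFinLocFreeOfRank 1 N' := (Groth.Agent.LD.QC.isInvertible_iff N').mp hN'
  have hrz : (0 : ℤ) < r := by exact_mod_cast hr
  -- `C ≥ 0`
  have hC0 : 0 ≤ C := by
    have h1 := hC E r (𝟙 E) inferInstance hr hE
    by_contra hneg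
    push Not at hneg
    have : (r : ℤ) * C * r < 0 := by
      have : (r : ℤ) * C < 0 := mul_neg_of_pos_of_neg hrz hneg
      exact mul_neg_of_neg_of_pos this hrz
    nlinarith
  have hdegN' : Curv2.deg ℂ X N' 1 = - Curv2.deg ℂ X N 1 := by
    have h1 := Groth.Agent.H5.Curve2.deg_tensor ℂ X hdim.le hN hN'
    have h2 := Groth.Agent.LD.Curve.deg_iso ℂ X e 1
    rw [Groth.Agent.LD.Curve.deg_structureModule] at h2
    change Curv2.deg ℂ X (CohB1.tensorMod N N') 1 = 0 at h2
    rw [h1] at h2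
    linarith
  have hEN : FlatMod.IsFinLocFreeOfRank r (CohB1.tensorMod E N) :=
    Groth.Agent.H5.Curve6.isFinLocFreeOfRank_tensorMod_of_isInvertible r E N hE hN
  apply Groth.Agent.H5.Curve6.subsingleton_H1_of_quotients ℂ X hdim r _ hEN
  intro Q s p hp hs hQ
  haveI qQ : Q.IsQuasicoherent := (Groth.Agent.LD.Curve.isCoh_of_rank hQ).1
  have hsz : (0 : ℤ) < s := by exact_mod_cast hs
  have hQ' : FlatMod.IsFinLocFreeOfRank s (CohB1.tensorMod Q N') :=
    Groth.Agent.H5.Curve6.isFinLocFreeOfRank_tensorMod_of_isInvertible s Q N' hQ hN'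
  have hp1 : Epi (KoszTw.tensorMap p (𝟙 N')) := Groth.Agent.LD.QC.epi_tensorMap_of_isInvertible p hp N' hN'
  haveI hp' : Epi ((Groth.Agent.LD.QC.backIso N N' e E).inv ≫ KoszTw.tensorMap p (𝟙 N')) := epi_comp _ _
  have hdQ' := Groth.Agent.H5.DegC.deg_tensorMod ℂ hdim.le s 1 Q N' hQ hN'1
  rw [mul_one, hdegN'] at hdQ'
  obtain ⟨a, has, hK, hdK⟩ := Groth.Agent.H5.Curve4.kernel_facts_of_epi ℂ X hdim.le r s hE hQ'
    ((Groth.Agent.LD.QC.backIso N N' e E).inv ≫ KoszTw.tensorMap p (𝟙 N'))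
  have hra : (r : ℤ) = a + s := by exact_mod_cast has.symm
  by_contra hcon
  push Not at hcon
  rcases Nat.eq_zero_or_pos a with ha0 | hapos
  · subst ha0
    have hz : IsZero (kernel ((Groth.Agent.LD.QC.backIso N N' e E).inv ≫ KoszTw.tensorMap p (𝟙 N'))) :=
      Groth.Agent.H5.Curve4.isZero_of_rank_zero hK
    have hKc : Coh.IsCoh (kernel ((Groth.Agent.LD.QC.backIso N N' e E).inv ≫ KoszTw.tensorMap p (𝟙 N'))) :=
      Groth.Agent.LD.Curve.isCoh_of_rank hK
    haveI := hKc.1
    have e1 := Groth.Agent.LD.Curve.euler_eq_sub ℂ X hdim.le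
      (kernel ((Groth.Agent.LD.QC.backIso N N' e E).inv ≫ KoszTw.tensorMap p (𝟙 N')))
    haveI := Groth.Agent.LD.CL.subsingleton_HH_of_isZero hz 0
    haveI := Groth.Agent.LD.CL.subsingleton_HH_of_isZero hz 1
    rw [Module.finrank_zero_of_subsingleton, Module.finrank_zero_of_subsingleton] at e1
    have hdK0 : Curv2.deg ℂ X (kernel ((Groth.Agent.LD.QC.backIso N N' e E).inv ≫ KoszTw.tensorMap p (𝟙 N'))) 0
        = 0 := by
      unfold Curv2.deg
      rw [e1]
      simp
    rw [hdK0, zero_add] at hdK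
    have hrs : s = r := by omega
    subst hrs
    push_cast at hdQ'
    have h5 : (s : ℤ) * ((s : ℤ) - 1) * C ≥ 0 := by
      have : (0 : ℤ) ≤ (s : ℤ) - 1 := by linarith
      positivity
    nlinarith
  · have h1 := hC _ a (kernel.ι _) inferInstance hapos hK
    have haz : (0 : ℤ) < a := by exact_mod_cast hapos
    push_cast at hdQ'
    have hs1 : (0 : ℤ) ≤ (s : ℤ) - 1 := by linarith
    -- r * deg Q' ≥ s * deg E - r a C
    set dE := Curv2.deg ℂ X E r with hdE
    set dQ := Curv2.deg ℂ X Q s with hdQ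
    set dN := Curv2.deg ℂ X N 1 with hdN
    set dK := Curv2.deg ℂ X (kernel ((Groth.Agent.LD.QC.backIso N N' e E).inv ≫ KoszTw.tensorMap p (𝟙 N'))) a
      with hdKK
    set g := (Curv2.genus ℂ X : ℤ) with hg
    -- hdK : dE = dK + (s * -dN + dQ)
    -- h1 : dK * r ≤ (dE + r * C) * a
    -- hbig : r (r-1) C + r (2g-2) < dE + r dN
    -- hcon : dQ ≤ s (2g - 2)
    have k1 : (r : ℤ) * dQ = r * dE - r * dK + r * s * dN := by
      have : dQ = dE - dK + s * dN := by linarith
      rw [this]; ring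
    have k2 : (r : ℤ) * dK ≤ (dE + r * C) * a := by linarith
    have k3 : (r : ℤ) * dQ ≥ s * (dE + r * dN) - r * a * C := by
      have : (r : ℤ) * dE - (dE + r * C) * a = s * dE - r * a * C := by
        rw [hra]; ring
      nlinarith
    have k4 : (s : ℤ) * (dE + r * dN) > s * (r * ((r : ℤ) - 1) * C + r * (2 * g - 2)) :=
      mul_lt_mul_of_pos_left hbig hsz
    have k5 : (r : ℤ) * dQ ≤ r * (s * (2 * g - 2)) := mul_le_mul_of_nonneg_left hcon hrz.le
    have k6 : (s : ℤ) * (r * ((r : ℤ) - 1) * C) - r * a * C = r * ((s : ℤ) - 1) * C * r := by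
      have : (a : ℤ) = r - s := by linarith
      rw [this]; ring
    have k7 : (0 : ℤ) ≤ r * ((s : ℤ) - 1) * C * r := by positivity
    nlinarith

end Groth.Agent.S16008
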