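import Groth.Statements.S16012
import Groth.Agent.Lib.Helper9.Misc.Constell

set_option autoImplicit false
universe u v w x
open W4c3ghconstell

namespace Groth.Agent.S16012

/-- Let k be an algebraically closed field of characteristic zero, A a commutative Hopf algebra over k
which is a finitely generated domain and linearly reductive (the coordinate ring of a connected
reductive group G; irreducible representations of G are indexed by the simple subcoalgebras D of A),
R a Noetherian commutative k-algebra with a multiplicative A-coaction (an affine G-scheme X = Spec
R), and M an R-module with a compatible A-coaction (a G-equivariant quasi-coherent module on X)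
which is finite over R, is the sum of its isotypic components M_D, and has dim_k M_D = h(D) < ∞ for
every simple subcoalgebra D. Fix a weight θ from simple subcoalgebras to ℚ, negative at only
finitely many D, with Σ_D θ(D) h(D) = 0 (a convergent real series) and with θ(D) ≠ 0, h(D) ≠ 0 for
some D; the weight of a k-subspace N of M is the real series Σ_D θ(D) · dim_k (N ∩ M_D). Assume
moreover that θ(D) ≠ 0 for every D with h(D) ≠ 0. Suppose M has weight 0 and every non-zero proper
R-submodule N of M stable under the coaction and generated as an R-module by its isotypic parts N ∩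
M_D with θ(D) < 0 has weight > 0. Then M is θ-stable: every non-zero proper R-submodule of M stable
under the coaction has weight > 0. (The published statement has no condition on the D with θ(D) = 0;
without it the conclusion fails: for the multiplicative group acting on k[x,y]/(x,y)² with x of
weight 1 and y of weight 2, the module M = k[x,y]/(x,y)² with h = 1 at the weights 0, 1, 2 and θ =
−1, 1, 0 there has no non-zero proper equivariant submodule generated in weight 0, yet the weight-2
line is an equivariant submodule of weight 0. The printed argument establishes the statement under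
the extra condition, which also records multiplicities as dimensions of isotypic components, a
rescaling of θ.) -/
theorem result (k : Type u) [Field k] [IsAlgClosed k] [CharZero k]
    (A : Type v) [CommRing A] [IsDomain A] [HopfAlgebra k A] [Algebra.FiniteType k A]
    (hred : HopfRep.IsLinearlyReductive k A)
    (R : Type w) [CommRing R] [Algebra k R] [IsNoetherianRing R] [HopfRep.Comod k A R] [GLin.IsCoactAlg k A R]
    (M : Type x) [AddCommGroup M] [Module k M] [Module R M] [IsScalarTower k R M]
    [HopfRep.Comod k A M] [TameAct.IsHopfMod k A R M]
    (h : W4c3ghconstell.SimpSub k A → ℕ) (θ : W4c3ghconstell.SimpSub k A → ℚ)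
    (hfin : {D | θ D < 0}.Finite) (hsum : HasSum (fun D => (θ D : ℝ) * (h D : ℝ)) 0)
    (hne : ∃ D, θ D ≠ 0 ∧ h D ≠ 0)
    (hM : W4c3ghconstell.IsConstellation k A R M h)
    (hθ : ∀ D, h D ≠ 0 → θ D ≠ 0)
    (h0 : W4c3ghconstell.theta M θ ⊤ = 0)
    (hs : ∀ N : Submodule R M, HopfRep.IsSubcomod (k := k) (A := A) (N.restrictScalars k) → N ≠ ⊥ → N ≠ ⊤ →
      W4c3ghconstell.genIn k A R M {D | θ D < 0} N = N → 0 < W4c3ghconstell.theta M θ (N.restrictScalars k)) :
    W4c3ghconstell.IsThetaStable k A R M θ := by
  classical
  have hfinM := hM.2.2
  have hsummable := hsum.summable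
  refine ⟨h0, ?_⟩
  intro N hN hNbot hNtop
  have hsub' := Groth.Agent.H9.Constell.isSubcomod_genIn k A R M {D | θ D < 0} N hN
  have hle := Groth.Agent.H9.Constell.theta_le h θ hfinM hsummable
    (Submodule.restrictScalars_mono k (Groth.Agent.H9.Constell.genIn_le {D | θ D < 0} N))
    (fun D hD => by
      unfold W4c3ghconstell.hilbAt
      rw [Groth.Agent.H9.Constell.genIn_inf_isoComp _ N (show D ∈ {D | θ D < 0} from hD)])
  by_cases hbot : W4c3ghconstell.genIn k A R M {D | θ D < 0} N = ⊥
  · apply Groth.Agent.H9.Constell.theta_pos h θ hfinM hsummable hM.2.1 hθ hN
    · intro h1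
      exact hNbot ((Submodule.restrictScalars_eq_bot_iff k R M).mp h1)
    · intro D hD
      have h1 := Groth.Agent.H9.Constell.inf_isoComp_le_genIn {D | θ D < 0} N
        (show D ∈ {D | θ D < 0} from hD)
      rw [hbot, Submodule.restrictScalars_bot, le_bot_iff] at h1
      exact h1
  · have htop : W4c3ghconstell.genIn k A R M {D | θ D < 0} N ≠ ⊤ := by
      intro h1
      have h2 := Groth.Agent.H9.Constell.genIn_le {D | θ D < 0} N
      rw [h1, top_le_iff] at h2
      exact hNtop h2
    have h1 := hs _ hsub' hbot htop (Groth.Agent.H9.Constell.genIn_genIn _ N)
    linarith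

end Groth.Agent.S16012
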