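import Groth.Statements.S16014
import Mathlib.Tactic
import Mathlib.Order.Interval.Finset.Basic
import Mathlib.Data.Int.Interval
-- import your own Groth.Agent.* helpers here

set_option autoImplicit false
universe u
open W4c3ghconstell

namespace Groth.Agent.S16014

/-- Let B = ⊕_{n ∈ ℤ} ⊕_τ B^n_τ be a bigraded finite-dimensional vector space, τ running over a finite
index set, with B^n = 0 for n < −N and for n > M (N, M integers); put d(n, τ) = dim B^n_τ. For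
rational numbers φ_τ write φ(C) = Σ_τ φ_τ dim C_τ for a τ-graded piece C, and let B^{≥n} = ⊕_{m ≥ n}
B^m, so that dim B^{≥n}_τ = Σ_{n ≤ m ≤ M} d(m, τ). Then Σ_{−N ≤ n ≤ M} n · φ(B^n) = Σ_{−N+1 ≤ n ≤ M}
φ(B^{≥n}) − N · φ(B). (Stated directly on the dimension function d.) -/
theorem result {τ : Type u} [Fintype τ] (d : ℤ → τ → ℕ) (φ : τ → ℚ) (N M : ℤ)
    (hN : ∀ n, n < -N → d n = 0) (hM : ∀ n, M < n → d n = 0) :
    ∑ n ∈ Finset.Icc (-N) M, (n : ℚ) * (∑ t, φ t * (d n t : ℚ)) =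
      ∑ n ∈ Finset.Icc (-N + 1) M, (∑ t, φ t * (∑ m ∈ Finset.Icc n M, (d m t : ℚ))) -
        (N : ℚ) * (∑ t, φ t * (∑ m ∈ Finset.Icc (-N) M, (d m t : ℚ))) := by
  -- a general summation-by-parts identity
  have key : ∀ (f : ℤ → ℚ) (a : ℤ),
      ∑ n ∈ Finset.Icc (a + 1) M, ∑ m ∈ Finset.Icc n M, f m =
        ∑ m ∈ Finset.Icc a M, ((m : ℚ) - a) * f m := by
    intro f a
    rw [Finset.sum_comm' (s' := fun m => Finset.Icc (a + 1) m) (t' := Finset.Icc a M)]
    · refine Finset.sum_congr rfl ?_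
      intro m hm
      rw [Finset.mem_Icc] at hm
      rw [Finset.sum_const, Int.card_Icc, nsmul_eq_mul]
      congr 1
      have : ((m + 1 - (a + 1)).toNat : ℤ) = m - a := by
        rw [Int.toNat_of_nonneg (by omega)]; ring
      have h2 : (((m + 1 - (a + 1)).toNat : ℤ) : ℚ) = ((m - a : ℤ) : ℚ) := by rw [this]
      push_cast at h2
      exact_mod_cast h2
    · intro n m
      simp only [Finset.mem_Icc]
      omega
  have lhs : ∑ n ∈ Finset.Icc (-N) M, (n : ℚ) * (∑ t, φ t * (d n t : ℚ)) =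
      ∑ t, φ t * ∑ n ∈ Finset.Icc (-N) M, (n : ℚ) * (d n t : ℚ) := by
    simp_rw [Finset.mul_sum]
    rw [Finset.sum_comm]
    refine Finset.sum_congr rfl fun t _ => Finset.sum_congr rfl fun n _ => by ring
  have rhs1 : ∑ n ∈ Finset.Icc (-N + 1) M, (∑ t, φ t * (∑ m ∈ Finset.Icc n M, (d m t : ℚ))) =
      ∑ t, φ t * ∑ n ∈ Finset.Icc (-N + 1) M, ∑ m ∈ Finset.Icc n M, (d m t : ℚ) := by
    rw [Finset.sum_comm]
    refine Finset.sum_congr rfl fun t _ => ?_
    rw [Finset.mul_sum]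
  have pert : ∀ t : τ, ∑ n ∈ Finset.Icc (-N) M, (n : ℚ) * (d n t : ℚ) =
      (∑ n ∈ Finset.Icc (-N + 1) M, ∑ m ∈ Finset.Icc n M, (d m t : ℚ)) -
        (N : ℚ) * ∑ m ∈ Finset.Icc (-N) M, (d m t : ℚ) := by
    intro t
    rw [key (fun m => (d m t : ℚ)) (-N), Finset.mul_sum, ← Finset.sum_sub_distrib]
    refine Finset.sum_congr rfl fun m _ => ?_
    push_cast
    ring
  rw [lhs, rhs1]
  have : (N : ℚ) * (∑ t, φ t * (∑ m ∈ Finset.Icc (-N) M, (d m t : ℚ))) =
      ∑ t, φ t * ((N : ℚ) * ∑ m ∈ Finset.Icc (-N) M, (d m t : ℚ)) := by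
    rw [Finset.mul_sum]
    refine Finset.sum_congr rfl fun t _ => by ring
  rw [this, ← Finset.sum_sub_distrib]
  refine Finset.sum_congr rfl fun t _ => ?_
  rw [pert t, mul_sub]

end Groth.Agent.S16014
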