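import Groth.Statements.S16015
import Mathlib
-- import your own Groth.Agent.* helpers here

set_option autoImplicit false
universe u v w
open W4c3ghconstell

namespace Groth.Agent.S16015

/-- Let B be a commutative ring, E a B-module, F a finitely generated projective B-module and β : E → F
a B-linear map. Then there is a unique ideal I of B such that for every commutative B-algebra C the
base change β_C : C ⊗ E → C ⊗ F is zero if and only if the structure map B → C kills I. (The
published statement is for a homomorphism of modules on a scheme T into a locally free module and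
produces a closed subscheme T₀ through which a morphism factors exactly when the pulled-back
homomorphism vanishes; this row is the case of an affine T with affine test schemes and F of finite
rank, to which it reduces.) -/
theorem result {B : Type u} [CommRing B]
    {E : Type v} [AddCommGroup E] [Module B E]
    {F : Type w} [AddCommGroup F] [Module B F] [Module.Finite B F] [Module.Projective B F]
    (β : E →ₗ[B] F) :
    ∃! I : Ideal B, ∀ (C : Type u) [CommRing C] [Algebra B C],
      LinearMap.baseChange C β = 0 ↔ I ≤ RingHom.ker (algebraMap B C) := by
  classical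
  obtain ⟨n, f, g, -, -, hfg⟩ := Module.Finite.exists_comp_eq_id_of_projective B F
  have hfg' : ∀ x : F, f (g x) = x := fun x => LinearMap.congr_fun hfg x
  have hfsum : ∀ v : Fin n → B, f v = ∑ j, v j • f (Pi.single j 1) := by
    intro v
    conv_lhs => rw [← Finset.univ_sum_single v]
    rw [map_sum]
    refine Finset.sum_congr rfl fun j _ => ?_
    rw [← map_smul]
    congr 1
    ext i
    simp [Pi.single_apply]
  let I : Ideal B := Ideal.span {b | ∃ (e : E) (j : Fin n), b = g (β e) j}
  have hI : ∀ (C : Type u) [CommRing C] [Algebra B C],
      LinearMap.baseChange C β = 0 ↔ I ≤ RingHom.ker (algebraMap B C) := by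
    intro C _ _
    constructor
    · intro h0
      rw [Ideal.span_le]
      rintro _ ⟨e, j, rfl⟩
      rw [SetLike.mem_coe, RingHom.mem_ker]
      let ψ : TensorProduct B C F →ₗ[B] C :=
        (TensorProduct.rid B C).toLinearMap ∘ₗ (LinearMap.lTensor C ((LinearMap.proj j) ∘ₗ g))
      have h1 : ψ ((LinearMap.baseChange C β) ((1 : C) ⊗ₜ[B] e)) = algebraMap B C (g (β e) j) := by
        simp [ψ, Algebra.smul_def]
      rw [← h1, h0]
      simp
    · intro hle
      apply LinearMap.ext
      intro x
      induction x using TensorProduct.induction_on with
      | zero => simp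
      | add x y hx hy => rw [map_add, hx, hy]; simp
      | tmul c e =>
        rw [LinearMap.baseChange_tmul, LinearMap.zero_apply]
        rw [← hfg' (β e), hfsum, TensorProduct.tmul_sum]
        refine Finset.sum_eq_zero fun j _ => ?_
        have hmem : g (β e) j ∈ I := Ideal.subset_span ⟨e, j, rfl⟩
        have hzero : algebraMap B C (g (β e) j) = 0 := hle hmem
        have hbc : (g (β e) j) • c = 0 := by rw [Algebra.smul_def, hzero, zero_mul]
        first
          | rw [TensorProduct.smul_tmul', hbc, TensorProduct.zero_tmul]
          | rw [TensorProduct.tmul_smul, TensorProduct.smul_tmul', hbc, TensorProduct.zero_tmul]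
  refine ⟨I, hI, ?_⟩
  intro I' hI'
  have key : ∀ J : Ideal B, I' ≤ J ↔ I ≤ J := by
    intro J
    have h1 := hI' (B ⧸ J)
    have h2 := hI (B ⧸ J)
    rw [Ideal.Quotient.algebraMap_eq, Ideal.mk_ker] at h1 h2
    rw [← h1, ← h2]
  exact le_antisymm ((key I).mpr le_rfl) ((key I').mp le_rfl)

end Groth.Agent.S16015
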