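import Groth.Statements.S16016
import Mathlib
-- import your own Groth.Agent.* helpers here

set_option autoImplicit false
universe u
open W4c3ghconstell

namespace Groth.Agent.S16016

/-- Let k be a field with 2 ≠ 0, index k⁶ by two copies of {0,1,2} (basis vectors p₁, p₂, p₃ in the
first copy and p₄, p₅, p₆ in the second), let Q be the symmetric matrix with blocks ((0, 1), (1,
0)), so that the form it defines pairs pᵢ with pᵢ₊₃, and let W₀ be the span of p₁ and p₂. Then a 6 ×
6 matrix A satisfies AᵀQ + QA = 0 (A lies in the orthogonal Lie algebra of Q) and has the image of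
Aᵀ contained in W₀ if and only if A = a · (E₄₂ − E₅₁) for some scalar a, where Eᵢⱼ is the matrix
unit. (The lemma in the source concludes that the set of such A inside a certain nilpotent orbit
closure of this Lie algebra is one-dimensional; this row is the computation its proof performs,
which determines all such A in the Lie algebra. Characteristic 2 is excluded: there E₁₄ᵀ also
qualifies.) -/
theorem result (k : Type u) [Field k] (h2 : (2 : k) ≠ 0)
    (A : Matrix (Fin 3 ⊕ Fin 3) (Fin 3 ⊕ Fin 3) k) :
    (A.transpose * Matrix.fromBlocks (0 : Matrix (Fin 3) (Fin 3) k) 1 1 0 +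
        Matrix.fromBlocks (0 : Matrix (Fin 3) (Fin 3) k) 1 1 0 * A = 0 ∧
      LinearMap.range (Matrix.mulVecLin A.transpose) ≤
        Submodule.span k {Pi.single (Sum.inl 0 : Fin 3 ⊕ Fin 3) (1 : k), Pi.single (Sum.inl 1 : Fin 3 ⊕ Fin 3) (1 : k)}) ↔
    ∃ a : k, A = a • (Matrix.single (Sum.inr 0) (Sum.inl 1) (1 : k) - Matrix.single (Sum.inr 1) (Sum.inl 0) (1 : k)) := by
  classical
  set Q : Matrix (Fin 3 ⊕ Fin 3) (Fin 3 ⊕ Fin 3) k := Matrix.fromBlocks (0 : Matrix (Fin 3) (Fin 3) k) 1 1 0 with hQ
  have hQA : ∀ (M : Matrix (Fin 3 ⊕ Fin 3) (Fin 3 ⊕ Fin 3) k) i j, (Q * M) i j = M (Sum.swap i) j := by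
    intro M i j
    rcases i with x | x <;>
    simp [hQ, Matrix.mul_apply, Fintype.sum_sum_type, Matrix.one_apply]
  have hAQ : ∀ (M : Matrix (Fin 3 ⊕ Fin 3) (Fin 3 ⊕ Fin 3) k) i j, (M * Q) i j = M i (Sum.swap j) := by
    intro M i j
    rcases j with x | x <;>
    simp [hQ, Matrix.mul_apply, Fintype.sum_sum_type, Matrix.one_apply]
  constructor
  · rintro ⟨hlie, hrange⟩
    have hanti : ∀ i j, A i j = - A (Sum.swap j) (Sum.swap i) := by
      intro i j
      have h := congrFun (congrFun hlie (Sum.swap i)) j
      rw [Matrix.add_apply, hQA, hAQ, Matrix.transpose_apply, Sum.swap_swap, Matrix.zero_apply] at h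
      rw [eq_neg_iff_add_eq_zero, add_comm]
      exact h
    have h1 : ∀ i j, j ≠ Sum.inl 0 → j ≠ Sum.inl 1 → A i j = 0 := by
      intro i j hj0 hj1
      have hmem : (Matrix.mulVecLin A.transpose) (Pi.single i 1) ∈ Submodule.span k
          {Pi.single (Sum.inl 0 : Fin 3 ⊕ Fin 3) (1 : k), Pi.single (Sum.inl 1 : Fin 3 ⊕ Fin 3) (1 : k)} :=
        hrange ⟨_, rfl⟩
      rw [Submodule.mem_span_pair] at hmem
      obtain ⟨c, d, hcd⟩ := hmem
      have h := congrFun hcd j
      simp [Pi.single_apply, hj0, hj1] at h
      exact h.symm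
    have hrow : ∀ x j, A (Sum.inl x) j = 0 := by
      intro x j
      rw [hanti]
      simp only [Sum.swap_inl]
      rw [h1 _ _ (by simp) (by simp), neg_zero]
    have h3 : ∀ j, A (Sum.inr 2) j = 0 := by
      intro j
      rw [hanti]
      simp only [Sum.swap_inr]
      rw [h1 _ _ (by simp) (by simp), neg_zero]
    have h4 : A (Sum.inr 0) (Sum.inl 0) = 0 := by
      have h := hanti (Sum.inr 0) (Sum.inl 0)
      simp only [Sum.swap_inl, Sum.swap_inr] at h
      have h' : (2 : k) * A (Sum.inr 0) (Sum.inl 0) = 0 := by linear_combination h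
      exact (mul_eq_zero.mp h').resolve_left h2
    have h5 : A (Sum.inr 1) (Sum.inl 1) = 0 := by
      have h := hanti (Sum.inr 1) (Sum.inl 1)
      simp only [Sum.swap_inl, Sum.swap_inr] at h
      have h' : (2 : k) * A (Sum.inr 1) (Sum.inl 1) = 0 := by linear_combination h
      exact (mul_eq_zero.mp h').resolve_left h2
    have h6 : A (Sum.inr 1) (Sum.inl 0) = - A (Sum.inr 0) (Sum.inl 1) := by
      have h := hanti (Sum.inr 1) (Sum.inl 0)
      simpa only [Sum.swap_inl, Sum.swap_inr] using h
    refine ⟨A (Sum.inr 0) (Sum.inl 1), ?_⟩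
    ext i j
    rcases i with x | x
    · rw [hrow]
      simp [Matrix.single_apply]
    · fin_cases x
      · rcases j with y | y
        · fin_cases y
          · simp [Matrix.single_apply, h4]
          · simp [Matrix.single_apply]
          · rw [h1 _ _ (by simp) (by simp)]
            simp [Matrix.single_apply]
        · rw [h1 _ _ (by simp) (by simp)]
          simp [Matrix.single_apply]
      · rcases j with y | y
        · fin_cases y
          · simp [Matrix.single_apply, h6]
          · simp [Matrix.single_apply, h5]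
          · rw [h1 _ _ (by simp) (by simp)]
            simp [Matrix.single_apply]
        · rw [h1 _ _ (by simp) (by simp)]
          simp [Matrix.single_apply]
      · have := h3 j
        simp only [Fin.reduceFinMk] at this ⊢
        rw [this]
        simp [Matrix.single_apply]
  · rintro ⟨a, rfl⟩
    constructor
    · ext i j
      rw [Matrix.add_apply, hQA, hAQ, Matrix.transpose_apply, Matrix.zero_apply]
      rcases i with x | x <;> rcases j with y | y <;> fin_cases x <;> fin_cases y <;>
        simp [Matrix.single_apply]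
    · rintro _ ⟨v, rfl⟩
      rw [Submodule.mem_span_pair]
      refine ⟨- a * v (Sum.inr 1), a * v (Sum.inr 0), ?_⟩
      ext j
      rcases j with y | y <;> fin_cases y <;>
        simp [Matrix.mulVec, dotProduct, Fintype.sum_sum_type, Fin.sum_univ_three, Matrix.single_apply,
          Pi.single_apply]

end Groth.Agent.S16016
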