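import Groth.Statements.S16017
import Mathlib.Analysis.Normed.Group.InfiniteSum
import Mathlib.Analysis.SpecificLimits.Basic
-- import your own Groth.Agent.* helpers here

set_option autoImplicit false
universe u
open W4c3ghconstell

namespace Groth.Agent.S16017

/-- Let ι index the irreducible representations, θ : ι → ℚ a weight negative at only finitely many
indices (the finite set D₋), h h' : ι → ℕ with h' ≤ h pointwise (the isotypic dimensions of an
object and of a sub-object) and Σ_i θ_i h_i summable. For a finite set D of indices put S_D = Σ_{i ∉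
D} θ_i h_i, d = #(D ∖ D₋), and θ̃_D = Σ_{i ∈ D} θ_i h'_i + (S_D / d) · Σ_{i ∈ D ∖ D₋} h'_i / h_i,
the modified weight attached to the parameters chosen for D (for D ⊇ D₋ the first sum is the
negative part plus the part over D ∖ D₋). Then θ̃_D tends to Σ_i θ_i h'_i as D grows through the
finite subsets of ι. (Here D runs over all finite sets of indices and a quotient by zero is zero;
the source lets D run over the finite subsets of the locus θ ≠ 0 containing D₋, and the same tail
estimate gives both.) -/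
theorem result {ι : Type u} [DecidableEq ι] (θ : ι → ℚ) (h h' : ι → ℕ)
    (hle : ∀ i, h' i ≤ h i) (hfin : {i | θ i < 0}.Finite)
    (hsum : Summable (fun i => (θ i : ℝ) * (h i : ℝ))) :
    Filter.Tendsto
      (fun D : Finset ι =>
        (∑ i ∈ D, (θ i : ℝ) * (h' i : ℝ)) +
          ((∑' i, if i ∈ D then (0 : ℝ) else (θ i : ℝ) * (h i : ℝ)) / ((D \ hfin.toFinset).card : ℝ)) *
            ∑ i ∈ D \ hfin.toFinset, ((h' i : ℝ) / (h i : ℝ)))
      Filter.atTop (nhds (∑' i, (θ i : ℝ) * (h' i : ℝ))) := by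
  have hsum' : Summable (fun i => (θ i : ℝ) * (h' i : ℝ)) := by
    refine Summable.of_norm_bounded (g := fun i => |(θ i : ℝ) * (h i : ℝ)|) hsum.abs ?_
    intro i
    rw [Real.norm_eq_abs, abs_mul, abs_mul]
    apply mul_le_mul_of_nonneg_left _ (abs_nonneg _)
    rw [abs_of_nonneg (Nat.cast_nonneg _), abs_of_nonneg (Nat.cast_nonneg _)]
    exact_mod_cast hle i
  have h1 : Filter.Tendsto (fun D : Finset ι => ∑ i ∈ D, (θ i : ℝ) * (h' i : ℝ)) Filter.atTop
      (nhds (∑' i, (θ i : ℝ) * (h' i : ℝ))) := hsum'.hasSum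
  have hS : ∀ D : Finset ι, (∑' i, if i ∈ D then (0 : ℝ) else (θ i : ℝ) * (h i : ℝ)) =
      (∑' i, (θ i : ℝ) * (h i : ℝ)) - ∑ i ∈ D, (θ i : ℝ) * (h i : ℝ) := by
    intro D
    have h2 := hsum.sum_add_tsum_compl (s := D)
    rw [tsum_subtype ((↑D : Set ι)ᶜ) (fun i => (θ i : ℝ) * (h i : ℝ))] at h2
    have h3 : ((↑D : Set ι)ᶜ).indicator (fun i => (θ i : ℝ) * (h i : ℝ)) =
        fun i => if i ∈ D then (0 : ℝ) else (θ i : ℝ) * (h i : ℝ) := by
      funext i
      by_cases hi : i ∈ D <;> simp [hi]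
    rw [h3] at h2
    linarith
  have h2 : Filter.Tendsto (fun D : Finset ι => ∑' i, if i ∈ D then (0 : ℝ) else (θ i : ℝ) * (h i : ℝ))
      Filter.atTop (nhds 0) := by
    simp_rw [hS]
    have := (tendsto_const_nhds (x := ∑' i, (θ i : ℝ) * (h i : ℝ))
      (f := (Filter.atTop : Filter (Finset ι)))).sub hsum.hasSum
    simpa using this
  have hb : ∀ D : Finset ι,
      ‖((∑' i, if i ∈ D then (0 : ℝ) else (θ i : ℝ) * (h i : ℝ)) / ((D \ hfin.toFinset).card : ℝ)) *
        ∑ i ∈ D \ hfin.toFinset, ((h' i : ℝ) / (h i : ℝ))‖ ≤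
      ‖∑' i, if i ∈ D then (0 : ℝ) else (θ i : ℝ) * (h i : ℝ)‖ := by
    intro D
    set S := ∑' i, if i ∈ D then (0 : ℝ) else (θ i : ℝ) * (h i : ℝ)
    set E := D \ hfin.toFinset
    have hnn : 0 ≤ ∑ i ∈ E, ((h' i : ℝ) / (h i : ℝ)) :=
      Finset.sum_nonneg (fun i _ => div_nonneg (Nat.cast_nonneg _) (Nat.cast_nonneg _))
    have hle1 : ∑ i ∈ E, ((h' i : ℝ) / (h i : ℝ)) ≤ (E.card : ℝ) := by
      have := Finset.sum_le_card_nsmul E (fun i => (h' i : ℝ) / (h i : ℝ)) 1
        (fun i _ => div_le_one_of_le₀ (by exact_mod_cast hle i) (Nat.cast_nonneg _))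
      simpa using this
    rw [Real.norm_eq_abs, Real.norm_eq_abs, abs_mul, abs_div, abs_of_nonneg hnn, abs_of_nonneg (Nat.cast_nonneg E.card : (0:ℝ) ≤ (E.card : ℝ))]
    rcases Nat.eq_zero_or_pos E.card with h0 | h0
    · rw [h0]; simp
    · have hpos : (0 : ℝ) < (E.card : ℝ) := by exact_mod_cast h0
      calc |S| / (E.card : ℝ) * ∑ i ∈ E, ((h' i : ℝ) / (h i : ℝ))
          ≤ |S| / (E.card : ℝ) * (E.card : ℝ) :=
            mul_le_mul_of_nonneg_left hle1 (div_nonneg (abs_nonneg _) hpos.le)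
        _ = |S| := by field_simp
  have h3 : Filter.Tendsto (fun D : Finset ι =>
      ((∑' i, if i ∈ D then (0 : ℝ) else (θ i : ℝ) * (h i : ℝ)) / ((D \ hfin.toFinset).card : ℝ)) *
        ∑ i ∈ D \ hfin.toFinset, ((h' i : ℝ) / (h i : ℝ))) Filter.atTop (nhds 0) := by
    apply squeeze_zero_norm hb
    have := h2.norm
    simpa using this
  have := h1.add h3
  simpa using this

end Groth.Agent.S16017
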