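import Groth.Statements.S16018
import Groth.Agent.Lib.Helper9.Misc.Constell

set_option autoImplicit false
universe u v w x
open W4c3ghconstell

namespace Groth.Agent.S16018

/-- Let k be an algebraically closed field of characteristic zero, A a commutative Hopf algebra over k
which is a finitely generated domain and linearly reductive (the coordinate ring of a connected
reductive group G; irreducible representations of G are indexed by the simple subcoalgebras D of A),
R a Noetherian commutative k-algebra with a multiplicative A-coaction (an affine G-scheme X = Spec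
R), and M an R-module with a compatible A-coaction (a G-equivariant quasi-coherent module on X)
which is finite over R, is the sum of its isotypic components M_D, and has dim_k M_D = h(D) < ∞ for
every simple subcoalgebra D. Fix a weight θ from simple subcoalgebras to ℚ, negative at only
finitely many D, with Σ_D θ(D) h(D) = 0 (a convergent real series) and with θ(D) ≠ 0, h(D) ≠ 0 for
some D; the weight of a k-subspace N of M is the real series Σ_D θ(D) · dim_k (N ∩ M_D). Assume
moreover that θ(D) ≠ 0 for every simple subcoalgebra D. If M is θ-semistable, i.e. M has weight 0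
and every R-submodule of M stable under the coaction has weight ≥ 0, then M is generated as an
R-module by its isotypic components M_D with θ(D) < 0 (the generation property of θ-stable objects
thus extends to θ-semistable ones when θ vanishes nowhere). (Multiplicities are recorded as
dimensions of isotypic components, a rescaling of θ.) -/
theorem result (k : Type u) [Field k] [IsAlgClosed k] [CharZero k]
    (A : Type v) [CommRing A] [IsDomain A] [HopfAlgebra k A] [Algebra.FiniteType k A]
    (hred : HopfRep.IsLinearlyReductive k A)
    (R : Type w) [CommRing R] [Algebra k R] [IsNoetherianRing R] [HopfRep.Comod k A R] [GLin.IsCoactAlg k A R]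
    (M : Type x) [AddCommGroup M] [Module k M] [Module R M] [IsScalarTower k R M]
    [HopfRep.Comod k A M] [TameAct.IsHopfMod k A R M]
    (h : W4c3ghconstell.SimpSub k A → ℕ) (θ : W4c3ghconstell.SimpSub k A → ℚ)
    (hfin : {D | θ D < 0}.Finite) (hsum : HasSum (fun D => (θ D : ℝ) * (h D : ℝ)) 0)
    (hne : ∃ D, θ D ≠ 0 ∧ h D ≠ 0)
    (hM : W4c3ghconstell.IsConstellation k A R M h)
    (hθ : ∀ D, θ D ≠ 0)
    (hss : W4c3ghconstell.IsThetaSemistable k A R M θ) :
    W4c3ghconstell.genIn k A R M {D | θ D < 0} ⊤ = ⊤ := by
  classical
  have hfinM := hM.2.2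
  have hsummable := hsum.summable
  by_contra hNtop
  have hsub : HopfRep.IsSubcomod (k := k) (A := A)
      ((W4c3ghconstell.genIn k A R M {D | θ D < 0} ⊤).restrictScalars k) :=
    Groth.Agent.H9.Constell.isSubcomod_genIn k A R M _ ⊤ (by
      rw [Submodule.restrictScalars_top]
      exact Groth.Agent.H9.Comod.isSubcomod_top)
  have hneg : ∀ D, θ D < 0 → W4c3ghconstell.hilbAt M
      ((W4c3ghconstell.genIn k A R M {D | θ D < 0} ⊤).restrictScalars k) D =
      W4c3ghconstell.hilbAt M (⊤ : Submodule k M) D := by
    intro D hD
    unfold W4c3ghconstell.hilbAt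
    rw [Groth.Agent.H9.Constell.genIn_inf_isoComp _ ⊤ (show D ∈ {D | θ D < 0} from hD),
      Submodule.restrictScalars_top]
  have hex : ∃ D₁ : W4c3ghconstell.SimpSub k A, ¬ W4c3ghconstell.isoComp M D₁.1 ≤
      (W4c3ghconstell.genIn k A R M {D | θ D < 0} ⊤).restrictScalars k := by
    by_contra hall
    push_neg at hall
    apply hNtop
    have h1 := Groth.Agent.H9.Constell.eq_top_of_isoComp_le hM.2.1 _ hall
    exact (Submodule.restrictScalars_eq_top_iff k R M).mp h1
  obtain ⟨D₁, hD₁⟩ := hex
  have hθ1 : 0 < θ D₁ := by
    rcases lt_trichotomy (θ D₁) 0 with h1 | h1 | h1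
    · exact absurd (Groth.Agent.H9.Constell.isoComp_le_genIn_top _
        (show D₁ ∈ {D | θ D < 0} from h1)) hD₁
    · exact absurd h1 (hθ D₁)
    · exact h1
  have hlt := Groth.Agent.H9.Constell.theta_lt h θ hfinM hsummable
    (le_top : (W4c3ghconstell.genIn k A R M {D | θ D < 0} ⊤).restrictScalars k ≤ ⊤) hneg D₁ hθ1
    (by
      rw [Groth.Agent.H9.Constell.hilbAt_top h hfinM]
      exact Groth.Agent.H9.Constell.hilbAt_lt h hfinM hD₁)
  rw [Groth.Agent.H9.Constell.theta_top h θ hfinM hsum] at hlt
  have h2 := hss.2 _ hsub
  linarith

end Groth.Agent.S16018
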