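import Groth.Statements.S16030
import Mathlib.Tactic
import Mathlib.RingTheory.Spectrum.Prime.Topology
import Mathlib.RingTheory.Ideal.Operations
-- import your own Groth.Agent.* helpers here

set_option autoImplicit false
universe u
open CAlg

namespace Groth.Agent.S16030

/-- For a finite set F of points of the spectrum of a commutative ring A and an open subset U containing
F, some basic open D(a) contains F and is contained in U. -/
theorem result
    (A : Type u) [CommRing A] (F : Set (PrimeSpectrum A)) (hF : F.Finite)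
    (U : TopologicalSpace.Opens (PrimeSpectrum A)) (hFU : F ⊆ (U : Set (PrimeSpectrum A))) :
    ∃ a : A, F ⊆ (PrimeSpectrum.basicOpen a : Set (PrimeSpectrum A)) ∧ PrimeSpectrum.basicOpen a ≤ U := by
  classical
  -- the ideal of the closed complement of `U`
  set I : Ideal A := PrimeSpectrum.vanishingIdeal (U : Set (PrimeSpectrum A))ᶜ with hI
  have hUc : PrimeSpectrum.zeroLocus (I : Set A) = (U : Set (PrimeSpectrum A))ᶜ := by
    rw [hI, PrimeSpectrum.zeroLocus_vanishingIdeal_eq_closure]
    exact (U.isOpen.isClosed_compl).closure_eq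
  have hnot : ∀ p ∈ hF.toFinset, ¬ I ≤ (p : PrimeSpectrum A).asIdeal := by
    intro p hp hle
    have hpF : p ∈ F := hF.mem_toFinset.1 hp
    have : p ∈ PrimeSpectrum.zeroLocus (I : Set A) := by
      rw [PrimeSpectrum.mem_zeroLocus]; exact hle
    rw [hUc] at this
    exact this (hFU hpF)
  have hav : ¬ ((I : Set A) ⊆ ⋃ p ∈ (↑hF.toFinset : Set (PrimeSpectrum A)), (p.asIdeal : Set A)) := by
    intro hsub
    by_cases hne : hF.toFinset.Nonempty
    · obtain ⟨a, ha⟩ := hne
      obtain ⟨i, hi, hle⟩ := (Ideal.subset_union_prime (s := hF.toFinset)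
        (f := fun p : PrimeSpectrum A => p.asIdeal) a a (fun i _ _ _ => i.isPrime)).1 hsub
      exact hnot i hi hle
    · rw [Finset.not_nonempty_iff_eq_empty] at hne
      rw [hne] at hsub
      have : (0 : A) ∈ (⋃ p ∈ (↑(∅ : Finset (PrimeSpectrum A)) : Set (PrimeSpectrum A)), (p.asIdeal : Set A)) :=
        hsub I.zero_mem
      simp at this
  rw [Set.not_subset] at hav
  obtain ⟨a, haI, hau⟩ := hav
  refine ⟨a, ?_, ?_⟩
  · intro p hp
    rw [SetLike.mem_coe, PrimeSpectrum.mem_basicOpen]
    intro hmem
    apply hau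
    simp only [Set.mem_iUnion]
    exact ⟨p, hF.mem_toFinset.2 hp, hmem⟩
  · intro x hx
    rw [PrimeSpectrum.mem_basicOpen] at hx
    by_contra hxU
    have : x ∈ PrimeSpectrum.zeroLocus (I : Set A) := by rw [hUc]; exact hxU
    rw [PrimeSpectrum.mem_zeroLocus] at this
    exact hx (this haI)

end Groth.Agent.S16030
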