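import Groth.Statements.S16046
import Groth.Agent.Lib.Helper8.ValRing.DenseInt
-- import your own Groth.Agent.* helpers here

set_option autoImplicit false
universe u
open TensorProduct
open ValRing

namespace Groth.Agent.S16046

/-- Surjectivity assertion: let A ⊆ A' be valuation rings with fraction fields K ⊆ K', A' dominating A
and A dense in A' for the valuation topology, and L a finite extension of K; put L' = K' ⊗_K L. Then
every element of L' modulo its nilradical which is integral over A' is a finite sum Σ a'ᵢ·lᵢ with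
a'ᵢ ∈ A' and lᵢ ∈ L integral over A. (The published statement also identifies the kernel of the map
from the tensor product with the nilradical; that part is not stated here.) -/
theorem result
    (A K L A' K' : Type u) [CommRing A] [IsDomain A] [ValuationRing A] [Field K] [Algebra A K] [IsFractionRing A K]
    [Field L] [Algebra K L] [FiniteDimensional K L] [Algebra A L] [IsScalarTower A K L]
    [CommRing A'] [IsDomain A'] [ValuationRing A'] [Field K'] [Algebra A' K'] [IsFractionRing A' K']
    [Algebra A A'] [IsLocalHom (algebraMap A A')] (hinj : Function.Injective (algebraMap A A'))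
    [Algebra K K'] [Algebra A K'] [IsScalarTower A A' K'] [IsScalarTower A K K']
    (hdense : ∀ a' b' : A', b' ≠ 0 → ∃ a : A, b' ∣ a' - algebraMap A A' a)
    (x : (K' ⊗[K] L) ⧸ nilradical (K' ⊗[K] L))
    (hx : ((Ideal.Quotient.mk (nilradical (K' ⊗[K] L))).comp
            ((Algebra.TensorProduct.includeLeft : K' →ₐ[K] K' ⊗[K] L).toRingHom.comp (algebraMap A' K'))).IsIntegralElem x) :
    ∃ (n : ℕ) (a : Fin n → A') (l : Fin n → L), (∀ i, IsIntegral A (l i)) ∧
      x = Ideal.Quotient.mk (nilradical (K' ⊗[K] L)) (∑ i, algebraMap A' K' (a i) ⊗ₜ[K] l i) := by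
  classical
  obtain ⟨t, rfl⟩ := Ideal.Quotient.mk_surjective x
  obtain ⟨y, g, ⟨n, a, l, hl, rfl⟩, ht⟩ := Groth.Agent.H8.ValRingDense.exists_rep A hdense t
  set π := Ideal.Quotient.mk (nilradical (K' ⊗[K] L)) with hπ
  set f := π.comp ((Algebra.TensorProduct.includeLeft : K' →ₐ[K] K' ⊗[K] L).toRingHom.comp
    (algebraMap A' K')) with hf
  -- each 1 ⊗ l i is integral
  have h1l : ∀ i, f.IsIntegralElem (π ((1 : K') ⊗ₜ[K] l i)) := by
    intro i
    obtain ⟨p, hpm, hp⟩ := hl i
    refine ⟨p.map (algebraMap A A'), hpm.map _, ?_⟩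
    rw [Polynomial.eval₂_map]
    have hcomp : f.comp (algebraMap A A') =
        (π.comp (Algebra.TensorProduct.includeRight : L →ₐ[K] K' ⊗[K] L).toRingHom).comp
          (algebraMap A L) := by
      ext c
      simp only [hf, RingHom.comp_apply, AlgHom.toRingHom_eq_coe, RingHom.coe_coe,
        Algebra.TensorProduct.includeLeft_apply, Algebra.TensorProduct.includeRight_apply]
      congr 1
      rw [← Groth.Agent.H8.ValRingDense.algebraMap_comm A K A' K' c,
        IsScalarTower.algebraMap_apply A K L c, Algebra.algebraMap_eq_smul_one (algebraMap A K c),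
        Algebra.algebraMap_eq_smul_one (R := K) (A := L) (algebraMap A K c),
        TensorProduct.smul_tmul]
    rw [hcomp]
    have h2 : π ((1 : K') ⊗ₜ[K] l i) =
        (π.comp (Algebra.TensorProduct.includeRight : L →ₐ[K] K' ⊗[K] L).toRingHom) (l i) := rfl
    rw [h2, ← Polynomial.hom_eval₂, hp, map_zero]
  -- the good part is integral
  have hgood : f.IsIntegralElem (π (∑ i, algebraMap A' K' (a i) ⊗ₜ[K] l i)) := by
    rw [map_sum]
    refine Finset.sum_induction _ f.IsIntegralElem (fun _ _ hx hy => RingHom.IsIntegralElem.add f hx hy)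
      f.isIntegralElem_zero (fun i _ => ?_)
    have h3 : π (algebraMap A' K' (a i) ⊗ₜ[K] l i) = f (a i) * π ((1 : K') ⊗ₜ[K] l i) := by
      rw [hf, RingHom.comp_apply, ← map_mul]
      congr 1
      simp only [RingHom.comp_apply, AlgHom.toRingHom_eq_coe, RingHom.coe_coe,
        Algebra.TensorProduct.includeLeft_apply, Algebra.TensorProduct.tmul_mul_tmul, mul_one, one_mul]
    rw [h3]
    exact RingHom.IsIntegralElem.mul f f.isIntegralElem_map (h1l i)
  -- hence 1 ⊗ y is integral
  have hy1 : f.IsIntegralElem (π ((1 : K') ⊗ₜ[K] y)) := by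
    have h4 : π ((1 : K') ⊗ₜ[K] y) = π t - π (∑ i, algebraMap A' K' (a i) ⊗ₜ[K] l i) := by
      rw [ht, map_add]; ring
    rw [h4]
    exact RingHom.IsIntegralElem.sub f hx hgood
  have hyint : IsIntegral A y := Groth.Agent.H8.ValRingDense.isIntegral_of_isIntegralElem A y hy1
  refine ⟨n + 1, Fin.cons 1 a, Fin.cons y l, ?_, ?_⟩
  · intro i
    refine Fin.cases ?_ (fun j => ?_) i
    · simpa using hyint
    · simpa using hl j
  · rw [ht, Fin.sum_univ_succ]
    simp only [Fin.cons_zero, Fin.cons_succ, map_one]
    rw [add_comm]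

end Groth.Agent.S16046
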