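import Groth.Statements.S16072
-- import your own Groth.Agent.* helpers here

set_option autoImplicit false
universe u
open Hopf

namespace Groth.Agent.S16072

/-- Let p be a prime and R a commutative ring of characteristic p (p = 0 in R, R nonzero). Then the
constant group scheme ℤ/p and the group scheme μ_p of p-th roots of unity over Spec R are not
isomorphic: there is no R-bialgebra isomorphism between the Hopf algebra Maps(ℤ/p, R) of functions
on the cyclic group of order p and the group algebra R[ℤ/p]. (Any nonzero commutative base ring of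
characteristic p is allowed. The published statement allows any ring R with p·R = 0; over the zero
ring both Hopf algebras are the zero ring and hence isomorphic, so R is assumed nonzero here.) -/
theorem result (p : ℕ) [Fact p.Prime] (R : Type u) [CommRing R]
    [CharP R p] :
    IsEmpty (ConstGrp.F R (Multiplicative (ZMod p)) ≃ₐc[R] MonoidAlgebra R (Multiplicative (ZMod p))) := by
  refine ⟨fun e => ?_⟩
  have hp : p.Prime := Fact.out
  have : Nontrivial R := CharP.nontrivial_of_char_ne_one (R := R) (v := p) hp.ne_one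
  obtain ⟨m, hm⟩ := Ideal.exists_maximal R
  let _ : Field (R ⧸ m) := Ideal.Quotient.field m
  have hpk : (p : R ⧸ m) = 0 := by
    rw [← map_natCast (Ideal.Quotient.mk m) p, CharP.cast_eq_zero R p, map_zero]
  have : CharP (R ⧸ m) p := (CharP.charP_iff_prime_eq_zero hp).mpr hpk
  have h1 : ∀ (ψ : MonoidAlgebra R (Multiplicative (ZMod p)) →ₐ[R] (R ⧸ m)) (g : Multiplicative (ZMod p)),
      ψ (MonoidAlgebra.single g 1) = 1 := by
    intro ψ g
    have hgp : g ^ p = 1 := by
      have : (Multiplicative.toAdd g) * (p : ZMod p) = 0 := by simp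
      apply Multiplicative.toAdd.injective
      rw [toAdd_pow, toAdd_one, nsmul_eq_mul, mul_comm]
      exact this
    have h2 : (ψ (MonoidAlgebra.single g 1)) ^ p = 1 := by
      rw [← map_pow, MonoidAlgebra.single_pow, hgp, one_pow]
      exact map_one ψ
    have h3 : (ψ (MonoidAlgebra.single g 1) - 1) ^ p = 0 := by
      rw [sub_pow_char, h2, one_pow, sub_self]
    exact sub_eq_zero.mp ((pow_eq_zero_iff hp.ne_zero).mp h3)
  have huniq : ∀ ψ ψ' : MonoidAlgebra R (Multiplicative (ZMod p)) →ₐ[R] (R ⧸ m), ψ = ψ' := by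
    intro ψ ψ'
    refine MonoidAlgebra.algHom_ext (fun g => by rw [h1, h1]) ?_
    exact Subsingleton.elim _ _
  have hab : (Multiplicative.ofAdd (0 : ZMod p)) ≠ Multiplicative.ofAdd (1 : ZMod p) := by
    intro h
    have := Multiplicative.ofAdd.injective h
    exact zero_ne_one this
  have key := huniq
    (((Ideal.Quotient.mkₐ R m).comp (ConstGrp.ev R (Multiplicative.ofAdd (0 : ZMod p)))).comp
      ((e.symm : MonoidAlgebra R (Multiplicative (ZMod p)) ≃ₐ[R] ConstGrp.F R (Multiplicative (ZMod p))) :
        MonoidAlgebra R (Multiplicative (ZMod p)) →ₐ[R] ConstGrp.F R (Multiplicative (ZMod p))))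
    (((Ideal.Quotient.mkₐ R m).comp (ConstGrp.ev R (Multiplicative.ofAdd (1 : ZMod p)))).comp
      ((e.symm : MonoidAlgebra R (Multiplicative (ZMod p)) ≃ₐ[R] ConstGrp.F R (Multiplicative (ZMod p))) :
        MonoidAlgebra R (Multiplicative (ZMod p)) →ₐ[R] ConstGrp.F R (Multiplicative (ZMod p))))
  have h3 := congrArg (fun ψ : MonoidAlgebra R (Multiplicative (ZMod p)) →ₐ[R] (R ⧸ m) =>
    ψ (e (ConstGrp.e R (Multiplicative.ofAdd (0 : ZMod p))))) key
  simp only [AlgHom.comp_apply, AlgEquiv.coe_toAlgHom, BialgEquiv.coe_toAlgEquiv] at h3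
  rw [BialgEquiv.symm_apply_apply] at h3
  simp only [ConstGrp.ev_apply, ConstGrp.e_apply_self, Ideal.Quotient.mkₐ_eq_mk, map_one] at h3
  rw [ConstGrp.e_apply_of_ne hab.symm, map_zero] at h3
  exact one_ne_zero h3

end Groth.Agent.S16072
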