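import Groth.Statements.S16073
-- import your own Groth.Agent.* helpers here

set_option autoImplicit false
universe u
open Hopf

namespace Groth.Agent.S16073

/-- Let p be a prime and R a commutative ring of characteristic p (p = 0 in R, R nonzero). Then the
constant group scheme ℤ/p and α_p over Spec R are not isomorphic: there is no R-bialgebra
isomorphism between the Hopf algebra Maps(ℤ/p, R) of functions on the cyclic group of order p and
the Hopf algebra R[X]/(X^p) of α_p (X primitive). (Any nonzero commutative base ring of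
characteristic p is allowed. The published statement allows any ring R with p·R = 0; over the zero
ring both Hopf algebras are the zero ring and hence isomorphic, so R is assumed nonzero here.) -/
theorem result (p : ℕ) [Fact p.Prime] (R : Type u) [CommRing R] [CharP R p] :
    IsEmpty (ConstGrp.F R (Multiplicative (ZMod p)) ≃ₐc[R] AlphaP.A p R) := by
  refine ⟨fun e => ?_⟩
  have hp : p.Prime := Fact.out
  have : Nontrivial R := CharP.nontrivial_of_char_ne_one (R := R) (v := p) hp.ne_one
  obtain ⟨m, hm⟩ := Ideal.exists_maximal R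
  let _ : Field (R ⧸ m) := Ideal.Quotient.field m
  have huniq : ∀ ψ ψ' : AlphaP.A p R →ₐ[R] (R ⧸ m), ψ = ψ' := by
    have h1 : ∀ ψ : AlphaP.A p R →ₐ[R] (R ⧸ m), ψ (AlphaP.x p R) = 0 := by
      intro ψ
      have h2 : (ψ (AlphaP.x p R)) ^ p = 0 := by
        rw [← map_pow, AlphaP.x_pow, map_zero]
      exact (pow_eq_zero_iff hp.ne_zero).mp h2
    intro ψ ψ'
    apply AlphaP.algHom_ext
    rw [h1, h1]
  have hab : (Multiplicative.ofAdd (0 : ZMod p)) ≠ Multiplicative.ofAdd (1 : ZMod p) := by
    intro h
    have := Multiplicative.ofAdd.injective h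
    exact zero_ne_one this
  have key := huniq
    (((Ideal.Quotient.mkₐ R m).comp (ConstGrp.ev R (Multiplicative.ofAdd (0 : ZMod p)))).comp
      ((e.symm : AlphaP.A p R ≃ₐ[R] ConstGrp.F R (Multiplicative (ZMod p))) :
        AlphaP.A p R →ₐ[R] ConstGrp.F R (Multiplicative (ZMod p))))
    (((Ideal.Quotient.mkₐ R m).comp (ConstGrp.ev R (Multiplicative.ofAdd (1 : ZMod p)))).comp
      ((e.symm : AlphaP.A p R ≃ₐ[R] ConstGrp.F R (Multiplicative (ZMod p))) :
        AlphaP.A p R →ₐ[R] ConstGrp.F R (Multiplicative (ZMod p))))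
  have h3 := congrArg (fun ψ : AlphaP.A p R →ₐ[R] (R ⧸ m) =>
    ψ (e (ConstGrp.e R (Multiplicative.ofAdd (0 : ZMod p))))) key
  simp only [AlgHom.comp_apply, AlgEquiv.coe_toAlgHom, BialgEquiv.coe_toAlgEquiv] at h3
  rw [BialgEquiv.symm_apply_apply] at h3
  simp only [ConstGrp.ev_apply, ConstGrp.e_apply_self, Ideal.Quotient.mkₐ_eq_mk, map_one] at h3
  rw [ConstGrp.e_apply_of_ne hab.symm, map_zero] at h3
  exact one_ne_zero h3

end Groth.Agent.S16073
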