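import Groth.Statements.S16074
-- import your own Groth.Agent.* helpers here

set_option autoImplicit false
universe u
open Hopf

namespace Groth.Agent.S16074

open scoped TensorProduct

/-- evaluation functional on the group algebra -/
noncomputable def evg (R : Type u) [CommRing R] (G : Type) (g : G) : MonoidAlgebra R G →ₗ[R] R :=
  (Finsupp.lapply g) ∘ₗ (MonoidAlgebra.coeffLinearEquiv R).toLinearMap

theorem evg_single (R : Type u) [CommRing R] (G : Type) [DecidableEq G] (g h : G) (r : R) :
    evg R G g (MonoidAlgebra.single h r) = if h = g then r else 0 := by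
  simp [evg, MonoidAlgebra.coeffLinearEquiv, Finsupp.single_apply]

theorem prim_zero (R : Type u) [CommRing R] (G : Type) [Group G] [DecidableEq G] (a : MonoidAlgebra R G)
    (ha : Coalgebra.comul (R := R) a = a ⊗ₜ[R] 1 + 1 ⊗ₜ[R] a) : a = 0 := by
  have h1 : ∀ (g : G) (b : MonoidAlgebra R G),
      LinearMap.mul' R R (TensorProduct.map (evg R G g) (evg R G g) (Coalgebra.comul (R := R) b)) = evg R G g b := by
    intro g b
    induction b using MonoidAlgebra.induction_linear with
    | zero => simp
    | add b b' hb hb' => simp only [map_add, hb, hb']
    | single h r =>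
      rw [MonoidAlgebra.comul_single]
      simp only [CommSemiring.comul_apply, TensorProduct.map_tmul, MonoidAlgebra.lsingle_apply,
        LinearMap.mul'_apply, evg_single]
      split_ifs <;> simp
  have h2 : ∀ g : G, evg R G g a = 0 := by
    intro g
    have := h1 g a
    rw [ha, map_add, map_add, TensorProduct.map_tmul, TensorProduct.map_tmul, LinearMap.mul'_apply,
      LinearMap.mul'_apply, MonoidAlgebra.one_def, evg_single] at this
    by_cases hg : (1 : G) = g
    · rw [if_pos hg] at this
      linear_combination this
    · rw [if_neg hg] at this
      simpa using this.symm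
  apply MonoidAlgebra.coeff_injective
  ext g
  exact h2 g


/-- Let p be a prime and R a commutative ring of characteristic p (p = 0 in R, R nonzero). Then μ_p and
α_p over Spec R are not isomorphic: there is no R-bialgebra isomorphism between the group algebra
R[ℤ/p] of the cyclic group of order p (group elements group-like) and the Hopf algebra R[X]/(X^p) of
α_p (X primitive), although the underlying R-algebras R[ℤ/p] = R[Y]/(Y^p) and R[X]/(X^p) are
isomorphic. (Any nonzero commutative base ring of characteristic p is allowed. The published
statement allows any ring R with p·R = 0; over the zero ring both Hopf algebras are the zero ring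
and hence isomorphic, so R is assumed nonzero here.) -/
theorem result (p : ℕ) [Fact p.Prime] (R : Type u) [CommRing R] [CharP R p] :
    IsEmpty (MonoidAlgebra R (Multiplicative (ZMod p)) ≃ₐc[R] AlphaP.A p R) := by
  refine ⟨fun e => ?_⟩
  have hp : p.Prime := Fact.out
  have : Nontrivial R := CharP.nontrivial_of_char_ne_one (R := R) (v := p) hp.ne_one
  have hx : Coalgebra.comul (R := R) (e.symm (AlphaP.x p R)) =
      (e.symm (AlphaP.x p R)) ⊗ₜ[R] 1 + 1 ⊗ₜ[R] (e.symm (AlphaP.x p R)) := by
    have := CoalgHomClass.map_comp_comul_apply e.symm (AlphaP.x p R)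
    rw [← this, AlphaP.comul_x, map_add, TensorProduct.map_tmul, TensorProduct.map_tmul]
    simp
  have h0 := prim_zero R (Multiplicative (ZMod p)) _ hx
  have hx0 : AlphaP.x p R = 0 := by
    have := congrArg e h0
    simpa using this
  have hb := (AlphaP.basis p R).ne_zero ⟨1, hp.one_lt⟩
  rw [AlphaP.basis_apply] at hb
  apply hb
  simp [hx0]

end Groth.Agent.S16074
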