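import Groth.Statements.S16075
import Groth.Agent.Lib.Helper8.AlphaPDual
-- import your own Groth.Agent.* helpers here

set_option autoImplicit false
universe u
open Hopf

namespace Groth.Agent.S16075

open scoped TensorProduct
open Groth.Agent.H8.AlphaPDual

/-- Let p be a prime, T a commutative ring of characteristic p (p = 0 in T, T nonzero) and A =
T[X]/(X^p) the Hopf algebra of α_p over Spec T, with X primitive. Then the endomorphisms of the
T-group α_{p,T} are exactly the scalings: every T-bialgebra endomorphism f of A has f(X) = λ·X for a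
unique λ ∈ T, and for every λ ∈ T there is a T-bialgebra endomorphism f of A with f(X) = λ·X. So the
endomorphisms of α_{p,T} correspond bijectively to the elements of T. (Only this bijection is
stated; that it turns addition and composition of endomorphisms into addition and multiplication in
T, and its naturality in T, are not stated here. The zero ring, allowed as T in the published
statement, is excluded by the characteristic hypothesis here.) -/
theorem result (p : ℕ) [Fact p.Prime] (T : Type u) [CommRing T] [CharP T p] :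
    (∀ f : AlphaP.A p T →ₐc[T] AlphaP.A p T, ∃! c : T, f (AlphaP.x p T) = c • AlphaP.x p T) ∧
      (∀ c : T, ∃ f : AlphaP.A p T →ₐc[T] AlphaP.A p T, f (AlphaP.x p T) = c • AlphaP.x p T) := by
  have hnt := nontriv p T
  have hpp : p.Prime := Fact.out
  refine ⟨fun f => ?_, fun c => ?_⟩
  · have hprim : Coalgebra.comul (R := T) (f (AlphaP.x p T)) =
        f (AlphaP.x p T) ⊗ₜ[T] 1 + 1 ⊗ₜ[T] f (AlphaP.x p T) := by
      have h := congrArg (fun g => g (AlphaP.x p T)) (CoalgHomClass.map_comp_comul f)
      simp only [LinearMap.comp_apply] at h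
      rw [AlphaP.comul_x, map_add, TensorProduct.map_tmul, TensorProduct.map_tmul] at h
      simpa using h.symm
    have hcounit : Coalgebra.counit (R := T) (f (AlphaP.x p T)) = 0 := by
      rw [CoalgHomClass.counit_comp_apply, AlphaP.counit_x]
    have hconv : ∀ φ ψ : CartDual.D T (AlphaP.A p T),
        (φ * ψ) (f (AlphaP.x p T)) = φ (f (AlphaP.x p T)) * ψ 1 + φ 1 * ψ (f (AlphaP.x p T)) := by
      intro φ ψ
      rw [LinearMap.convMul_apply, hprim, map_add, map_add, TensorProduct.map_tmul, TensorProduct.map_tmul,
        LinearMap.mul'_apply, LinearMap.mul'_apply]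
    have hy : ∀ m, 2 ≤ m → m < p → ((y p T)^m) (f (AlphaP.x p T)) = 0 := by
      intro m hm2 hmp
      obtain ⟨n, rfl⟩ : ∃ n, m = n + 1 := ⟨m - 1, by omega⟩
      rw [pow_succ', hconv, y_one, zero_mul, add_zero]
      have := y_pow_apply p T n 0 hpp.pos
      rw [pow_zero] at this
      rw [this, if_neg (by omega), mul_zero]
    have hc : ∀ i : Fin p, (i : ℕ) ≠ 1 → (AlphaP.basis p T).repr (f (AlphaP.x p T)) i = 0 := by
      intro i hi
      rcases Nat.lt_or_ge (i:ℕ) 2 with h2 | h2
      · have h0 : (i : ℕ) = 0 := by omega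
        have := y_pow_apply_eq p T 0 hpp.pos (f (AlphaP.x p T))
        rw [pow_zero, LinearMap.convOne_apply, hcounit, Nat.factorial_zero, Nat.cast_one, one_mul] at this
        have hi0 : i = ⟨0, hpp.pos⟩ := Fin.ext h0
        rw [hi0]
        simpa using this.symm
      · have := y_pow_apply_eq p T i i.2 (f (AlphaP.x p T))
        rw [hy i h2 i.2] at this
        have hu : IsUnit ((i:ℕ).factorial : T) := (IsUnit.natCast_factorial_iff_of_charP p).2 i.2
        exact (hu.mul_right_eq_zero.mp this.symm)
    have hx1 : AlphaP.x p T = AlphaP.basis p T ⟨1, hpp.one_lt⟩ := by rw [AlphaP.basis_apply, pow_one]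
    have hrx : (AlphaP.basis p T).repr (AlphaP.x p T) = Finsupp.single ⟨1, hpp.one_lt⟩ 1 := by
      rw [hx1]; exact Module.Basis.repr_self _ _
    refine ⟨(AlphaP.basis p T).repr (f (AlphaP.x p T)) ⟨1, hpp.one_lt⟩, ?_, ?_⟩
    · apply (AlphaP.basis p T).ext_elem
      intro i
      rw [map_smul, hrx, Finsupp.smul_apply, Finsupp.single_apply, smul_eq_mul]
      by_cases h : (i:ℕ) = 1
      · have h' : (⟨1, hpp.one_lt⟩ : Fin p) = i := Fin.ext h.symm
        rw [if_pos h', mul_one, h']
      · rw [if_neg (fun h' => h (congrArg Fin.val h').symm), mul_zero]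
        exact hc i h
    · intro c' hc'
      rw [hc', map_smul, hrx, Finsupp.smul_apply, Finsupp.single_apply, if_pos rfl, smul_eq_mul, mul_one]
  · have hpow : (c • AlphaP.x p T) ^ p = 0 := by rw [smul_pow, AlphaP.x_pow, smul_zero]
    refine ⟨BialgHom.ofAlgHom (AlphaP.lift p T (c • AlphaP.x p T) hpow) ?_ ?_, ?_⟩
    · apply AlphaP.algHom_ext
      rw [AlgHom.comp_apply, AlphaP.lift_x]
      simp
    · apply AlphaP.algHom_ext
      rw [AlgHom.comp_apply, AlgHom.comp_apply, AlphaP.lift_x]
      simp [TensorProduct.smul_tmul', TensorProduct.tmul_smul, smul_add]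
    · exact AlphaP.lift_x (p := p) (R := T) _ hpow

end Groth.Agent.S16075
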