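import Groth.Statements.S1609
import Groth.Agent.Lib.Helper1.GeomFiber

set_option autoImplicit false
universe u
open CategoryTheory CategoryTheory.Limits AlgebraicGeometry
open Variety

namespace Groth.Agent.S1609


/-- Geometric irreducibility of a k-scheme can be checked after an arbitrary extension of the base
field. -/
theorem result (k : Type u) [Field k] (X : Scheme.{u}) [X.Over (Spec (CommRingCat.of k))] (k' : Type u) [Field k'] [Algebra k k']
    [GeometricallyIrreducible (Curv2.bcSnd k X k')] : GeometricallyIrreducible (X ↘ (Spec (CommRingCat.of k))) := by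
  have h2 : GeometricallyIrreducible (Curv2.bcSnd k X k') := inferInstance
  rw [GeometricallyIrreducible.eq_geometrically] at h2 ⊢
  exact Groth.Agent.H1.GeomFiber.geometrically_of_field_ext _
    Groth.Agent.H1.GeomFiber.descFlatSurj_irreducibleSpace (CommRingCat.ofHom (algebraMap k k'))
    (X ↘ (Spec (CommRingCat.of k)))
    (Curv2.bcSnd k X k') (Curv2.bcFst k X k') (IsPullback.of_hasPullback _ _) h2

end Groth.Agent.S1609
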