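import Groth.Statements.S16104
import Mathlib
-- import your own Groth.Agent.* helpers here

set_option autoImplicit false
universe u v
open LunaSt

namespace Groth.Agent.S16104

/-- Case of local rings. Let φ : A → B be a local homomorphism of Noetherian local rings whose composite
A → B/m_B² is surjective (the first infinitesimal neighbourhoods give a closed immersion), and
assume that A/m_A^(n+1) and B/m_B^(n+1) have the same length for every n (the associated graded
modules of the two maximal ideals have pieces of the same dimension over the common residue field).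
Then for every n the composite A → B/m_B^(n+1) is surjective with kernel m_A^(n+1): φ identifies all
infinitesimal neighbourhoods. (The published statement is for a pointed morphism of Noetherian local
algebraic stacks; its proof reduces to this case of local rings.) -/
theorem result
    (A : Type u) (B : Type v) [CommRing A] [CommRing B] [IsLocalRing A] [IsLocalRing B]
    [IsNoetherianRing A] [IsNoetherianRing B] (φ : A →+* B) [IsLocalHom φ]
    (h1 : Function.Surjective ((Ideal.Quotient.mk (IsLocalRing.maximalIdeal B ^ 2)).comp φ))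
    (hlen : ∀ n : ℕ, Module.length A (A ⧸ IsLocalRing.maximalIdeal A ^ (n + 1)) =
      Module.length B (B ⧸ IsLocalRing.maximalIdeal B ^ (n + 1))) (n : ℕ) :
    Function.Surjective ((Ideal.Quotient.mk (IsLocalRing.maximalIdeal B ^ (n + 1))).comp φ) ∧
      RingHom.ker ((Ideal.Quotient.mk (IsLocalRing.maximalIdeal B ^ (n + 1))).comp φ) =
        IsLocalRing.maximalIdeal A ^ (n + 1) := by
  have hmap_le : Ideal.map φ (IsLocalRing.maximalIdeal A) ≤ IsLocalRing.maximalIdeal B := by
    rw [Ideal.map_le_iff_le_comap]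
    intro a ha
    rw [Ideal.mem_comap, IsLocalRing.mem_maximalIdeal, mem_nonunits_iff]
    intro hu
    exact (IsLocalRing.mem_maximalIdeal a).1 ha (isUnit_of_map_unit φ a hu)
  have h1' : ∀ b : B, ∃ a : A, φ a - b ∈ IsLocalRing.maximalIdeal B ^ 2 := by
    intro b
    obtain ⟨a, ha⟩ := h1 (Ideal.Quotient.mk _ b)
    refine ⟨a, ?_⟩
    rw [RingHom.comp_apply] at ha
    exact Ideal.Quotient.eq.mp ha
  have h0 : ∀ b : B, ∃ a : A, φ a - b ∈ IsLocalRing.maximalIdeal B := by
    intro b
    obtain ⟨a, ha⟩ := h1' b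
    exact ⟨a, Ideal.pow_le_self two_ne_zero ha⟩
  have hle : IsLocalRing.maximalIdeal B ≤ Ideal.map φ (IsLocalRing.maximalIdeal A) := by
    apply Submodule.le_of_le_smul_of_le_jacobson_bot (I := IsLocalRing.maximalIdeal B)
      (IsNoetherian.noetherian _) (IsLocalRing.maximalIdeal_le_jacobson _)
    intro b hb
    obtain ⟨a, ha⟩ := h1' b
    have hφa : φ a ∈ IsLocalRing.maximalIdeal B := by
      have : φ a = b + (φ a - b) := by ring
      rw [this]
      exact add_mem hb (Ideal.pow_le_self two_ne_zero ha)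
    have haA : a ∈ IsLocalRing.maximalIdeal A := by
      rw [IsLocalRing.mem_maximalIdeal, mem_nonunits_iff]
      intro hu
      exact (IsLocalRing.mem_maximalIdeal _).1 hφa (hu.map φ)
    have : b = φ a - (φ a - b) := by ring
    rw [this]
    apply Submodule.sub_mem
    · exact Submodule.mem_sup_left (Ideal.mem_map_of_mem φ haA)
    · apply Submodule.mem_sup_right
      rw [smul_eq_mul, ← pow_two]; exact ha
  have hmap : Ideal.map φ (IsLocalRing.maximalIdeal A) = IsLocalRing.maximalIdeal B :=
    le_antisymm hmap_le hle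
  have hsurj : ∀ k : ℕ, ∀ b : B, ∃ a : A, φ a - b ∈ IsLocalRing.maximalIdeal B ^ (k + 1) := by
    intro k
    induction k with
    | zero => intro b; obtain ⟨a, ha⟩ := h0 b; exact ⟨a, by simpa using ha⟩
    | succ k ih =>
      intro b
      obtain ⟨a, ha⟩ := ih b
      have hc : φ a - b ∈ Ideal.map φ (IsLocalRing.maximalIdeal A ^ (k+1)) := by
        rw [Ideal.map_pow, hmap]; exact ha
      have key : ∀ c ∈ Ideal.map φ (IsLocalRing.maximalIdeal A ^ (k+1)),
          c ∈ IsLocalRing.maximalIdeal B ^ (k+1) ∧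
            ∃ a' : A, φ a' - c ∈ IsLocalRing.maximalIdeal B ^ (k + 1 + 1) := by
        intro c hc
        refine Submodule.span_induction ?_ ?_ ?_ ?_ hc
        · rintro _ ⟨x, hx, rfl⟩
          refine ⟨?_, x, by simp⟩
          have := Ideal.mem_map_of_mem φ hx
          rw [Ideal.map_pow, hmap] at this; exact this
        · exact ⟨zero_mem _, 0, by simp⟩
        · rintro c c' _ _ ⟨h1c, a1, ha1⟩ ⟨h2c, a2, ha2⟩
          refine ⟨add_mem h1c h2c, a1 + a2, ?_⟩
          have : φ (a1 + a2) - (c + c') = (φ a1 - c) + (φ a2 - c') := by rw [map_add]; ring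
          rw [this]; exact add_mem ha1 ha2
        · rintro b' c _ ⟨h1c, a1, ha1⟩
          obtain ⟨a0, ha0⟩ := h0 b'
          refine ⟨Ideal.mul_mem_left _ _ h1c, a0 * a1, ?_⟩
          have : φ (a0 * a1) - b' • c = φ a0 * (φ a1 - c) + (φ a0 - b') * c := by
            rw [map_mul, smul_eq_mul]; ring
          rw [this]
          apply add_mem
          · exact Ideal.mul_mem_left _ _ ha1
          · have := Ideal.mul_mem_mul ha0 h1c
            rwa [← pow_succ'] at this
      obtain ⟨_, a', ha'⟩ := key _ hc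
      refine ⟨a - a', ?_⟩
      have : φ (a - a') - b = -(φ a' - (φ a - b)) := by rw [map_sub]; ring
      rw [this]
      exact neg_mem ha'
  -- surjectivity
  have hψ : Function.Surjective ((Ideal.Quotient.mk (IsLocalRing.maximalIdeal B ^ (n + 1))).comp φ) := by
    intro y
    obtain ⟨b, rfl⟩ := Ideal.Quotient.mk_surjective y
    obtain ⟨a, ha⟩ := hsurj n b
    exact ⟨a, Ideal.Quotient.eq.mpr ha⟩
  refine ⟨hψ, ?_⟩
  have hker : RingHom.ker ((Ideal.Quotient.mk (IsLocalRing.maximalIdeal B ^ (n + 1))).comp φ) =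
      Ideal.comap φ (IsLocalRing.maximalIdeal B ^ (n + 1)) := by
    rw [← RingHom.comap_ker, Ideal.mk_ker]
  have hge : IsLocalRing.maximalIdeal A ^ (n + 1) ≤
      RingHom.ker ((Ideal.Quotient.mk (IsLocalRing.maximalIdeal B ^ (n + 1))).comp φ) := by
    rw [hker, ← Ideal.map_le_iff_le_comap, Ideal.map_pow, hmap]
  apply le_antisymm _ hge
  -- the length argument
  letI algAQ : Algebra A (B ⧸ IsLocalRing.maximalIdeal B ^ (n + 1)) :=
    ((Ideal.Quotient.mk (IsLocalRing.maximalIdeal B ^ (n + 1))).comp φ).toAlgebra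
  have hlenA : Module.length A (B ⧸ IsLocalRing.maximalIdeal B ^ (n + 1)) =
      Module.length (B ⧸ IsLocalRing.maximalIdeal B ^ (n + 1)) (B ⧸ IsLocalRing.maximalIdeal B ^ (n + 1)) :=
    Module.length_eq_of_surjective hψ
  have hlenB : Module.length B (B ⧸ IsLocalRing.maximalIdeal B ^ (n + 1)) =
      Module.length (B ⧸ IsLocalRing.maximalIdeal B ^ (n + 1)) (B ⧸ IsLocalRing.maximalIdeal B ^ (n + 1)) :=
    Module.length_eq_of_surjective Ideal.Quotient.mk_surjective
  -- finiteness of length of A/m^(n+1)
  have hfin : Module.length A (A ⧸ IsLocalRing.maximalIdeal A ^ (n + 1)) ≠ ⊤ := by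
    have hI : IsLocalRing.maximalIdeal A ^ (n + 1) ≠ ⊤ := by
      intro h
      have : IsLocalRing.maximalIdeal A = ⊤ := by
        rw [eq_top_iff, ← h]; exact Ideal.pow_le_self (Nat.succ_ne_zero n)
      exact (IsLocalRing.maximalIdeal.isMaximal A).ne_top this
    have : Nontrivial (A ⧸ IsLocalRing.maximalIdeal A ^ (n + 1)) := Ideal.Quotient.nontrivial_iff.mpr hI
    have := IsLocalRing.of_surjective' (Ideal.Quotient.mk (IsLocalRing.maximalIdeal A ^ (n + 1)))
      Ideal.Quotient.mk_surjective
    have hmax : (IsLocalRing.maximalIdeal A).map (Ideal.Quotient.mk (IsLocalRing.maximalIdeal A ^ (n + 1))) =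
        IsLocalRing.maximalIdeal (A ⧸ IsLocalRing.maximalIdeal A ^ (n + 1)) := by
      have := IsLocalHom.of_surjective (Ideal.Quotient.mk (IsLocalRing.maximalIdeal A ^ (n + 1)))
        Ideal.Quotient.mk_surjective
      ext x
      obtain ⟨x, rfl⟩ := Ideal.Quotient.mk_surjective x
      simp [sup_eq_left.mpr (IsLocalRing.le_maximalIdeal hI)]
    have hart : IsArtinianRing (A ⧸ IsLocalRing.maximalIdeal A ^ (n + 1)) := by
      rw [isArtinianRing_iff_isNilpotent_maximalIdeal]
      refine ⟨n + 1, ?_⟩
      rw [← hmax, ← Ideal.map_pow, Ideal.zero_eq_bot, Ideal.map_eq_bot_iff_le_ker, Ideal.mk_ker]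
    have h1 : Module.length A (A ⧸ IsLocalRing.maximalIdeal A ^ (n + 1)) =
        Module.length (A ⧸ IsLocalRing.maximalIdeal A ^ (n + 1)) (A ⧸ IsLocalRing.maximalIdeal A ^ (n + 1)) :=
      Module.length_eq_of_surjective Ideal.Quotient.mk_surjective
    rw [h1]
    exact Module.length_ne_top
  -- the linear map g
  let g : (A ⧸ IsLocalRing.maximalIdeal A ^ (n + 1)) →ₗ[A] (B ⧸ IsLocalRing.maximalIdeal B ^ (n + 1)) :=
    Submodule.liftQ (IsLocalRing.maximalIdeal A ^ (n + 1))
      (Algebra.linearMap A (B ⧸ IsLocalRing.maximalIdeal B ^ (n + 1)))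
      (by
        intro a ha
        exact hge ha)
  have hg_mk : ∀ a : A, g (Ideal.Quotient.mk _ a) =
      (Ideal.Quotient.mk (IsLocalRing.maximalIdeal B ^ (n + 1))) (φ a) := fun a => rfl
  have hg : Function.Surjective g := by
    intro y
    obtain ⟨a, ha⟩ := hψ y
    exact ⟨Ideal.Quotient.mk _ a, ha⟩
  have hadd := Module.length_eq_add_of_exact (LinearMap.ker g).subtype g (Submodule.subtype_injective _) hg
    (LinearMap.exact_subtype_ker_map g)
  rw [hlenA, ← hlenB, ← hlen n] at hadd
  have hzero : Module.length A (LinearMap.ker g) = 0 := by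
    by_contra hne
    have hpos : 0 < Module.length A (LinearMap.ker g) := pos_iff_ne_zero.mpr hne
    have := ENat.add_lt_add_iff_right hfin |>.mpr hpos
    rw [zero_add, ← hadd] at this
    exact lt_irrefl _ this
  rw [Module.length_eq_zero_iff] at hzero
  intro a ha
  have hga : g (Ideal.Quotient.mk _ a) = 0 := by
    rw [hg_mk]; exact ha
  have : (⟨Ideal.Quotient.mk _ a, hga⟩ : LinearMap.ker g) = 0 := Subsingleton.elim _ _
  have h2 : Ideal.Quotient.mk (IsLocalRing.maximalIdeal A ^ (n + 1)) a = 0 := congrArg Subtype.val this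
  exact Ideal.Quotient.eq_zero_iff_mem.mp h2

end Groth.Agent.S16104
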