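import Groth.Statements.S16158
import Groth.Agent.Lib.Helper8.UDim
-- import your own Groth.Agent.* helpers here

set_option autoImplicit false
universe u v w
open MadRed

namespace Groth.Agent.S16158

/-- Let R be a commutative Noetherian ring and M a finitely generated R-module. Then there is a natural
number n such that in every decomposition of M as an internal direct sum of a family of submodules,
at most n of the summands are nonzero (the nonzero summands are indexed by a finite set of size at
most n). -/
theorem result (R : Type u) [CommRing R] [IsNoetherianRing R]
    (M : Type v) [AddCommGroup M] [Module R M] [Module.Finite R M] :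
    ∃ n : ℕ, ∀ (ι : Type w) [DecidableEq ι] (N : ι → Submodule R M), DirectSum.IsInternal N →
      ∃ s : Finset ι, s.card ≤ n ∧ ∀ i, N i ≠ ⊥ → i ∈ s := by
  obtain ⟨n, hn⟩ := Groth.Agent.H8.UDim.main.{u, v, w} R M
  exact ⟨n, fun ι _ N hN => hn ι N hN.submodule_iSupIndep⟩

end Groth.Agent.S16158
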