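import Groth.Statements.S16161
import Mathlib
-- import your own Groth.Agent.* helpers here

set_option autoImplicit false
universe u v
open MadRed

namespace Groth.Agent.S16161

open Polynomial in
theorem ker_aeval_prod_le {K : Type*} [Field K] {V : Type*} [AddCommGroup V] [Module K V]
    (g : Module.End K V) (s : Finset K) :
    LinearMap.ker (aeval g (∏ ζ ∈ s, (X - C ζ))) ≤ ⨆ μ : K, Module.End.eigenspace g μ := by
  classical
  induction s using Finset.induction_on with
  | empty =>
    simp only [Finset.prod_empty, map_one]
    intro x hx
    have : x = 0 := hx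
    rw [this]
    exact Submodule.zero_mem _
  | insert ζ₀ s hζ₀ ih =>
    rw [Finset.prod_insert hζ₀]
    have hcop : IsCoprime (X - C ζ₀) (∏ ζ ∈ s, (X - C ζ)) := by
      apply IsCoprime.prod_right
      intro ζ hζ
      apply Polynomial.isCoprime_X_sub_C_of_isUnit_sub
      apply IsUnit.mk0
      intro h0
      apply hζ₀
      rw [sub_eq_zero.mp h0]
      exact hζ
    rw [← Polynomial.sup_ker_aeval_eq_ker_aeval_mul_of_coprime g hcop]
    apply sup_le _ ih
    have : LinearMap.ker (aeval g (X - C ζ₀)) = Module.End.eigenspace g ζ₀ := by
      rw [Module.End.eigenspace_def]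
      congr 1
      simp [Algebra.algebraMap_eq_smul_one]
    rw [this]
    exact le_iSup (fun μ => Module.End.eigenspace g μ) ζ₀

/-- Let k be an algebraically closed field of characteristic zero and R a reduced finitely generated
commutative k-algebra whose spectrum is connected (R has no idempotents besides 0 and 1); let W =
R^n be a free R-module of finite rank and g an R-linear endomorphism of W of finite order, g^m = 1
with m > 0 (an element of finite order of GL(W)(R)). Then the action of g on W is diagonalizable
over k: viewing g as a k-linear map, its eigenspaces for eigenvalues in k span W. The source also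
assumes that g is diagonalizable over k on every fibre W ⊗ k(x), x a point of Spec R; for g of
finite order this holds automatically (k is algebraically closed of characteristic zero), as the
source itself notes, so that hypothesis is omitted. -/
theorem result
    (k : Type u) [Field k] [IsAlgClosed k] [CharZero k]
    (R : Type v) [CommRing R] [Algebra k R] [IsReduced R] [Algebra.FiniteType k R]
    (hconn : ∀ e : R, IsIdempotentElem e → e = 0 ∨ e = 1)
    (n : ℕ) (g : Module.End R (Fin n → R)) (m : ℕ) (hm : 0 < m) (hg : g ^ m = 1) :
    ⨆ μ : k, Module.End.eigenspace (g.restrictScalars k) μ = ⊤ := by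
  have hmk : NeZero (m : k) := ⟨by exact_mod_cast hm.ne'⟩
  obtain ⟨ζ, hζ⟩ := HasEnoughRootsOfUnity.exists_primitiveRoot k m
  have hpow : (g.restrictScalars k) ^ m = 1 := by
    apply LinearMap.ext
    intro x
    have h1 := congrArg (fun φ : Module.End R (Fin n → R) => φ x) hg
    simp only [Module.End.pow_apply, Module.End.one_apply] at h1 ⊢
    exact h1
  have hzero : Polynomial.aeval (g.restrictScalars k) (Polynomial.X ^ m - 1 : Polynomial k) = 0 := by
    rw [map_sub, map_pow, Polynomial.aeval_X, map_one, hpow, sub_self]
  rw [Polynomial.X_pow_sub_one_eq_prod hm hζ] at hzero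
  rw [eq_top_iff]
  refine le_trans ?_ (ker_aeval_prod_le (g.restrictScalars k) (Polynomial.nthRootsFinset m (1 : k)))
  rw [hzero]
  intro x _
  exact LinearMap.mem_ker.mpr rfl

end Groth.Agent.S16161
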