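import Groth.Statements.S16162
-- import your own Groth.Agent.* helpers here

set_option autoImplicit false
open CategoryTheory MonoidalCategory CartesianMonoidalCategory MonObj GrpObj AlgebraicGeometry
universe u
open MadRed

namespace Groth.Agent.S16162

/-- Let S be a scheme, G a group scheme over S, and X an S-scheme with an action of G making X → S a
principal G-bundle (a torsor in the representable fppf sense: X → S surjective, flat and locally of
finite presentation, and G ×_S X → X ×_S X, (g, x) ↦ (g·x, x), an isomorphism). Let P be a closed
subset of X stable under the action: the action map sends into P every point of G ×_S X whose second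
projection lies in P. Then the image of P in S is closed, and P is the full preimage of its image.
(The source works with varieties over the complex numbers and an affine algebraic group; the
assertion holds over any base. Its second assertion, that P → image is again a principal bundle for
the induced reduced structures, then comes from base change and is not part of this row.) -/
theorem result {S : Scheme.{u}}
    {G X : Over S} [GrpObj G] (a : AlgGrp.Action G X) (ha : RedSub.IsTorsor a)
    (P : Set X.left) (hP : IsClosed P)
    (hstab : ∀ w : (G ⊗ X).left, (snd G X).left.base w ∈ P → a.act.left.base w ∈ P) :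
    IsClosed (X.hom.base '' P) ∧ X.hom.base ⁻¹' (X.hom.base '' P) = P := by
  obtain ⟨hsurj, hflat, hlfp, hiso⟩ := ha
  have hsat : X.hom.base ⁻¹' (X.hom.base '' P) = P := by
    apply Set.Subset.antisymm
    · rintro x ⟨p, hp, hpx⟩
      obtain ⟨z, hz1, hz2⟩ := Scheme.Pullback.exists_preimage_pullback (f := X.hom) (g := X.hom) x p hpx.symm
      have hL1 : inv (lift a.act (snd G X)) ≫ a.act = fst X X := by
        rw [IsIso.inv_comp_eq]; exact (lift_fst _ _).symm
      have hL2 : inv (lift a.act (snd G X)) ≫ snd G X = snd X X := by
        rw [IsIso.inv_comp_eq]; exact (lift_snd _ _).symm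
      let w : (G ⊗ X).left := (inv (lift a.act (snd G X))).left.base z
      have h1 : a.act.left.base w = x := by
        have := congrArg (fun φ : X ⊗ X ⟶ X => φ.left.base z) hL1
        simp only [Over.comp_left, Scheme.Hom.comp_base] at this
        rw [← hz1]
        exact this
      have h2 : (snd G X).left.base w = p := by
        have := congrArg (fun φ : X ⊗ X ⟶ X => φ.left.base z) hL2
        simp only [Over.comp_left, Scheme.Hom.comp_base] at this
        rw [← hz2]
        exact this
      have := hstab w (by rw [h2]; exact hp)
      rwa [h1] at this
    · exact Set.subset_preimage_image _ _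
  refine ⟨?_, hsat⟩
  have hopen : IsOpenMap X.hom.base := X.hom.isOpenMap
  have hsurj' : Function.Surjective X.hom.base := hsurj.surj
  have himg : X.hom.base '' P = (X.hom.base '' Pᶜ)ᶜ := by
    ext s
    constructor
    · rintro ⟨p, hp, rfl⟩ ⟨q, hq, hqp⟩
      apply hq
      rw [← hsat]
      exact ⟨p, hp, hqp.symm⟩
    · intro hs
      obtain ⟨x, rfl⟩ := hsurj' s
      refine ⟨x, ?_, rfl⟩
      by_contra hx
      exact hs ⟨x, hx, rfl⟩
  rw [himg]
  exact (hopen _ hP.isOpen_compl).isClosed_compl

end Groth.Agent.S16162
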