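import Groth.Statements.S16164
import Mathlib
import Groth.Agent.Lib.Helper8.LatticeDescent
-- import your own Groth.Agent.* helpers here

set_option autoImplicit false
open Neron

namespace Groth.Agent.S16164

/-- Let X, Y₁, Y₂ be finitely generated free abelian groups with chosen bases, so that homomorphisms are
integer matrices acting on column vectors and each group is identified with its dual; let P : X → Y₁
and Q : X → Y₂ be surjective with A = (P over Q) : X → Y₁ ⊕ Y₂ injective, and let Ψ₁, Ψ₂ be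
symmetric positive-definite integer matrices on Y₁ and Y₂, Ψ their block-diagonal sum. If the image
of Aᵀ Ψ : Y₁ ⊕ Y₂ → X coincides with the image of Aᵀ Ψ A : X → X (the reverse inclusion always
holds), then A is bijective. (In the source X, Y₁, Y₂ are character groups of maximal tori, P and Q
specialization maps, Ψ₁ and Ψ₂ monodromy pairings, and the hypothesis expresses that two groups of
components coincide.) -/
theorem result
    {ι κ₁ κ₂ : Type} [Fintype ι] [Fintype κ₁] [Fintype κ₂]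
    (P : Matrix κ₁ ι ℤ) (Q : Matrix κ₂ ι ℤ)
    (hP : Function.Surjective P.mulVec) (hQ : Function.Surjective Q.mulVec)
    (hA : Function.Injective (Matrix.fromRows P Q).mulVec)
    (Ψ₁ : Matrix κ₁ κ₁ ℤ) (Ψ₂ : Matrix κ₂ κ₂ ℤ) (hΨ₁ : Ψ₁.IsSymm) (hΨ₂ : Ψ₂.IsSymm)
    (hΨ₁pos : ∀ y : κ₁ → ℤ, y ≠ 0 → 0 < y ⬝ᵥ Ψ₁.mulVec y)
    (hΨ₂pos : ∀ y : κ₂ → ℤ, y ≠ 0 → 0 < y ⬝ᵥ Ψ₂.mulVec y)
    (himage : LinearMap.range ((Matrix.fromRows P Q).transpose * Matrix.fromBlocks Ψ₁ 0 0 Ψ₂).mulVecLin =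
      LinearMap.range ((Matrix.fromRows P Q).transpose * Matrix.fromBlocks Ψ₁ 0 0 Ψ₂ * Matrix.fromRows P Q).mulVecLin) :
    Function.Bijective (Matrix.fromRows P Q).mulVec := by
  classical
  set A := Matrix.fromRows P Q with hAdef
  set Ψ := Matrix.fromBlocks Ψ₁ 0 0 Ψ₂ with hΨdef
  -- key consequence of the image hypothesis
  have hkey : ∀ y : κ₁ ⊕ κ₂ → ℤ, ∃ x : ι → ℤ, ∀ x' : ι → ℤ,
      (A.mulVec x') ⬝ᵥ Ψ.mulVec (A.mulVec x) = (A.mulVec x') ⬝ᵥ Ψ.mulVec y := by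
    intro y
    have hy : (A.transpose * Ψ).mulVecLin y ∈ LinearMap.range (A.transpose * Ψ).mulVecLin :=
      LinearMap.mem_range_self _ y
    rw [himage] at hy
    obtain ⟨x, hx⟩ := hy
    refine ⟨x, fun x' => ?_⟩
    have h1 : x' ⬝ᵥ (A.transpose * Ψ * A).mulVec x = x' ⬝ᵥ (A.transpose * Ψ).mulVec y := by
      have := congrArg (fun v => x' ⬝ᵥ v) hx
      exact this
    rw [← Matrix.mulVec_mulVec, ← Matrix.mulVec_mulVec, ← Matrix.mulVec_mulVec,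
      Matrix.dotProduct_mulVec, Matrix.vecMul_transpose, Matrix.dotProduct_mulVec x',
      Matrix.vecMul_transpose] at h1
    exact h1
  have hAmul : ∀ x : ι → ℤ, A.mulVec x = Sum.elim (P.mulVec x) (Q.mulVec x) := by
    intro x; rw [hAdef, Matrix.fromRows_mulVec]
  have hΨmul : ∀ (u : κ₁ → ℤ) (v : κ₂ → ℤ),
      Ψ.mulVec (Sum.elim u v) = Sum.elim (Ψ₁.mulVec u) (Ψ₂.mulVec v) := by
    intro u v
    rw [hΨdef, Matrix.fromBlocks_mulVec]
    simp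
  have H1 : ∀ y₁ : κ₁ → ℤ, ∃ x : ι → ℤ, ∀ x' : ι → ℤ,
      (P.mulVec x') ⬝ᵥ Ψ₁.mulVec (P.mulVec x) + (Q.mulVec x') ⬝ᵥ Ψ₂.mulVec (Q.mulVec x) =
        (P.mulVec x') ⬝ᵥ Ψ₁.mulVec y₁ := by
    intro y₁
    obtain ⟨x, hx⟩ := hkey (Sum.elim y₁ 0)
    refine ⟨x, fun x' => ?_⟩
    have := hx x'
    rw [hAmul, hAmul, hΨmul, hΨmul, sumElim_dotProduct_sumElim,
      sumElim_dotProduct_sumElim] at this
    simpa using this
  have H2 : ∀ y₂ : κ₂ → ℤ, ∃ x : ι → ℤ, ∀ x' : ι → ℤ,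
      (Q.mulVec x') ⬝ᵥ Ψ₂.mulVec (Q.mulVec x) + (P.mulVec x') ⬝ᵥ Ψ₁.mulVec (P.mulVec x) =
        (Q.mulVec x') ⬝ᵥ Ψ₂.mulVec y₂ := by
    intro y₂
    obtain ⟨x, hx⟩ := hkey (Sum.elim 0 y₂)
    refine ⟨x, fun x' => ?_⟩
    have := hx x'
    rw [hAmul, hAmul, hΨmul, hΨmul, sumElim_dotProduct_sumElim,
      sumElim_dotProduct_sumElim] at this
    rw [add_comm]
    simpa using this
  have R1 := Groth.Agent.H8.exists_mulVec_eq_and_eq_zero P Q hP Ψ₁ Ψ₂ hΨ₁ hΨ₁pos hΨ₂pos H1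
  have R2 := Groth.Agent.H8.exists_mulVec_eq_and_eq_zero Q P hQ Ψ₂ Ψ₁ hΨ₂ hΨ₂pos hΨ₁pos H2
  refine ⟨hA, fun y => ?_⟩
  obtain ⟨x1, hx1P, hx1Q⟩ := R1 (fun i => y (Sum.inl i))
  obtain ⟨x2, hx2Q, hx2P⟩ := R2 (fun i => y (Sum.inr i))
  refine ⟨x1 + x2, ?_⟩
  rw [Matrix.mulVec_add, hAmul, hAmul, hx1P, hx1Q, hx2P, hx2Q]
  ext (i | i) <;> simp

end Groth.Agent.S16164
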