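import Groth.Statements.S16170
import Mathlib
-- import your own Groth.Agent.* helpers here

set_option autoImplicit false
open Neron

namespace Groth.Agent.S16170

open scoped Matrix

theorem quad_conj {ι : Type} [Fintype ι] [DecidableEq ι] (T S : Matrix ι ι ℤ) (v : ι → ℤ) :
    v ⬝ᵥ (Tᵀ * S * T).mulVec v = (T.mulVec v) ⬝ᵥ S.mulVec (T.mulVec v) := by
  rw [← Matrix.mulVec_mulVec, ← Matrix.mulVec_mulVec, Matrix.dotProduct_mulVec,
    Matrix.vecMul_transpose]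

/-- Let M and N be symmetric positive-semidefinite integer matrices on the same finite index set whose
sum M + N is positive definite, and let χ₁, χ₂ be integer matrices with χ₁ + χ₂ = 1 and M χ₂ = N χ₁.
Then χ₁ and χ₂ are idempotent. (In the intended application M = Pᵀ Ψ₁ P and N = Qᵀ Ψ₂ Q for
surjective integer matrices P, Q and positive-definite Ψ₁, Ψ₂.) -/
theorem result
    {ι : Type} [Fintype ι] [DecidableEq ι]
    (M N χ₁ χ₂ : Matrix ι ι ℤ) (hM : M.IsSymm) (hN : N.IsSymm)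
    (hMpos : ∀ v : ι → ℤ, 0 ≤ v ⬝ᵥ M.mulVec v) (hNpos : ∀ v : ι → ℤ, 0 ≤ v ⬝ᵥ N.mulVec v)
    (hpos : ∀ v : ι → ℤ, v ≠ 0 → 0 < v ⬝ᵥ (M + N).mulVec v)
    (hsum : χ₁ + χ₂ = 1) (hrel : M * χ₂ = N * χ₁) :
    χ₁ * χ₁ = χ₁ ∧ χ₂ * χ₂ = χ₂ := by
  have hχ₂ : χ₂ = 1 - χ₁ := eq_sub_of_add_eq' hsum
  subst hχ₂
  have hFX : (M + N) * χ₁ = M := by
    have h0 : M * (1 - χ₁) = N * χ₁ := hrel
    rw [add_mul, ← h0]
    noncomm_ring
  have hFsymm : (M + N)ᵀ = M + N := by rw [Matrix.transpose_add, hM.eq, hN.eq]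
  have h3 : χ₁ᵀ * (M + N) = (M + N) * χ₁ := by
    have h0 := congrArg Matrix.transpose hFX
    rw [Matrix.transpose_mul, hFsymm, hM.eq] at h0
    rw [h0, hFX]
  have hN' : N = (M + N) * (1 - χ₁) := by
    rw [mul_sub, mul_one, hFX]; abel
  -- T := 2X - 1
  have hT : (2 • χ₁ - 1)ᵀ * (M + N) = (M + N) * (2 • χ₁ - 1) := by
    rw [Matrix.transpose_sub, Matrix.transpose_smul, Matrix.transpose_one, sub_mul, smul_mul_assoc, h3,
      one_mul, mul_sub, mul_smul_comm, mul_one]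
  have h1X : (1 - χ₁)ᵀ * (M + N) = (M + N) * (1 - χ₁) := by
    rw [Matrix.transpose_sub, Matrix.transpose_one, sub_mul, one_mul, h3, mul_sub, mul_one]
  -- S = F P
  have hS1 : (M + N) * (χ₁ * (1 - χ₁)) =
      χ₁ᵀ * N * χ₁ + (1 - χ₁)ᵀ * M * (1 - χ₁) := by
    conv_rhs => rw [hN']
    have e1 : χ₁ᵀ * ((M + N) * (1 - χ₁)) * χ₁ = (M + N) * (χ₁ * (1 - χ₁) * χ₁) := by
      rw [← mul_assoc, h3]; noncomm_ring
    have e2 : (1 - χ₁)ᵀ * M * (1 - χ₁) = (M + N) * ((1 - χ₁) * χ₁ * (1 - χ₁)) := by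
      conv_lhs => rw [← hFX]
      rw [← mul_assoc, h1X]; noncomm_ring
    rw [e1, e2, ← mul_add]
    congr 1
    noncomm_ring
  have hS2 : (M + N) - 4 • ((M + N) * (χ₁ * (1 - χ₁))) =
      (2 • χ₁ - 1)ᵀ * (M + N) * (2 • χ₁ - 1) := by
    rw [hT]
    noncomm_ring
  have hS3 : (M + N) * (χ₁ * (1 - χ₁)) - 4 • ((M + N) * ((χ₁ * (1 - χ₁)) * (χ₁ * (1 - χ₁)))) =
      (2 • χ₁ - 1)ᵀ * ((M + N) * (χ₁ * (1 - χ₁))) * (2 • χ₁ - 1) := by
    have e : (2 • χ₁ - 1)ᵀ * ((M + N) * (χ₁ * (1 - χ₁))) =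
        (M + N) * ((2 • χ₁ - 1) * (χ₁ * (1 - χ₁))) := by
      rw [← mul_assoc, hT, mul_assoc]
    rw [e]
    noncomm_ring
  have hPF : (χ₁ * (1 - χ₁))ᵀ * (M + N) = (M + N) * (χ₁ * (1 - χ₁)) := by
    rw [Matrix.transpose_mul, mul_assoc, h3, ← mul_assoc, h1X]
    noncomm_ring
  -- positivity of S
  have hSpos : ∀ v : ι → ℤ, 0 ≤ v ⬝ᵥ ((M + N) * (χ₁ * (1 - χ₁))).mulVec v := by
    intro v
    rw [hS1, Matrix.add_mulVec, dotProduct_add, quad_conj, quad_conj]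
    exact add_nonneg (hNpos _) (hMpos _)
  have hFnonneg : ∀ v : ι → ℤ, 0 ≤ v ⬝ᵥ (M + N).mulVec v := by
    intro v
    rw [Matrix.add_mulVec, dotProduct_add]
    exact add_nonneg (hMpos v) (hNpos v)
  -- the key inequality 16 Q(Pv) ≤ Q(v)
  have hkey : ∀ v : ι → ℤ,
      16 * (((χ₁ * (1 - χ₁)).mulVec v) ⬝ᵥ (M + N).mulVec ((χ₁ * (1 - χ₁)).mulVec v)) ≤
        v ⬝ᵥ (M + N).mulVec v := by
    intro v
    have hQP : ((χ₁ * (1 - χ₁)).mulVec v) ⬝ᵥ (M + N).mulVec ((χ₁ * (1 - χ₁)).mulVec v) =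
        v ⬝ᵥ ((M + N) * ((χ₁ * (1 - χ₁)) * (χ₁ * (1 - χ₁)))).mulVec v := by
      rw [← quad_conj, hPF, mul_assoc]
    have h1 : 0 ≤ v ⬝ᵥ ((M + N) - 4 • ((M + N) * (χ₁ * (1 - χ₁)))).mulVec v := by
      rw [hS2, quad_conj]; exact hFnonneg _
    have h2 : 0 ≤ v ⬝ᵥ ((M + N) * (χ₁ * (1 - χ₁)) -
        4 • ((M + N) * ((χ₁ * (1 - χ₁)) * (χ₁ * (1 - χ₁))))).mulVec v := by
      rw [hS3, quad_conj]; exact hSpos _
    rw [Matrix.sub_mulVec, dotProduct_sub, Matrix.smul_mulVec, dotProduct_smul] at h1 h2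
    rw [hQP]
    simp only [nsmul_eq_mul, Nat.cast_ofNat] at h1 h2
    linarith
  -- descent
  have hdesc : ∀ n : ℕ, ∀ v : ι → ℤ,
      (((χ₁ * (1 - χ₁)).mulVec v) ⬝ᵥ (M + N).mulVec ((χ₁ * (1 - χ₁)).mulVec v)).toNat = n →
        (χ₁ * (1 - χ₁)).mulVec v = 0 := by
    intro n
    induction n using Nat.strong_induction_on with
    | _ n ih =>
      intro v hv
      by_contra hne
      have hposv := hpos _ hne
      have hk := hkey ((χ₁ * (1 - χ₁)).mulVec v)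
      have hnn := hFnonneg ((χ₁ * (1 - χ₁)).mulVec ((χ₁ * (1 - χ₁)).mulVec v))
      have hlt : (((χ₁ * (1 - χ₁)).mulVec ((χ₁ * (1 - χ₁)).mulVec v)) ⬝ᵥ
          (M + N).mulVec ((χ₁ * (1 - χ₁)).mulVec ((χ₁ * (1 - χ₁)).mulVec v))).toNat < n := by
        omega
      have hPP := ih _ hlt ((χ₁ * (1 - χ₁)).mulVec v) rfl
      -- Q(Pv) = v · F P (P v) = 0
      have hQ0 : ((χ₁ * (1 - χ₁)).mulVec v) ⬝ᵥ (M + N).mulVec ((χ₁ * (1 - χ₁)).mulVec v) = 0 := by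
        rw [← quad_conj, hPF, mul_assoc, ← Matrix.mulVec_mulVec, ← Matrix.mulVec_mulVec, hPP,
          Matrix.mulVec_zero, dotProduct_zero]
      omega
  have hP0 : χ₁ * (1 - χ₁) = 0 := by
    apply Matrix.toLin'.injective
    apply LinearMap.ext
    intro v
    rw [Matrix.toLin'_apply, map_zero, LinearMap.zero_apply]
    exact hdesc _ v rfl
  constructor
  · have : χ₁ * χ₁ = χ₁ - χ₁ * (1 - χ₁) := by noncomm_ring
    rw [this, hP0, sub_zero]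
  · have : (1 - χ₁) * (1 - χ₁) = (1 - χ₁) - χ₁ * (1 - χ₁) := by noncomm_ring
    rw [this, hP0, sub_zero]

end Groth.Agent.S16170
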