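import Groth.Statements.S16188
import Mathlib
-- import your own Groth.Agent.* helpers here

set_option autoImplicit false
universe u
open CategoryTheory AlgebraicGeometry TopologicalSpace
open SchMor

namespace Groth.Agent.S16188

/-- Let f : X → Y be a morphism of schemes with X reduced and irreducible. Then f factors through an
irreducible component of Y carrying its reduced closed-subscheme structure: there are an irreducible
component Z of Y and a morphism g from X to the closed subscheme of Y cut out by the vanishing ideal
sheaf of Z with g followed by the inclusion equal to f; that closed subscheme is integral. -/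
theorem result
    {X Y : Scheme.{u}} (f : X ⟶ Y) [IsReduced X] [IrreducibleSpace X] :
    ∃ (Z : Closeds Y) (_ : (Z : Set Y) ∈ irreducibleComponents Y)
      (_ : IsIntegral (Scheme.IdealSheafData.vanishingIdeal Z).subscheme)
      (g : X ⟶ (Scheme.IdealSheafData.vanishingIdeal Z).subscheme),
      g ≫ (Scheme.IdealSheafData.vanishingIdeal Z).subschemeι = f := by
  have hT : IsIrreducible (closure (Set.range f)) := by
    have h1 : IsIrreducible (Set.range f) := by
      rw [← Set.image_univ]
      exact (IrreducibleSpace.isIrreducible_univ X).image f f.continuous.continuousOn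
    exact h1.closure
  obtain ⟨Z, hZpre, hTZ, hZmax⟩ := exists_preirreducible _ hT.isPreirreducible
  have hZirr : IsIrreducible Z := ⟨hT.nonempty.mono hTZ, hZpre⟩
  have hZcomp : Z ∈ irreducibleComponents Y := by
    refine ⟨hZirr, fun u hu hZu => ?_⟩
    exact (hZmax u hu.isPreirreducible hZu).le
  have hZclosed : IsClosed Z := isClosed_of_mem_irreducibleComponents Z hZcomp
  let Zc : Closeds Y := ⟨Z, hZclosed⟩
  have hred : IsReduced (Scheme.IdealSheafData.vanishingIdeal Zc).subscheme := by
    have : ∀ i, IsReduced ((Scheme.IdealSheafData.vanishingIdeal Zc).subschemeCover.openCover.X i) := by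
      intro (U : Y.affineOpens)
      change IsReduced (Spec (CommRingCat.of (Γ(Y, U.1) ⧸ (Scheme.IdealSheafData.vanishingIdeal Zc).ideal U)))
      rw [Scheme.IdealSheafData.vanishingIdeal_ideal]
      have : _root_.IsReduced (Γ(Y, U.1) ⧸ PrimeSpectrum.vanishingIdeal (U.2.fromSpec ⁻¹' (Zc : Set Y))) :=
        (Ideal.isRadical_iff_quotient_reduced _).mp (PrimeSpectrum.isRadical_vanishingIdeal _)
      infer_instance
    exact IsReduced.of_openCover _ (Scheme.IdealSheafData.vanishingIdeal Zc).subschemeCover.openCover
  have hirr : IrreducibleSpace (Scheme.IdealSheafData.vanishingIdeal Zc).subscheme := by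
    have h : IsIrreducible ((Scheme.IdealSheafData.vanishingIdeal Zc).support : Set Y) := by
      rw [Scheme.IdealSheafData.coe_support_vanishingIdeal]
      exact hZirr
    exact Subtype.irreducibleSpace h
  have hint : IsIntegral (Scheme.IdealSheafData.vanishingIdeal Zc).subscheme :=
    isIntegral_of_irreducibleSpace_of_isReduced _
  have hker : (Scheme.IdealSheafData.vanishingIdeal Zc).subschemeι.ker ≤ f.ker := by
    rw [Scheme.IdealSheafData.ker_subschemeι, ← Scheme.IdealSheafData.map_bot,
      ← Scheme.nilradical_eq_bot, ← Scheme.IdealSheafData.vanishingIdeal_top,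
      Scheme.IdealSheafData.map_vanishingIdeal]
    apply Scheme.IdealSheafData.vanishingIdeal_antimono
    intro y hy
    apply hTZ
    simpa using hy
  exact ⟨Zc, hZcomp, hint, IsClosedImmersion.lift _ f hker, IsClosedImmersion.lift_fac _ f hker⟩

end Groth.Agent.S16188
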