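import Groth.Statements.S1619
import Mathlib
import Groth.Agent.Lib.Helper1.ClosureDim
import Groth.Agent.Lib.Helper1.DimFormula3

set_option autoImplicit false
universe u
open CategoryTheory CategoryTheory.Limits AlgebraicGeometry
attribute [local instance] Curv2.stalkAlgebra Curv2.resAlgebra
open Variety

namespace Groth.Agent.S1619

/-- Let X be irreducible and locally of finite type over a field k, with generic point ξ. If the residue
field of ξ has transcendence degree n over k then X has Krull dimension n. -/
theorem result (k : Type u) [Field k] (X : Scheme.{u}) [X.Over (Spec (CommRingCat.of k))] [LocallyOfFiniteType (X ↘ (Spec (CommRingCat.of k)))] [IrreducibleSpace X]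
    (n : ℕ) (hn : Algebra.trdeg k (X.residueField (genericPoint X)) = n) : topologicalKrullDim X = n := by
  obtain ⟨t, ht, hdim⟩ := Groth.Agent.H1.ClosureDim.exists_trdeg_eq_dim_closure
    (X ↘ Spec (CommRingCat.of k)) (genericPoint X)
  have heq : Curv2.resAlgebra k X (genericPoint X) =
      (Groth.Agent.H1.DimFormula.toResidueField (X ↘ Spec (CommRingCat.of k))
        (genericPoint X)).hom.toAlgebra := by
    change (Curv2.resMap k X (genericPoint X)).toAlgebra = _
    rw [Groth.Agent.H1.DimFormula.resMap_eq]
  rw [heq, ht] at hn
  have : t = n := by exact_mod_cast hn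
  subst this
  rw [genericPoint_spec X] at hdim
  rw [← hdim]
  exact (IsHomeomorph.topologicalKrullDim_eq _ (Homeomorph.Set.univ X).isHomeomorph).symm

end Groth.Agent.S1619
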