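import Groth.Statements.S16194
import Mathlib.RingTheory.Jacobson.Ideal
import Mathlib.Tactic.NoncommRing
-- import your own Groth.Agent.* helpers here

set_option autoImplicit false
universe u
open DivAlg

namespace Groth.Agent.S16194

/-- In an associative unital ring R, not necessarily commutative, every element r of the Jacobson
radical (the set of elements lying in every maximal left ideal) is quasiregular, i.e. 1 - r is a
two-sided unit. -/
theorem result {R : Type u} [Ring R] (r : R)
    (hr : r ∈ Ring.jacobson R) : IsUnit (1 - r) := by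
  -- every element of the radical has `1 - x` left invertible
  have key : ∀ x : R, x ∈ Ring.jacobson R → ∃ z : R, z * (1 - x) = 1 := by
    intro x hx
    rw [← Ideal.jacobson_bot] at hx
    obtain ⟨z, hz⟩ := Ideal.mem_jacobson_iff.1 hx (-1)
    rw [Ideal.mem_bot] at hz
    refine ⟨z, ?_⟩
    have : z * (1 - x) = z * -1 * x + z - 1 + 1 := by noncomm_ring
    rw [this, hz, zero_add]
  obtain ⟨z, hz⟩ := key r hr
  -- `z = 1 - (-(z * r))` with `-(z * r)` in the radical
  have hzr : -(z * r) ∈ Ring.jacobson R := neg_mem (Ideal.mul_mem_left _ z hr)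
  obtain ⟨w, hw⟩ := key _ hzr
  have hz' : z = 1 - -(z * r) := by
    have : z * (1 - r) = z - z * r := by noncomm_ring
    rw [this] at hz
    rw [sub_neg_eq_add, ← hz]
    noncomm_ring
  rw [← hz'] at hw
  -- `z` has left inverse `w` and right inverse `1 - r`
  have hw' : w = 1 - r := by
    calc w = w * (z * (1 - r)) := by rw [hz, mul_one]
      _ = (w * z) * (1 - r) := by rw [mul_assoc]
      _ = 1 - r := by rw [hw, one_mul]
  rw [hw'] at hw
  exact ⟨⟨1 - r, z, hw, hz⟩, rfl⟩

end Groth.Agent.S16194
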