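import Groth.Statements.S16196
import Mathlib
-- import your own Groth.Agent.* helpers here

set_option autoImplicit false
universe u v
open DivAlg

namespace Groth.Agent.S16196

/-- Let R be a ring (associative, unital, not necessarily commutative) and M a left R-module which is a
generator, in the form: for some n there is an R-linear surjection from M^n onto R. Then the natural
ring homomorphism from R to the double endomorphism ring BiEnd_R(M) = End_{End_R(M)}(M)
(endomorphisms of M commuting with every R-linear endomorphism), r ↦ multiplication by r, is
bijective. (The printed form takes R an algebra over a commutative ring k, embeds R in E = End_k(M)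
and asserts R = C_E(C_E(R)); the double centralizer there is BiEnd_R(M).) -/
theorem result {R : Type u} [Ring R] (M : Type v)
    [AddCommGroup M] [Module R M]
    (hgen : ∃ (n : ℕ) (f : (Fin n → M) →ₗ[R] R), Function.Surjective f) :
    Function.Bijective (Module.toModuleEnd (Module.End R M) (S := R) M) := by
  classical
  obtain ⟨n, f, hf⟩ := hgen
  obtain ⟨m₀, hm₀⟩ := hf 1
  let fi : Fin n → (M →ₗ[R] R) := fun i => f ∘ₗ LinearMap.single R (fun _ => M) i
  have hfsum : ∀ v : Fin n → M, f v = ∑ i, fi i (v i) := by
    intro v
    conv_lhs => rw [← Finset.univ_sum_single v]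
    rw [map_sum]
    rfl
  constructor
  · rw [injective_iff_map_eq_zero]
    intro r hr
    have h1 : ∀ x : M, r • x = 0 := by
      intro x
      have := LinearMap.congr_fun hr x
      simpa using this
    have : r = r • f m₀ := by rw [hm₀]; simp
    rw [this, ← map_smul]
    have : r • m₀ = 0 := by
      ext i
      simp [h1]
    rw [this, map_zero]
  · intro φ
    refine ⟨∑ i, fi i (φ (m₀ i)), ?_⟩
    ext m
    have hcomm : ∀ i, φ ((fi i (m₀ i)) • m) = (fi i (φ (m₀ i))) • m := by
      intro i
      have h := φ.map_smul ((fi i).smulRight m) (m₀ i)
      simpa using h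
    have h1 : φ m = φ ((∑ i, fi i (m₀ i)) • m) := by
      rw [← hfsum, hm₀, one_smul]
    have h2 : (Module.toModuleEnd (Module.End R M) (S := R) M (∑ i, fi i (φ (m₀ i)))) m
        = (∑ i, fi i (φ (m₀ i))) • m := rfl
    rw [h2, h1, Finset.sum_smul, Finset.sum_smul, map_sum]
    exact Finset.sum_congr rfl fun i _ => (hcomm i).symm

end Groth.Agent.S16196
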