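import Groth.Statements.S16197
import Mathlib
-- import your own Groth.Agent.* helpers here

set_option autoImplicit false
universe u v w
open DivAlg

namespace Groth.Agent.S16197

/-- Let R be a ring (associative, unital, not necessarily commutative) and M a left R-module which is a
generator, used here only through the existence of an R-linear surjection from a direct sum of
copies of M, indexed by an arbitrary type, onto R. Then some finite power M^n decomposes as R × Q
for a submodule Q of M^n. (The published statement is an equivalence; this row states only the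
implication from the existence of such a surjection to the splitting.) -/
theorem result {R : Type u} [Ring R] (M : Type v)
    [AddCommGroup M] [Module R M]
    (hgen : ∃ (ι : Type w) (f : (ι →₀ M) →ₗ[R] R), Function.Surjective f) :
    ∃ (n : ℕ) (Q : Submodule R (Fin n → M)), Nonempty ((Fin n → M) ≃ₗ[R] (R × Q)) := by
  classical
  obtain ⟨ι, f, hf⟩ := hgen
  obtain ⟨v, hv⟩ := hf 1
  let n := v.support.card
  let e : v.support ≃ Fin n := v.support.equivFin
  let g : (Fin n → M) →ₗ[R] R :=
    ∑ j : Fin n, (f ∘ₗ Finsupp.lsingle ((e.symm j : v.support) : ι)) ∘ₗ LinearMap.proj j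
  let w : Fin n → M := fun j => v (e.symm j : v.support)
  have hgw : g w = 1 := by
    have h1 : g w = ∑ j : Fin n, f (Finsupp.single ((e.symm j : v.support) : ι) (v (e.symm j : v.support))) := by
      simp [g, w, LinearMap.sum_apply]
    rw [h1, ← map_sum]
    have h2 : ∑ j : Fin n, Finsupp.single ((e.symm j : v.support) : ι) (v (e.symm j : v.support))
        = ∑ i : v.support, Finsupp.single (i : ι) (v i) :=
      Fintype.sum_equiv e.symm _ _ (fun j => rfl)
    rw [h2, Finset.sum_coe_sort v.support (fun i => Finsupp.single i (v i))]
    have h3 : ∑ i ∈ v.support, Finsupp.single i (v i) = v := by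
      have := Finsupp.sum_single v
      simpa [Finsupp.sum] using this
    rw [h3, hv]
  refine ⟨n, LinearMap.ker g, ⟨?_⟩⟩
  have hmem : ∀ x : Fin n → M, x - g x • w ∈ LinearMap.ker g := by
    intro x
    rw [LinearMap.mem_ker, map_sub, map_smul, hgw, smul_eq_mul, mul_one, sub_self]
  let fwd : (Fin n → M) →ₗ[R] (R × LinearMap.ker g) :=
    LinearMap.prod g (LinearMap.codRestrict (LinearMap.ker g)
      (LinearMap.id - (LinearMap.toSpanSingleton R (Fin n → M) w) ∘ₗ g) (by
        intro x
        simpa using hmem x))
  let bwd : (R × LinearMap.ker g) →ₗ[R] (Fin n → M) :=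
    LinearMap.coprod (LinearMap.toSpanSingleton R (Fin n → M) w) (LinearMap.ker g).subtype
  refine LinearEquiv.ofLinearMap fwd bwd ?_ ?_
  · refine LinearMap.ext ?_
    rintro ⟨r, q⟩
    have hq : g (q : Fin n → M) = 0 := q.2
    refine Prod.ext ?_ (Subtype.ext ?_)
    · simp [fwd, bwd, hgw, hq]
    · simp [fwd, bwd, hgw, hq]
  · refine LinearMap.ext ?_
    intro x
    simp [fwd, bwd]

end Groth.Agent.S16197
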