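import Groth.Statements.S1620
import Mathlib
import Groth.Agent.Lib.Helper1.ClosureDim
import Groth.Agent.Lib.Helper1.DimFormula3
import Groth.Agent.Lib.Helper1.DimLocG
import Groth.Agent.Lib.Helper1.DimFun2

set_option autoImplicit false
universe u
open CategoryTheory CategoryTheory.Limits AlgebraicGeometry
attribute [local instance] Curv2.stalkAlgebra Curv2.resAlgebra
open Variety

namespace Groth.Agent.S1620

/-- Let X be locally of finite type over a field k and x ⤳ x' an immediate specialisation (x ≠ x' and no
point strictly in between). If the residue field of x' has transcendence degree n over k then the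
residue field of x has transcendence degree n + 1. -/
theorem result (k : Type u) [Field k] (X : Scheme.{u}) [X.Over (Spec (CommRingCat.of k))] [LocallyOfFiniteType (X ↘ (Spec (CommRingCat.of k)))] (x x' : X) (hne : x ≠ x') (hsp : x ⤳ x')
    (himm : ∀ y : X, x ⤳ y → y ⤳ x' → y = x ∨ y = x')
    (n : ℕ) (hn : Algebra.trdeg k (X.residueField x') = n) : Algebra.trdeg k (X.residueField x) = n + 1 := by
  set f := X ↘ Spec (CommRingCat.of k) with hf
  have heq : ∀ z : X, Curv2.resAlgebra k X z =
      (Groth.Agent.H1.DimFormula.toResidueField f z).hom.toAlgebra := by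
    intro z
    change (Curv2.resMap k X z).toAlgebra = _
    rw [Groth.Agent.H1.DimFormula.resMap_eq]
  rw [heq x', Groth.Agent.H1.ClosureDim.trdeg_toResidueField_eq f x'] at hn
  rw [heq x]
  obtain ⟨t, ht, -⟩ := Groth.Agent.H1.ClosureDim.exists_trdeg_eq_dim_closure f x
  rw [ht]
  rw [Groth.Agent.H1.ClosureDim.trdeg_toResidueField_eq f x] at ht
  obtain ⟨U, hU, hx'U, -⟩ := exists_isAffineOpen_mem_and_subset (x := x') (U := ⊤) trivial
  have hxU : x ∈ U := hsp.mem_open U.2 hx'U
  have hV : IsAffineOpen (⊤ : (Spec (CommRingCat.of k)).Opens) := isAffineOpen_top _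
  have e : U ≤ f ⁻¹ᵁ ⊤ := fun _ _ => trivial
  have hfz : f x = f x' := by
    haveI : Subsingleton (PrimeSpectrum k) := inferInstance
    exact Subsingleton.elim (α := PrimeSpectrum k) _ _
  have key := Groth.Agent.H1.DimLoc.chart_fibre_eq_enat f hU hV e x' x hx'U hxU hsp hfz n t hn ht
  rw [(Groth.Agent.H1.DimFun.one_le_height_map_mk hU x x' hxU hx'U hsp hne).2 himm] at key
  have : t = n + 1 := by
    have h2 : ((1 + n : ℕ) : ℕ∞) = (t : ℕ∞) := by push_cast; exact key
    have := Nat.cast_injective h2
    omega
  rw [this]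
  push_cast
  rfl

end Groth.Agent.S1620
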