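import Groth.Statements.S1621
import Mathlib
import Groth.Agent.Lib.Helper1.DimFormula3

set_option autoImplicit false
universe u
open CategoryTheory CategoryTheory.Limits AlgebraicGeometry
attribute [local instance] Curv2.stalkAlgebra Curv2.resAlgebra
open Variety

namespace Groth.Agent.S1621

/-- Let X be locally of finite type over a field k and x a point whose residue field has transcendence
degree a over k and whose local ring has dimension b. Then the local dimension of X at x is a + b. -/
theorem result (k : Type u) [Field k] (X : Scheme.{u}) [X.Over (Spec (CommRingCat.of k))] [LocallyOfFiniteType (X ↘ (Spec (CommRingCat.of k)))] (x : X) (a b : ℕ)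
    (ha : Algebra.trdeg k (X.residueField x) = a) (hb : ringKrullDim (X.presheaf.stalk x) = b) :
    FlatMor.localDim X x = (a + b : ℕ) := by
  obtain ⟨t, ht, hdim⟩ := Groth.Agent.H1.DimFormula.exists_localDim_eq_stalk_add_trdeg
    (X ↘ Spec (CommRingCat.of k)) x
  have heq : Curv2.resAlgebra k X x =
      (Groth.Agent.H1.DimFormula.toResidueField (X ↘ Spec (CommRingCat.of k)) x).hom.toAlgebra := by
    change (Curv2.resMap k X x).toAlgebra = _
    rw [Groth.Agent.H1.DimFormula.resMap_eq]
  rw [heq, ht] at ha
  have : t = a := by exact_mod_cast ha
  subst this
  rw [hdim, hb]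
  push_cast
  exact add_comm _ _

end Groth.Agent.S1621
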