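import Groth.Statements.S16211
import Mathlib
-- import your own Groth.Agent.* helpers here

set_option autoImplicit false
universe u v
open InvTh

namespace Groth.Agent.S16211

/-- Let R be a commutative ring, O a formally smooth R-algebra and G a finite group whose order is
invertible in R, acting on O by R-algebra automorphisms. Then the largest quotient algebra of O on
which G acts trivially, namely the quotient of O by the ideal generated by all g • f - f (the
coordinate ring of the subscheme of G-fixed points of Spec O), is again formally smooth over R: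
invariant homomorphisms lift along square-zero extensions. The published statement is about a scheme
X smooth and of finite presentation over the base and concludes that its fixed-point scheme is
smooth; this row, the affine step of its proof, assumes only that O is formally smooth over R and
concludes only formal smoothness. -/
theorem result (R : Type u) [CommRing R]
    (O : Type u) [CommRing O] [Algebra R O] [Algebra.FormallySmooth R O]
    (G : Type v) [Group G] [Finite G] [MulSemiringAction G O] [SMulCommClass G R O]
    (hG : IsUnit (Nat.card G : R)) :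
    Algebra.FormallySmooth R (O ⧸ Ideal.span {x : O | ∃ (g : G) (f : O), x = g • f - f}) := by
  set I₀ : Ideal O := Ideal.span {x : O | ∃ (g : G) (f : O), x = g • f - f} with hI₀
  rw [Algebra.FormallySmooth.iff_comp_surjective]
  intro B _ _ J hJ φ
  classical
  have := Fintype.ofFinite G
  have hπ : ∀ (g : G) (a : O), Ideal.Quotient.mk I₀ (g • a) = Ideal.Quotient.mk I₀ a := by
    intro g a
    rw [Ideal.Quotient.eq]
    exact Ideal.subset_span ⟨g, a, rfl⟩
  obtain ⟨ψ, hψ⟩ := Algebra.FormallySmooth.comp_surjective R O J hJ (φ.comp (Ideal.Quotient.mkₐ R I₀))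
  have hψ' : ∀ a, Ideal.Quotient.mk J (ψ a) = φ (Ideal.Quotient.mk I₀ a) := fun a => AlgHom.congr_fun hψ a
  obtain ⟨u, hu⟩ := hG.exists_left_inv
  set c : B := algebraMap R B u with hc
  have hcard : c * (Fintype.card G : B) = 1 := by
    have := congrArg (algebraMap R B) hu
    rw [map_mul, map_one, map_natCast, Nat.card_eq_fintype_card] at this
    exact this
  have sq0 : ∀ x y : B, x ∈ J → y ∈ J → x * y = 0 := by
    intro x y hx hy
    have : x * y ∈ J ^ 2 := by rw [pow_two]; exact Ideal.mul_mem_mul hx hy
    rw [hJ] at this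
    exact this
  have hdiff : ∀ (g h : G) (a : O), ψ (g • a) - ψ (h • a) ∈ J := by
    intro g h a
    rw [← Ideal.Quotient.eq, hψ', hψ', hπ, hπ]
  let L : O → B := fun a => c * ∑ g : G, ψ (g • a)
  have hK : ∀ (g : G) (a : O), ψ (g • a) - L a ∈ J := by
    intro g a
    have : ψ (g • a) - L a = c * ∑ h : G, (ψ (g • a) - ψ (h • a)) := by
      rw [Finset.sum_sub_distrib, Finset.sum_const, Finset.card_univ, nsmul_eq_mul, mul_sub,
        ← mul_assoc, hcard, one_mul]
    rw [this]
    exact Ideal.mul_mem_left _ _ (Ideal.sum_mem _ (fun h _ => hdiff g h a))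
  have hL1 : L 1 = 1 := by
    show c * ∑ g : G, ψ (g • (1 : O)) = 1
    simp only [smul_one, map_one, Finset.sum_const, Finset.card_univ, nsmul_eq_mul, mul_one]
    exact hcard
  have hLmul : ∀ a b, L (a * b) = L a * L b := by
    intro a b
    have h0 : ∑ g : G, (ψ (g • a) - L a) * (ψ (g • b) - L b) = 0 :=
      Finset.sum_eq_zero (fun g _ => sq0 _ _ (hK g a) (hK g b))
    simp only [sub_mul, mul_sub, Finset.sum_sub_distrib, ← Finset.sum_mul, ← Finset.mul_sum,
      Finset.sum_const, Finset.card_univ, nsmul_eq_mul] at h0
    have hab : L (a * b) = c * ∑ g : G, ψ (g • a) * ψ (g • b) := by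
      show c * ∑ g : G, ψ (g • (a * b)) = _
      simp only [smul_mul', map_mul]
    have ha : L a = c * ∑ g : G, ψ (g • a) := rfl
    have hb : L b = c * ∑ g : G, ψ (g • b) := rfl
    rw [hab]
    generalize (∑ g : G, ψ (g • a) * ψ (g • b)) = Sab at *
    generalize (∑ g : G, ψ (g • a)) = Sa at *
    generalize (∑ g : G, ψ (g • b)) = Sb at *
    generalize L a = La at *
    generalize L b = Lb at *
    linear_combination c * h0 - (La * Lb) * hcard - Lb * ha - La * hb
  have hLadd : ∀ a b, L (a + b) = L a + L b := by
    intro a b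
    show c * ∑ g : G, ψ (g • (a + b)) = c * ∑ g : G, ψ (g • a) + c * ∑ g : G, ψ (g • b)
    simp only [smul_add, map_add, Finset.sum_add_distrib, mul_add]
  have hL0 : L 0 = 0 := by
    show c * ∑ g : G, ψ (g • (0 : O)) = 0
    simp
  have hLalg : ∀ r : R, L (algebraMap R O r) = algebraMap R B r := by
    intro r
    show c * ∑ g : G, ψ (g • (algebraMap R O r)) = _
    simp only [smul_algebraMap, AlgHom.commutes, Finset.sum_const, Finset.card_univ, nsmul_eq_mul]
    rw [← mul_assoc, hcard, one_mul]
  let Lh : O →ₐ[R] B :=
    { toFun := L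
      map_one' := hL1
      map_mul' := hLmul
      map_zero' := hL0
      map_add' := hLadd
      commutes' := hLalg }
  have hinv : ∀ (h : G) (a : O), Lh (h • a) = Lh a := by
    intro h a
    show c * ∑ g : G, ψ (g • (h • a)) = c * ∑ g : G, ψ (g • a)
    congr 1
    apply Fintype.sum_equiv (Equiv.mulRight h)
    intro g
    simp [mul_smul]
  have hker : ∀ x ∈ I₀, Lh x = 0 := by
    intro x hx
    have : I₀ ≤ RingHom.ker Lh.toRingHom := by
      rw [hI₀, Ideal.span_le]
      rintro _ ⟨g, f, rfl⟩
      show Lh (g • f - f) = 0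
      rw [map_sub, hinv, sub_self]
    exact this hx
  refine ⟨Ideal.Quotient.liftₐ I₀ Lh hker, ?_⟩
  apply Ideal.Quotient.algHom_ext
  ext a
  have e1 : (((Ideal.Quotient.mkₐ R J).comp (Ideal.Quotient.liftₐ I₀ Lh hker)).comp
      (Ideal.Quotient.mkₐ R I₀)) a = Ideal.Quotient.mk J (Lh a) := by
    simp
    try rfl
  have e2 : (φ.comp (Ideal.Quotient.mkₐ R I₀)) a = φ (Ideal.Quotient.mk I₀ a) := rfl
  refine e1.trans (Eq.trans ?_ e2.symm)
  rw [← hψ']
  symm
  rw [Ideal.Quotient.eq]
  have := hK 1 a
  rwa [one_smul] at this

end Groth.Agent.S16211
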