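import Groth.Statements.S16213
import Groth.Agent.Lib.Helper3.AlgSt.SmoothLocally
import Groth.Agent.Lib.Helper3.QDiag.Main
import Groth.Agent.Lib.Helper3.QDiag.EtAtlas

set_option autoImplicit false
open CategoryTheory AlgebraicGeometry
universe u
open AlgSt

namespace Groth.Agent.S16213

/-- Let S be a scheme, let 𝒳 and 𝒴 be stacks in groupoids over (Sch/S) for the fppf topology with 𝒴 an
algebraic stack, and let f : 𝒳 ⟶ 𝒴 be a functor over (Sch/S). Suppose there are an algebraic space Z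
over S and a functor z : Z ⟶ 𝒴 over (Sch/S) which is representable by algebraic spaces, smooth and
surjective, such that the 2-fibre product Z ×_𝒴 𝒳 is an algebraic stack. Then 𝒳 is an algebraic
stack over S. -/
theorem result {S : Scheme.{u}} {𝒳 𝒴 : AlgSt.Cat S}
    (h𝒳 : Stk.IsStack (QuotSh.J Scheme.fppfPrecoverage S) 𝒳)
    (h𝒴 : AlgSt.IsAlgStack Scheme.fppfPrecoverage 𝒴) (f : 𝒳 ⥤ᵇ 𝒴)
    (Z : AlgSp.Space S) (z : AlgSt.ofSp Z.obj ⥤ᵇ 𝒴)
    (hsm : AlgSt.RepByAlgSpWith (AlgSp.LocP @Smooth) z)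
    (hsurj : AlgSt.RepByAlgSpWith AlgSp.IsSurjectiveMor z)
    (hfp : AlgSt.IsAlgStack Scheme.fppfPrecoverage (FibCat.fp z f)) :
    AlgSt.IsAlgStack Scheme.fppfPrecoverage 𝒳 := by
  obtain ⟨U, a, ha1, ha3⟩ := hfp.atlas
  have hp1 : AlgSt.RepByAlgSpWith (AlgSp.LocP @Smooth) (FibCat.fpSnd z f) :=
    Groth.Agent.H3.AlgStStackRep.repByAlgSpWith_fpSnd _ z f hsm
  have hp3 : AlgSt.RepByAlgSpWith AlgSp.IsSurjectiveMor (FibCat.fpSnd z f) :=
    Groth.Agent.H3.AlgStStackRep.repByAlgSpWith_fpSnd _ z f hsurj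
  have hx1 : AlgSt.RepByAlgSpWith (AlgSp.LocP @Smooth)
      (BasedFunctor.comp a (FibCat.fpSnd z f)) :=
    Groth.Agent.H3.AlgStProps.good_smooth.toC.repComp
      (Groth.Agent.H3.AlgStCharts.isFibGrpd_overCat U) hfp.isStack.1 _ _ ha1 hp1
  have hx3 : AlgSt.RepByAlgSpWith AlgSp.IsSurjectiveMor
      (BasedFunctor.comp a (FibCat.fpSnd z f)) :=
    Groth.Agent.H3.AlgStProps.good_isSurjectiveMor.toC.repComp
      (Groth.Agent.H3.AlgStCharts.isFibGrpd_overCat U) hfp.isStack.1 _ _ ha3 hp3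
  refine ⟨h𝒳, ?_, ⟨U, _, hx1, hx3⟩⟩
  have hw : AlgSt.RepByAlgSp1 (BasedFunctor.comp a (FibCat.fpSnd z f)) :=
    fun T y => by
      obtain ⟨F, e, he, -⟩ := hx1 T y
      exact ⟨F, e, he⟩
  exact Groth.Agent.H3.QDiag.repByAlgSp1_diag _
    (Groth.Agent.H3.StackMore.isPrestack_of_isStack _ h𝒳) hw
    (Groth.Agent.H3.QDiag.locFac_of_smooth _ hx1 hx3)

end Groth.Agent.S16213
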