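import Groth.Statements.S1622
import Groth.Agent.Lib.Helper2.RegGenD
import Groth.Agent.Lib.Lead.QC.BlowUpProps
import Groth.Agent.Lib.Helper7.Reg1
import Groth.Agent.Lib.Helper1.RegLoc

set_option autoImplicit false
universe u
open CategoryTheory CategoryTheory.Limits AlgebraicGeometry
open Resolve

namespace Groth.Agent.S1622

/-- Let A be a regular local ring of dimension two and b : X → Spec A a blowing up of Spec A in the
maximal ideal (characterised by its universal property). Then X is irreducible and all of its local
rings are regular. -/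
theorem result (A : Type u) [CommRing A] [IsRegularLocalRing A] (hA : ringKrullDim A = 2)
    (X : Scheme.{u}) (b : X ⟶ Spec (CommRingCat.of A)) (hb : BlowUp.IsBlowUp b (Curv2.idealSheaf A (IsLocalRing.maximalIdeal A))) :
    IrreducibleSpace X ∧ ∀ x : X, IsRegularLocalRing (X.presheaf.stalk x) := by
  have hdom : IsDomain A := Groth.Agent.H7.Reg.isDomain A
  have hci : IsClosedImmersion
      (Spec.map (CommRingCat.ofHom (Ideal.Quotient.mk (IsLocalRing.maximalIdeal A)))) :=
    IsClosedImmersion.spec_of_surjective _ Ideal.Quotient.mk_surjective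
  have hb' : BlowUp.IsBlowUp b
      (Spec.map (CommRingCat.ofHom (Ideal.Quotient.mk (IsLocalRing.maximalIdeal A)))).ker := by
    rw [Groth.Agent.H2.BlGr.ker_SpecMap_mk]; exact hb
  have hm : IsLocalRing.maximalIdeal A ≠ ⊥ := by
    intro h
    have hf : IsField A := IsLocalRing.isField_iff_maximalIdeal_eq.mpr h
    have h0 : ringKrullDim A = 0 := by
      let _ := hf.toField
      exact ringKrullDim_eq_zero_of_field A
    rw [hA] at h0
    norm_num at h0
  constructor
  · have hI : Curv2.idealSheaf A (IsLocalRing.maximalIdeal A) ≠ ⊥ := by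
      intro h
      apply hm
      have h1 := congrArg (fun 𝓙 : (Spec (CommRingCat.of A)).IdealSheafData =>
        𝓙.ideal ⟨⊤, isAffineOpen_top _⟩) h
      simp only [Curv2.idealSheaf, Scheme.IdealSheafData.ofIdealTop_ideal,
        Scheme.IdealSheafData.ideal_bot, Pi.bot_apply, homOfLE_refl, op_id,
        CategoryTheory.Functor.map_id, CommRingCat.hom_id, Ideal.map_id] at h1
      have hinj : Function.Injective (Scheme.ΓSpecIso (CommRingCat.of A)).inv.hom :=
        (ConcreteCategory.bijective_of_isIso (Scheme.ΓSpecIso (CommRingCat.of A)).inv).1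
      exact (Ideal.map_eq_bot_iff_of_injective hinj).mp h1
    obtain ⟨h, _⟩ := Groth.Agent.LD.QC.IsBlowUp.isIntegral_and_birational hI hb
    infer_instance
  · intro x
    refine Groth.Agent.H2.RegGen.regular_blowUp
      (Spec.map (CommRingCat.ofHom (Ideal.Quotient.mk (IsLocalRing.maximalIdeal A)))) ?_ ?_ b hb' x
    · intro p
      have := (Groth.Agent.H2.RegGen.regular_stalk_iff (𝟙 (Spec (CommRingCat.of A))) p)
      exact this.mpr (Groth.Agent.H1.Reg.isRegularLocalRing_localization A p.asIdeal)
    · intro p
      let _ : Field (A ⧸ IsLocalRing.maximalIdeal A) :=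
        Ideal.Quotient.field (IsLocalRing.maximalIdeal A)
      have hreg : IsRegularLocalRing (A ⧸ IsLocalRing.maximalIdeal A) := inferInstance
      have := (Groth.Agent.H2.RegGen.regular_stalk_iff
        (𝟙 (Spec (CommRingCat.of (A ⧸ IsLocalRing.maximalIdeal A)))) p)
      exact this.mpr (Groth.Agent.H1.Reg.isRegularLocalRing_localization _ p.asIdeal)

end Groth.Agent.S1622
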