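import Groth.Statements.S16220
import Mathlib
-- import your own Groth.Agent.* helpers here

set_option autoImplicit false
universe u v
open Disp

namespace Groth.Agent.S16220

theorem p_tors_free (p : ℕ) [Fact p.Prime] (k : Type u) [CommRing k]
    [CharP k p] [PerfectRing k p] (x : WittVector p k) (h : (p : WittVector p k) * x = 0) : x = 0 := by
  have h1 : WittVector.verschiebung (WittVector.frobenius x) = 0 := by
    rw [WittVector.verschiebung_frobenius, mul_comm]; exact h
  have h2 : WittVector.frobenius x = 0 := by
    apply WittVector.verschiebung_injective (p := p)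
    rw [h1, map_zero]
  apply (WittVector.frobenius_bijective p k).1
  rw [h2, map_zero]

theorem quot_tors (p : ℕ) [Fact p.Prime] (k : Type u) [CommRing k]
    [CharP k p] [PerfectRing k p] (n : ℕ) (hn : 1 ≤ n)
    (a : WittVector p k ⧸ Ideal.span {(p : WittVector p k) ^ n})
    (h : Ideal.Quotient.mk (Ideal.span {(p : WittVector p k) ^ n}) (p : WittVector p k) * a = 0) :
    ∃ b, a = Ideal.Quotient.mk (Ideal.span {(p : WittVector p k) ^ n}) ((p : WittVector p k) ^ (n - 1)) * b := by
  obtain ⟨x, rfl⟩ := Ideal.Quotient.mk_surjective a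
  rw [← map_mul, Ideal.Quotient.eq_zero_iff_mem, Ideal.mem_span_singleton'] at h
  obtain ⟨y, hy⟩ := h
  have hpn : (p : WittVector p k) ^ n = (p : WittVector p k) * (p : WittVector p k) ^ (n - 1) := by
    rw [← pow_succ']; congr 1; omega
  have : x = (p : WittVector p k) ^ (n - 1) * y := by
    have h0 : (p : WittVector p k) * (x - (p : WittVector p k) ^ (n - 1) * y) = 0 := by
      rw [mul_sub, ← mul_assoc, ← hpn, ← hy]; ring
    have := p_tors_free p k _ h0
    exact sub_eq_zero.mp this
  exact ⟨Ideal.Quotient.mk _ y, by rw [this, map_mul]⟩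

theorem mod_tors (p : ℕ) [Fact p.Prime] (k : Type u) [CommRing k]
    [CharP k p] [PerfectRing k p] (n : ℕ) (hn : 1 ≤ n)
    (M : Type v) [AddCommGroup M] [Module (WittVector p k) M]
    [Module (WittVector p k ⧸ Ideal.span {(p : WittVector p k) ^ n}) M] [IsScalarTower (WittVector p k) (WittVector p k ⧸ Ideal.span {(p : WittVector p k) ^ n}) M]
    [Module.Projective (WittVector p k ⧸ Ideal.span {(p : WittVector p k) ^ n}) M]
    (m : M) (h : (p : WittVector p k) • m = 0) : ∃ m' : M, m = (p : WittVector p k) ^ (n - 1) • m' := by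
  have conv : ∀ (w : WittVector p k) (z : M),
      (Ideal.Quotient.mk (Ideal.span {(p : WittVector p k) ^ n}) w) • z = w • z := by
    intro w z
    rw [← Ideal.Quotient.algebraMap_eq, algebraMap_smul]
  obtain ⟨s, hs⟩ := Module.projective_def'.mp ‹Module.Projective (WittVector p k ⧸ Ideal.span {(p : WittVector p k) ^ n}) M›
  have hsm : ∀ x, Ideal.Quotient.mk (Ideal.span {(p : WittVector p k) ^ n}) (p : WittVector p k) * (s m) x = 0 := by
    intro x
    have : s ((Ideal.Quotient.mk (Ideal.span {(p : WittVector p k) ^ n}) (p : WittVector p k)) • m) = 0 := by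
      rw [conv, h, map_zero]
    rw [map_smul] at this
    have := DFunLike.congr_fun this x
    simpa using this
  choose b hb using fun x => quot_tors p k n hn ((s m) x) (hsm x)
  refine ⟨∑ x ∈ (s m).support, b x • x, ?_⟩
  have hm : m = Finsupp.linearCombination _ id (s m) := by
    have := LinearMap.congr_fun hs m
    simpa using this.symm
  conv_lhs => rw [hm]
  rw [Finsupp.linearCombination_apply, Finsupp.sum, ← conv, Finset.smul_sum]
  apply Finset.sum_congr rfl
  intro x _
  rw [smul_smul, ← hb x]; rfl

/-- Let p be a prime and k a perfect ring of characteristic p, so that the Frobenius σ of W = W(k) is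
bijective, W has no p-torsion and W/p^n W = W_n(k) (the ideal p^n W is the kernel of the truncation
to length n). Let n ≥ 2 and let M be a truncated Dieudonné module of level n over k: a W-module on
which W acts through W/p^n W, finitely generated and projective over W/p^n W, with a σ-semilinear F
: M → M and a σ⁻¹-semilinear V : M → M such that FV = VF = p. Then on M/pM the kernel of F is the
image of V and the kernel of V is the image of F; stated inside M: the preimage of pM under F is VM
+ pM, and the preimage of pM under V is FM + pM. -/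
theorem result (p : ℕ) [Fact p.Prime] (k : Type u) [CommRing k]
    [CharP k p] [PerfectRing k p] (n : ℕ) (hn : 2 ≤ n)
    (M : Type v) [AddCommGroup M] [Module (WittVector p k) M]
    [Module (WittVector p k ⧸ Ideal.span {(p : WittVector p k) ^ n}) M] [IsScalarTower (WittVector p k) (WittVector p k ⧸ Ideal.span {(p : WittVector p k) ^ n}) M]
    [Module.Finite (WittVector p k ⧸ Ideal.span {(p : WittVector p k) ^ n}) M] [Module.Projective (WittVector p k ⧸ Ideal.span {(p : WittVector p k) ^ n}) M]
    (F : M →ₛₗ[(WittVector.frobenius : WittVector p k →+* WittVector p k)] M)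
    (V : M →ₛₗ[((WittVector.frobeniusEquiv p k).symm : WittVector p k →+* WittVector p k)] M)
    (hFV : ∀ m : M, F (V m) = (p : WittVector p k) • m) (hVF : ∀ m : M, V (F m) = (p : WittVector p k) • m) :
    (Ideal.span {(p : WittVector p k)} • (⊤ : Submodule (WittVector p k) M)).comap F =
        Submodule.span (WittVector p k) (Set.range V) ⊔ Ideal.span {(p : WittVector p k)} • (⊤ : Submodule (WittVector p k) M) ∧
      (Ideal.span {(p : WittVector p k)} • (⊤ : Submodule (WittVector p k) M)).comap V =
        Submodule.span (WittVector p k) (Set.range F) ⊔ Ideal.span {(p : WittVector p k)} • (⊤ : Submodule (WittVector p k) M) := by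
  have key := fun m h => mod_tors p k n (by omega) M m h
  have hp2 : ∀ z : M, (p : WittVector p k) ^ (n - 1) • z ∈
      Ideal.span {(p : WittVector p k)} • (⊤ : Submodule (WittVector p k) M) := by
    intro z
    have : (p : WittVector p k) ^ (n - 1) = (p : WittVector p k) * (p : WittVector p k) ^ (n - 2) := by
      rw [← pow_succ']; congr 1; omega
    rw [this, mul_smul]
    exact Submodule.smul_mem_smul (Ideal.mem_span_singleton_self _) trivial
  have hpM : ∀ x : M, x ∈ Ideal.span {(p : WittVector p k)} • (⊤ : Submodule (WittVector p k) M) ↔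
      ∃ y : M, x = (p : WittVector p k) • y := by
    intro x
    rw [Submodule.ideal_span_singleton_smul, Submodule.mem_smul_pointwise_iff_exists]
    constructor
    · rintro ⟨y, _, rfl⟩; exact ⟨y, rfl⟩
    · rintro ⟨y, rfl⟩; exact ⟨y, trivial, rfl⟩
  have hV1 : Submodule.span (WittVector p k) (Set.range V) ≤
      (Ideal.span {(p : WittVector p k)} • (⊤ : Submodule (WittVector p k) M)).comap F := by
    apply Submodule.span_le.mpr
    rintro _ ⟨y, rfl⟩
    rw [SetLike.mem_coe, Submodule.mem_comap, hFV]; exact (hpM _).mpr ⟨y, rfl⟩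
  have hF1 : Submodule.span (WittVector p k) (Set.range F) ≤
      (Ideal.span {(p : WittVector p k)} • (⊤ : Submodule (WittVector p k) M)).comap V := by
    apply Submodule.span_le.mpr
    rintro _ ⟨y, rfl⟩
    rw [SetLike.mem_coe, Submodule.mem_comap, hVF]; exact (hpM _).mpr ⟨y, rfl⟩
  constructor
  · ext m
    rw [Submodule.mem_comap]
    constructor
    · intro hm
      obtain ⟨m', hm'⟩ := (hpM _).mp hm
      have h0 : F (m - V m') = 0 := by rw [map_sub, hFV, hm', sub_self]
      have h1 : (p : WittVector p k) • (m - V m') = 0 := by rw [← hVF, h0, map_zero]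
      obtain ⟨z, hz⟩ := key _ h1
      have : m = V m' + (m - V m') := by abel
      rw [this]
      exact Submodule.add_mem_sup (Submodule.subset_span ⟨m', rfl⟩) (hz ▸ hp2 z)
    · intro hm
      obtain ⟨a, ha, b, hb, rfl⟩ := Submodule.mem_sup.mp hm
      rw [map_add]
      refine Submodule.add_mem _ (hV1 ha) ?_
      obtain ⟨y, rfl⟩ := (hpM _).mp hb
      rw [map_smulₛₗ, map_natCast]
      exact (hpM _).mpr ⟨_, rfl⟩
  · ext m
    rw [Submodule.mem_comap]
    constructor
    · intro hm
      obtain ⟨m', hm'⟩ := (hpM _).mp hm
      have h0 : V (m - F m') = 0 := by rw [map_sub, hVF, hm', sub_self]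
      have h1 : (p : WittVector p k) • (m - F m') = 0 := by rw [← hFV, h0, map_zero]
      obtain ⟨z, hz⟩ := key _ h1
      have : m = F m' + (m - F m') := by abel
      rw [this]
      exact Submodule.add_mem_sup (Submodule.subset_span ⟨m', rfl⟩) (hz ▸ hp2 z)
    · intro hm
      obtain ⟨a, ha, b, hb, rfl⟩ := Submodule.mem_sup.mp hm
      rw [map_add]
      refine Submodule.add_mem _ (hF1 ha) ?_
      obtain ⟨y, rfl⟩ := (hpM _).mp hb
      rw [map_smulₛₗ, map_natCast]
      exact (hpM _).mpr ⟨_, rfl⟩

end Groth.Agent.S16220
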