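import Groth.Statements.S1624
import Groth.Agent.Lib.Lead.BL.H1

set_option autoImplicit false
universe u
open CategoryTheory CategoryTheory.Limits AlgebraicGeometry
open Resolve

namespace Groth.Agent.S1624

/-- Let A be a regular local ring of dimension two and b : X → Spec A the blowing up in the maximal
ideal. If F is a quasi-coherent O_X-module which is globally generated, then H¹(X, F) = 0. -/
theorem result (A : Type u) [CommRing A] [IsRegularLocalRing A] (hA : ringKrullDim A = 2)
    (X : Scheme.{u}) (b : X ⟶ Spec (CommRingCat.of A)) (hb : BlowUp.IsBlowUp b (Curv2.idealSheaf A (IsLocalRing.maximalIdeal A)))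
    (F : X.Modules) (hF : Coh.IsQCoh F) (hgg : Curv2.IsGloballyGenerated F) : Subsingleton (Coh.HH X F 1) := by
  classical
  haveI : F.IsQuasicoherent := hF
  have hfg : (IsLocalRing.maximalIdeal A).FG := IsNoetherian.noetherian _
  obtain ⟨s, hcard, hs⟩ := Submodule.FG.exists_span_finset_card_eq_spanFinrank hfg
  have h2 : (IsLocalRing.maximalIdeal A).spanFinrank = 2 := by
    have h := IsRegularLocalRing.spanFinrank_maximalIdeal (R := A)
    rw [hA] at h
    exact_mod_cast h
  rw [h2] at hcard
  obtain ⟨x, y, -, rfl⟩ := Finset.card_eq_two.mp hcard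
  have hI : Ideal.span ({x, y} : Set A) = IsLocalRing.maximalIdeal A := by
    rw [← hs]; congr 1; ext; simp
  have hx : x ∈ IsLocalRing.maximalIdeal A := hI ▸ Ideal.subset_span (by simp)
  have hy : y ∈ IsLocalRing.maximalIdeal A := hI ▸ Ideal.subset_span (by simp)
  exact Groth.Agent.LD.BL.subsingleton_HH_one_of_globallyGenerated (IsLocalRing.maximalIdeal A)
    x y hx hy hI b hb F hgg

end Groth.Agent.S1624
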