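import Groth.Statements.S16244
import Mathlib
-- import your own Groth.Agent.* helpers here

set_option autoImplicit false
universe u
open Curves

namespace Groth.Agent.S16244

open WeierstrassCurve in
theorem aux (k : Type u) [Field k] [IsAlgClosed k] (h2 : (2 : k) ≠ 0) (h3 : (3 : k) ≠ 0)
    (W : WeierstrassCurve k) [W.IsShortNF] (n : ℕ) [NeZero n] [NeZero (n : k)]
    (hn : ∀ u : kˣ, ((u : k) ^ 4 * W.a₄ = W.a₄ ∧ (u : k) ^ 6 * W.a₆ = W.a₆) ↔ u ^ n = 1) :
    IsCyclic ↥(MulAction.stabilizer (WeierstrassCurve.VariableChange k) W) ∧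
      Nat.card ↥(MulAction.stabilizer (WeierstrassCurve.VariableChange k) W) = n := by
  have ha1 := W.a₁_of_isShortNF
  have ha2 := W.a₂_of_isShortNF
  have ha3 := W.a₃_of_isShortNF
  have hmem : ∀ C : VariableChange k, C ∈ MulAction.stabilizer (VariableChange k) W ↔
      C.r = 0 ∧ C.s = 0 ∧ C.t = 0 ∧ (C.u : k) ^ 4 * W.a₄ = W.a₄ ∧ (C.u : k) ^ 6 * W.a₆ = W.a₆ := by
    intro C
    rw [MulAction.mem_stabilizer_iff]
    have hv : (C.u : k) ≠ 0 := C.u.ne_zero
    constructor
    · intro h
      have e1 := congrArg WeierstrassCurve.a₁ h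
      have e2 := congrArg WeierstrassCurve.a₂ h
      have e3 := congrArg WeierstrassCurve.a₃ h
      have e4 := congrArg WeierstrassCurve.a₄ h
      have e6 := congrArg WeierstrassCurve.a₆ h
      rw [variableChange_a₁, ha1, Units.val_inv_eq_inv_val] at e1
      rw [variableChange_a₂, ha1, ha2, Units.val_inv_eq_inv_val] at e2
      rw [variableChange_a₃, ha1, ha3, Units.val_inv_eq_inv_val] at e3
      rw [variableChange_a₄, ha1, ha2, ha3, Units.val_inv_eq_inv_val] at e4
      rw [variableChange_a₆, ha1, ha2, ha3, Units.val_inv_eq_inv_val] at e6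
      have hs : C.s = 0 := by
        have : (C.u : k)⁻¹ ≠ 0 := inv_ne_zero hv
        have h' : 2 * C.s = 0 := by
          rcases mul_eq_zero.mp e1 with h' | h'
          · exact absurd h' this
          · simpa using h'
        exact (mul_eq_zero.mp h').resolve_left h2
      have hr : C.r = 0 := by
        rw [hs] at e2
        have : ((C.u : k)⁻¹) ^ 2 ≠ 0 := pow_ne_zero _ (inv_ne_zero hv)
        have h' : 3 * C.r = 0 := by
          rcases mul_eq_zero.mp e2 with h' | h'
          · exact absurd h' this
          · simpa using h'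
        exact (mul_eq_zero.mp h').resolve_left h3
      have ht : C.t = 0 := by
        rw [hr] at e3
        have : ((C.u : k)⁻¹) ^ 3 ≠ 0 := pow_ne_zero _ (inv_ne_zero hv)
        have h' : 2 * C.t = 0 := by
          rcases mul_eq_zero.mp e3 with h' | h'
          · exact absurd h' this
          · simpa using h'
        exact (mul_eq_zero.mp h').resolve_left h2
      refine ⟨hr, hs, ht, ?_, ?_⟩
      · rw [hr, hs, ht] at e4
        field_simp at e4
        linear_combination -e4
      · rw [hr, ht] at e6
        field_simp at e6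
        linear_combination -e6
    · rintro ⟨hr, hs, ht, h4, h6⟩
      ext
      · rw [variableChange_a₁, ha1, hs]; simp
      · rw [variableChange_a₂, ha1, ha2, hs, hr]; simp
      · rw [variableChange_a₃, ha1, ha3, hr, ht]; simp
      · rw [variableChange_a₄, ha1, ha2, ha3, hr, hs, ht, Units.val_inv_eq_inv_val]
        field_simp
        linear_combination -h4
      · rw [variableChange_a₆, ha1, ha2, ha3, hr, ht, Units.val_inv_eq_inv_val]
        field_simp
        linear_combination -h6
  let e : ↥(MulAction.stabilizer (VariableChange k) W) ≃* rootsOfUnity n k :=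
    { toFun := fun C => ⟨C.1.u, by
        rw [mem_rootsOfUnity]
        exact (hn _).mp ⟨((hmem C.1).mp C.2).2.2.2.1, ((hmem C.1).mp C.2).2.2.2.2⟩⟩
      invFun := fun ζ => ⟨⟨ζ.1, 0, 0, 0⟩, by
        rw [hmem]
        have := (hn ζ.1).mpr ((mem_rootsOfUnity _ _).mp ζ.2)
        exact ⟨rfl, rfl, rfl, this.1, this.2⟩⟩
      left_inv := fun C => by
        obtain ⟨hr, hs, ht, -, -⟩ := (hmem C.1).mp C.2
        apply Subtype.ext
        ext
        · rfl
        · exact hr.symm
        · exact hs.symm
        · exact ht.symm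
      right_inv := fun ζ => rfl
      map_mul' := fun C C' => rfl }
  constructor
  · exact isCyclic_of_surjective e.symm e.symm.surjective
  · rw [Nat.card_congr e.toEquiv]
    exact HasEnoughRootsOfUnity.natCard_rootsOfUnity k n

/-- Let k be an algebraically closed field in which 2 and 3 are nonzero, and W a short Weierstrass
equation y² = x³ + a₄x + a₆ over k with nonzero discriminant. The admissible changes of variables
(u, r, s, t) that fix W form a cyclic group, of order 6 when a₄ = 0, of order 4 when a₆ = 0, and of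
order 2 when a₄ and a₆ are both nonzero. (The published statement says the automorphism group of the
elliptic curve is cyclic of order 2, 4 or 6; the automorphisms are rendered here as the changes of
variables preserving the equation, and the case distinction is the one the computation gives.) -/
theorem result
    (k : Type u) [Field k] [IsAlgClosed k] (h2 : (2 : k) ≠ 0) (h3 : (3 : k) ≠ 0)
    (W : WeierstrassCurve k) [W.IsShortNF] (hΔ : W.Δ ≠ 0) :
    IsCyclic ↥(MulAction.stabilizer (WeierstrassCurve.VariableChange k) W) ∧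
      (W.a₄ = 0 → Nat.card ↥(MulAction.stabilizer (WeierstrassCurve.VariableChange k) W) = 6) ∧
      (W.a₆ = 0 → Nat.card ↥(MulAction.stabilizer (WeierstrassCurve.VariableChange k) W) = 4) ∧
      (W.a₄ ≠ 0 → W.a₆ ≠ 0 → Nat.card ↥(MulAction.stabilizer (WeierstrassCurve.VariableChange k) W) = 2) := by
  have hne : ¬ (W.a₄ = 0 ∧ W.a₆ = 0) := by
    rintro ⟨h4, h6⟩
    apply hΔ
    rw [WeierstrassCurve.Δ_of_isShortNF, h4, h6]; ring
  have h6k : (6 : k) ≠ 0 := by
    have : (6 : k) = 2 * 3 := by norm_num
    rw [this]; exact mul_ne_zero h2 h3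
  have h4k : (4 : k) ≠ 0 := by
    have : (4 : k) = 2 * 2 := by norm_num
    rw [this]; exact mul_ne_zero h2 h2
  have : NeZero ((6 : ℕ) : k) := ⟨by exact_mod_cast h6k⟩
  have : NeZero ((4 : ℕ) : k) := ⟨by exact_mod_cast h4k⟩
  have : NeZero ((2 : ℕ) : k) := ⟨by exact_mod_cast h2⟩
  have upow : ∀ (u : kˣ) (m : ℕ), u ^ m = 1 ↔ (u : k) ^ m = 1 := by
    intro u m
    rw [← Units.val_pow_eq_pow_val, Units.val_eq_one]
  have c6 : W.a₄ = 0 → IsCyclic ↥(MulAction.stabilizer (WeierstrassCurve.VariableChange k) W) ∧
      Nat.card ↥(MulAction.stabilizer (WeierstrassCurve.VariableChange k) W) = 6 := by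
    intro h4
    have h6 : W.a₆ ≠ 0 := fun h => hne ⟨h4, h⟩
    apply aux k h2 h3 W 6
    intro u
    rw [upow, h4]
    constructor
    · rintro ⟨-, h⟩
      have : ((u : k) ^ 6 - 1) * W.a₆ = 0 := by linear_combination h
      rcases mul_eq_zero.mp this with h' | h'
      · linear_combination h'
      · exact absurd h' h6
    · intro h
      exact ⟨by simp, by rw [h, one_mul]⟩
  have c4 : W.a₆ = 0 → IsCyclic ↥(MulAction.stabilizer (WeierstrassCurve.VariableChange k) W) ∧
      Nat.card ↥(MulAction.stabilizer (WeierstrassCurve.VariableChange k) W) = 4 := by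
    intro h6
    have h4 : W.a₄ ≠ 0 := fun h => hne ⟨h, h6⟩
    apply aux k h2 h3 W 4
    intro u
    rw [upow, h6]
    constructor
    · rintro ⟨h, -⟩
      have : ((u : k) ^ 4 - 1) * W.a₄ = 0 := by linear_combination h
      rcases mul_eq_zero.mp this with h' | h'
      · linear_combination h'
      · exact absurd h' h4
    · intro h
      exact ⟨by rw [h, one_mul], by simp⟩
  have c2 : W.a₄ ≠ 0 → W.a₆ ≠ 0 → IsCyclic ↥(MulAction.stabilizer (WeierstrassCurve.VariableChange k) W) ∧
      Nat.card ↥(MulAction.stabilizer (WeierstrassCurve.VariableChange k) W) = 2 := by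
    intro h4 h6
    apply aux k h2 h3 W 2
    intro u
    rw [upow]
    constructor
    · rintro ⟨h, h'⟩
      have e4 : (u : k) ^ 4 = 1 := by
        have : ((u : k) ^ 4 - 1) * W.a₄ = 0 := by linear_combination h
        rcases mul_eq_zero.mp this with h'' | h''
        · linear_combination h''
        · exact absurd h'' h4
      have e6 : (u : k) ^ 6 = 1 := by
        have : ((u : k) ^ 6 - 1) * W.a₆ = 0 := by linear_combination h'
        rcases mul_eq_zero.mp this with h'' | h''
        · linear_combination h''
        · exact absurd h'' h6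
      have : (u : k) ^ 6 = (u : k) ^ 4 * (u : k) ^ 2 := by ring
      rw [e6, e4, one_mul] at this
      exact this.symm
    · intro h
      have e4 : (u : k) ^ 4 = 1 := by
        have : (u : k) ^ 4 = ((u : k) ^ 2) ^ 2 := by ring
        rw [this, h, one_pow]
      have e6 : (u : k) ^ 6 = 1 := by
        have : (u : k) ^ 6 = ((u : k) ^ 2) ^ 3 := by ring
        rw [this, h, one_pow]
      exact ⟨by rw [e4, one_mul], by rw [e6, one_mul]⟩
  refine ⟨?_, fun h => (c6 h).2, fun h => (c4 h).2, fun h h' => (c2 h h').2⟩
  by_cases h4 : W.a₄ = 0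
  · exact (c6 h4).1
  · by_cases h6 : W.a₆ = 0
    · exact (c4 h6).1
    · exact (c2 h4 h6).1

end Groth.Agent.S16244
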