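import Groth.Statements.S1630
import Mathlib

set_option autoImplicit false
universe u
open CategoryTheory CategoryTheory.Limits AlgebraicGeometry
open Variety

namespace Groth.Agent.S1630

lemma irreducibleSpace_of_cover {Z : Type*} [TopologicalSpace Z] {ι : Type*} (hne : Nonempty ι)
    (V : ι → Set Z) (hVo : ∀ i, IsOpen (V i)) (hcov : ⋃ i, V i = Set.univ)
    (hirr : ∀ i, IsIrreducible (V i)) (hmeet : ∀ i j, (V i ∩ V j).Nonempty) :
    IrreducibleSpace Z := by
  obtain ⟨i0⟩ := hne
  have hnonempty : Nonempty Z := by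
    obtain ⟨z, _⟩ := (hirr i0).1
    exact ⟨z⟩
  have hpre : PreirreducibleSpace Z := by
    refine ⟨?_⟩
    intro u v hu hv ⟨x, _, hxu⟩ ⟨y, _, hyv⟩
    have hx : x ∈ ⋃ i, V i := hcov ▸ Set.mem_univ x
    have hy : y ∈ ⋃ i, V i := hcov ▸ Set.mem_univ y
    obtain ⟨i, hxi⟩ := Set.mem_iUnion.1 hx
    obtain ⟨j, hyj⟩ := Set.mem_iUnion.1 hy
    obtain ⟨w, hwi, hwu, hwj⟩ := (hirr i).2 u (V j) hu (hVo j) ⟨x, hxi, hxu⟩ (hmeet i j)
    obtain ⟨w', hw'j, hw'u, hw'v⟩ := (hirr j).2 u v hu hv ⟨w, hwj, hwu⟩ ⟨y, hyj, hyv⟩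
    exact ⟨w', Set.mem_univ _, hw'u, hw'v⟩
  exact { toPreirreducibleSpace := hpre, toNonempty := hnonempty }

/-- Let X be a scheme over k. If X has a cover by a nonempty family of open subschemes, each
geometrically irreducible over k and any two of which meet, then X is geometrically irreducible over
k. -/
theorem result (k : Type u) [Field k] (X : Scheme.{u}) [X.Over (Spec (CommRingCat.of k))]
    (ι : Type u) (U : ι → X.Opens) (hne : Nonempty ι) (hcov : (⨆ i, U i) = ⊤)
    (hmeet : ∀ i j, ((U i : Set X) ∩ (U j : Set X)).Nonempty)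
    (hU : ∀ i, GeometricallyIrreducible ((U i).ι ≫ (X ↘ (Spec (CommRingCat.of k))))) : GeometricallyIrreducible (X ↘ (Spec (CommRingCat.of k))) := by
  refine ⟨fun K _ y Z fst snd hpb => ?_⟩
  -- fst is surjective
  have hysurj : Surjective y := by
    refine ⟨fun x => ?_⟩
    have : Nonempty (Spec (CommRingCat.of K)) := inferInstance
    obtain ⟨z⟩ := this
    exact ⟨z, Subsingleton.elim _ _⟩
  have hfstsurj : Surjective fst := MorphismProperty.of_isPullback (P := @Surjective) hpb.flip hysurj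
  -- the cover
  let V : ι → Z.Opens := fun i => fst ⁻¹ᵁ (U i)
  have hVirr : ∀ i, IsIrreducible (V i : Set Z) := by
    intro i
    have sq1 := isPullback_morphismRestrict fst (U i)
    have sq2 := sq1.paste_vert hpb
    have : IrreducibleSpace ↥(V i) :=
      (hU i).geometrically_irreducibleSpace y _ _ sq2
    have h1 : IsIrreducible (Set.univ : Set ↥(V i)) := IrreducibleSpace.isIrreducible_univ _
    have h2 := h1.image (V i).ι (V i).ι.continuous.continuousOn
    rw [Set.image_univ] at h2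
    have h3 : Set.range (V i).ι = (V i : Set Z) := Scheme.Opens.range_ι (V i)
    rw [← h3]
    exact h2
  refine irreducibleSpace_of_cover hne (fun i => (V i : Set Z)) (fun i => (V i).2) ?_ hVirr ?_
  · rw [Set.eq_univ_iff_forall]
    intro z
    have : fst z ∈ (⨆ i, U i : X.Opens) := by rw [hcov]; trivial
    rw [TopologicalSpace.Opens.mem_iSup] at this
    obtain ⟨i, hi⟩ := this
    exact Set.mem_iUnion.2 ⟨i, hi⟩
  · intro i j
    obtain ⟨x, hxi, hxj⟩ := hmeet i j
    obtain ⟨z, rfl⟩ := hfstsurj.surj x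
    exact ⟨z, hxi, hxj⟩

end Groth.Agent.S1630
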