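import Groth.Statements.S16312
import Mathlib
-- import your own Groth.Agent.* helpers here

set_option autoImplicit false
universe u
open W4c3irrattreebun

namespace Groth.Agent.S16312

/-- Let N be a closed cone in real n-space, f a function continuous on N, positive at the nonzero points
of N and homogeneous of degree one under scaling by nonnegative reals, and Λ a discrete additive
subgroup. Then for every real c the set of points H of Λ lying in N with f(H) ≤ c is finite. (The
published statement takes Λ to be a lattice; this row allows any discrete additive subgroup.) -/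
theorem result (n : ℕ)
    (N : Set (EuclideanSpace ℝ (Fin n))) (hN : IsClosed N)
    (hcone : ∀ x ∈ N, ∀ r : ℝ, 0 ≤ r → r • x ∈ N)
    (f : EuclideanSpace ℝ (Fin n) → ℝ) (hf : ContinuousOn f N)
    (hpos : ∀ x ∈ N, x ≠ 0 → 0 < f x)
    (hhom : ∀ x ∈ N, ∀ r : ℝ, 0 ≤ r → f (r • x) = r * f x)
    (Λ : Submodule ℤ (EuclideanSpace ℝ (Fin n))) [DiscreteTopology Λ] (c : ℝ) :
    ({x : EuclideanSpace ℝ (Fin n) | x ∈ N ∧ f x ≤ c} ∩ (Λ : Set (EuclideanSpace ℝ (Fin n)))).Finite := by
  classical
  have hΛclosed : IsClosed (Λ : Set (EuclideanSpace ℝ (Fin n))) := by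
    rw [← Submodule.coe_toAddSubgroup]
    exact AddSubgroup.isClosed_of_discrete
  have hdisc : IsDiscrete (Λ : Set (EuclideanSpace ℝ (Fin n))) := DiscreteTopology.isDiscrete
  -- the sphere part
  set Sph : Set (EuclideanSpace ℝ (Fin n)) := N ∩ Metric.sphere (0 : EuclideanSpace ℝ (Fin n)) 1 with hSph
  have hSphc : IsCompact Sph := by
    rw [hSph, Set.inter_comm]
    exact (isCompact_sphere (0 : EuclideanSpace ℝ (Fin n)) 1).inter_right hN
  have hunit : ∀ x ∈ N, x ≠ 0 → ‖x‖⁻¹ • x ∈ Sph := by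
    intro x hx hx0
    refine ⟨hcone x hx _ (inv_nonneg.mpr (norm_nonneg _)), ?_⟩
    rw [mem_sphere_zero_iff_norm, norm_smul, norm_inv, norm_norm, inv_mul_cancel₀ (norm_ne_zero_iff.mpr hx0)]
  by_cases hne : Sph.Nonempty
  · obtain ⟨x₀, hx₀, hmin⟩ := hSphc.exists_isMinOn hne (hf.mono Set.inter_subset_left)
    have hx₀0 : x₀ ≠ 0 := by
      intro h
      have := hx₀.2
      rw [h, mem_sphere_zero_iff_norm, norm_zero] at this
      exact zero_ne_one this
    have hm : 0 < f x₀ := hpos x₀ hx₀.1 hx₀0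
    have hbound : ∀ x ∈ N, f x ≤ c → ‖x‖ ≤ |c| / f x₀ := by
      intro x hx hfx
      by_cases hx0 : x = 0
      · rw [hx0, norm_zero]; positivity
      · have hu := hunit x hx hx0
        have h1 : f x₀ ≤ f (‖x‖⁻¹ • x) := hmin hu
        have h2 : f x = ‖x‖ * f (‖x‖⁻¹ • x) := by
          rw [← hhom _ hu.1 ‖x‖ (norm_nonneg _), smul_smul, mul_inv_cancel₀ (norm_ne_zero_iff.mpr hx0),
            one_smul]
        rw [le_div_iff₀ hm]
        calc ‖x‖ * f x₀ ≤ ‖x‖ * f (‖x‖⁻¹ • x) := by gcongr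
          _ = f x := h2.symm
          _ ≤ c := hfx
          _ ≤ |c| := le_abs_self c
    refine Set.Finite.subset (Metric.finite_isBounded_inter_isClosed hdisc
      (Metric.isBounded_closedBall (x := (0 : EuclideanSpace ℝ (Fin n))) (r := |c| / f x₀)) hΛclosed) ?_
    rintro x ⟨⟨hxN, hfx⟩, hxΛ⟩
    exact ⟨by rw [mem_closedBall_zero_iff]; exact hbound x hxN hfx, hxΛ⟩
  · refine Set.Finite.subset (Set.finite_singleton (0 : EuclideanSpace ℝ (Fin n))) ?_
    rintro x ⟨⟨hxN, -⟩, -⟩
    by_contra hx0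
    exact hne ⟨_, hunit x hxN hx0⟩

end Groth.Agent.S16312
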