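import Groth.Statements.S16325
import Mathlib
import Groth.Agent.Lib.Lead.HomElem

set_option autoImplicit false
universe u v
open CategoryTheory
open W4c3biextchow

namespace Groth.Agent.S16325

/-- Let f : C ⟶ D be a chain map of ℕ-indexed chain complexes of modules over a ring R, and consider the
functor it induces between the groupoids attached to C and D (objects: degree-0 elements; morphisms
a ⟶ b: degree-1 elements with boundary b - a, modulo boundaries of degree-2 elements). This functor
is faithful if and only if f is injective on homology in degree 1. (The published statement is for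
complexes of abelian groups; this row allows modules over any ring R.) -/
theorem result
    (R : Type u) [Ring R] (C D : ChainComplex (ModuleCat.{v} R) ℕ) (f : C ⟶ D) :
    (W4c3biextchow.cxFunctor f).Faithful ↔ Mono (HomologicalComplex.homologyMap f 1) := by
  rw [Groth.Agent.LD.HomElem.mono_homologyMap_iff_elem f 2 1 0 (by simp) (by simp)]
  constructor
  · intro hF z hz ⟨w, hw⟩
    -- morphisms 0 ⟶ 0 with classes [z] and 0
    let a : Obj C := ⟨0⟩
    let φ : a ⟶ a := ⟨Submodule.Quotient.mk z, by simp [a, hz]⟩
    have heq : (cxFunctor f).map φ = (cxFunctor f).map (𝟙 a) := by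
      apply W4c3biextchow.Hom.ext
      rw [cxFunctor_map_cl, cxFunctor_map_cl]
      show q1Map f (Submodule.Quotient.mk z) = q1Map f 0
      rw [q1Map_mk, map_zero, Submodule.Quotient.mk_eq_zero]
      exact ⟨w, hw⟩
    have h2 := hF.map_injective heq
    have h3 : (Submodule.Quotient.mk z : Q1 C) = 0 := congrArg W4c3biextchow.Hom.cl h2
    rw [Submodule.Quotient.mk_eq_zero] at h3
    exact h3
  · intro hel
    constructor
    intro a b φ ψ hφψ
    apply W4c3biextchow.Hom.ext
    have h1 : q1Map f (φ : W4c3biextchow.Hom C a b).cl = q1Map f (ψ : W4c3biextchow.Hom C a b).cl := by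
      have := congrArg W4c3biextchow.Hom.cl hφψ
      simpa using this
    obtain ⟨x, hx⟩ := Submodule.Quotient.mk_surjective _ (φ : W4c3biextchow.Hom C a b).cl
    obtain ⟨y, hy⟩ := Submodule.Quotient.mk_surjective _ (ψ : W4c3biextchow.Hom C a b).cl
    have hd : (C.d 1 0).hom (x - y) = 0 := by
      have e1 := (φ : W4c3biextchow.Hom C a b).delta_cl
      have e2 := (ψ : W4c3biextchow.Hom C a b).delta_cl
      rw [← hx, delta_mk] at e1
      rw [← hy, delta_mk] at e2
      rw [map_sub, e1, e2, sub_self]
    have hr : ∃ w : D.X 2, (D.d 2 1).hom w = (f.f 1).hom (x - y) := by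
      rw [← hx, ← hy, q1Map_mk, q1Map_mk, Submodule.Quotient.eq] at h1
      obtain ⟨w, hw⟩ := h1
      exact ⟨w, by rw [hw, map_sub]⟩
    obtain ⟨t, ht⟩ := hel (x - y) hd hr
    rw [← hx, ← hy, Submodule.Quotient.eq]
    exact ⟨t, ht⟩

end Groth.Agent.S16325
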