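import Groth.Statements.S16326
import Mathlib
import Groth.Agent.Lib.Lead.HomElem

set_option autoImplicit false
universe u v
open CategoryTheory
open W4c3biextchow

namespace Groth.Agent.S16326

/-- Let f : C ⟶ D be a chain map of ℕ-indexed chain complexes of modules over a ring R, and consider the
functor it induces between the groupoids attached to C and D (objects: degree-0 elements; morphisms
a ⟶ b: degree-1 elements with boundary b - a, modulo boundaries of degree-2 elements). This functor
is full if and only if f is surjective on homology in degree 1 and injective on homology in degree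
0. (The published statement is for complexes of abelian groups; this row allows modules over any
ring R.) -/
theorem result
    (R : Type u) [Ring R] (C D : ChainComplex (ModuleCat.{v} R) ℕ) (f : C ⟶ D) :
    (W4c3biextchow.cxFunctor f).Full ↔
      Epi (HomologicalComplex.homologyMap f 1) ∧ Mono (HomologicalComplex.homologyMap f 0) := by
  rw [Groth.Agent.LD.HomElem.epi_homologyMap_iff_elem f 2 1 0 (by simp) (by simp),
    Groth.Agent.LD.HomElem.mono_homologyMap_iff_elem f 1 0 0 (by simp) (by simp)]
  constructor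
  · intro hF
    constructor
    · intro y hy
      let a : Obj C := ⟨0⟩
      let u : (cxFunctor f).obj a ⟶ (cxFunctor f).obj a := ⟨Submodule.Quotient.mk y, by simp [hy]⟩
      obtain ⟨φ, hφ⟩ := hF.map_surjective u
      obtain ⟨z, hz⟩ := Submodule.Quotient.mk_surjective _ (φ : W4c3biextchow.Hom C a a).cl
      have h1 := (φ : W4c3biextchow.Hom C a a).delta_cl
      rw [← hz, delta_mk] at h1
      have h2 : q1Map f (φ : W4c3biextchow.Hom C a a).cl = Submodule.Quotient.mk y :=
        congrArg W4c3biextchow.Hom.cl hφ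
      rw [← hz, q1Map_mk, Submodule.Quotient.eq] at h2
      obtain ⟨w, hw⟩ := h2
      refine ⟨z, by simpa [a] using h1, -w, ?_⟩
      rw [map_neg, hw]; abel
    · intro z _ ⟨w, hw⟩
      let a : Obj C := ⟨0⟩
      let b : Obj C := ⟨z⟩
      let u : (cxFunctor f).obj a ⟶ (cxFunctor f).obj b := ⟨Submodule.Quotient.mk w, by simp [a, b, hw]⟩
      obtain ⟨φ, hφ⟩ := hF.map_surjective u
      obtain ⟨x, hx⟩ := Submodule.Quotient.mk_surjective _ (φ : W4c3biextchow.Hom C a b).cl
      have h1 := (φ : W4c3biextchow.Hom C a b).delta_cl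
      rw [← hx, delta_mk] at h1
      exact ⟨x, by simpa [a, b] using h1⟩
  · rintro ⟨hE, hM⟩
    constructor
    intro a b u
    obtain ⟨y, hy⟩ := Submodule.Quotient.mk_surjective _ (u : W4c3biextchow.Hom D _ _).cl
    have h1 := (u : W4c3biextchow.Hom D _ _).delta_cl
    rw [← hy, delta_mk, cxFunctor_obj_pt, cxFunctor_obj_pt, ← map_sub] at h1
    obtain ⟨x, hx⟩ := hM (b.pt - a.pt) (by simp) ⟨y, h1⟩
    have hcyc : (D.d 1 0).hom (y - (f.f 1).hom x) = 0 := by
      have hc := congrArg (fun ψ => (ModuleCat.Hom.hom ψ) x) (f.comm 1 0)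
      simp only [ModuleCat.hom_comp, LinearMap.comp_apply] at hc
      rw [map_sub, h1, hc, hx, sub_self]
    obtain ⟨z₁, hz₁, w₂, hw₂⟩ := hE (y - (f.f 1).hom x) hcyc
    refine ⟨⟨Submodule.Quotient.mk (x + z₁), by rw [delta_mk, map_add, hx, hz₁, add_zero]⟩, ?_⟩
    apply W4c3biextchow.Hom.ext
    rw [cxFunctor_map_cl]
    show q1Map f (Submodule.Quotient.mk (x + z₁)) = _
    rw [← hy, q1Map_mk, Submodule.Quotient.eq]
    refine ⟨-w₂, ?_⟩
    rw [map_neg, map_add]
    have : (D.d 2 1).hom w₂ = y - (f.f 1).hom x - (f.f 1).hom z₁ := by rw [hw₂]; abel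
    rw [this]; abel

end Groth.Agent.S16326
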