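import Groth.Statements.S16327
import Mathlib
import Groth.Agent.Lib.Lead.HomElem

set_option autoImplicit false
universe u v
open CategoryTheory
open W4c3biextchow

namespace Groth.Agent.S16327

/-- Let f : C ⟶ D be a chain map of ℕ-indexed chain complexes of modules over a ring R, and consider the
functor it induces between the groupoids attached to C and D (objects: degree-0 elements; morphisms
a ⟶ b: degree-1 elements with boundary b - a, modulo boundaries of degree-2 elements). This functor
is essentially surjective if and only if f is surjective on homology in degree 0. (The published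
statement is for complexes of abelian groups; this row allows modules over any ring R.) -/
theorem result
    (R : Type u) [Ring R] (C D : ChainComplex (ModuleCat.{v} R) ℕ) (f : C ⟶ D) :
    (W4c3biextchow.cxFunctor f).EssSurj ↔ Epi (HomologicalComplex.homologyMap f 0) := by
  rw [Groth.Agent.LD.HomElem.epi_homologyMap_iff_elem f 1 0 0 (by simp) (by simp)]
  constructor
  · intro hF y _
    obtain ⟨a, ⟨e⟩⟩ := hF.mem_essImage ⟨y⟩
    obtain ⟨w, hw⟩ := Submodule.Quotient.mk_surjective _ (e.hom : W4c3biextchow.Hom D _ _).cl
    have h1 := (e.hom : W4c3biextchow.Hom D _ _).delta_cl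
    rw [← hw, delta_mk] at h1
    refine ⟨a.pt, by simp, w, ?_⟩
    rw [h1]
    simp
  · intro hel
    constructor
    intro b
    obtain ⟨z, -, w, hw⟩ := hel b.pt (by simp)
    refine ⟨⟨z⟩, ⟨?_⟩⟩
    have hδ : delta D (Submodule.Quotient.mk w) = b.pt - ((cxFunctor f).obj ⟨z⟩).pt := by
      rw [delta_mk, cxFunctor_obj_pt, hw]; abel
    have hδ' : delta D (-(Submodule.Quotient.mk w)) = ((cxFunctor f).obj ⟨z⟩).pt - b.pt := by
      rw [map_neg, hδ]; abel
    exact { hom := ⟨Submodule.Quotient.mk w, hδ⟩
            inv := ⟨-(Submodule.Quotient.mk w), hδ'⟩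
            hom_inv_id := W4c3biextchow.Hom.ext (by simp)
            inv_hom_id := W4c3biextchow.Hom.ext (by simp) }

end Groth.Agent.S16327
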