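import Groth.Statements.S16331
import Mathlib
import Groth.Agent.Lib.Lead.FreeCx

set_option autoImplicit false
universe v
open CategoryTheory
open W4c3biextchow

namespace Groth.Agent.S16331

/-- Let f : A' ⟶ A be a chain map of ℕ-indexed chain complexes of free abelian groups which is injective
in every degree, with free degreewise quotients A_q / f(A'_q), and a quasi-isomorphism; let h' : A'
⟶ B be a chain map to another complex of free abelian groups and g₁, g₂ : A ⟶ A' two chain maps with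
f ≫ g₁ = f ≫ g₂ = 𝟙. Consider the functors induced by g₁ ≫ h' and g₂ ≫ h' between the groupoids
attached to A and B (objects: degree-0 elements; morphisms a ⟶ b: degree-1 elements with boundary b
- a, modulo boundaries of degree-2 elements). Then there is a natural isomorphism between these two
functors whose component at every object of the form f(a'), a' a degree-0 element of A', is the zero
class, i.e. the identity morphism of h'(a'). -/
theorem result
    (A' A B : ChainComplex (ModuleCat.{v} ℤ) ℕ) (f : A' ⟶ A) (h' : A' ⟶ B)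
    [∀ q, Module.Free ℤ (A'.X q)] [∀ q, Module.Free ℤ (A.X q)] [∀ q, Module.Free ℤ (B.X q)]
    (hf : ∀ q, Function.Injective (f.f q).hom)
    (hq : ∀ q, Module.Free ℤ ((A.X q) ⧸ LinearMap.range (f.f q).hom)) [QuasiIso f]
    (g₁ g₂ : A ⟶ A') (h₁ : f ≫ g₁ = 𝟙 A') (h₂ : f ≫ g₂ = 𝟙 A') :
    ∃ N : W4c3biextchow.cxFunctor (g₁ ≫ h') ≅ W4c3biextchow.cxFunctor (g₂ ≫ h'),
      ∀ a : W4c3biextchow.Obj A',
        (N.hom.app ((W4c3biextchow.cxFunctor f).obj a) : W4c3biextchow.Hom B _ _).cl = 0 := by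
  classical
  have hproj : ∀ q, @Module.Projective ℤ _ (A.X q ⧸ LinearMap.range (f.f q).hom) _
      (Submodule.Quotient.module (LinearMap.range (f.f q).hom)) := fun q => by
    have h1 : @Module.Free ℤ (A.X q ⧸ LinearMap.range (f.f q).hom) _ _
        (Submodule.Quotient.module (LinearMap.range (f.f q).hom)) := by
      convert hq q
      · rfl
      · exact Subsingleton.elim _ _
    infer_instance
  obtain ⟨H, hH⟩ := Groth.Agent.LD.FreeCx.exists_homotopy (hproj := hproj) A' A f hf g₁ g₂ h₁ h₂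
  let H₀ : A.X 0 →ₗ[ℤ] A'.X 1 := (H.hom 0 1).hom
  let H₁ : A.X 1 →ₗ[ℤ] A'.X 2 := (H.hom 1 2).hom
  have hc0 : ∀ a : A.X 0, (g₁.f 0).hom a = (A'.d 1 0).hom (H₀ a) + (g₂.f 0).hom a := by
    intro a
    have := H.comm 0
    rw [Homotopy.dNext_zero_chainComplex, Homotopy.prevD_chainComplex, zero_add] at this
    have h2 := congrArg (fun ψ => (ModuleCat.Hom.hom ψ) a) this
    simpa using h2
  have hc1 : ∀ x : A.X 1, (g₁.f 1).hom x = H₀ ((A.d 1 0).hom x) + (A'.d 2 1).hom (H₁ x) + (g₂.f 1).hom x := by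
    intro x
    have := H.comm 1
    rw [Homotopy.dNext_succ_chainComplex, Homotopy.prevD_chainComplex] at this
    have h2 := congrArg (fun ψ => (ModuleCat.Hom.hom ψ) x) this
    simpa using h2
  have hHf : ∀ a' : A'.X 0, H₀ ((f.f 0).hom a') = 0 := by
    intro a'
    have h2 := congrArg (fun ψ => (ModuleCat.Hom.hom ψ) a') (hH 0 1)
    simpa using h2
  have hcomm10 : ∀ y : A'.X 1, (B.d 1 0).hom ((h'.f 1).hom y) = (h'.f 0).hom ((A'.d 1 0).hom y) :=
    fun y => Groth.Agent.LD.FreeCx.comm_elem h' 1 0 y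
  have hcomm21 : ∀ y : A'.X 2, (B.d 2 1).hom ((h'.f 2).hom y) = (h'.f 1).hom ((A'.d 2 1).hom y) :=
    fun y => Groth.Agent.LD.FreeCx.comm_elem h' 2 1 y
  -- components
  have hδ : ∀ a : Obj A, delta B (-(Submodule.Quotient.mk ((h'.f 1).hom (H₀ a.pt)))) =
      ((cxFunctor (g₂ ≫ h')).obj a).pt - ((cxFunctor (g₁ ≫ h')).obj a).pt := by
    intro a
    rw [map_neg, delta_mk, hcomm10, cxFunctor_obj_pt, cxFunctor_obj_pt]
    simp only [HomologicalComplex.comp_f, ModuleCat.hom_comp, LinearMap.comp_apply]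
    rw [hc0 a.pt, map_add]; abel
  have hδ' : ∀ a : Obj A, delta B (Submodule.Quotient.mk ((h'.f 1).hom (H₀ a.pt))) =
      ((cxFunctor (g₁ ≫ h')).obj a).pt - ((cxFunctor (g₂ ≫ h')).obj a).pt := by
    intro a
    have := hδ a
    rw [map_neg] at this
    rw [← neg_sub, ← this, neg_neg]
  let comp : ∀ a : Obj A, (cxFunctor (g₁ ≫ h')).obj a ≅ (cxFunctor (g₂ ≫ h')).obj a := fun a =>
    { hom := ⟨-(Submodule.Quotient.mk ((h'.f 1).hom (H₀ a.pt))), hδ a⟩
      inv := ⟨Submodule.Quotient.mk ((h'.f 1).hom (H₀ a.pt)), hδ' a⟩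
      hom_inv_id := W4c3biextchow.Hom.ext (by simp)
      inv_hom_id := W4c3biextchow.Hom.ext (by simp) }
  refine ⟨NatIso.ofComponents comp ?_, ?_⟩
  · intro a b φ
    apply W4c3biextchow.Hom.ext
    obtain ⟨x, hx⟩ := Submodule.Quotient.mk_surjective _ (φ : W4c3biextchow.Hom A a b).cl
    have hdx := (φ : W4c3biextchow.Hom A a b).delta_cl
    rw [← hx, delta_mk] at hdx
    rw [comp_cl, comp_cl, cxFunctor_map_cl, cxFunctor_map_cl, ← hx, q1Map_mk, q1Map_mk]
    show Submodule.Quotient.mk _ + -(Submodule.Quotient.mk _) = -(Submodule.Quotient.mk _) + Submodule.Quotient.mk _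
    rw [← Submodule.Quotient.mk_neg, ← Submodule.Quotient.mk_neg, ← Submodule.Quotient.mk_add,
      ← Submodule.Quotient.mk_add, Submodule.Quotient.eq]
    refine ⟨(h'.f 2).hom (H₁ x), ?_⟩
    rw [hcomm21]
    simp only [HomologicalComplex.comp_f, ModuleCat.hom_comp, LinearMap.comp_apply]
    rw [hc1 x, hdx]
    simp only [map_add, map_sub]
    abel
  · intro a
    show -(Submodule.Quotient.mk ((h'.f 1).hom (H₀ ((cxFunctor f).obj a).pt))) = 0
    rw [cxFunctor_obj_pt, hHf, map_zero]
    simp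

end Groth.Agent.S16331
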