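import Groth.Statements.S16335
import Mathlib.Tactic
import Mathlib.RingTheory.TensorProduct.Basic
import Mathlib.LinearAlgebra.TensorProduct.Basic
-- import your own Groth.Agent.* helpers here

set_option autoImplicit false
universe u v w w'
open TensorProduct
open InvTh

namespace Groth.Agent.S16335

/-- Let `R` be a commutative ring with an action of a finite group `Γ` by ring automorphisms such that
the order of `Γ` is invertible in `R`, and let `A → R` be injective with image exactly the
invariants `R^Γ`, the action being `A`-linear. Then for every commutative `A`-algebra `S`, with `Γ`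
acting on `S ⊗_A R` through the factor `R`, the map `S → S ⊗_A R`, `s ↦ s ⊗ 1`, is injective and its
image is exactly the set of `Γ`-fixed elements: `S ≅ (S ⊗_A R)^Γ`. No flatness of `S` over `A` is
assumed; the invertibility of the order of `Γ` replaces it. This is the affine statement that for a
tame quotient the coarse space commutes with arbitrary base change. (The published lemma is the
statement that the coarse moduli space of a tame Deligne–Mumford stack commutes with arbitrary base
change, whose proof reduces to this ring statement. The published lemma also asserts the analogous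
statement for the reduced fibre product when the base-change scheme is reduced; that clause is not
part of this row.) -/
theorem result
    (A : Type u) [CommRing A] (R : Type v) [CommRing R] [Algebra A R]
    (Γ : Type w) [Group Γ] [Finite Γ] [MulSemiringAction Γ R] [SMulCommClass Γ A R]
    [Algebra.IsInvariant A R Γ] (hinj : Function.Injective (algebraMap A R))
    (hΓ : IsUnit (Nat.card Γ : R))
    (S : Type w') [CommRing S] [Algebra A S] :
    Function.Injective (fun s : S => s ⊗ₜ[A] (1 : R)) ∧
      ∀ x : S ⊗[A] R,
        (∀ γ : Γ, Algebra.TensorProduct.map (AlgHom.id A S) (MulSemiringAction.toAlgHom A R γ) x = x) →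
          x ∈ Set.range (fun s : S => s ⊗ₜ[A] (1 : R)) := by
  classical
  have : Fintype Γ := Fintype.ofFinite Γ
  obtain ⟨c, hc⟩ := hΓ.exists_left_inv
  have hnat : ∀ (γ : Γ) (n : ℕ), γ • (n : R) = n := fun γ n =>
    map_natCast (MulSemiringAction.toRingHom Γ R γ) n
  have hcfix : ∀ γ : Γ, γ • c = c := by
    intro γ
    have h1 : γ • c * (Nat.card Γ : R) = 1 := by
      rw [← hnat γ, ← smul_mul', hc, smul_one]
    calc γ • c = γ • c * (c * (Nat.card Γ : R)) := by rw [hc, mul_one]
      _ = (γ • c * (Nat.card Γ : R)) * c := by ring
      _ = c := by rw [h1, one_mul]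
  obtain ⟨c₀, hc₀⟩ := Algebra.IsInvariant.isInvariant (A := A) (G := Γ) c hcfix
  have hc₀' : c₀ * (Nat.card Γ : A) = 1 := by
    apply hinj
    rw [map_mul, map_natCast, hc₀, hc, map_one]
  -- the averaging operator
  let avgL : R →ₗ[A] R := c₀ • ∑ γ : Γ, (MulSemiringAction.toAlgHom A R γ).toLinearMap
  have havg : ∀ r : R, avgL r = c₀ • ∑ γ : Γ, γ • r := by
    intro r
    simp only [avgL, LinearMap.smul_apply, LinearMap.sum_apply, AlgHom.toLinearMap_apply,
      MulSemiringAction.toAlgHom_apply]
  have hfix : ∀ (r : R) (γ : Γ), γ • avgL r = avgL r := by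
    intro r γ
    rw [havg, smul_comm, Finset.smul_sum]
    congr 1
    refine Fintype.sum_equiv (Equiv.mulLeft γ) _ _ ?_
    intro δ
    simp [mul_smul]
  have hrange : ∀ r : R, avgL r ∈ LinearMap.range (Algebra.linearMap A R) := by
    intro r
    obtain ⟨a, ha⟩ := Algebra.IsInvariant.isInvariant (A := A) (G := Γ) (avgL r) (hfix r)
    exact ⟨a, ha⟩
  let ρ : R →ₗ[A] A := (LinearEquiv.ofInjective (Algebra.linearMap A R) hinj).symm.toLinearMap ∘ₗ
    (avgL.codRestrict (LinearMap.range (Algebra.linearMap A R)) hrange)
  have hρ : ∀ r : R, algebraMap A R (ρ r) = avgL r := by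
    intro r
    have := (LinearEquiv.ofInjective (Algebra.linearMap A R) hinj).apply_symm_apply
      (avgL.codRestrict (LinearMap.range (Algebra.linearMap A R)) hrange r)
    have h2 := congrArg Subtype.val this
    exact h2
  have hsum1 : ∀ (y : R), c₀ • ∑ _γ : Γ, y = y := by
    intro y
    rw [Finset.sum_const, Finset.card_univ, ← Nat.card_eq_fintype_card, ← Nat.cast_smul_eq_nsmul A,
      smul_smul, hc₀', one_smul]
  have hsum2 : ∀ (y : S ⊗[A] R), c₀ • ∑ _γ : Γ, y = y := by
    intro y
    rw [Finset.sum_const, Finset.card_univ, ← Nat.card_eq_fintype_card, ← Nat.cast_smul_eq_nsmul A,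
      smul_smul, hc₀', one_smul]
  have hρ1 : ρ 1 = 1 := by
    apply hinj
    rw [hρ, havg, map_one]
    simp only [smul_one]
    exact hsum1 1
  constructor
  · -- injectivity: a left inverse
    have hleft : ∀ s : S, TensorProduct.rid A S (LinearMap.lTensor S ρ (s ⊗ₜ[A] (1 : R))) = s := by
      intro s
      rw [LinearMap.lTensor_tmul, TensorProduct.rid_tmul, hρ1, one_smul]
    intro s t hst
    have := congrArg (fun z => TensorProduct.rid A S (LinearMap.lTensor S ρ z)) hst
    dsimp only at this
    rwa [hleft, hleft] at this
  · intro x hx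
    have hmap : ∀ γ : Γ, (Algebra.TensorProduct.map (AlgHom.id A S)
        (MulSemiringAction.toAlgHom A R γ)).toLinearMap =
        LinearMap.lTensor S (MulSemiringAction.toAlgHom A R γ).toLinearMap := by
      intro γ
      apply TensorProduct.ext'
      intro s r
      simp
    have hx' : ∀ γ : Γ, LinearMap.lTensor S (MulSemiringAction.toAlgHom A R γ).toLinearMap x = x := by
      intro γ
      rw [← hmap γ]
      exact hx γ
    have h1 : LinearMap.lTensor S avgL x = x := by
      have : LinearMap.lTensor S avgL =
          c₀ • ∑ γ : Γ, LinearMap.lTensor S (MulSemiringAction.toAlgHom A R γ).toLinearMap := by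
        simp only [avgL]
        rw [LinearMap.lTensor_smul]
        congr 1
        exact map_sum (LinearMap.lTensorHom S) _ _
      rw [this, LinearMap.smul_apply, LinearMap.sum_apply]
      simp only [hx']
      exact hsum2 x
    have h2 : avgL = (Algebra.linearMap A R) ∘ₗ ρ := by
      ext r
      simp only [LinearMap.comp_apply, Algebra.linearMap_apply, hρ]
    rw [h2, LinearMap.lTensor_comp, LinearMap.comp_apply] at h1
    set y := LinearMap.lTensor S ρ x with hy
    refine ⟨TensorProduct.rid A S y, ?_⟩
    show (TensorProduct.rid A S y) ⊗ₜ[A] (1 : R) = x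
    rw [← h1]
    have : y = (TensorProduct.rid A S y) ⊗ₜ[A] (1 : A) := by
      rw [← TensorProduct.rid_symm_apply, LinearEquiv.symm_apply_apply]
    conv_rhs => rw [this]
    rw [LinearMap.lTensor_tmul, Algebra.linearMap_apply, map_one]

end Groth.Agent.S16335
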