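import Groth.Statements.S16337
import Mathlib.Tactic
import Mathlib.Algebra.Module.Submodule.Pointwise
import Mathlib.RingTheory.Ideal.Operations
-- import your own Groth.Agent.* helpers here

set_option autoImplicit false
universe u v w
open InvTh

namespace Groth.Agent.S16337

/-- Let `A` be a commutative ring, `Γ` a finite group whose order is invertible in `A`, `M` an
`A`-module with an `A`-linear action of `Γ`, and `I` an ideal of `A`. Then reduction modulo `I`
induces a bijection `M^Γ / I·M^Γ ≅ (M / IM)^Γ`: (a) an element of `M` fixed by `Γ` modulo `IM` is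
congruent modulo `IM` to a `Γ`-fixed element, and (b) a `Γ`-fixed element lying in `IM` lies in
`I·M^Γ`, where `M^Γ` is the submodule of `Γ`-fixed elements. (The published lemma says that
push-forward to the coarse space of a tame stack over a complete local base commutes with reduction
modulo powers of the maximal ideal; this row is the module statement its proof establishes, for an
arbitrary ideal.) -/
theorem result
    (A : Type u) [CommRing A] (Γ : Type v) [Group Γ] [Finite Γ] (hΓ : IsUnit (Nat.card Γ : A))
    (M : Type w) [AddCommGroup M] [Module A M] [DistribMulAction Γ M] [SMulCommClass Γ A M]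
    (I : Ideal A) :
    (∀ x : M, (∀ γ : Γ, γ • x - x ∈ I • (⊤ : Submodule A M)) →
        ∃ y : M, (∀ γ : Γ, γ • y = y) ∧ x - y ∈ I • (⊤ : Submodule A M)) ∧
      ∀ y : M, (∀ γ : Γ, γ • y = y) → y ∈ I • (⊤ : Submodule A M) →
        y ∈ I • Submodule.span A {m : M | ∀ γ : Γ, γ • m = m} := by
  classical
  have : Fintype Γ := Fintype.ofFinite Γ
  obtain ⟨c, hc⟩ := hΓ.exists_left_inv
  -- the averaging operator
  let e : M →ₗ[A] M := c • ∑ γ : Γ, DistribSMul.toLinearMap A M γ
  have he : ∀ m : M, e m = c • ∑ γ : Γ, γ • m := by
    intro m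
    simp only [e, LinearMap.smul_apply, LinearMap.sum_apply, DistribSMul.toLinearMap_apply]
  have hfix : ∀ (m : M) (γ : Γ), γ • e m = e m := by
    intro m γ
    rw [he, smul_comm, Finset.smul_sum]
    congr 1
    refine Fintype.sum_equiv (Equiv.mulLeft γ) _ _ ?_
    intro δ
    simp [mul_smul]
  have hcard : c • ((Fintype.card Γ : ℕ) • (1 : A)) = 1 := by
    rw [nsmul_eq_mul, mul_one, smul_eq_mul, ← Nat.card_eq_fintype_card]; exact hc
  have hid : ∀ y : M, (∀ γ : Γ, γ • y = y) → e y = y := by
    intro y hy
    rw [he]
    simp only [hy]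
    rw [Finset.sum_const, Finset.card_univ, ← Nat.card_eq_fintype_card, ← Nat.cast_smul_eq_nsmul A,
      smul_smul, hc, one_smul]
  constructor
  · intro x hx
    refine ⟨e x, hfix x, ?_⟩
    have : x - e x = c • ∑ γ : Γ, (x - γ • x) := by
      rw [he, Finset.sum_sub_distrib, smul_sub, Finset.sum_const, Finset.card_univ,
        ← Nat.card_eq_fintype_card, ← Nat.cast_smul_eq_nsmul A, smul_smul, hc, one_smul]
    rw [this]
    refine Submodule.smul_mem _ _ (Submodule.sum_mem _ ?_)
    intro γ _
    have := hx γ
    rw [← neg_sub] at this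
    exact (Submodule.neg_mem_iff _).1 this
  · intro y hy hyI
    have h1 : e y ∈ Submodule.map e (I • (⊤ : Submodule A M)) := Submodule.mem_map_of_mem hyI
    rw [Submodule.map_smul'', hid y hy] at h1
    refine Submodule.smul_mono (le_refl I) ?_ h1
    rintro _ ⟨m, _, rfl⟩
    exact Submodule.subset_span (hfix m)

end Groth.Agent.S16337
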