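import Groth.Statements.S16344
import Mathlib
-- import your own Groth.Agent.* helpers here

set_option autoImplicit false
universe u v
open IdeleMod

namespace Groth.Agent.S16344

theorem exists_compatible {ι : Type u} [Preorder ι] [IsDirected ι (· ≤ ·)]
    (G : ι → Type v) [∀ i, TopologicalSpace (G i)] [∀ i, CompactSpace (G i)] [∀ i, T2Space (G i)]
    (f : ∀ ⦃i j : ι⦄, i ≤ j → (G j → G i)) (hf : ∀ i j (h : i ≤ j), Continuous (f h))
    (hcomp : ∀ i j k (hij : i ≤ j) (hjk : j ≤ k) (x : G k), f hij (f hjk x) = f (hij.trans hjk) x)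
    (X : ∀ i, Set (G i)) (hXc : ∀ i, IsClosed (X i)) (hXne : ∀ i, (X i).Nonempty)
    (hXf : ∀ i j (h : i ≤ j), ∀ x ∈ X j, f h x ∈ X i) :
    ∃ x : ∀ i, G i, (∀ i, x i ∈ X i) ∧ ∀ i j (h : i ≤ j), f h (x j) = x i := by
  classical
  rcases isEmpty_or_nonempty ι with hι | hι
  · exact ⟨fun i => isEmptyElim i, fun i => isEmptyElim i, fun i => isEmptyElim i⟩
  let T := {p : ι × ι // p.1 ≤ p.2}
  let t : T → Set (∀ i, G i) := fun p => {x | x p.1.1 ∈ X p.1.1 ∧ f p.2 (x p.1.2) = x p.1.1}
  have htc : ∀ p, IsClosed (t p) := by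
    intro p
    apply IsClosed.inter
    · exact (hXc _).preimage (continuous_apply _)
    · exact isClosed_eq ((hf _ _ p.2).comp (continuous_apply _)) (continuous_apply _)
  have hfip : ∀ s : Finset T, (⋂ p ∈ s, t p).Nonempty := by
    intro s
    obtain ⟨k, hk⟩ := Finset.exists_le (s.image (fun p => p.1.1) ∪ s.image (fun p => p.1.2))
    obtain ⟨w, hw⟩ := hXne k
    refine ⟨fun i => if h : i ≤ k then f h w else (hXne i).some, ?_⟩
    simp only [Set.mem_iInter]
    intro p hp
    have h1 : p.1.1 ≤ k := hk _ (Finset.mem_union_left _ (Finset.mem_image_of_mem _ hp))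
    have h2 : p.1.2 ≤ k := hk _ (Finset.mem_union_right _ (Finset.mem_image_of_mem _ hp))
    show (if h : p.1.1 ≤ k then f h w else (hXne p.1.1).some) ∈ X p.1.1 ∧
      f p.2 (if h : p.1.2 ≤ k then f h w else (hXne p.1.2).some) =
        (if h : p.1.1 ≤ k then f h w else (hXne p.1.1).some)
    rw [dif_pos h1, dif_pos h2]
    exact ⟨hXf _ _ h1 w hw, hcomp _ _ _ p.2 h2 w⟩
  obtain ⟨x, hx⟩ := CompactSpace.iInter_nonempty htc hfip
  simp only [Set.mem_iInter] at hx
  refine ⟨x, fun i => (hx ⟨(i, i), le_refl i⟩).1, fun i j h => (hx ⟨(i, j), h⟩).2⟩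

/-- Let (G_i) be an inverse system, indexed by a directed preorder, of compact Hausdorff topological
abelian groups with continuous surjective transition maps, let G be its limit (the group of
compatible families) and let m be a natural number. Then the canonical map G/mG → lim G_i/mG_i is
bijective: a compatible family that lies in mG_i at every index is m times a compatible family
(injectivity), and every family that is compatible modulo m agrees modulo m, index by index, with a
compatible family (surjectivity). -/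
theorem result
    {ι : Type u} [Preorder ι] [IsDirected ι (· ≤ ·)]
    (G : ι → Type v) [∀ i, AddCommGroup (G i)] [∀ i, TopologicalSpace (G i)]
    [∀ i, IsTopologicalAddGroup (G i)] [∀ i, CompactSpace (G i)] [∀ i, T2Space (G i)]
    (f : ∀ ⦃i j : ι⦄, i ≤ j → (G j →+ G i)) (hf : ∀ i j (h : i ≤ j), Continuous (f h))
    (hid : ∀ i (x : G i), f (le_refl i) x = x)
    (hcomp : ∀ i j k (hij : i ≤ j) (hjk : j ≤ k) (x : G k), f hij (f hjk x) = f (hij.trans hjk) x)
    (hsurj : ∀ i j (h : i ≤ j), Function.Surjective (f h)) (m : ℕ) :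
    (∀ x : ∀ i, G i, (∀ i j (h : i ≤ j), f h (x j) = x i) → (∀ i, ∃ y : G i, m • y = x i) →
        ∃ z : ∀ i, G i, (∀ i j (h : i ≤ j), f h (z j) = z i) ∧ ∀ i, m • z i = x i) ∧
    (∀ y : ∀ i, G i, (∀ i j (h : i ≤ j), ∃ w : G i, f h (y j) - y i = m • w) →
        ∃ x : ∀ i, G i, (∀ i j (h : i ≤ j), f h (x j) = x i) ∧ ∀ i, ∃ w : G i, x i - y i = m • w) := by
  constructor
  · intro x hx hdiv
    obtain ⟨z, hz, hzc⟩ := exists_compatible G (fun i j h => (f h : G j → G i)) hf hcomp
      (fun i => {y | m • y = x i})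
      (fun i => isClosed_eq (continuous_nsmul m) continuous_const)
      (fun i => hdiv i)
      (fun i j h y hy => by
        show m • f h y = x i
        rw [← map_nsmul, show m • y = x j from hy, hx i j h])
    exact ⟨z, hzc, hz⟩
  · intro y hy
    obtain ⟨x, hx, hxc⟩ := exists_compatible G (fun i j h => (f h : G j → G i)) hf hcomp
      (fun i => Set.range (fun w : G i => y i + m • w))
      (fun i => (isCompact_range (continuous_const.add (continuous_nsmul m))).isClosed)
      (fun i => Set.range_nonempty _)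
      (fun i j h z hz => by
        obtain ⟨w, rfl⟩ := hz
        obtain ⟨w', hw'⟩ := hy i j h
        refine ⟨w' + f h w, ?_⟩
        show y i + m • (w' + f h w) = f h (y j + m • w)
        rw [map_add, map_nsmul, smul_add, ← add_assoc, ← hw']
        abel)
    refine ⟨x, hxc, fun i => ?_⟩
    obtain ⟨w, hw⟩ := hx i
    exact ⟨w, by rw [← hw]; simp⟩

end Groth.Agent.S16344
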