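import Groth.Statements.S16346
import Mathlib
-- import your own Groth.Agent.* helpers here

set_option autoImplicit false
universe u v
open KatoHom

namespace Groth.Agent.S16346

/-- Let P be a set of primes and I_P the set of positive integers all of whose prime factors lie in P.
Let A be an abelian group, (B_n)_{n ∈ I_P} an inverse system of abelian groups with transition maps
B_n → B_m for m ∣ n, and φ_n : A → B_n homomorphisms vanishing on nA and compatible with the
transition maps, so that they induce φ̂ : Â → B̂ on the limits Â = lim A/nA and B̂ = lim B_n (limits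
taken as compatible families). Suppose some N ∈ I_P kills the torsion subgroup of B̂ and kills the
kernel of φ̂ (the latter meaning: a compatible family of residues (a_n) with φ_n(a_n) = 0 for all n
has N a_n ∈ nA for all n). Then the subgroup ⋂_{n ∈ I_P} nA is ℓ-divisible for every ℓ ∈ P, and it
contains every subgroup of A that is ℓ-divisible for all ℓ ∈ P; that is, it is the largest
P-divisible subgroup of A. -/
theorem result
    {A : Type u} [AddCommGroup A] (P : Set ℕ) (hP : ∀ p ∈ P, p.Prime)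
    (IP : Set ℕ) (hIP : ∀ n, n ∈ IP ↔ 0 < n ∧ ∀ p : ℕ, p.Prime → p ∣ n → p ∈ P)
    (B : IP → Type v) [∀ n, AddCommGroup (B n)]
    (g : ∀ ⦃m n : IP⦄, (m : ℕ) ∣ (n : ℕ) → (B n →+ B m))
    (hgid : ∀ (n : IP) (b : B n), g (dvd_refl (n : ℕ)) b = b)
    (hgcomp : ∀ (k m n : IP) (hkm : (k : ℕ) ∣ (m : ℕ)) (hmn : (m : ℕ) ∣ (n : ℕ)) (b : B n),
      g hkm (g hmn b) = g (hkm.trans hmn) b)
    (φ : ∀ n : IP, A →+ B n) (hφ : ∀ (n : IP) (a : A), φ n ((n : ℕ) • a) = 0)
    (hφg : ∀ (m n : IP) (h : (m : ℕ) ∣ (n : ℕ)) (a : A), g h (φ n a) = φ m a)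
    (N : ℕ) (hN : N ∈ IP)
    (htor : ∀ b : ∀ n : IP, B n, (∀ (m n : IP) (h : (m : ℕ) ∣ (n : ℕ)), g h (b n) = b m) →
      (∃ k : ℕ, 0 < k ∧ ∀ n, k • b n = 0) → ∀ n, N • b n = 0)
    (hker : ∀ a : IP → A, (∀ m n : IP, (m : ℕ) ∣ (n : ℕ) → ∃ c : A, a n - a m = (m : ℕ) • c) →
      (∀ n, φ n (a n) = 0) → ∀ n : IP, ∃ c : A, N • a n = (n : ℕ) • c) :
    (∀ ℓ ∈ P, ∀ x : A, (∀ n ∈ IP, ∃ y : A, x = n • y) →
        ∃ y : A, (∀ n ∈ IP, ∃ z : A, y = n • z) ∧ ℓ • y = x) ∧
    (∀ H : AddSubgroup A, (∀ ℓ ∈ P, ∀ x ∈ H, ∃ y ∈ H, ℓ • y = x) →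
        ∀ x ∈ H, ∀ n ∈ IP, ∃ y : A, x = n • y) := by
  constructor
  · intro ℓ hℓ x hx
    have hℓp : ℓ.Prime := hP ℓ hℓ
    have hN' := (hIP N).mp hN
    have hk : ℓ * N * N ∈ IP := by
      rw [hIP]
      refine ⟨Nat.mul_pos (Nat.mul_pos hℓp.pos hN'.1) hN'.1, ?_⟩
      intro p hp hdvd
      rcases (Nat.Prime.dvd_mul hp).mp hdvd with h | h
      · rcases (Nat.Prime.dvd_mul hp).mp h with h | h
        · rw [(Nat.prime_dvd_prime_iff_eq hp hℓp).mp h]; exact hℓ
        · exact hN'.2 p hp h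
      · exact hN'.2 p hp h
    obtain ⟨w, hw⟩ := hx _ hk
    -- the torsion family b_n = φ_n w
    have hb : ∀ n : IP, N • φ n w = 0 := by
      apply htor (fun n => φ n w)
      · intro m n h
        exact hφg m n h w
      · refine ⟨ℓ * N * N, ((hIP _).mp hk).1, ?_⟩
        intro n
        rw [← map_nsmul, ← hw]
        obtain ⟨y, hy⟩ := hx n n.2
        rw [hy, hφ]
    have hc := hker (fun _ => N • w) (fun m n _ => ⟨0, by simp⟩)
      (fun n => by rw [map_nsmul]; exact hb n)
    refine ⟨N • (N • w), ?_, ?_⟩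
    · intro n hn
      obtain ⟨c, hc⟩ := hc ⟨n, hn⟩
      exact ⟨c, hc⟩
    · rw [hw, smul_smul, smul_smul, mul_assoc]
  · intro H hH
    have key : ∀ n : ℕ, n ∈ IP → ∀ x ∈ H, ∃ y ∈ H, x = n • y := by
      intro n
      induction n using Nat.strong_induction_on with
      | _ n ih =>
        intro hn x hx
        have hn' := (hIP n).mp hn
        by_cases h1 : n = 1
        · exact ⟨x, hx, by rw [h1, one_smul]⟩
        · have hp : (n.minFac).Prime := Nat.minFac_prime h1
          have hpd : n.minFac ∣ n := Nat.minFac_dvd n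
          have hpP : n.minFac ∈ P := hn'.2 _ hp hpd
          obtain ⟨q, hq⟩ := hpd
          have hqpos : 0 < q := by
            rcases Nat.eq_zero_or_pos q with h | h
            · rw [h, mul_zero] at hq; omega
            · exact h
          have hqIP : q ∈ IP := by
            rw [hIP]
            refine ⟨hqpos, fun p hpp hpq => hn'.2 p hpp ?_⟩
            rw [hq]; exact Dvd.dvd.mul_left hpq _
          have hqlt : q < n := by
            rw [hq]
            have := hp.one_lt
            nlinarith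
          obtain ⟨y₁, hy₁H, hy₁⟩ := hH _ hpP x hx
          obtain ⟨y₂, hy₂H, hy₂⟩ := ih q hqlt hqIP y₁ hy₁H
          refine ⟨y₂, hy₂H, ?_⟩
          rw [← hy₁, hy₂, smul_smul, ← hq]
    intro x hx n hn
    obtain ⟨y, -, hy⟩ := key n hn x hx
    exact ⟨y, hy⟩

end Groth.Agent.S16346
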