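import Groth.Statements.S1635
import Groth.Agent.Lib.Helper5.Curve2.M

set_option autoImplicit false
universe u
open CategoryTheory CategoryTheory.Limits AlgebraicGeometry
open Curves

namespace Groth.Agent.S1635

/-- Let X be a proper curve over k with global functions k and genus 0, and L an invertible module of
degree d > 0. Then H^0(X, L) has dimension d + 1 and H^1(X, L) = 0. -/
theorem result (k : Type u) [Field k] (X : Scheme.{u}) [X.Over (Spec (CommRingCat.of k))]
    [IsIntegral X] [IsProper (X ↘ (Spec (CommRingCat.of k)))] (hdim : topologicalKrullDim X = 1)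
    (h0 : Module.finrank k (Coh.HH X (Coh.structureModule X) 0) = 1) (hg : Curv2.genus k X = 0)
    (L : X.Modules) (hL : PicF.IsInvertible L) (d : ℕ) (hd : 0 < d) (hdeg : Curv2.deg k X L 1 = d) :
    Module.finrank k (Coh.HH X L 0) = d + 1 ∧ Subsingleton (Coh.HH X L 1) := by
  haveI : L.IsQuasicoherent := Groth.Agent.LD.QC.qc_of_isInvertible L hL
  have hOc := Groth.Agent.H5.Curve2.isCoh_of_isInvertible
    (Groth.Agent.LD.QC.isInvertible_unit X)
  haveI : (Coh.structureModule X).IsQuasicoherent := hOc.1
  have h3 := Groth.Agent.LD.Curve.euler_eq_sub k X hdim.le L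
  have h4 := Groth.Agent.LD.Curve.euler_eq_sub k X hdim.le (Coh.structureModule X)
  have hg' : Module.finrank k (Coh.HH X (Coh.structureModule X) 1) = 0 := hg
  rw [h0, hg'] at h4
  have h6 : Curv2.deg k X L 1 = Curv2.euler k X L - Curv2.euler k X (Coh.structureModule X) := by
    unfold Curv2.deg
    push_cast
    ring
  have hχ : Curv2.euler k X L = (d : ℤ) + 1 := by
    push_cast at h4
    linarith
  have hpos : 0 < Curv2.euler k X L := by
    rw [hχ]
    positivity
  obtain ⟨s, hs⟩ := Groth.Agent.H5.Curve2.exists_section_ne_zero_of_euler_pos k X hdim.le L hpos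
  have h1 := (Groth.Agent.H5.Curve2.finrank_H0_le_deg_add_one k X hdim.le h0 hL s hs).1
  rw [hdeg] at h1
  rw [hχ] at h3
  have h7 : (0 : ℤ) ≤ (Module.finrank k (Coh.HH X L 1) : ℤ) := Int.natCast_nonneg _
  have h8 : (Module.finrank k (Coh.HH X L 1) : ℤ) = 0 := by linarith
  have h9 : (Module.finrank k (Coh.HH X L 0) : ℤ) = (d : ℤ) + 1 := by linarith
  refine ⟨by exact_mod_cast h9, ?_⟩
  haveI := Groth.Agent.LD.Curve.finite_HH k X L
    (Groth.Agent.H5.Curve2.isCoh_of_isInvertible hL) 1
  exact Module.finrank_zero_iff.mp (by exact_mod_cast h8)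

end Groth.Agent.S1635
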