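import Groth.Statements.S16356
import Mathlib
-- import your own Groth.Agent.* helpers here

set_option autoImplicit false
universe u
open OrdAV

namespace Groth.Agent.S16356

theorem exists_eq_p_mul (p : ℕ) [Fact p.Prime] (k : Type u) [Field k] [CharP k p] [PerfectRing k p]
    (y : WittVector p k) (hy : y.coeff 0 = 0) : ∃ t : WittVector p k, y = (p : WittVector p k) * t := by
  have h1 : y = WittVector.verschiebung^[1] (y.shift 1) :=
    WittVector.eq_iterate_verschiebung (n := 1) (by intro i hi; interval_cases i; exact hy)
  obtain ⟨z', hz'⟩ := (WittVector.frobenius_bijective p k).2 (y.shift 1)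
  refine ⟨z', ?_⟩
  rw [h1, Function.iterate_one, ← hz', WittVector.verschiebung_frobenius, mul_comm]

theorem cc_p_mul (p : ℕ) [Fact p.Prime] (k : Type u) [Field k] [CharP k p]
    (w : WittVector p k) : WittVector.constantCoeff ((p : WittVector p k) * w) = 0 := by
  rw [map_mul, map_natCast, CharP.cast_eq_zero, zero_mul]

theorem pow_expand {R : Type*} [CommRing R] (a t : R) (j : ℕ) :
    ∃ c : R, (1 + a * t) ^ j = 1 + (j : R) * a * t + a ^ 2 * c := by
  induction j with
  | zero => exact ⟨0, by simp⟩
  | succ j ih =>
    obtain ⟨c, hc⟩ := ih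
    refine ⟨c + (j : R) * t ^ 2 + c * a * t, ?_⟩
    rw [pow_succ, hc]
    push_cast
    ring

theorem key1 (p : ℕ) [Fact p.Prime] (hp : p ≠ 2) (k : Type u) [Field k] [CharP k p] [PerfectRing k p]
    (x : WittVector p k) (h0 : x.coeff 0 = 1) (h1 : x ≠ 1) : x ^ p ≠ 1 := by
  intro hxp
  have hp' : (p : WittVector p k) ≠ 0 := WittVector.p_nonzero p k
  obtain ⟨t, ht⟩ := exists_eq_p_mul p k (x - 1) (by
    have : WittVector.constantCoeff (x - 1) = 0 := by
      rw [map_sub, map_one]; show x.coeff 0 - 1 = 0; rw [h0, sub_self]
    exact this)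
  have hx : x = 1 + (p : WittVector p k) * t := by rw [← ht]; ring
  have hS : (∑ j ∈ Finset.range p, x ^ j) * (x - 1) = 0 := by
    rw [geom_sum_mul, hxp, sub_self]
  have hS0 : ∑ j ∈ Finset.range p, x ^ j = 0 := by
    rcases mul_eq_zero.mp hS with h | h
    · exact h
    · exact absurd (sub_eq_zero.mp h) h1
  choose c hc using fun j => pow_expand (p : WittVector p k) t j
  obtain ⟨e, he⟩ : ∃ e, ∑ i ∈ Finset.range p, i = p * e := by
    have hodd : Odd p := (Fact.out : p.Prime).odd_of_ne_two hp
    obtain ⟨e, he⟩ := hodd
    refine ⟨e, ?_⟩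
    have := Finset.sum_range_id_mul_two p
    have h2 : p - 1 = 2 * e := by omega
    rw [h2] at this
    have : (∑ i ∈ Finset.range p, i) * 2 = (p * e) * 2 := by rw [this]; ring
    exact Nat.eq_of_mul_eq_mul_right (by norm_num) this
  have hsum : ∑ j ∈ Finset.range p, x ^ j =
      (p : WittVector p k) * (1 + (p : WittVector p k) * ((e : WittVector p k) * t +
        ∑ j ∈ Finset.range p, c j)) := by
    rw [hx]
    simp_rw [hc]
    rw [Finset.sum_add_distrib, Finset.sum_add_distrib, ← Finset.mul_sum, ← Finset.sum_mul,
      ← Finset.sum_mul, ← Nat.cast_sum, he]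
    simp only [Finset.sum_const, Finset.card_range, nsmul_eq_mul, mul_one]
    push_cast
    ring
  rw [hsum] at hS0
  rcases mul_eq_zero.mp hS0 with h | h
  · exact hp' h
  · have := congrArg WittVector.constantCoeff h
    rw [map_add, map_one, cc_p_mul, add_zero, map_zero] at this
    exact one_ne_zero this

/-- For an odd prime p and a perfect field k of characteristic p, a root of unity in the ring of Witt
vectors W(k) whose residue in k is 1 is itself 1: if x ^ n = 1 with n ≥ 1 and the zeroth Witt
component of x is 1, then x = 1. (For p = 2 this fails: -1 in W(F_2).) -/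
theorem result (p : ℕ) [Fact p.Prime] (hp : p ≠ 2)
    (k : Type u) [Field k] [CharP k p] [PerfectRing k p]
    (x : WittVector p k) (n : ℕ) (hn : 0 < n) (hx : x ^ n = 1) (h0 : x.coeff 0 = 1) : x = 1 := by
  have main : ∀ n : ℕ, 0 < n → ∀ x : WittVector p k, x.coeff 0 = 1 → x ≠ 1 → x ^ n ≠ 1 := by
    intro n
    induction n using Nat.strong_induction_on with
    | _ n ih =>
      intro hn x h0 h1 hxn
      by_cases hpn : p ∣ n
      · obtain ⟨n', rfl⟩ := hpn
        have hn' : 0 < n' := by
          rcases Nat.eq_zero_or_pos n' with h | h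
          · rw [h, mul_zero] at hn; omega
          · exact h
        have hlt : n' < p * n' := by
          have := (Fact.out : p.Prime).one_lt
          nlinarith
        refine ih n' hlt hn' (x ^ p) ?_ (key1 p hp k x h0 h1) (by rw [← pow_mul]; exact hxn)
        have : WittVector.constantCoeff (x ^ p) = 1 := by
          rw [map_pow]; show (x.coeff 0) ^ p = 1; rw [h0, one_pow]
        exact this
      · have hS : (∑ j ∈ Finset.range n, x ^ j) * (x - 1) = 0 := by
          rw [geom_sum_mul, hxn, sub_self]
        have hS0 : ∑ j ∈ Finset.range n, x ^ j = 0 := by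
          rcases mul_eq_zero.mp hS with h | h
          · exact h
          · exact absurd (sub_eq_zero.mp h) h1
        have := congrArg WittVector.constantCoeff hS0
        rw [map_sum, map_zero] at this
        have h2 : ∀ j ∈ Finset.range n, WittVector.constantCoeff (x ^ j) = (1 : k) := by
          intro j _
          rw [map_pow]; show (x.coeff 0) ^ j = 1; rw [h0, one_pow]
        rw [Finset.sum_congr rfl h2, Finset.sum_const, Finset.card_range, nsmul_eq_mul, mul_one] at this
        exact hpn ((CharP.cast_eq_zero_iff k p n).mp this)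
  by_contra h1
  exact main n hn x h0 h1 hx

end Groth.Agent.S16356
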