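import Groth.Statements.S16357
import Mathlib
-- import your own Groth.Agent.* helpers here

set_option autoImplicit false
universe u
open OrdAV

namespace Groth.Agent.S16357

/-- Over a field L of characteristic zero, a monic polynomial h whose square has rational coefficients
has rational coefficients itself. -/
theorem result (L : Type u) [Field L] [CharZero L]
    (h : Polynomial L) (hm : h.Monic) (f : Polynomial ℚ)
    (hf : h ^ 2 = Polynomial.map (algebraMap ℚ L) f) :
    ∃ g : Polynomial ℚ, Polynomial.map (algebraMap ℚ L) g = h := by
  classical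
  set K : Subfield L := (algebraMap ℚ L).fieldRange with hK
  set n := h.natDegree with hn
  set g : Polynomial L := h - Polynomial.X ^ n with hg
  have hh : h = Polynomial.X ^ n + g := by rw [hg]; ring
  have hgcoeff_ge : ∀ a, n ≤ a → g.coeff a = 0 := by
    intro a ha
    rw [hg, Polynomial.coeff_sub, Polynomial.coeff_X_pow]
    rcases Nat.eq_or_lt_of_le ha with h1 | h1
    · subst h1
      rw [if_pos rfl, hn, hm.coeff_natDegree, sub_self]
    · rw [if_neg (by omega), Polynomial.coeff_eq_zero_of_natDegree_lt (by omega), sub_zero]
  have hfK : ∀ a, (h ^ 2).coeff a ∈ K := by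
    intro a
    rw [hf, Polynomial.coeff_map]
    exact ⟨_, rfl⟩
  have h2K : (2 : L) ∈ K := ⟨2, by simp⟩
  have h2ne : (2 : L) ≠ 0 := two_ne_zero
  have key : ∀ k j : ℕ, n ≤ j + k → g.coeff j ∈ K := by
    intro k
    induction k with
    | zero =>
      intro j hj
      rw [hgcoeff_ge j (by omega)]
      exact K.zero_mem
    | succ k ih =>
      intro j hj
      rcases Nat.lt_or_ge (j + k) n with hlt | hge
      · have hjn : j < n := by omega
        have hsq : h ^ 2 = Polynomial.X ^ (2 * n) + Polynomial.C 2 * (Polynomial.X ^ n * g) + g * g := by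
          rw [hh]
          simp only [map_ofNat]
          ring
        have hc := hfK (j + n)
        rw [hsq, Polynomial.coeff_add, Polynomial.coeff_add, Polynomial.coeff_X_pow,
          if_neg (by omega), zero_add, Polynomial.coeff_C_mul, Polynomial.coeff_X_pow_mul,
          Polynomial.coeff_mul] at hc
        have hsum : ∑ x ∈ Finset.HasAntidiagonal.antidiagonal (j + n), g.coeff x.1 * g.coeff x.2 ∈ K := by
          refine K.sum_mem fun x hx => ?_
          rw [Finset.HasAntidiagonal.mem_antidiagonal] at hx
          rcases Nat.lt_or_ge x.1 n with h1 | h1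
          · rcases Nat.lt_or_ge x.2 n with h2 | h2
            · exact K.mul_mem (ih _ (by omega)) (ih _ (by omega))
            · rw [hgcoeff_ge _ h2, mul_zero]; exact K.zero_mem
          · rw [hgcoeff_ge _ h1, zero_mul]; exact K.zero_mem
        have h3 : 2 * g.coeff j ∈ K := by
          have := K.sub_mem hc hsum
          simpa using this
        have h4 : g.coeff j = (2 : L)⁻¹ * (2 * g.coeff j) := by
          rw [← mul_assoc, inv_mul_cancel₀ h2ne, one_mul]
        rw [h4]
        exact K.mul_mem (K.inv_mem h2K) h3
      · exact ih j hge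
  have hall : ∀ a, h.coeff a ∈ K := by
    intro a
    rw [hh, Polynomial.coeff_add, Polynomial.coeff_X_pow]
    refine K.add_mem ?_ (key n a (by omega))
    split_ifs
    · exact K.one_mem
    · exact K.zero_mem
  have hlift : h ∈ Polynomial.lifts (algebraMap ℚ L) := by
    rw [Polynomial.lifts_iff_coeff_lifts]
    intro a
    obtain ⟨c, hc⟩ := hall a
    exact ⟨c, hc⟩
  exact (Polynomial.mem_lifts h).mp hlift

end Groth.Agent.S16357
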