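import Groth.Statements.S16358
import Mathlib
-- import your own Groth.Agent.* helpers here

set_option autoImplicit false
universe u v w
open OrdAV

namespace Groth.Agent.S16358

open TensorProduct in
theorem one_tmul_surj {R : Type*} [CommRing R] (I : Ideal R) {N : Type*} [AddCommGroup N] [Module R N]
    (z : (R ⧸ I) ⊗[R] N) : ∃ n : N, z = (1 : R ⧸ I) ⊗ₜ[R] n := by
  induction z using TensorProduct.induction_on with
  | zero => exact ⟨0, by simp⟩
  | tmul q n =>
    obtain ⟨r, rfl⟩ := Ideal.Quotient.mk_surjective q
    refine ⟨r • n, ?_⟩
    rw [← TensorProduct.smul_tmul]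
    congr 1
    rw [Algebra.smul_def, mul_one]; rfl
  | add a b ha hb =>
    obtain ⟨n₁, rfl⟩ := ha
    obtain ⟨n₂, rfl⟩ := hb
    exact ⟨n₁ + n₂, by rw [TensorProduct.tmul_add]⟩

/-- Let k be a perfect field of characteristic p > 0 and W = W(k); let M be a finitely generated free
W-module on which a finite group G acts W-linearly, with invariant submodule M^G. Then the map
(W/pW) ⊗ M^G → (W/pW) ⊗ M induced by the inclusion is injective. Since M^G is free, this implies
rank_W M^G ≤ dim_k (M/pM)^G; the published statement is that inequality, and this row states the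
stronger injectivity. -/
theorem result (p : ℕ) [Fact p.Prime]
    (k : Type u) [Field k] [CharP k p] [PerfectRing k p]
    (M : Type v) [AddCommGroup M] [Module (WittVector p k) M]
    [Module.Free (WittVector p k) M] [Module.Finite (WittVector p k) M]
    (G : Type w) [Group G] [Finite G] (ρ : Representation (WittVector p k) G M) :
    Function.Injective
      (LinearMap.lTensor (WittVector p k ⧸ Ideal.span {(p : WittVector p k)}) ρ.invariants.subtype) := by
  classical
  intro z₁ z₂ hz
  rw [← sub_eq_zero] at hz ⊢
  rw [← map_sub] at hz
  obtain ⟨n, hn⟩ := one_tmul_surj (Ideal.span {(p : WittVector p k)}) (z₁ - z₂)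
  rw [hn] at hz ⊢
  rw [LinearMap.lTensor_tmul] at hz
  -- n as an element of M lies in pM
  have h1 : (n : M) ∈ Ideal.span {(p : WittVector p k)} • (⊤ : Submodule (WittVector p k) M) := by
    have := congrArg (TensorProduct.quotTensorEquivQuotSMul M (Ideal.span {(p : WittVector p k)})) hz
    rw [map_zero] at this
    have h2 : ρ.invariants.subtype n = (n : M) := rfl
    rw [h2, TensorProduct.quotTensorEquivQuotSMul_mk_one_tmul, Submodule.Quotient.mk_eq_zero] at this
    exact this
  rw [Submodule.ideal_span_singleton_smul, Submodule.mem_smul_pointwise_iff_exists] at h1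
  obtain ⟨m', -, hm'⟩ := h1
  have hp' : (p : WittVector p k) ≠ 0 := WittVector.p_nonzero p k
  -- m' is invariant
  have hinv : m' ∈ ρ.invariants := by
    rw [Representation.mem_invariants]
    intro g
    have hg : ρ g (n : M) = (n : M) := (Representation.mem_invariants ρ _).mp n.2 g
    rw [← hm', map_smul] at hg
    have : (p : WittVector p k) • (ρ g m' - m') = 0 := by rw [smul_sub, hg, sub_self]
    rcases smul_eq_zero.mp this with h | h
    · exact absurd h hp'
    · exact sub_eq_zero.mp h
  have hn' : n = (p : WittVector p k) • (⟨m', hinv⟩ : ρ.invariants) := by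
    apply Subtype.ext
    rw [← hm']; rfl
  rw [hn', ← TensorProduct.smul_tmul]
  have : (p : WittVector p k) • (1 : WittVector p k ⧸ Ideal.span {(p : WittVector p k)}) = 0 := by
    rw [Algebra.smul_def, mul_one]
    exact Ideal.Quotient.eq_zero_iff_mem.mpr (Ideal.mem_span_singleton_self _)
  rw [this, TensorProduct.zero_tmul]

end Groth.Agent.S16358
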