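import Groth.Statements.S16362
import Mathlib
-- import your own Groth.Agent.* helpers here

set_option autoImplicit false
universe u
open MovLem

namespace Groth.Agent.S16362

/-- Let A be a commutative ring, p a prime ideal of A, and ζ, u elements of A with u not in p. Then the
quotient of the classes of ζ and u in the fraction field of the domain A ⧸ p is integral over A ⧸ p
if and only if there exist a natural number N and elements a_1, …, a_N of A such that ζ^N + a_1
ζ^(N-1) u + ⋯ + a_N u^N lies in p; equivalently, some binary form of degree N with coefficients in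
A, monic in the first variable, evaluated at (ζ, u), lies in p. -/
theorem result
    {A : Type u} [CommRing A] (p : Ideal A) [p.IsPrime] (ζ u : A) (hu : u ∉ p) :
    IsIntegral (A ⧸ p)
        (algebraMap (A ⧸ p) (FractionRing (A ⧸ p)) (Ideal.Quotient.mk p ζ) /
          algebraMap (A ⧸ p) (FractionRing (A ⧸ p)) (Ideal.Quotient.mk p u)) ↔
      ∃ (N : ℕ) (a : ℕ → A),
        ζ ^ N + ∑ i ∈ Finset.Icc 1 N, a i * ζ ^ (N - i) * u ^ i ∈ p := by
  classical
  set R := A ⧸ p with hR
  set K := FractionRing R with hK
  set ι := algebraMap R K with hι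
  have hinj : Function.Injective ι := IsFractionRing.injective R K
  set z : K := ι (Ideal.Quotient.mk p ζ) with hz
  set w : K := ι (Ideal.Quotient.mk p u) with hw
  have hw0 : w ≠ 0 := by
    rw [hw, Ne, map_eq_zero_iff _ hinj, Ideal.Quotient.eq_zero_iff_mem]
    exact hu
  have hpow : ∀ N k : ℕ, k ≤ N → w ^ N * (z / w) ^ k = z ^ k * w ^ (N - k) := by
    intro N k hk
    have hsplit : w ^ N = w ^ (N - k) * w ^ k := by rw [← pow_add, Nat.sub_add_cancel hk]
    have hcancel : w ^ k * (z ^ k / w ^ k) = z ^ k := by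
      rw [div_eq_mul_inv, mul_left_comm, mul_inv_cancel₀ (pow_ne_zero k hw0), mul_one]
    rw [hsplit, div_pow, mul_assoc, hcancel, mul_comm]
  -- key computation: for any coefficient function c with c N = 1
  have hcomp : ∀ (N : ℕ) (c : ℕ → R),
      w ^ N * ((z / w) ^ N + ∑ i ∈ Finset.Icc 1 N, ι (c i) * (z / w) ^ (N - i))
        = ι ((Ideal.Quotient.mk p ζ) ^ N + ∑ i ∈ Finset.Icc 1 N, c i * (Ideal.Quotient.mk p ζ) ^ (N - i) * (Ideal.Quotient.mk p u) ^ i) := by
    intro N c
    rw [mul_add, hpow N N le_rfl, Nat.sub_self, pow_zero, mul_one, Finset.mul_sum, map_add, map_pow,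
      map_sum]
    congr 1
    refine Finset.sum_congr rfl fun i hi => ?_
    rw [Finset.mem_Icc] at hi
    rw [mul_left_comm, hpow N (N - i) (Nat.sub_le _ _), Nat.sub_sub_self hi.2, map_mul, map_mul,
      map_pow, map_pow]
    ring
  constructor
  · rintro ⟨P, hmonic, hP⟩
    set N := P.natDegree with hN
    have hsurj := Ideal.Quotient.mk_surjective (I := p)
    choose a ha using fun i : ℕ => hsurj (P.coeff (N - i))
    refine ⟨N, a, ?_⟩
    rw [← Ideal.Quotient.eq_zero_iff_mem]
    apply hinj
    rw [map_zero]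
    have h1 := hcomp N (fun i => P.coeff (N - i))
    have hmk : Ideal.Quotient.mk p (ζ ^ N + ∑ i ∈ Finset.Icc 1 N, a i * ζ ^ (N - i) * u ^ i)
        = (Ideal.Quotient.mk p ζ) ^ N + ∑ i ∈ Finset.Icc 1 N, P.coeff (N - i) * (Ideal.Quotient.mk p ζ) ^ (N - i) * (Ideal.Quotient.mk p u) ^ i := by
      simp only [map_add, map_pow, map_sum, map_mul, ha]
    rw [hmk, ← h1]
    have h2 : (z / w) ^ N + ∑ i ∈ Finset.Icc 1 N, ι (P.coeff (N - i)) * (z / w) ^ (N - i)
        = Polynomial.eval₂ ι (z / w) P := by
      rw [Polynomial.eval₂_eq_sum_range, Finset.sum_range_succ, ← hN, add_comm]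
      congr 1
      swap
      · rw [hN, hmonic.coeff_natDegree, map_one, one_mul]
      · refine Finset.sum_nbij' (fun i => N - i) (fun k => N - k) ?_ ?_ ?_ ?_ ?_
        · intro i hi
          rw [Finset.mem_Icc] at hi
          rw [Finset.mem_range]; omega
        · intro k hk
          rw [Finset.mem_range] at hk
          rw [Finset.mem_Icc]; omega
        · intro i hi
          rw [Finset.mem_Icc] at hi
          omega
        · intro k hk
          rw [Finset.mem_range] at hk
          omega
        · intro i hi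
          rfl
    rw [h2]
    have : Polynomial.eval₂ ι (z / w) P = 0 := hP
    rw [this, mul_zero]
  · rintro ⟨N, a, ha⟩
    let c : ℕ → R := fun i => Ideal.Quotient.mk p (a i)
    let q : Polynomial R := ∑ i ∈ Finset.Icc 1 N, Polynomial.C (c i) * Polynomial.X ^ (N - i)
    have hq : q.degree < N := by
      rw [← Polynomial.mem_degreeLT]
      refine Submodule.sum_mem _ fun i hi => ?_
      rw [Finset.mem_Icc] at hi
      rw [Polynomial.mem_degreeLT]
      refine (Polynomial.degree_C_mul_X_pow_le _ _).trans_lt ?_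
      exact_mod_cast (by omega : N - i < N)
    refine ⟨Polynomial.X ^ N + q, Polynomial.monic_X_pow_add hq, ?_⟩
    have h1 := hcomp N c
    have h2 : (Ideal.Quotient.mk p ζ) ^ N + ∑ i ∈ Finset.Icc 1 N, c i * (Ideal.Quotient.mk p ζ) ^ (N - i) * (Ideal.Quotient.mk p u) ^ i = 0 := by
      have := Ideal.Quotient.eq_zero_iff_mem.mpr ha
      simpa only [map_add, map_pow, map_sum, map_mul] using this
    rw [h2, map_zero] at h1
    have h3 := (mul_eq_zero.mp h1).resolve_left (pow_ne_zero _ hw0)
    show Polynomial.eval₂ ι (z / w) (Polynomial.X ^ N + q) = 0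
    rw [Polynomial.eval₂_add, Polynomial.eval₂_pow, Polynomial.eval₂_X, Polynomial.eval₂_finsetSum]
    simpa only [Polynomial.eval₂_mul, Polynomial.eval₂_C, Polynomial.eval₂_pow, Polynomial.eval₂_X] using h3

end Groth.Agent.S16362
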