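import Groth.Statements.S16369
import Groth.Agent.Lib.Lead.Frob.Split

set_option autoImplicit false
universe u
open CategoryTheory AlgebraicGeometry Opposite
open FrobSch

namespace Groth.Agent.S16369

/-- (i) ⇒ (ii): let k be a perfect field of characteristic p and X a scheme proper over k. Let φ be the
p-th power map on the sheaf of additive groups underlying O_X and B its cokernel in abelian sheaves
(for X smooth over k this is the sheaf B¹ of locally exact one-forms, pushed down along Frobenius).
If X is Frobenius split — φ admits a retraction s, an additive endomorphism of O_X with s(t^p) = t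
and s(a^p·b) = a·s(b) on every open — then H^i(X, B) = 0 for every i. (The source states this for X
normal; normality is not used for this implication, and a split X is reduced anyway.) -/
theorem result
    (p : ℕ) [Fact p.Prime] (k : Type u) [Field k] [CharP k p] [PerfectField k]
    (X : Scheme.{u}) [X.Over (Spec (CommRingCat.of k))] [IsProper (X ↘ Spec (CommRingCat.of k))]
    (φ : Coh.toAb (Coh.structureModule X) ⟶ Coh.toAb (Coh.structureModule X))
    (hφ : ∀ (U : X.Opens) (t : Γ(X, U)), φ.hom.app (op U) t = t ^ p)
    (s : Coh.toAb (Coh.structureModule X) ⟶ Coh.toAb (Coh.structureModule X))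
    (hs : φ ≫ s = 𝟙 _)
    (hlin : ∀ (U : X.Opens) (a b : Γ(X, U)),
      s.hom.app (op U) (a ^ p * b) = a * @id Γ(X, U) (s.hom.app (op U) b))
    (i : ℕ) : Subsingleton (Sheaf.H (Limits.cokernel φ) i) := by
  haveI hfin : Module.Finite k (Coh.HH X (Coh.structureModule X) i) :=
    Groth.Agent.S0002.result k X _ (Groth.Agent.LD.PF.isCoh_unitMod X) i
  have hcomm : ∀ r : Coh.Γtop X, Coh.smulAb (Coh.structureModule X) r ≫ φ =
      φ ≫ Coh.smulAb (Coh.structureModule X) (r ^ p) := by
    intro r
    ext U t
    change φ.hom.app U ((Coh.smulAb (Coh.structureModule X) r).hom.app U t) =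
      (Coh.smulAb (Coh.structureModule X) (r ^ p)).hom.app U (φ.hom.app U t)
    rw [Coh.smulAb_app, Coh.smulAb_app]
    induction U using Opposite.rec with
    | _ U =>
      have aux : ∀ (a b : Γ(X, U)), (a * b) ^ p = a ^ p * b ^ p := fun a b => mul_pow a b p
      refine (hφ U _).trans ?_
      refine Eq.trans ?_ (congrArg (fun z : Γ(X, U) => (show Γ(X, U) from Coh.resTop X (op U) (r ^ p)) * z) (hφ U t).symm)
      rw [map_pow]
      exact aux _ _
  have hsemi : ∀ (c : k) (x : Coh.HH X (Coh.structureModule X) i),
      Sheaf.H.map φ i (c • x) = c ^ p • Sheaf.H.map φ i x := by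
    intro c x
    change Sheaf.H.map φ i (Sheaf.H.map (Coh.smulAb _ (Coh.toGlobal (X ↘ Spec (CommRingCat.of k)) c)) i x) =
      Sheaf.H.map (Coh.smulAb _ (Coh.toGlobal (X ↘ Spec (CommRingCat.of k)) (c ^ p))) i (Sheaf.H.map φ i x)
    rw [← Sheaf.H.map_comp_apply, ← Sheaf.H.map_comp_apply, map_pow, hcomm]
  have hinj : Function.Injective (Sheaf.H.map φ i) := by
    intro x y h
    have := congrArg (Sheaf.H.map s i) h
    rwa [← Sheaf.H.map_comp_apply, ← Sheaf.H.map_comp_apply, hs, Sheaf.H.map_id_apply,
      Sheaf.H.map_id_apply] at this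
  have hsurj := Groth.Agent.LD.Frob.surjective_of_semilinear_injective k p
    (Coh.HH X (Coh.structureModule X) i) (Sheaf.H.map φ i) hsemi hinj
  exact Groth.Agent.LD.Frob.subsingleton_H_cokernel φ s hs i hsurj

end Groth.Agent.S16369
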