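import Groth.Statements.S16370
import Mathlib
-- import your own Groth.Agent.* helpers here

set_option autoImplicit false
universe u
open CategoryTheory AlgebraicGeometry Opposite
open FrobSch

namespace Groth.Agent.S16370

open CategoryTheory Abelian in
theorem ext_postcomp_bijective {A : Type*} [Category A] [Abelian A] [HasExt A] (X : A)
    {S : ShortComplex A} (hS : S.ShortExact) (hX₃ : ∀ i : ℕ, Subsingleton (Ext X S.X₃ i)) (i : ℕ) :
    Function.Bijective ((Ext.mk₀ S.f).postcomp X (add_zero i)) := by
  constructor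
  · rw [injective_iff_map_eq_zero]
    intro x₁ hx₁
    have hx₁' : x₁.comp (Ext.mk₀ S.f) (add_zero i) = 0 := hx₁
    rcases i with _ | n
    · obtain ⟨g, rfl⟩ := (Ext.mk₀_bijective X S.X₁).2 x₁
      rw [Ext.mk₀_comp_mk₀] at hx₁'
      have h0 : g ≫ S.f = 0 := (Ext.mk₀_bijective X S.X₂).1 (by rw [hx₁', Ext.mk₀_zero])
      have := hS.mono_f
      have hg : g = 0 := by
        rw [← cancel_mono S.f, h0, Limits.zero_comp]
      rw [hg, Ext.mk₀_zero]
    · obtain ⟨x₃, hx₃⟩ := Ext.covariant_sequence_exact₁ X hS x₁ hx₁' (n₀ := n) rfl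
      have : x₃ = 0 := Subsingleton.elim _ _
      rw [← hx₃, this, Ext.zero_comp]
  · intro x₂
    exact Ext.covariant_sequence_exact₂ X hS x₂ (Subsingleton.elim _ _)

/-- (ii) ⇒ (iii): let X be a reduced scheme of prime characteristic p, φ the p-th power map on the sheaf
of additive groups underlying O_X (a monomorphism, X being reduced) and B its cokernel in abelian
sheaves. If H^i(X, B) = 0 for all i ≥ 0, then the endomorphism of H^i(X, O_X) induced by φ — the
Hasse–Witt operation — is bijective for all i. (The source has X normal and proper over a perfect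
field; only reducedness enters this implication.) -/
theorem result
    (p : ℕ) [Fact p.Prime] (X : Scheme.{u}) [IsReduced X] (hp : (p : Γ(X, ⊤)) = 0)
    (φ : Coh.toAb (Coh.structureModule X) ⟶ Coh.toAb (Coh.structureModule X))
    (hφ : ∀ (U : X.Opens) (t : Γ(X, U)), φ.hom.app (op U) t = t ^ p)
    (hB : ∀ i : ℕ, Subsingleton (Sheaf.H (Limits.cokernel φ) i))
    (i : ℕ) : Function.Bijective (Sheaf.H.map φ i) := by
  have hmono : Mono φ := by
    have h0 : ∀ U, Mono (φ.hom.app U) := by
      intro U
      rw [AddCommGrpCat.mono_iff_injective]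
      rw [injective_iff_map_eq_zero]
      intro t ht
      have h2 := hφ U.unop t
      have h3 : φ.hom.app (op U.unop) t = 0 := ht
      rw [h3] at h2
      exact _root_.IsReduced.eq_zero (R := Γ(X, U.unop)) t ⟨p, h2.symm⟩
    have h1 : Mono φ.hom := NatTrans.mono_of_mono_app φ.hom
    exact Sheaf.Hom.mono_of_presheaf_mono _ _ φ
  let S : ShortComplex (Sheaf (Opens.grothendieckTopology X) AddCommGrpCat.{u}) :=
    ShortComplex.mk φ (Limits.cokernel.π φ) (Limits.cokernel.condition φ)
  have hS : S.ShortExact := ShortComplex.ShortExact.mk (ShortComplex.exact_cokernel φ)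
  exact ext_postcomp_bijective _ hS hB i

end Groth.Agent.S16370
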