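import Groth.Statements.S16373


set_option autoImplicit false
universe u
open FrobAlg

namespace Groth.Agent.S16373

/-- Let p be a prime, m ≥ 1, R a commutative ring with p = 0 in R and σ : W_m(R) → R a quasi-F-splitting
of level m (additive, σ(1) = 1, σ(F(x)·y) = x₀·σ(y) with F the componentwise p-th power). Let I ⊆
W_{m+1}(R) be the ideal generated by the shifts V(x) of the x with σ(x) = 0, and Q = W_{m+1}(R)/I.
Then Q is a flat lifting of R modulo p²: an element of Q lies in pQ exactly when the first Witt
component of a representative vanishes (so Q/pQ is R through the first component), and an element of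
Q is killed by p exactly when it lies in pQ. (Stated for a ring; the source has a scheme over the
prime field. For m = 1 this is the lifting attached to a Frobenius splitting.) -/
theorem result
    (p : ℕ) [Fact p.Prime] (m : ℕ) (hm : 0 < m) (R : Type u) [CommRing R] (hp : (p : R) = 0)
    (σ : TruncatedWittVector p m R →+ R) (h1 : σ 1 = 1)
    (hF : ∀ x y : TruncatedWittVector p m R, σ (WittGrp.frob p m hp x * y) = x.coeff ⟨0, hm⟩ * σ y)
    (I : Ideal (TruncatedWittVector p (m + 1) R))
    (hI : I = Ideal.span (WittGrp.shift p (Nat.le_succ m) '' {x : TruncatedWittVector p m R | σ x = 0})) :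
    (∀ w : TruncatedWittVector p (m + 1) R,
        Ideal.Quotient.mk I w ∈ Ideal.span ({(p : TruncatedWittVector p (m + 1) R ⧸ I)} : Set _) ↔
          w.coeff 0 = 0) ∧
    (∀ q : TruncatedWittVector p (m + 1) R ⧸ I,
        (p : TruncatedWittVector p (m + 1) R ⧸ I) * q = 0 ↔
          q ∈ Ideal.span ({(p : TruncatedWittVector p (m + 1) R ⧸ I)} : Set _)) := by
  rcases subsingleton_or_nontrivial R with hR | hR
  · haveI : Subsingleton (TruncatedWittVector p (m + 1) R) :=
      ⟨fun a b => TruncatedWittVector.ext fun i => Subsingleton.elim _ _⟩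
    haveI : Subsingleton (TruncatedWittVector p (m + 1) R ⧸ I) :=
      ⟨fun a b => by
        obtain ⟨a, rfl⟩ := Ideal.Quotient.mk_surjective a
        obtain ⟨b, rfl⟩ := Ideal.Quotient.mk_surjective b
        rw [Subsingleton.elim a b]⟩
    refine ⟨fun w => ⟨fun _ => Subsingleton.elim _ _, fun _ => ?_⟩, fun q => ⟨fun _ => ?_, fun _ => Subsingleton.elim _ _⟩⟩
    · rw [Subsingleton.elim (Ideal.Quotient.mk I w) 0]; exact zero_mem _
    · rw [Subsingleton.elim q 0]; exact zero_mem _
  haveI : CharP R p := (CharP.charP_iff_prime_eq_zero (Fact.out : p.Prime)).mpr hp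
  have hle : m ≤ m + 1 := Nat.le_succ m
  -- projection formula
  have projF : ∀ (y : TruncatedWittVector p (m + 1) R) (x : TruncatedWittVector p m R),
      y * WittGrp.shift p hle x =
        WittGrp.shift p hle (WittGrp.frob p m hp (TruncatedWittVector.truncate hle y) * x) := by
    intro y x
    obtain ⟨Y, rfl⟩ := WittVector.truncate_surjective p (m + 1) R y
    obtain ⟨X, rfl⟩ := WittVector.truncate_surjective p m R x
    rw [TruncatedWittVector.truncate_wittVector_truncate, WittGrp.frob_truncate, ← map_mul,
      WittGrp.shift_truncate, WittGrp.shift_truncate]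
    have : m + 1 - m = 1 := by omega
    rw [this, Function.iterate_one]
    change (WittVector.truncate (m + 1)) Y * (WittVector.truncate (m + 1)) (WittVector.verschiebung X) =
      (WittVector.truncate (m + 1)) (WittVector.verschiebung (WittVector.frobenius Y * X))
    rw [← map_mul, mul_comm (WittVector.frobenius Y) X,
      WittVector.verschiebung_mul_frobenius, mul_comm]
  -- multiplication by p
  have mulp : ∀ w : TruncatedWittVector p (m + 1) R,
      (p : TruncatedWittVector p (m + 1) R) * w =
        WittGrp.shift p hle (WittGrp.frob p m hp (TruncatedWittVector.truncate hle w)) := by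
    intro w
    obtain ⟨Y, rfl⟩ := WittVector.truncate_surjective p (m + 1) R w
    rw [TruncatedWittVector.truncate_wittVector_truncate, WittGrp.frob_truncate,
      WittGrp.shift_truncate]
    have : m + 1 - m = 1 := by omega
    rw [this, Function.iterate_one, WittVector.verschiebung_frobenius, map_mul, map_natCast, mul_comm]
  -- coefficients of shift
  have coeff0 : ∀ x : TruncatedWittVector p m R, (WittGrp.shift p hle x).coeff 0 = 0 := by
    intro x
    rw [WittGrp.coeff_shift, dif_neg]
    simp
  have shift_inj : Function.Injective (WittGrp.shift (R := R) p hle) := by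
    intro x x' h
    refine TruncatedWittVector.ext fun i => ?_
    have h2 := congrArg (fun w => TruncatedWittVector.coeff ⟨(i : ℕ) + 1, by omega⟩ w) h
    simp only [WittGrp.coeff_shift] at h2
    rw [dif_pos (by simp), dif_pos (by simp)] at h2
    convert h2 using 2 <;> (ext; simp)
  have exists_shift : ∀ w : TruncatedWittVector p (m + 1) R, w.coeff 0 = 0 →
      ∃ x, WittGrp.shift p hle x = w := by
    intro w hw
    refine ⟨TruncatedWittVector.mk p fun i => w.coeff ⟨(i : ℕ) + 1, by omega⟩, ?_⟩
    refine TruncatedWittVector.ext fun i => ?_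
    rw [WittGrp.coeff_shift]
    by_cases hi : m + 1 - m ≤ (i : ℕ)
    · rw [dif_pos hi, TruncatedWittVector.coeff_mk]
      congr 1
      ext
      simp only
      omega
    · rw [dif_neg hi]
      have : i = 0 := by ext; simp only [Fin.val_zero]; omega
      rw [this, hw]
  -- description of `I`
  have memI : ∀ w, w ∈ I ↔ ∃ x, σ x = 0 ∧ WittGrp.shift p hle x = w := by
    intro w
    constructor
    · intro hw
      rw [hI] at hw
      refine Submodule.span_induction (p := fun w _ => ∃ x, σ x = 0 ∧ WittGrp.shift p hle x = w)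
        ?_ ?_ ?_ ?_ hw
      · rintro _ ⟨x, hx, rfl⟩
        exact ⟨x, hx, rfl⟩
      · exact ⟨0, map_zero σ, map_zero _⟩
      · rintro _ _ _ _ ⟨x, hx, rfl⟩ ⟨x', hx', rfl⟩
        exact ⟨x + x', by rw [map_add, hx, hx', add_zero], map_add _ _ _⟩
      · rintro y _ _ ⟨x, hx, rfl⟩
        refine ⟨WittGrp.frob p m hp (TruncatedWittVector.truncate hle y) * x, ?_, ?_⟩
        · rw [hF, hx, mul_zero]
        · rw [smul_eq_mul, projF]
    · rintro ⟨x, hx, rfl⟩
      rw [hI]
      exact Ideal.subset_span ⟨x, hx, rfl⟩
  -- decomposition of `W_m`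
  have decomp : ∀ z : TruncatedWittVector p m R, ∃ t x, σ x = 0 ∧ z = WittGrp.frob p m hp t + x := by
    intro z
    refine ⟨TruncatedWittVector.mk p fun _ => σ z, z - WittGrp.frob p m hp (TruncatedWittVector.mk p fun _ => σ z), ?_, by ring⟩
    rw [map_sub]
    have := hF (TruncatedWittVector.mk p fun _ => σ z) 1
    rw [mul_one, h1, mul_one, TruncatedWittVector.coeff_mk] at this
    rw [this, sub_self]
  have natCast_mk : (p : TruncatedWittVector p (m + 1) R ⧸ I) =
      Ideal.Quotient.mk I (p : TruncatedWittVector p (m + 1) R) := (map_natCast _ p).symm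
  have claim1 : ∀ w : TruncatedWittVector p (m + 1) R,
      Ideal.Quotient.mk I w ∈ Ideal.span ({(p : TruncatedWittVector p (m + 1) R ⧸ I)} : Set _) ↔
        w.coeff 0 = 0 := by
    intro w
    rw [Ideal.mem_span_singleton']
    constructor
    · rintro ⟨c, hc⟩
      obtain ⟨c, rfl⟩ := Ideal.Quotient.mk_surjective c
      rw [natCast_mk, ← map_mul, Ideal.Quotient.eq, memI] at hc
      obtain ⟨x, -, hx⟩ := hc
      have hw : w = c * p - WittGrp.shift p hle x := by rw [hx]; ring
      rw [hw, mul_comm, mulp, ← map_sub, coeff0]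
    · intro hw
      obtain ⟨z, rfl⟩ := exists_shift w hw
      obtain ⟨t, x, hx, rfl⟩ := decomp z
      obtain ⟨t', rfl⟩ := TruncatedWittVector.truncate_surjective (p := p) (R := R) hle t
      refine ⟨Ideal.Quotient.mk I t', ?_⟩
      rw [natCast_mk, ← map_mul, Ideal.Quotient.eq, memI]
      refine ⟨-x, by rw [map_neg, hx, neg_zero], ?_⟩
      rw [mul_comm, mulp, map_add, map_neg]
      ring
  refine ⟨claim1, fun q => ?_⟩
  obtain ⟨w, rfl⟩ := Ideal.Quotient.mk_surjective q
  constructor
  · intro h
    rw [natCast_mk, ← map_mul, Ideal.Quotient.eq_zero_iff_mem, memI] at h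
    obtain ⟨x, hx, hxw⟩ := h
    rw [mulp] at hxw
    have hx2 := shift_inj hxw
    rw [claim1]
    have := hF (TruncatedWittVector.truncate hle w) 1
    rw [mul_one, ← hx2, hx, h1, mul_one, TruncatedWittVector.coeff_truncate] at this
    rw [this]
    rfl
  · intro h
    rw [Ideal.mem_span_singleton'] at h
    obtain ⟨c, hc⟩ := h
    obtain ⟨c, rfl⟩ := Ideal.Quotient.mk_surjective c
    rw [← hc, natCast_mk, ← map_mul, ← map_mul, Ideal.Quotient.eq_zero_iff_mem, memI]
    refine ⟨(p : TruncatedWittVector p m R) *
      WittGrp.frob p m hp (TruncatedWittVector.truncate hle c), ?_, ?_⟩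
    · rw [← nsmul_eq_mul, map_nsmul, nsmul_eq_mul, hp, zero_mul]
    · rw [mul_comm c, mulp c, projF, map_natCast, map_natCast]

end Groth.Agent.S16373
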