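import Groth.Statements.S1638
import Mathlib.RingTheory.Flat.Basic
import Mathlib.LinearAlgebra.Basis.VectorSpace
import Mathlib.LinearAlgebra.FreeModule.Basic

set_option autoImplicit false
universe u
open Brauer
open TensorProduct

namespace Groth.Agent.S1638

/-- Let A and A' be algebras over a field k with subalgebras B ⊆ A and B' ⊆ A' having centralizers C and
C'. Then the centralizer of the image of B ⊗ B' in A ⊗_k A' is the image of C ⊗_k C'. -/
theorem result (k : Type u) [Field k] (A A' : Type u) [Ring A] [Ring A'] [Algebra k A] [Algebra k A']
    (B : Subalgebra k A) (B' : Subalgebra k A') :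
    Subalgebra.centralizer k ((Algebra.TensorProduct.map B.val B'.val).range : Set (TensorProduct k A A')) =
      (Algebra.TensorProduct.map (Subalgebra.centralizer k (B : Set A)).val (Subalgebra.centralizer k (B' : Set A')).val).range := by
  set C := Subalgebra.centralizer k (B : Set A) with hC
  set C' := Subalgebra.centralizer k (B' : Set A') with hC'
  let φ : C ⊗[k] A' →ₐ[k] A ⊗[k] A' := Algebra.TensorProduct.map C.val (AlgHom.id k A')
  have hφ : Function.Injective φ := by
    have : Function.Injective (C.val.toLinearMap.rTensor A') :=
      Module.Flat.rTensor_preserves_injective_linearMap _ Subtype.val_injective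
    intro x y hxy
    apply this
    have e : ∀ z, φ z = (C.val.toLinearMap.rTensor A') z := by
      intro z
      induction z using TensorProduct.induction_on with
      | zero => simp
      | tmul c a => simp [φ]
      | add x y hx hy => simp only [map_add, hx, hy]
    rw [← e, ← e]; exact hxy
  ext w
  constructor
  · intro hw
    rw [Subalgebra.mem_centralizer_iff] at hw
    have h1 : w ∈ Subalgebra.centralizer k
        (Algebra.TensorProduct.includeLeft (S := k) (R := k) (A := A) (B := A') '' (B : Set A)) := by
      rw [Subalgebra.mem_centralizer_iff]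
      rintro _ ⟨b, hb, rfl⟩
      exact hw _ ⟨(⟨b, hb⟩ : B) ⊗ₜ 1, by simp⟩
    rw [Subalgebra.centralizer_coe_image_includeLeft_eq_center_tensorProduct] at h1
    obtain ⟨w₀, rfl⟩ := h1
    have h2 : w₀ ∈ Subalgebra.centralizer k
        (Algebra.TensorProduct.includeRight (R := k) (A := C) (B := A') '' (B' : Set A')) := by
      rw [Subalgebra.mem_centralizer_iff]
      rintro _ ⟨b', hb', rfl⟩
      apply hφ
      have := hw ((1 : A) ⊗ₜ b') ⟨1 ⊗ₜ (⟨b', hb'⟩ : B'), by simp⟩
      simpa [φ] using this
    rw [Subalgebra.centralizer_coe_image_includeRight_eq_center_tensorProduct] at h2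
    obtain ⟨w₁, rfl⟩ := h2
    refine ⟨w₁, ?_⟩
    clear hw
    induction w₁ using TensorProduct.induction_on with
    | zero => simp
    | tmul c c' => simp
    | add x y hx hy => simp only [map_add, hx, hy]
  · rintro ⟨w, rfl⟩
    rw [Subalgebra.mem_centralizer_iff]
    rintro _ ⟨z, rfl⟩
    induction w using TensorProduct.induction_on with
    | zero => simp
    | tmul c c' =>
      induction z using TensorProduct.induction_on with
      | zero => simp
      | tmul b b' =>
        have e1 := (Subalgebra.mem_centralizer_iff k).1 c.2 b b.2
        have e2 := (Subalgebra.mem_centralizer_iff k).1 c'.2 b' b'.2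
        simp [Algebra.TensorProduct.tmul_mul_tmul, e1, e2]
      | add x y hx hy => simp only [map_add, add_mul, mul_add, hx, hy]
    | add x y hx hy => simp only [map_add, add_mul, mul_add, hx, hy]


end Groth.Agent.S1638
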