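import Groth.Statements.S16396
import Mathlib
-- import your own Groth.Agent.* helpers here

set_option autoImplicit false
universe u
open CAlg

namespace Groth.Agent.S16396

open Polynomial in
/-- For a commutative ℚ-algebra A, a ℚ-subalgebra B of the polynomial algebra A[X] that contains X and
is closed under d/dX consists exactly of the polynomials each of whose coefficients is the value at
0 of some element of B; in other words B = ev(B)[X], with ev the evaluation at 0. -/
theorem result
    (A : Type u) [CommRing A] [Algebra ℚ A] (B : Subalgebra ℚ A[X])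
    (hX : (X : A[X]) ∈ B) (hD : ∀ P ∈ B, Polynomial.derivative P ∈ B) (P : A[X]) :
    P ∈ B ↔ ∀ i : ℕ, ∃ Q ∈ B, Polynomial.eval 0 Q = P.coeff i := by
  have key : ∀ n : ℕ, ∀ Q ∈ B, Q.natDegree ≤ n → Polynomial.C (Q.coeff 0) ∈ B := by
    intro n
    induction n with
    | zero =>
      intro Q hQ hdeg
      rw [← Polynomial.eq_C_of_natDegree_le_zero hdeg]
      exact hQ
    | succ n ih =>
      intro Q hQ hdeg
      set Q₁ : A[X] := Q - ((1 : ℚ) / ((n : ℚ) + 1)) • (X * Polynomial.derivative Q) with hQ₁
      have hQ₁B : Q₁ ∈ B :=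
        B.sub_mem hQ (B.smul_mem (B.mul_mem hX (hD Q hQ)) _)
      have hc0 : Q₁.coeff 0 = Q.coeff 0 := by
        rw [hQ₁, Polynomial.coeff_sub, Polynomial.coeff_smul, Polynomial.coeff_X_mul_zero, smul_zero,
          sub_zero]
      have hdeg₁ : Q₁.natDegree ≤ n := by
        rw [Polynomial.natDegree_le_iff_coeff_eq_zero]
        intro N hN
        obtain ⟨k, rfl⟩ : ∃ k, N = k + 1 := ⟨N - 1, by omega⟩
        rw [hQ₁, Polynomial.coeff_sub, Polynomial.coeff_smul, Polynomial.coeff_X_mul,
          Polynomial.coeff_derivative]
        rcases Nat.lt_or_ge n k with hk | hk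
        · have : Q.coeff (k + 1) = 0 :=
            Polynomial.coeff_eq_zero_of_natDegree_lt (by omega)
          rw [this]; simp
        · have hkn : k = n := by omega
          subst hkn
          rw [Algebra.smul_def, mul_comm (Q.coeff (k + 1)), ← mul_assoc]
          have : (algebraMap ℚ A) (1 / ((k : ℚ) + 1)) * ((k : A) + 1) = 1 := by
            have h1 : ((k : A) + 1) = algebraMap ℚ A ((k : ℚ) + 1) := by simp
            rw [h1, ← map_mul]
            have h2 : (1 : ℚ) / ((k : ℚ) + 1) * ((k : ℚ) + 1) = 1 := by
              have : ((k : ℚ) + 1) ≠ 0 := by positivity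
              field_simp
            rw [h2, map_one]
          rw [this, one_mul, sub_self]
      have := ih Q₁ hQ₁B hdeg₁
      rwa [hc0] at this
  constructor
  · intro hP i
    refine ⟨((1 : ℚ) / (i.factorial : ℚ)) • (Polynomial.derivative^[i] P), ?_, ?_⟩
    · refine B.smul_mem ?_ _
      clear key
      induction i with
      | zero => simpa using hP
      | succ i ih =>
        rw [Function.iterate_succ_apply']
        exact hD _ ih
    · rw [← Polynomial.coeff_zero_eq_eval_zero, Polynomial.coeff_smul,
        Polynomial.coeff_iterate_derivative, zero_add, Nat.descFactorial_self, Algebra.smul_def,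
        nsmul_eq_mul, ← mul_assoc]
      have : (algebraMap ℚ A) (1 / (i.factorial : ℚ)) * ((i.factorial : ℕ) : A) = 1 := by
        have h1 : ((i.factorial : ℕ) : A) = algebraMap ℚ A (i.factorial : ℚ) := by simp
        rw [h1, ← map_mul]
        have h2 : (1 : ℚ) / (i.factorial : ℚ) * (i.factorial : ℚ) = 1 := by
          have : (i.factorial : ℚ) ≠ 0 := by positivity
          field_simp
        rw [h2, map_one]
      rw [this, one_mul]
  · intro h
    rw [Polynomial.as_sum_range_C_mul_X_pow P]
    refine B.sum_mem fun i _ => ?_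
    obtain ⟨Q, hQ, hQi⟩ := h i
    rw [← hQi, ← Polynomial.coeff_zero_eq_eval_zero]
    exact B.mul_mem (key _ Q hQ le_rfl) (B.pow_mem hX i)

end Groth.Agent.S16396
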