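import Groth.Statements.S16401
-- import your own Groth.Agent.* helpers here

set_option autoImplicit false
universe u v
open CAlgX

namespace Groth.Agent.S16401

theorem prod_mem_aux {R : Type u} [CommRing R] {ι : Type v} [AddCommGroup ι]
    (E : ι → AddSubgroup R) (h0 : E 0 = ⊤)
    (hmul : ∀ a b : ι, ∀ x ∈ E a, ∀ y ∈ E b, x * y ∈ E (a + b))
    {κ : Type*} (s : Finset κ) (f : κ → R) (w : κ → ι) (h : ∀ k ∈ s, f k ∈ E (w k)) :
    ∏ k ∈ s, f k ∈ E (∑ k ∈ s, w k) := by
  classical
  induction s using Finset.induction_on with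
  | empty => simp [h0]
  | insert a s ha ih =>
    rw [Finset.prod_insert ha, Finset.sum_insert ha]
    exact hmul _ _ _ (h a (Finset.mem_insert_self _ _)) _
      (ih fun k hk => h k (Finset.mem_insert_of_mem hk))

theorem adj_mem_aux {R : Type u} [CommRing R] {ι : Type v} [AddCommGroup ι]
    (E : ι → AddSubgroup R) (h0 : E 0 = ⊤)
    (hmul : ∀ a b : ι, ∀ x ∈ E a, ∀ y ∈ E b, x * y ∈ E (a + b))
    {r : ℕ} (wβ wγ : Fin r → ι) (hsum : ∑ j, wβ j = ∑ i, wγ i)
    (ϑ : Matrix (Fin r) (Fin r) R) (hϑ : ∀ i j, ϑ i j ∈ E (wγ i - wβ j)) (i j : Fin r) :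
    ϑ.adjugate i j ∈ E (wβ i - wγ j) := by
  classical
  rw [Matrix.adjugate_apply, Matrix.det_apply]
  refine AddSubgroup.sum_mem _ fun σ _ => ?_
  have key : ∏ k, (ϑ.updateRow j (Pi.single i 1)) (σ k) k ∈ E (wβ i - wγ j) := by
    by_cases hσ : σ i = j
    · have hw : wβ i - wγ j = ∑ k, (if k = i then (0 : ι) else wγ (σ k) - wβ k) := by
        have h1 : ∀ k, (if k = i then (0 : ι) else wγ (σ k) - wβ k)
            = (wγ (σ k) - wβ k) - (if k = i then wγ (σ k) - wβ k else 0) := by
          intro k; split_ifs <;> simp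
        simp_rw [h1]
        rw [Finset.sum_sub_distrib, Finset.sum_sub_distrib, Finset.sum_ite_eq' Finset.univ i]
        simp only [Finset.mem_univ, if_true]
        rw [Equiv.sum_comp σ wγ, hsum, hσ]
        abel
      rw [hw]
      refine prod_mem_aux E h0 hmul _ _ _ fun k _ => ?_
      by_cases hk : k = i
      · subst hk
        rw [if_pos rfl, h0]; trivial
      · rw [if_neg hk]
        have : σ k ≠ j := fun h => hk (σ.injective (h.trans hσ.symm))
        rw [Matrix.updateRow_ne this]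
        exact hϑ _ _
    · have : ∏ k, (ϑ.updateRow j (Pi.single i 1)) (σ k) k = 0 := by
        refine Finset.prod_eq_zero (Finset.mem_univ (σ.symm j)) ?_
        rw [Equiv.apply_symm_apply, Matrix.updateRow_self]
        refine Pi.single_eq_of_ne ?_ _
        intro h
        exact hσ (by rw [← h, Equiv.apply_symm_apply])
      rw [this]; exact zero_mem _
  rcases Int.units_eq_one_or (Equiv.Perm.sign σ) with h | h
  · rw [h, one_smul]; exact key
  · rw [h, Units.neg_smul, one_smul]; exact neg_mem key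

/-- Let R be a commutative ring and (E_a), a ∈ ι, a family of additive subgroups of R indexed by an
additive commutative group ι, with E_0 = R and E_a · E_b ⊆ E_{a+b}. Let β, γ : Fin r → ι be weight
vectors with Σ_j β_j = Σ_i γ_i, and let ϑ be an r × r matrix over R with ϑ_{ij} ∈ E_{γ_i − β_j} for
all i, j and with unit determinant. Then a column vector u satisfies u_j ∈ E_{β_j} for every j if
and only if (ϑ u)_i ∈ E_{γ_i} for every i; since ϑ is invertible this says that ϑ maps the box Π_j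
E_{β_j} bijectively onto the box Π_i E_{γ_i}. -/
theorem result
    {R : Type u} [CommRing R] {ι : Type v} [AddCommGroup ι]
    (E : ι → AddSubgroup R) (h0 : E 0 = ⊤)
    (hmul : ∀ a b : ι, ∀ x ∈ E a, ∀ y ∈ E b, x * y ∈ E (a + b))
    {r : ℕ} (wβ wγ : Fin r → ι) (hsum : ∑ j, wβ j = ∑ i, wγ i)
    (ϑ : Matrix (Fin r) (Fin r) R) (hϑ : ∀ i j, ϑ i j ∈ E (wγ i - wβ j))
    (hdet : IsUnit ϑ.det) (u : Fin r → R) :
    (∀ j, u j ∈ E (wβ j)) ↔ ∀ i, ϑ.mulVec u i ∈ E (wγ i) := by
  constructor
  · intro hu i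
    rw [Matrix.mulVec, dotProduct]
    refine AddSubgroup.sum_mem _ fun j _ => ?_
    have := hmul _ _ _ (hϑ i j) _ (hu j)
    rwa [sub_add_cancel] at this
  · intro hw j
    have hinv : u = ϑ⁻¹.mulVec (ϑ.mulVec u) := by
      rw [Matrix.mulVec_mulVec, Matrix.nonsing_inv_mul _ hdet, Matrix.one_mulVec]
    rw [hinv, Matrix.inv_def, Matrix.mulVec, dotProduct]
    refine AddSubgroup.sum_mem _ fun i _ => ?_
    rw [Matrix.smul_apply, smul_eq_mul]
    have h1 : Ring.inverse ϑ.det ∈ E 0 := by rw [h0]; trivial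
    have h2 := hmul _ _ _ h1 _ (adj_mem_aux E h0 hmul wβ wγ hsum ϑ hϑ j i)
    have h3 := hmul _ _ _ h2 _ (hw i)
    rw [zero_add, sub_add_cancel] at h3
    exact h3

end Groth.Agent.S16401
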