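import Groth.Statements.S16405
-- import your own Groth.Agent.* helpers here

set_option autoImplicit false
universe u v
open InvQ

namespace Groth.Agent.S16405

/-- In weight form. Let b : L → ℤ^r be an injective homomorphism of abelian groups (the case in view: L
the character group of a maximal torus T of a semisimple group over ℂ and b the map dual to the
surjection of the rank-r split torus T' onto T that sends the i-th coordinate cocharacter to the
primitive generator of the i-th ray of the Weyl chamber; only the injectivity of b is used, and ℂ is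
replaced by any commutative ring k). Grade the monoid algebra k[L × ℕ^r] (the coordinate ring of T ×
𝔸^r) by ℤ^r, the monomial (w, n) having weight b(w) + n (the weights of the T'-action u·(t, v) =
(b^∨(u) t, u v)), and grade k[ℕ^r] by ℤ^r/b(L), the monomial n having weight the class of n (the
weights of the action on 𝔸^r of the diagonalizable kernel Z of T' → T, a finite group in the case in
view). For a diagonalizable group acting on an affine scheme the ring of invariants is the
weight-zero part, so the two weight-zero parts are the coordinate rings of the quotients (T ×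
𝔸^r)//T' and 𝔸^r//Z. The statement: the algebra map k[L × ℕ^r] → k[ℕ^r] induced by the projection L
× ℕ^r → ℕ^r (restriction to the slice 1 × 𝔸^r) maps the weight-zero part of k[L × ℕ^r] bijectively
onto the weight-zero part of k[ℕ^r]; hence it induces an isomorphism of k-algebras between them. -/
theorem result
    (k : Type u) [CommRing k] (r : ℕ) (L : Type v) [AddCommGroup L]
    (b : L →+ (Fin r → ℤ)) (hb : Function.Injective b) :
    Set.BijOn
      (AddMonoidAlgebra.mapDomainAlgHom k k (AddMonoidHom.snd L (Fin r → ℕ)))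
      (AddMonoidAlgebra.gradeBy k
        (b.comp (AddMonoidHom.fst L (Fin r → ℕ)) +
          (AddMonoidHom.compLeft (Nat.castAddMonoidHom ℤ) (Fin r)).comp (AddMonoidHom.snd L (Fin r → ℕ))) 0 :
        Set (AddMonoidAlgebra k (L × (Fin r → ℕ))))
      (AddMonoidAlgebra.gradeBy k
        ((QuotientAddGroup.mk' b.range).comp (AddMonoidHom.compLeft (Nat.castAddMonoidHom ℤ) (Fin r))) 0 :
        Set (AddMonoidAlgebra k (Fin r → ℕ))) := by
  classical
  set φ : L × (Fin r → ℕ) →+ (Fin r → ℤ) := (b.comp (AddMonoidHom.fst L (Fin r → ℕ)) +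
            (AddMonoidHom.compLeft (Nat.castAddMonoidHom ℤ) (Fin r)).comp (AddMonoidHom.snd L (Fin r → ℕ))) with hφ
  set ψ : (Fin r → ℕ) →+ (Fin r → ℤ) ⧸ b.range := ((QuotientAddGroup.mk' b.range).comp (AddMonoidHom.compLeft (Nat.castAddMonoidHom ℤ) (Fin r))) with hψ
  set c : (Fin r → ℕ) →+ (Fin r → ℤ) := (AddMonoidHom.compLeft (Nat.castAddMonoidHom ℤ) (Fin r)) with hc
  have hφ' : ∀ p : L × (Fin r → ℕ), φ p = b p.1 + c p.2 := fun p => rfl
  have hψ' : ∀ n, ψ n = QuotientAddGroup.mk (c n) := fun n => rfl
  have hinj : Set.InjOn (Prod.snd : L × (Fin r → ℕ) → (Fin r → ℕ)) (φ ⁻¹' {0}) := by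
    rintro ⟨w, n⟩ h1 ⟨w', n'⟩ h2 (h : n = n')
    subst h
    simp only [Set.mem_preimage, Set.mem_singleton_iff, hφ'] at h1 h2
    have : b w = b w' := by
      have := h1.trans h2.symm
      exact add_right_cancel this
    rw [hb this]
  refine ⟨?_, ?_, ?_⟩
  · intro x hx
    rw [SetLike.mem_coe, AddMonoidAlgebra.mem_gradeBy_iff] at hx ⊢
    intro n hn
    rw [AddMonoidAlgebra.mapDomainAlgHom_apply] at hn
    have hn' : n ∈ (Finsupp.mapDomain Prod.snd x.coeff).support := hn
    have := Finsupp.mapDomain_support hn'
    rw [Finset.mem_image] at this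
    obtain ⟨⟨w, n'⟩, hp, rfl⟩ := this
    have h0 := hx hp
    simp only [Set.mem_preimage, Set.mem_singleton_iff, hφ'] at h0
    simp only [Set.mem_preimage, Set.mem_singleton_iff, hψ']
    rw [QuotientAddGroup.eq_zero_iff]
    refine ⟨-w, ?_⟩
    rw [map_neg]
    exact neg_eq_of_add_eq_zero_right h0
  · intro x hx y hy hxy
    rw [SetLike.mem_coe, AddMonoidAlgebra.mem_gradeBy_iff] at hx hy
    rw [AddMonoidAlgebra.mapDomainAlgHom_apply, AddMonoidAlgebra.mapDomainAlgHom_apply] at hxy
    have h2 : Finsupp.mapDomain Prod.snd x.coeff = Finsupp.mapDomain Prod.snd y.coeff :=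
      congrArg AddMonoidAlgebra.coeff hxy
    have := Finsupp.mapDomain_injOn _ hinj hx hy h2
    exact AddMonoidAlgebra.coeff_injective this
  · intro y hy
    rw [SetLike.mem_coe, AddMonoidAlgebra.mem_gradeBy_iff] at hy
    let g : (Fin r → ℕ) → L × (Fin r → ℕ) := fun n =>
      (if h : ∃ w, b w = - c n then h.choose else 0, n)
    have hg : ∀ n, c n ∈ b.range → φ (g n) = 0 := by
      intro n hn
      have hex : ∃ w, b w = - c n := by
        obtain ⟨w, hw⟩ := hn
        exact ⟨-w, by rw [map_neg, hw]⟩
      rw [hφ']
      simp only [g, dif_pos hex]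
      rw [hex.choose_spec]
      exact neg_add_cancel _
    refine ⟨AddMonoidAlgebra.mapDomain g y, ?_, ?_⟩
    · rw [SetLike.mem_coe, AddMonoidAlgebra.mem_gradeBy_iff]
      intro p hp
      have hp' : p ∈ (Finsupp.mapDomain g y.coeff).support := hp
      have := Finsupp.mapDomain_support hp'
      rw [Finset.mem_image] at this
      obtain ⟨n, hn, rfl⟩ := this
      have h0 := hy hn
      simp only [Set.mem_preimage, Set.mem_singleton_iff, hψ'] at h0
      rw [QuotientAddGroup.eq_zero_iff] at h0
      exact hg n h0
    · rw [AddMonoidAlgebra.mapDomainAlgHom_apply]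
      apply AddMonoidAlgebra.coeff_injective
      show Finsupp.mapDomain Prod.snd (Finsupp.mapDomain g y.coeff) = y.coeff
      rw [← Finsupp.mapDomain_comp]
      exact Finsupp.mapDomain_id

end Groth.Agent.S16405
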