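import Groth.Statements.S16414
import Mathlib
-- import your own Groth.Agent.* helpers here

set_option autoImplicit false
open Dieud

namespace Groth.Agent.S16414

/-- Let μ be a rational number with 0 < μ ≤ 1 and i an integer, and put f(i,j) = max(−i−j, −j, 0) for
integers j. Then min over all integers j of f(i,j) + jμ exists and equals max(−iμ, 0). -/
theorem result (μ : ℚ) (hμ0 : 0 < μ) (hμ1 : μ ≤ 1) (i : ℤ) :
    IsLeast (Set.range fun j : ℤ => ((max (max (-i - j) (-j)) 0 : ℤ) : ℚ) + (j : ℚ) * μ)
      (max (-(i : ℚ) * μ) 0) := by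
  constructor
  · -- attained at j = max (-i) 0
    refine ⟨max (-i) 0, ?_⟩
    simp only
    rcases le_total 0 i with hi | hi
    · have h1 : max (-i) 0 = 0 := max_eq_right (by omega)
      rw [h1]
      have h2 : max (max (-i - 0) (-0)) 0 = (0 : ℤ) := by
        simp; omega
      rw [h2]
      have h3 : max (-(i : ℚ) * μ) 0 = 0 := by
        apply max_eq_right
        have : (0 : ℚ) ≤ i := by exact_mod_cast hi
        nlinarith
      rw [h3]; simp
    · have h1 : max (-i) 0 = -i := max_eq_left (by omega)
      rw [h1]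
      have h2 : max (max (-i - -i) (- -i)) 0 = (0 : ℤ) := by
        simp; omega
      rw [h2]
      have h3 : max (-(i : ℚ) * μ) 0 = -(i : ℚ) * μ := by
        apply max_eq_left
        have : (i : ℚ) ≤ 0 := by exact_mod_cast hi
        nlinarith
      rw [h3]; push_cast; ring
  · rintro _ ⟨j, rfl⟩
    simp only
    have hA : ((max (max (-i - j) (-j)) 0 : ℤ) : ℚ) ≥ -(i : ℚ) - j := by
      have : max (max (-i - j) (-j)) 0 ≥ -i - j := le_max_of_le_left (le_max_left _ _)
      exact_mod_cast this
    have hB : ((max (max (-i - j) (-j)) 0 : ℤ) : ℚ) ≥ -(j : ℚ) := by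
      have : max (max (-i - j) (-j)) 0 ≥ -j := le_max_of_le_left (le_max_right _ _)
      exact_mod_cast this
    have hC : ((max (max (-i - j) (-j)) 0 : ℤ) : ℚ) ≥ 0 := by
      have : max (max (-i - j) (-j)) 0 ≥ (0 : ℤ) := le_max_right _ _
      exact_mod_cast this
    apply max_le
    · -- -(i) μ ≤ f + j μ
      rcases le_total (0 : ℚ) ((i : ℚ) + j) with h | h
      · nlinarith
      · nlinarith
    · rcases le_total (0 : ℚ) (j : ℚ) with h | h
      · nlinarith
      · nlinarith

end Groth.Agent.S16414
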