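import Groth.Statements.S16418
import Mathlib
-- import your own Groth.Agent.* helpers here

set_option autoImplicit false
universe u v
open Dieud

namespace Groth.Agent.S16418

/-- Step of the proof: for a prime p and a perfect field k of characteristic p, write W = W(k) and σ for
its Frobenius; let M be a W-module with additive maps F (σ-semilinear) and V (with V(σ(a)m) = aV(m))
such that FV = VF = p, V is injective, ⋂_n V^n M = 0 and M/VM is finitely generated over W. Put M₁ =
{x ∈ M : for every n there is m with V^m x ∈ F^n M} and M₂ = {x ∈ M : F^n x = 0 for some n}. Then M₂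
is killed by a single power of F, and F is injective on M₁. (The published text makes these
assertions inside a proof, for the V-reduced Cartier module of a connected smooth formal group of
finite dimension over k; only the listed structure is used, and V-adic completeness is not needed.) -/
theorem result
    (p : ℕ) [Fact p.Prime] (k : Type u) [Field k] [CharP k p] [PerfectRing k p]
    (M : Type v) [AddCommGroup M] [Module (WittVector p k) M]
    (F V : M →+ M)
    (hF : ∀ (a : WittVector p k) (m : M), F (a • m) = WittVector.frobenius a • F m)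
    (hV : ∀ (a : WittVector p k) (m : M), V (WittVector.frobenius a • m) = a • V m)
    (hFV : ∀ m : M, F (V m) = (p : WittVector p k) • m)
    (hVF : ∀ m : M, V (F m) = (p : WittVector p k) • m)
    (hVinj : Function.Injective V)
    (hsep : ∀ x : M, (∀ n : ℕ, ∃ y : M, x = (⇑V)^[n] y) → x = 0)
    (hfin : Module.Finite (WittVector p k) (M ⧸ Submodule.span (WittVector p k) (Set.range V))) :
    (∃ c : ℕ, ∀ x : M, (∃ n : ℕ, (⇑F)^[n] x = 0) → (⇑F)^[c] x = 0) ∧
    (∀ x : M, (∀ n : ℕ, ∃ (m : ℕ) (y : M), (⇑V)^[m] x = (⇑F)^[n] y) → F x = 0 → x = 0) := by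
  classical
  have hcomm : Function.Commute (⇑F) (⇑V) := fun x => by rw [hFV, hVF]
  have hFn : ∀ (n : ℕ) (a : WittVector p k) (m : M),
      (⇑F)^[n] (a • m) = ((⇑(WittVector.frobenius : WittVector p k →+* WittVector p k))^[n] a) • (⇑F)^[n] m := by
    intro n
    induction n with
    | zero => intro a m; rfl
    | succ n ih =>
      intro a m
      rw [Function.iterate_succ_apply', Function.iterate_succ_apply', Function.iterate_succ_apply', ih, hF]
  have hVrange : ∀ x ∈ Submodule.span (WittVector p k) (Set.range V), ∃ y, x = V y := by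
    intro x hx
    induction hx using Submodule.span_induction with
    | mem x h => obtain ⟨y, rfl⟩ := h; exact ⟨y, rfl⟩
    | zero => exact ⟨0, (map_zero V).symm⟩
    | add x y _ _ hx hy =>
      obtain ⟨a, rfl⟩ := hx; obtain ⟨b, rfl⟩ := hy; exact ⟨a + b, (map_add V a b).symm⟩
    | smul a x _ hx =>
      obtain ⟨y, rfl⟩ := hx
      exact ⟨WittVector.frobenius a • y, (hV a y).symm⟩
  let K : ℕ → Submodule (WittVector p k) M := fun n =>
    { carrier := {x | (⇑F)^[n] x = 0}
      zero_mem' := iterate_map_zero F n
      add_mem' := by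
        intro a b ha hb
        simp only [Set.mem_setOf_eq] at ha hb ⊢
        rw [iterate_map_add, ha, hb, add_zero]
      smul_mem' := by
        intro a x hx
        simp only [Set.mem_setOf_eq] at hx ⊢
        rw [hFn, hx, smul_zero] }
  have hKmem : ∀ n x, x ∈ K n ↔ (⇑F)^[n] x = 0 := fun n x => Iff.rfl
  have hKmono : Monotone K := by
    refine monotone_nat_of_le_succ fun n x hx => ?_
    rw [hKmem] at hx ⊢
    rw [Function.iterate_succ_apply', hx, map_zero]
  have hnoeth : IsNoetherian (WittVector p k) (M ⧸ Submodule.span (WittVector p k) (Set.range V)) :=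
    isNoetherian_of_isNoetherianRing_of_finite _ _
  let Kbar : ℕ →o Submodule (WittVector p k) (M ⧸ Submodule.span (WittVector p k) (Set.range V)) :=
    ⟨fun n => (K n).map (Submodule.span (WittVector p k) (Set.range V)).mkQ,
      fun a b hab => Submodule.map_mono (hKmono hab)⟩
  obtain ⟨n₀, hn₀⟩ := monotone_stabilizes_iff_noetherian.mpr hnoeth Kbar
  have main : ∀ (m n : ℕ), n₀ ≤ n → ∀ x ∈ K n, ∃ z, (⇑F)^[n₀] x = (⇑V)^[m] z := by
    intro m
    induction m with
    | zero => intro n _ x _; exact ⟨_, rfl⟩
    | succ m ih =>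
      intro n hn x hx
      have h1 : (Submodule.span (WittVector p k) (Set.range V)).mkQ x ∈ Kbar n := ⟨x, hx, rfl⟩
      rw [← hn₀ n hn] at h1
      obtain ⟨x₀, hx₀, hx₀'⟩ := h1
      have h2 : x - x₀ ∈ Submodule.span (WittVector p k) (Set.range V) := by
        rw [← Submodule.Quotient.eq]
        exact hx₀'.symm
      obtain ⟨y, hy⟩ := hVrange _ h2
      have hy' : y ∈ K n := by
        rw [hKmem]
        apply hVinj
        rw [map_zero, ← (hcomm.iterate_left n) y, ← hy, iterate_map_sub]
        rw [(hKmem n x).1 hx, (hKmem n x₀).1 (hKmono hn hx₀), sub_zero]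
      obtain ⟨z, hz⟩ := ih n hn y hy'
      refine ⟨z, ?_⟩
      have hx' : x = x₀ + V y := by rw [← hy]; abel
      rw [hx', iterate_map_add, (hKmem n₀ x₀).1 hx₀, zero_add, (hcomm.iterate_left n₀) y, hz,
        Function.iterate_succ_apply']
  have part1 : ∀ x : M, (∃ n : ℕ, (⇑F)^[n] x = 0) → (⇑F)^[n₀] x = 0 := by
    rintro x ⟨n, hn⟩
    apply hsep
    intro m
    have hx : x ∈ K (max n n₀) := hKmono (le_max_left n n₀) ((hKmem n x).2 hn)
    exact main m (max n n₀) (le_max_right n n₀) x hx
  refine ⟨⟨n₀, part1⟩, ?_⟩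
  intro x hx hFx
  obtain ⟨m, y, hmy⟩ := hx n₀
  have h1 : (⇑F)^[n₀] y = 0 := by
    apply part1
    refine ⟨n₀ + 1, ?_⟩
    rw [Function.iterate_succ_apply', ← hmy, (hcomm.iterate_right m) x, hFx, iterate_map_zero]
  rw [h1] at hmy
  have hVm : Function.Injective (⇑V)^[m] := hVinj.iterate m
  apply hVm
  rw [hmy, iterate_map_zero]

end Groth.Agent.S16418
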