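import Groth.Statements.S16430
import Mathlib
-- import your own Groth.Agent.* helpers here

set_option autoImplicit false
universe u
open Hensel

namespace Groth.Agent.S16430

open Polynomial IsLocalRing in
theorem aux (A : Type u)
    [CommRing A] [IsLocalRing A] (l : Type u) [Field l]
    [Algebra (IsLocalRing.ResidueField A) l] [FiniteDimensional (IsLocalRing.ResidueField A) l]
    [Algebra.IsSeparable (IsLocalRing.ResidueField A) l] :
    ∃ (E : Type u) (_ : CommRing E) (_ : IsLocalRing E) (_ : Algebra A E)
      (_ : IsLocalHom (algebraMap A E)),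
      Module.Finite A E ∧ Algebra.Etale A E ∧
        Nonempty (IsLocalRing.ResidueField E ≃ₐ[IsLocalRing.ResidueField A] l) := by
  classical
  obtain ⟨β, hβ⟩ := Field.exists_primitive_element (ResidueField A) l
  have hβint : IsIntegral (ResidueField A) β := Algebra.IsIntegral.isIntegral β
  have hfbar_monic : (minpoly (ResidueField A) β).Monic := minpoly.monic hβint
  have hfbar_sep : (minpoly (ResidueField A) β).Separable :=
    Algebra.IsSeparable.isSeparable (ResidueField A) β
  have hlift : minpoly (ResidueField A) β ∈ Polynomial.lifts (residue A) := by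
    rw [Polynomial.mem_lifts]
    exact Polynomial.map_surjective _ residue_surjective _
  obtain ⟨f, hf_map, -, hf_monic⟩ :=
    Polynomial.lifts_and_natDegree_eq_and_monic hlift hfbar_monic
  have hev : f.eval₂ ((algebraMap (ResidueField A) l).comp (residue A)) β = 0 := by
    rw [← Polynomial.eval₂_map, hf_map]
    exact minpoly.aeval _ β
  let φ : AdjoinRoot f →+* l :=
    AdjoinRoot.lift ((algebraMap (ResidueField A) l).comp (residue A)) β hev
  have hφmk : ∀ g : A[X], φ (AdjoinRoot.mk f g) = aeval β (g.map (residue A)) := by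
    intro g
    rw [AdjoinRoot.lift_mk, aeval_def, Polynomial.eval₂_map]
  have hadj : Algebra.adjoin (ResidueField A) {β} = ⊤ := by
    rw [← IntermediateField.adjoin_simple_toSubalgebra_of_isAlgebraic hβint.isAlgebraic, hβ,
      IntermediateField.top_toSubalgebra]
  have hφ_surj : Function.Surjective φ := by
    intro y
    have hy : y ∈ Algebra.adjoin (ResidueField A) {β} := by rw [hadj]; trivial
    rw [Algebra.adjoin_singleton_eq_range_aeval] at hy
    obtain ⟨q, rfl⟩ := hy
    obtain ⟨g, rfl⟩ := Polynomial.map_surjective _ (residue_surjective (R := A)) q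
    exact ⟨AdjoinRoot.mk f g, hφmk g⟩
  have hker_max : (RingHom.ker φ).IsMaximal := RingHom.ker_isMaximal_of_surjective φ hφ_surj
  have hle_ker : (maximalIdeal A).map (algebraMap A (AdjoinRoot f)) ≤ RingHom.ker φ := by
    rw [Ideal.map_le_iff_le_comap]
    intro a ha
    rw [Ideal.mem_comap, RingHom.mem_ker, AdjoinRoot.algebraMap_eq, AdjoinRoot.lift_of,
      RingHom.comp_apply, (residue_eq_zero_iff a).2 ha, map_zero]
  have hker_le : RingHom.ker φ ≤ (maximalIdeal A).map (algebraMap A (AdjoinRoot f)) := by
    intro x hx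
    obtain ⟨g, rfl⟩ := AdjoinRoot.mk_surjective x
    rw [RingHom.mem_ker, hφmk] at hx
    obtain ⟨qbar, hq⟩ := minpoly.dvd _ β hx
    obtain ⟨q, rfl⟩ := Polynomial.map_surjective _ (residue_surjective (R := A)) qbar
    have h1 : g - f * q ∈ RingHom.ker (Polynomial.mapRingHom (residue A)) := by
      rw [RingHom.mem_ker, Polynomial.coe_mapRingHom, Polynomial.map_sub, Polynomial.map_mul,
        hq, hf_map, sub_self]
    rw [Polynomial.ker_mapRingHom, ker_residue] at h1
    have h2 : AdjoinRoot.mk f g = AdjoinRoot.mk f (g - f * q) := by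
      rw [map_sub, map_mul, AdjoinRoot.mk_self, zero_mul, sub_zero]
    rw [h2, AdjoinRoot.algebraMap_eq]
    have h3 : (AdjoinRoot.of f) = (AdjoinRoot.mk f).comp Polynomial.C := rfl
    rw [h3, ← Ideal.map_map]
    exact Ideal.mem_map_of_mem _ h1
  haveI hfin : Module.Finite A (AdjoinRoot f) := hf_monic.finite_adjoinRoot
  haveI hint : Algebra.IsIntegral A (AdjoinRoot f) := Algebra.IsIntegral.of_finite A (AdjoinRoot f)
  have hunit : ∀ x : AdjoinRoot f, φ x ≠ 0 → IsUnit x := by
    intro x hx
    by_contra hnu
    obtain ⟨M, hM, hxM⟩ := exists_max_ideal_of_mem_nonunits hnu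
    have hcm : (M.comap (algebraMap A (AdjoinRoot f))).IsMaximal :=
      Ideal.isMaximal_comap_of_isIntegral_of_isMaximal M
    have hcm' := IsLocalRing.eq_maximalIdeal hcm
    have h1 : (maximalIdeal A).map (algebraMap A (AdjoinRoot f)) ≤ M := by
      rw [Ideal.map_le_iff_le_comap, hcm']
    have h2 : RingHom.ker φ = M :=
      Ideal.IsMaximal.eq_of_le hker_max hM.ne_top (hker_le.trans h1)
    rw [← h2] at hxM
    exact hx hxM
  haveI : Nontrivial (AdjoinRoot f) := RingHom.domain_nontrivial φ
  have hnonunit : ∀ x : AdjoinRoot f, x ∈ nonunits (AdjoinRoot f) ↔ φ x = 0 := by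
    intro x
    constructor
    · intro hx
      by_contra h
      exact hx (hunit x h)
    · intro hx hu
      exact (hu.map φ).ne_zero hx
  haveI hloc : IsLocalRing (AdjoinRoot f) := by
    refine IsLocalRing.of_nonunits_add ?_
    intro a b ha hb
    rw [hnonunit] at ha hb ⊢
    rw [map_add, ha, hb, add_zero]
  have hmaxE : RingHom.ker φ = maximalIdeal (AdjoinRoot f) := IsLocalRing.eq_maximalIdeal hker_max
  haveI hlochom : IsLocalHom (algebraMap A (AdjoinRoot f)) := by
    refine ⟨fun a ha => ?_⟩
    by_contra hna
    have h1 : a ∈ maximalIdeal A := hna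
    have h2 := hle_ker (Ideal.mem_map_of_mem _ h1)
    exact (ha.map φ).ne_zero h2
  refine ⟨AdjoinRoot f, inferInstance, hloc, inferInstance, hlochom, hfin, ?_, ?_⟩
  · -- etale
    have hder : IsUnit (AdjoinRoot.mk f (derivative f)) := by
      apply hunit
      rw [hφmk, ← Polynomial.derivative_map, hf_map]
      exact hfbar_sep.aeval_derivative_ne_zero (minpoly.aeval _ β)
    obtain ⟨y, hy⟩ := hder.exists_right_inv
    obtain ⟨p₁, rfl⟩ := AdjoinRoot.mk_surjective y
    have h1 : AdjoinRoot.mk f (derivative f * p₁ - 1) = 0 := by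
      rw [map_sub, map_mul, hy, map_one, sub_self]
    rw [AdjoinRoot.mk_eq_zero] at h1
    obtain ⟨c, hc⟩ := h1
    let P : StandardEtalePair A :=
      { f := f
        monic_f := hf_monic
        g := 1
        cond := ⟨p₁, -c, 0, by rw [pow_zero, mul_neg, ← hc]; ring⟩ }
    have hmap : P.HasMap (AdjoinRoot.root f) := by
      refine ⟨?_, ?_⟩
      · show aeval (AdjoinRoot.root f) f = 0
        rw [AdjoinRoot.aeval_eq, AdjoinRoot.mk_self]
      · show IsUnit (aeval (AdjoinRoot.root f) (1 : A[X]))
        rw [map_one]; exact isUnit_one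
    let e1 : P.Ring →ₐ[A] AdjoinRoot f := P.lift (AdjoinRoot.root f) hmap
    let e2 : AdjoinRoot f →ₐ[A] P.Ring := AdjoinRoot.liftAlgHom f (Algebra.ofId A P.Ring) P.X
      (by
        have := (StandardEtalePair.hasMap_X (P := P)).1
        rw [← this]; rfl)
    have h12 : e1.comp e2 = AlgHom.id A _ := by
      apply AdjoinRoot.algHom_ext
      simp [e1, e2]
    have h21 : e2.comp e1 = AlgHom.id A _ := by
      apply StandardEtalePair.hom_ext
      simp [e1, e2]
    exact Algebra.Etale.of_equiv (AlgEquiv.ofAlgHom e1 e2 h12 h21)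
  · -- residue field
    haveI : IsLocalHom φ := ⟨fun x hx => hunit x hx.ne_zero⟩
    let ψ : ResidueField (AdjoinRoot f) →+* l := ResidueField.lift φ
    have hψ : ∀ x, ψ (residue _ x) = φ x := fun x => ResidueField.lift_residue_apply φ x
    let ψa : ResidueField (AdjoinRoot f) →ₐ[ResidueField A] l :=
      { ψ with
        commutes' := by
          intro r
          obtain ⟨a, rfl⟩ := residue_surjective r
          show ψ (algebraMap (ResidueField A) (ResidueField (AdjoinRoot f)) (residue A a)) = _
          rw [ResidueField.algebraMap_residue, hψ, AdjoinRoot.algebraMap_eq, AdjoinRoot.lift_of]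
          rfl }
    refine ⟨AlgEquiv.ofBijective ψa ⟨ψ.injective, ?_⟩⟩
    intro y
    obtain ⟨x, rfl⟩ := hφ_surj y
    exact ⟨residue _ x, hψ x⟩

/-- For a Noetherian local ring A with residue field k and a finite separable field extension l of k,
there is a local ring E, finite and etale over A with local structure map, whose residue field is
k-isomorphic to l. -/
theorem result (A : Type u)
    [CommRing A] [IsLocalRing A] [IsNoetherianRing A] (l : Type u) [Field l]
    [Algebra (IsLocalRing.ResidueField A) l] [FiniteDimensional (IsLocalRing.ResidueField A) l]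
    [Algebra.IsSeparable (IsLocalRing.ResidueField A) l] :
    ∃ (E : Type u) (_ : CommRing E) (_ : IsLocalRing E) (_ : Algebra A E)
      (_ : IsLocalHom (algebraMap A E)),
      Module.Finite A E ∧ Algebra.Etale A E ∧
        Nonempty (IsLocalRing.ResidueField E ≃ₐ[IsLocalRing.ResidueField A] l) := by
  exact aux A l

end Groth.Agent.S16430
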