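import Groth.Statements.S16452
import Mathlib
import Groth.Agent.Lib.Helper8.GrMapBij
-- import your own Groth.Agent.* helpers here

set_option autoImplicit false
universe u
open CAlg

namespace Groth.Agent.S16452

theorem fe_key (R : Type u) [CommRing R] (S : Type u)
    [CommRing S] [Algebra R S] [Algebra.FormallyEtale R S] (J : Ideal S)
    (hJ : Function.Surjective (algebraMap R (S ⧸ J))) (n : ℕ) :
    (∀ a : R, algebraMap R S a ∈ J ^ n → a ∈ (J.comap (algebraMap R S)) ^ n) ∧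
      (∀ s : S, ∃ a : R, s - algebraMap R S a ∈ J ^ n) := by
  rcases Nat.eq_zero_or_pos n with rfl | hn
  · simp
  set I : Ideal R := J.comap (algebraMap R S) with hI
  have hker : ∀ a : R, algebraMap R (S ⧸ J) a = 0 ↔ a ∈ I := by
    intro a
    rw [IsScalarTower.algebraMap_apply R S (S ⧸ J), Ideal.Quotient.algebraMap_eq,
      Ideal.Quotient.eq_zero_iff_mem, hI, Ideal.mem_comap]
  have hIn : I ^ n ≤ I := Ideal.pow_le_self (Nat.pos_iff_ne_zero.1 hn)
  have hJn : J ^ n ≤ J := Ideal.pow_le_self (Nat.pos_iff_ne_zero.1 hn)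
  let g : R ⧸ I ^ n →ₐ[R] S ⧸ J := Ideal.Quotient.liftₐ (I ^ n) (Algebra.ofId R (S ⧸ J))
    (fun a ha => (hker a).2 (hIn ha))
  have hg_mk : ∀ a : R, g (Ideal.Quotient.mk (I ^ n) a) = algebraMap R (S ⧸ J) a := fun a => rfl
  have hg : Function.Surjective g := by
    intro y
    obtain ⟨a, rfl⟩ := hJ y
    exact ⟨Ideal.Quotient.mk _ a, hg_mk a⟩
  have hkerg : RingHom.ker (g : R ⧸ I ^ n →+* S ⧸ J) ≤ I.map (Ideal.Quotient.mk (I ^ n)) := by
    intro x hx
    obtain ⟨a, rfl⟩ := Ideal.Quotient.mk_surjective x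
    rw [RingHom.mem_ker] at hx
    have : algebraMap R (S ⧸ J) a = 0 := hx
    exact Ideal.mem_map_of_mem _ ((hker a).1 this)
  have hkerg_pow : RingHom.ker (g : R ⧸ I ^ n →+* S ⧸ J) ^ n = ⊥ := by
    rw [eq_bot_iff]
    calc RingHom.ker (g : R ⧸ I ^ n →+* S ⧸ J) ^ n
        ≤ (I.map (Ideal.Quotient.mk (I ^ n))) ^ n := Ideal.pow_right_mono hkerg n
      _ = (I ^ n).map (Ideal.Quotient.mk (I ^ n)) := (Ideal.map_pow _ _ _).symm
      _ = ⊥ := Ideal.map_quotient_self _
  have hg' : IsNilpotent (RingHom.ker (g : R ⧸ I ^ n →+* S ⧸ J)) := ⟨n, hkerg_pow⟩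
  let ψ : S →ₐ[R] R ⧸ I ^ n :=
    Algebra.FormallySmooth.liftOfSurjective (Ideal.Quotient.mkₐ R J) g hg hg'
  have hψ : ∀ s, g (ψ s) = Ideal.Quotient.mk J s := fun s =>
    Algebra.FormallySmooth.liftOfSurjective_apply (Ideal.Quotient.mkₐ R J) g hg hg' s
  constructor
  · intro a ha
    have h1 : ψ (algebraMap R S a) = Ideal.Quotient.mk (I ^ n) a := ψ.commutes a
    have h2 : J.map (ψ : S →+* R ⧸ I ^ n) ≤ RingHom.ker (g : R ⧸ I ^ n →+* S ⧸ J) := by
      rw [Ideal.map_le_iff_le_comap]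
      intro j hj
      rw [Ideal.mem_comap, RingHom.mem_ker]
      have := hψ j
      rw [Ideal.Quotient.eq_zero_iff_mem.2 hj] at this
      exact this
    have h3 : (J ^ n).map (ψ : S →+* R ⧸ I ^ n) ≤ ⊥ := by
      rw [Ideal.map_pow, ← hkerg_pow]
      exact Ideal.pow_right_mono h2 n
    have h4 : ψ (algebraMap R S a) = 0 := by
      have := h3 (Ideal.mem_map_of_mem (ψ : S →+* R ⧸ I ^ n) ha)
      exact this
    rw [h1, Ideal.Quotient.eq_zero_iff_mem] at h4
    exact h4
  · intro s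
    have hle : I ^ n ≤ RingHom.ker (algebraMap R (S ⧸ J ^ n)) := by
      intro a ha
      rw [RingHom.mem_ker, IsScalarTower.algebraMap_apply R S (S ⧸ J ^ n),
        Ideal.Quotient.algebraMap_eq, Ideal.Quotient.eq_zero_iff_mem]
      have h1 : (I ^ n).map (algebraMap R S) ≤ J ^ n := by
        rw [Ideal.map_pow]
        exact Ideal.pow_right_mono Ideal.map_comap_le n
      exact h1 (Ideal.mem_map_of_mem _ ha)
    let l : R ⧸ I ^ n →ₐ[R] S ⧸ J ^ n := Ideal.Quotient.liftₐ (I ^ n) (Algebra.ofId R (S ⧸ J ^ n))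
      (fun a ha => hle ha)
    have hl_mk : ∀ a : R, l (Ideal.Quotient.mk (I ^ n) a) = algebraMap R (S ⧸ J ^ n) a :=
      fun a => rfl
    let θ : S →ₐ[R] S ⧸ J ^ n := l.comp ψ
    let π : S →ₐ[R] S ⧸ J ^ n := Ideal.Quotient.mkₐ R (J ^ n)
    let f : S ⧸ J ^ n →+* S ⧸ J := Ideal.Quotient.factor hJn
    have hf_mk : ∀ s : S, f (Ideal.Quotient.mk (J ^ n) s) = Ideal.Quotient.mk J s := fun s => rfl
    have hkerf : RingHom.ker f ≤ J.map (Ideal.Quotient.mk (J ^ n)) := by
      intro x hx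
      obtain ⟨s, rfl⟩ := Ideal.Quotient.mk_surjective x
      rw [RingHom.mem_ker, hf_mk, Ideal.Quotient.eq_zero_iff_mem] at hx
      exact Ideal.mem_map_of_mem _ hx
    have hf : IsNilpotent (RingHom.ker f) := by
      refine ⟨n, ?_⟩
      rw [Ideal.zero_eq_bot, eq_bot_iff]
      calc RingHom.ker f ^ n ≤ (J.map (Ideal.Quotient.mk (J ^ n))) ^ n :=
            Ideal.pow_right_mono hkerf n
        _ = (J ^ n).map (Ideal.Quotient.mk (J ^ n)) := (Ideal.map_pow _ _ _).symm
        _ = ⊥ := Ideal.map_quotient_self _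
    have hθπ : θ = π := by
      apply Algebra.FormallyUnramified.ext' f hf
      intro s
      show f (l (ψ s)) = f (Ideal.Quotient.mk (J ^ n) s)
      rw [hf_mk, ← hψ s]
      obtain ⟨a, ha⟩ := Ideal.Quotient.mk_surjective (ψ s)
      rw [← ha, hl_mk, hg_mk, IsScalarTower.algebraMap_apply R S (S ⧸ J ^ n),
        Ideal.Quotient.algebraMap_eq, hf_mk, IsScalarTower.algebraMap_apply R S (S ⧸ J),
        Ideal.Quotient.algebraMap_eq]
    obtain ⟨a, ha⟩ := Ideal.Quotient.mk_surjective (ψ s)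
    refine ⟨a, ?_⟩
    have h1 : θ s = π s := by rw [hθπ]
    have h2 : θ s = Ideal.Quotient.mk (J ^ n) (algebraMap R S a) := by
      show l (ψ s) = _
      rw [← ha, hl_mk, IsScalarTower.algebraMap_apply R S (S ⧸ J ^ n),
        Ideal.Quotient.algebraMap_eq]
    rw [h2] at h1
    have h3 : Ideal.Quotient.mk (J ^ n) s = Ideal.Quotient.mk (J ^ n) (algebraMap R S a) := h1.symm
    rwa [Ideal.Quotient.eq] at h3

/-- Let R → S be formally étale and J an ideal of S such that the composite R → S → S/J is surjective;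
let I ⊆ R be its kernel, the preimage of J in R. Then the homomorphism of associated graded rings ⊕ₙ
Iⁿ/Iⁿ⁺¹ → ⊕ₙ Jⁿ/Jⁿ⁺¹ induced by R → S (which carries I into J) is bijective. -/
theorem result (R : Type u) [CommRing R] (S : Type u)
    [CommRing S] [Algebra R S] [Algebra.FormallyEtale R S] (J : Ideal S)
    (hJ : Function.Surjective (algebraMap R (S ⧸ J))) :
    Function.Bijective (AssocGr.map (AssocGr.IsFiltHom.adic
      (Ideal.map_comap_le : (J.comap (algebraMap R S)).map (algebraMap R S) ≤ J))) := by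
  apply Groth.Agent.H8.GrMapBij.map_bijective
  · intro n a ha h
    exact (fe_key R S J hJ (n + 1)).1 a h
  · intro n b hb
    obtain ⟨a, ha⟩ := (fe_key R S J hJ (n + 1)).2 b
    refine ⟨a, ?_, ha⟩
    apply (fe_key R S J hJ n).1 a
    have h1 : algebraMap R S a = b - (b - algebraMap R S a) := by ring
    rw [h1]
    refine Ideal.sub_mem _ hb ?_
    exact Ideal.pow_le_pow_right (Nat.le_succ n) ha

end Groth.Agent.S16452
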