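import Groth.Statements.S16453
import Mathlib
import Groth.Agent.Lib.Helper8.GrMapBij
-- import your own Groth.Agent.* helpers here

set_option autoImplicit false
universe u
open AdicGr

namespace Groth.Agent.S16453

open AssocGr in
theorem val_algebraMap {A : Type u} [CommRing A] (I : Ideal A) (a : A) (n : ℕ) :
    (algebraMap A (AdicCompletion I A) a).val n = Submodule.Quotient.mk a := by
  rw [AdicCompletion.algebraMap_apply, Algebra.algebraMap_self,
      RingHom.id_apply, AdicCompletion.of_apply, Submodule.mkQ_apply]

/-- Let A be a commutative ring, I an ideal and Â the I-adic completion, filtered by the kernels Âₙ of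
the projections Â → A/Iⁿ. Then the homomorphism of associated graded rings ⊕ₙ Iⁿ/Iⁿ⁺¹ → ⊕ₙ Âₙ/Âₙ₊₁
induced by the canonical map A → Â is bijective. No hypothesis on A or I is needed. (The published
statement is for an arbitrary filtered ring and also asserts the analogous isomorphism for a
compatibly filtered module; this row is the ring assertion for the filtration by the powers of one
ideal.) -/
theorem result (A : Type u) [CommRing A] (I : Ideal A) :
    Function.Bijective (AssocGr.map (AssocGr.isFiltHom_kerFilt I)) := by
  apply Groth.Agent.H8.GrMapBij.map_bijective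
  · intro n a ha h
    rw [AssocGr.mem_kerFilt_iff_val, val_algebraMap, Submodule.Quotient.mk_eq_zero] at h
    have h' : a ∈ (I ^ (n + 1) • ⊤ : Ideal A) := h
    rw [AssocGr.pow_smul_top] at h'
    exact h'
  · intro n b hb
    rw [AssocGr.mem_kerFilt_iff_val] at hb
    obtain ⟨a, ha⟩ := Submodule.Quotient.mk_surjective _ (b.val (n + 1))
    refine ⟨a, ?_, ?_⟩
    · have h1 := AdicCompletion.transitionMap_comp_eval_apply I A (Nat.le_succ n) b
      change AdicCompletion.transitionMap I A (Nat.le_succ n) (b.val (n + 1)) = b.val n at h1
      rw [hb, ← ha] at h1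
      change Ideal.Quotient.mk (I ^ n • ⊤ : Ideal A) a = 0 at h1
      rw [Ideal.Quotient.eq_zero_iff_mem, AssocGr.pow_smul_top] at h1
      exact h1
    · rw [AssocGr.mem_kerFilt_iff_val, AdicCompletion.val_sub, Pi.sub_apply]
      have := val_algebraMap I a (n + 1)
      rw [this, ha, sub_self]

end Groth.Agent.S16453
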