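import Groth.Statements.S16459
import Mathlib
import Groth.Agent.Lib.Helper8.GrModGen
-- import your own Groth.Agent.* helpers here

set_option autoImplicit false
universe u
open AdicGr

namespace Groth.Agent.S16459

/-- Let A be a commutative ring and I an ideal such that every I-adically Cauchy sequence in A has a
limit, and let M be an A-module with an I-filtration M = N₀ ⊇ N₁ ⊇ … (I·Nₙ ⊆ Nₙ₊₁) which is
separated, ⋂ₙ Nₙ = 0. If the associated graded module gr(M) = ⊕ₙ Nₙ/Nₙ₊₁ is a Noetherian module over
the associated graded ring ⊕ₙ Iⁿ/Iⁿ⁺¹, then M is a Noetherian A-module and every submodule M' of M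
is closed for the topology defined by the filtration, that is ⋂ₙ (M' + Nₙ) = M'. (The published
statement allows any complete filtered ring; this row takes the I-adic filtration on A.) -/
theorem result (A : Type u) [CommRing A]
    (I : Ideal A) [IsPrecomplete I A] (M : Type u) [AddCommGroup M] [Module A M] (F : I.Filtration M)
    (h0 : F.N 0 = ⊤) (hsep : ⨅ n, F.N n = ⊥)
    [IsNoetherian (AssocGr.GrRing (FiltBl.IdealFiltration.adic I)) (AssocGr.GrMod F)] :
    IsNoetherian A M ∧ ∀ M' : Submodule A M, ⨅ n, M' ⊔ F.N n = M' := by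
  constructor
  · rw [isNoetherian_def]
    intro M'
    refine (Groth.Agent.H8.GrModGen.eq_and_fg_of_symbols F h0 hsep M' M' le_rfl ?_).2
    intro n y hy hyn
    exact ⟨y, hy, hyn, by rw [sub_self]; exact Submodule.zero_mem _⟩
  · intro M'
    refine (Groth.Agent.H8.GrModGen.eq_and_fg_of_symbols F h0 hsep M' (⨅ n, M' ⊔ F.N n) ?_ ?_).1
    · exact le_iInf fun n => le_sup_left
    · intro n y hy hyn
      rw [Submodule.mem_iInf] at hy
      obtain ⟨m', hm', w, hw, rfl⟩ := Submodule.mem_sup.1 (hy (n + 1))
      refine ⟨m', hm', ?_, ?_⟩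
      · have : m' = (m' + w) - w := by abel
        rw [this]
        exact Submodule.sub_mem _ hyn (F.antitone (Nat.le_succ n) hw)
      · rw [add_sub_cancel_left]
        exact hw

end Groth.Agent.S16459
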