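import Groth.Statements.S16460
-- import your own Groth.Agent.* helpers here

set_option autoImplicit false
universe u
open AdicGr

namespace Groth.Agent.S16460

/-- Let A be a commutative ring with a decreasing filtration by ideals A = F₀ ⊇ F₁ ⊇ F₂ ⊇ … satisfying
F_m·F_n ⊆ F_{m+n}, and assume the filtration is separated, ⋂ₙ Fₙ = 0. If the associated graded ring
⊕ₙ Fₙ/Fₙ₊₁ is an integral domain, then A is an integral domain. -/
theorem result (A : Type u) [CommRing A]
    (𝓕 : FiltBl.IdealFiltration A) (hsep : ⨅ n, 𝓕.F n = ⊥) [IsDomain (AssocGr.GrRing 𝓕)] :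
    IsDomain A := by
  classical
  haveI : Nontrivial A := by
    by_contra h
    rw [not_nontrivial_iff_subsingleton] at h
    have : (1 : AssocGr.GrRing 𝓕) = 0 := by
      rw [← map_one (algebraMap A (AssocGr.GrRing 𝓕)), Subsingleton.elim (1 : A) 0, map_zero]
    exact one_ne_zero this
  have key : ∀ a : A, a ≠ 0 → ∃ n, a ∈ 𝓕.F n ∧ a ∉ 𝓕.F (n + 1) := by
    intro a ha
    by_contra hcon
    push_neg at hcon
    apply ha
    have hall : ∀ n, a ∈ 𝓕.F n := by
      intro n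
      induction n with
      | zero => rw [𝓕.zero_eq]; trivial
      | succ n ih => exact hcon n ih
    have : a ∈ ⨅ n, 𝓕.F n := by
      rw [Ideal.mem_iInf]; exact hall
    rw [hsep] at this
    exact this
  haveI : NoZeroDivisors A := ⟨?_⟩
  · exact NoZeroDivisors.to_isDomain A
  intro a b hab
  by_contra hcon
  push_neg at hcon
  obtain ⟨m, ham, ham'⟩ := key a hcon.1
  obtain ⟨n, hbn, hbn'⟩ := key b hcon.2
  have h1 := AssocGr.coe_inDeg_mul 𝓕 m n ⟨a, ham⟩ ⟨b, hbn⟩
  have ha0 : (AssocGr.inDeg 𝓕 m ⟨a, ham⟩ : AssocGr.GrRing 𝓕) ≠ 0 := by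
    rw [Ne, Submodule.coe_eq_zero, AssocGr.inDeg_eq_zero_iff]
    exact ham'
  have hb0 : (AssocGr.inDeg 𝓕 n ⟨b, hbn⟩ : AssocGr.GrRing 𝓕) ≠ 0 := by
    rw [Ne, Submodule.coe_eq_zero, AssocGr.inDeg_eq_zero_iff]
    exact hbn'
  have h2 := mul_ne_zero ha0 hb0
  rw [h1, Ne, Submodule.coe_eq_zero, AssocGr.inDeg_eq_zero_iff] at h2
  apply h2
  simp only [hab]
  exact Ideal.zero_mem _

end Groth.Agent.S16460
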