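import Groth.Statements.S6773
import Mathlib

set_option autoImplicit false
open CategoryTheory
universe v u v' u'
open DeltaF

namespace Groth.Agent.S6773

open CategoryTheory.Limits


section
variable {A : Type u} [Category.{v} A] [Abelian A]
    {B : Type u'} [Category.{v'} B] [Abelian B] (T T' : DeltaF.CohDeltaFunctor A B ℕ)

/-- the short exact sequence of a monomorphism -/
noncomputable abbrev sc {X Y : A} (u : X ⟶ Y) : ShortComplex A :=
  ShortComplex.mk u (cokernel.π u) (cokernel.condition u)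

theorem sc_shortExact {X Y : A} (u : X ⟶ Y) [Mono u] : (sc u).ShortExact where
  exact := ShortComplex.exact_cokernel u
  mono_f := inferInstanceAs (Mono u)
  epi_g := inferInstanceAs (Epi (cokernel.π u))

/-- map of short complexes induced by a commutative square of monos -/
noncomputable def scMap {X Y X' Y' : A} (u : X ⟶ Y) (v : X' ⟶ Y') (a : X ⟶ X') (b : Y ⟶ Y')
    (h : u ≫ b = a ≫ v) : sc u ⟶ sc v where
  τ₁ := a
  τ₂ := b
  τ₃ := cokernel.map u v a b h
  comm₁₂ := h.symm
  comm₂₃ := by simp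

variable {T}

theorem epi_δ (n : ℕ) (S : ShortComplex A) (hS : S.ShortExact) (h : (T.F (n + 1)).map S.f = 0) :
    Epi (T.δ S hS n (n + 1) rfl) :=
  (T.exact₁ S hS n (n + 1) rfl).epi_f h

variable {T'}

/-- the induced map in degree `n+1` through an effacing short exact sequence -/
noncomputable def ind (n : ℕ) (τn : T.F n ⟶ T'.F n) (S : ShortComplex A) (hS : S.ShortExact)
    (h : (T.F (n + 1)).map S.f = 0) : (T.F (n + 1)).obj S.X₁ ⟶ (T'.F (n + 1)).obj S.X₁ :=
  haveI := epi_δ n S hS h
  (T.exact₃ S hS n (n + 1) rfl).desc (τn.app S.X₃ ≫ T'.δ S hS n (n + 1) rfl) (by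
    change (T.F n).map S.g ≫ τn.app S.X₃ ≫ T'.δ S hS n (n + 1) rfl = 0
    rw [← Category.assoc, τn.naturality, Category.assoc, T'.comp_δ, comp_zero])

theorem δ_ind (n : ℕ) (τn : T.F n ⟶ T'.F n) (S : ShortComplex A) (hS : S.ShortExact)
    (h : (T.F (n + 1)).map S.f = 0) :
    T.δ S hS n (n + 1) rfl ≫ ind n τn S hS h = τn.app S.X₃ ≫ T'.δ S hS n (n + 1) rfl := by
  haveI := epi_δ n S hS h
  exact (T.exact₃ S hS n (n + 1) rfl).g_desc _ _

theorem lemma1 (n : ℕ) (τn : T.F n ⟶ T'.F n) (S : ShortComplex A) (hS : S.ShortExact)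
    (h : (T.F (n + 1)).map S.f = 0) (S' : ShortComplex A) (hS' : S'.ShortExact) (φ : S ⟶ S')
    (ψ : (T.F (n + 1)).obj S'.X₁ ⟶ (T'.F (n + 1)).obj S'.X₁)
    (hψ : T.δ S' hS' n (n + 1) rfl ≫ ψ = τn.app S'.X₃ ≫ T'.δ S' hS' n (n + 1) rfl) :
    (T.F (n + 1)).map φ.τ₁ ≫ ψ = ind n τn S hS h ≫ (T'.F (n + 1)).map φ.τ₁ := by
  haveI := epi_δ n S hS h
  rw [← cancel_epi (T.δ S hS n (n + 1) rfl)]
  rw [← Category.assoc, ← T.δ_natural hS hS' φ n (n + 1) rfl, Category.assoc, hψ,
    ← Category.assoc, τn.naturality, Category.assoc, T'.δ_natural hS hS' φ n (n + 1) rfl,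
    ← Category.assoc, ← δ_ind n τn S hS h, Category.assoc]


variable (hT : T.IsEffaceable)

/-- chosen effacing object -/
noncomputable def effY (n : ℕ) (X : A) : A := (hT n X).choose
/-- chosen effacing mono -/
noncomputable def effu (n : ℕ) (X : A) : X ⟶ effY hT n X := (hT n X).choose_spec.choose
instance effu_mono (n : ℕ) (X : A) : Mono (effu hT n X) := (hT n X).choose_spec.choose_spec.1
theorem effu_zero (n : ℕ) (X : A) : (T.F (n + 1)).map (effu hT n X) = 0 :=
  (hT n X).choose_spec.choose_spec.2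

/-- the component of the next natural transformation -/
noncomputable def stepApp (n : ℕ) (τn : T.F n ⟶ T'.F n) (X : A) :
    (T.F (n + 1)).obj X ⟶ (T'.F (n + 1)).obj X :=
  ind n τn (sc (effu hT n X)) (sc_shortExact _) (effu_zero hT n X)

/-- any effacing mono computes `stepApp` -/
theorem stepApp_eq (n : ℕ) (τn : T.F n ⟶ T'.F n) {X Y : A} (v : X ⟶ Y) [Mono v]
    (hv : (T.F (n + 1)).map v = 0) :
    stepApp hT n τn X = ind n τn (sc v) (sc_shortExact v) hv := by
  -- pushout of the two monos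
  let u := effu hT n X
  let P := pushout u v
  let w : X ⟶ P := u ≫ pushout.inl u v
  haveI : Mono w := mono_comp _ _
  have hw : (T.F (n + 1)).map w = 0 := by
    simp only [w, Functor.map_comp, effu_zero hT n X, u, zero_comp]
  let φ₁ : sc u ⟶ sc w := scMap u w (𝟙 X) (pushout.inl u v) (by simp [w])
  let φ₂ : sc v ⟶ sc w := scMap v w (𝟙 X) (pushout.inr u v) (by simp [w, pushout.condition])
  have h1 := lemma1 n τn (sc u) (sc_shortExact u) (effu_zero hT n X) (sc w) (sc_shortExact w) φ₁
    (ind n τn (sc w) (sc_shortExact w) hw) (δ_ind n τn _ _ hw)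
  have h2 := lemma1 n τn (sc v) (sc_shortExact v) hv (sc w) (sc_shortExact w) φ₂
    (ind n τn (sc w) (sc_shortExact w) hw) (δ_ind n τn _ _ hw)
  have e1 : φ₁.τ₁ = 𝟙 X := rfl
  have e2 : φ₂.τ₁ = 𝟙 X := rfl
  rw [e1] at h1
  rw [e2] at h2
  have m1 : (T.F (n + 1)).map (𝟙 X) = 𝟙 _ := (T.F (n + 1)).map_id X
  have m2 : (T'.F (n + 1)).map (𝟙 X) = 𝟙 _ := (T'.F (n + 1)).map_id X
  rw [m1, m2] at h1 h2
  have h1' : ind n τn (sc w) (sc_shortExact w) hw = ind n τn (sc u) (sc_shortExact u) (effu_zero hT n X) :=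
    (Category.id_comp _).symm.trans (h1.trans (Category.comp_id _))
  have h2' : ind n τn (sc w) (sc_shortExact w) hw = ind n τn (sc v) (sc_shortExact v) hv :=
    (Category.id_comp _).symm.trans (h2.trans (Category.comp_id _))
  exact h1'.symm.trans h2'

theorem stepApp_natural (n : ℕ) (τn : T.F n ⟶ T'.F n) {X X' : A} (f : X ⟶ X') :
    (T.F (n + 1)).map f ≫ stepApp hT n τn X' = stepApp hT n τn X ≫ (T'.F (n + 1)).map f := by
  let u := effu hT n X
  let u' := effu hT n X'
  let P := pushout u (f ≫ u')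
  let w : X' ⟶ P := u' ≫ pushout.inr u (f ≫ u')
  haveI : Mono w := mono_comp _ _
  have hw : (T.F (n + 1)).map w = 0 := by
    simp only [w, Functor.map_comp, effu_zero hT n X', u', zero_comp]
  rw [stepApp_eq hT n τn w hw]
  let φ₁ : sc u ⟶ sc w := scMap u w f (pushout.inl u (f ≫ u')) (by
    simp only [w]; rw [pushout.condition, Category.assoc])
  exact lemma1 n τn (sc u) (sc_shortExact u) (effu_zero hT n X) (sc w) (sc_shortExact w) φ₁
    (ind n τn (sc w) (sc_shortExact w) hw) (δ_ind n τn _ _ hw)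

/-- the next natural transformation -/
noncomputable def step (n : ℕ) (τn : T.F n ⟶ T'.F n) : T.F (n + 1) ⟶ T'.F (n + 1) where
  app X := stepApp hT n τn X
  naturality _ _ f := stepApp_natural hT n τn f

theorem step_spec (n : ℕ) (τn : T.F n ⟶ T'.F n) (S : ShortComplex A) (hS : S.ShortExact) :
    T.δ S hS n (n + 1) rfl ≫ (step hT n τn).app S.X₁ = τn.app S.X₃ ≫ T'.δ S hS n (n + 1) rfl := by
  haveI := hS.mono_f
  haveI := hS.epi_g
  let u := effu hT n S.X₁
  let P := pushout u S.f
  let w : S.X₁ ⟶ P := u ≫ pushout.inl u S.f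
  haveI : Mono w := mono_comp _ _
  have hw : (T.F (n + 1)).map w = 0 := by
    simp only [w, Functor.map_comp, effu_zero hT n S.X₁, u, zero_comp]
  change _ ≫ stepApp hT n τn S.X₁ = _
  rw [stepApp_eq hT n τn w hw]
  -- morphism S ⟶ sc w
  let φ : S ⟶ sc w :=
    { τ₁ := 𝟙 _
      τ₂ := pushout.inr u S.f
      τ₃ := hS.exact.desc (pushout.inr u S.f ≫ cokernel.π w) (by
        rw [← Category.assoc, ← pushout.condition]
        change w ≫ cokernel.π w = 0
        exact cokernel.condition w)
      comm₁₂ := by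
        change 𝟙 _ ≫ w = S.f ≫ pushout.inr u S.f
        rw [Category.id_comp, ← pushout.condition]
      comm₂₃ := by
        change pushout.inr u S.f ≫ cokernel.π w = S.g ≫ _
        rw [ShortComplex.Exact.g_desc] }
  have hnatT := T.δ_natural hS (sc_shortExact w) φ n (n + 1) rfl
  have hnatT' := T'.δ_natural hS (sc_shortExact w) φ n (n + 1) rfl
  have e1 : φ.τ₁ = 𝟙 _ := rfl
  rw [e1] at hnatT hnatT'
  have m1 : (T.F (n + 1)).map (𝟙 S.X₁) = 𝟙 _ := (T.F (n + 1)).map_id _
  have m2 : (T'.F (n + 1)).map (𝟙 S.X₁) = 𝟙 _ := (T'.F (n + 1)).map_id _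
  rw [m1] at hnatT
  rw [m2] at hnatT'
  replace hnatT := hnatT.trans (Category.comp_id _)
  replace hnatT' := hnatT'.trans (Category.comp_id _)
  rw [← hnatT, Category.assoc, δ_ind n τn _ _ hw, ← Category.assoc, τn.naturality, Category.assoc,
    hnatT']


/-- the sequence of natural transformations -/
noncomputable def tau (t : T.F 0 ⟶ T'.F 0) : ∀ n : ℕ, T.F n ⟶ T'.F n
  | 0 => t
  | n + 1 => step hT n (tau t n)

end

/-- An effaceable cohomological delta-functor (for every degree `n + 1 ≥ 1` and every object `X` there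
is a monomorphism out of `X` killed by the functor in that degree) is universal. Delta-functors here
are indexed by `ℕ` and are not required to be left exact in degree `0`; universality is tested
against all such delta-functors. -/
theorem result {A : Type u} [Category.{v} A] [Abelian A] {B : Type u'} [Category.{v'} B] [Abelian B] (T : DeltaF.CohDeltaFunctor A B ℕ) (hT : T.IsEffaceable) : T.IsUniversal := by
  intro T' t
  refine ⟨⟨tau hT t, ?_⟩, rfl, ?_⟩
  · intro S hS n₀ n₁ h
    subst h
    exact step_spec hT n₀ (tau hT t n₀) S hS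
  · intro τ' hτ'
    apply CohDeltaFunctor.hom_ext
    intro n
    induction n with
    | zero => exact hτ'
    | succ n ih =>
      ext X
      have hS := sc_shortExact (effu hT n X)
      haveI := epi_δ n (sc (effu hT n X)) hS (effu_zero hT n X)
      rw [← cancel_epi (T.δ (sc (effu hT n X)) hS n (n + 1) rfl)]
      have h1 := τ'.comm (sc (effu hT n X)) hS n (n + 1) rfl
      have h2 := step_spec hT n (tau hT t n) (sc (effu hT n X)) hS
      rw [ih] at h1
      exact h1.trans h2.symm


end Groth.Agent.S6773
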