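import Groth.Statements.S16482
import Mathlib
-- import your own Groth.Agent.* helpers here

set_option autoImplicit false
open CategoryTheory CategoryTheory.Limits AlgebraicGeometry
universe u
open FrobSch

namespace Groth.Agent.S16482

theorem pow_inj_of_reduced (p : ℕ) [Fact p.Prime] (R : Type*) [CommRing R] [IsReduced R]
    (h : (p : R) = 0) (a b : R) (hab : a ^ p = b ^ p) : a = b := by
  rcases subsingleton_or_nontrivial R with hs | hn
  · exact Subsingleton.elim _ _
  · have hp : p.Prime := Fact.out
    haveI : CharP R p := (CharP.charP_iff_prime_eq_zero hp).2 h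
    haveI : ExpChar R p := ExpChar.prime hp
    exact frobenius_inj R p hab

open AlgebraicGeometry CategoryTheory in
theorem frob_epi (p : ℕ) [Fact p.Prime] {Y Z : Scheme.{u}} [FrobSch.IsCharP Y p] [IsReduced Y]
    (g₁ g₂ : Y ⟶ Z) (key : FrobSch.frob Y p ≫ g₁ = FrobSch.frob Y p ≫ g₂) : g₁ = g₂ := by
  have hb : g₁.base = g₂.base := by
    have := congrArg (fun f : Y ⟶ Z => f.base) key
    simpa only [Scheme.Hom.comp_base, FrobSch.frob_base, Category.id_comp] using this
  refine Scheme.Hom.ext hb (fun U => ?_)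
  have h1 := Scheme.Hom.congr_app key.symm U
  have e1 : (FrobSch.frob Y p ≫ g₁).app U = g₁.app U ≫ (FrobSch.frob Y p).app (g₁ ⁻¹ᵁ U) :=
    Scheme.Hom.comp_app _ _ _
  have e2 : (FrobSch.frob Y p ≫ g₂).app U = g₂.app U ≫ (FrobSch.frob Y p).app (g₂ ⁻¹ᵁ U) :=
    Scheme.Hom.comp_app _ _ _
  ext s
  have h2 := congrArg (fun φ => φ.hom s) h1
  simp only [e1, e2] at h2
  symm
  apply pow_inj_of_reduced p _ (FrobSch.natCast_eq_zero_app Y p _)
  change _ = (Y.presheaf.map _).hom ((g₁.app U).hom s) ^ p
  conv_rhs => rw [← map_pow]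
  exact h2

/-- Let p be a prime and S a reduced scheme on which p = 0 whose absolute Frobenius is flat; let Y be a
reduced S-scheme with structure map a, Z an S-scheme with structure map b, and g₁, g₂ : Y ⟶ Z two
S-morphisms. For i = 1, 2 let h_i : Y ⟶ Z^(p) be the relative Frobenius F_{Y/S} : Y ⟶ Y^(p) followed
by the base change Y^(p) ⟶ Z^(p) of g_i along the absolute Frobenius of S. If h₁ = h₂, then g₁ = g₂.
(The published statement works over the reduced special fibre of a flat formal scheme of finite type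
over the Witt vectors of a perfect field; only reducedness of S and flatness of its absolute
Frobenius are kept here.) -/
theorem result (p : ℕ) [Fact p.Prime]
    {Y Z S : Scheme.{u}} [FrobSch.IsCharP S p] [IsReduced S] [Flat (FrobSch.frob S p)]
    [IsReduced Y] (a : Y ⟶ S) (b : Z ⟶ S) (g₁ g₂ : Y ⟶ Z) (hg₁ : g₁ ≫ b = a) (hg₂ : g₂ ≫ b = a)
    (h : FrobSch.relFrob a p ≫ pullback.map a (FrobSch.frob S p) b (FrobSch.frob S p) g₁ (𝟙 S) (𝟙 S)
        ((Category.comp_id a).trans hg₁.symm) ((Category.comp_id _).trans (Category.id_comp _).symm) =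
      FrobSch.relFrob a p ≫ pullback.map a (FrobSch.frob S p) b (FrobSch.frob S p) g₂ (𝟙 S) (𝟙 S)
        ((Category.comp_id a).trans hg₂.symm) ((Category.comp_id _).trans (Category.id_comp _).symm)) :
    g₁ = g₂ := by
  haveI : FrobSch.IsCharP Y p := FrobSch.IsCharP.of_hom a p
  apply frob_epi p g₁ g₂
  have := congrArg (· ≫ pullback.fst b (FrobSch.frob S p)) h
  simpa only [Category.assoc, pullback.lift_fst, pullback.map, FrobSch.relFrob_fst_assoc] using this

end Groth.Agent.S16482
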