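import Groth.Statements.S16500
import Mathlib
-- import your own Groth.Agent.* helpers here

set_option autoImplicit false
universe u
open Curves

namespace Groth.Agent.S16500

/-- Let k be a field of odd characteristic p, g ≤ p a natural number and f ∈ k[x] of degree at most 2g +
2. Let F be f with its coefficients reversed in degrees 0, …, 2g + 2, i.e. F(X) = X^(2g+2) f(1/X)
(Mathlib's reflect (2g+2) f), and write f^((p-1)/2) = Σ_l c_l x^l and F^((p-1)/2) = Σ_l C_l X^l.
Then C_{ip-j} = c_{(g+1-i)p-(g+1-j)} for all i, j = 1, …, g; that is, the g × g Cartier–Manin matrix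
of F is that of f with the order of both rows and columns reversed (below the indices run over Fin
g, the entry at (i, j) being the coefficient of degree (i+1)p-(j+1), and reversal is Fin.rev). In
particular the two matrices have the same determinant. (The source applies this to f with f(0) = 0,
separable of degree 2g + 2 over a perfect field, so that F has odd degree 2g + 1; the identity uses
none of that.) -/
theorem result (k : Type u) [Field k] (p : ℕ) [Fact p.Prime] (hp : p ≠ 2) [CharP k p]
    (g : ℕ) (hg : g ≤ p) (f : Polynomial k) (hf : f.natDegree ≤ 2 * g + 2) :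
    (Matrix.of fun i j : Fin g =>
        ((Polynomial.reflect (2 * g + 2) f) ^ ((p - 1) / 2)).coeff (((i : ℕ) + 1) * p - ((j : ℕ) + 1))) =
      Matrix.of fun i j : Fin g =>
        (f ^ ((p - 1) / 2)).coeff (((Fin.rev i : ℕ) + 1) * p - ((Fin.rev j : ℕ) + 1)) := by
  have hp2 : 2 ≤ p := (Fact.out : p.Prime).two_le
  have hodd : p % 2 = 1 := by
    rcases (Fact.out : p.Prime).eq_two_or_odd with h | h
    · exact absurd h hp
    · exact h
  set m := (p - 1) / 2 with hm
  have hm2 : m * 2 = p - 1 := by omega
  -- reflect of a power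
  have hpow : ∀ n : ℕ, Polynomial.reflect (n * (2 * g + 2)) (f ^ n) =
      (Polynomial.reflect (2 * g + 2) f) ^ n := by
    intro n
    induction n with
    | zero => simp
    | succ n ih =>
      rw [pow_succ, pow_succ, Nat.succ_mul, Polynomial.reflect_mul _ _ _ hf, ih]
      exact (Polynomial.natDegree_pow_le).trans (Nat.mul_le_mul_left _ hf)
  ext i j
  rw [Matrix.of_apply, Matrix.of_apply, ← hpow m, Polynomial.coeff_reflect]
  have hi : (i : ℕ) < g := i.isLt
  have hj : (j : ℕ) < g := j.isLt
  have hM : m * (2 * g + 2) = (g + 1) * p - (g + 1) := by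
    have : m * (2 * g + 2) = (m * 2) * (g + 1) := by ring
    rw [this, hm2, Nat.sub_mul, one_mul, mul_comm]
  have h1 : ((i : ℕ) + 1) * p ≤ g * p := Nat.mul_le_mul_right p (by omega)
  have h2 : (g + 1) * p = g * p + p := Nat.succ_mul g p
  have hle : ((i : ℕ) + 1) * p - ((j : ℕ) + 1) ≤ m * (2 * g + 2) := by
    rw [hM]; omega
  rw [Polynomial.revAt_le hle]
  congr 1
  rw [hM, Fin.val_rev, Fin.val_rev]
  have h3 : (g - ((i : ℕ) + 1) + 1) * p = g * p - ((i : ℕ) + 1) * p + p := by
    have : g - ((i : ℕ) + 1) + 1 = g - (i : ℕ) := by omega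
    rw [this]
    have h4 : (g - (i : ℕ)) * p = g * p - (i : ℕ) * p := Nat.sub_mul _ _ _
    have h5 : ((i : ℕ) + 1) * p = (i : ℕ) * p + p := Nat.succ_mul _ _
    have h6 : (i : ℕ) * p + p ≤ g * p := by rw [← h5]; exact h1
    omega
  rw [h3, h2]
  have hjp : (j : ℕ) + 1 ≤ p := by omega
  have hpa : p ≤ ((i : ℕ) + 1) * p := Nat.le_mul_of_pos_left p (by omega)
  generalize g * p = G at *
  generalize ((i : ℕ) + 1) * p = a at *
  omega

end Groth.Agent.S16500
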