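import Groth.Statements.S16515
import Mathlib
import Groth.Agent.Lib.Helper8.BinForms
-- import your own Groth.Agent.* helpers here

set_option autoImplicit false
universe u
open RatCurv

namespace Groth.Agent.S16515

/-- If C ⊂ P^n is a rational normal curve and P ⊂ P^n a linear r-plane with (r + 2) k ≥ (r + 1)(n + 1),
then P is contained in a k-secant (k − 1)-plane of C, i.e. in the span of some effective divisor of
degree k on C. Stated through the identification of the linear forms on P^n with the binary forms of
degree n on C ≅ P^1: the r-plane P is recorded by the space U of degree-n binary forms vanishing on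
it (of codimension r + 1), an effective divisor of degree k on C by a nonzero binary form g of
degree k, and P ⊂ span(div g) says that every degree-n form divisible by g lies in U. Here k ≤ n,
and the ground field is arbitrary (the source works over the complex numbers). -/
theorem result (K : Type u) [Field K] (n r k : ℕ)
    (hkn : k ≤ n) (hineq : (r + 1) * (n + 1) ≤ (r + 2) * k)
    (U : Submodule K (MvPolynomial (Fin 2) K))
    (hU : U ≤ MvPolynomial.homogeneousSubmodule (Fin 2) K n)
    (hcodim : Module.finrank K ↥U + (r + 1) = n + 1) :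
    ∃ g ∈ MvPolynomial.homogeneousSubmodule (Fin 2) K k, g ≠ 0 ∧
      ∀ h ∈ MvPolynomial.homogeneousSubmodule (Fin 2) K (n - k), g * h ∈ U := by
  classical
  obtain ⟨m, rfl⟩ := Nat.exists_eq_add_of_le hkn
  have hm : k + m - k = m := by omega
  rw [hm]
  -- the submodule of H_n corresponding to U
  set Hn := MvPolynomial.homogeneousSubmodule (Fin 2) K (k + m) with hHn
  set Hk := MvPolynomial.homogeneousSubmodule (Fin 2) K k with hHk
  set Hm := MvPolynomial.homogeneousSubmodule (Fin 2) K m with hHm
  let Un : Submodule K Hn := U.comap Hn.subtype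
  have hUn : Module.finrank K Un = Module.finrank K U :=
    (Submodule.comapSubtypeEquivOfLe hU).finrank_eq
  have hq : Module.finrank K (Hn ⧸ Un) = r + 1 := by
    have h1 := Submodule.finrank_quotient_add_finrank Un
    rw [Groth.Agent.H8.BinForms.finrank_homogeneousSubmodule, hUn] at h1
    omega
  let Φ : Hk →ₗ[K] Hm →ₗ[K] (Hn ⧸ Un) :=
    LinearMap.mk₂ K (fun g h => Un.mkQ ⟨(g : MvPolynomial (Fin 2) K) * h,
        MvPolynomial.IsHomogeneous.mul g.2 h.2⟩)
      (fun g g' h => by
        rw [← map_add]; congr 1; apply Subtype.ext
        simp only [Submodule.coe_add, add_mul])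
      (fun c g h => by
        rw [← map_smul]; congr 1; apply Subtype.ext
        simp only [Submodule.coe_smul, smul_mul_assoc])
      (fun g h h' => by
        rw [← map_add]; congr 1; apply Subtype.ext
        simp only [Submodule.coe_add, mul_add])
      (fun c g h => by
        rw [← map_smul]; congr 1; apply Subtype.ext
        simp only [Submodule.coe_smul, mul_smul_comm])
  have hlt : Module.finrank K (Hm →ₗ[K] (Hn ⧸ Un)) < Module.finrank K Hk := by
    rw [Module.finrank_linearMap, hq, Groth.Agent.H8.BinForms.finrank_homogeneousSubmodule,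
      Groth.Agent.H8.BinForms.finrank_homogeneousSubmodule]
    nlinarith
  have hker := LinearMap.ker_ne_bot_of_finrank_lt hlt (f := Φ)
  obtain ⟨g, hgker, hg0⟩ := Submodule.exists_mem_ne_zero_of_ne_bot hker
  refine ⟨g, g.2, fun h => hg0 (Subtype.ext h), ?_⟩
  intro h hh
  have h1 : Φ g ⟨h, hh⟩ = 0 := by rw [LinearMap.mem_ker.1 hgker]; rfl
  have h2 : Un.mkQ ⟨(g : MvPolynomial (Fin 2) K) * h, MvPolynomial.IsHomogeneous.mul g.2 hh⟩ = 0 := h1
  rw [Submodule.mkQ_apply, Submodule.Quotient.mk_eq_zero] at h2
  exact h2

end Groth.Agent.S16515
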