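import Groth.Statements.S16516
import Mathlib
import Groth.Agent.Lib.Helper8.BinForms
import Groth.Agent.S16515
-- import your own Groth.Agent.* helpers here

set_option autoImplicit false
universe u
open RatCurv

namespace Groth.Agent.S16516

/-- A smooth nondegenerate rational quintic curve C ⊂ P^4 has exactly one 3-secant line. Stated for C
given as the image of P^1 under a 5-dimensional linear series V of binary quintic forms which
separates every length-2 subscheme of P^1 (for every nonzero quadratic form e the forms of V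
together with the multiples of e span all quintic forms), so that P^1 → P(V^*) = P^4 is a closed
embedding with nondegenerate image; the linear forms on P^4 are the elements of V, a line L ⊂ P^4 is
recorded by the 3-dimensional space of linear forms vanishing on it, and L ∩ C has length at least 3
exactly when that space consists of the multiples g · K[s,t]_2 of a cubic form g. The conclusion: a
nonzero cubic g with g · K[s,t]_2 ⊆ V exists and is unique up to a scalar. (That such a line meets C
in length exactly 3, i.e. is not 4-secant, is immediate in this description and is not restated; the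
ground field is algebraically closed of characteristic zero in place of the complex numbers.) -/
theorem result (K : Type u) [Field K] [IsAlgClosed K]
    [CharZero K] (V : Submodule K (MvPolynomial (Fin 2) K))
    (hV : V ≤ MvPolynomial.homogeneousSubmodule (Fin 2) K 5) (hdim : Module.finrank K ↥V = 5)
    (hsep : ∀ e ∈ MvPolynomial.homogeneousSubmodule (Fin 2) K 2, e ≠ 0 →
      ∀ F ∈ MvPolynomial.homogeneousSubmodule (Fin 2) K 5, ∃ v ∈ V,
        ∃ h ∈ MvPolynomial.homogeneousSubmodule (Fin 2) K 3, F = v + e * h) :
    ∃ g ∈ MvPolynomial.homogeneousSubmodule (Fin 2) K 3, g ≠ 0 ∧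
      (∀ h ∈ MvPolynomial.homogeneousSubmodule (Fin 2) K 2, g * h ∈ V) ∧
      ∀ g' ∈ MvPolynomial.homogeneousSubmodule (Fin 2) K 3,
        (∀ h ∈ MvPolynomial.homogeneousSubmodule (Fin 2) K 2, g' * h ∈ V) → ∃ c : K, g' = c • g := by
  classical
  obtain ⟨g, hg3, hg0, hgV⟩ := Groth.Agent.S16515.result K 5 0 3 (by norm_num) (by norm_num) V hV
    (by rw [hdim])
  have hgV' : ∀ h ∈ MvPolynomial.homogeneousSubmodule (Fin 2) K 2, g * h ∈ V := fun h hh => hgV h hh
  refine ⟨g, hg3, hg0, hgV', ?_⟩
  set H5 := MvPolynomial.homogeneousSubmodule (Fin 2) K 5 with hH5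
  set H3 := MvPolynomial.homogeneousSubmodule (Fin 2) K 3 with hH3
  set H2 := MvPolynomial.homogeneousSubmodule (Fin 2) K 2 with hH2
  let V5 : Submodule K H5 := V.comap H5.subtype
  have hV5 : Module.finrank K V5 = 5 :=
    ((Submodule.comapSubtypeEquivOfLe hV).finrank_eq).trans hdim
  have hW : Module.finrank K (H5 ⧸ V5) = 1 := by
    have h1 := Submodule.finrank_quotient_add_finrank V5
    rw [Groth.Agent.H8.BinForms.finrank_homogeneousSubmodule, hV5] at h1
    omega
  obtain ⟨eW⟩ := Module.nonempty_linearEquiv_of_finrank_eq_one hW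
  let B : H2 →ₗ[K] H3 →ₗ[K] K :=
    LinearMap.mk₂ K (fun e c => eW.symm (V5.mkQ ⟨(e : MvPolynomial (Fin 2) K) * c,
        MvPolynomial.IsHomogeneous.mul e.2 c.2⟩))
      (fun e e' c => by
        rw [← map_add, ← map_add]; congr 2; apply Subtype.ext
        simp only [Submodule.coe_add, add_mul])
      (fun a e c => by
        rw [← map_smul, ← map_smul]; congr 2; apply Subtype.ext
        simp only [Submodule.coe_smul, smul_mul_assoc])
      (fun e c c' => by
        rw [← map_add, ← map_add]; congr 2; apply Subtype.ext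
        simp only [Submodule.coe_add, mul_add])
      (fun a e c => by
        rw [← map_smul, ← map_smul]; congr 2; apply Subtype.ext
        simp only [Submodule.coe_smul, mul_smul_comm])
  have hB : ∀ (e : H2) (c : H3), B e c = eW.symm (V5.mkQ ⟨(e : MvPolynomial (Fin 2) K) * c,
        MvPolynomial.IsHomogeneous.mul e.2 c.2⟩) := fun e c => rfl
  have hB0 : ∀ (e : H2) (c : H3), B e c = 0 ↔ (e : MvPolynomial (Fin 2) K) * c ∈ V := by
    intro e c
    rw [hB, LinearEquiv.map_eq_zero_iff, Submodule.mkQ_apply, Submodule.Quotient.mk_eq_zero]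
    rfl
  have hBinj : Function.Injective B := by
    rw [injective_iff_map_eq_zero]
    intro e he
    by_contra hne
    have hne' : (e : MvPolynomial (Fin 2) K) ≠ 0 := fun h => hne (Subtype.ext h)
    have hall : ∀ F : H5, V5.mkQ F = 0 := by
      intro F
      obtain ⟨v, hv, h, hh, hF⟩ := hsep e e.2 hne' F F.2
      have h1 : B e ⟨h, hh⟩ = 0 := by rw [he]; rfl
      rw [hB0] at h1
      rw [Submodule.mkQ_apply, Submodule.Quotient.mk_eq_zero]
      show (F : MvPolynomial (Fin 2) K) ∈ V
      rw [hF]
      exact V.add_mem hv h1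
    have : Subsingleton (H5 ⧸ V5) := by
      refine ⟨fun x y => ?_⟩
      obtain ⟨a, rfl⟩ := V5.mkQ_surjective x
      obtain ⟨b, rfl⟩ := V5.mkQ_surjective y
      rw [hall a, hall b]
    have := Module.finrank_zero_of_subsingleton (R := K) (M := H5 ⧸ V5)
    omega
  let N : Submodule K H3 := ⨅ e : H2, LinearMap.ker (B e)
  have hNmem : ∀ c : H3, c ∈ N ↔ ∀ e : H2, B e c = 0 := by
    intro c
    simp only [N, Submodule.mem_iInf, LinearMap.mem_ker]
  have hrange : LinearMap.range B ≤ N.dualAnnihilator := by
    rintro _ ⟨e, rfl⟩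
    rw [Submodule.mem_dualAnnihilator]
    intro c hc
    exact (hNmem c).1 hc e
  have h3 : Module.finrank K (LinearMap.range B) = 3 := by
    rw [LinearMap.finrank_range_of_inj hBinj, Groth.Agent.H8.BinForms.finrank_homogeneousSubmodule]
  have h4 := Subspace.finrank_add_finrank_dualAnnihilator_eq N
  rw [Groth.Agent.H8.BinForms.finrank_homogeneousSubmodule] at h4
  have h5 := Submodule.finrank_mono hrange
  have hgN : (⟨g, hg3⟩ : H3) ∈ N := by
    rw [hNmem]
    intro e
    rw [hB0]
    show (e : MvPolynomial (Fin 2) K) * g ∈ V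
    rw [mul_comm]
    exact hgV' e e.2
  have hgN0 : (⟨⟨g, hg3⟩, hgN⟩ : N) ≠ 0 := by
    intro h
    apply hg0
    have := congrArg (fun x : N => ((x : H3) : MvPolynomial (Fin 2) K)) h
    exact this
  have hNpos : 0 < Module.finrank K N :=
    (Module.finrank_pos_iff_exists_ne_zero (R := K) (M := N)).2 ⟨_, hgN0⟩
  have h4' : Module.finrank K N + Module.finrank K N.dualAnnihilator = 3 + 1 := h4
  have h5' : Module.finrank K (LinearMap.range B) ≤ Module.finrank K N.dualAnnihilator := h5
  have hN1 : Module.finrank K N = 1 := by omega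
  intro g' hg'3 hg'V
  have hg'N : (⟨g', hg'3⟩ : H3) ∈ N := by
    rw [hNmem]
    intro e
    rw [hB0]
    show (e : MvPolynomial (Fin 2) K) * g' ∈ V
    rw [mul_comm]
    exact hg'V e e.2
  obtain ⟨c, hc⟩ := exists_smul_eq_of_finrank_eq_one (K := K) (V := N) hN1 hgN0 ⟨⟨g', hg'3⟩, hg'N⟩
  refine ⟨c, ?_⟩
  have := congrArg (fun x : N => ((x : H3) : MvPolynomial (Fin 2) K)) hc
  exact this.symm

end Groth.Agent.S16516
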