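import Groth.Statements.S16519
import Mathlib
-- import your own Groth.Agent.* helpers here

set_option autoImplicit false
open CubicSurf

namespace Groth.Agent.S16519

abbrev Idx := Fin 5 × Fin 3 × Fin 3 × Fin 3 × Fin 3 × Fin 3 × Fin 3

def off : Fin 5 → ℤ := ![-1, 0, 0, 1, 1]

def cv (t : Idx) : Fin 6 → ℤ :=
  ![((t.2.1 : ℕ) : ℤ), ((t.2.2.1 : ℕ) : ℤ), ((t.2.2.2.1 : ℕ) : ℤ), ((t.2.2.2.2.1 : ℕ) : ℤ),
    ((t.2.2.2.2.2.1 : ℕ) : ℤ), ((t.2.2.2.2.2.2 : ℕ) : ℤ)]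

def φ (t : Idx) : ℤ × (Fin 6 → ℤ) := (((t.1 : ℕ) : ℤ) + 1, fun i => off t.1 + cv t i)

def Pexp (t : Idx) : Prop :=
  3 * (((t.1 : ℕ) : ℤ) + 1) - ((off t.1 + ((t.2.1 : ℕ) : ℤ)) + (off t.1 + ((t.2.2.1 : ℕ) : ℤ)) +
    (off t.1 + ((t.2.2.2.1 : ℕ) : ℤ)) + (off t.1 + ((t.2.2.2.2.1 : ℕ) : ℤ)) +
    (off t.1 + ((t.2.2.2.2.2.1 : ℕ) : ℤ)) + (off t.1 + ((t.2.2.2.2.2.2 : ℕ) : ℤ))) = 3 ∧
  (((t.1 : ℕ) : ℤ) + 1) ^ 2 - ((off t.1 + ((t.2.1 : ℕ) : ℤ)) ^ 2 + (off t.1 + ((t.2.2.1 : ℕ) : ℤ)) ^ 2 +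
    (off t.1 + ((t.2.2.2.1 : ℕ) : ℤ)) ^ 2 + (off t.1 + ((t.2.2.2.2.1 : ℕ) : ℤ)) ^ 2 +
    (off t.1 + ((t.2.2.2.2.2.1 : ℕ) : ℤ)) ^ 2 + (off t.1 + ((t.2.2.2.2.2.2 : ℕ) : ℤ)) ^ 2) = 1

instance : DecidablePred Pexp := fun t => by unfold Pexp; infer_instance

set_option maxRecDepth 100000 in
theorem card_T : ((Finset.univ : Finset Idx).filter Pexp).card = 72 := by decide

theorem pred_φ (t : Idx) :
    (3 * (φ t).1 - (Finset.univ.sum fun i => (φ t).2 i) = 3 ∧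
        (φ t).1 ^ 2 - (Finset.univ.sum fun i => (φ t).2 i ^ 2) = 1) ↔ Pexp t := by
  simp only [φ, cv, Pexp, Fin.sum_univ_six]
  rfl

theorem φ_inj : Function.Injective φ := by
  rintro ⟨a, c1, c2, c3, c4, c5, c6⟩ ⟨a', d1, d2, d3, d4, d5, d6⟩ h
  simp only [φ, Prod.mk.injEq] at h
  obtain ⟨h1, h2⟩ := h
  have ha : a = a' := by
    apply Fin.ext
    have : ((a : ℕ) : ℤ) = ((a' : ℕ) : ℤ) := by linarith
    exact_mod_cast this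
  subst ha
  have hc : ∀ i, cv (a, c1, c2, c3, c4, c5, c6) i = cv (a, d1, d2, d3, d4, d5, d6) i := by
    intro i
    have : off a + cv (a, c1, c2, c3, c4, c5, c6) i = off a + cv (a, d1, d2, d3, d4, d5, d6) i :=
      congrFun h2 i
    linarith
  have e1 := hc 0
  have e2 := hc 1
  have e3 := hc 2
  have e4 := hc 3
  have e5 := hc 4
  have e6 := hc 5
  simp only [cv, Matrix.cons_val_zero, Matrix.cons_val_one, Matrix.cons_val] at e1 e2 e3 e4 e5 e6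
  have f1 : c1 = d1 := Fin.ext (by exact_mod_cast e1)
  have f2 : c2 = d2 := Fin.ext (by exact_mod_cast e2)
  have f3 : c3 = d3 := Fin.ext (by exact_mod_cast e3)
  have f4 : c4 = d4 := Fin.ext (by exact_mod_cast e4)
  have f5 : c5 = d5 := Fin.ext (by exact_mod_cast e5)
  have f6 : c6 = d6 := Fin.ext (by exact_mod_cast e6)
  rw [f1, f2, f3, f4, f5, f6]

theorem bounds (a b1 b2 b3 b4 b5 b6 : ℤ) (h1 : 3 * a - (b1 + b2 + b3 + b4 + b5 + b6) = 3)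
    (h2 : a ^ 2 - (b1 ^ 2 + b2 ^ 2 + b3 ^ 2 + b4 ^ 2 + b5 ^ 2 + b6 ^ 2) = 1) :
    1 ≤ a ∧ a ≤ 5 ∧ (-2 ≤ 2 * b1 - (a - 1) ∧ 2 * b1 - (a - 1) ≤ 2) ∧
      (-2 ≤ 2 * b2 - (a - 1) ∧ 2 * b2 - (a - 1) ≤ 2) ∧
      (-2 ≤ 2 * b3 - (a - 1) ∧ 2 * b3 - (a - 1) ≤ 2) ∧
      (-2 ≤ 2 * b4 - (a - 1) ∧ 2 * b4 - (a - 1) ≤ 2) ∧
      (-2 ≤ 2 * b5 - (a - 1) ∧ 2 * b5 - (a - 1) ≤ 2) ∧
      (-2 ≤ 2 * b6 - (a - 1) ∧ 2 * b6 - (a - 1) ≤ 2) := by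
  have hq : (2 * b1 - (a - 1)) ^ 2 + (2 * b2 - (a - 1)) ^ 2 + (2 * b3 - (a - 1)) ^ 2 +
      (2 * b4 - (a - 1)) ^ 2 + (2 * b5 - (a - 1)) ^ 2 + (2 * b6 - (a - 1)) ^ 2 =
      2 * (a - 1) * (5 - a) := by
    linear_combination (-4) * h2 + 4 * (a - 1) * h1
  have hmax : 2 * (a - 1) * (5 - a) ≤ 8 := by nlinarith [sq_nonneg (a - 3)]
  have hpos : 0 ≤ 2 * (a - 1) * (5 - a) := by
    rw [← hq]; positivity
  have ha1 : 1 ≤ a := by nlinarith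
  have ha5 : a ≤ 5 := by nlinarith
  have key : ∀ q : ℤ, q ^ 2 ≤ 8 → -2 ≤ q ∧ q ≤ 2 := by
    intro q hq8
    constructor <;> nlinarith
  refine ⟨ha1, ha5, key _ ?_, key _ ?_, key _ ?_, key _ ?_, key _ ?_, key _ ?_⟩ <;>
    nlinarith [sq_nonneg (2 * b1 - (a - 1)), sq_nonneg (2 * b2 - (a - 1)),
      sq_nonneg (2 * b3 - (a - 1)), sq_nonneg (2 * b4 - (a - 1)), sq_nonneg (2 * b5 - (a - 1)),
      sq_nonneg (2 * b6 - (a - 1))]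

theorem exists_idx (a b1 b2 b3 b4 b5 b6 : ℤ) (h1 : 3 * a - (b1 + b2 + b3 + b4 + b5 + b6) = 3)
    (h2 : a ^ 2 - (b1 ^ 2 + b2 ^ 2 + b3 ^ 2 + b4 ^ 2 + b5 ^ 2 + b6 ^ 2) = 1) :
    ∃ a' : Fin 5, a = ((a' : ℕ) : ℤ) + 1 ∧
      (off a' ≤ b1 ∧ b1 ≤ off a' + 2) ∧ (off a' ≤ b2 ∧ b2 ≤ off a' + 2) ∧
      (off a' ≤ b3 ∧ b3 ≤ off a' + 2) ∧ (off a' ≤ b4 ∧ b4 ≤ off a' + 2) ∧
      (off a' ≤ b5 ∧ b5 ≤ off a' + 2) ∧ (off a' ≤ b6 ∧ b6 ≤ off a' + 2) := by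
  obtain ⟨ha1, ha5, q1, q2, q3, q4, q5, q6⟩ := bounds a b1 b2 b3 b4 b5 b6 h1 h2
  interval_cases a
  · refine ⟨0, by simp, ?_⟩
    simp only [off, Matrix.cons_val_zero]
    omega
  · refine ⟨1, by simp, ?_⟩
    simp only [off, Matrix.cons_val_one, Matrix.cons_val_zero]
    omega
  · refine ⟨2, by simp, ?_⟩
    simp only [off, Matrix.cons_val]
    omega
  · refine ⟨3, by simp, ?_⟩
    simp only [off, Matrix.cons_val]
    omega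
  · refine ⟨4, by simp, ?_⟩
    simp only [off, Matrix.cons_val]
    omega

/-- On a smooth cubic surface there are exactly 72 divisor classes L with L² = 1 and L · K = −3. Stated
in the lattice ℤ^{1,6} with basis l, e_1, …, e_6 (l² = 1, e_i² = −1, K = −3l + Σ e_i): the integer
vectors (a, b) ∈ ℤ × ℤ^6, standing for a·l − Σ b_i e_i, with 3a − Σ b_i = 3 and a² − Σ b_i² = 1 form
a set of exactly 72 elements. -/
theorem result :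
    {p : ℤ × (Fin 6 → ℤ) | 3 * p.1 - (Finset.univ.sum fun i => p.2 i) = 3 ∧
        p.1 ^ 2 - (Finset.univ.sum fun i => p.2 i ^ 2) = 1}.ncard = 72 := by
  have hset : {p : ℤ × (Fin 6 → ℤ) | 3 * p.1 - (Finset.univ.sum fun i => p.2 i) = 3 ∧
        p.1 ^ 2 - (Finset.univ.sum fun i => p.2 i ^ 2) = 1} =
      φ '' (((Finset.univ : Finset Idx).filter Pexp : Finset Idx) : Set Idx) := by
    ext p
    constructor
    · rintro ⟨h1, h2⟩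
      obtain ⟨a, b⟩ := p
      simp only [Fin.sum_univ_six] at h1 h2
      obtain ⟨a', ha, r1, r2, r3, r4, r5, r6⟩ := exists_idx a (b 0) (b 1) (b 2) (b 3) (b 4) (b 5) h1 h2
      let t : Idx := (a', ⟨(b 0 - off a').toNat, by omega⟩, ⟨(b 1 - off a').toNat, by omega⟩,
        ⟨(b 2 - off a').toNat, by omega⟩, ⟨(b 3 - off a').toNat, by omega⟩,
        ⟨(b 4 - off a').toNat, by omega⟩, ⟨(b 5 - off a').toNat, by omega⟩)
      have hφt : φ t = (a, b) := by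
        simp only [φ, Prod.mk.injEq]
        refine ⟨ha.symm, ?_⟩
        funext i
        fin_cases i <;> simp [cv, t] <;> omega
      refine ⟨t, ?_, hφt⟩
      rw [Finset.coe_filter]
      refine ⟨Finset.mem_univ _, ?_⟩
      rw [← pred_φ, hφt]
      simp only [Fin.sum_univ_six]
      exact ⟨h1, h2⟩
    · rintro ⟨t, ht, rfl⟩
      rw [Finset.coe_filter] at ht
      exact (pred_φ t).2 ht.2
  rw [hset, Set.ncard_image_of_injective _ φ_inj, Set.ncard_coe_finset, card_T]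

end Groth.Agent.S16519
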