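import Groth.Statements.S16520
import Groth.Agent.Lib.Helper5.Gro.EllPush
import Groth.Agent.Lib.Helper5.Gro.HypEq

set_option autoImplicit false
universe u
open CategoryTheory CategoryTheory.Limits AlgebraicGeometry
open Curves

namespace Groth.Agent.S16520



/-- Let E be an elliptic curve over an algebraically closed field k of characteristic zero (in place of
the complex numbers): smooth, proper and geometrically connected over k, of dimension one and genus
dim_k H^1(E, O_E) = 1; let π : E → P^1_k be a k-morphism which is finite and flat of constant rank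
2, and L an invertible O_E-module of degree d = χ(L) − χ(O_E). If d = 2e + 1 then π_*L ≅ O(e) ⊕ O(e
− 1); if d = 2e and L ≅ π^*O(e) then π_*L ≅ O(e) ⊕ O(e − 2); if d = 2e and L is not isomorphic to
π^*O(e) then π_*L ≅ O(e − 1) ⊕ O(e − 1). (Existence of isomorphisms of O-modules on P^1_k; the
source states the isomorphisms abstractly.) -/
theorem result (k : Type u) [Field k]
    [IsAlgClosed k] [CharZero k] (E : Scheme.{u}) [E.Over (Spec (CommRingCat.of k))] [IsProper (E ↘ Spec (CommRingCat.of k))]
    [Smooth (E ↘ Spec (CommRingCat.of k))] [GeometricallyConnected (E ↘ Spec (CommRingCat.of k))]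
    (hE : topologicalKrullDim E = 1) (hg : Curv2.genus k E = 1)
    (π : E ⟶ CohB1.ProjSpace 1 k) (hπ : π ≫ CohB1.ProjSpace.toSpec 1 k = E ↘ Spec (CommRingCat.of k))
    [IsFinite π] [Flat π] (hrk : ∀ y : ↥(CohB1.ProjSpace 1 k), Scheme.Hom.finrank π y = 2)
    (L : E.Modules) (hL : PicF.IsInvertible L) (d : ℤ) (hd : Curv2.deg k E L 1 = d) :
    (∀ e : ℤ, d = 2 * e + 1 → Nonempty ((Scheme.Modules.pushforward π).obj L ≅
        ∐ fun j : Fin 2 => Twist.twistProjSpace 1 k (![e, e - 1] j))) ∧
    (∀ e : ℤ, d = 2 * e → Nonempty (L ≅ (Scheme.Modules.pullback π).obj (Twist.twistProjSpace 1 k e)) →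
        Nonempty ((Scheme.Modules.pushforward π).obj L ≅
          ∐ fun j : Fin 2 => Twist.twistProjSpace 1 k (![e, e - 2] j))) ∧
    (∀ e : ℤ, d = 2 * e → IsEmpty (L ≅ (Scheme.Modules.pullback π).obj (Twist.twistProjSpace 1 k e)) →
        Nonempty ((Scheme.Modules.pushforward π).obj L ≅
          ∐ fun j : Fin 2 => Twist.twistProjSpace 1 k (![e - 1, e - 1] j))) := by
  haveI : GeometricallyReduced (E ↘ Spec (CommRingCat.of k)) :=
    Groth.Agent.H5.Gro.geometricallyReduced_of_smooth k _
  have h0 := Groth.Agent.LD.FF.finrank_HH0_eq_one k E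
  haveI : ConnectedSpace E := Groth.Agent.H5.Gro.connectedSpace_of_finrank_HH0_eq_one k E h0
  haveI : IsIntegral E :=
    Groth.Agent.H5.Curve3.isIntegral_of_smooth_connected k (E ↘ Spec (CommRingCat.of k))
  haveI : LocallyOfFiniteType (π ≫ CohB1.ProjSpace.toSpec 1 k) := by rw [hπ]; infer_instance
  haveI : LocallyOfFiniteType π := locallyOfFiniteType_of_comp π (CohB1.ProjSpace.toSpec 1 k)
  haveI : IsNoetherian (Groth.Agent.H5.Gro.P1 k) :=
    Groth.Agent.H5.Curve2.isNoetherian_of_proper k (Groth.Agent.H5.Gro.P1 k)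
  haveI : LocallyOfFinitePresentation π :=
    LocallyOfFinitePresentation.iff_locallyOfFiniteType.mpr inferInstance
  exact Groth.Agent.H5.Gro.Ell.main k π hπ hrk hE.le h0 hg L hL d hd

end Groth.Agent.S16520
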