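import Groth.Statements.S1653
import Mathlib
import Groth.Agent.Lib.Helper1.ClosureDim
import Groth.Agent.Lib.Helper1.EquidimLocC

set_option autoImplicit false
universe u
open CategoryTheory CategoryTheory.Limits AlgebraicGeometry
open Variety

namespace Groth.Agent.S1653

/-- Let f : X → Y be a k-morphism of schemes locally of finite type over a field k, with X irreducible
of dimension a, and let the closure of the image of f have dimension b. Then the local fibre
dimension of f at every point of X is at least a - b, and the set of points where it equals a - b is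
open and dense. -/
theorem result (k : Type u) [Field k] (X Y : Scheme.{u}) [X.Over (Spec (CommRingCat.of k))] [Y.Over (Spec (CommRingCat.of k))]
    [LocallyOfFiniteType (X ↘ (Spec (CommRingCat.of k)))] [LocallyOfFiniteType (Y ↘ (Spec (CommRingCat.of k)))] [IrreducibleSpace X]
    (f : X ⟶ Y) (hf : f ≫ (Y ↘ (Spec (CommRingCat.of k))) = X ↘ (Spec (CommRingCat.of k))) (a b : ℕ) (ha : topologicalKrullDim X = a)
    (hb : topologicalKrullDim (closure (Set.range f.base)) = b) :
    (∀ x : X, ((a - b : ℕ) : WithBot ℕ∞) ≤ FlatMor.fibreDimAt f x) ∧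
      IsOpen {x : X | FlatMor.fibreDimAt f x = (a - b : ℕ)} ∧ Dense {x : X | FlatMor.fibreDimAt f x = (a - b : ℕ)} := by
  haveI hlftc : LocallyOfFiniteType (f ≫ (Y ↘ (Spec (CommRingCat.of k)))) := by
    rw [hf]; infer_instance
  haveI hlftf : LocallyOfFiniteType f :=
    locallyOfFiniteType_of_comp f (Y ↘ (Spec (CommRingCat.of k)))
  -- the image closure
  have hcl : closure ({f (genericPoint X)} : Set Y) = closure (Set.range f.base) := by
    have h1 : IsGenericPoint (f (genericPoint X)) (closure (f '' Set.univ)) :=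
      (genericPoint_spec X).image f.continuous
    rw [Set.image_univ] at h1
    exact h1.def
  obtain ⟨t₂, ht₂, hd₂⟩ := Groth.Agent.H1.ClosureDim.exists_trdeg_eq_dim_closure
    (Y ↘ (Spec (CommRingCat.of k))) (f (genericPoint X))
  rw [hcl, hb] at hd₂
  have hbt : b = t₂ := by exact_mod_cast hd₂
  obtain ⟨t₁, ht₁, hd₁⟩ := Groth.Agent.H1.ClosureDim.exists_trdeg_eq_dim_closure
    (f ≫ (Y ↘ (Spec (CommRingCat.of k)))) (genericPoint X)
  have hcl' : closure ({genericPoint X} : Set X) = Set.univ := (genericPoint_spec X).def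
  rw [hcl', IsHomeomorph.topologicalKrullDim_eq _ (Homeomorph.Set.univ X).isHomeomorph, ha] at hd₁
  have hat : a = t₁ := by exact_mod_cast hd₁
  rw [Groth.Agent.H1.ClosureDim.trdeg_toResidueField_eq] at ht₁ ht₂
  obtain ⟨t₃, ht₃, hfd⟩ := Groth.Agent.H1.DimFormula.fibreDimAt_eq_trdeg_of_generic f
    (genericPoint X) (fun x' _ hx' => ((genericPoint_specializes x').antisymm hx').eq.symm)
  have hadd := Groth.Agent.H1.DimFormula.trdeg_residueField_comp f
    (Y ↘ (Spec (CommRingCat.of k))) (genericPoint X)
  rw [ht₁, ht₂, ht₃] at hadd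
  have h3 : t₂ + t₃ = t₁ := by exact_mod_cast hadd
  have hab : a - b = t₃ := by omega
  rw [hab]
  have hge : ∀ x : X, (t₃ : WithBot ℕ∞) ≤ FlatMor.fibreDimAt f x := by
    intro x
    rw [← hfd]
    exact Groth.Agent.H1.EquidimLoc.fibreDimAt_le_of_specializes f (genericPoint_specializes x)
  have hset : {x : X | FlatMor.fibreDimAt f x = (t₃ : ℕ)} =
      {x : X | FlatMor.fibreDimAt f x ≤ (t₃ : ℕ)} := by
    ext x
    exact ⟨fun h => le_of_eq h, fun h => le_antisymm h (hge x)⟩
  refine ⟨hge, ?_, ?_⟩
  · rw [hset]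
    exact Groth.Agent.H1.Chev.isOpen_fibreDimAt_le f t₃
  · have hopen : IsOpen {x : X | FlatMor.fibreDimAt f x = (t₃ : ℕ)} := by
      rw [hset]
      exact Groth.Agent.H1.Chev.isOpen_fibreDimAt_le f t₃
    exact hopen.dense ⟨genericPoint X, hfd⟩

end Groth.Agent.S1653
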