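import Groth.Statements.S16542
import Groth.Agent.Lib.Helper8.BCInj
import Mathlib.RingTheory.WittVector.Domain
import Mathlib.RingTheory.WittVector.Teichmuller
-- import your own Groth.Agent.* helpers here

set_option autoImplicit false
universe u v
open Disp

namespace Groth.Agent.S16542

/-- Let p be a prime, S → R a faithfully flat homomorphism of commutative rings with p nilpotent in S,
(P, Q, F, V⁻¹) a display over S, and (P_R, Q_R, F_R, V_R⁻¹) a 3n-display structure on P_R = W(R)
⊗_{W(S)} P which is its base change along S → R (Q_R the kernel of P_R → R ⊗_S (P/Q), F_R(w ⊗ x) =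
σ(w) ⊗ F x, V_R⁻¹(w ⊗ y) = σ(w) ⊗ V⁻¹ y for y ∈ Q, V_R⁻¹(V(w) ⊗ x) = w ⊗ F x). Then for x ∈ P one
has x ∈ Q if and only if 1 ⊗ x ∈ Q_R: together with the exactness of 0 → P → P_R ⇉ P_{R ⊗ R} this is
the exactness of 0 → Q → Q_R ⇉ Q_{R ⊗ R} at Q. -/
theorem result (p : ℕ) [Fact p.Prime]
    (S R : Type u) [CommRing S] [CommRing R] [Algebra S R] [Module.FaithfullyFlat S R] (hp : IsNilpotent (p : S))
    (P : Type v) [AddCommGroup P] [Module (WittVector p S) P] (D : W4c1extbt610.Display3n p S P)
    (hD : Dieu.IsDisplay D)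
    (DR : W4c1extbt610.Display3n p R (Dieu.BC (WittVector.map (algebraMap S R) : WittVector p S →+* WittVector p R) P))
    (hDR : Dieu.IsDispBaseChange (algebraMap S R) D DR) (x : P) :
    x ∈ D.Q ↔ Dieu.BC.ι (WittVector.map (algebraMap S R) : WittVector p S →+* WittVector p R) P x ∈ DR.Q := by
  have hinj : Function.Injective (Dieu.BC.ι ((WittVector.constantCoeff : WittVector p R →+* R).comp
      (WittVector.map (algebraMap S R) : WittVector p S →+* WittVector p R)) (P ⧸ D.Q)) := by
    apply Groth.Agent.H8.BCInj.ι_injective_of_factor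
      (WittVector.constantCoeff : WittVector p S →+* S) (WittVector.constantCoeff_surjective p)
    · intro a ha m
      obtain ⟨x, rfl⟩ := D.Q.mkQ_surjective m
      rw [← map_smul, Submodule.mkQ_apply, Submodule.Quotient.mk_eq_zero]
      have h1 : a = WittVector.verschiebung (a.shift 1) := by
        have := WittVector.eq_iterate_verschiebung (x := a) (n := 1) (by
          intro i hi
          obtain rfl : i = 0 := by omega
          exact ha)
        simpa using this
      rw [h1]
      exact D.IV_smul_le (Submodule.smul_mem_smul (W4c1extbt610.verschiebung_mem_IV p S _) Submodule.mem_top)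
    · rfl
  rw [hDR.Q_eq, LinearMap.mem_ker, Dieu.BC.ι_apply, Dieu.bcQuotMap_tmul]
  have h1 : (WittVector.constantCoeff (1 : WittVector p R)) = 1 := map_one _
  rw [h1]
  constructor
  · intro hx
    rw [(Submodule.Quotient.mk_eq_zero D.Q (x := x)).mpr hx |> fun h => (show D.Q.mkQ x = 0 from h)]
    exact Dieu.BC.tmul_zero _ _
  · intro h0
    have h2 : Dieu.BC.ι ((WittVector.constantCoeff : WittVector p R →+* R).comp
      (WittVector.map (algebraMap S R) : WittVector p S →+* WittVector p R)) (P ⧸ D.Q) (D.Q.mkQ x) =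
        Dieu.BC.ι _ (P ⧸ D.Q) 0 := by
      rw [Dieu.BC.ι_apply, h0, map_zero]
    have h3 := hinj h2
    exact (Submodule.Quotient.mk_eq_zero D.Q (x := x)).mp h3

end Groth.Agent.S16542
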