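import Groth.Statements.S16544
import Groth.Agent.Lib.Helper8.Rigid.Reduced
-- import your own Groth.Agent.* helpers here

set_option autoImplicit false
universe u v
open Disp

namespace Groth.Agent.S16544

/-- Let p be a prime and S a commutative ring in which p is nilpotent and whose nilradical (the ideal of
nilpotent elements) is a nilpotent ideal; let (P, Q, F, V⁻¹) and (P', Q', F', V'⁻¹) be displays over
S, i.e. 3n-displays whose operators V# satisfy the nilpotence condition. Then the group of
homomorphisms of displays from P to P' has no p-torsion: a W(S)-linear ψ : P → P' which is a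
homomorphism of 3n-displays and satisfies p·ψ = 0 is zero. (The published statement says
torsion-free; primes other than p are units in S, and the published proof treats the prime p.) -/
theorem result (p : ℕ) [Fact p.Prime]
    (S : Type u) [CommRing S] (hp : IsNilpotent (p : S)) (hn : IsNilpotent (nilradical S))
    (P P' : Type v) [AddCommGroup P] [Module (WittVector p S) P] [AddCommGroup P'] [Module (WittVector p S) P']
    (D : W4c1extbt610.Display3n p S P) (D' : W4c1extbt610.Display3n p S P')
    (hD : Dieu.IsDisplay D) (hD' : Dieu.IsDisplay D')
    (ψ : P →ₗ[WittVector p S] P') (hψ : W4c1extbt610.IsHom D D' ψ)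
    (h : (p : WittVector p S) • ψ = 0) : ψ = 0 := by
  classical
  set f : S →+* S ⧸ nilradical S := Ideal.Quotient.mk (nilradical S) with hf
  haveI : IsReduced (S ⧸ nilradical S) :=
    (Ideal.isRadical_iff_quotient_reduced (nilradical S)).mp (Ideal.radical_isRadical ⊥)
  have hpR : IsNilpotent (p : S ⧸ nilradical S) := by
    have := hp.map f
    rwa [map_natCast] at this
  haveI := D'.finite
  haveI := D'.projective
  obtain ⟨hfin, hproj, -⟩ := Groth.Agent.H8.Disp.BC_facts
    (WittVector.map f : WittVector p S →+* WittVector p (S ⧸ nilradical S)) P'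
  have h0 : Dieu.BC.map (WittVector.map f : WittVector p S →+* WittVector p (S ⧸ nilradical S)) ψ = 0 := by
    apply LinearMap.ext
    intro z
    rw [LinearMap.zero_apply]
    apply Groth.Agent.H8.Rigid.eq_zero_of_p_smul_eq_zero hpR
    induction z using Dieu.BC.induction_on
      (WittVector.map f : WittVector p S →+* WittVector p (S ⧸ nilradical S)) with
    | zero => rw [map_zero, smul_zero]
    | tmul b x =>
      rw [Dieu.BC.map_tmul, Dieu.BC.smul_tmul, mul_comm]
      have h1 : (p : WittVector p (S ⧸ nilradical S)) =
          (WittVector.map f : WittVector p S →+* WittVector p (S ⧸ nilradical S)) (p : WittVector p S) :=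
        (map_natCast _ p).symm
      rw [h1, Dieu.BC.tmul_mul_apply]
      have h2 : (p : WittVector p S) • ψ x = 0 := LinearMap.congr_fun h x
      rw [h2, Dieu.BC.tmul_zero]
    | add z₁ z₂ h₁ h₂ => rw [map_add, smul_add, h₁, h₂, add_zero]
  have hker : IsNilpotent (RingHom.ker f) := by
    rw [hf, Ideal.mk_ker]
    exact hn
  exact Groth.Agent.H8.Rigid.isHom_eq_zero_of_BC_map_eq_zero f hp hker D D' hD ψ hψ h0

end Groth.Agent.S16544
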