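import Groth.Statements.S16545
import Groth.Agent.Lib.Helper8.BCDescent
import Groth.Agent.S16542
-- import your own Groth.Agent.* helpers here

set_option autoImplicit false
universe u v
open Disp

namespace Groth.Agent.S16545

/-- Let p be a prime, S → R a faithfully flat homomorphism of commutative rings with p nilpotent in S,
ι₁, ι₂ : R → R ⊗_S R the two coprojections, and (P, Q, F, V⁻¹), (P', Q', F', V'⁻¹) displays over S
with base changes (P_R, Q_R, F_R, V_R⁻¹) and (P'_R, Q'_R, F'_R, V'_R⁻¹) along S → R (the 3n-display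
structures on W(R) ⊗_{W(S)} P and W(R) ⊗_{W(S)} P' with Q_R = ker(P_R → R ⊗_S P/Q), F_R(w ⊗ x) =
σ(w) ⊗ F x, V_R⁻¹(w ⊗ y) = σ(w) ⊗ V⁻¹ y for y ∈ Q, V_R⁻¹(V(w) ⊗ x) = w ⊗ F x, and likewise for P').
Let χ : P_R → P'_R be a homomorphism of 3n-displays whose two scalar extensions along W(ι₁) and
W(ι₂) agree, after the modules W(R ⊗_S R) ⊗_{W(ι_i),W(R)} (W(R) ⊗_{W(S)} P) are mapped to W(R ⊗_S R)
⊗_{W(S)} P by the canonical maps u ⊗ (w ⊗ x) ↦ u·W(ι_i)(w) ⊗ x (and likewise for P'). Then there is
exactly one homomorphism of 3n-displays ψ : P → P' over S with id ⊗ ψ = χ: the sequence 0 → Hom(P,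
P') → Hom(P_R, P'_R) ⇉ Hom(P_{R⊗R}, P'_{R⊗R}) is exact. The hypotheses e₁, e₂ record that both
composite ring maps W(S) → W(R) → W(R ⊗_S R) equal W(S → R ⊗_S R); they serve to identify targets. -/
theorem result (p : ℕ) [Fact p.Prime]
    (S R : Type u) [CommRing S] [CommRing R] [Algebra S R] [Module.FaithfullyFlat S R] (hp : IsNilpotent (p : S))
    (e₁ : (WittVector.map (Algebra.TensorProduct.includeLeftRingHom : R →+* TensorProduct S R R) : WittVector p R →+* WittVector p (TensorProduct S R R)).comp (WittVector.map (algebraMap S R) : WittVector p S →+* WittVector p R) = (WittVector.map (algebraMap S (TensorProduct S R R)) : WittVector p S →+* WittVector p (TensorProduct S R R)))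
    (e₂ : (WittVector.map ((Algebra.TensorProduct.includeRight : R →ₐ[S] TensorProduct S R R) : R →+* TensorProduct S R R) : WittVector p R →+* WittVector p (TensorProduct S R R)).comp (WittVector.map (algebraMap S R) : WittVector p S →+* WittVector p R) = (WittVector.map (algebraMap S (TensorProduct S R R)) : WittVector p S →+* WittVector p (TensorProduct S R R)))
    (P P' : Type v) [AddCommGroup P] [Module (WittVector p S) P] [AddCommGroup P'] [Module (WittVector p S) P']
    (D : W4c1extbt610.Display3n p S P) (D' : W4c1extbt610.Display3n p S P')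
    (hD : Dieu.IsDisplay D) (hD' : Dieu.IsDisplay D')
    (DR : W4c1extbt610.Display3n p R (Dieu.BC (WittVector.map (algebraMap S R) : WittVector p S →+* WittVector p R) P)) (hDR : Dieu.IsDispBaseChange (algebraMap S R) D DR)
    (DR' : W4c1extbt610.Display3n p R (Dieu.BC (WittVector.map (algebraMap S R) : WittVector p S →+* WittVector p R) P')) (hDR' : Dieu.IsDispBaseChange (algebraMap S R) D' DR')
    (χ : Dieu.BC (WittVector.map (algebraMap S R) : WittVector p S →+* WittVector p R) P →ₗ[WittVector p R] Dieu.BC (WittVector.map (algebraMap S R) : WittVector p S →+* WittVector p R) P') (hχ : W4c1extbt610.IsHom DR DR' χ)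
    (hdesc : ∀ (z₁ : Dieu.BC (WittVector.map (Algebra.TensorProduct.includeLeftRingHom : R →+* TensorProduct S R R) : WittVector p R →+* WittVector p (TensorProduct S R R)) (Dieu.BC (WittVector.map (algebraMap S R) : WittVector p S →+* WittVector p R) P)) (z₂ : Dieu.BC (WittVector.map ((Algebra.TensorProduct.includeRight : R →ₐ[S] TensorProduct S R R) : R →+* TensorProduct S R R) : WittVector p R →+* WittVector p (TensorProduct S R R)) (Dieu.BC (WittVector.map (algebraMap S R) : WittVector p S →+* WittVector p R) P)),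
      (Dieu.BC.castHom (P := P) e₁).comp (Dieu.BC.lift (WittVector.map (Algebra.TensorProduct.includeLeftRingHom : R →+* TensorProduct S R R) : WittVector p R →+* WittVector p (TensorProduct S R R)) (Dieu.BC.push (WittVector.map (algebraMap S R) : WittVector p S →+* WittVector p R) (WittVector.map (Algebra.TensorProduct.includeLeftRingHom : R →+* TensorProduct S R R) : WittVector p R →+* WittVector p (TensorProduct S R R)))) z₁ = (Dieu.BC.castHom (P := P) e₂).comp (Dieu.BC.lift (WittVector.map ((Algebra.TensorProduct.includeRight : R →ₐ[S] TensorProduct S R R) : R →+* TensorProduct S R R) : WittVector p R →+* WittVector p (TensorProduct S R R)) (Dieu.BC.push (WittVector.map (algebraMap S R) : WittVector p S →+* WittVector p R) (WittVector.map ((Algebra.TensorProduct.includeRight : R →ₐ[S] TensorProduct S R R) : R →+* TensorProduct S R R) : WittVector p R →+* WittVector p (TensorProduct S R R)))) z₂ →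
        (Dieu.BC.castHom (P := P') e₁).comp (Dieu.BC.lift (WittVector.map (Algebra.TensorProduct.includeLeftRingHom : R →+* TensorProduct S R R) : WittVector p R →+* WittVector p (TensorProduct S R R)) (Dieu.BC.push (WittVector.map (algebraMap S R) : WittVector p S →+* WittVector p R) (WittVector.map (Algebra.TensorProduct.includeLeftRingHom : R →+* TensorProduct S R R) : WittVector p R →+* WittVector p (TensorProduct S R R)))) (Dieu.BC.map (WittVector.map (Algebra.TensorProduct.includeLeftRingHom : R →+* TensorProduct S R R) : WittVector p R →+* WittVector p (TensorProduct S R R)) χ z₁) =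
          (Dieu.BC.castHom (P := P') e₂).comp (Dieu.BC.lift (WittVector.map ((Algebra.TensorProduct.includeRight : R →ₐ[S] TensorProduct S R R) : R →+* TensorProduct S R R) : WittVector p R →+* WittVector p (TensorProduct S R R)) (Dieu.BC.push (WittVector.map (algebraMap S R) : WittVector p S →+* WittVector p R) (WittVector.map ((Algebra.TensorProduct.includeRight : R →ₐ[S] TensorProduct S R R) : R →+* TensorProduct S R R) : WittVector p R →+* WittVector p (TensorProduct S R R)))) (Dieu.BC.map (WittVector.map ((Algebra.TensorProduct.includeRight : R →ₐ[S] TensorProduct S R R) : R →+* TensorProduct S R R) : WittVector p R →+* WittVector p (TensorProduct S R R)) χ z₂)) :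
    ∃! ψ : P →ₗ[WittVector p S] P', W4c1extbt610.IsHom D D' ψ ∧ Dieu.BC.map (WittVector.map (algebraMap S R) : WittVector p S →+* WittVector p R) ψ = χ := by
  classical
  have : Module.Projective (WittVector p S) P' := D'.projective
  obtain ⟨hinj', hrange'⟩ := Groth.Agent.H8.BCDescent.bc_descent
    (WittVector.map (algebraMap S R) : WittVector p S →+* WittVector p R)
    (WittVector.map (Algebra.TensorProduct.includeLeftRingHom : R →+* TensorProduct S R R) : WittVector p R →+* WittVector p (TensorProduct S R R))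
    (WittVector.map ((Algebra.TensorProduct.includeRight : R →ₐ[S] TensorProduct S R R) : R →+* TensorProduct S R R) : WittVector p R →+* WittVector p (TensorProduct S R R))
    (e₁.trans e₂.symm)
    (Groth.Agent.H8.BCDescent.witt_map_injective p S R)
    (Groth.Agent.H8.BCDescent.witt_equalizer p S R) P'
  have hχι : ∀ x : P, ∃ y : P', Dieu.BC.ι (WittVector.map (algebraMap S R) : WittVector p S →+* WittVector p R) P' y =
      χ (Dieu.BC.ι (WittVector.map (algebraMap S R) : WittVector p S →+* WittVector p R) P x) := by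
    intro x
    apply (hrange' _).mp
    have h := hdesc (Dieu.BC.tmul _ 1 (Dieu.BC.tmul _ 1 x)) (Dieu.BC.tmul _ 1 (Dieu.BC.tmul _ 1 x)) (by
      rw [LinearMap.comp_apply, LinearMap.comp_apply, Dieu.BC.lift_tmul, Dieu.BC.lift_tmul, one_smul, one_smul,
        Dieu.BC.push_tmul, Dieu.BC.push_tmul, Dieu.BC.castHom_tmul, Dieu.BC.castHom_tmul, map_one, map_one])
    rw [LinearMap.comp_apply, LinearMap.comp_apply, Dieu.BC.map_tmul, Dieu.BC.map_tmul, Dieu.BC.lift_tmul,
      Dieu.BC.lift_tmul, one_smul, one_smul] at h
    exact Groth.Agent.H8.BCDescent.eq_of_castHom_eq e₁ e₂ _ _ h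
  choose ψ₀ hψ₀ using hχι
  let ψ : P →ₗ[WittVector p S] P' :=
    { toFun := ψ₀
      map_add' := by
        intro x y
        apply hinj'
        rw [map_add, hψ₀, hψ₀, hψ₀, map_add, map_add]
      map_smul' := by
        intro a x
        apply hinj'
        rw [RingHom.id_apply, hψ₀, LinearMap.map_smulₛₗ (Dieu.BC.ι _ P), LinearMap.map_smul χ,
          LinearMap.map_smulₛₗ (Dieu.BC.ι _ P'), hψ₀] }
  have hψ : ∀ x, Dieu.BC.tmul (WittVector.map (algebraMap S R) : WittVector p S →+* WittVector p R) 1 (ψ x) =
      χ (Dieu.BC.tmul (WittVector.map (algebraMap S R) : WittVector p S →+* WittVector p R) 1 x) := hψ₀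
  have hmap : Dieu.BC.map (WittVector.map (algebraMap S R) : WittVector p S →+* WittVector p R) ψ = χ := by
    apply Dieu.BC.ext
    intro x
    rw [Dieu.BC.map_tmul, hψ]
  have hQ := fun x => Groth.Agent.S16542.result p S R hp P D hD DR hDR x
  have hQ' := fun x => Groth.Agent.S16542.result p S R hp P' D' hD' DR' hDR' x
  have hmapsTo : ∀ q : P, q ∈ D.Q → ψ q ∈ D'.Q := by
    intro q hq
    rw [hQ', Dieu.BC.ι_apply, hψ]
    exact hχ.mapsTo _ ((hQ q).mp hq)
  have hhom : W4c1extbt610.IsHom D D' ψ := by
    refine ⟨hmapsTo, ?_, ?_⟩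
    · intro x
      apply hinj'
      rw [Dieu.BC.ι_apply, Dieu.BC.ι_apply, hψ]
      have h1 := hDR.F_tmul 1 x
      rw [map_one] at h1
      rw [← h1, hχ.comm_F, ← hψ, hDR'.F_tmul, map_one]
    · intro q
      apply hinj'
      rw [Dieu.BC.ι_apply, Dieu.BC.ι_apply, hψ]
      have hq1 : Dieu.BC.tmul (WittVector.map (algebraMap S R) : WittVector p S →+* WittVector p R) 1 (q : P) ∈ DR.Q :=
        (hQ q).mp q.2
      have h1 := hDR.Vinv_tmul 1 q hq1
      rw [map_one] at h1
      rw [← h1, hχ.comm_Vinv]
      have hq2 : Dieu.BC.tmul (WittVector.map (algebraMap S R) : WittVector p S →+* WittVector p R) 1 (ψ q) ∈ DR'.Q :=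
        (hQ' _).mp (hmapsTo q q.2)
      have h2 := hDR'.Vinv_tmul 1 ⟨ψ q, hmapsTo q q.2⟩ hq2
      rw [map_one] at h2
      rw [← h2]
      congr 1
      apply Subtype.ext
      exact (hψ q).symm
  refine ⟨ψ, ⟨hhom, hmap⟩, ?_⟩
  rintro ψ' ⟨_, hmap'⟩
  apply LinearMap.ext
  intro x
  apply hinj'
  rw [Dieu.BC.ι_apply, Dieu.BC.ι_apply, hψ, ← hmap', Dieu.BC.map_tmul]

end Groth.Agent.S16545
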