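import Groth.Statements.S16627
import Groth.Agent.Lib.Lead.PN.RegSES

set_option autoImplicit false
universe u
open Variety

namespace Groth.Agent.S16627

open AlgebraicGeometry CategoryTheory CategoryTheory.Limits in
/-- Let k be a field, F a coherent module on projective n-space P^n_k which is m-regular, and ι : F ⊗
O(-1) → F a monomorphism of O-modules (such as multiplication by a linear form that is a
nonzerodivisor on F, i.e. a hyperplane avoiding the associated points of F). Then the cokernel of ι
— the restriction of F to the hyperplane, as a module on P^n_k — is again m-regular. (Stated for an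
arbitrary monomorphism F(-1) → F and an arbitrary ground field.) -/
theorem result (k : Type u) [Field k] (n : ℕ)
    (F : (CohB1.ProjSpace n k).Modules) (hF : Coh.IsCoh F) (m : ℤ) (hreg : Curv2.IsMRegular k n F m)
    (ι : CohB1.tensorMod F (Twist.twistProjSpace n k (-1)) ⟶ F) [Mono ι] :
    Curv2.IsMRegular k n (cokernel ι) m := by
  have h1 : Groth.Agent.LD.PN.IsReg n k F m :=
    @Groth.Agent.LD.PN.isReg_of_bounded n k _ F hF.1 m (fun i hi hin => hreg i hi hin)
  have h2 := @Groth.Agent.LD.PN.isReg_cokernel n k _ F hF.1 m h1 ι (by assumption)
  intro i hi _
  exact h2 i hi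

end Groth.Agent.S16627
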