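import Groth.Statements.S1664
import Groth.Agent.Lib.Lead.QC.BigTensor
import Groth.Agent.Lib.Lead.QC.SepAmple

set_option autoImplicit false
universe u
open CategoryTheory CategoryTheory.Limits AlgebraicGeometry
open Variety

namespace Groth.Agent.S1664

/-- Let X be quasi-compact. Suppose every point of X lies in the locus where some global section s of
some globally generated invertible module L generates L, with that locus affine. Then X has an ample
invertible module. -/
theorem result (X : Scheme.{u}) [CompactSpace X]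
    (h : ∀ x : X, ∃ (L : X.Modules) (s : Coh.structureModule X ⟶ L), PicF.IsInvertible L ∧ Curv2.IsGloballyGenerated L ∧
      x ∈ CohB1.genLocus L s ∧ IsAffineOpen (CohB1.genLocus L s)) :
    ∃ M : X.Modules, CohB1.IsAmple M := by
  classical
  choose L s hinv hgg hxs haff using h
  obtain ⟨t0, ht0⟩ := isCompact_univ.elim_finite_subcover
    (fun y : X => (CohB1.genLocus (L y) (s y) : Set X)) (fun y => (CohB1.genLocus _ (s y)).2)
    (fun y _ => Set.mem_iUnion.mpr ⟨y, hxs y⟩)
  let m := t0.card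
  let e : Fin m ≃ t0 := t0.equivFin.symm
  let L' : Fin m → X.Modules := fun i => L (e i).1
  have hL' : ∀ i, PicF.IsInvertible (L' i) := fun i => hinv _
  let M := LD.QC.bigTensor m L'
  have hM : PicF.IsInvertible M := LD.QC.isInvertible_bigTensor m L' hL'
  haveI : M.IsQuasicoherent := LD.QC.qc_of_isInvertible M hM
  refine ⟨M, hM, inferInstance, fun x => ?_⟩
  obtain ⟨y, hy, hxy⟩ := Set.mem_iUnion₂.mp (ht0 (Set.mem_univ x))
  let i₀ : Fin m := e.symm ⟨y, hy⟩
  have hi₀ : (e i₀).1 = y := by simp [i₀]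
  have hex : ∀ j : Fin m, ∃ w : LD.QC.unitMod X ⟶ L' j, x ∈ CohB1.genLocus (L' j) w := by
    intro j
    obtain ⟨K, p, hp⟩ := hgg (e j).1
    obtain ⟨k, hk⟩ := LD.QC.exists_mem_genLocus_of_epi_free (L' j) (hL' j) p hp x
    exact ⟨_, hk⟩
  choose w₀ hw₀ using hex
  have key : ∀ z : X, z = y → x ∈ CohB1.genLocus (L z) (s z) := by
    rintro z rfl; exact hxy
  let w : ∀ j, LD.QC.unitMod X ⟶ L' j := Function.update w₀ i₀ (s (e i₀).1)
  have hwi : w i₀ = s (e i₀).1 := Function.update_self _ _ _
  have hw : ∀ j, x ∈ CohB1.genLocus (L' j) (w j) := by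
    intro j
    by_cases hj : j = i₀
    · subst hj
      rw [hwi]
      exact key _ hi₀
    · have : w j = w₀ j := Function.update_of_ne hj _ _
      rw [this]
      exact hw₀ j
  let t := LD.QC.bigTmulHom m L' w
  have hxt : x ∈ CohB1.genLocus M t := LD.QC.mem_genLocus_bigTmulHom m L' hL' w x hw
  have hle : CohB1.genLocus M t ≤ CohB1.genLocus (L' i₀) (w i₀) :=
    LD.QC.genLocus_bigTmulHom_le m L' hL' w i₀
  have haff' : IsAffineOpen (CohB1.genLocus (L' i₀) (w i₀)) := by
    rw [hwi]; exact haff _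
  have h6 := LD.QC.isAffineOpen_genLocus_inf M hM t haff'
  rw [inf_eq_left.mpr hle] at h6
  have e1 := LD.QC.genLocus_comp_iso t (LD.QC.unitorL M).symm
  refine ⟨0, t ≫ (LD.QC.unitorL M).symm.hom, ?_, ?_⟩
  · change x ∈ CohB1.genLocus (CohB1.tensorMod (LD.QC.unitMod X) M) (t ≫ (LD.QC.unitorL M).symm.hom)
    rw [e1]; exact hxt
  · change IsAffineOpen (CohB1.genLocus (CohB1.tensorMod (LD.QC.unitMod X) M)
      (t ≫ (LD.QC.unitorL M).symm.hom))
    rw [e1]; exact h6

end Groth.Agent.S1664
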