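import Groth.Statements.S16644
import Mathlib

set_option autoImplicit false
open QuadZ

namespace Groth.Agent.S16644

/-- For odd n, the discriminant of the universal quadratic form Σ_{i ≤ j} A_{ij} x_i x_j in n variables
(variables A_{ij} indexed by unordered pairs), i.e. the determinant of the symmetric matrix with
diagonal entries 2 A_{ii} and off-diagonal entries A_{ij}, is divisible by 2 in the integral
polynomial ring ℤ[A_{ij}] (so the half-discriminant is an integral polynomial). -/
theorem result (n : ℕ) (hn : Odd n) :
    (2 : MvPolynomial (Sym2 (Fin n)) ℤ) ∣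
      (Matrix.of fun i j : Fin n =>
        if i = j then 2 * MvPolynomial.X (R := ℤ) (σ := Sym2 (Fin n)) (Sym2.mk i j)
        else MvPolynomial.X (R := ℤ) (σ := Sym2 (Fin n)) (Sym2.mk i j)).det := by
  classical
  set P := MvPolynomial (Sym2 (Fin n)) ℤ with hP
  set N : Matrix (Fin n) (Fin n) P := Matrix.of fun i j : Fin n =>
        if i = j then 2 * MvPolynomial.X (R := ℤ) (σ := Sym2 (Fin n)) (Sym2.mk i j)
        else MvPolynomial.X (R := ℤ) (σ := Sym2 (Fin n)) (Sym2.mk i j) with hN
  -- the generic alternating matrix
  let A : Matrix (Fin n) (Fin n) P := Matrix.of fun i j : Fin n =>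
    if i < j then MvPolynomial.X (Sym2.mk i j) else if j < i then - MvPolynomial.X (Sym2.mk i j) else 0
  have hAt : A.transpose = -A := by
    apply Matrix.ext
    intro i j
    simp only [A, Matrix.transpose_apply, Matrix.of_apply, Matrix.neg_apply]
    have hsw : (s(j, i) : Sym2 (Fin n)) = s(i, j) := Sym2.eq_swap
    rcases lt_trichotomy i j with h | h | h
    · simp only [h, not_lt.mpr h.le, if_true, if_false, hsw]
    · subst h; simp
    · simp only [h, not_lt.mpr h.le, if_true, if_false, hsw]
      exact (neg_neg _).symm
  have hdetA : A.det = 0 := by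
    have h1 : A.det = (-1 : P) ^ n * A.det := by
      conv_lhs => rw [← Matrix.det_transpose, hAt, Matrix.det_neg, Fintype.card_fin]
    rw [hn.neg_one_pow] at h1
    have h2 : (2 : P) * A.det = 0 := by linear_combination h1
    rcases mul_eq_zero.mp h2 with h | h
    · exact absurd h two_ne_zero
    · exact h
  -- reduce modulo 2
  let q := Ideal.Quotient.mk (Ideal.span {(2 : P)})
  have hmap : N.map q = A.map q := by
    apply Matrix.ext
    intro i j
    simp only [Matrix.map_apply, hN, A, Matrix.of_apply]
    have h2 : q 2 = 0 := Ideal.Quotient.eq_zero_iff_mem.mpr (Ideal.mem_span_singleton_self _)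
    rcases lt_trichotomy i j with h | h | h
    · simp [h, h.ne]
    · subst h; simp [h2]
    · have hne : i ≠ j := h.ne'
      simp only [hne, if_false, not_lt.mpr h.le, h, if_true, map_neg]
      have : q (MvPolynomial.X (Sym2.mk i j)) + q (MvPolynomial.X (Sym2.mk i j)) = 0 := by
        rw [← map_add, ← two_mul, map_mul, h2, zero_mul]
      exact eq_neg_of_add_eq_zero_left this
  have h3 : q N.det = 0 := by
    rw [RingHom.map_det, RingHom.mapMatrix_apply, hmap, ← RingHom.mapMatrix_apply, ← RingHom.map_det,
      hdetA, map_zero]
  exact Ideal.mem_span_singleton.mp (Ideal.Quotient.eq_zero_iff_mem.mp h3)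

end Groth.Agent.S16644
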