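import Groth.Statements.S16651
import Groth.Agent.Lib.Helper9.Misc.CLF4
import Groth.Agent.Lib.Helper7.AzCH

set_option autoImplicit false
universe u v
open scoped TensorProduct
open QuadZ

namespace Groth.Agent.S16651

/-- For a free module over an affine base, let Q be a non-degenerate quadratic form (polar form a
perfect pairing) on a free module V of even rank 2m ≥ 2 over a commutative ring A. Then fppf-locally
on A the Clifford algebra C(V,Q) is a matrix algebra of size 2^m and its even part a product of two
matrix algebras of size 2^(m-1) (there is a faithfully flat finitely presented A-algebra A'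
realising both), the centre of C(V,Q) is A, the map V → C(V,Q) is injective onto a direct summand,
and the even part is the centralizer in C(V,Q) of its own centre. -/
theorem result (A : Type u) [CommRing A] (V : Type u)
    [AddCommGroup V] [Module A V] [Module.Free A V] [Module.Finite A V] (m : ℕ) (hm : 1 ≤ m)
    (hV : Module.finrank A V = 2 * m) (Q : QuadraticForm A V) (hQ : Function.Bijective (QuadraticMap.polarBilin Q)) :
    (∃ (A' : Type u) (_ : CommRing A') (_ : Algebra A A'), Module.FaithfullyFlat A A' ∧ Algebra.FinitePresentation A A' ∧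
        Nonempty ((A' ⊗[A] CliffordAlgebra Q) ≃ₐ[A'] Matrix (Fin (2 ^ m)) (Fin (2 ^ m)) A') ∧
        Nonempty ((A' ⊗[A] ↥(CliffordAlgebra.even Q)) ≃ₐ[A']
          (Matrix (Fin (2 ^ (m - 1))) (Fin (2 ^ (m - 1))) A' × Matrix (Fin (2 ^ (m - 1))) (Fin (2 ^ (m - 1))) A'))) ∧
    Subalgebra.center A (CliffordAlgebra Q) = ⊥ ∧
    (Function.Injective (CliffordAlgebra.ι Q) ∧
      ∃ W : Submodule A (CliffordAlgebra Q), IsCompl (LinearMap.range (CliffordAlgebra.ι Q)) W) ∧
    Subalgebra.centralizer A
        ((CliffordAlgebra.even Q).val '' (Subalgebra.center A ↥(CliffordAlgebra.even Q) : Set ↥(CliffordAlgebra.even Q))) =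
      CliffordAlgebra.even Q := by
  classical
  haveI : Nontrivial A := by
    rcases subsingleton_or_nontrivial A with h | h
    · exfalso
      have := Module.finrank_subsingleton (R := A) (M := V)
      omega
    · exact h
  have hreg : QuadGrp.IsRegular Q := hQ
  haveI : IsAzumaya A (CliffordAlgebra Q) := Groth.Agent.H9.QG.isAzumaya_clifford Q hreg m hV
  refine ⟨?_, ?_, ⟨Groth.Agent.H9.QG.ι_injective Q, Groth.Agent.H9.QO.exists_isCompl_range_ι Q⟩,
    Groth.Agent.H9.CE.centralizer_center_even m hV Q hreg⟩
  · haveI : Module.Free A (CliffordAlgebra Q) :=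
      Groth.Agent.H9.QO.free_clifford' (Module.finBasis A V) Q
    have hrk : ∀ p : PrimeSpectrum A,
        Module.rankAtStalk (R := A) (CliffordAlgebra Q) p = (2 ^ m) ^ 2 := by
      intro p
      have h := congrFun
        (Module.rankAtStalk_eq_finrank_of_free (R := A) (M := CliffordAlgebra Q)) p
      rw [h, Groth.Agent.H9.QO.finrank_clifford (Module.finBasis A V) Q, hV]
      simp only [Pi.natCast_apply, Nat.cast_id]
      ring
    obtain ⟨As, hAc, hAa, hAet, hAff, ⟨φs⟩⟩ :=
      Groth.Agent.H7.AzQE.exists_global_etale_splitting A (CliffordAlgebra Q) (2 ^ m) hrk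
        (by positivity)
    haveI : Nontrivial As := Groth.Agent.H9.CLF.nontrivial_of_faithfullyFlat A As
    have hQs := Groth.Agent.H9.QG.isRegular_baseChangeForm As Q hreg
    have hMs : Module.finrank As (As ⊗[A] V) = 2 * m := by
      rw [Module.finrank_baseChange, hV]
    obtain ⟨R', hc, ha, hT, htower, h1, h2, ⟨ψ⟩⟩ := Groth.Agent.H9.CLF.desc Q (2 ^ (m - 1)) As
      (Groth.Agent.H9.CLF.split_even m hm hMs _ hQs)
    exact ⟨R', hc, ha, h2, h1.finitePresentation,
      ⟨Groth.Agent.H7.AzCH.bc φs (IsScalarTower.toAlgHom A As R')⟩, ⟨ψ⟩⟩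
  · apply le_antisymm
    · intro z hz
      rw [Subalgebra.mem_center_iff] at hz
      obtain ⟨r, hr⟩ := Groth.Agent.H7.LG.center_azumaya A (CliffordAlgebra Q) z
        (fun c => (hz c).symm)
      rw [hr]
      exact Subalgebra.algebraMap_mem _ r
    · exact bot_le

end Groth.Agent.S16651
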