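import Groth.Statements.S16663
import Groth.Agent.Lib.Helper6.ConnLib

set_option autoImplicit false
universe v u
open TensorProduct
open Conn

namespace Groth.Agent.S16663

/-- Let B be an A-algebra with a receptacle of differentials (Ω, δ), Ω a finite free B-module (the local
form of a weakly smooth scheme), and let M be a finitely ℤ-graded B-module presented as a finite
family of finite free B-modules M_i with integer degrees deg i (the local form of a graded vector
bundle), with total module Π_i M_i. Let ∇ be a connection on Π_i M_i preserving the grading, in the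
sense that (pr_j ⊗ 1)(∇(ι_i m)) = 0 for m ∈ M_i whenever deg i ≠ deg j, and let ∇_E be the induced
connection on the B-linear endomorphisms, the one with (ev_m ⊗ 1)(∇_E φ) = ∇(φ m) − (φ ⊗ 1)(∇ m).
Give B the connection b ↦ 1 ⊗ δ b. Then the supertrace, φ ↦ tr(ε ∘ φ) with ε = Σ_i (−1)^{deg i} ι_i
∘ pr_i the grading involution, is a horizontal map End_B(Π_i M_i) → B. -/
theorem result {A : Type v} {B Ω ι : Type u}
    [CommRing A] [CommRing B] [Algebra A B]
    [AddCommGroup Ω] [Module B Ω] [Module A Ω] [IsScalarTower A B Ω] [Module.Finite B Ω] [Module.Free B Ω]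
    [Fintype ι] [DecidableEq ι] (deg : ι → ℤ) (M : ι → Type u)
    [∀ i, AddCommGroup (M i)] [∀ i, Module B (M i)] [∀ i, Module A (M i)] [∀ i, IsScalarTower A B (M i)]
    [∀ i, Module.Free B (M i)] [∀ i, Module.Finite B (M i)]
    (δ : Derivation A B Ω) (nabla : (Π k, M k) →ₗ[A] (Π k, M k) ⊗[B] Ω) (hc : Conn.IsConn δ nabla)
    (hgr : ∀ i j : ι, deg i ≠ deg j → ∀ m : M i,
      TensorProduct.map (LinearMap.proj j : (Π k, M k) →ₗ[B] M j) LinearMap.id (nabla (LinearMap.single B M i m)) = 0)
    (nablaE : ((Π k, M k) →ₗ[B] (Π k, M k)) →ₗ[A] ((Π k, M k) →ₗ[B] (Π k, M k)) ⊗[B] Ω)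
    (hE : Conn.IsHomConn nabla nabla nablaE) :
    Conn.IsHorizontal nablaE (Conn.triv δ)
      (LinearMap.trace B (Π k, M k) ∘ₗ LinearMap.llcomp B (Π k, M k) (Π k, M k) (Π k, M k)
        (∑ i : ι, (LinearMap.single B M i) ∘ₗ (((-1 : B) ^ (deg i).natAbs) • (LinearMap.proj i : (Π k, M k) →ₗ[B] M i)))) := by
  intro φ
  classical
  let bΩ := Module.Free.chooseBasis B Ω
  set ε : (Π k, M k) →ₗ[B] (Π k, M k) :=
    ∑ i : ι, (LinearMap.single B M i) ∘ₗ
      (((-1 : B) ^ (deg i).natAbs) • (LinearMap.proj i : (Π k, M k) →ₗ[B] M i)) with hε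
  apply Groth.Agent.H6.CN.ext_contr bΩ
  intro q
  set θ := bΩ.coord q with hθ
  rw [Conn.triv_apply, Groth.Agent.H6.CN.contr_tmul, Groth.Agent.H6.CN.contr_map, smul_eq_mul,
    mul_one]
  set d := Conn.along nabla θ with hd
  -- ε on an arbitrary element with homogeneous support
  have hεapply : ∀ y : (Π k, M k), ε y = fun k => ((-1 : B) ^ (deg k).natAbs) • y k := by
    intro y
    funext k
    simp only [hε, LinearMap.sum_apply, LinearMap.comp_apply, LinearMap.smul_apply,
      LinearMap.proj_apply, Finset.sum_apply, LinearMap.single_apply]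
    rw [Finset.sum_eq_single k]
    · simp
    · intro j _ hj; simp [Pi.single_eq_of_ne (Ne.symm hj)]
    · intro h; exact absurd (Finset.mem_univ k) h
  have hsign : ∀ (n : ℕ) (y : (Π k, M k)), d (((-1 : B) ^ n) • y) = ((-1 : B) ^ n) • d y := by
    intro n y
    have h1 : ((-1 : B) ^ n) • y = ((-1 : A) ^ n) • y := by
      rw [← algebraMap_smul B ((-1 : A) ^ n) y, map_pow, map_neg, map_one]
    have h2 : ((-1 : B) ^ n) • d y = ((-1 : A) ^ n) • d y := by
      rw [← algebraMap_smul B ((-1 : A) ^ n) (d y), map_pow, map_neg, map_one]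
    rw [h1, h2, map_smul]
  -- d preserves the grading
  have hdgr : ∀ (i j : ι) (m : M i), deg i ≠ deg j → d (LinearMap.single B M i m) j = 0 := by
    intro i j m hij
    have h := congrArg (Groth.Agent.H6.CN.contr θ) (hgr i j hij m)
    rw [Groth.Agent.H6.CN.contr_map, map_zero] at h
    exact h
  have hcomm_single : ∀ (i : ι) (m : M i),
      ε (d (LinearMap.single B M i m)) = d (ε (LinearMap.single B M i m)) := by
    intro i m
    have h1 : ε (LinearMap.single B M i m) =
        ((-1 : B) ^ (deg i).natAbs) • LinearMap.single B M i m := by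
      rw [hεapply]
      funext k
      by_cases hk : k = i
      · subst hk; simp
      · simp [LinearMap.single_apply, Pi.single_eq_of_ne hk]
    rw [h1, hsign, hεapply]
    funext k
    by_cases hk : deg i = deg k
    · simp [hk]
    · have h0 := hdgr i k m hk
      simp only [Pi.smul_apply]
      rw [h0, smul_zero, smul_zero]
  have hcomm : ∀ y : (Π k, M k), ε (d y) = d (ε y) := by
    intro y
    have hy : y = ∑ i, LinearMap.single B M i (y i) := by
      funext k
      simp [Finset.sum_apply, LinearMap.single_apply]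
    rw [hy, map_sum, map_sum, map_sum, map_sum]
    exact Finset.sum_congr rfl fun i _ => hcomm_single i (y i)
  have h := Groth.Agent.H6.CN.trace_bracket (Module.Free.chooseBasis B (Π k, M k))
    (θ.toAddMonoidHom.comp (δ : B →ₗ[A] Ω).toAddMonoidHom)
    d.toAddMonoidHom
    (fun c m => Groth.Agent.H6.CN.along_smul hc θ c m)
    (ε ∘ₗ φ) (ε ∘ₗ Conn.along nablaE θ φ)
    (fun m => by
      simp only [LinearMap.comp_apply, LinearMap.toAddMonoidHom_coe]
      rw [Groth.Agent.H6.CN.along_hom_apply hE θ φ m, map_sub, hcomm])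
  simp only [LinearMap.comp_apply, LinearMap.llcomp_apply']
  exact h.symm

end Groth.Agent.S16663
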