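import Groth.Statements.S16667
import Groth.Agent.Lib.Helper6.DepthOne

set_option autoImplicit false
universe u
open CAlg

namespace Groth.Agent.S16667

/-- Let A be a Noetherian integral domain satisfying Serre's condition (S_2), with fraction field K. An
element of K which lies in the localization A_p for every prime p of A with depth(A_p) = 1 lies in
A. -/
theorem result {A : Type u} [CommRing A] [IsDomain A]
    [IsNoetherianRing A] (hS2 : LocCoh.HasSk 2 A A) (x : FractionRing A)
    (hx : ∀ (p : Ideal A) [p.IsPrime],
      LocCoh.depth (Localization.AtPrime p) (Localization.AtPrime p) = 1 →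
        x ∈ Set.range (algebraMap (Localization.AtPrime p) (FractionRing A))) :
    x ∈ Set.range (algebraMap A (FractionRing A)) := by
  classical
  obtain ⟨a, ⟨b, hb⟩, rfl⟩ := IsLocalization.exists_mk'_eq (nonZeroDivisors A) x
  by_contra hcon
  have hb0 : b ≠ 0 := nonZeroDivisors.ne_zero hb
  have hnot : a ∉ Ideal.span {b} := by
    intro hmem
    obtain ⟨c, hc⟩ := Ideal.mem_span_singleton'.mp hmem
    apply hcon
    refine ⟨c, ?_⟩
    rw [IsLocalization.eq_mk'_iff_mul_eq]
    change algebraMap A (FractionRing A) c * algebraMap A (FractionRing A) b = _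
    rw [← map_mul, hc]
  have hne : (Ideal.Quotient.mk (Ideal.span {b}) a) ≠ 0 := by
    rwa [Ne, Ideal.Quotient.eq_zero_iff_mem]
  obtain ⟨P, hP, hle⟩ := exists_le_isAssociatedPrime_of_isNoetherianRing A
    (Ideal.Quotient.mk (Ideal.span {b}) a) hne
  haveI : P.IsPrime := hP.isPrime
  have hreg : IsSMulRegular A b := fun x y hxy => mul_left_cancel₀ hb0 hxy
  have hdepth : LocCoh.depth (Localization.AtPrime P) (Localization.AtPrime P) = 1 :=
    Groth.Agent.H6.DepthOne.depth_eq_one_of_mem_associatedPrimes b hreg P hP
  obtain ⟨y, hy⟩ := hx P hdepth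
  obtain ⟨c, s, rfl⟩ := IsLocalization.exists_mk'_eq P.primeCompl y
  have hs0 : (s : A) ≠ 0 := by
    intro h0
    exact s.2 (by rw [h0]; exact P.zero_mem)
  have hinj : Function.Injective (algebraMap A (FractionRing A)) :=
    IsFractionRing.injective A (FractionRing A)
  have key : (s : A) * a = c * b := by
    apply hinj
    rw [IsLocalization.eq_mk'_iff_mul_eq] at hy
    have h1 : algebraMap (Localization.AtPrime P) (FractionRing A)
        (IsLocalization.mk' (Localization.AtPrime P) c s) * algebraMap A (FractionRing A) s =
        algebraMap A (FractionRing A) c := by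
      rw [IsScalarTower.algebraMap_apply A (Localization.AtPrime P) (FractionRing A) s,
        ← map_mul, IsLocalization.mk'_spec,
        ← IsScalarTower.algebraMap_apply A (Localization.AtPrime P) (FractionRing A)]
    have hy' : algebraMap (Localization.AtPrime P) (FractionRing A)
        (IsLocalization.mk' (Localization.AtPrime P) c s) * algebraMap A (FractionRing A) b =
        algebraMap A (FractionRing A) a := hy
    rw [map_mul, map_mul, ← hy', ← h1]
    ring
  have hsmem : (s : A) ∈ (⊥ : Submodule A (A ⧸ Ideal.span {b})).colon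
      {Ideal.Quotient.mk (Ideal.span {b}) a} := by
    rw [Submodule.mem_colon_singleton, Submodule.mem_bot]
    change (s : A) • (Ideal.Quotient.mk (Ideal.span {b}) a) = 0
    rw [Algebra.smul_def, Ideal.Quotient.algebraMap_eq, ← map_mul, key,
      Ideal.Quotient.eq_zero_iff_mem]
    exact Ideal.mem_span_singleton'.mpr ⟨c, rfl⟩
  exact s.2 (hle hsmem)

end Groth.Agent.S16667
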