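import Groth.Statements.S16699
import Groth.Agent.Lib.Helper3.AlgSt.DiagFacts
import Groth.Agent.Lib.Helper3.AlgSt.StackRep

set_option autoImplicit false
universe u
open AlgSt AlgSt.IsWellNighAffine

namespace Groth.Agent.S16699

open CategoryTheory AlgebraicGeometry in
/-- An algebraic stack affine over a well-nigh affine algebraic stack is well-nigh affine. -/
theorem result (S : Scheme.{u}) (𝒳 𝒳' : AlgSt.Cat S)
    (h𝒳 : AlgSt.IsAlgStack Scheme.fppfPrecoverage 𝒳) (h𝒳' : AlgSt.IsAlgStack Scheme.fppfPrecoverage 𝒳')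
    (hw : AlgSt.IsWellNighAffine 𝒳) (f : 𝒳' ⥤ᵇ 𝒳) (hf : AlgSt.RepByAlgSpWith AlgSp.IsAffineMor f) :
    AlgSt.IsWellNighAffine 𝒳' := by
  obtain ⟨U, x, hU, hx⟩ := hw
  obtain ⟨F, e, he, hP⟩ := hf U x
  obtain ⟨W, i, fst, sq, hW⟩ := hP hU (𝟙 _)
  have h1 : IsIso fst := sq.isIso_fst_of_isIso
  have h2 : IsIso fst.hom := by
    have : fst.hom = (sheafToPresheaf (AlgSp.J S) (Type (u + 1))).map fst := rfl
    rw [this]; infer_instance
  have hM : FibCat.IsEquivOver (Stk.ofPshMap fst.hom) :=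
    Groth.Agent.H3.PshBridge.isEquivOver_ofPshMap fst.hom
  have hE : FibCat.IsEquivOver (BasedFunctor.comp (BasedFunctor.comp
      (Groth.Agent.H3.RepBridge.ofOver W) (Stk.ofPshMap fst.hom)) e) :=
    Groth.Agent.H3.FpCalc.isEquivOver_comp _ _
      (Groth.Agent.H3.FpCalc.isEquivOver_comp _ _
        (Groth.Agent.H3.RepBridge.isEquivOver_ofOver W) hM) he
  refine ⟨W, BasedFunctor.comp (BasedFunctor.comp (BasedFunctor.comp
      (Groth.Agent.H3.RepBridge.ofOver W) (Stk.ofPshMap fst.hom)) e) (FibCat.fpSnd x f), hW, ?_⟩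
  rw [Groth.Agent.H3.AlgStBridge2.repByAlgSpWith_comp_equiv_iff _ _ hE]
  exact Groth.Agent.H3.AlgStStackRep.repByAlgSpWith_fpSnd _ x f hx

end Groth.Agent.S16699
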