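import Groth.Statements.S16707
import Mathlib
-- import your own Groth.Agent.* helpers here

set_option autoImplicit false
universe u v
open CAlg

namespace Groth.Agent.S16707

open TensorProduct in
/-- Let A be a commutative ring, I a nilpotent ideal of A and f : M → N a homomorphism of A-modules with
N flat over A (no finiteness assumption on M or N). If the base change of f to A/I, that is M/IM →
N/IN, is bijective, then f is bijective. -/
theorem result (A : Type u) [CommRing A] (I : Ideal A)
    (hI : IsNilpotent I) (M N : Type v) [AddCommGroup M] [Module A M] [AddCommGroup N] [Module A N]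
    [Module.Flat A N] (f : M →ₗ[A] N)
    (hf : Function.Bijective (f.baseChange (A ⧸ I))) :
    Function.Bijective f := by
  -- nilpotent Nakayama
  have nak : ∀ (C : Type v) [AddCommGroup C] [Module A C],
      Subsingleton ((A ⧸ I) ⊗[A] C) → Subsingleton C := by
    intro C _ _ hsub
    have h1 : Subsingleton (C ⧸ (I • (⊤ : Submodule A C))) :=
      (TensorProduct.quotTensorEquivQuotSMul C I).symm.injective.subsingleton
    have h2 : (I • (⊤ : Submodule A C)) = ⊤ := Submodule.Quotient.subsingleton_iff.mp h1
    have h3 : ∀ k : ℕ, (I ^ k • (⊤ : Submodule A C)) = ⊤ := by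
      intro k
      induction k with
      | zero => simp
      | succ k ih => rw [pow_succ, Submodule.mul_smul, h2, ih]
    obtain ⟨n, hn⟩ := hI
    have h4 := h3 n
    rw [hn, Ideal.zero_eq_bot, Submodule.bot_smul] at h4
    exact (Submodule.subsingleton_iff A).mp (subsingleton_of_bot_eq_top h4)
  have hbc : ∀ x, (f.baseChange (A ⧸ I)) x = (f.lTensor (A ⧸ I)) x := fun x => rfl
  -- surjectivity
  have hsurj : Function.Surjective f := by
    rw [← LinearMap.range_eq_top]
    let π := (LinearMap.range f).mkQ
    have hsub : Subsingleton ((A ⧸ I) ⊗[A] (N ⧸ LinearMap.range f)) := by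
      refine ⟨fun x y => ?_⟩
      have hπ : Function.Surjective (π.lTensor (A ⧸ I)) :=
        LinearMap.lTensor_surjective _ (Submodule.mkQ_surjective _)
      have hzero : ∀ z, (π.lTensor (A ⧸ I)) z = 0 := by
        intro z
        obtain ⟨w, rfl⟩ := hf.2 z
        rw [hbc, ← LinearMap.comp_apply, ← LinearMap.lTensor_comp]
        have : π ∘ₗ f = 0 := by
          ext m
          simp [π]
        rw [this, LinearMap.lTensor_zero, LinearMap.zero_apply]
      obtain ⟨x', rfl⟩ := hπ x
      obtain ⟨y', rfl⟩ := hπ y
      rw [hzero, hzero]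
    have := nak _ hsub
    exact Submodule.Quotient.subsingleton_iff.mp this
  refine ⟨?_, hsurj⟩
  -- injectivity
  rw [← LinearMap.ker_eq_bot]
  have hinj : Function.Injective ((LinearMap.ker f).subtype.lTensor (A ⧸ I)) :=
    LinearMap.lTensor_injective_of_exact_of_flat f hsurj (LinearMap.ker f).subtype
      (LinearMap.ker f).injective_subtype (LinearMap.exact_subtype_ker_map f) (A ⧸ I)
  have hsub : Subsingleton ((A ⧸ I) ⊗[A] (LinearMap.ker f)) := by
    refine ⟨fun x y => ?_⟩
    apply hinj
    apply hf.1
    rw [hbc, hbc, ← LinearMap.comp_apply, ← LinearMap.comp_apply, ← LinearMap.lTensor_comp]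
    have : f ∘ₗ (LinearMap.ker f).subtype = 0 := by
      ext m
      simp
    rw [this, LinearMap.lTensor_zero, LinearMap.zero_apply, LinearMap.zero_apply]
  have := nak _ hsub
  exact (Submodule.subsingleton_iff_eq_bot).mp this

end Groth.Agent.S16707
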