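import Groth.Statements.S16708
import Mathlib
import Groth.Agent.Lib.Helper9.ComodIntegral

set_option autoImplicit false
universe u
open HopfRep

namespace Groth.Agent.S16708

/-- Let G be a finite group and k a field in which the order of G is a nonzero element. Then the
constant group scheme of G over k is linearly reductive: every finite-dimensional comodule over its
coordinate Hopf algebra (the algebra of functions G → k with the Hopf structure of the constant
group) is semisimple, i.e. every subcomodule admits a complementary subcomodule. -/
theorem result (k : Type u) [Field k] (G : Type u) [Group G]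
    [Fintype G] [DecidableEq G] (hG : ((Fintype.card G : ℕ) : k) ≠ 0) :
    HopfRep.IsLinearlyReductive k (ConstGrp.F k G) := by
  classical
  -- the averaging functional
  let α : ConstGrp.F k G →ₗ[k] k :=
    ((Fintype.card G : k)⁻¹) • ∑ g : G, (ConstGrp.ev k g).toLinearMap
  have hα_e : ∀ g : G, α (ConstGrp.e k g) = (Fintype.card G : k)⁻¹ := by
    intro g
    simp only [α, LinearMap.smul_apply, LinearMap.sum_apply, AlgHom.toLinearMap_apply,
      ConstGrp.ev_apply, smul_eq_mul]
    rw [Finset.sum_eq_single g]
    · rw [ConstGrp.e_apply_self, mul_one]
    · intro h _ hh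
      exact ConstGrp.e_apply_of_ne hh
    · intro h; exact absurd (Finset.mem_univ g) h
  have hα1 : α 1 = 1 := by
    simp only [α, LinearMap.smul_apply, LinearMap.sum_apply, AlgHom.toLinearMap_apply,
      ConstGrp.ev_apply, ConstGrp.one_apply, smul_eq_mul, Finset.sum_const, Finset.card_univ,
      nsmul_eq_mul, mul_one]
    exact inv_mul_cancel₀ hG
  have hint : Groth.Agent.H9.Integral.IsIntegral α := by
    have : (TensorProduct.lid k (ConstGrp.F k G)).toLinearMap ∘ₗ
        LinearMap.rTensor (ConstGrp.F k G) α ∘ₗ CoalgebraStruct.comul (R := k) =
        LinearMap.toSpanSingleton k (ConstGrp.F k G) 1 ∘ₗ α := by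
      apply ConstGrp.linearMap_ext
      intro g
      simp only [LinearMap.comp_apply, LinearEquiv.coe_coe, LinearMap.toSpanSingleton_apply]
      rw [show CoalgebraStruct.comul (R := k) (ConstGrp.e k g) = _ from ConstGrp.comul_e k G g]
      simp only [map_sum, LinearMap.rTensor_tmul, TensorProduct.lid_tmul, hα_e]
      rw [← Finset.smul_sum]
      congr 1
      rw [← ConstGrp.sum_e (R := k) (G := G)]
      exact Fintype.sum_equiv ((Equiv.inv G).trans (Equiv.mulRight g)) _ _ fun a => rfl
    intro b
    exact LinearMap.congr_fun this b
  intro V _ _ _ _
  exact Groth.Agent.H9.Integral.isSemisimpleComod_of_integral hint hα1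

end Groth.Agent.S16708
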