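import Groth.Statements.S16710
import Groth.Agent.Lib.Helper5.IntN.Nak2

set_option autoImplicit false
universe u
open CategoryTheory CategoryTheory.Limits AlgebraicGeometry TopologicalSpace
open Variety

namespace Groth.Agent.S16710

/-- Let X be a proper scheme over a field k and L an invertible O_X-module. Then L is ample if and only
if (i) L is strictly nef, meaning χ(O_C ⊗ L) - χ(O_C) > 0 for every integral closed subscheme C ⊆ X
of dimension one, and (ii) L is semiample, meaning some positive tensor power of L is generated by
its global sections (is a quotient of a free O_X-module). -/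
theorem result (k : Type u) [Field k] (X : Scheme.{u})
    [X.Over (Spec (CommRingCat.of k))] [IsProper (X ↘ (Spec (CommRingCat.of k)))]
    (L : X.Modules) (hL : PicF.IsInvertible L) :
    CohB1.IsAmple L ↔
      ((∀ C : X.IdealSheafData, IsIntegral C.subscheme →
          topologicalKrullDim (C.support : Set X) = 1 →
            0 < Curv2.euler k X (CohB1.tensorMod (ClSub.quotMod C) L) - Curv2.euler k X (ClSub.quotMod C)) ∧
        ∃ m : ℕ, Curv2.IsGloballyGenerated (CohB1.tensorPow L (m + 1))) := by
  constructor
  · intro h
    refine ⟨fun C hC hdim => ?_, Groth.Agent.H5.IntN.exists_gg_tensorPow_of_isAmple k L h⟩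
    exact Groth.Agent.H5.IntN.euler_tensor_sub_pos_of_isAmple k L h (ClSub.quotMod C)
      (Groth.Agent.LD.QC.isCoh_quotMod C) (by rw [Groth.Agent.LD.QC.support_quotMod]; exact hdim)
  · rintro ⟨hnef, m, hgg⟩
    exact Groth.Agent.H5.IntN.isAmple_of_strictlyNef_of_gg k L hL hnef m hgg

end Groth.Agent.S16710
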