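import Groth.Statements.S16718
import Mathlib
import Groth.Agent.Lib.Helper9.Comod

set_option autoImplicit false
universe u v w
open TensorProduct
open GLin

namespace Groth.Agent.S16718

/-- Let k be a field, A a finitely generated commutative Hopf algebra over k (an affine algebraic group
G), R a finitely generated commutative k-algebra carrying an A-comodule structure whose coaction is
an algebra homomorphism (an action of G on X = Spec R), and I an ideal of R which is a subcomodule
(a G-invariant closed subscheme Z of X). Then there is a finite-dimensional subcomodule W of R with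
W ⊆ I generating I as an ideal; equivalently there is a G-equivariant morphism f from X to the
affine space of a finite-dimensional G-representation with f⁻¹(0) = Z as closed subschemes. -/
theorem result (k : Type u) [Field k]
    (A : Type v) [CommRing A] [HopfAlgebra k A] (hA : Algebra.FiniteType k A)
    (R : Type w) [CommRing R] [Algebra k R] [HopfRep.Comod k A R] [GLin.IsCoactAlg k A R]
    (hR : Algebra.FiniteType k R) (I : Ideal R)
    (hI : HopfRep.IsSubcomod (k := k) (A := A) (I.restrictScalars k)) :
    ∃ W : Submodule k R, Module.Finite k W ∧ HopfRep.IsSubcomod (k := k) (A := A) W ∧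
      W ≤ I.restrictScalars k ∧ Ideal.span (W : Set R) = I := by
  haveI : IsNoetherianRing R := Algebra.FiniteType.isNoetherianRing k R
  obtain ⟨s, hs⟩ := (isNoetherianRing_iff_ideal_fg R).mp inferInstance I
  set W := Groth.Agent.H9.Comod.gen A (Submodule.span k (s : Set R)) with hW
  have hsI : Submodule.span k (s : Set R) ≤ I.restrictScalars k := by
    apply Submodule.span_le.mpr
    intro x hx
    show x ∈ I
    rw [← hs]
    exact Ideal.subset_span hx
  have hWI : W ≤ I.restrictScalars k := Groth.Agent.H9.Comod.gen_le hI hsI
  refine ⟨W, ?_, Groth.Agent.H9.Comod.isSubcomod_gen _, hWI, ?_⟩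
  · exact Module.Finite.iff_fg.mpr (Groth.Agent.H9.Comod.fg_gen _ (⟨s, rfl⟩ : (Submodule.span k (s : Set R)).FG))
  · apply le_antisymm
    · apply Ideal.span_le.mpr
      intro x hx
      exact hWI hx
    · rw [← hs]
      apply Ideal.span_mono
      intro x hx
      exact Groth.Agent.H9.Comod.le_gen _ (Submodule.subset_span hx)

end Groth.Agent.S16718
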