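import Groth.Statements.S16737
import Mathlib
-- import your own Groth.Agent.* helpers here

set_option autoImplicit false
universe u v
open DeRham

namespace Groth.Agent.S16737

/-- The case of affine space over an affine base of characteristic p, in degree zero. Let p be a prime
and R a commutative ring with p = 0 in R. For a polynomial f over R in any set of variables t_i, the
Kähler differential df in Ω_{R[t]/R} vanishes if and only if f is a polynomial in the p-th powers of
the variables, f = g(t_i^p). Equivalently, the functions on affine space over R killed by the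
differential of the de Rham complex are exactly the functions on its Frobenius twist. (The published
computation is for finitely many variables over a noetherian base of characteristic p; the statement
here allows any commutative ring with p = 0 and any set of variables.) -/
theorem result (p : ℕ) [Fact p.Prime]
    (R : Type u) [CommRing R] [CharP R p] (σ : Type v) (f : MvPolynomial σ R) :
    KaehlerDifferential.D R (MvPolynomial σ R) f = 0 ↔
      ∃ g : MvPolynomial σ R, f = MvPolynomial.expand p g := by
  classical
  have hp : p.Prime := Fact.out
  have hunit : ∀ n : ℕ, ¬ p ∣ n → IsUnit ((n : ℕ) : R) := by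
    intro n hn
    have h1 : ((n : ℕ) : ZMod p) ≠ 0 := by
      rw [Ne, ZMod.natCast_eq_zero_iff]
      exact hn
    have h2 : IsUnit ((n : ℕ) : ZMod p) := IsUnit.mk0 _ h1
    have h3 := h2.map (ZMod.castHom (dvd_refl p) R)
    simpa using h3
  have hD : KaehlerDifferential.D R (MvPolynomial σ R) f = 0 ↔ ∀ i, MvPolynomial.pderiv i f = 0 := by
    constructor
    · intro h i
      rw [← KaehlerDifferential.mvPolynomialBasis_repr_apply, h, map_zero]
      rfl
    · intro h
      apply (KaehlerDifferential.mvPolynomialBasis R σ).repr.injective
      ext i : 1
      rw [KaehlerDifferential.mvPolynomialBasis_repr_apply, h i, map_zero]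
      rfl
  rw [hD]
  constructor
  · intro h
    have hdiv : ∀ m ∈ f.support, ∀ i, p ∣ m i := by
      intro m hm i
      by_contra hnd
      have hmi : m i ≠ 0 := by
        intro h0; apply hnd; rw [h0]; exact dvd_zero p
      have hle : Finsupp.single i 1 ≤ m := by
        rw [Finsupp.single_le_iff]
        omega
      have hm' : (m - Finsupp.single i 1) + Finsupp.single i 1 = m := tsub_add_cancel_of_le hle
      have h1 := MvPolynomial.coeff_pderiv (i := i) f (m - Finsupp.single i 1)
      rw [h i, MvPolynomial.coeff_zero, hm'] at h1
      have h2 : (((m - Finsupp.single i 1 : σ →₀ ℕ) i : ℕ) : R) + 1 = ((m i : ℕ) : R) := by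
        have : (m - Finsupp.single i 1 : σ →₀ ℕ) i + 1 = m i := by
          rw [Finsupp.tsub_apply, Finsupp.single_eq_same]; omega
        rw [← this]; push_cast; ring
      rw [h2] at h1
      have h3 := (hunit (m i) hnd).mul_left_eq_zero.mp h1.symm
      exact (MvPolynomial.mem_support_iff.mp hm) h3
    refine ⟨∑ m ∈ f.support, MvPolynomial.monomial (m.mapRange (· / p) (Nat.zero_div p)) (f.coeff m), ?_⟩
    rw [map_sum]
    conv_lhs => rw [f.as_sum]
    refine Finset.sum_congr rfl fun m hm => ?_
    rw [MvPolynomial.expand_monomial]
    have hmm : p • (m.mapRange (· / p) (Nat.zero_div p)) = m := by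
      ext i
      rw [Finsupp.smul_apply, Finsupp.mapRange_apply, smul_eq_mul]
      exact Nat.mul_div_cancel' (hdiv m hm i)
    rw [hmm]
  · rintro ⟨g, rfl⟩ i
    ext m
    rw [MvPolynomial.coeff_pderiv, MvPolynomial.coeff_zero]
    by_cases hd : p ∣ m i + 1
    · have : ((m i : R) + 1) = ((m i + 1 : ℕ) : R) := by push_cast; ring
      rw [this, (CharP.cast_eq_zero_iff R p _).mpr hd, mul_zero]
    · rw [MvPolynomial.coeff_expand_of_not_dvd (i := i) g (by simpa using hd), zero_mul]

end Groth.Agent.S16737
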