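import Groth.Statements.S16742
import Groth.Agent.Lib.Helper1.FlatNilpotent

set_option autoImplicit false
universe u
open CAlg

namespace Groth.Agent.S16742

/-- The equivalence in affine form, with flatness of the reduction in place of smoothness. Let p be a
prime, A~ a commutative ring flat over Z/p^2 and B~ an A~-algebra such that B~/pB~ is flat over
A~/pA~. Then B~ is flat over A~ if and only if every element of B~ killed by p is a multiple of p;
equivalently multiplication by p identifies B~/pB~ with pB~. (The published statement assumes the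
reduction smooth over A~/pA~ and the schemes noetherian, and phrases (b) as B~ being a lifting, that
is flat over A~; the statement here assumes only that the reduction is flat, where the equivalence
still holds by the local flatness criterion for the square-zero ideal generated by p.) -/
theorem result (p : ℕ) [Fact p.Prime]
    (Al : Type u) [CommRing Al] [Algebra (ZMod (p ^ 2)) Al] [Module.Flat (ZMod (p ^ 2)) Al]
    (Bl : Type u) [CommRing Bl] [Algebra Al Bl]
    (hB : Module.Flat (Al ⧸ Ideal.span {(p : Al)})
      (Bl ⧸ (Ideal.span {(p : Al)}).map (algebraMap Al Bl))) :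
    Module.Flat Al Bl ↔ ∀ b : Bl, (p : Bl) * b = 0 → b ∈ Ideal.span {(p : Bl)} := by
  constructor
  · intro hflat b hb
    let _ : Algebra (ZMod (p ^ 2)) Bl := ((algebraMap Al Bl).comp (algebraMap (ZMod (p ^ 2)) Al)).toAlgebra
    have : IsScalarTower (ZMod (p ^ 2)) Al Bl := IsScalarTower.of_algebraMap_eq (fun _ => rfl)
    have : Module.Flat (ZMod (p ^ 2)) Bl := Module.Flat.trans (ZMod (p ^ 2)) Al Bl
    let R := ZMod (p ^ 2)
    let μ : R →ₗ[R] R := (p : R) • LinearMap.id
    have hex : Function.Exact μ μ := by
      intro x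
      constructor
      · intro hx
        have hx' : (p : R) * x = 0 := hx
        obtain ⟨n, rfl⟩ : ∃ n : ℕ, (n : R) = x := ⟨x.val, ZMod.natCast_zmod_val x⟩
        rw [← Nat.cast_mul, ZMod.natCast_eq_zero_iff, pow_two] at hx'
        have hdvd : p ∣ n := Nat.dvd_of_mul_dvd_mul_left (Fact.out : p.Prime).pos hx'
        obtain ⟨m, rfl⟩ := hdvd
        exact ⟨(m : R), (Nat.cast_mul p m).symm⟩
      · rintro ⟨y, rfl⟩
        show (p : R) * ((p : R) * y) = 0
        rw [← mul_assoc, ← pow_two, ← Nat.cast_pow, ZMod.natCast_self, zero_mul]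
    have hex2 := Module.Flat.lTensor_exact Bl hex
    have hμ : μ.lTensor Bl = (p : R) • LinearMap.id := by
      simp only [μ, LinearMap.lTensor_smul, LinearMap.lTensor_id]
    rw [hμ] at hex2
    have hb' : ((p : R) • LinearMap.id : TensorProduct R Bl R →ₗ[R] TensorProduct R Bl R) ((TensorProduct.rid R Bl).symm b) = 0 := by
      rw [LinearMap.smul_apply, LinearMap.id_apply, ← map_smul, Algebra.smul_def, map_natCast, hb, map_zero]
    obtain ⟨w, hw⟩ := (hex2 _).1 hb'
    have := congrArg (TensorProduct.rid R Bl) hw
    rw [LinearEquiv.apply_symm_apply, LinearMap.smul_apply, LinearMap.id_apply, map_smul, Algebra.smul_def,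
      map_natCast] at this
    rw [Ideal.mem_span_singleton]
    exact ⟨_, this.symm⟩
  · intro h
    set J : Ideal Al := Ideal.span {(p : Al)} with hJ
    have hJnil : IsNilpotent J := by
      refine ⟨2, ?_⟩
      rw [hJ, Ideal.span_singleton_pow, ← Nat.cast_pow]
      have : ((p ^ 2 : ℕ) : Al) = 0 := by
        rw [← map_natCast (algebraMap (ZMod (p ^ 2)) Al), ZMod.natCast_self, map_zero]
      rw [this, Ideal.span_singleton_zero]; rfl
    have hp2 : (p : Al) * (p : Al) = 0 := by
      rw [← Nat.cast_mul, ← pow_two, ← map_natCast (algebraMap (ZMod (p ^ 2)) Al), ZMod.natCast_self, map_zero]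
    have : Module.Flat (Al ⧸ J) (TensorProduct Al (Al ⧸ J) Bl) :=
      Module.Flat.of_linearEquiv (Algebra.TensorProduct.quotIdealMapEquivQuotTensor Bl J).symm.toLinearEquiv
    apply Groth.Agent.H1.flat_of_isNilpotent_of_flat_quotient J hJnil
    have hpJ : (p : Al) ∈ J := Ideal.mem_span_singleton_self _
    have hform : ∀ x : TensorProduct Al J Bl, ∃ b : Bl, x = TensorProduct.tmul Al (⟨(p : Al), hpJ⟩ : J) b := by
      intro x
      induction x using TensorProduct.induction_on with
      | zero => exact ⟨0, (TensorProduct.tmul_zero _ _).symm⟩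
      | tmul j b =>
        obtain ⟨a, ha⟩ := Ideal.mem_span_singleton'.1 j.2
        refine ⟨a • b, ?_⟩
        rw [← TensorProduct.smul_tmul]
        congr 1
        ext
        simp [← ha]
      | add x y hx hy =>
        obtain ⟨b, rfl⟩ := hx
        obtain ⟨b', rfl⟩ := hy
        exact ⟨b + b', (TensorProduct.tmul_add _ _ _).symm⟩
    rw [injective_iff_map_eq_zero]
    intro x hx
    obtain ⟨b, rfl⟩ := hform x
    have h1 := congrArg (TensorProduct.lid Al Bl) hx
    rw [LinearMap.rTensor_tmul, map_zero, Submodule.subtype_apply, TensorProduct.lid_tmul,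
      Algebra.smul_def, map_natCast] at h1
    obtain ⟨c, rfl⟩ := Ideal.mem_span_singleton'.1 (h b h1)
    have : c * (p : Bl) = (p : Al) • c := by
      rw [Algebra.smul_def, map_natCast, mul_comm]
    rw [this, ← TensorProduct.smul_tmul]
    have : (p : Al) • (⟨(p : Al), hpJ⟩ : J) = 0 := by
      ext
      simpa using hp2
    rw [this, TensorProduct.zero_tmul]

end Groth.Agent.S16742
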