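import Groth.Statements.S16758
import Groth.Agent.Lib.Helper2.UbcD

set_option autoImplicit false
universe u
open PicF

namespace Groth.Agent.S16758

open AlgebraicGeometry CategoryTheory CategoryTheory.Limits in
/-- (2) ⇔ (3): let f : X → Y be proper and flat with Y locally Noetherian. Then dim_{κ(y)} H⁰(X_y,
O_{X_y}) = 1 for every point y of Y if and only if for every morphism T → Y the base change f_T : X
×_Y T → T induces isomorphisms O_T(U) → O_{X ×_Y T}(f_T⁻¹ U) on all opens U of T, i.e. O_T = (f_T)_*
O universally. (The published statement takes X and Y Noetherian; the argument is local on Y, so Y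
is only assumed locally Noetherian here.) -/
theorem result {X Y : Scheme.{u}} (f : X ⟶ Y)
    [IsProper f] [Flat f] [IsLocallyNoetherian Y] :
    (∀ y : Y, Module.finrank (Y.residueField y) Γ(f.fiber y, ⊤) = 1) ↔
      ∀ (T : Scheme.{u}) (g : T ⟶ Y) (U : T.Opens), IsIso ((pullback.snd f g).app U) := by
  constructor
  · intro h T g U
    have h0 : ∀ y : Y, Function.Bijective (algebraMap (Y.residueField y) Γ(f.fiber y, ⊤)) := by
      intro y
      haveI : Module.Finite (Y.residueField y) Γ(f.fiber y, ⊤) :=
        Module.finite_of_finrank_pos (by rw [h y]; exact Nat.one_pos)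
      exact Groth.Agent.H2.EtH0.bijective_algebraMap_of_finrank_eq_one _ _ (h y)
    refine Groth.Agent.H1.isIso_app_of_isBasis (pullback.snd f g)
      (fun i : {W : T.Opens // IsAffineOpen W ∧ ∃ V : Y.Opens, IsAffineOpen V ∧ W ≤ g ⁻¹ᵁ V} =>
        i.1) ?_ (fun i => ?_) U
    · rw [TopologicalSpace.Opens.isBasis_iff_nbhd]
      intro U' x hx
      obtain ⟨V, hV, hxV, -⟩ := exists_isAffineOpen_mem_and_subset (x := g x) (U := ⊤) trivial
      obtain ⟨W, hW, hxW, hWU⟩ := exists_isAffineOpen_mem_and_subset (x := x)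
        (U := U' ⊓ g ⁻¹ᵁ V) ⟨hx, hxV⟩
      exact ⟨W, ⟨⟨W, hW, V, hV, hWU.trans inf_le_right⟩, rfl⟩, hxW, hWU.trans inf_le_left⟩
    · obtain ⟨hW, V, hV, hWV⟩ := i.2
      exact Groth.Agent.H2.Ubc.isIso_snd_app_of_affine f g h0 V hV i.1 hW hWV
  · intro h y
    have hiso := h (Spec (Y.residueField y)) (Y.fromSpecResidueField y) ⊤
    have hb1 : Function.Bijective ((f.fiberToSpecResidueField y).appTop).hom :=
      ConcreteCategory.bijective_of_isIso ((pullback.snd f (Y.fromSpecResidueField y)).app ⊤)
    have hb2 : Function.Bijective ((Scheme.ΓSpecIso (Y.residueField y)).inv).hom :=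
      ConcreteCategory.bijective_of_isIso (Scheme.ΓSpecIso (Y.residueField y)).inv
    have hb : Function.Bijective (algebraMap (Y.residueField y) Γ(f.fiber y, ⊤)) :=
      hb1.comp hb2
    exact (LinearEquiv.ofBijective (Algebra.linearMap (Y.residueField y) Γ(f.fiber y, ⊤))
      hb).finrank_eq.symm.trans (Module.finrank_self _)

end Groth.Agent.S16758
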