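import Groth.Statements.S16759
import Groth.Agent.Lib.Helper2.SeeI

set_option autoImplicit false
universe u
open PicF

namespace Groth.Agent.S16759

open AlgebraicGeometry CategoryTheory CategoryTheory.Limits in
/-- Let f : X → Y be proper and flat with Y locally Noetherian and reduced, assume dim_{κ(y)} H⁰(X_y,
O_{X_y}) = 1 for every y, and let L be an invertible O_X-module. Then L ≅ f^*M for some invertible
O_Y-module M if and only if L|_{X_y} ≅ O_{X_y} for every point y of Y; moreover, when this holds,
f_*L is invertible and the counit f^*f_*L → L of the pullback–pushforward adjunction is an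
isomorphism (so one may take M = f_*L). (The published statement takes X and Y Noetherian; only
local Noetherianity of Y is used.) -/
theorem result {X Y : Scheme.{u}} (f : X ⟶ Y)
    [IsProper f] [Flat f] [IsLocallyNoetherian Y] [IsReduced Y]
    (h0 : ∀ y : Y, Module.finrank (Y.residueField y) Γ(f.fiber y, ⊤) = 1)
    (L : X.Modules) (hL : PicF.IsInvertible L) :
    ((∃ M : Y.Modules, PicF.IsInvertible M ∧ Nonempty ((Scheme.Modules.pullback f).obj M ≅ L)) ↔
        ∀ y : Y, Nonempty (CohIII.fiberMod f L y ≅ Coh.structureModule (f.fiber y))) ∧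
      ((∀ y : Y, Nonempty (CohIII.fiberMod f L y ≅ Coh.structureModule (f.fiber y))) →
        PicF.IsInvertible ((Scheme.Modules.pushforward f).obj L) ∧
          IsIso ((Scheme.Modules.pullbackPushforwardAdjunction f).counit.app L)) := by
  have h0' : ∀ y : Y, Function.Bijective (algebraMap (Y.residueField y) Γ(f.fiber y, ⊤)) := by
    intro y
    haveI : Module.Finite (Y.residueField y) Γ(f.fiber y, ⊤) :=
      Module.finite_of_finrank_pos (by rw [h0 y]; exact Nat.one_pos)
    exact Groth.Agent.H2.EtH0.bijective_algebraMap_of_finrank_eq_one _ _ (h0 y)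
  have main := fun htriv =>
    Groth.Agent.H2.See.isInvertible_pushforward_and_isIso_counit f h0' L hL htriv
  refine ⟨⟨?_, fun htriv => ?_⟩, main⟩
  · rintro ⟨M, hM, ⟨φ⟩⟩ y
    have hN : PicF.IsInvertible ((Scheme.Modules.pullback (Y.fromSpecResidueField y)).obj M) :=
      Groth.Agent.LD.QC.isInvertible_pullback (Y.fromSpecResidueField y) hM
    obtain ⟨U, e, hU, he⟩ := (Groth.Agent.LD.QC.isInvertible_iff_exists_isBasisOver _).1 hN
      (IsLocalRing.closedPoint (Y.residueField y))
    have hUtop : U = ⊤ := by
      ext x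
      have hx : x = IsLocalRing.closedPoint (Y.residueField y) := Subsingleton.elim _ _
      simp only [SetLike.mem_coe, TopologicalSpace.Opens.coe_top, Set.mem_univ, iff_true]
      rw [hx]
      exact hU
    subst hUtop
    haveI : IsIso (Groth.Agent.LD.QC.homOfSection _ e) :=
      Groth.Agent.LD.QC.isIso_of_forall_isBasisOver _ (fun x =>
        ⟨⊤, (1 : Γ(Spec (Y.residueField y), ⊤)), trivial, Groth.Agent.LD.QC.isBasisOver_one ⊤, by
          rw [Groth.Agent.LD.QC.homOfSection_app_one, Groth.Agent.LD.QC.res_self]; exact he⟩)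
    let ψ := asIso (Groth.Agent.LD.QC.homOfSection _ e)
    exact ⟨(Scheme.Modules.pullback (f.fiberι y)).mapIso φ.symm ≪≫
      (Scheme.Modules.pullbackComp (f.fiberι y) f).app M ≪≫
      (Scheme.Modules.pullbackCongr (pullback.condition :
        f.fiberι y ≫ f = f.fiberToSpecResidueField y ≫ Y.fromSpecResidueField y)).app M ≪≫
      ((Scheme.Modules.pullbackComp (f.fiberToSpecResidueField y)
        (Y.fromSpecResidueField y)).app M).symm ≪≫
      (Scheme.Modules.pullback (f.fiberToSpecResidueField y)).mapIso ψ.symm ≪≫
      Groth.Agent.LD.QC.pullbackUnitIso (f.fiberToSpecResidueField y)⟩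
  · obtain ⟨hM, hiso⟩ := main htriv
    haveI := hiso
    exact ⟨_, hM, ⟨asIso ((Scheme.Modules.pullbackPushforwardAdjunction f).counit.app L)⟩⟩

end Groth.Agent.S16759
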