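import Groth.Statements.S16762
import Mathlib
import Groth.Prelude.Def_CAlgX

set_option autoImplicit false
universe u
open CAlgX

namespace Groth.Agent.S16762

open TensorProduct



/-- Let A → A' be faithfully flat and u : M → N a map of A-modules. Then u is universally injective (u ⊗
id_Q injective for every A-module Q) if and only if its base change A' ⊗_A M → A' ⊗_A N is
universally injective as a map of A'-modules. -/
theorem result (A A' : Type u) [CommRing A] [CommRing A']
    [Algebra A A'] [Module.FaithfullyFlat A A'] {M N : Type u} [AddCommGroup M] [Module A M]
    [AddCommGroup N] [Module A N] (u : M →ₗ[A] N) :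
    CAlgX.UniversallyInjective A u ↔ CAlgX.UniversallyInjective A' (u.baseChange A') := by
  constructor
  · intro h Q' _ _
    let _ : Module A Q' := Module.compHom Q' (algebraMap A A')
    have : IsScalarTower A A' Q' := IsScalarTower.of_algebraMap_smul fun r x => rfl
    -- isos
    let eM : (A' ⊗[A] M) ⊗[A'] Q' ≃ₗ[A'] Q' ⊗[A] M :=
      (TensorProduct.comm A' _ _) ≪≫ₗ AlgebraTensorModule.cancelBaseChange A A' A' Q' M
    let eN : (A' ⊗[A] N) ⊗[A'] Q' ≃ₗ[A'] Q' ⊗[A] N :=
      (TensorProduct.comm A' _ _) ≪≫ₗ AlgebraTensorModule.cancelBaseChange A A' A' Q' N
    have hG : Function.Injective (u.lTensor Q') := by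
      have h1 := h Q'
      have : u.lTensor Q' = (TensorProduct.comm A N Q').toLinearMap ∘ₗ u.rTensor Q' ∘ₗ
          (TensorProduct.comm A Q' M).toLinearMap := by
        apply TensorProduct.ext'
        intro q m
        simp
      rw [this]
      exact (TensorProduct.comm A N Q').injective.comp (h1.comp (TensorProduct.comm A Q' M).injective)
    have hcomm : ∀ t, eN ((u.baseChange A').rTensor Q' t) = u.lTensor Q' (eM t) := by
      intro t
      induction t with
      | zero => simp
      | add x y hx hy => simp only [map_add, hx, hy]
      | tmul x q =>
        induction x with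
        | zero => simp
        | add x y hx hy =>
          simp only [TensorProduct.add_tmul, map_add, hx, hy]
        | tmul a m =>
          simp [eM, eN]
    intro x y hxy
    apply eM.injective
    apply hG
    rw [← hcomm, ← hcomm, hxy]
  · intro h Q _ _
    rw [← Module.FaithfullyFlat.lTensor_injective_iff_injective A A']
    have h1 := h (A' ⊗[A] Q)
    let eM := AlgebraTensorModule.distribBaseChange A A' M Q
    let eN := AlgebraTensorModule.distribBaseChange A A' N Q
    have hcomm : ∀ t, eN ((u.rTensor Q).lTensor A' t) = (u.baseChange A').rTensor (A' ⊗[A] Q) (eM t) := by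
      intro t
      induction t with
      | zero => simp
      | add x y hx hy => simp only [map_add, hx, hy]
      | tmul a x =>
        induction x with
        | zero => simp
        | add x y hx hy =>
          simp only [TensorProduct.tmul_add, map_add, hx, hy]
        | tmul m q =>
          simp [eM, eN]
    intro x y hxy
    apply eM.injective
    apply h1
    rw [← hcomm, ← hcomm, hxy]


end Groth.Agent.S16762
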