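import Groth.Statements.S16770
import Mathlib
import Groth.Agent.H4.HomF

set_option autoImplicit false
open CategoryTheory MonoidalCategory CartesianMonoidalCategory MonObj GrpObj AlgebraicGeometry
universe u
open SGA3x

namespace Groth.Agent.S16770

/-- For X finite, flat and of finite presentation over a scheme S and Y affine of finite presentation
over S, the functor T ↦ Hom_S(X ×_S T, Y) on S-schemes is representable by an S-scheme which is
affine and of finite presentation over S (products are fibre products over S, written with the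
cartesian monoidal structure of S-schemes). -/
theorem result {S : Scheme.{u}} (X Y : Over S)
    (hXf : IsFinite X.hom) (hXfl : Flat X.hom) (hXfp : LocallyOfFinitePresentation X.hom)
    (hYa : IsAffineHom Y.hom) (hYfp : LocallyOfFinitePresentation Y.hom) :
    ∃ (M : Over S) (ev : X ⊗ M ⟶ Y), IsAffineHom M.hom ∧ LocallyOfFinitePresentation M.hom ∧
      ∀ (T : Over S) (φ : X ⊗ T ⟶ Y), ∃! v : T ⟶ M, (X ◁ v) ≫ ev = φ := by
  classical
  obtain ⟨M, hMa, hMfp, ⟨R⟩⟩ := Groth.Agent.H4.HomF.main_global X.hom Y.hom ⟨hXf, hXfl, hXfp⟩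
  let τ : ∀ T : Over S, X ⊗ T ≅ (Over.map X.hom).obj ((Over.pullback X.hom).obj T) := fun T =>
    Over.isoMk (Limits.pullbackSymmetry X.hom T.hom) (by simp)
  have hτ : ∀ {T T' : Over S} (v : T ⟶ T'), (X ◁ v) ≫ (τ T').hom =
      (τ T).hom ≫ (Over.map X.hom).map ((Over.pullback X.hom).map v) := by
    intro T T' v
    ext
    apply Limits.pullback.hom_ext
    · simp [τ]
      erw [Limits.pullback.lift_fst]
      simp
    · simp [τ]
      erw [Limits.pullback.lift_snd]
      simp
  let u : (Over.map X.hom).obj ((Over.pullback X.hom).obj M) ⟶ Y := R.homEquiv (𝟙 M)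
  have hu : ∀ {T : Over S} (v : T ⟶ M), (R.homEquiv v : (Over.map X.hom).obj ((Over.pullback X.hom).obj T) ⟶ Y) =
      (Over.map X.hom).map ((Over.pullback X.hom).map v) ≫ u := by
    intro T v
    have := R.homEquiv_comp v (𝟙 M)
    rw [Category.comp_id] at this
    exact this
  refine ⟨M, (τ M).hom ≫ u, hMa, hMfp hYfp, fun T φ => ?_⟩
  refine ⟨R.homEquiv.symm ((τ T).inv ≫ φ), ?_, ?_⟩
  · show (X ◁ _) ≫ (τ M).hom ≫ u = φ
    rw [← Category.assoc, hτ, Category.assoc, ← hu, Equiv.apply_symm_apply, Iso.hom_inv_id_assoc]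
  · intro v' hv'
    apply R.homEquiv.injective
    rw [Equiv.apply_symm_apply]
    refine (hu v').trans ?_
    rw [← hv', ← Category.assoc (X ◁ v'), hτ, Category.assoc, Iso.inv_hom_id_assoc]

end Groth.Agent.S16770
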