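import Groth.Statements.S16771
import Mathlib
import Groth.Agent.H4.WRk

set_option autoImplicit false
open CategoryTheory MonoidalCategory CartesianMonoidalCategory MonObj GrpObj AlgebraicGeometry
universe u
open SGA3x

namespace Groth.Agent.S16771

/-- Let G be an affine group scheme of finite presentation over a scheme S, Y ⊆ G a closed subscheme
which is finite, flat and of finite presentation over S, and Y' ⊆ G a closed subscheme of finite
presentation over S. Then the transporter of Y into Y' (points g of G such that g y g⁻¹ is a point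
of Y' for every point y of Y after any base change) is representable by a closed subscheme of G of
finite presentation over S. -/
theorem result {S : Scheme.{u}} (G Y Y' : Over S) [GrpObj G]
    (hGa : IsAffineHom G.hom) (hGfp : LocallyOfFinitePresentation G.hom)
    (y : Y ⟶ G) (hy : IsClosedImmersion y.left) (hYf : IsFinite Y.hom) (hYfl : Flat Y.hom)
    (hYfp : LocallyOfFinitePresentation Y.hom)
    (y' : Y' ⟶ G) (hy' : IsClosedImmersion y'.left) (hY'fp : LocallyOfFinitePresentation Y'.hom) :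
    ∃ (C : Over S) (c : C ⟶ G), IsClosedImmersion c.left ∧ LocallyOfFinitePresentation C.hom ∧
      ∀ (X : Over S) (g : X ⟶ G), (∃ z : X ⟶ C, z ≫ c = g) ↔
        ∀ (X' : Over S) (x : X' ⟶ X) (a : X' ⟶ Y), ∃ a' : X' ⟶ Y', (x ≫ g) * (a ≫ y) * (x ≫ g)⁻¹ = a' ≫ y' := by
  haveI : IsAffineHom G.hom := hGa
  haveI : LocallyOfFinitePresentation G.hom := hGfp
  haveI := hYf
  haveI := hYfl
  haveI := hYfp
  haveI : IsClosedImmersion y'.left := hy'
  haveI : LocallyOfFinitePresentation (y'.left ≫ G.hom) := by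
    rw [Over.w y']
    exact hY'fp
  haveI : LocallyOfFinitePresentation y'.left :=
    Groth.Agent.H4.WRj.lfp_of_comp_lft y'.left G.hom
  obtain ⟨m, hm⟩ : ∃ m : Y ⊗ G ⟶ G, m = (snd Y G * (fst Y G ≫ y)) * (snd Y G)⁻¹ := ⟨_, rfl⟩
  have hw : ∀ ⦃T'' : Scheme.{u}⦄ (s : T'' ⟶ (Y ⊗ G).left),
      (∃ l : T'' ⟶ Limits.pullback y'.left m.left, l ≫ Limits.pullback.snd y'.left m.left = s) ↔
        ∃ a : T'' ⟶ Y'.left, a ≫ y'.left = s ≫ m.left := by
    intro T'' s
    constructor
    · rintro ⟨l, hl⟩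
      exact ⟨l ≫ Limits.pullback.fst _ _, by
        rw [Category.assoc, Limits.pullback.condition, ← Category.assoc, hl]⟩
    · rintro ⟨a, ha⟩
      exact ⟨Limits.pullback.lift a s ha, Limits.pullback.lift_snd _ _ _⟩
  obtain ⟨Z₀, c₀, hc₀, hZ, hfp⟩ := Groth.Agent.H4.WRj.weil_rep_lfp (snd Y G).left
    (Limits.pullback.snd y'.left m.left) (by
      intro g
      have h3 : IsPullback (fst Y G).left (snd Y G).left Y.hom G.hom :=
        IsPullback.of_hasPullback Y.hom G.hom
      exact Groth.Agent.H4.WRk.loc_model_finite_flat Y.hom G.hom _ _ h3 g)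
  haveI := hfp
  refine ⟨Over.mk (c₀ ≫ G.hom), Over.homMk c₀ rfl, hc₀, ?_, ?_⟩
  · show LocallyOfFinitePresentation (c₀ ≫ G.hom)
    infer_instance
  intro X g
  rw [Groth.Agent.H4.WRe.over_rep c₀ g, ← hZ g.left,
    ← Groth.Agent.H4.WRj.factor_iff_predW m y' _ hw g]
  have key : ∀ (X' : Over S) (x : X' ⟶ X) (a : X' ⟶ Y),
      lift a (x ≫ g) ≫ m = (x ≫ g) * (a ≫ y) * (x ≫ g)⁻¹ := by
    intro X' x a
    rw [hm, MonObj.comp_mul, MonObj.comp_mul, GrpObj.comp_inv, lift_snd, ← Category.assoc,
      lift_fst]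
  exact forall_congr' fun X' => forall_congr' fun x => forall_congr' fun a => by rw [key X' x a]

end Groth.Agent.S16771
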