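import Groth.Statements.S16772
import Mathlib
import Groth.Agent.H4.WRk

set_option autoImplicit false
open CategoryTheory MonoidalCategory CartesianMonoidalCategory MonObj GrpObj AlgebraicGeometry
universe u
open SGA3x

namespace Groth.Agent.S16772

/-- Let G be an affine group scheme of finite presentation over a scheme S and Y ⊆ G a closed subscheme
which is finite, flat and of finite presentation over S. Then the centralizer of Y in G (points of G
commuting with every point of Y after any base change) is representable by a closed subscheme of G. -/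
theorem result {S : Scheme.{u}} (G Y : Over S) [GrpObj G]
    (hGa : IsAffineHom G.hom) (hGfp : LocallyOfFinitePresentation G.hom)
    (y : Y ⟶ G) (hy : IsClosedImmersion y.left) (hYf : IsFinite Y.hom) (hYfl : Flat Y.hom)
    (hYfp : LocallyOfFinitePresentation Y.hom) :
    ∃ (C : Over S) (c : C ⟶ G), IsClosedImmersion c.left ∧
      ∀ (X : Over S) (g : X ⟶ G), (∃ z : X ⟶ C, z ≫ c = g) ↔
        ∀ (X' : Over S) (x : X' ⟶ X) (a : X' ⟶ Y), (x ≫ g) * (a ≫ y) = (a ≫ y) * (x ≫ g) := by
  haveI : IsAffineHom G.hom := hGa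
  haveI : IsSeparated G.hom := inferInstance
  haveI := hYf
  haveI := hYfl
  haveI := hYfp
  have hW : IsClosedImmersion
      (Limits.equalizer.ι (snd Y G * (fst Y G ≫ y)) ((fst Y G ≫ y) * snd Y G)).left :=
    inferInstance
  have hw : ∀ ⦃T'' : Scheme.{u}⦄ (s : T'' ⟶ (Y ⊗ G).left),
      (∃ l : T'' ⟶ (Limits.equalizer (snd Y G * (fst Y G ≫ y)) ((fst Y G ≫ y) * snd Y G)).left,
        l ≫ (Limits.equalizer.ι (snd Y G * (fst Y G ≫ y)) ((fst Y G ≫ y) * snd Y G)).left = s) ↔
        s ≫ (snd Y G * (fst Y G ≫ y)).left = s ≫ ((fst Y G ≫ y) * snd Y G).left :=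
    fun T'' s => Groth.Agent.H4.WRd.over_eq_factor_iff _ _ s
  obtain ⟨Z₀, c₀, hc₀, hZ⟩ := Groth.Agent.H4.WRc.weil_rep (snd Y G).left
    (Limits.equalizer.ι (snd Y G * (fst Y G ≫ y)) ((fst Y G ≫ y) * snd Y G)).left (by
      intro g
      have h3 : IsPullback (fst Y G).left (snd Y G).left Y.hom G.hom :=
        IsPullback.of_hasPullback Y.hom G.hom
      exact Groth.Agent.H4.WRk.loc_model_finite_flat Y.hom G.hom _ _ h3 g)
  refine ⟨Over.mk (c₀ ≫ G.hom), Over.homMk c₀ rfl, hc₀, ?_⟩
  intro X g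
  rw [Groth.Agent.H4.WRe.over_rep c₀ g, ← hZ g.left,
    ← Groth.Agent.H4.WRe.eq_iff_predW (snd Y G * (fst Y G ≫ y)) ((fst Y G ≫ y) * snd Y G) _ hw g]
  have key : ∀ (X' : Over S) (x : X' ⟶ X) (a : X' ⟶ Y),
      (lift a (x ≫ g) ≫ (snd Y G * (fst Y G ≫ y)) =
        lift a (x ≫ g) ≫ ((fst Y G ≫ y) * snd Y G)) ↔
      ((x ≫ g) * (a ≫ y) = (a ≫ y) * (x ≫ g)) := by
    intro X' x a
    rw [MonObj.comp_mul, MonObj.comp_mul, lift_snd, ← Category.assoc, lift_fst]
  exact forall_congr' fun X' => forall_congr' fun x => forall_congr' fun a => key X' x a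

end Groth.Agent.S16772
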