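import Groth.Statements.S16777
import Mathlib
import Groth.Agent.H4.WRj
import Groth.Agent.H4.WRg

set_option autoImplicit false
open CategoryTheory MonoidalCategory CartesianMonoidalCategory MonObj GrpObj AlgebraicGeometry
universe u
open SGA3x

namespace Groth.Agent.S16777

/-- Let G be an affine group scheme of finite presentation over a scheme S, H ⊆ G a subgroup scheme of
multiplicative type (of finite type) and Y' ⊆ G any closed subscheme of finite presentation over S.
Then the transporter of H into Y' (points g with g h g⁻¹ in Y' for all points h of H after any base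
change) is representable by a closed subscheme of G of finite presentation over S. -/
theorem result {S : Scheme.{u}} (G H Y' : Over S) [GrpObj G] [GrpObj H]
    (hGa : IsAffineHom G.hom) (hGfp : LocallyOfFinitePresentation G.hom)
    (i : H ⟶ G) [IsMonHom i] [Mono i] (hH : SGA3x.IsMultTypeFT H)
    (y' : Y' ⟶ G) (hy' : IsClosedImmersion y'.left) (hY'fp : LocallyOfFinitePresentation Y'.hom) :
    ∃ (C : Over S) (c : C ⟶ G), IsClosedImmersion c.left ∧ LocallyOfFinitePresentation C.hom ∧
      ∀ (X : Over S) (g : X ⟶ G), (∃ z : X ⟶ C, z ≫ c = g) ↔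
        ∀ (X' : Over S) (x : X' ⟶ X) (h : X' ⟶ H), ∃ a' : X' ⟶ Y', (x ≫ g) * (h ≫ i) * (x ≫ g)⁻¹ = a' ≫ y' := by
  obtain ⟨S', f, hflat, hsurj, hqc, htriv⟩ := hH
  have hcov : Groth.Agent.H3.FpqcCov.Cov f :=
    Groth.Agent.H3.FpqcCov.cov_of_cond f hsurj hflat hqc
  haveI : IsAffineHom G.hom := hGa
  haveI : LocallyOfFinitePresentation G.hom := hGfp
  haveI : IsClosedImmersion y'.left := hy'
  haveI : LocallyOfFinitePresentation (y'.left ≫ G.hom) := by
    rw [Over.w y']
    exact hY'fp
  haveI : LocallyOfFinitePresentation y'.left :=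
    Groth.Agent.H4.WRj.lfp_of_comp_lft y'.left G.hom
  obtain ⟨m, hm⟩ : ∃ m : H ⊗ G ⟶ G, m = (snd H G * (fst H G ≫ i)) * (snd H G)⁻¹ := ⟨_, rfl⟩
  have hw : ∀ ⦃T'' : Scheme.{u}⦄ (s : T'' ⟶ (H ⊗ G).left),
      (∃ l : T'' ⟶ Limits.pullback y'.left m.left, l ≫ Limits.pullback.snd y'.left m.left = s) ↔
        ∃ a : T'' ⟶ Y'.left, a ≫ y'.left = s ≫ m.left := by
    intro T'' s
    constructor
    · rintro ⟨l, hl⟩
      exact ⟨l ≫ Limits.pullback.fst _ _, by
        rw [Category.assoc, Limits.pullback.condition, ← Category.assoc, hl]⟩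
    · rintro ⟨a, ha⟩
      exact ⟨Limits.pullback.lift a s ha, Limits.pullback.lift_snd _ _ _⟩
  have hpr : Groth.Agent.H3.FpqcCov.Cov (Limits.pullback.fst G.hom f) :=
    MorphismProperty.pullback_fst G.hom f hcov
  have hpb1 : IsPullback (Limits.pullback.fst (snd H G).left (Limits.pullback.fst G.hom f))
      (Limits.pullback.snd (snd H G).left (Limits.pullback.fst G.hom f)) (snd H G).left
      (Limits.pullback.fst G.hom f) := IsPullback.of_hasPullback _ _
  have hpb2 := IsPullback.of_hasPullback (Limits.pullback.snd y'.left m.left)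
    (Limits.pullback.fst (snd H G).left (Limits.pullback.fst G.hom f))
  obtain ⟨Z', c', hc', hZ', hfp'⟩ := Groth.Agent.H4.WRj.weil_rep_lfp
    (Limits.pullback.snd (snd H G).left (Limits.pullback.fst G.hom f))
    (Limits.pullback.snd (Limits.pullback.snd y'.left m.left)
      (Limits.pullback.fst (snd H G).left (Limits.pullback.fst G.hom f))) (by
      intro y
      obtain ⟨U, hyU, M, _, hfg, ⟨e'⟩⟩ := htriv ((Limits.pullback.snd G.hom f) y)
      have h3 : IsPullback (fst H G).left (snd H G).left H.hom G.hom :=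
        IsPullback.of_hasPullback H.hom G.hom
      have hP := hpb1.paste_horiz h3
      rw [Limits.pullback.condition (f := G.hom) (g := f)] at hP
      have h1 : e'.hom.hom.hom.left ≫ e'.inv.hom.hom.left = 𝟙 _ :=
        congrArg (fun m => Over.Hom.left m) (Groth.Agent.H3.HomDiag.grp_hom_inv e')
      have h2 : e'.inv.hom.hom.left ≫ e'.hom.hom.hom.left = 𝟙 _ :=
        congrArg (fun m => Over.Hom.left m) (Groth.Agent.H3.HomDiag.grp_inv_hom e')
      exact Groth.Agent.H4.WRg.loc_model_diag H.hom f (Limits.pullback.snd G.hom f) _ _ hP U M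
        ⟨e'.hom.hom.hom.left, e'.inv.hom.hom.left, h1, h2⟩ (Over.w e'.hom.hom.hom) y hyU)
  obtain ⟨Z₀, c₀, hc₀, hZ, hfp⟩ := Groth.Agent.H4.WRj.glue_rep_lfp
    (X := fun _ : PUnit.{u + 1} => Limits.pullback G.hom f) (fun _ => Limits.pullback.fst G.hom f)
    (by rw [Groth.Agent.H3.FpqcCov.ofArrows_const]; exact hpr)
    (Groth.Agent.H4.WRb.predW_isLocal (snd H G).left (Limits.pullback.snd y'.left m.left))
    (fun _ => Z') (fun _ => c') (fun _ => hc')
    (fun _ T x => by rw [Groth.Agent.H4.WRb.predW_baseChange hpb1 hpb2]; exact hZ' x)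
    (fun _ => hfp')
  haveI := hfp
  refine ⟨Over.mk (c₀ ≫ G.hom), Over.homMk c₀ rfl, hc₀, ?_, ?_⟩
  · show LocallyOfFinitePresentation (c₀ ≫ G.hom)
    infer_instance
  intro X g
  rw [Groth.Agent.H4.WRe.over_rep c₀ g, ← hZ g.left,
    ← Groth.Agent.H4.WRj.factor_iff_predW m y' _ hw g]
  have key : ∀ (X' : Over S) (x : X' ⟶ X) (h : X' ⟶ H),
      lift h (x ≫ g) ≫ m = (x ≫ g) * (h ≫ i) * (x ≫ g)⁻¹ := by
    intro X' x h
    rw [hm, MonObj.comp_mul, MonObj.comp_mul, GrpObj.comp_inv, lift_snd, ← Category.assoc,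
      lift_fst]
  exact forall_congr' fun X' => forall_congr' fun x => forall_congr' fun h => by rw [key X' x h]

end Groth.Agent.S16777
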