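import Groth.Statements.S16815
import Groth.Agent.Lib.Helper3.ResGerbIsoB

set_option autoImplicit false
universe u
open CategoryTheory AlgebraicGeometry
open Gerb

namespace Groth.Agent.S16815

/-- Let f : 𝒳 → 𝒴 be a morphism of algebraic stacks, x a point of 𝒳 with image y, with residual gerbes
𝒵_x and 𝒵_y. Suppose some morphism p from the spectrum of a field k to 𝒳, representing x, makes the
comparison map from Spec k ×_𝒳 Spec k to Spec k ×_𝒴 Spec k an isomorphism. Then the induced 𝒵_x →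
𝒵_y is an isomorphism (an equivalence). -/
theorem result
    (S : Scheme.{u}) (𝒳 𝒴 : AlgSt.Cat S) (h𝒳 : AlgSt.IsAlgStack Scheme.fppfPrecoverage 𝒳) (h𝒴 : AlgSt.IsAlgStack Scheme.fppfPrecoverage 𝒴)
    (f : 𝒳 ⥤ᵇ 𝒴) (x : AlgSt.Points 𝒳)
    (Q : 𝒳.obj → Prop) (hQ : Gerb.IsResGerbe Scheme.fppfPrecoverage 𝒳 x Q)
    (Q' : 𝒴.obj → Prop) (hQ' : Gerb.IsResGerbe Scheme.fppfPrecoverage 𝒴 (AlgSt.Points.map f x) Q')
    (k : Type u) [Field k] (a : Spec (CommRingCat.of k) ⟶ S)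
    (p : FibCat.overCat (Over.mk a) ⥤ᵇ 𝒳)
    (hp : ∀ t : ↥(Over.mk a).left, AlgSt.Points.ofChart p t = x)
    (e : BasedFunctor.comp (FibCat.fpFst p p) (BasedFunctor.comp p f) ≅
      BasedFunctor.comp (FibCat.fpSnd p p) (BasedFunctor.comp p f))
    (he : ∀ c, e.hom.toNatTrans.app c = f.map c.obj.iso.hom)
    (hiso : FibCat.IsEquivOver (FibCat.fpLift (FibCat.fpFst p p) (FibCat.fpSnd p p) e)) :
    ∃ g : AlgSt.fullSub 𝒳 Q ⥤ᵇ AlgSt.fullSub 𝒴 Q',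
      Nonempty (BasedFunctor.comp g (AlgSt.subIncl 𝒴 Q') ≅ BasedFunctor.comp (AlgSt.subIncl 𝒳 Q) f) ∧
      FibCat.IsEquivOver g := by
  have hallp := Groth.Agent.H3.ResGerbFactor.main h𝒳 x Q hQ k a p hp
  obtain ⟨p₀, hp₀⟩ : ∃ p₀ : FibCat.overCat (Over.mk a) ⥤ᵇ AlgSt.fullSub 𝒳 Q,
      BasedFunctor.comp p₀ (AlgSt.subIncl 𝒳 Q) = p :=
    ⟨Groth.Agent.H3.OpenSub.liftSub Q p hallp, Groth.Agent.H3.OpenSub.liftSub_comp Q p hallp⟩
  subst hp₀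
  have hall := Groth.Agent.H3.ResGerbFunct.main h𝒴 f x Q hQ Q' hQ'
  exact ⟨Groth.Agent.H3.OpenSub.liftSub Q' (BasedFunctor.comp (AlgSt.subIncl 𝒳 Q) f) hall,
    ⟨eqToIso (Groth.Agent.H3.OpenSub.liftSub_comp Q' (BasedFunctor.comp (AlgSt.subIncl 𝒳 Q) f) hall)⟩,
    Groth.Agent.H3.ResGerbIso.main f Q h𝒴 x hQ Q' hQ' k a p₀ e he hiso hall⟩

end Groth.Agent.S16815
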