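import Groth.Statements.S16826
import Groth.Agent.Lib.Helper3.QDiag.Quot

set_option autoImplicit false
universe u
open AlgSt

namespace Groth.Agent.S16826

open CategoryTheory AlgebraicGeometry in
/-- Let S be a scheme, G a group scheme over S whose structure morphism G → S is smooth and affine, and
X a scheme over S with an action of G. Then the quotient stack [X/G] over (Sch/S), whose objects
over T are the G-torsors P → T locally trivial for the etale topology together with an equivariant
morphism P → X, is an algebraic stack for the big etale topology, and the canonical functor (Sch/X)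
→ [X/G] (sending x : T → X to the trivial torsor with the orbit map of x) is representable by
algebraic spaces, smooth, surjective and affine. The source allows X to be an algebraic space; X is
a scheme here. -/
theorem result (S : Scheme.{u}) (G : Over S) [GrpObj G]
    (hGs : Smooth G.hom) (hGa : IsAffineHom G.hom) (X : Over S) (aX : AlgGrp.Action G X) :
    AlgSt.IsAlgStack Scheme.etalePrecoverage (AlgSt.QuotSt Scheme.etalePrecoverage G aX) ∧
      AlgSt.RepByAlgSpWith (AlgSp.LocP @Smooth)
        (BasedFunctor.comp (AlgSt.ofOverCat X) (AlgSt.quotMap Scheme.etalePrecoverage G aX)) ∧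
      AlgSt.RepByAlgSpWith AlgSp.IsSurjectiveMor
        (BasedFunctor.comp (AlgSt.ofOverCat X) (AlgSt.quotMap Scheme.etalePrecoverage G aX)) ∧
      AlgSt.RepByAlgSpWith AlgSp.IsAffineMor
        (BasedFunctor.comp (AlgSt.ofOverCat X) (AlgSt.quotMap Scheme.etalePrecoverage G aX)) := by
  haveI := hGa
  haveI := Groth.Agent.H3.QDiag.etale_bc.{u}
  haveI := Groth.Agent.H3.QDiag.etale_comp.{u}
  have hE : (@Etale : MorphismProperty Scheme.{u}) ≤ @Smooth := fun _ _ f hf => by
    haveI := hf
    infer_instance
  have hsm : AlgSt.RepByAlgSpWith (AlgSp.LocP @Smooth)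
      (Groth.Agent.H4.QstE.ff Scheme.etalePrecoverage aX) :=
    Groth.Agent.H3.AlgStDiagLft.repByAlgSpWith_mono
      (fun _ _ _ ha => Groth.Agent.H5.AlgSp.locP_of_repWith hE ha)
      (Groth.Agent.H3.QDiag.repByAlgSpWith_ff (aX := aX) @Smooth hGs)
  have hsurj : AlgSt.RepByAlgSpWith AlgSp.IsSurjectiveMor
      (Groth.Agent.H4.QstE.ff Scheme.etalePrecoverage aX) := Groth.Agent.H3.QDiag.surj_ff
  have haff : AlgSt.RepByAlgSpWith AlgSp.IsAffineMor
      (Groth.Agent.H4.QstE.ff Scheme.etalePrecoverage aX) :=
    (Groth.Agent.H3.AlgStAffine.rep_isAffineMor_iff _).2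
      (Groth.Agent.H3.QDiag.repByAlgSpWith_ff (aX := aX) @IsAffineHom hGa)
  refine ⟨⟨?_, ?_, ?_⟩, hsm, hsurj, haff⟩
  · exact Groth.Agent.H3.QStk.isStack_of_small
      Groth.Agent.H3.LocSec.etalePrecoverage_le_fpqcPrecoverage
      (fun V R₀ h => Groth.Agent.H3.QStk.small_precoverage _ V R₀ h)
  · exact Groth.Agent.H3.QDiag.repByAlgSp1_diag
      (Groth.Agent.H4.QstE.ff Scheme.etalePrecoverage aX)
      Groth.Agent.H3.QDiag.isPrestack_quot Groth.Agent.H3.QDiag.repByAlgSp1_ff
      Groth.Agent.H3.QDiag.locFac_ff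
  · exact ⟨X, Groth.Agent.H4.QstE.ff Scheme.etalePrecoverage aX, hsm, hsurj⟩

end Groth.Agent.S16826
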