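import Groth.Statements.S1684
import Mathlib

set_option autoImplicit false
universe u
open CategoryTheory CategoryTheory.Limits AlgebraicGeometry TopologicalSpace
open SDiv

namespace Groth.Agent.S1684

namespace H1.S1684aux

/-- Finite families of "local" multipliers can be merged. -/
theorem exists_common_mul {T : Type*} [CommRing T] (q : Ideal T) [q.IsPrime] (J : Ideal T)
    (hJ : J.FG) (P : T → T → Prop) (hP : ∀ g g' t, P g t → P (g' * g) t)
    (hadd : ∀ g t t', P g t → P g t' → P g (t + t')) (hsmul : ∀ g c t, P g t → P g (c * t))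
    (hzero : ∀ g, P g 0)
    (h : ∀ t ∈ J, ∃ g, g ∉ q ∧ P g t) : ∃ g, g ∉ q ∧ ∀ t ∈ J, P g t := by
  obtain ⟨S, rfl⟩ := hJ
  classical
  have key : ∀ S' : Finset T, S' ⊆ S → ∃ g, g ∉ q ∧ ∀ t ∈ S', P g t := by
    intro S'
    induction S' using Finset.induction_on with
    | empty => intro _; exact ⟨1, fun h => (Ideal.IsPrime.ne_top ‹_›) ((Ideal.eq_top_iff_one _).mpr h), by simp⟩
    | insert a S' ha ih =>
      intro hS
      obtain ⟨g, hg, hgS⟩ := ih ((Finset.subset_insert a S').trans hS)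
      obtain ⟨g', hg', hga⟩ := h a (Ideal.subset_span (hS (Finset.mem_insert_self a S')))
      refine ⟨g' * g, fun hmem => ?_, ?_⟩
      · rcases Ideal.IsPrime.mem_or_mem ‹_› hmem with h1 | h1
        · exact hg' h1
        · exact hg h1
      · intro t ht
        rcases Finset.mem_insert.mp ht with rfl | ht
        · rw [mul_comm]; exact hP _ _ _ hga
        · exact hP _ _ _ (hgS t ht)
  obtain ⟨g, hg, hgS⟩ := key S (Finset.Subset.refl S)
  refine ⟨g, hg, fun t ht => ?_⟩
  induction ht using Submodule.span_induction with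
  | mem x hx => exact hgS x hx
  | zero => exact hzero g
  | add x y _ _ hx hy => exact hadd _ _ _ hx hy
  | smul c x _ hx => exact hsmul _ _ _ hx

theorem exists_data {T : Type*} [CommRing T] [IsNoetherianRing T] (q : Ideal T) [q.IsPrime]
    (B : Type*) [CommRing B] [Algebra T B] [IsLocalization.AtPrime B q] (I : Ideal T)
    (π : B) (hπ : π ∈ nonZeroDivisors B) (hI : I.map (algebraMap T B) = Ideal.span {π}) :
    ∃ g, g ∉ q ∧ ∃ t0 ∈ I, (∀ t ∈ I, ∃ c, g * t = c * t0) ∧ (∀ a, a * t0 = 0 → g * a = 0) := by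
  have hπmem : π ∈ I.map (algebraMap T B) := by rw [hI]; exact Ideal.mem_span_singleton_self π
  rw [IsLocalization.mem_map_algebraMap_iff q.primeCompl] at hπmem
  obtain ⟨⟨⟨t0, ht0⟩, s0⟩, hts⟩ := hπmem
  have hs0 : IsUnit (algebraMap T B s0) := IsLocalization.map_units B s0
  have ht0reg : algebraMap T B t0 ∈ nonZeroDivisors B := by
    have : algebraMap T B t0 = π * algebraMap T B s0 := hts.symm
    rw [this]
    exact mul_mem hπ hs0.mem_nonZeroDivisors
  have hspan : Ideal.span {π} = Ideal.span {algebraMap T B t0} := by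
    have : algebraMap T B t0 = π * algebraMap T B s0 := hts.symm
    rw [this]
    exact (Ideal.span_singleton_mul_right_unit hs0 π).symm
  -- first multiplier
  obtain ⟨g₁, hg₁, hg₁I⟩ := exists_common_mul q I (IsNoetherian.noetherian I)
    (fun g t => ∃ c, g * t = c * t0)
    (fun g g' t ⟨c, hc⟩ => ⟨g' * c, by rw [mul_assoc, hc, mul_assoc]⟩)
    (fun g t t' ⟨c, hc⟩ ⟨c', hc'⟩ => ⟨c + c', by rw [mul_add, hc, hc', add_mul]⟩)
    (fun g c t ⟨c', hc'⟩ => ⟨c * c', by rw [mul_left_comm, hc', mul_assoc]⟩)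
    (fun g => ⟨0, by simp⟩)
    (by
      intro t ht
      have h1 : algebraMap T B t ∈ Ideal.span {algebraMap T B t0} := by
        rw [← hspan, ← hI]; exact Ideal.mem_map_of_mem _ ht
      obtain ⟨β, hβ⟩ := Ideal.mem_span_singleton'.mp h1
      obtain ⟨⟨c, s⟩, hcs⟩ := IsLocalization.surj q.primeCompl β
      have h2 : algebraMap T B (s * t) = algebraMap T B (c * t0) := by
        rw [map_mul, map_mul, ← hβ, ← hcs]; ring
      obtain ⟨u, hu⟩ := (IsLocalization.eq_iff_exists q.primeCompl B).mp h2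
      refine ⟨u * s, fun hmem => ?_, u * c, by rw [mul_assoc, hu, mul_assoc]⟩
      rcases Ideal.IsPrime.mem_or_mem ‹_› hmem with h | h
      · exact u.2 h
      · exact s.2 h)
  -- second multiplier
  let A : Ideal T := (Ideal.span {t0}).annihilator
  have hA : ∀ a, a ∈ A ↔ a * t0 = 0 := fun a => Submodule.mem_annihilator_span_singleton _ _
  obtain ⟨g₂, hg₂, hg₂A⟩ := exists_common_mul q A (IsNoetherian.noetherian A)
    (fun g a => g * a = 0)
    (fun g g' a h => by rw [mul_assoc, h, mul_zero])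
    (fun g a a' h h' => by rw [mul_add, h, h', add_zero])
    (fun g c a h => by rw [mul_left_comm, h, mul_zero])
    (fun g => mul_zero g)
    (by
      intro a ha
      rw [hA] at ha
      have h1 : algebraMap T B a * algebraMap T B t0 = 0 := by rw [← map_mul, ha, map_zero]
      have h2 : algebraMap T B a = 0 := (mem_nonZeroDivisors_iff_right.mp ht0reg) _ h1
      rw [IsLocalization.map_eq_zero_iff q.primeCompl] at h2
      obtain ⟨u, hu⟩ := h2
      exact ⟨u, u.2, hu⟩)
  refine ⟨g₂ * g₁, fun hmem => ?_, t0, ht0, fun t ht => ?_, fun a ha => ?_⟩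
  · rcases Ideal.IsPrime.mem_or_mem ‹_› hmem with h | h
    · exact hg₂ h
    · exact hg₁ h
  · obtain ⟨c, hc⟩ := hg₁I t ht
    exact ⟨g₂ * c, by rw [mul_assoc, hc, mul_assoc]⟩
  · have := hg₂A a ((hA a).mpr ha)
    rw [mul_right_comm, this, zero_mul]

/-- Consequence in a localization `Tg` of `T` away from `g`. -/
theorem away_of_data {T : Type*} [CommRing T] (I : Ideal T) (g t0 : T) (ht0 : t0 ∈ I)
    (h1 : ∀ t ∈ I, ∃ c, g * t = c * t0) (h2 : ∀ a, a * t0 = 0 → g * a = 0)
    (Tg : Type*) [CommRing Tg] [Algebra T Tg] [IsLocalization.Away g Tg] :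
    algebraMap T Tg t0 ∈ nonZeroDivisors Tg ∧
      I.map (algebraMap T Tg) = Ideal.span {algebraMap T Tg t0} := by
  have hgu : IsUnit (algebraMap T Tg g) := IsLocalization.Away.algebraMap_isUnit g
  constructor
  · rw [mem_nonZeroDivisors_iff_right]
    intro y hy
    obtain ⟨⟨a, s⟩, has⟩ := IsLocalization.surj (Submonoid.powers g) y
    have hsu : IsUnit (algebraMap T Tg s) := IsLocalization.map_units Tg s
    have h3 : algebraMap T Tg (a * t0) = 0 := by
      rw [map_mul, ← has, mul_right_comm, hy, zero_mul]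
    rw [IsLocalization.map_eq_zero_iff (Submonoid.powers g)] at h3
    obtain ⟨⟨_, n, rfl⟩, hu⟩ := h3
    have h4 : g * (g ^ n * a) = 0 := h2 _ (by rw [mul_assoc]; exact hu)
    have h5 : algebraMap T Tg a = 0 := by
      have : algebraMap T Tg g * ((algebraMap T Tg g) ^ n * algebraMap T Tg a) = 0 := by
        rw [← map_pow, ← map_mul, ← map_mul, h4, map_zero]
      have h6 := (hgu.mul_right_eq_zero).mp this
      exact ((hgu.pow n).mul_right_eq_zero).mp h6
    have : y * algebraMap T Tg s = 0 := by rw [has, h5]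
    exact (hsu.mul_left_eq_zero).mp this
  · apply le_antisymm
    · rw [Ideal.map_le_iff_le_comap]
      intro t ht
      obtain ⟨c, hc⟩ := h1 t ht
      rw [Ideal.mem_comap]
      have : algebraMap T Tg g * algebraMap T Tg t ∈ Ideal.span {algebraMap T Tg t0} := by
        rw [← map_mul, hc, map_mul]
        exact Ideal.mul_mem_left _ _ (Ideal.mem_span_singleton_self _)
      exact (Ideal.unit_mul_mem_iff_mem _ hgu).mp this
    · rw [Ideal.span_singleton_le_iff_mem]
      exact Ideal.mem_map_of_mem _ ht0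


/-- Outside the support the ideal sheaf is locally the unit ideal. -/
theorem cartier_of_not_mem_support {X : Scheme.{u}} (𝓘 : X.IdealSheafData) (x : X)
    (hx : x ∉ 𝓘.support) :
    ∃ U : X.affineOpens, x ∈ U.1 ∧
      ∃ f : Γ(X, U.1), f ∈ nonZeroDivisors Γ(X, U.1) ∧ 𝓘.ideal U = Ideal.span {f} := by
  obtain ⟨_, ⟨U, hU : IsAffineOpen U, rfl⟩, hxU, -⟩ :=
    X.isBasis_affineOpens.exists_subset_of_mem_open (Set.mem_univ x) isOpen_univ
  rw [Scheme.IdealSheafData.mem_support_iff_of_mem (U := ⟨U, hU⟩) hxU, Scheme.mem_zeroLocus_iff] at hx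
  push Not at hx
  obtain ⟨f, hf, hxf⟩ := hx
  refine ⟨X.affineBasicOpen f, hxf, 1, one_mem _, ?_⟩
  rw [Ideal.span_singleton_one, ← 𝓘.map_ideal_basicOpen ⟨U, hU⟩ f]
  refine (Ideal.eq_top_iff_one _).mpr ?_
  have hu : IsUnit ((X.presheaf.map (homOfLE <| X.basicOpen_le f).op).hom f) := by
    letI : Algebra Γ(X, U) Γ(X, X.basicOpen f) :=
      (X.presheaf.map (homOfLE <| X.basicOpen_le f).op).hom.toAlgebra
    haveI : IsLocalization.Away f Γ(X, X.basicOpen f) := hU.isLocalization_basicOpen f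
    exact IsLocalization.Away.algebraMap_isUnit f
  obtain ⟨v, hv⟩ := hu.exists_right_inv
  rw [← hv]
  exact Ideal.mul_mem_right _ _ (Ideal.mem_map_of_mem _ hf)

/-- If the stalk of the ideal at `x` is generated by one nonzerodivisor, the ideal is Cartier near `x`. -/
theorem cartier_of_stalk {X : Scheme.{u}} [IsLocallyNoetherian X] (𝓘 : X.IdealSheafData) (x : X)
    (U : X.affineOpens) (hxU : x ∈ U.1) (π : X.presheaf.stalk x)
    (hπ : π ∈ nonZeroDivisors (X.presheaf.stalk x))
    (hI : (𝓘.ideal U).map (X.presheaf.germ U.1 x hxU).hom = Ideal.span {π}) :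
    ∃ U' : X.affineOpens, x ∈ U'.1 ∧
      ∃ f : Γ(X, U'.1), f ∈ nonZeroDivisors Γ(X, U'.1) ∧ 𝓘.ideal U' = Ideal.span {f} := by
  haveI : IsNoetherianRing Γ(X, U.1) := IsLocallyNoetherian.component_noetherian U
  letI := X.presheaf.algebra_section_stalk ⟨x, hxU⟩
  haveI := U.2.isLocalization_stalk ⟨x, hxU⟩
  obtain ⟨g, hg, t0, ht0, h1, h2⟩ := exists_data (U.2.primeIdealOf ⟨x, hxU⟩).asIdeal
    (X.presheaf.stalk x) (𝓘.ideal U) π hπ hI
  letI : Algebra Γ(X, U.1) Γ(X, (X.affineBasicOpen g).1) :=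
    (X.presheaf.map (homOfLE <| X.basicOpen_le g).op).hom.toAlgebra
  haveI : IsLocalization.Away g Γ(X, (X.affineBasicOpen g).1) := U.2.isLocalization_basicOpen g
  obtain ⟨h3, h4⟩ := away_of_data (𝓘.ideal U) g t0 ht0 h1 h2 Γ(X, (X.affineBasicOpen g).1)
  refine ⟨X.affineBasicOpen g, ?_, _, h3, ?_⟩
  · change x ∈ X.basicOpen g
    rw [Scheme.mem_basicOpen _ _ x hxU]
    exact IsLocalization.map_units (M := (U.2.primeIdealOf ⟨x, hxU⟩).asIdeal.primeCompl)
      (X.presheaf.stalk x) ⟨g, hg⟩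
  · rw [← 𝓘.map_ideal_basicOpen U g]
    exact h4


/-- Membership in the prime of a point of an affine open, via basic opens. -/
theorem mem_primeIdealOf_iff {X : Scheme.{u}} {U : X.Opens} (hU : IsAffineOpen U) (y : X)
    (hy : y ∈ U) (t : Γ(X, U)) :
    t ∈ (hU.primeIdealOf ⟨y, hy⟩).asIdeal ↔ y ∉ X.basicOpen t := by
  letI := X.presheaf.algebra_section_stalk ⟨y, hy⟩
  haveI := hU.isLocalization_stalk ⟨y, hy⟩
  rw [Scheme.mem_basicOpen _ _ y hy]
  have := IsLocalization.AtPrime.isUnit_to_map_iff (X.presheaf.stalk y)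
    (hU.primeIdealOf ⟨y, hy⟩).asIdeal t
  change IsUnit (X.presheaf.germ U y hy t) ↔ _ at this
  rw [this]
  simp

theorem main (X : Scheme.{u}) [IsLocallyNoetherian X] (𝓘 : X.IdealSheafData)
    [IsIntegral 𝓘.subscheme]
    (hcodim : ringKrullDim (X.presheaf.stalk (𝓘.subschemeι (genericPoint ↥𝓘.subscheme))) = 1)
    (hufd : ∀ x : ↥X, x ∈ 𝓘.support → IsDomain (X.presheaf.stalk x) ∧ UniqueFactorizationMonoid (X.presheaf.stalk x)) :
    BlowUp.IsEffCartierIdeal 𝓘 := by
  intro x
  by_cases hx : x ∈ 𝓘.support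
  · obtain ⟨d, rfl⟩ : ∃ d, 𝓘.subschemeι d = x := by
      have : x ∈ Set.range 𝓘.subschemeι := by rw [𝓘.range_subschemeι]; exact hx
      exact this
    obtain ⟨_, ⟨U, hU : IsAffineOpen U, rfl⟩, hxU, -⟩ :=
      X.isBasis_affineOpens.exists_subset_of_mem_open (Set.mem_univ (𝓘.subschemeι d)) isOpen_univ
    set ι := 𝓘.subschemeι with hι
    have hker := 𝓘.ker_subschemeι_app ⟨U, hU⟩
    have hdW : d ∈ ι ⁻¹ᵁ U := hxU
    haveI : Nonempty (ι ⁻¹ᵁ U) := ⟨⟨d, hdW⟩⟩
    have hIprime : (𝓘.ideal ⟨U, hU⟩).IsPrime := by rw [← hker]; exact RingHom.ker_isPrime _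
    -- the generic point
    have hgen : genericPoint 𝓘.subscheme ∈ ι ⁻¹ᵁ U := by
      rw [← SetLike.mem_coe, (genericPoint_spec 𝓘.subscheme).mem_open_set_iff (ι ⁻¹ᵁ U).isOpen]
      exact ⟨d, trivial, hdW⟩
    have hηU : ι (genericPoint 𝓘.subscheme) ∈ U := hgen
    have hzero : ∀ (z : 𝓘.subscheme) (t : Γ(X, U)), t ∈ 𝓘.ideal ⟨U, hU⟩ → ι z ∉ X.basicOpen t := by
      intro z t ht hz
      have h1 : z ∈ ι ⁻¹ᵁ X.basicOpen t := hz
      rw [Scheme.preimage_basicOpen] at h1
      have h2 : ι.app U t = 0 := by rw [← hker] at ht; exact ht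
      rw [h2, Scheme.basicOpen_zero] at h1
      exact h1
    have hprime : (hU.primeIdealOf ⟨ι (genericPoint 𝓘.subscheme), hηU⟩).asIdeal = 𝓘.ideal ⟨U, hU⟩ := by
      ext t
      rw [mem_primeIdealOf_iff]
      constructor
      · intro h
        have h1 : genericPoint 𝓘.subscheme ∉ ι ⁻¹ᵁ X.basicOpen t := h
        rw [Scheme.preimage_basicOpen] at h1
        have h2 : 𝓘.subscheme.basicOpen (ι.app U t) = ⊥ := by
          by_contra hne
          apply h1
          rw [← SetLike.mem_coe, (genericPoint_spec 𝓘.subscheme).mem_open_set_iff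
            (𝓘.subscheme.basicOpen _).isOpen]
          obtain ⟨z, hz⟩ : (𝓘.subscheme.basicOpen (ι.app U t) : Set 𝓘.subscheme).Nonempty := by
            rw [Set.nonempty_iff_ne_empty]
            intro h; apply hne; ext; simp [h]
          exact ⟨z, trivial, hz⟩
        rw [basicOpen_eq_bot_iff] at h2
        rw [← hker]; exact h2
      · intro ht
        exact hzero _ t ht
    have hht : (𝓘.ideal ⟨U, hU⟩).height = 1 := by
      letI := X.presheaf.algebra_section_stalk ⟨ι (genericPoint 𝓘.subscheme), hηU⟩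
      have hloc := hU.isLocalization_stalk ⟨ι (genericPoint 𝓘.subscheme), hηU⟩
      have h1 := @IsLocalization.AtPrime.ringKrullDim_eq_height _ _
        (hU.primeIdealOf ⟨ι (genericPoint 𝓘.subscheme), hηU⟩).asIdeal _
        (X.presheaf.stalk (ι (genericPoint 𝓘.subscheme))) _ _ hloc
      rw [hcodim, hprime] at h1
      exact_mod_cast h1.symm
    have hIq : 𝓘.ideal ⟨U, hU⟩ ≤ (hU.primeIdealOf ⟨ι d, hxU⟩).asIdeal := by
      intro t ht
      rw [mem_primeIdealOf_iff]
      exact hzero d t ht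
    obtain ⟨hdom, hufd'⟩ := hufd (ι d) hx
    letI := X.presheaf.algebra_section_stalk ⟨ι d, hxU⟩
    haveI := hU.isLocalization_stalk ⟨ι d, hxU⟩
    have hdisj : Disjoint ((hU.primeIdealOf ⟨ι d, hxU⟩).asIdeal.primeCompl : Set Γ(X, U))
        (𝓘.ideal ⟨U, hU⟩ : Set Γ(X, U)) := by
      rw [Set.disjoint_left]
      intro t ht1 ht2
      exact ht1 (hIq ht2)
    have hPprime : ((𝓘.ideal ⟨U, hU⟩).map (algebraMap Γ(X, U) (X.presheaf.stalk (ι d)))).IsPrime :=
      IsLocalization.isPrime_of_isPrime_disjoint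
        (hU.primeIdealOf ⟨ι d, hxU⟩).asIdeal.primeCompl _ _ hIprime hdisj
    have hPht : ((𝓘.ideal ⟨U, hU⟩).map (algebraMap Γ(X, U) (X.presheaf.stalk (ι d)))).height = 1 := by
      rw [IsLocalization.height_map_of_disjoint
        (hU.primeIdealOf ⟨ι d, hxU⟩).asIdeal.primeCompl _ hdisj, hht]
    have hPne := Ideal.ne_bot_of_height_eq_one hPht
    obtain ⟨p, hpP, hp⟩ := Ideal.IsPrime.exists_mem_prime_of_ne_bot hPprime hPne
    have hPeq := Ideal.eq_span_singleton_of_height_eq_one hPht hpP hp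
    exact cartier_of_stalk 𝓘 (ι d) ⟨U, hU⟩ hxU p (mem_nonZeroDivisors_of_ne_zero hp.ne_zero) hPeq
  · exact cartier_of_not_mem_support 𝓘 x hx

end H1.S1684aux

/-- Let X be a locally Noetherian scheme and 𝓘 a quasi-coherent ideal sheaf whose closed subscheme D is
integral, of codimension 1 in X (the local ring of X at the generic point of D has dimension 1), and
such that the local ring of X at every point of D is a unique factorisation domain. Then 𝓘 is the
ideal sheaf of an effective Cartier divisor. -/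
theorem result (X : Scheme.{u}) [IsLocallyNoetherian X] (𝓘 : X.IdealSheafData)
    [IsIntegral 𝓘.subscheme]
    (hcodim : ringKrullDim (X.presheaf.stalk (𝓘.subschemeι (genericPoint ↥𝓘.subscheme))) = 1)
    (hufd : ∀ x : ↥X, x ∈ 𝓘.support → IsDomain (X.presheaf.stalk x) ∧ UniqueFactorizationMonoid (X.presheaf.stalk x)) :
    BlowUp.IsEffCartierIdeal 𝓘 := by
  exact H1.S1684aux.main X 𝓘 hcodim hufd

end Groth.Agent.S1684
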