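import Groth.Statements.S1685
import Mathlib
import Groth.Agent.Lib.Helper6.FlatDepth
import Groth.Agent.Lib.Helper6.DepthLocalHom

set_option autoImplicit false
universe u
open CategoryTheory CategoryTheory.Limits AlgebraicGeometry TopologicalSpace
open SDiv

namespace Groth.Agent.S1685

namespace H1.S1685aux

/-- Kernel of the stalk map of the closed subscheme of an ideal sheaf. -/
theorem ker_stalkMap_subschemeι {X : Scheme.{u}} (𝓘 : X.IdealSheafData) (U : X.affineOpens)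
    (d : 𝓘.subscheme) (hd : 𝓘.subschemeι d ∈ U.1) :
    RingHom.ker (𝓘.subschemeι.stalkMap d).hom =
      (𝓘.ideal U).map (X.presheaf.germ U.1 (𝓘.subschemeι d) hd).hom := by
  set ι := 𝓘.subschemeι with hι
  have hW : IsAffineOpen (ι ⁻¹ᵁ U.1) := U.2.preimage ι
  have hdW : d ∈ ι ⁻¹ᵁ U.1 := hd
  letI := X.presheaf.algebra_section_stalk ⟨ι d, hd⟩
  letI := 𝓘.subscheme.presheaf.algebra_section_stalk ⟨d, hdW⟩
  have hB := U.2.isLocalization_stalk ⟨ι d, hd⟩
  have hC := hW.isLocalization_stalk ⟨d, hdW⟩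
  have hgerm : ∀ t : Γ(X, U.1), (ι.stalkMap d).hom (X.presheaf.germ U.1 (ι d) hd t) =
      𝓘.subscheme.presheaf.germ (ι ⁻¹ᵁ U.1) d hdW (ι.app U.1 t) := by
    intro t
    have := Scheme.Hom.germ_stalkMap ι U.1 d hd
    exact congr($(this).hom t)
  apply le_antisymm
  · intro β hβ
    rw [RingHom.mem_ker] at hβ
    obtain ⟨⟨t, s⟩, hts⟩ := IsLocalization.surj (U.2.primeIdealOf ⟨ι d, hd⟩).asIdeal.primeCompl β
    have hs : IsUnit (X.presheaf.germ U.1 (ι d) hd s.1) :=
      IsLocalization.map_units (M := (U.2.primeIdealOf ⟨ι d, hd⟩).asIdeal.primeCompl) _ s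
    have hts' : β * X.presheaf.germ U.1 (ι d) hd s.1 = X.presheaf.germ U.1 (ι d) hd t := hts
    have h1 : 𝓘.subscheme.presheaf.germ (ι ⁻¹ᵁ U.1) d hdW (ι.app U.1 t) = 0 := by
      rw [← hgerm, ← hts', map_mul, hβ, zero_mul]
    have h1' : algebraMap Γ(𝓘.subscheme, ι ⁻¹ᵁ U.1) (𝓘.subscheme.presheaf.stalk d) (ι.app U.1 t) = 0 :=
      h1
    rw [IsLocalization.map_eq_zero_iff (hW.primeIdealOf ⟨d, hdW⟩).asIdeal.primeCompl] at h1'
    obtain ⟨ū, hū⟩ := h1'
    obtain ⟨u, hu⟩ := 𝓘.subschemeι_app_surjective U ū.1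
    have hūunit : IsUnit (𝓘.subscheme.presheaf.germ (ι ⁻¹ᵁ U.1) d hdW ū.1) :=
      IsLocalization.map_units (M := (hW.primeIdealOf ⟨d, hdW⟩).asIdeal.primeCompl) _ ū
    have huunit : IsUnit (X.presheaf.germ U.1 (ι d) hd u) := by
      rw [← hu, ← hgerm] at hūunit
      haveI : IsLocalHom (ι.stalkMap d).hom := ι.toLRSHom.prop d
      exact isUnit_of_map_unit (ι.stalkMap d).hom _ hūunit
    have h2 : u * t ∈ 𝓘.ideal U := by
      rw [← 𝓘.ker_subschemeι_app U, RingHom.mem_ker, map_mul]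
      rw [← hu] at hū
      exact hū
    have h3 : X.presheaf.germ U.1 (ι d) hd (u * t) ∈
        (𝓘.ideal U).map (X.presheaf.germ U.1 (ι d) hd).hom := Ideal.mem_map_of_mem _ h2
    rw [map_mul] at h3
    have h4 := (Ideal.unit_mul_mem_iff_mem _ huunit).mp h3
    rw [← hts'] at h4
    exact (Ideal.mul_unit_mem_iff_mem _ hs).mp h4
  · rw [Ideal.map_le_iff_le_comap]
    intro t ht
    rw [Ideal.mem_comap, RingHom.mem_ker, hgerm]
    have : ι.app U.1 t = 0 := by
      have h := 𝓘.ker_subschemeι_app U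
      rw [← h] at ht
      exact ht
    rw [this, map_zero]


theorem arith (k : ℕ) (dB dC : WithBot ℕ∞) (eB eC : ℕ∞) (hd : dC + 1 = dB) (he : eC + 1 = eB)
    (hne : dC ≠ ⊥) (h : min (k : WithBot ℕ∞) dB ≤ ((eB : ℕ∞) : WithBot ℕ∞)) :
    min ((k - 1 : ℕ) : WithBot ℕ∞) dC ≤ ((eC : ℕ∞) : WithBot ℕ∞) := by
  obtain ⟨n, rfl⟩ := WithBot.ne_bot_iff_exists.mp hne
  subst hd he
  cases k with
  | zero =>
    simp only [Nat.zero_sub, Nat.cast_zero]
    refine (min_le_left _ _).trans ?_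
    exact_mod_cast (zero_le (a := eC))
  | succ k' =>
    simp only [Nat.add_sub_cancel]
    have h' : min ((k' + 1 : ℕ) : ℕ∞) (n + 1) ≤ eC + 1 := by
      have : ((min ((k' + 1 : ℕ) : ℕ∞) (n + 1) : ℕ∞) : WithBot ℕ∞) ≤ ((eC + 1 : ℕ∞) : WithBot ℕ∞) := by
        rw [WithBot.coe_min]
        exact h
      exact_mod_cast this
    have h2 : min (k' : ℕ∞) n + 1 ≤ eC + 1 := by
      have : min (k' : ℕ∞) n + 1 = min ((k' + 1 : ℕ) : ℕ∞) (n + 1) := by
        push_cast
        rw [min_add_add_right]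
      rw [this]; exact h'
    have h3 : min (k' : ℕ∞) n ≤ eC := by
      exact (WithTop.add_le_add_iff_right (ENat.one_ne_top)).mp h2
    have : ((min (k' : ℕ∞) n : ℕ∞) : WithBot ℕ∞) ≤ ((eC : ℕ∞) : WithBot ℕ∞) := by exact_mod_cast h3
    rw [WithBot.coe_min] at this
    exact this

theorem main (X : Scheme.{u}) [IsLocallyNoetherian X] (k : ℕ)
    (hX : ∀ x : ↥X, min (k : WithBot ℕ∞) (ringKrullDim (X.presheaf.stalk x)) ≤
      ((LocCoh.depth (X.presheaf.stalk x) (X.presheaf.stalk x) : ℕ∞) : WithBot ℕ∞))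
    (𝓘 : X.IdealSheafData) (h𝓘 : BlowUp.IsEffCartierIdeal 𝓘) (d : ↥𝓘.subscheme) :
    min ((k - 1 : ℕ) : WithBot ℕ∞) (ringKrullDim (𝓘.subscheme.presheaf.stalk d)) ≤
      ((LocCoh.depth (𝓘.subscheme.presheaf.stalk d) (𝓘.subscheme.presheaf.stalk d) : ℕ∞) : WithBot ℕ∞) := by
  obtain ⟨U, hxU, h0, hreg, hI⟩ := h𝓘 (𝓘.subschemeι d)
  set ι := 𝓘.subschemeι with hι
  have hker := ker_stalkMap_subschemeι 𝓘 U d hxU
  rw [hI, Ideal.map_span, Set.image_singleton] at hker
  set b := (X.presheaf.germ U.1 (ι d) hxU).hom h0 with hb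
  have hbreg : b ∈ nonZeroDivisors (X.presheaf.stalk (ι d)) := by
    letI := X.presheaf.algebra_section_stalk ⟨ι d, hxU⟩
    have hB := U.2.isLocalization_stalk ⟨ι d, hxU⟩
    exact IsLocalization.map_nonZeroDivisors_le
      (U.2.primeIdealOf ⟨ι d, hxU⟩).asIdeal.primeCompl _ ⟨h0, hreg, rfl⟩
  have hbmem : b ∈ IsLocalRing.maximalIdeal (X.presheaf.stalk (ι d)) := by
    rw [IsLocalRing.mem_maximalIdeal, mem_nonunits_iff]
    intro hu
    have h1 : (ι.stalkMap d).hom b = 0 := by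
      have : b ∈ RingHom.ker (ι.stalkMap d).hom := by
        rw [hker]; exact Ideal.mem_span_singleton_self b
      exact this
    have h2 := hu.map (ι.stalkMap d).hom
    rw [h1] at h2
    exact not_isUnit_zero h2
  have hsurj : Function.Surjective (ι.stalkMap d).hom := ι.stalkMap_surjective d
  haveI : IsNoetherianRing (𝓘.subscheme.presheaf.stalk d) :=
    isNoetherianRing_of_surjective _ _ (ι.stalkMap d).hom hsurj
  algebraize [(ι.stalkMap d).hom]
  haveI : IsLocalHom (algebraMap (X.presheaf.stalk (ι d)) (𝓘.subscheme.presheaf.stalk d)) :=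
    ι.toLRSHom.prop d
  haveI : Module.Finite (X.presheaf.stalk (ι d)) (𝓘.subscheme.presheaf.stalk d) :=
    Module.Finite.of_surjective (Algebra.linearMap _ _) hsurj
  have h1 := Groth.Agent.H6.Depth.depth_eq_of_isLocalHom_of_finite (A := X.presheaf.stalk (ι d))
    (B := 𝓘.subscheme.presheaf.stalk d) (𝓘.subscheme.presheaf.stalk d)
  have hreg' : IsSMulRegular (X.presheaf.stalk (ι d)) b := by
    intro y z hyz
    have : (y - z) * b = 0 := by
      simp only [smul_eq_mul] at hyz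
      rw [sub_mul, mul_comm y, mul_comm z, hyz, sub_self]
    exact sub_eq_zero.mp ((mem_nonZeroDivisors_iff_right.mp hbreg) _ this)
  have h2 := Groth.Agent.H6.FlatDepth.idealDepth_step
    (IsLocalRing.maximalIdeal (X.presheaf.stalk (ι d))) (X := X.presheaf.stalk (ι d))
    (X' := 𝓘.subscheme.presheaf.stalk d) b hbmem hreg'
    (Algebra.linearMap _ _) hsurj (by
      intro z
      have : z ∈ RingHom.ker (ι.stalkMap d).hom ↔ z ∈ Ideal.span {b} := by rw [hker]
      rw [RingHom.mem_ker, Ideal.mem_span_singleton'] at this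
      refine this.trans ⟨?_, ?_⟩
      · rintro ⟨w, rfl⟩; exact ⟨w, by rw [smul_eq_mul, mul_comm]⟩
      · rintro ⟨w, rfl⟩; exact ⟨w, by rw [smul_eq_mul, mul_comm]⟩)
  have h3 : ringKrullDim (𝓘.subscheme.presheaf.stalk d) + 1 =
      ringKrullDim (X.presheaf.stalk (ι d)) := by
    rw [← ringKrullDim_quotient_span_singleton_succ_eq_ringKrullDim hreg' hbmem]
    congr 1
    have e := RingHom.quotientKerEquivOfSurjective hsurj
    have e2 := Ideal.quotEquivOfEq hker
    exact (ringKrullDim_eq_of_ringEquiv (e2.symm.trans e)).symm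
  have hne : ringKrullDim (𝓘.subscheme.presheaf.stalk d) ≠ ⊥ := ringKrullDim_ne_bot
  refine arith k _ _ _ _ h3 ?_ hne (hX (ι d))
  change LocCoh.idealDepth _ _ + 1 = LocCoh.idealDepth _ _
  rw [← h2]
  congr 1
  exact h1.symm

end H1.S1685aux

/-- Let X be a locally Noetherian scheme all of whose local rings satisfy Serre's condition (S_k), and
let D be the closed subscheme of an effective Cartier divisor. Then all local rings of D satisfy
(S_{k-1}). -/
theorem result (X : Scheme.{u}) [IsLocallyNoetherian X] (k : ℕ)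
    (hX : ∀ x : ↥X, min (k : WithBot ℕ∞) (ringKrullDim (X.presheaf.stalk x)) ≤
      ((LocCoh.depth (X.presheaf.stalk x) (X.presheaf.stalk x) : ℕ∞) : WithBot ℕ∞))
    (𝓘 : X.IdealSheafData) (h𝓘 : BlowUp.IsEffCartierIdeal 𝓘) (d : ↥𝓘.subscheme) :
    min ((k - 1 : ℕ) : WithBot ℕ∞) (ringKrullDim (𝓘.subscheme.presheaf.stalk d)) ≤
      ((LocCoh.depth (𝓘.subscheme.presheaf.stalk d) (𝓘.subscheme.presheaf.stalk d) : ℕ∞) : WithBot ℕ∞) := by
  exact H1.S1685aux.main X k hX 𝓘 h𝓘 d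

end Groth.Agent.S1685
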