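import Groth.Statements.S16853
import Groth.Agent.Lib.Helper7.SigLinPow
-- import your own Groth.Agent.* helpers here

set_option autoImplicit false
universe u v
open CAlg

namespace Groth.Agent.S16853

/-- Let k be an algebraically closed field of characteristic p > 0 and ν ≥ 1; let V be a
finite-dimensional k-vector space and φ : V → V a bijective additive map that is Frob^ν-semilinear,
φ(a·v) = a^(p^ν)·φ(v). Then V admits a k-basis consisting of φ-fixed vectors; in particular V is
spanned by V₀ = {v | φ(v) = v}, an F_{p^ν}-subspace, and k ⊗ V₀ → V is surjective. (The copy allows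
ν < 0 as well, reducing to φ⁻¹; stated here for ν ≥ 1. The injectivity of k ⊗_{F_{p^ν}} V₀ → V,
asserted in the copy, is not restated.) -/
theorem result (k : Type u) [Field k] [IsAlgClosed k]
    (p : ℕ) [Fact p.Prime] [CharP k p] (ν : ℕ) (hν : 1 ≤ ν)
    (V : Type v) [AddCommGroup V] [Module k V] [FiniteDimensional k V]
    (φ : V →+ V) (hφ : ∀ (a : k) (v : V), φ (a • v) = a ^ (p ^ ν) • φ v) (hbij : Function.Bijective φ) :
    ∃ (ι : Type v) (b : Module.Basis ι k V), ∀ i, φ (b i) = b i := by
  have hq : 2 ≤ p ^ ν := by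
    have hp2 : 2 ≤ p := (Fact.out : p.Prime).two_le
    calc 2 ≤ p := hp2
      _ = p ^ 1 := (pow_one p).symm
      _ ≤ p ^ ν := Nat.pow_le_pow_right (by omega) hν
  have hσ : ∀ x : k, iterateFrobenius k p ν x = x ^ (p ^ ν) := fun x => iterateFrobenius_def p ν x
  let T : V →ₛₗ[iterateFrobenius k p ν] V :=
    { toFun := φ
      map_add' := φ.map_add
      map_smul' := fun a v => by
        change φ (a • v) = iterateFrobenius k p ν a • φ v
        rw [hφ, hσ] }
  have h1 : Submodule.span k (Set.range ⇑T) = ⊤ := by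
    have : Set.range ⇑T = Set.univ := Set.range_eq_univ.2 hbij.2
    rw [this, Submodule.span_univ]
  obtain ⟨⟨b, hb⟩, -⟩ := Groth.Agent.H7.SigLin.exists_fixed_basis T h1
    (Groth.Agent.H7.SigLin.H2_of_pow hq hσ) (Groth.Agent.H7.SigLin.H3_of_pow hq hσ)
  refine ⟨ULift (Fin (Module.finrank k V)), b.reindex Equiv.ulift.symm, fun i => ?_⟩
  rw [Module.Basis.reindex_apply]
  exact hb _

end Groth.Agent.S16853
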