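import Groth.Statements.S1686
import Mathlib

set_option autoImplicit false
universe u
open CategoryTheory CategoryTheory.Limits AlgebraicGeometry TopologicalSpace
open SDiv

namespace Groth.Agent.S1686

namespace H1.S1686aux

/-- Cartier data can be found on arbitrarily small affine neighbourhoods. -/
theorem exists_cartier_le {X : Scheme.{u}} (𝓘 : X.IdealSheafData) (h𝓘 : BlowUp.IsEffCartierIdeal 𝓘)
    (x : X) (W : X.Opens) (hxW : x ∈ W) :
    ∃ U : X.affineOpens, x ∈ U.1 ∧ U.1 ≤ W ∧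
      ∃ f : Γ(X, U.1), f ∈ nonZeroDivisors Γ(X, U.1) ∧ 𝓘.ideal U = Ideal.span {f} := by
  obtain ⟨U, hxU, h0, hreg, hI⟩ := h𝓘 x
  obtain ⟨g, hgW, hxg⟩ := U.2.exists_basicOpen_le ⟨x, hxW⟩ hxU
  refine ⟨X.affineBasicOpen g, hxg, hgW,
    (X.presheaf.map (homOfLE <| X.basicOpen_le g).op).hom h0, ?_, ?_⟩
  · letI : Algebra Γ(X, U.1) Γ(X, (X.affineBasicOpen g).1) :=
      (X.presheaf.map (homOfLE <| X.basicOpen_le g).op).hom.toAlgebra
    haveI : IsLocalization.Away g Γ(X, (X.affineBasicOpen g).1) := U.2.isLocalization_basicOpen g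
    exact IsLocalization.map_nonZeroDivisors_le (Submonoid.powers g) _ ⟨h0, hreg, rfl⟩
  · rw [← 𝓘.map_ideal_basicOpen U g, hI, Ideal.map_span, Set.image_singleton]
    rfl

theorem dim_affineOpen {X : Scheme.{u}} (U : X.Opens) (hU : IsAffineOpen U) :
    topologicalKrullDim (U : Set X) = ringKrullDim Γ(X, U) := by
  rw [← PrimeSpectrum.topologicalKrullDim_eq_ringKrullDim Γ(X, U)]
  change _ = topologicalKrullDim (Spec Γ(X, U))
  exact IsHomeomorph.topologicalKrullDim_eq _ hU.isoSpec.hom.homeomorph.isHomeomorph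


theorem exists_min {X : Type*} [TopologicalSpace X] (x : X) :
    ∃ U : TopologicalSpace.Opens X, x ∈ U ∧ topologicalKrullDim (U : Set X) = FlatMor.localDim X x := by
  unfold FlatMor.localDim
  haveI : Nonempty {U : TopologicalSpace.Opens X // x ∈ U} := ⟨⟨⊤, trivial⟩⟩
  obtain ⟨U, hU⟩ := ciInf_mem (fun U : {U : TopologicalSpace.Opens X // x ∈ U} =>
    topologicalKrullDim (U.1 : Set X))
  exact ⟨U.1, U.2, hU⟩

theorem dim_mono {X : Type*} [TopologicalSpace X] {U V : Set X} (h : U ⊆ V) :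
    topologicalKrullDim U ≤ topologicalKrullDim V :=
  Topology.IsInducing.topologicalKrullDim_le (f := Set.inclusion h)
    (Topology.IsInducing.of_comp (continuous_inclusion h) continuous_subtype_val
      (by
        have : (Subtype.val : V → X) ∘ Set.inclusion h = (Subtype.val : U → X) := rfl
        rw [this]
        exact Topology.IsInducing.subtypeVal))

lemma topologicalKrullDim_nonneg (T : Type*) [TopologicalSpace T] [Nonempty T] :
    0 ≤ topologicalKrullDim T := by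
  obtain ⟨t⟩ := ‹Nonempty T›
  have : Nonempty (IrreducibleCloseds T) :=
    ⟨⟨closure {t}, isIrreducible_singleton.closure, isClosed_closure⟩⟩
  exact Order.krullDim_nonneg

theorem main (S : Scheme.{u}) (𝓘 : S.IdealSheafData) (h𝓘 : BlowUp.IsEffCartierIdeal 𝓘) (d : ↥𝓘.subscheme)
    (hfin : FlatMor.localDim ↥S (𝓘.subschemeι d) ≠ ⊤) :
    FlatMor.localDim ↥𝓘.subscheme d < FlatMor.localDim ↥S (𝓘.subschemeι d) := by
  obtain ⟨U₀, hsU₀, hdim₀⟩ := exists_min (X := S) (𝓘.subschemeι d)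
  obtain ⟨U, hxU, hUU₀, h0, hreg, hI⟩ := exists_cartier_le 𝓘 h𝓘 (𝓘.subschemeι d) U₀ hsU₀
  set ι := 𝓘.subschemeι with hι
  have h1 : topologicalKrullDim (U.1 : Set S) = FlatMor.localDim S (ι d) := by
    apply le_antisymm
    · rw [← hdim₀]; exact dim_mono hUU₀
    · unfold FlatMor.localDim
      exact iInf_le (fun U : {U : TopologicalSpace.Opens S // ι d ∈ U} =>
        topologicalKrullDim (U.1 : Set S)) ⟨U.1, hxU⟩
  have hW : IsAffineOpen (ι ⁻¹ᵁ U.1) := U.2.preimage ι
  have h2 : FlatMor.localDim 𝓘.subscheme d ≤ topologicalKrullDim ((ι ⁻¹ᵁ U.1 : 𝓘.subscheme.Opens) : Set 𝓘.subscheme) := by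
    unfold FlatMor.localDim
    exact iInf_le (fun V : {V : TopologicalSpace.Opens 𝓘.subscheme // d ∈ V} =>
        topologicalKrullDim (V.1 : Set 𝓘.subscheme)) ⟨ι ⁻¹ᵁ U.1, hxU⟩
  have hnn : (0 : WithBot ℕ∞) ≤ topologicalKrullDim ((ι ⁻¹ᵁ U.1 : 𝓘.subscheme.Opens) : Set 𝓘.subscheme) := by
    haveI : Nonempty ((ι ⁻¹ᵁ U.1 : 𝓘.subscheme.Opens) : Set 𝓘.subscheme) := ⟨⟨d, hxU⟩⟩
    exact topologicalKrullDim_nonneg _
  rw [dim_affineOpen _ hW] at h2 hnn
  rw [dim_affineOpen _ U.2] at h1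
  have h3 : ringKrullDim Γ(𝓘.subscheme, ι ⁻¹ᵁ U.1) = ringKrullDim (Γ(S, U.1) ⧸ Ideal.span {h0}) := by
    have e := RingHom.quotientKerEquivOfSurjective (𝓘.subschemeι_app_surjective U)
    have hk : RingHom.ker (𝓘.subschemeι.app U.1).hom = Ideal.span {h0} := by
      rw [𝓘.ker_subschemeι_app U, hI]
    exact (ringKrullDim_eq_of_ringEquiv ((Ideal.quotEquivOfEq hk).symm.trans e)).symm
  have h4 := ringKrullDim_quotient_succ_le_of_nonZeroDivisor hreg
  rw [← h3] at h4
  rw [← h1] at hfin ⊢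
  refine lt_of_le_of_lt h2 ?_
  generalize ringKrullDim Γ(𝓘.subscheme, ι ⁻¹ᵁ U.1) = a at h4 hnn ⊢
  generalize ringKrullDim Γ(S, U.1) = n at h4 hfin ⊢
  cases a with
  | bot => simp at hnn
  | coe a =>
    cases n with
    | bot => simp at h4
    | coe n =>
      have hn : n ≠ ⊤ := fun h => hfin (by rw [h]; rfl)
      have h5 : a + 1 ≤ n := by exact_mod_cast h4
      have : a < n := by
        rcases eq_or_ne a ⊤ with rfl | ha
        · simp at h5; exact absurd h5 hn
        · exact lt_of_lt_of_le (ENat.lt_add_one_iff ha |>.mpr le_rfl) h5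
      exact_mod_cast this

end H1.S1686aux

/-- Let D be the closed subscheme of an effective Cartier divisor on a scheme S and d a point of D with
image s in S. If the local dimension of S at s is finite, then the local dimension of D at d is
strictly smaller. -/
theorem result (S : Scheme.{u}) (𝓘 : S.IdealSheafData) (h𝓘 : BlowUp.IsEffCartierIdeal 𝓘) (d : ↥𝓘.subscheme)
    (hfin : FlatMor.localDim ↥S (𝓘.subschemeι d) ≠ ⊤) :
    FlatMor.localDim ↥𝓘.subscheme d < FlatMor.localDim ↥S (𝓘.subschemeι d) := by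
  exact H1.S1686aux.main S 𝓘 h𝓘 d hfin

end Groth.Agent.S1686
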