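import Groth.Statements.S16909
import Groth.Agent.Lib.Lead.QC.GlobGen

set_option autoImplicit false
universe u
open CategoryTheory CategoryTheory.Limits AlgebraicGeometry
open ResProp

namespace Groth.Agent.S16909

/-- Let `X` be a quasi-compact and quasi-separated scheme on which every quasi-coherent module is
globally generated (a quotient of a free module on some index type, i.e. the structure sheaf is a
generating family). Then `X` is quasi-affine. No separatedness hypothesis is made; it follows. (The
published statement is for an algebraic stack over an algebraic space with affine stabilizer groups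
at closed points and concludes that it is representable by a quasi-affine morphism; that general
case rests on results outside this text, and this row is the final step of its proof, the case of a
scheme.) -/
theorem result (X : Scheme.{u}) [CompactSpace X]
    [QuasiSeparatedSpace X] (h : ∀ M : X.Modules, Coh.IsQCoh M → Curv2.IsGloballyGenerated M) :
    X.IsQuasiAffine := by
  classical
  apply Scheme.IsQuasiAffine.of_forall_exists_mem_basicOpen
  intro x
  obtain ⟨U, hU, hxU, -⟩ := exists_isAffineOpen_mem_and_subset (x := x) (U := ⊤) trivial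
  obtain ⟨I, hIft, hItop, hIle⟩ := LD.QC.exists_ft_ideal U hU
  obtain ⟨K, p, hp⟩ := h (ClSub.idealMod I) (inferInstance : (ClSub.idealMod I).IsQuasicoherent)
  have h1 : (1 : Γ(X, U)) ∈ I.ideal ⟨U, hU⟩ := by rw [hItop ⟨U, hU⟩ le_rfl]; trivial
  obtain ⟨c, hc⟩ := (LD.QC.exists_idealModι_app_eq_iff I ⟨U, hU⟩ _).mpr h1
  obtain ⟨k, hk⟩ := LD.QC.exists_mem_basicOpen_of_epi_free (ClSub.idealModι I) p hp x U hxU c hc
  set σ : LD.QC.unitMod X ⟶ LD.QC.unitMod X :=
    SheafOfModules.ιFree (R := X.ringCatSheaf) k ≫ p ≫ ClSub.idealModι I with hσ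
  set r : Γ(X, ⊤) := LD.QC.sectionOfHom σ with hr
  have hle : X.basicOpen r ≤ U := by
    intro y hy
    by_contra hyU
    obtain ⟨V, hV, hyV, -⟩ := exists_isAffineOpen_mem_and_subset (x := y) (U := ⊤) trivial
    have hmem : X.presheaf.map (homOfLE (le_top : V ≤ ⊤)).op r ∈ I.ideal ⟨V, hV⟩ := by
      refine (LD.QC.exists_idealModι_app_eq_iff I ⟨V, hV⟩ _).mp
        ⟨Scheme.Modules.Hom.app (show LD.QC.unitMod X ⟶ ClSub.idealMod I from
          SheafOfModules.ιFree (R := X.ringCatSheaf) k ≫ p) V (1 : Γ(X, V)), ?_⟩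
      have e1 : X.presheaf.map (homOfLE (le_top : V ≤ ⊤)).op r = SecTwist.val σ V :=
        SecTwist.map_val σ (homOfLE (le_top : V ≤ ⊤))
      rw [e1]
      rfl
    have h2 := LD.QC.notMem_basicOpen_of_mem_vanishingIdeal
      ⟨(U : Set X)ᶜ, U.2.isClosed_compl⟩ ⟨V, hV⟩ _ (hIle ⟨V, hV⟩ hmem) y hyV hyU
    apply h2
    rw [X.basicOpen_res]
    exact ⟨hyV, hy⟩
  refine ⟨r, ?_, hk⟩
  have e2 : X.basicOpen r = X.basicOpen (X.presheaf.map (homOfLE (le_top : U ≤ ⊤)).op r) := by
    rw [X.basicOpen_res]; exact (inf_eq_right.mpr hle).symm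
  rw [e2]
  exact hU.basicOpen _

end Groth.Agent.S16909
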