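import Groth.Statements.S16966
import Groth.Agent.S19204

set_option autoImplicit false
universe u
open CategoryTheory CategoryTheory.Limits AlgebraicGeometry Opposite
open Curves

namespace Groth.Agent.S16966

/-- Let X be a smooth projective curve over an algebraically closed field k of characteristic 0 (an
integral scheme, proper over k, of dimension one, with all local rings regular), of genus g ≥ 1, and
L an invertible O_X-module with deg L > 2g. Then the morphism to projective space given by the
complete linear system of L is linearly stable, stated through the criterion by invertible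
subsheaves: for every invertible module M and every monomorphism ι : M ⟶ L that is not an
isomorphism, with dim_k H^0(X, M) ≥ 2, one has deg L · (h^0(M) - 1) < deg M · (h^0(L) - 1), i.e. the
reduced degree deg M / (h^0(M) - 1) of the projection exceeds the reduced degree deg L / (h^0(L) -
1). Degrees are χ(·) - χ(O_X). -/
theorem result (k : Type u) [Field k] [IsAlgClosed k] [CharZero k] (X : Scheme.{u}) [X.Over (Spec (CommRingCat.of k))]
    [IsIntegral X] [IsProper (X ↘ (Spec (CommRingCat.of k)))] (hdim : topologicalKrullDim X = 1)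
    (hreg : ∀ x : X, IsRegularLocalRing (X.presheaf.stalk x))
    (hg : 1 ≤ Curv2.genus k X) (L : X.Modules) (hL : PicF.IsInvertible L)
    (hdeg : 2 * (Curv2.genus k X : ℤ) < Curv2.deg k X L 1)
    (M : X.Modules) (hM : PicF.IsInvertible M) (ι : M ⟶ L) [Mono ι] (hι : ¬ IsIso ι)
    (h2 : 2 ≤ Module.finrank k (Coh.HH X M 0)) :
    Curv2.deg k X L 1 * ((Module.finrank k (Coh.HH X M 0) : ℤ) - 1) <
      Curv2.deg k X M 1 * ((Module.finrank k (Coh.HH X L 0) : ℤ) - 1) := by
  haveI : L.IsQuasicoherent := Groth.Agent.LD.QC.qc_of_isInvertible L hL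
  have hmono := Groth.Agent.LD.Curve.deg_le_of_mono k X hdim.le 1
    ((Groth.Agent.LD.QC.isInvertible_iff M).mp hM) ((Groth.Agent.LD.QC.isInvertible_iff L).mp hL) ι
  have hlt : Curv2.deg k X M 1 < Curv2.deg k X L 1 := by
    rcases lt_or_eq_of_le hmono.1 with h | h
    · exact h
    · exact absurd (hmono.2 h) hι
  have hL1 : Subsingleton (Coh.HH X L 1) :=
    Groth.Agent.H5.Curve6.subsingleton_H1_of_deg_ge k X hdim L hL (by
      have : (0 : ℤ) ≤ Curv2.genus k X := Int.natCast_nonneg _
      linarith)
  have hdL := Groth.Agent.H5.Curve6.deg_eq_h0_sub_h1 k X hdim L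
  have hL1' : Module.finrank k (Coh.HH X L 1) = 0 := Module.finrank_zero_of_subsingleton
  rw [hL1'] at hdL
  push_cast at hdL
  have hm : 1 ≤ Module.finrank k (Coh.HH X M 0) - 1 := by omega
  have hsec : (Module.finrank k (Coh.HH X M 0) - 1) + 1 ≤ Module.finrank k (Coh.HH X M 0) := by
    omega
  have key := Groth.Agent.S19204.result k X hdim hreg hg (Curv2.deg k X L 1) hdeg M hM
    (Module.finrank k (Coh.HH X M 0) - 1) hm hsec hlt.le (Or.inl hlt)
  have hcast : ((Module.finrank k (Coh.HH X M 0) - 1 : ℕ) : ℤ) =
      (Module.finrank k (Coh.HH X M 0) : ℤ) - 1 := by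
    rw [Nat.cast_sub (by omega)]; rfl
  rw [hcast] at key
  have hL0 : (Module.finrank k (Coh.HH X L 0) : ℤ) - 1 =
      Curv2.deg k X L 1 - Curv2.genus k X := by linarith
  rw [hL0]
  exact key

end Groth.Agent.S16966
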