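import Groth.Statements.S16979
import Mathlib
-- import your own Groth.Agent.* helpers here

set_option autoImplicit false
universe u v
open CAlg

namespace Groth.Agent.S16979

/-- Let R be an integral domain with fraction field K and φ a square matrix over R whose characteristic
polynomial becomes separable in K[T] (equivalently, K[T] modulo the characteristic polynomial is
geometrically reduced over K). Then a polynomial f over R satisfies f(φ) = 0 exactly when the
characteristic polynomial of φ divides f in R[T]: the kernel of evaluation at φ (the minimal ideal
of φ) is the principal ideal generated by the characteristic polynomial. -/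
theorem result
    {R : Type u} [CommRing R] [IsDomain R] {n : Type v} [Fintype n] [DecidableEq n]
    (φ : Matrix n n R)
    (hsep : (φ.charpoly.map (algebraMap R (FractionRing R))).Separable) :
    RingHom.ker (Polynomial.aeval (R := R) φ) = Ideal.span {φ.charpoly} := by
  classical
  set K := FractionRing R with hK
  set F := AlgebraicClosure K with hF
  let ι : R →+* F := (algebraMap K F).comp (algebraMap R K)
  have hιinj : Function.Injective ι :=
    (algebraMap K F).injective.comp (IsFractionRing.injective R K)
  set M : Matrix n n F := (RingHom.mapMatrix ι) φ with hM
  have hχ : M.charpoly = φ.charpoly.map ι := by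
    rw [hM]; exact (Matrix.charpoly_map φ ι)
  have hχsep : M.charpoly.Separable := by
    rw [hχ, ← Polynomial.map_map]
    exact hsep.map
  have hχmonic : M.charpoly.Monic := Matrix.charpoly_monic M
  have hχdeg : M.charpoly.natDegree = Fintype.card n := Matrix.charpoly_natDegree_eq_dim M
  have hχroots : Multiset.card M.charpoly.roots = Fintype.card n := by
    rw [← hχdeg]
    exact (Polynomial.splits_iff_card_roots.mp (IsAlgClosed.splits _))
  ext f
  rw [RingHom.mem_ker, Ideal.mem_span_singleton]
  constructor
  · intro hf
    have hmonic : φ.charpoly.Monic := Matrix.charpoly_monic φ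
    -- remainder
    set r := f %ₘ φ.charpoly with hr
    have hdiv := Polynomial.modByMonic_add_div f φ.charpoly
    have hrφ : Polynomial.aeval φ r = 0 := by
      have h1 : Polynomial.aeval φ f = Polynomial.aeval φ (f %ₘ φ.charpoly + φ.charpoly * (f /ₘ φ.charpoly)) := by
        rw [hdiv]
      rw [hf, map_add, map_mul, Matrix.aeval_self_charpoly, zero_mul, add_zero] at h1
      exact h1.symm
    have hrM : Polynomial.aeval M (r.map ι) = 0 := by
      have h := Polynomial.map_aeval_eq_aeval_map (φ := ι) (ψ := RingHom.mapMatrix ι)
        (S := Matrix n n R) (U := Matrix n n F) (by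
          ext a i j
          simp [Matrix.algebraMap_matrix_apply, Matrix.map_apply]
          split_ifs <;> simp) r φ
      rw [hrφ, map_zero] at h
      exact h.symm
    have hr0 : r = 0 := by
      by_contra hne
      have hne' : r.map ι ≠ 0 := (Polynomial.map_ne_zero_iff hιinj).mpr hne
      have hsub : M.charpoly.roots ≤ (r.map ι).roots := by
        rw [Multiset.le_iff_subset (Polynomial.nodup_roots hχsep)]
        intro μ hμ
        have hμroot : M.charpoly.IsRoot μ := (Polynomial.mem_roots hχmonic.ne_zero).mp hμ
        have hspec : μ ∈ spectrum F M := Matrix.mem_spectrum_iff_isRoot_charpoly.mpr hμroot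
        have hnontriv : Nontrivial (Matrix n n F) := by
          by_contra hnt
          rw [not_nontrivial_iff_subsingleton] at hnt
          rw [spectrum.of_subsingleton] at hspec
          exact hspec.elim
        have h2 := spectrum.subset_polynomial_aeval M (r.map ι) ⟨μ, hspec, rfl⟩
        rw [hrM, spectrum.zero_eq] at h2
        rw [Polynomial.mem_roots hne']
        exact h2
      have hcard := Multiset.card_le_card hsub
      rw [hχroots] at hcard
      have h3 : (r.map ι).natDegree < Fintype.card n := by
        rw [Polynomial.natDegree_map_eq_of_injective hιinj]
        have h4 : r.degree < φ.charpoly.degree := Polynomial.degree_modByMonic_lt f hmonic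
        rw [Polynomial.degree_eq_natDegree hne, Polynomial.degree_eq_natDegree hmonic.ne_zero,
          Matrix.charpoly_natDegree_eq_dim] at h4
        exact_mod_cast h4
      have h5 := Polynomial.card_roots' (r.map ι)
      omega
    refine ⟨f /ₘ φ.charpoly, ?_⟩
    conv_lhs => rw [← hdiv, ← hr, hr0, zero_add]
  · rintro ⟨q, rfl⟩
    rw [map_mul, Matrix.aeval_self_charpoly, zero_mul]

end Groth.Agent.S16979
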