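import Groth.Statements.S16983
import Mathlib

set_option autoImplicit false
universe u
open DeformData

namespace Groth.Agent.S16983

/-- Let p be a prime, s ≥ 1, B a finite index set with a subset B₀ of exactly three elements, m_j ≥ 1
integers coprime to p, and σ_{i,j} (i < s, j ∈ B) rational numbers with m_j σ_{i,j} an integer, such
that Σ_j (σ_{i,j} − 1) = −2 for every i, the fractional part of σ_{i,j} equals that of p^i σ_{0,j},
no σ_{i,j} equals 1, and the minimum over i of ⌊σ_{i,j}⌋ is 0 for j ∈ B₀ and 1 for j ∉ B₀. Then for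
every i the fractional parts ⟨σ_{i,j}⟩ sum over j to 1 (purity), and ⌊σ_{i,j}⌋ is 0 on B₀ and 1 off
B₀ for every i. (The hypotheses are exactly the properties of the signature of a special deformation
datum on the projective line: each entry is an integer divided by a stabilizer order m_j in a group
of order prime to p, the degree identity coming from Riemann–Hurwitz, the Frobenius-twist relation
between fractional parts, and the speciality conditions; the statement is given here for any such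
tuple.) -/
theorem result
    {B : Type u} [Fintype B] [DecidableEq B] (B₀ : Finset B) (hB₀ : B₀.card = 3)
    (p : ℕ) (hp : p.Prime) (s : ℕ) (hs : 0 < s)
    (m : B → ℕ) (hm : ∀ j, 0 < m j) (hmp : ∀ j, Nat.Coprime (m j) p)
    (σ : Fin s → B → ℚ) (hint : ∀ i j, ∃ h : ℤ, σ i j = (h : ℚ) / (m j : ℚ))
    (hsum : ∀ i, ∑ j, (σ i j - 1) = -2)
    (hfract : ∀ i j, Int.fract (σ i j) = Int.fract ((p : ℚ) ^ (i : ℕ) * σ ⟨0, hs⟩ j))
    (hne : ∀ i j, σ i j ≠ 1)
    (hB₀min : ∀ j ∈ B₀, (∃ i, ⌊σ i j⌋ = 0) ∧ ∀ i, 0 ≤ ⌊σ i j⌋)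
    (hBmin : ∀ j ∉ B₀, (∃ i, ⌊σ i j⌋ = 1) ∧ ∀ i, 1 ≤ ⌊σ i j⌋) :
    (∀ i, ∑ j, Int.fract (σ i j) = 1) ∧ (∀ i j, ⌊σ i j⌋ = if j ∈ B₀ then 0 else 1) := by
  classical
  -- basic facts
  have hfl : ∀ i j, σ i j = (⌊σ i j⌋ : ℚ) + Int.fract (σ i j) := fun i j =>
    (Int.floor_add_fract (σ i j)).symm
  have hlow : ∀ i j, (if j ∈ B₀ then (0 : ℤ) else 1) ≤ ⌊σ i j⌋ := by
    intro i j
    by_cases hj : j ∈ B₀
    · rw [if_pos hj]; exact (hB₀min j hj).2 i
    · rw [if_neg hj]; exact (hBmin j hj).2 i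
  have hcardlow : ∑ j : B, (if j ∈ B₀ then (0 : ℤ) else 1) = (Fintype.card B : ℤ) - 3 := by
    have h1 : ∑ j : B, (if j ∈ B₀ then (0 : ℤ) else 1) =
        ∑ j : B, ((1 : ℤ) - if j ∈ B₀ then 1 else 0) := by
      apply Finset.sum_congr rfl
      intro j _
      by_cases hj : j ∈ B₀ <;> simp [hj]
    rw [h1, Finset.sum_sub_distrib, Finset.sum_const, Finset.card_univ, nsmul_eq_mul, mul_one,
      Finset.sum_ite_mem, Finset.univ_inter, Finset.sum_const, hB₀, nsmul_eq_mul, mul_one]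
    norm_num
  -- the sum identity
  have hsumi : ∀ i, (∑ j, Int.fract (σ i j)) = ((Fintype.card B : ℤ) - 2 - ∑ j, ⌊σ i j⌋ : ℤ) := by
    intro i
    have h1 := hsum i
    rw [Finset.sum_sub_distrib, Finset.sum_const, Finset.card_univ, nsmul_eq_mul, mul_one] at h1
    have h2 : ∑ j, σ i j = ∑ j, (⌊σ i j⌋ : ℚ) + ∑ j, Int.fract (σ i j) := by
      rw [← Finset.sum_add_distrib]
      exact Finset.sum_congr rfl fun j _ => hfl i j
    push_cast
    linarith
  have hnonneg : ∀ i, 0 ≤ ∑ j, Int.fract (σ i j) := fun i =>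
    Finset.sum_nonneg fun j _ => Int.fract_nonneg _
  have hsumlow : ∀ i, (Fintype.card B : ℤ) - 3 ≤ ∑ j, ⌊σ i j⌋ := by
    intro i
    rw [← hcardlow]
    exact Finset.sum_le_sum fun j _ => hlow i j
  -- integrality propagation
  have hint_all : ∀ i, (∀ j, Int.fract (σ i j) = 0) → ∀ i' j, Int.fract (σ i' j) = 0 := by
    intro i hi i' j
    obtain ⟨h0, hh0⟩ := hint ⟨0, hs⟩ j
    have hmj : (m j : ℚ) ≠ 0 := by exact_mod_cast (hm j).ne'
    have h1 : Int.fract ((p : ℚ) ^ (i : ℕ) * σ ⟨0, hs⟩ j) = 0 := by rw [← hfract]; exact hi j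
    rw [Int.fract_eq_zero_iff] at h1
    obtain ⟨z, hz⟩ := h1
    -- m j ∣ p^i * h0
    have h2 : (m j : ℤ) ∣ (p : ℤ) ^ (i : ℕ) * h0 := by
      refine ⟨z, ?_⟩
      have : ((p : ℤ) ^ (i : ℕ) * h0 : ℤ) = ((m j : ℤ) * z : ℤ) → True := fun _ => trivial
      have h3 : ((p : ℚ) ^ (i : ℕ) * ((h0 : ℚ) / (m j : ℚ))) = (z : ℚ) := by rw [← hh0]; exact hz.symm
      have h4 : ((p : ℚ) ^ (i : ℕ) * (h0 : ℚ)) = (m j : ℚ) * (z : ℚ) := by
        field_simp at h3
        linarith
      exact_mod_cast h4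
    have hcop : IsCoprime (m j : ℤ) ((p : ℤ) ^ (i : ℕ)) := by
      apply IsCoprime.pow_right
      exact Nat.isCoprime_iff_coprime.2 (hmp j)
    have h5 : (m j : ℤ) ∣ h0 := hcop.dvd_of_dvd_mul_left h2
    obtain ⟨w, hw⟩ := h5
    have h6 : σ ⟨0, hs⟩ j = (w : ℚ) := by
      rw [hh0, hw]
      push_cast
      field_simp
    rw [hfract, h6, Int.fract_eq_zero_iff]
    exact ⟨(p : ℤ) ^ (i' : ℕ) * w, by push_cast; ring⟩
  -- the fractional sums are never zero
  have hne0 : ∀ i, ∑ j, Int.fract (σ i j) ≠ 0 := by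
    intro i h0
    have hall : ∀ j, Int.fract (σ i j) = 0 := by
      intro j
      exact (Finset.sum_eq_zero_iff_of_nonneg fun j _ => Int.fract_nonneg _).1 h0 j (Finset.mem_univ j)
    have hallint := hint_all i hall
    by_cases hex : ∃ j, j ∉ B₀
    · obtain ⟨j, hj⟩ := hex
      obtain ⟨i', hi'⟩ := (hBmin j hj).1
      apply hne i' j
      rw [hfl i' j, hallint i' j, hi']
      norm_num
    · push_neg at hex
      -- all in B₀
      have h1 := hsumi i
      rw [h0] at h1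
      have hcard : Fintype.card B = 3 := by
        rw [← hB₀, ← Finset.card_univ]
        congr 1
        ext j; simp [hex j]
      have h2 : ∑ j, ⌊σ i j⌋ = 1 := by
        have : ((0 : ℚ)) = (((Fintype.card B : ℤ) - 2 - ∑ j, ⌊σ i j⌋ : ℤ) : ℚ) := h1
        have h3 : (0 : ℤ) = (Fintype.card B : ℤ) - 2 - ∑ j, ⌊σ i j⌋ := by exact_mod_cast this
        rw [hcard] at h3
        push_cast at h3
        linarith
      -- nonneg integers summing to 1, none equal to 1
      have hnn : ∀ j, 0 ≤ ⌊σ i j⌋ := fun j => (hB₀min j (hex j)).2 i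
      have hn1 : ∀ j, ⌊σ i j⌋ ≠ 1 := by
        intro j hj1
        apply hne i j
        rw [hfl i j, hall j, hj1]
        norm_num
      have hle1 : ∀ j, ⌊σ i j⌋ ≤ 1 := by
        intro j
        have := Finset.single_le_sum (f := fun j => ⌊σ i j⌋) (fun j _ => hnn j) (Finset.mem_univ j)
        rw [h2] at this
        exact this
      have hz : ∀ j, ⌊σ i j⌋ = 0 := by
        intro j
        have := hnn j; have := hle1 j; have := hn1 j
        omega
      rw [Finset.sum_congr rfl (fun j _ => hz j), Finset.sum_const_zero] at h2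
      exact zero_ne_one h2
  -- so they are 1
  have hone : ∀ i, ∑ j, Int.fract (σ i j) = 1 := by
    intro i
    have h1 := hsumi i
    have h2 := hsumlow i
    have h3 := hnonneg i
    have h4 := hne0 i
    set T := (Fintype.card B : ℤ) - 2 - ∑ j, ⌊σ i j⌋ with hT
    have h5 : (0 : ℚ) ≤ (T : ℚ) := by rw [← h1]; exact h3
    have h5' : 0 ≤ T := by exact_mod_cast h5
    have h6 : T ≤ 1 := by rw [hT]; linarith
    have h7 : T ≠ 0 := by
      intro hT0
      apply h4
      rw [h1, hT0]; norm_num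
    have h8 : T = 1 := by omega
    rw [h1, h8]; norm_num
  refine ⟨hone, ?_⟩
  intro i j
  -- floor sums are exactly card - 3, so equality termwise
  have h1 := hsumi i
  rw [hone i] at h1
  have h2 : ∑ j, ⌊σ i j⌋ = (Fintype.card B : ℤ) - 3 := by
    have : (1 : ℤ) = (Fintype.card B : ℤ) - 2 - ∑ j, ⌊σ i j⌋ := by exact_mod_cast h1
    linarith
  by_contra hcon
  have hlt : (if j ∈ B₀ then (0 : ℤ) else 1) < ⌊σ i j⌋ :=
    lt_of_le_of_ne (hlow i j) (Ne.symm hcon)
  have h3 : ∑ j : B, (if j ∈ B₀ then (0 : ℤ) else 1) < ∑ j, ⌊σ i j⌋ :=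
    Finset.sum_lt_sum (fun j _ => hlow i j) ⟨j, Finset.mem_univ j, hlt⟩
  rw [hcardlow, h2] at h3
  exact lt_irrefl _ h3

end Groth.Agent.S16983
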