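import Groth.Statements.S16984
import Mathlib

set_option autoImplicit false
universe u v w
open Hoch

namespace Groth.Agent.S16984

open TensorProduct in
/-- Let k be a commutative ring, A a commutative k-bialgebra that is flat over k (the coordinate ring of
a flat affine group scheme over Spec k; flatness and commutativity are the standing hypotheses of
the appendix and are not needed for the assertion) and P a k-module. Then p ↦ p ⊗ 1 is an injection
of P into the induced comodule P ⊗ A (coaction id ⊗ Δ) whose image is exactly the submodule of
invariants, i.e. the elements with coaction x ↦ x ⊗ 1. (The published statement writes the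
coordinate-ring factor on the left and calls this module coinduced; this row is its degree-zero
part, the identification of P with the invariants of the coinduced module.) -/
theorem result (k : Type u) [CommRing k] (A : Type v) [CommRing A] [Bialgebra k A]
    [Module.Flat k A] (P : Type w) [AddCommGroup P] [Module k P] :
    Function.Injective ((Hoch.Ind.equiv k A P).toLinearMap ∘ₗ (TensorProduct.mk k P A).flip (1 : A)) ∧
    LinearMap.range ((Hoch.Ind.equiv k A P).toLinearMap ∘ₗ (TensorProduct.mk k P A).flip (1 : A)) =
      HopfRep.fixedPts k A (Hoch.Ind k A P) := by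
  set f : P →ₗ[k] Hoch.Ind k A P :=
    (Hoch.Ind.equiv k A P).toLinearMap ∘ₗ (TensorProduct.mk k P A).flip (1 : A) with hf
  have hf_apply : ∀ p : P, f p = Hoch.Ind.equiv k A P (p ⊗ₜ[k] (1 : A)) := fun p => rfl
  have hcf : ∀ p : P, Hoch.Ind.counit k A P (f p) = p := by
    intro p
    rw [hf_apply, Hoch.Ind.counit_equiv_tmul, Bialgebra.counit_one, one_smul]
  refine ⟨fun a b hab => by rw [← hcf a, ← hcf b, hab], ?_⟩
  apply le_antisymm
  · rintro _ ⟨p, rfl⟩
    show HopfRep.Comod.coact (k := k) (A := A) (f p) = f p ⊗ₜ[k] (1 : A)
    rw [hf_apply, Hoch.Ind.coact_equiv_tmul, Bialgebra.comul_one, Algebra.TensorProduct.one_def,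
      TensorProduct.assoc_symm_tmul]
    rfl
  · intro x hx
    have hx' : Hoch.Ind.coactAux k A P x = x ⊗ₜ[k] (1 : A) := hx
    let g : (P ⊗[k] A) ⊗[k] A →ₗ[k] P ⊗[k] A :=
      LinearMap.rTensor A ((TensorProduct.rid k P).toLinearMap ∘ₗ
        (Coalgebra.counit (R := k) (A := A)).lTensor P)
    have h1 : ∀ y : P ⊗[k] A, g (Hoch.Ind.coactAux k A P y) = y := by
      intro y
      induction y using TensorProduct.induction_on with
      | zero => simp
      | tmul p a =>
        rw [Hoch.Ind.coactAux_tmul]
        have h2 : ∀ t : A ⊗[k] A, g ((TensorProduct.assoc k P A A).symm (p ⊗ₜ[k] t)) =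
            p ⊗ₜ[k] (TensorProduct.lid k A
              ((Coalgebra.counit (R := k) (A := A)).rTensor A t)) := by
          intro t
          induction t using TensorProduct.induction_on with
          | zero => simp
          | tmul b c =>
            simp only [g, TensorProduct.assoc_symm_tmul, LinearMap.rTensor_tmul,
              LinearMap.comp_apply, LinearMap.lTensor_tmul, LinearEquiv.coe_coe,
              TensorProduct.rid_tmul, TensorProduct.lid_tmul]
            rw [TensorProduct.smul_tmul]
          | add t t' ht ht' => simp only [TensorProduct.tmul_add, map_add, ht, ht']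
        rw [h2, Coalgebra.rTensor_counit_comul, TensorProduct.lid_tmul, one_smul]
      | add y z hy hz => simp only [map_add, hy, hz]
    have h3 : g (x ⊗ₜ[k] (1 : A)) = f (Hoch.Ind.counit k A P x) := rfl
    refine ⟨Hoch.Ind.counit k A P x, ?_⟩
    rw [← h3]
    have h4 := h1 x
    rw [hx'] at h4
    exact h4

end Groth.Agent.S16984
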