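import Groth.Statements.S16986
import Groth.Agent.Lib.Helper9.Misc.SG5

set_option autoImplicit false
universe u
open CategoryTheory AlgebraicGeometry
open QuadGrp

namespace Groth.Agent.S16986

/-- Let Q be a quadratic form on R^n, n ≥ 1, over a commutative ring R, non-degenerate in the sense that
its polar form is a perfect pairing when n is even and its half-discriminant (in the standard basis)
is a unit when n is odd, and let G be a group scheme over Spec R which is the orthogonal group of Q
(its A-valued points are the isometries of the base change Q_A, naturally in the R-algebra A). Then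
G is smooth over Spec R if and only if n is even or 2 is a unit in R. (The published statement is
for a line-bundle-valued form on a vector bundle over an arbitrary scheme; the case of a free module
over an affine base with trivialised values is stated.) -/
theorem result (R : Type u) [CommRing R] (n : ℕ) (hn : 1 ≤ n)
    (Q : QuadraticForm R (Fin n → R))
    (hQ : QuadGrp.IsNondeg (Pi.basisFun R (Fin n)) (LinearEquiv.refl R R) Q)
    (G : Over (Spec (CommRingCat.of R))) [GrpObj G] (D : QuadGrp.OrthRep Q G) :
    AlgebraicGeometry.Smooth G.hom ↔ (Even n ∨ IsUnit (2 : R)) := by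
  rw [Groth.Agent.H9.SG.smooth_iff_of_universal D _ (Groth.Agent.H9.SG.g0 Q)
    (Groth.Agent.H9.SG.isUniversal_orth Q)]
  constructor
  · intro hs
    by_contra hcon
    rw [not_or] at hcon
    have hodd : Odd n := Nat.not_even_iff_odd.mp hcon.1
    exact Groth.Agent.H9.SG.not_formallySmooth_A0 (Groth.Agent.H9.SG.cQ Q) hodd hcon.2
      (fun B _ _ U V hUV hVU halt =>
        Groth.Agent.H9.SG.det_sq_of_isAlt Q hodd (hQ.2 hodd) B U V hUV hVU halt)
      hs.formallySmooth
  · intro h
    have hreg : QuadGrp.IsRegular Q := by
      rcases Nat.even_or_odd n with he | ho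
      · exact hQ.1 he
      · rcases h with he | h2
        · exact hQ.1 he
        · exact Groth.Agent.H9.QO.isRegular_of_isSemiregular ho _ Q h2 (hQ.2 ho)
    exact Groth.Agent.H9.SG.smooth_A0 _ (Groth.Agent.H9.SG.isUnit_det_of_isRegular Q hreg)

end Groth.Agent.S16986
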