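import Groth.Statements.S1699
import Mathlib

set_option autoImplicit false
universe u
open CategoryTheory CategoryTheory.Limits AlgebraicGeometry TopologicalSpace
open SDiv

namespace Groth.Agent.S1699

namespace H1.S1699aux

/-- Finite families of "local" multipliers can be merged. -/
theorem exists_common_mul {T : Type*} [CommRing T] (q : Ideal T) [q.IsPrime] (J : Ideal T)
    (hJ : J.FG) (P : T → T → Prop) (hP : ∀ g g' t, P g t → P (g' * g) t)
    (hadd : ∀ g t t', P g t → P g t' → P g (t + t')) (hsmul : ∀ g c t, P g t → P g (c * t))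
    (hzero : ∀ g, P g 0)
    (h : ∀ t ∈ J, ∃ g, g ∉ q ∧ P g t) : ∃ g, g ∉ q ∧ ∀ t ∈ J, P g t := by
  obtain ⟨S, rfl⟩ := hJ
  classical
  have key : ∀ S' : Finset T, S' ⊆ S → ∃ g, g ∉ q ∧ ∀ t ∈ S', P g t := by
    intro S'
    induction S' using Finset.induction_on with
    | empty => intro _; exact ⟨1, fun h => (Ideal.IsPrime.ne_top ‹_›) ((Ideal.eq_top_iff_one _).mpr h), by simp⟩
    | insert a S' ha ih =>
      intro hS
      obtain ⟨g, hg, hgS⟩ := ih ((Finset.subset_insert a S').trans hS)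
      obtain ⟨g', hg', hga⟩ := h a (Ideal.subset_span (hS (Finset.mem_insert_self a S')))
      refine ⟨g' * g, fun hmem => ?_, ?_⟩
      · rcases Ideal.IsPrime.mem_or_mem ‹_› hmem with h1 | h1
        · exact hg' h1
        · exact hg h1
      · intro t ht
        rcases Finset.mem_insert.mp ht with rfl | ht
        · rw [mul_comm]; exact hP _ _ _ hga
        · exact hP _ _ _ (hgS t ht)
  obtain ⟨g, hg, hgS⟩ := key S (Finset.Subset.refl S)
  refine ⟨g, hg, fun t ht => ?_⟩
  induction ht using Submodule.span_induction with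
  | mem x hx => exact hgS x hx
  | zero => exact hzero g
  | add x y _ _ hx hy => exact hadd _ _ _ hx hy
  | smul c x _ hx => exact hsmul _ _ _ hx

/-- Membership in the prime of a point of an affine open, via basic opens. -/
theorem mem_primeIdealOf_iff {X : Scheme.{u}} {U : X.Opens} (hU : IsAffineOpen U) (y : X)
    (hy : y ∈ U) (t : Γ(X, U)) :
    t ∈ (hU.primeIdealOf ⟨y, hy⟩).asIdeal ↔ y ∉ X.basicOpen t := by
  letI := X.presheaf.algebra_section_stalk ⟨y, hy⟩
  haveI := hU.isLocalization_stalk ⟨y, hy⟩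
  rw [Scheme.mem_basicOpen _ _ y hy]
  have := IsLocalization.AtPrime.isUnit_to_map_iff (X.presheaf.stalk y)
    (hU.primeIdealOf ⟨y, hy⟩).asIdeal t
  change IsUnit (X.presheaf.germ U y hy t) ↔ _ at this
  rw [this]
  simp


/-- A point of an affine open whose prime is an annihilator is an associated point. -/
theorem isAssociatedPrime_maximalIdeal {X : Scheme.{u}} {W : X.Opens} (hW : IsAffineOpen W)
    (y : X) (hy : y ∈ W) (t : Γ(X, W))
    (hP : ∀ a : Γ(X, W), a ∈ (hW.primeIdealOf ⟨y, hy⟩).asIdeal ↔ a * t = 0) :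
    IsAssociatedPrime (IsLocalRing.maximalIdeal (X.presheaf.stalk y)) (X.presheaf.stalk y) := by
  letI := X.presheaf.algebra_section_stalk ⟨y, hy⟩
  haveI hloc := hW.isLocalization_stalk ⟨y, hy⟩
  set Py := (hW.primeIdealOf ⟨y, hy⟩).asIdeal with hPy
  set w := algebraMap Γ(X, W) (X.presheaf.stalk y) t with hw
  have hw0 : w ≠ 0 := by
    intro h0
    rw [hw, IsLocalization.map_eq_zero_iff Py.primeCompl] at h0
    obtain ⟨u, hu⟩ := h0
    exact u.2 ((hP u).mpr hu)
  have hcolon : Submodule.colon (⊥ : Submodule (X.presheaf.stalk y) (X.presheaf.stalk y)) {w} =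
      IsLocalRing.maximalIdeal (X.presheaf.stalk y) := by
    apply le_antisymm
    · apply IsLocalRing.le_maximalIdeal
      intro htop
      have : (1 : X.presheaf.stalk y) ∈ Submodule.colon (⊥ : Submodule
          (X.presheaf.stalk y) (X.presheaf.stalk y)) {w} := by
        rw [htop]; trivial
      rw [Submodule.mem_colon_singleton, one_smul, Submodule.mem_bot] at this
      exact hw0 this
    · intro c hc
      rw [Submodule.mem_colon_singleton, Submodule.mem_bot, smul_eq_mul]
      obtain ⟨⟨a, s⟩, has⟩ := IsLocalization.surj Py.primeCompl c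
      have hsu : IsUnit (algebraMap Γ(X, W) (X.presheaf.stalk y) s) :=
        IsLocalization.map_units _ s
      have ha : a ∈ Py := by
        rw [← IsLocalization.AtPrime.to_map_mem_maximal_iff (X.presheaf.stalk y) Py a, ← has]
        exact Ideal.mul_mem_right _ _ hc
      have hat : a * t = 0 := (hP a).mp ha
      have h5 : c * w * algebraMap Γ(X, W) (X.presheaf.stalk y) s = 0 := by
        have : c * w * algebraMap Γ(X, W) (X.presheaf.stalk y) s =
            algebraMap Γ(X, W) (X.presheaf.stalk y) (a * t) := by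
          rw [map_mul, ← has, hw]; ring
        rw [this, hat, map_zero]
      exact (hsu.mul_left_eq_zero).mp h5
  refine ⟨inferInstance, w, ?_⟩
  rw [hcolon, Ideal.IsPrime.radical inferInstance]

theorem dense_of_ass (X : Scheme.{u}) [IsLocallyNoetherian X] (U : X.Opens)
    (hass : ∀ x : ↥X, IsAssociatedPrime (IsLocalRing.maximalIdeal ↑(X.presheaf.stalk x))
      ↑(X.presheaf.stalk x) → x ∈ U) : CInt.IsSchematicallyDense U := by
  intro V
  rw [injective_iff_map_eq_zero]
  intro s hs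
  apply TopCat.Presheaf.section_ext X.sheaf V
  intro x hxV
  change X.presheaf.germ V x hxV s = X.presheaf.germ V x hxV 0
  rw [map_zero]
  obtain ⟨_, ⟨W, hW : IsAffineOpen W, rfl⟩, hxW, hWV⟩ :=
    X.isBasis_affineOpens.exists_subset_of_mem_open hxV V.isOpen
  have hWV' : W ≤ V := hWV
  haveI : IsNoetherianRing Γ(X, W) := IsLocallyNoetherian.component_noetherian ⟨W, hW⟩
  set s' := X.presheaf.map (homOfLE hWV').op s with hs'
  have hgerm : X.presheaf.germ V x hxV s = X.presheaf.germ W x hxW s' := by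
    rw [hs']
    exact (TopCat.Presheaf.germ_res_apply X.presheaf (homOfLE hWV') x hxW s).symm
  rw [hgerm]
  suffices h0 : s' = 0 by rw [h0, map_zero]
  by_contra hne
  obtain ⟨P, hPass, hle⟩ := exists_le_isAssociatedPrime_of_isNoetherianRing (R := Γ(X, W)) s' hne
  rw [isAssociatedPrime_iff] at hPass
  obtain ⟨hPp, t, hPt⟩ := hPass
  have hmem : ∀ a, a ∈ P ↔ a * t = 0 := by
    intro a
    rw [hPt, Submodule.mem_colon_singleton, Submodule.mem_bot, smul_eq_mul]
  have hyW : hW.fromSpec ⟨P, hPp⟩ ∈ W := by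
    have : hW.fromSpec ⟨P, hPp⟩ ∈ hW.fromSpec.opensRange := ⟨_, rfl⟩
    rwa [hW.opensRange_fromSpec] at this
  have hprimeOf : hW.primeIdealOf ⟨hW.fromSpec ⟨P, hPp⟩, hyW⟩ = ⟨P, hPp⟩ := by
    apply hW.fromSpec.isOpenEmbedding.injective
    rw [hW.fromSpec_primeIdealOf]
  have hyass := isAssociatedPrime_maximalIdeal hW (hW.fromSpec ⟨P, hPp⟩) hyW t
    (by intro a; rw [hprimeOf]; exact hmem a)
  have hyU := hass _ hyass
  -- germ of s' at y vanishes
  have hgy : X.presheaf.germ W (hW.fromSpec ⟨P, hPp⟩) hyW s' = 0 := by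
    have hyVU : hW.fromSpec ⟨P, hPp⟩ ∈ V ⊓ U := ⟨hWV' hyW, hyU⟩
    have h1 : X.presheaf.germ W (hW.fromSpec ⟨P, hPp⟩) hyW s' =
        X.presheaf.germ V (hW.fromSpec ⟨P, hPp⟩) (hWV' hyW) s := by
      rw [hs']
      exact TopCat.Presheaf.germ_res_apply X.presheaf (homOfLE hWV') _ hyW s
    have h2 : X.presheaf.germ (V ⊓ U) (hW.fromSpec ⟨P, hPp⟩) hyVU
        (X.presheaf.map (homOfLE (inf_le_left : V ⊓ U ≤ V)).op s) =
        X.presheaf.germ V (hW.fromSpec ⟨P, hPp⟩) (hWV' hyW) s :=
      TopCat.Presheaf.germ_res_apply X.presheaf (homOfLE inf_le_left) _ hyVU s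
    rw [h1, ← h2, hs, map_zero]
  letI := X.presheaf.algebra_section_stalk ⟨hW.fromSpec ⟨P, hPp⟩, hyW⟩
  haveI hloc := hW.isLocalization_stalk ⟨hW.fromSpec ⟨P, hPp⟩, hyW⟩
  have hgy' : algebraMap Γ(X, W) (X.presheaf.stalk (hW.fromSpec ⟨P, hPp⟩)) s' = 0 := hgy
  rw [IsLocalization.map_eq_zero_iff
    (hW.primeIdealOf ⟨hW.fromSpec ⟨P, hPp⟩, hyW⟩).asIdeal.primeCompl] at hgy'
  obtain ⟨u, hu⟩ := hgy'
  have huP : (u : Γ(X, W)) ∈ P := by
    apply hle
    rw [Submodule.mem_colon_singleton, Submodule.mem_bot, smul_eq_mul]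
    exact hu
  have hu2 : (u : Γ(X, W)) ∉ (hW.primeIdealOf ⟨hW.fromSpec ⟨P, hPp⟩, hyW⟩).asIdeal := u.2
  have hPeq : (hW.primeIdealOf ⟨hW.fromSpec ⟨P, hPp⟩, hyW⟩).asIdeal = P := by rw [hprimeOf]
  exact hu2 ((SetLike.ext_iff.mp hPeq (u : Γ(X, W))).mpr huP)

theorem ass_of_dense (X : Scheme.{u}) [IsLocallyNoetherian X] (U : X.Opens)
    (hdense : CInt.IsSchematicallyDense U) (x : X)
    (hx : IsAssociatedPrime (IsLocalRing.maximalIdeal ↑(X.presheaf.stalk x)) ↑(X.presheaf.stalk x)) :
    x ∈ U := by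
  by_contra hxU
  rw [isAssociatedPrime_iff] at hx
  obtain ⟨-, b, hb⟩ := hx
  obtain ⟨_, ⟨W, hW : IsAffineOpen W, rfl⟩, hxW, -⟩ :=
    X.isBasis_affineOpens.exists_subset_of_mem_open (Set.mem_univ x) isOpen_univ
  haveI : IsNoetherianRing Γ(X, W) := IsLocallyNoetherian.component_noetherian ⟨W, hW⟩
  letI := X.presheaf.algebra_section_stalk ⟨x, hxW⟩
  haveI hloc := hW.isLocalization_stalk ⟨x, hxW⟩
  set P := (hW.primeIdealOf ⟨x, hxW⟩).asIdeal with hP
  have hbmem : ∀ c : X.presheaf.stalk x, c ∈ IsLocalRing.maximalIdeal (X.presheaf.stalk x) ↔ c * b = 0 := by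
    intro c
    rw [hb, Submodule.mem_colon_singleton, Submodule.mem_bot, smul_eq_mul]
  have hb0 : b ≠ 0 := by
    intro h0
    have : (1 : X.presheaf.stalk x) ∈ IsLocalRing.maximalIdeal (X.presheaf.stalk x) := by
      rw [hbmem, h0, mul_zero]
    exact (IsLocalRing.maximalIdeal.isMaximal _).ne_top ((Ideal.eq_top_iff_one _).mpr this)
  obtain ⟨⟨s0, v⟩, hsv⟩ := IsLocalization.surj P.primeCompl b
  have hvu : IsUnit (algebraMap Γ(X, W) (X.presheaf.stalk x) v) := IsLocalization.map_units _ v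
  have hs0ne : algebraMap Γ(X, W) (X.presheaf.stalk x) s0 ≠ 0 := by
    rw [← hsv]
    intro h
    exact hb0 ((hvu.mul_left_eq_zero).mp h)
  -- multiplier
  obtain ⟨g, hg, hgP⟩ := exists_common_mul P P (IsNoetherian.noetherian P)
    (fun g a => g * a * s0 = 0)
    (fun g g' a h => by rw [mul_assoc, mul_assoc]; rw [mul_assoc] at h; rw [h, mul_zero])
    (fun g a a' h h' => by rw [mul_add, add_mul, h, h', add_zero])
    (fun g c a h => by
      have : g * (c * a) * s0 = c * (g * a * s0) := by ring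
      rw [this, h, mul_zero])
    (fun g => by simp)
    (by
      intro a ha
      have h1 : algebraMap Γ(X, W) (X.presheaf.stalk x) a ∈
          IsLocalRing.maximalIdeal (X.presheaf.stalk x) :=
        (IsLocalization.AtPrime.to_map_mem_maximal_iff (X.presheaf.stalk x) P a).mpr ha
      rw [hbmem] at h1
      have h2 : algebraMap Γ(X, W) (X.presheaf.stalk x) (a * s0) = 0 := by
        rw [map_mul, ← hsv, ← mul_assoc, h1, zero_mul]
      rw [IsLocalization.map_eq_zero_iff P.primeCompl] at h2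
      obtain ⟨u, hu⟩ := h2
      exact ⟨u, u.2, by rw [mul_assoc]; exact hu⟩)
  set s1 := g * s0 with hs1
  have hs1ne : algebraMap Γ(X, W) (X.presheaf.stalk x) s1 ≠ 0 := by
    rw [hs1, map_mul]
    intro h
    have hgu : IsUnit (algebraMap Γ(X, W) (X.presheaf.stalk x) g) :=
      IsLocalization.map_units _ (⟨g, hg⟩ : P.primeCompl)
    exact hs0ne ((hgu.mul_right_eq_zero).mp h)
  have hPs1 : ∀ a ∈ P, a * s1 = 0 := by
    intro a ha
    have := hgP a ha
    rw [hs1]
    have e : a * (g * s0) = g * a * s0 := by ring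
    rw [e]; exact this
  -- restriction of s1 to W ⊓ U vanishes
  have hres : X.presheaf.map (homOfLE (inf_le_left : W ⊓ U ≤ W)).op s1 = 0 := by
    apply TopCat.Presheaf.section_ext X.sheaf (W ⊓ U)
    intro y hy
    change X.presheaf.germ (W ⊓ U) y hy _ = X.presheaf.germ (W ⊓ U) y hy 0
    rw [map_zero, TopCat.Presheaf.germ_res_apply X.presheaf (homOfLE inf_le_left) y hy s1]
    -- find a ∈ P not in P_y
    have hnot : ¬ P ≤ (hW.primeIdealOf ⟨y, hy.1⟩).asIdeal := by
      intro hle
      have hsp : hW.primeIdealOf ⟨x, hxW⟩ ⤳ hW.primeIdealOf ⟨y, hy.1⟩ :=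
        (PrimeSpectrum.le_iff_specializes _ _).mp hle
      have := hsp.map hW.fromSpec.continuous
      rw [hW.fromSpec_primeIdealOf, hW.fromSpec_primeIdealOf] at this
      exact hxU (this.mem_open U.isOpen hy.2)
    obtain ⟨a, haP, hay⟩ := SetLike.not_le_iff_exists.mp hnot
    letI := X.presheaf.algebra_section_stalk ⟨y, hy.1⟩
    haveI hlocy := hW.isLocalization_stalk ⟨y, hy.1⟩
    have hau : IsUnit (algebraMap Γ(X, W) (X.presheaf.stalk y) a) :=
      IsLocalization.map_units _ (⟨a, hay⟩ : (hW.primeIdealOf ⟨y, hy.1⟩).asIdeal.primeCompl)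
    have h3 : algebraMap Γ(X, W) (X.presheaf.stalk y) a *
        algebraMap Γ(X, W) (X.presheaf.stalk y) s1 = 0 := by
      rw [← map_mul, hPs1 a haP, map_zero]
    exact (hau.mul_right_eq_zero).mp h3
  have h0 : s1 = 0 := by
    have hinj := hdense W
    exact hinj (by rw [hres, map_zero])
  exact hs1ne (by rw [h0, map_zero])

end H1.S1699aux

/-- (1) if and only if (3): let X be a locally Noetherian scheme and U an open subscheme. Then U is
scheme-theoretically dense in X if and only if U contains every associated point of X (every point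
whose local ring has its maximal ideal as an associated prime). -/
theorem result (X : Scheme.{u}) [IsLocallyNoetherian X] (U : X.Opens) :
    CInt.IsSchematicallyDense U ↔ ∀ x : ↥X, IsAssociatedPrime (IsLocalRing.maximalIdeal ↑(X.presheaf.stalk x)) ↑(X.presheaf.stalk x) → x ∈ U := by
  exact ⟨fun h x hx => H1.S1699aux.ass_of_dense X U h x hx, fun h => H1.S1699aux.dense_of_ass X U h⟩

end Groth.Agent.S1699
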