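import Groth.Statements.S16991
import Groth.Agent.Lib.Helper2.AltDet

set_option autoImplicit false
universe u v
open QuadGrp

namespace Groth.Agent.S16991

/-- Over a commutative ring in which 2 = 0, for a quadratic form Q on a finite free module of even rank
2m ≥ 2 whose polar form is a perfect pairing, every isometry of Q has determinant one. (The
published statement is the equality of the naive special orthogonal group with the orthogonal group
on fibres in characteristic 2; its proof gives this equality over every base of characteristic 2,
which is the form stated.) -/
theorem result {R : Type u} [CommRing R] [CharP R 2]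
    {M : Type v} [AddCommGroup M] [Module R M] [Module.Free R M] [Module.Finite R M]
    (m : ℕ) (hm : 1 ≤ m) (hM : Module.finrank R M = 2 * m) (Q : QuadraticForm R M) (hQ : QuadGrp.IsRegular Q) :
    QuadGrp.O Q = QuadGrp.SO' Q := by
  classical
  ext g
  constructor
  · intro hg
    refine ⟨hg, ?_⟩
    change LinearEquiv.det g = 1
    rcases subsingleton_or_nontrivial R with hR | hR
    · exact Subsingleton.elim _ _
    let b := Module.finBasis R M
    let B : LinearMap.BilinForm R M := QuadraticMap.polarBilin Q
    let G := LinearMap.BilinForm.toMatrix b B
    let T : Matrix (Fin (Module.finrank R M)) (Fin (Module.finrank R M)) R :=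
      Matrix.of fun i j => if i < j then G i j else 0
    let A := LinearMap.toMatrix b b (g : M →ₗ[R] M)
    have hGapp : ∀ i j, G i j = QuadraticMap.polar Q (b i) (b j) := fun i j => by
      simp only [G, LinearMap.BilinForm.toMatrix_apply]
      rfl
    have hGii : ∀ i, G i i = 0 := fun i => by
      rw [hGapp, QuadraticMap.polar_self, two_smul, CharTwo.add_self_eq_zero]
    have hGsymm : ∀ i j, G i j = G j i := fun i j => by
      rw [hGapp, hGapp, QuadraticMap.polar_comm]
    have hG : G = T - T.transpose := by
      ext i j
      simp only [Matrix.sub_apply, Matrix.transpose_apply, T, Matrix.of_apply]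
      rcases lt_trichotomy i j with h | h | h
      · simp [h, not_lt.2 h.le]
      · subst h; simp [hGii]
      · simp only [h, not_lt.2 h.le, if_false, if_true, zero_sub]
        rw [CharTwo.neg_eq, hGsymm]
    have hu : IsUnit G.det := by
      let e : M ≃ₗ[R] Module.Dual R M := LinearEquiv.ofBijective (QuadraticMap.polarBilin Q) hQ
      have h1 := LinearEquiv.isUnit_det e b b.dualBasis
      have h2 : LinearMap.toMatrix b b.dualBasis (e : M →ₗ[R] Module.Dual R M) = G.transpose := by
        ext i j
        rw [LinearMap.toMatrix_apply, Matrix.transpose_apply, hGapp]
        simp only [Module.Basis.dualBasis_repr]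
        rfl
      rw [h2, Matrix.det_transpose] at h1
      exact h1
    have hcomp : B.comp (g : M →ₗ[R] M) (g : M →ₗ[R] M) = B := by
      ext x y
      simp only [LinearMap.BilinForm.comp_apply, B, QuadraticMap.polarBilin_apply_apply,
        QuadraticMap.polar, LinearEquiv.coe_coe]
      rw [← map_add, hg (x + y), hg x, hg y]
    have hA : A.transpose * G * A = G := by
      have := LinearMap.BilinForm.toMatrix_comp b b B (g : M →ₗ[R] M) (g : M →ₗ[R] M)
      rw [hcomp] at this
      exact this.symm
    have hdet := Groth.Agent.H2.AltDet.det_eq_one_of_alt G T A hG hu hA
    apply Units.ext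
    rw [LinearEquiv.coe_det, ← LinearMap.det_toMatrix b]
    exact hdet
  · intro hg
    exact hg.1

end Groth.Agent.S16991
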