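import Groth.Statements.S1700
import Mathlib

set_option autoImplicit false
universe u
open CategoryTheory CategoryTheory.Limits AlgebraicGeometry TopologicalSpace
open SDiv

namespace Groth.Agent.S1700

namespace H1.S1700aux

/-- Finite families of "local" multipliers can be merged. -/
theorem exists_common_mul {T : Type*} [CommRing T] (q : Ideal T) [q.IsPrime] (J : Ideal T)
    (hJ : J.FG) (P : T → T → Prop) (hP : ∀ g g' t, P g t → P (g' * g) t)
    (hadd : ∀ g t t', P g t → P g t' → P g (t + t')) (hsmul : ∀ g c t, P g t → P g (c * t))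
    (hzero : ∀ g, P g 0)
    (h : ∀ t ∈ J, ∃ g, g ∉ q ∧ P g t) : ∃ g, g ∉ q ∧ ∀ t ∈ J, P g t := by
  obtain ⟨S, rfl⟩ := hJ
  classical
  have key : ∀ S' : Finset T, S' ⊆ S → ∃ g, g ∉ q ∧ ∀ t ∈ S', P g t := by
    intro S'
    induction S' using Finset.induction_on with
    | empty => intro _; exact ⟨1, fun h => (Ideal.IsPrime.ne_top ‹_›) ((Ideal.eq_top_iff_one _).mpr h), by simp⟩
    | insert a S' ha ih =>
      intro hS
      obtain ⟨g, hg, hgS⟩ := ih ((Finset.subset_insert a S').trans hS)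
      obtain ⟨g', hg', hga⟩ := h a (Ideal.subset_span (hS (Finset.mem_insert_self a S')))
      refine ⟨g' * g, fun hmem => ?_, ?_⟩
      · rcases Ideal.IsPrime.mem_or_mem ‹_› hmem with h1 | h1
        · exact hg' h1
        · exact hg h1
      · intro t ht
        rcases Finset.mem_insert.mp ht with rfl | ht
        · rw [mul_comm]; exact hP _ _ _ hga
        · exact hP _ _ _ (hgS t ht)
  obtain ⟨g, hg, hgS⟩ := key S (Finset.Subset.refl S)
  refine ⟨g, hg, fun t ht => ?_⟩
  induction ht using Submodule.span_induction with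
  | mem x hx => exact hgS x hx
  | zero => exact hzero g
  | add x y _ _ hx hy => exact hadd _ _ _ hx hy
  | smul c x _ hx => exact hsmul _ _ _ hx

theorem exists_data {T : Type*} [CommRing T] [IsNoetherianRing T] (q : Ideal T) [q.IsPrime]
    (B : Type*) [CommRing B] [Algebra T B] [IsLocalization.AtPrime B q] (I : Ideal T)
    (π : B) (hπ : π ∈ nonZeroDivisors B) (hI : I.map (algebraMap T B) = Ideal.span {π}) :
    ∃ g, g ∉ q ∧ ∃ t0 ∈ I, (∀ t ∈ I, ∃ c, g * t = c * t0) ∧ (∀ a, a * t0 = 0 → g * a = 0) := by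
  have hπmem : π ∈ I.map (algebraMap T B) := by rw [hI]; exact Ideal.mem_span_singleton_self π
  rw [IsLocalization.mem_map_algebraMap_iff q.primeCompl] at hπmem
  obtain ⟨⟨⟨t0, ht0⟩, s0⟩, hts⟩ := hπmem
  have hs0 : IsUnit (algebraMap T B s0) := IsLocalization.map_units B s0
  have ht0reg : algebraMap T B t0 ∈ nonZeroDivisors B := by
    have : algebraMap T B t0 = π * algebraMap T B s0 := hts.symm
    rw [this]
    exact mul_mem hπ hs0.mem_nonZeroDivisors
  have hspan : Ideal.span {π} = Ideal.span {algebraMap T B t0} := by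
    have : algebraMap T B t0 = π * algebraMap T B s0 := hts.symm
    rw [this]
    exact (Ideal.span_singleton_mul_right_unit hs0 π).symm
  -- first multiplier
  obtain ⟨g₁, hg₁, hg₁I⟩ := exists_common_mul q I (IsNoetherian.noetherian I)
    (fun g t => ∃ c, g * t = c * t0)
    (fun g g' t ⟨c, hc⟩ => ⟨g' * c, by rw [mul_assoc, hc, mul_assoc]⟩)
    (fun g t t' ⟨c, hc⟩ ⟨c', hc'⟩ => ⟨c + c', by rw [mul_add, hc, hc', add_mul]⟩)
    (fun g c t ⟨c', hc'⟩ => ⟨c * c', by rw [mul_left_comm, hc', mul_assoc]⟩)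
    (fun g => ⟨0, by simp⟩)
    (by
      intro t ht
      have h1 : algebraMap T B t ∈ Ideal.span {algebraMap T B t0} := by
        rw [← hspan, ← hI]; exact Ideal.mem_map_of_mem _ ht
      obtain ⟨β, hβ⟩ := Ideal.mem_span_singleton'.mp h1
      obtain ⟨⟨c, s⟩, hcs⟩ := IsLocalization.surj q.primeCompl β
      have h2 : algebraMap T B (s * t) = algebraMap T B (c * t0) := by
        rw [map_mul, map_mul, ← hβ, ← hcs]; ring
      obtain ⟨u, hu⟩ := (IsLocalization.eq_iff_exists q.primeCompl B).mp h2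
      refine ⟨u * s, fun hmem => ?_, u * c, by rw [mul_assoc, hu, mul_assoc]⟩
      rcases Ideal.IsPrime.mem_or_mem ‹_› hmem with h | h
      · exact u.2 h
      · exact s.2 h)
  -- second multiplier
  let A : Ideal T := (Ideal.span {t0}).annihilator
  have hA : ∀ a, a ∈ A ↔ a * t0 = 0 := fun a => Submodule.mem_annihilator_span_singleton _ _
  obtain ⟨g₂, hg₂, hg₂A⟩ := exists_common_mul q A (IsNoetherian.noetherian A)
    (fun g a => g * a = 0)
    (fun g g' a h => by rw [mul_assoc, h, mul_zero])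
    (fun g a a' h h' => by rw [mul_add, h, h', add_zero])
    (fun g c a h => by rw [mul_left_comm, h, mul_zero])
    (fun g => mul_zero g)
    (by
      intro a ha
      rw [hA] at ha
      have h1 : algebraMap T B a * algebraMap T B t0 = 0 := by rw [← map_mul, ha, map_zero]
      have h2 : algebraMap T B a = 0 := (mem_nonZeroDivisors_iff_right.mp ht0reg) _ h1
      rw [IsLocalization.map_eq_zero_iff q.primeCompl] at h2
      obtain ⟨u, hu⟩ := h2
      exact ⟨u, u.2, hu⟩)
  refine ⟨g₂ * g₁, fun hmem => ?_, t0, ht0, fun t ht => ?_, fun a ha => ?_⟩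
  · rcases Ideal.IsPrime.mem_or_mem ‹_› hmem with h | h
    · exact hg₂ h
    · exact hg₁ h
  · obtain ⟨c, hc⟩ := hg₁I t ht
    exact ⟨g₂ * c, by rw [mul_assoc, hc, mul_assoc]⟩
  · have := hg₂A a ((hA a).mpr ha)
    rw [mul_right_comm, this, zero_mul]

/-- Consequence in a localization `Tg` of `T` away from `g`. -/
theorem away_of_data {T : Type*} [CommRing T] (I : Ideal T) (g t0 : T) (ht0 : t0 ∈ I)
    (h1 : ∀ t ∈ I, ∃ c, g * t = c * t0) (h2 : ∀ a, a * t0 = 0 → g * a = 0)
    (Tg : Type*) [CommRing Tg] [Algebra T Tg] [IsLocalization.Away g Tg] :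
    algebraMap T Tg t0 ∈ nonZeroDivisors Tg ∧
      I.map (algebraMap T Tg) = Ideal.span {algebraMap T Tg t0} := by
  have hgu : IsUnit (algebraMap T Tg g) := IsLocalization.Away.algebraMap_isUnit g
  constructor
  · rw [mem_nonZeroDivisors_iff_right]
    intro y hy
    obtain ⟨⟨a, s⟩, has⟩ := IsLocalization.surj (Submonoid.powers g) y
    have hsu : IsUnit (algebraMap T Tg s) := IsLocalization.map_units Tg s
    have h3 : algebraMap T Tg (a * t0) = 0 := by
      rw [map_mul, ← has, mul_right_comm, hy, zero_mul]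
    rw [IsLocalization.map_eq_zero_iff (Submonoid.powers g)] at h3
    obtain ⟨⟨_, n, rfl⟩, hu⟩ := h3
    have h4 : g * (g ^ n * a) = 0 := h2 _ (by rw [mul_assoc]; exact hu)
    have h5 : algebraMap T Tg a = 0 := by
      have : algebraMap T Tg g * ((algebraMap T Tg g) ^ n * algebraMap T Tg a) = 0 := by
        rw [← map_pow, ← map_mul, ← map_mul, h4, map_zero]
      have h6 := (hgu.mul_right_eq_zero).mp this
      exact ((hgu.pow n).mul_right_eq_zero).mp h6
    have : y * algebraMap T Tg s = 0 := by rw [has, h5]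
    exact (hsu.mul_left_eq_zero).mp this
  · apply le_antisymm
    · rw [Ideal.map_le_iff_le_comap]
      intro t ht
      obtain ⟨c, hc⟩ := h1 t ht
      rw [Ideal.mem_comap]
      have : algebraMap T Tg g * algebraMap T Tg t ∈ Ideal.span {algebraMap T Tg t0} := by
        rw [← map_mul, hc, map_mul]
        exact Ideal.mul_mem_left _ _ (Ideal.mem_span_singleton_self _)
      exact (Ideal.unit_mul_mem_iff_mem _ hgu).mp this
    · rw [Ideal.span_singleton_le_iff_mem]
      exact Ideal.mem_map_of_mem _ ht0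


/-- Outside the support the ideal sheaf is locally the unit ideal. -/
theorem cartier_of_not_mem_support {X : Scheme.{u}} (𝓘 : X.IdealSheafData) (x : X)
    (hx : x ∉ 𝓘.support) :
    ∃ U : X.affineOpens, x ∈ U.1 ∧
      ∃ f : Γ(X, U.1), f ∈ nonZeroDivisors Γ(X, U.1) ∧ 𝓘.ideal U = Ideal.span {f} := by
  obtain ⟨_, ⟨U, hU : IsAffineOpen U, rfl⟩, hxU, -⟩ :=
    X.isBasis_affineOpens.exists_subset_of_mem_open (Set.mem_univ x) isOpen_univ
  rw [Scheme.IdealSheafData.mem_support_iff_of_mem (U := ⟨U, hU⟩) hxU, Scheme.mem_zeroLocus_iff] at hx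
  push Not at hx
  obtain ⟨f, hf, hxf⟩ := hx
  refine ⟨X.affineBasicOpen f, hxf, 1, one_mem _, ?_⟩
  rw [Ideal.span_singleton_one, ← 𝓘.map_ideal_basicOpen ⟨U, hU⟩ f]
  refine (Ideal.eq_top_iff_one _).mpr ?_
  have hu : IsUnit ((X.presheaf.map (homOfLE <| X.basicOpen_le f).op).hom f) := by
    letI : Algebra Γ(X, U) Γ(X, X.basicOpen f) :=
      (X.presheaf.map (homOfLE <| X.basicOpen_le f).op).hom.toAlgebra
    haveI : IsLocalization.Away f Γ(X, X.basicOpen f) := hU.isLocalization_basicOpen f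
    exact IsLocalization.Away.algebraMap_isUnit f
  obtain ⟨v, hv⟩ := hu.exists_right_inv
  rw [← hv]
  exact Ideal.mul_mem_right _ _ (Ideal.mem_map_of_mem _ hf)

/-- If the stalk of the ideal at `x` is generated by one nonzerodivisor, the ideal is Cartier near `x`. -/
theorem cartier_of_stalk {X : Scheme.{u}} [IsLocallyNoetherian X] (𝓘 : X.IdealSheafData) (x : X)
    (U : X.affineOpens) (hxU : x ∈ U.1) (π : X.presheaf.stalk x)
    (hπ : π ∈ nonZeroDivisors (X.presheaf.stalk x))
    (hI : (𝓘.ideal U).map (X.presheaf.germ U.1 x hxU).hom = Ideal.span {π}) :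
    ∃ U' : X.affineOpens, x ∈ U'.1 ∧
      ∃ f : Γ(X, U'.1), f ∈ nonZeroDivisors Γ(X, U'.1) ∧ 𝓘.ideal U' = Ideal.span {f} := by
  haveI : IsNoetherianRing Γ(X, U.1) := IsLocallyNoetherian.component_noetherian U
  letI := X.presheaf.algebra_section_stalk ⟨x, hxU⟩
  haveI := U.2.isLocalization_stalk ⟨x, hxU⟩
  obtain ⟨g, hg, t0, ht0, h1, h2⟩ := exists_data (U.2.primeIdealOf ⟨x, hxU⟩).asIdeal
    (X.presheaf.stalk x) (𝓘.ideal U) π hπ hI
  letI : Algebra Γ(X, U.1) Γ(X, (X.affineBasicOpen g).1) :=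
    (X.presheaf.map (homOfLE <| X.basicOpen_le g).op).hom.toAlgebra
  haveI : IsLocalization.Away g Γ(X, (X.affineBasicOpen g).1) := U.2.isLocalization_basicOpen g
  obtain ⟨h3, h4⟩ := away_of_data (𝓘.ideal U) g t0 ht0 h1 h2 Γ(X, (X.affineBasicOpen g).1)
  refine ⟨X.affineBasicOpen g, ?_, _, h3, ?_⟩
  · change x ∈ X.basicOpen g
    rw [Scheme.mem_basicOpen _ _ x hxU]
    exact IsLocalization.map_units (M := (U.2.primeIdealOf ⟨x, hxU⟩).asIdeal.primeCompl)
      (X.presheaf.stalk x) ⟨g, hg⟩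
  · rw [← 𝓘.map_ideal_basicOpen U g]
    exact h4


/-- Membership in the prime of a point of an affine open, via basic opens. -/
theorem mem_primeIdealOf_iff {X : Scheme.{u}} {U : X.Opens} (hU : IsAffineOpen U) (y : X)
    (hy : y ∈ U) (t : Γ(X, U)) :
    t ∈ (hU.primeIdealOf ⟨y, hy⟩).asIdeal ↔ y ∉ X.basicOpen t := by
  letI := X.presheaf.algebra_section_stalk ⟨y, hy⟩
  haveI := hU.isLocalization_stalk ⟨y, hy⟩
  rw [Scheme.mem_basicOpen _ _ y hy]
  have := IsLocalization.AtPrime.isUnit_to_map_iff (X.presheaf.stalk y)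
    (hU.primeIdealOf ⟨y, hy⟩).asIdeal t
  change IsUnit (X.presheaf.germ U y hy t) ↔ _ at this
  rw [this]
  simp

/-- Kernel of the stalk map of the closed subscheme of an ideal sheaf. -/
theorem ker_stalkMap_subschemeι {X : Scheme.{u}} (𝓘 : X.IdealSheafData) (U : X.affineOpens)
    (d : 𝓘.subscheme) (hd : 𝓘.subschemeι d ∈ U.1) :
    RingHom.ker (𝓘.subschemeι.stalkMap d).hom =
      (𝓘.ideal U).map (X.presheaf.germ U.1 (𝓘.subschemeι d) hd).hom := by
  set ι := 𝓘.subschemeι with hι
  have hW : IsAffineOpen (ι ⁻¹ᵁ U.1) := U.2.preimage ι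
  have hdW : d ∈ ι ⁻¹ᵁ U.1 := hd
  letI := X.presheaf.algebra_section_stalk ⟨ι d, hd⟩
  letI := 𝓘.subscheme.presheaf.algebra_section_stalk ⟨d, hdW⟩
  have hB := U.2.isLocalization_stalk ⟨ι d, hd⟩
  have hC := hW.isLocalization_stalk ⟨d, hdW⟩
  have hgerm : ∀ t : Γ(X, U.1), (ι.stalkMap d).hom (X.presheaf.germ U.1 (ι d) hd t) =
      𝓘.subscheme.presheaf.germ (ι ⁻¹ᵁ U.1) d hdW (ι.app U.1 t) := by
    intro t
    have := Scheme.Hom.germ_stalkMap ι U.1 d hd
    exact congr($(this).hom t)
  apply le_antisymm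
  · intro β hβ
    rw [RingHom.mem_ker] at hβ
    obtain ⟨⟨t, s⟩, hts⟩ := IsLocalization.surj (U.2.primeIdealOf ⟨ι d, hd⟩).asIdeal.primeCompl β
    have hs : IsUnit (X.presheaf.germ U.1 (ι d) hd s.1) :=
      IsLocalization.map_units (M := (U.2.primeIdealOf ⟨ι d, hd⟩).asIdeal.primeCompl) _ s
    have hts' : β * X.presheaf.germ U.1 (ι d) hd s.1 = X.presheaf.germ U.1 (ι d) hd t := hts
    have h1 : 𝓘.subscheme.presheaf.germ (ι ⁻¹ᵁ U.1) d hdW (ι.app U.1 t) = 0 := by
      rw [← hgerm, ← hts', map_mul, hβ, zero_mul]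
    have h1' : algebraMap Γ(𝓘.subscheme, ι ⁻¹ᵁ U.1) (𝓘.subscheme.presheaf.stalk d) (ι.app U.1 t) = 0 :=
      h1
    rw [IsLocalization.map_eq_zero_iff (hW.primeIdealOf ⟨d, hdW⟩).asIdeal.primeCompl] at h1'
    obtain ⟨ū, hū⟩ := h1'
    obtain ⟨u, hu⟩ := 𝓘.subschemeι_app_surjective U ū.1
    have hūunit : IsUnit (𝓘.subscheme.presheaf.germ (ι ⁻¹ᵁ U.1) d hdW ū.1) :=
      IsLocalization.map_units (M := (hW.primeIdealOf ⟨d, hdW⟩).asIdeal.primeCompl) _ ū
    have huunit : IsUnit (X.presheaf.germ U.1 (ι d) hd u) := by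
      rw [← hu, ← hgerm] at hūunit
      haveI : IsLocalHom (ι.stalkMap d).hom := ι.toLRSHom.prop d
      exact isUnit_of_map_unit (ι.stalkMap d).hom _ hūunit
    have h2 : u * t ∈ 𝓘.ideal U := by
      rw [← 𝓘.ker_subschemeι_app U, RingHom.mem_ker, map_mul]
      rw [← hu] at hū
      exact hū
    have h3 : X.presheaf.germ U.1 (ι d) hd (u * t) ∈
        (𝓘.ideal U).map (X.presheaf.germ U.1 (ι d) hd).hom := Ideal.mem_map_of_mem _ h2
    rw [map_mul] at h3
    have h4 := (Ideal.unit_mul_mem_iff_mem _ huunit).mp h3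
    rw [← hts'] at h4
    exact (Ideal.mul_unit_mem_iff_mem _ hs).mp h4
  · rw [Ideal.map_le_iff_le_comap]
    intro t ht
    rw [Ideal.mem_comap, RingHom.mem_ker, hgerm]
    have : ι.app U.1 t = 0 := by
      have h := 𝓘.ker_subschemeι_app U
      rw [← h] at ht
      exact ht
    rw [this, map_zero]


/-- In a Noetherian UFD, an ideal all of whose associated primes have height one is principal,
generated by a nonzero element. -/
theorem exists_eq_span_singleton (B : Type*) [CommRing B] [IsDomain B] [IsNoetherianRing B]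
    [UniqueFactorizationMonoid B] (J : Ideal B)
    (h : ∀ P ∈ associatedPrimes B (B ⧸ J), P.height = 1) : ∃ c : B, c ≠ 0 ∧ J = Ideal.span {c} := by
  classical
  letI : StrongNormalizationMonoid B := UniqueFactorizationMonoid.strongNormalizationMonoid
  letI : NormalizationMonoid B := inferInstance
  letI : NormalizedGCDMonoid B := UniqueFactorizationMonoid.toNormalizedGCDMonoid B
  -- J ≠ ⊥
  have hJne : J ≠ ⊥ := by
    rintro rfl
    haveI : Nontrivial (B ⧸ (⊥ : Ideal B)) := Ideal.Quotient.nontrivial_iff.mpr bot_ne_top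
    obtain ⟨P, hP⟩ := associatedPrimes.nonempty B (B ⧸ (⊥ : Ideal B))
    have h1 := h P hP
    rw [AssociatedPrimes.mem_iff, isAssociatedPrime_iff] at hP
    obtain ⟨hPp, x, hx⟩ := hP
    obtain ⟨y, rfl⟩ := Ideal.Quotient.mk_surjective x
    have hP0 : P = ⊥ := by
      rw [eq_bot_iff]
      intro b hb
      rw [hx, Submodule.mem_colon_singleton] at hb
      have hb' : Ideal.Quotient.mk (⊥ : Ideal B) (b * y) = 0 := by
        simpa [Algebra.smul_def] using hb
      rw [Ideal.Quotient.eq_zero_iff_mem, Ideal.mem_bot] at hb'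
      rcases mul_eq_zero.mp hb' with h0 | h0
      · exact h0
      · exfalso
        have : (1 : B) ∈ P := by
          rw [hx, Submodule.mem_colon_singleton, h0]
          simp
        exact hPp.ne_top ((Ideal.eq_top_iff_one _).mpr this)
    rw [hP0, Ideal.height_bot] at h1
    exact zero_ne_one h1
  obtain ⟨S, hS⟩ := (IsNoetherian.noetherian J : J.FG)
  have hSne : S.Nonempty := by
    rw [Finset.nonempty_iff_ne_empty]
    rintro rfl
    apply hJne
    rw [← hS]; simp
  obtain ⟨g, hg, hg1⟩ := Finset.extract_gcd (id : B → B) hSne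
  set c := S.gcd id with hc
  have hc0 : c ≠ 0 := by
    intro h0
    rw [hc, Finset.gcd_eq_zero_iff] at h0
    apply hJne
    rw [← hS, Ideal.span_eq_bot]
    intro x hx
    exact h0 x hx
  let J' : Ideal B := Ideal.span (g '' (S : Set B))
  have hJJ' : J = Ideal.span {c} * J' := by
    apply le_antisymm
    · rw [← hS]
      change Ideal.span (S : Set B) ≤ _
      rw [Ideal.span_le]
      intro x hx
      have := hg x hx
      simp only [id] at this
      rw [SetLike.mem_coe, this]
      exact Ideal.mul_mem_mul (Ideal.mem_span_singleton_self c)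
        (Ideal.subset_span ⟨x, hx, rfl⟩)
    · rw [Ideal.span_singleton_mul_le_iff]
      intro z hz
      induction hz using Submodule.span_induction with
      | mem y hy =>
        obtain ⟨b, hb, rfl⟩ := hy
        have := hg b hb
        simp only [id] at this
        rw [← this, ← hS]
        exact Ideal.subset_span hb
      | zero => simp
      | add y z _ _ hy hz => rw [mul_add]; exact J.add_mem hy hz
      | smul a y _ hy => rw [smul_eq_mul, mul_left_comm]; exact J.mul_mem_left a hy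
  refine ⟨c, hc0, ?_⟩
  suffices hJ' : J' = ⊤ by rw [hJJ', hJ', Ideal.mul_top]
  by_contra hJ'
  haveI : Nontrivial (B ⧸ J') := Ideal.Quotient.nontrivial_iff.mpr hJ'
  obtain ⟨P, hP⟩ := associatedPrimes.nonempty B (B ⧸ J')
  -- multiplication by c embeds B/J' into B/J
  have hle : J' ≤ Submodule.comap (LinearMap.mulLeft B c) J := by
    intro x hx
    rw [Submodule.mem_comap, LinearMap.mulLeft_apply, hJJ']
    exact Ideal.mul_mem_mul (Ideal.mem_span_singleton_self c) hx
  let φ : (B ⧸ J') →ₗ[B] (B ⧸ J) := Submodule.mapQ J' J (LinearMap.mulLeft B c) hle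
  have hφ : Function.Injective φ := by
    rw [injective_iff_map_eq_zero]
    intro x hx
    obtain ⟨y, rfl⟩ := Submodule.Quotient.mk_surjective _ x
    change Submodule.Quotient.mk (c * y) = 0 at hx
    rw [Submodule.Quotient.mk_eq_zero, hJJ', Ideal.mem_span_singleton_mul] at hx
    obtain ⟨z, hz, hcz⟩ := hx
    have : z = y := mul_left_cancel₀ hc0 hcz
    rw [Submodule.Quotient.mk_eq_zero, ← this]
    exact hz
  have hPJ : P ∈ associatedPrimes B (B ⧸ J) := associatedPrimes.subset_of_injective hφ hP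
  have hPht := h P hPJ
  have hPp : P.IsPrime := hP.isPrime
  have hJ'P : J' ≤ P := by
    have := IsAssociatedPrime.annihilator_le hP
    intro x hx
    apply this
    rw [Submodule.mem_annihilator]
    intro y _
    obtain ⟨y, rfl⟩ := Submodule.Quotient.mk_surjective _ y
    change Submodule.Quotient.mk (x * y) = 0
    rw [Submodule.Quotient.mk_eq_zero]
    exact J'.mul_mem_right y hx
  have hPne := Ideal.ne_bot_of_height_eq_one hPht
  obtain ⟨p, hpP, hp⟩ := Ideal.IsPrime.exists_mem_prime_of_ne_bot hPp hPne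
  have hPeq := Ideal.eq_span_singleton_of_height_eq_one hPht hpP hp
  have hdvd : p ∣ S.gcd g := by
    apply Finset.dvd_gcd
    intro b hb
    have : g b ∈ P := hJ'P (Ideal.subset_span ⟨b, hb, rfl⟩)
    rw [hPeq, Ideal.mem_span_singleton] at this
    exact this
  rw [hg1] at hdvd
  exact hp.not_isUnit (isUnit_of_dvd_one hdvd)


theorem comap_mem_associatedPrimes {T : Type*} [CommRing T] [IsNoetherianRing T] (q : Ideal T)
    [q.IsPrime] (B : Type*) [CommRing B] [Algebra T B] [IsLocalization.AtPrime B q] (I : Ideal T)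
    (P' : Ideal B) (hP' : P' ∈ associatedPrimes B (B ⧸ I.map (algebraMap T B))) :
    P'.comap (algebraMap T B) ∈ associatedPrimes T (T ⧸ I) := by
  haveI : IsNoetherianRing B := IsLocalization.isNoetherianRing q.primeCompl B inferInstance
  rw [AssociatedPrimes.mem_iff, isAssociatedPrime_iff] at hP' ⊢
  obtain ⟨hPp, x, hx⟩ := hP'
  obtain ⟨b, rfl⟩ := Ideal.Quotient.mk_surjective x
  have hmem : ∀ y : B, y ∈ P' ↔ y * b ∈ I.map (algebraMap T B) := by
    intro y
    rw [hx, Submodule.mem_colon_singleton]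
    change Ideal.Quotient.mk _ (y * b) ∈ (⊥ : Submodule B _) ↔ _
    rw [Submodule.mem_bot, Ideal.Quotient.eq_zero_iff_mem]
  obtain ⟨⟨t, s⟩, hts⟩ := IsLocalization.surj q.primeCompl b
  have hsu : IsUnit (algebraMap T B s) := IsLocalization.map_units B s
  have hmem' : ∀ y : B, y ∈ P' ↔ y * algebraMap T B t ∈ I.map (algebraMap T B) := by
    intro y
    rw [hmem, ← hts, ← mul_assoc]
    exact (Ideal.mul_unit_mem_iff_mem _ hsu).symm
  refine ⟨Ideal.comap_isPrime _ _, ?_⟩
  obtain ⟨g, hg, hgP⟩ := exists_common_mul q (P'.comap (algebraMap T B))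
    (IsNoetherian.noetherian _) (fun g a => g * a * t ∈ I)
    (fun g g' a h => by rw [mul_assoc, mul_assoc]; rw [mul_assoc] at h; exact I.mul_mem_left g' h)
    (fun g a a' h h' => by rw [mul_add, add_mul]; exact I.add_mem h h')
    (fun g c a h => by
      have : g * (c * a) * t = c * (g * a * t) := by ring
      rw [this]; exact I.mul_mem_left c h)
    (fun g => by simp)
    (by
      intro a ha
      rw [Ideal.mem_comap, hmem', ← map_mul, IsLocalization.mem_map_algebraMap_iff q.primeCompl] at ha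
      obtain ⟨⟨⟨i, hi⟩, u⟩, hiu⟩ := ha
      have h2 : algebraMap T B (a * t * u) = algebraMap T B i := by rw [map_mul]; exact hiu
      obtain ⟨v, hv⟩ := (IsLocalization.eq_iff_exists q.primeCompl B).mp h2
      refine ⟨v * u, fun hmem => ?_, ?_⟩
      · rcases Ideal.IsPrime.mem_or_mem ‹_› hmem with h | h
        · exact v.2 h
        · exact u.2 h
      · have : (v : T) * u * a * t = v * (a * t * u) := by ring
        rw [this, hv]
        exact I.mul_mem_left _ hi)
  refine ⟨Ideal.Quotient.mk I (g * t), ?_⟩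
  ext a
  rw [Submodule.mem_colon_singleton]
  change _ ↔ Ideal.Quotient.mk I (a * (g * t)) ∈ (⊥ : Submodule T _)
  rw [Submodule.mem_bot, Ideal.Quotient.eq_zero_iff_mem]
  constructor
  · intro ha
    have := hgP a ha
    have e : a * (g * t) = g * a * t := by ring
    rw [e]; exact this
  · intro ha
    rw [Ideal.mem_comap, hmem']
    have h1 : algebraMap T B (a * (g * t)) ∈ I.map (algebraMap T B) := Ideal.mem_map_of_mem _ ha
    have hgu : IsUnit (algebraMap T B g) := IsLocalization.map_units B (⟨g, hg⟩ : q.primeCompl)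
    have e : algebraMap T B (a * (g * t)) = algebraMap T B g * (algebraMap T B a * algebraMap T B t) := by
      simp only [map_mul]; ring
    rw [e] at h1
    exact (Ideal.unit_mul_mem_iff_mem _ hgu).mp h1


/-- (S): an associated prime of `Γ(X,U)/𝓘(U)` at the point `ι z` makes the maximal ideal of
`O_{Z,z}` associated. -/
theorem isAssociatedPrime_maximalIdeal {X : Scheme.{u}} (𝓘 : X.IdealSheafData) (U : X.affineOpens)
    (z : 𝓘.subscheme) (hz : 𝓘.subschemeι z ∈ U.1) (t : Γ(X, U.1))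
    (hP : ∀ a : Γ(X, U.1), a ∈ (U.2.primeIdealOf ⟨𝓘.subschemeι z, hz⟩).asIdeal ↔ a * t ∈ 𝓘.ideal U) :
    IsAssociatedPrime (IsLocalRing.maximalIdeal (𝓘.subscheme.presheaf.stalk z))
      (𝓘.subscheme.presheaf.stalk z) := by
  set ι := 𝓘.subschemeι with hι
  have hker := ker_stalkMap_subschemeι 𝓘 U z hz
  have hkerapp := 𝓘.ker_subschemeι_app U
  have hzW : z ∈ ι ⁻¹ᵁ U.1 := hz
  letI := X.presheaf.algebra_section_stalk ⟨ι z, hz⟩
  haveI hloc := U.2.isLocalization_stalk ⟨ι z, hz⟩
  set Pz := (U.2.primeIdealOf ⟨ι z, hz⟩).asIdeal with hPz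
  have hgerm : ∀ a : Γ(X, U.1), (ι.stalkMap z).hom (X.presheaf.germ U.1 (ι z) hz a) =
      𝓘.subscheme.presheaf.germ (ι ⁻¹ᵁ U.1) z hzW (ι.app U.1 a) := by
    intro a
    have := Scheme.Hom.germ_stalkMap ι U.1 z hz
    exact congr($(this).hom a)
  haveI : IsLocalHom (ι.stalkMap z).hom := ι.toLRSHom.prop z
  have hsurj : Function.Surjective (ι.stalkMap z).hom := ι.stalkMap_surjective z
  set w := (ι.stalkMap z).hom (X.presheaf.germ U.1 (ι z) hz t) with hw
  -- w ≠ 0
  have hw0 : w ≠ 0 := by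
    intro h0
    have h1 : X.presheaf.germ U.1 (ι z) hz t ∈ RingHom.ker (ι.stalkMap z).hom := h0
    rw [hker] at h1
    change algebraMap Γ(X, U.1) (X.presheaf.stalk (ι z)) t ∈
      (𝓘.ideal U).map (algebraMap Γ(X, U.1) (X.presheaf.stalk (ι z))) at h1
    rw [IsLocalization.mem_map_algebraMap_iff Pz.primeCompl] at h1
    obtain ⟨⟨⟨i, hi⟩, u⟩, hiu⟩ := h1
    have h2 : algebraMap Γ(X, U.1) (X.presheaf.stalk (ι z)) (t * u) =
        algebraMap Γ(X, U.1) (X.presheaf.stalk (ι z)) i := by rw [map_mul]; exact hiu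
    obtain ⟨v, hv⟩ := (IsLocalization.eq_iff_exists Pz.primeCompl _).mp h2
    have h3 : (v : Γ(X, U.1)) * u ∈ Pz := by
      rw [hP]
      have : (v : Γ(X, U.1)) * u * t = v * (t * u) := by ring
      rw [this, hv]
      exact (𝓘.ideal U).mul_mem_left _ hi
    rcases Ideal.IsPrime.mem_or_mem (U.2.primeIdealOf ⟨ι z, hz⟩).isPrime h3 with h | h
    · exact v.2 h
    · exact u.2 h
  have hcolon : Submodule.colon (⊥ : Submodule (𝓘.subscheme.presheaf.stalk z)
      (𝓘.subscheme.presheaf.stalk z)) {w} =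
      IsLocalRing.maximalIdeal (𝓘.subscheme.presheaf.stalk z) := by
    apply le_antisymm
    · apply IsLocalRing.le_maximalIdeal
      intro htop
      have : (1 : 𝓘.subscheme.presheaf.stalk z) ∈ Submodule.colon (⊥ : Submodule
          (𝓘.subscheme.presheaf.stalk z) (𝓘.subscheme.presheaf.stalk z)) {w} := by
        rw [htop]; trivial
      rw [Submodule.mem_colon_singleton, one_smul, Submodule.mem_bot] at this
      exact hw0 this
    · intro c hc
      rw [Submodule.mem_colon_singleton, Submodule.mem_bot, smul_eq_mul]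
      obtain ⟨β, rfl⟩ := hsurj c
      have hβ : β ∈ IsLocalRing.maximalIdeal (X.presheaf.stalk (ι z)) := by
        rw [IsLocalRing.mem_maximalIdeal, mem_nonunits_iff] at hc ⊢
        intro hu
        exact hc (hu.map _)
      obtain ⟨⟨a, s⟩, has⟩ := IsLocalization.surj Pz.primeCompl β
      have hsu : IsUnit (algebraMap Γ(X, U.1) (X.presheaf.stalk (ι z)) s) :=
        IsLocalization.map_units _ s
      have ha : a ∈ Pz := by
        rw [← IsLocalization.AtPrime.to_map_mem_maximal_iff (X.presheaf.stalk (ι z)) Pz a,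
          ← has]
        exact Ideal.mul_mem_right _ _ hβ
      have hat : a * t ∈ 𝓘.ideal U := (hP a).mp ha
      have h4 : (ι.stalkMap z).hom (X.presheaf.germ U.1 (ι z) hz (a * t)) = 0 := by
        rw [hgerm]
        have : ι.app U.1 (a * t) = 0 := by rw [← hkerapp] at hat; exact hat
        rw [this, map_zero]
      have h5 : (ι.stalkMap z).hom β * w * (ι.stalkMap z).hom (X.presheaf.germ U.1 (ι z) hz s) = 0 := by
        rw [hw, ← map_mul, ← map_mul]
        have : β * (X.presheaf.germ U.1 (ι z) hz t) * (X.presheaf.germ U.1 (ι z) hz s) =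
            X.presheaf.germ U.1 (ι z) hz (a * t) := by
          have has' : β * X.presheaf.germ U.1 (ι z) hz s = X.presheaf.germ U.1 (ι z) hz a := has
          rw [map_mul, ← has']; ring
        rw [this, h4]
      have hsu' : IsUnit ((ι.stalkMap z).hom (X.presheaf.germ U.1 (ι z) hz s)) := hsu.map _
      exact (hsu'.mul_left_eq_zero).mp h5
  refine ⟨inferInstance, w, ?_⟩
  rw [hcolon, Ideal.IsPrime.radical inferInstance]

theorem main (X : Scheme.{u}) [IsNoetherian X] (𝓘 : X.IdealSheafData)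
    (h1 : ∀ z : ↥𝓘.subscheme, IsAssociatedPrime (IsLocalRing.maximalIdeal ↑(𝓘.subscheme.presheaf.stalk z)) ↑(𝓘.subscheme.presheaf.stalk z) → ∀ z' : ↥𝓘.subscheme, z' ⤳ z → z' = z)
    (h2 : ∀ z : ↥𝓘.subscheme, (∀ z' : ↥𝓘.subscheme, z' ⤳ z → z' = z) →
      ringKrullDim (X.presheaf.stalk (𝓘.subschemeι z)) = 1)
    (h3 : ∀ x : ↥X, x ∈ 𝓘.support → IsDomain (X.presheaf.stalk x) ∧ UniqueFactorizationMonoid (X.presheaf.stalk x)) :
    BlowUp.IsEffCartierIdeal 𝓘 := by
  intro x
  by_cases hx : x ∈ 𝓘.support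
  · obtain ⟨d, rfl⟩ : ∃ d, 𝓘.subschemeι d = x := by
      have : x ∈ Set.range 𝓘.subschemeι := by rw [𝓘.range_subschemeι]; exact hx
      exact this
    obtain ⟨_, ⟨U, hU : IsAffineOpen U, rfl⟩, hxU, -⟩ :=
      X.isBasis_affineOpens.exists_subset_of_mem_open (Set.mem_univ (𝓘.subschemeι d)) isOpen_univ
    set ι := 𝓘.subschemeι with hι
    haveI : IsNoetherianRing Γ(X, U) := IsLocallyNoetherian.component_noetherian ⟨U, hU⟩
    obtain ⟨hdom, hufd'⟩ := h3 (ι d) hx
    letI := X.presheaf.algebra_section_stalk ⟨ι d, hxU⟩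
    haveI hloc := hU.isLocalization_stalk ⟨ι d, hxU⟩
    have hS : ∀ P ∈ associatedPrimes Γ(X, U) (Γ(X, U) ⧸ 𝓘.ideal ⟨U, hU⟩), P.height = 1 := by
      intro P hP
      rw [AssociatedPrimes.mem_iff, isAssociatedPrime_iff] at hP
      obtain ⟨hPp, tb, hPt⟩ := hP
      obtain ⟨t, rfl⟩ := Ideal.Quotient.mk_surjective tb
      have hmem : ∀ a, a ∈ P ↔ a * t ∈ 𝓘.ideal ⟨U, hU⟩ := by
        intro a
        rw [hPt, Submodule.mem_colon_singleton]
        change Ideal.Quotient.mk _ (a * t) ∈ (⊥ : Submodule Γ(X, U) _) ↔ _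
        rw [Submodule.mem_bot, Ideal.Quotient.eq_zero_iff_mem]
      have hIP : 𝓘.ideal ⟨U, hU⟩ ≤ P := fun a ha => (hmem a).mpr (Ideal.mul_mem_right _ _ ha)
      have hyU : hU.fromSpec ⟨P, hPp⟩ ∈ U := by
        have : hU.fromSpec ⟨P, hPp⟩ ∈ hU.fromSpec.opensRange := ⟨_, rfl⟩
        rwa [hU.opensRange_fromSpec] at this
      have hprimeOf : hU.primeIdealOf ⟨hU.fromSpec ⟨P, hPp⟩, hyU⟩ = ⟨P, hPp⟩ := by
        apply hU.fromSpec.isOpenEmbedding.injective
        rw [hU.fromSpec_primeIdealOf]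
      have hysupp : hU.fromSpec ⟨P, hPp⟩ ∈ 𝓘.support := by
        rw [Scheme.IdealSheafData.mem_support_iff_of_mem (U := ⟨U, hU⟩) hyU, Scheme.mem_zeroLocus_iff]
        intro f hf
        rw [← mem_primeIdealOf_iff hU _ hyU, hprimeOf]
        exact hIP hf
      obtain ⟨z, hz⟩ : ∃ z, ι z = hU.fromSpec ⟨P, hPp⟩ := by
        have : hU.fromSpec ⟨P, hPp⟩ ∈ Set.range 𝓘.subschemeι := by
          rw [𝓘.range_subschemeι]; exact hysupp
        exact this
      have hzU : ι z ∈ U := hz ▸ hyU
      have hPz : (hU.primeIdealOf ⟨ι z, hzU⟩).asIdeal = P := by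
        have : hU.primeIdealOf ⟨ι z, hzU⟩ = ⟨P, hPp⟩ := by
          apply hU.fromSpec.isOpenEmbedding.injective
          rw [hU.fromSpec_primeIdealOf]
          exact hz
        rw [this]
      have hass := isAssociatedPrime_maximalIdeal 𝓘 ⟨U, hU⟩ z hzU t
        (by intro a; rw [hPz]; exact hmem a)
      have hdim := h2 z (h1 z hass)
      letI := X.presheaf.algebra_section_stalk ⟨ι z, hzU⟩
      have hloc_z := hU.isLocalization_stalk ⟨ι z, hzU⟩
      have h5 := @IsLocalization.AtPrime.ringKrullDim_eq_height _ _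
        (hU.primeIdealOf ⟨ι z, hzU⟩).asIdeal _ (X.presheaf.stalk (ι z)) _ _ hloc_z
      rw [hdim, hPz] at h5
      exact_mod_cast h5.symm
    have hB : ∀ P' ∈ associatedPrimes (X.presheaf.stalk (ι d)) (X.presheaf.stalk (ι d) ⧸
        (𝓘.ideal ⟨U, hU⟩).map (algebraMap Γ(X, U) (X.presheaf.stalk (ι d)))), P'.height = 1 := by
      intro P' hP'
      have := comap_mem_associatedPrimes (hU.primeIdealOf ⟨ι d, hxU⟩).asIdeal
        (X.presheaf.stalk (ι d)) (𝓘.ideal ⟨U, hU⟩) P' hP'
      rw [← IsLocalization.height_under (hU.primeIdealOf ⟨ι d, hxU⟩).asIdeal.primeCompl P']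
      exact hS _ this
    obtain ⟨c, hc0, hJ⟩ := exists_eq_span_singleton (X.presheaf.stalk (ι d)) _ hB
    exact cartier_of_stalk 𝓘 (ι d) ⟨U, hU⟩ hxU c (mem_nonZeroDivisors_of_ne_zero hc0) hJ
  · exact cartier_of_not_mem_support 𝓘 x hx

end H1.S1700aux

/-- Let X be a Noetherian scheme and 𝓘 a quasi-coherent ideal sheaf with closed subscheme Z such that
(1) Z has no embedded points: every point of Z whose local ring has its maximal ideal associated is
a maximal point of Z; (2) every maximal point of Z has codimension 1 in X (the local ring of X there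
has dimension 1); (3) the local ring of X at every point of Z is a unique factorisation domain. Then
𝓘 is the ideal sheaf of an effective Cartier divisor. -/
theorem result (X : Scheme.{u}) [IsNoetherian X] (𝓘 : X.IdealSheafData)
    (h1 : ∀ z : ↥𝓘.subscheme, IsAssociatedPrime (IsLocalRing.maximalIdeal ↑(𝓘.subscheme.presheaf.stalk z)) ↑(𝓘.subscheme.presheaf.stalk z) → ∀ z' : ↥𝓘.subscheme, z' ⤳ z → z' = z)
    (h2 : ∀ z : ↥𝓘.subscheme, (∀ z' : ↥𝓘.subscheme, z' ⤳ z → z' = z) →
      ringKrullDim (X.presheaf.stalk (𝓘.subschemeι z)) = 1)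
    (h3 : ∀ x : ↥X, x ∈ 𝓘.support → IsDomain (X.presheaf.stalk x) ∧ UniqueFactorizationMonoid (X.presheaf.stalk x)) :
    BlowUp.IsEffCartierIdeal 𝓘 := by
  exact H1.S1700aux.main X 𝓘 h1 h2 h3

end Groth.Agent.S1700
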