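import Groth.Statements.S17004
import Groth.Agent.Lib.Helper7.QuadGrp.HalfDisc
-- import your own Groth.Agent.* helpers here

set_option autoImplicit false
universe u
open scoped TensorProduct
open QuadGrp

namespace Groth.Agent.S17004

/-- Let Q be a non-degenerate quadratic form on R^n, n ≥ 3, over a commutative ring R (perfect polar
pairing for even n, unit half-discriminant in the standard basis for odd n). An isometry g of Q
commutes, after base change to every R-algebra A, with every isometry of Q_A if and only if g is
multiplication by a scalar whose square is one. (Points-level form of: the functorial centre of the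
orthogonal group is the central μ₂; the algebras range over the universe of R, which contains the
coordinate ring of the orthogonal group.) -/
theorem result (R : Type u) [CommRing R] (n : ℕ) (hn : 3 ≤ n)
    (Q : QuadraticForm R (Fin n → R))
    (hQ : QuadGrp.IsNondeg (Pi.basisFun R (Fin n)) (LinearEquiv.refl R R) Q)
    (g : (Fin n → R) ≃ₗ[R] (Fin n → R)) (hg : g ∈ QuadGrp.O Q) :
    (∀ (A : Type u) [CommRing A] [Algebra R A], ∀ h ∈ QuadGrp.orth Q A,
        g.baseChange R A (Fin n → R) (Fin n → R) * h = h * g.baseChange R A (Fin n → R) (Fin n → R)) ↔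
      ∃ c : R, c * c = 1 ∧ ∀ v, g v = c • v := by
  have hPF := Groth.Agent.H7.QG.polarFaithful_of_isNondeg (by omega) Q hQ
  constructor
  · intro hcomm
    obtain ⟨c, hc⟩ := Groth.Agent.H7.QG.scalar_of_identity (by omega) g
      (Groth.Agent.H7.QG.gpoly_identity hPF g hcomm)
    exact ⟨c, Groth.Agent.H7.QG.sq_eq_one_of_scalar hPF g hg c hc, hc⟩
  · rintro ⟨c, _, hc⟩ A _ _ h _
    exact Groth.Agent.H7.QG.comm_of_scalar g c hc A h

end Groth.Agent.S17004
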