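import Groth.Statements.S17008
import Groth.Agent.Lib.Helper9.Misc.QG9

set_option autoImplicit false
universe u v
open QuadGrp

namespace Groth.Agent.S17008

/-- Over a local ring, let Q be a quadratic form on a finite free module M of even rank 2m ≥ 2 whose
polar form is a perfect pairing. Then every isometry of Q satisfying the Dickson condition is
conjugation by a point of the even Clifford group: an even, locally homogeneous unit u of C(Q)
normalising M with u v u⁻¹ = g v for all v in M. (Points-level form over a local base of: the even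
Clifford group is a central extension of the special orthogonal group by the multiplicative group.) -/
theorem result {R : Type u} [CommRing R] [IsLocalRing R]
    {M : Type v} [AddCommGroup M] [Module R M] [Module.Free R M] [Module.Finite R M]
    (m : ℕ) (hm : 1 ≤ m) (hM : Module.finrank R M = 2 * m) (Q : QuadraticForm R M) (hQ : QuadGrp.IsRegular Q)
    (g : M ≃ₗ[R] M) (hg : g ∈ QuadGrp.SOeven Q) :
    ∃ u ∈ QuadGrp.GSpin Q, ∀ v : M,
      (u : CliffordAlgebra Q) * CliffordAlgebra.ι Q v * ↑u⁻¹ = CliffordAlgebra.ι Q (g v) := by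
  classical
  obtain ⟨hgO, hD⟩ := hg
  have hM2 : 2 ≤ Module.finrank R M := by omega
  obtain ⟨y, hy⟩ := Groth.Agent.H9.QG.exists_good m M Q hQ hM
  obtain ⟨x₀, hx₀⟩ := Groth.Agent.H9.QG.exists_isUnit_value Q hQ hM2
  obtain ⟨u, hu⟩ := Groth.Agent.H9.QG.exists_conj_of_isometry Q hQ m hM g hgO
  have hfix := (hy.isDicksonTrivial_iff (Module.finBasis R M) hQ x₀ hx₀ g hgO).mp hD
  have hconj := Groth.Agent.H9.QG.conj_eq_map u g hgO hu y
  rw [hfix] at hconj
  have hcomm : y * (u : CliffordAlgebra Q) = u * y := by
    calc y * (u : CliffordAlgebra Q) = ((u : CliffordAlgebra Q) * y * ↑u⁻¹) * u := by rw [hconj]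
      _ = u * y := by rw [mul_assoc, Units.inv_mul, mul_one]
  have hev : (u : CliffordAlgebra Q) ∈ CliffordAlgebra.evenOdd Q 0 := hy.mem_even_of_comm hcomm
  refine ⟨u, ⟨⟨Groth.Agent.H9.QG.mem_GPin'_of_equiv u g hu, ?_⟩, hev⟩, hu⟩
  exact ⟨1, IsIdempotentElem.one, by rwa [one_smul],
    by rw [sub_self, zero_smul]; exact Submodule.zero_mem _⟩

end Groth.Agent.S17008
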