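import Groth.Statements.S1701
import Mathlib

set_option autoImplicit false
universe u
open CategoryTheory CategoryTheory.Limits AlgebraicGeometry TopologicalSpace
open SDiv

namespace Groth.Agent.S1701

namespace H1.S1701aux
open TensorProduct

/-- Core lemma: `B` Noetherian, `b` in the Jacobson radical, a nonzerodivisor with `B/bB` flat over
`R`; then `B` is flat over `R`. -/
theorem flat_of_flat_quotient (R B : Type*) [CommRing R] [CommRing B] [Algebra R B]
    [IsNoetherianRing B] (b : B) (hb : b ∈ Ideal.jacobson (⊥ : Ideal B))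
    (hreg : b ∈ nonZeroDivisors B) [Module.Flat R (B ⧸ Ideal.span {b})] : Module.Flat R B := by
  rw [Module.Flat.iff_lTensor_injective]
  intro I hI
  haveI : Module.Finite R I := Module.Finite.iff_fg.mpr hI
  let ψ : B ⊗[R] I →ₗ[B] B ⊗[R] R := (I.subtype).baseChange B
  have hψ : ∀ z, ψ z = (I.subtype.lTensor B) z := fun z => rfl
  let K : Submodule B (B ⊗[R] I) := LinearMap.ker ψ
  have hKfg : K.FG := IsNoetherian.noetherian K
  have hK : K = ⊥ := by
    apply Submodule.eq_bot_of_le_smul_of_le_jacobson_bot (Ideal.span {b}) K hKfg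
    · intro z hz
      have hz0 : ψ z = 0 := hz
      let C := B ⧸ Ideal.span {b}
      let π : B →ₗ[R] C := (Ideal.Quotient.mkₐ R (Ideal.span {b})).toLinearMap
      let f : B →ₗ[R] B := LinearMap.mulLeft R b
      have hex : Function.Exact f π := by
        intro y
        constructor
        · intro hy
          have : y ∈ Ideal.span {b} := Ideal.Quotient.eq_zero_iff_mem.mp hy
          obtain ⟨c, rfl⟩ := Ideal.mem_span_singleton'.mp this
          exact ⟨c, by simp [f, mul_comm]⟩
        · rintro ⟨c, rfl⟩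
          change Ideal.Quotient.mk _ (b * c) = 0
          exact Ideal.Quotient.eq_zero_iff_mem.mpr (Ideal.mul_mem_right _ _ (Ideal.mem_span_singleton_self b))
      have hsurj : Function.Surjective π := Ideal.Quotient.mk_surjective
      have hex' := rTensor_exact I hex hsurj
      have h1 : (π.rTensor I) z = 0 := by
        have hinj : Function.Injective (I.subtype.lTensor C) :=
          Module.Flat.lTensor_preserves_injective_linearMap _ Subtype.val_injective
        apply hinj
        rw [map_zero, ← LinearMap.comp_apply, LinearMap.lTensor_comp_rTensor,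
          ← LinearMap.rTensor_comp_lTensor, LinearMap.comp_apply, ← hψ, hz0, map_zero]
      obtain ⟨z', hz'⟩ := (hex' z).mp h1
      have hfz : ∀ w : B ⊗[R] I, (f.rTensor I) w = b • w := by
        intro w
        induction w using TensorProduct.induction_on with
        | zero => simp
        | tmul x i => simp [f, TensorProduct.smul_tmul']
        | add x y hx hy => rw [map_add, hx, hy, smul_add]
      rw [hfz] at hz'
      have hz'K : z' ∈ K := by
        change ψ z' = 0
        have h2 : b • ψ z' = 0 := by rw [← map_smul, hz', hz0]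
        let e : B ⊗[R] R ≃ₗ[B] B := TensorProduct.AlgebraTensorModule.rid R B B
        have h3 : b * e (ψ z') = 0 := by
          rw [← smul_eq_mul, ← map_smul, h2, map_zero]
        have h4 : e (ψ z') = 0 := by
          rw [mul_comm] at h3
          exact (mem_nonZeroDivisors_iff_right.mp hreg) _ h3
        exact e.injective (by rw [h4, map_zero])
      rw [← hz']
      exact Submodule.smul_mem_smul (Ideal.mem_span_singleton_self b) hz'K
    · rw [Ideal.span_singleton_le_iff_mem]
      exact hb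
  intro z w hzw
  have : z - w ∈ K := by
    change ψ (z - w) = 0
    rw [map_sub, hψ, hψ, hzw, sub_self]
  rw [hK] at this
  exact sub_eq_zero.mp ((Submodule.mem_bot B).mp this)


/-- Kernel of the stalk map of the closed subscheme of an ideal sheaf. -/
theorem ker_stalkMap_subschemeι {X : Scheme.{u}} (𝓘 : X.IdealSheafData) (U : X.affineOpens)
    (d : 𝓘.subscheme) (hd : 𝓘.subschemeι d ∈ U.1) :
    RingHom.ker (𝓘.subschemeι.stalkMap d).hom =
      (𝓘.ideal U).map (X.presheaf.germ U.1 (𝓘.subschemeι d) hd).hom := by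
  set ι := 𝓘.subschemeι with hι
  have hW : IsAffineOpen (ι ⁻¹ᵁ U.1) := U.2.preimage ι
  have hdW : d ∈ ι ⁻¹ᵁ U.1 := hd
  letI := X.presheaf.algebra_section_stalk ⟨ι d, hd⟩
  letI := 𝓘.subscheme.presheaf.algebra_section_stalk ⟨d, hdW⟩
  have hB := U.2.isLocalization_stalk ⟨ι d, hd⟩
  have hC := hW.isLocalization_stalk ⟨d, hdW⟩
  have hgerm : ∀ t : Γ(X, U.1), (ι.stalkMap d).hom (X.presheaf.germ U.1 (ι d) hd t) =
      𝓘.subscheme.presheaf.germ (ι ⁻¹ᵁ U.1) d hdW (ι.app U.1 t) := by
    intro t
    have := Scheme.Hom.germ_stalkMap ι U.1 d hd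
    exact congr($(this).hom t)
  apply le_antisymm
  · intro β hβ
    rw [RingHom.mem_ker] at hβ
    obtain ⟨⟨t, s⟩, hts⟩ := IsLocalization.surj (U.2.primeIdealOf ⟨ι d, hd⟩).asIdeal.primeCompl β
    have hs : IsUnit (X.presheaf.germ U.1 (ι d) hd s.1) :=
      IsLocalization.map_units (M := (U.2.primeIdealOf ⟨ι d, hd⟩).asIdeal.primeCompl) _ s
    have hts' : β * X.presheaf.germ U.1 (ι d) hd s.1 = X.presheaf.germ U.1 (ι d) hd t := hts
    have h1 : 𝓘.subscheme.presheaf.germ (ι ⁻¹ᵁ U.1) d hdW (ι.app U.1 t) = 0 := by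
      rw [← hgerm, ← hts', map_mul, hβ, zero_mul]
    have h1' : algebraMap Γ(𝓘.subscheme, ι ⁻¹ᵁ U.1) (𝓘.subscheme.presheaf.stalk d) (ι.app U.1 t) = 0 :=
      h1
    rw [IsLocalization.map_eq_zero_iff (hW.primeIdealOf ⟨d, hdW⟩).asIdeal.primeCompl] at h1'
    obtain ⟨ū, hū⟩ := h1'
    obtain ⟨u, hu⟩ := 𝓘.subschemeι_app_surjective U ū.1
    have hūunit : IsUnit (𝓘.subscheme.presheaf.germ (ι ⁻¹ᵁ U.1) d hdW ū.1) :=
      IsLocalization.map_units (M := (hW.primeIdealOf ⟨d, hdW⟩).asIdeal.primeCompl) _ ū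
    have huunit : IsUnit (X.presheaf.germ U.1 (ι d) hd u) := by
      rw [← hu, ← hgerm] at hūunit
      haveI : IsLocalHom (ι.stalkMap d).hom := ι.toLRSHom.prop d
      exact isUnit_of_map_unit (ι.stalkMap d).hom _ hūunit
    have h2 : u * t ∈ 𝓘.ideal U := by
      rw [← 𝓘.ker_subschemeι_app U, RingHom.mem_ker, map_mul]
      rw [← hu] at hū
      exact hū
    have h3 : X.presheaf.germ U.1 (ι d) hd (u * t) ∈
        (𝓘.ideal U).map (X.presheaf.germ U.1 (ι d) hd).hom := Ideal.mem_map_of_mem _ h2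
    rw [map_mul] at h3
    have h4 := (Ideal.unit_mul_mem_iff_mem _ huunit).mp h3
    rw [← hts'] at h4
    exact (Ideal.mul_unit_mem_iff_mem _ hs).mp h4
  · rw [Ideal.map_le_iff_le_comap]
    intro t ht
    rw [Ideal.mem_comap, RingHom.mem_ker, hgerm]
    have : ι.app U.1 t = 0 := by
      have h := 𝓘.ker_subschemeι_app U
      rw [← h] at ht
      exact ht
    rw [this, map_zero]


theorem main {X S : Scheme.{u}} (f : X ⟶ S) (𝓘 : X.IdealSheafData)
    (hD : (BlowUp.IsEffCartierIdeal 𝓘 ∧ Flat (𝓘.subschemeι ≫ f))) (d : ↥𝓘.subscheme)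
    [IsNoetherianRing (X.presheaf.stalk (𝓘.subschemeι d))] :
    (f.stalkMap (𝓘.subschemeι d)).hom.Flat := by
  obtain ⟨hC, hfl⟩ := hD
  obtain ⟨U, hxU, h0, hreg, hI⟩ := hC (𝓘.subschemeι d)
  set ι := 𝓘.subschemeι with hι
  have hker := ker_stalkMap_subschemeι 𝓘 U d hxU
  rw [hI, Ideal.map_span, Set.image_singleton] at hker
  set b := (X.presheaf.germ U.1 (ι d) hxU).hom h0 with hb
  -- b is a nonzerodivisor
  have hbreg : b ∈ nonZeroDivisors (X.presheaf.stalk (ι d)) := by
    letI := X.presheaf.algebra_section_stalk ⟨ι d, hxU⟩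
    have hB := U.2.isLocalization_stalk ⟨ι d, hxU⟩
    exact IsLocalization.map_nonZeroDivisors_le
      (U.2.primeIdealOf ⟨ι d, hxU⟩).asIdeal.primeCompl _ ⟨h0, hreg, rfl⟩
  -- b in the maximal ideal
  have hbmem : b ∈ Ideal.jacobson (⊥ : Ideal (X.presheaf.stalk (ι d))) := by
    rw [IsLocalRing.jacobson_eq_maximalIdeal _ bot_ne_top, IsLocalRing.mem_maximalIdeal, mem_nonunits_iff]
    intro hu
    have h1 : (ι.stalkMap d).hom b = 0 := by
      have : b ∈ RingHom.ker (ι.stalkMap d).hom := by
        rw [hker]; exact Ideal.mem_span_singleton_self b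
      exact this
    have h2 := hu.map (ι.stalkMap d).hom
    rw [h1] at h2
    exact not_isUnit_zero h2
  have hflat := Flat.stalkMap (ι ≫ f) d
  have hcomp : ((ι ≫ f).stalkMap d).hom = (ι.stalkMap d).hom.comp (f.stalkMap (ι d)).hom := by
    rw [Scheme.Hom.stalkMap_comp]; rfl
  algebraize [(f.stalkMap (ι d)).hom, (ι.stalkMap d).hom]
  letI : Algebra (S.presheaf.stalk (f (ι d))) (𝓘.subscheme.presheaf.stalk d) :=
    ((ι ≫ f).stalkMap d).hom.toAlgebra
  haveI hflat' : Module.Flat (S.presheaf.stalk (f (ι d))) (𝓘.subscheme.presheaf.stalk d) := hflat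
  haveI : IsScalarTower (S.presheaf.stalk (f (ι d))) (X.presheaf.stalk (ι d))
      (𝓘.subscheme.presheaf.stalk d) := IsScalarTower.of_algebraMap_eq' hcomp
  let φ : X.presheaf.stalk (ι d) →ₐ[S.presheaf.stalk (f (ι d))] 𝓘.subscheme.presheaf.stalk d :=
    IsScalarTower.toAlgHom _ _ _
  have hφsurj : Function.Surjective φ := ι.stalkMap_surjective d
  have hkerφ : RingHom.ker φ = Ideal.span {b} := hker
  have e := Ideal.quotientKerAlgEquivOfSurjective hφsurj
  haveI : Module.Flat (S.presheaf.stalk (f (ι d))) (X.presheaf.stalk (ι d) ⧸ RingHom.ker φ) :=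
    Module.Flat.of_linearEquiv e.toLinearEquiv
  rw [hkerφ] at this
  exact flat_of_flat_quotient _ _ b hbmem hbreg

end H1.S1701aux

/-- Let f : X ⟶ S be a morphism, 𝓘 the ideal sheaf of an effective Cartier divisor D ⊂ X such that D ⟶ S
is flat (a relative effective Cartier divisor), and x a point of D at which the local ring of X is
Noetherian. Then f is flat at x. -/
theorem result {X S : Scheme.{u}} (f : X ⟶ S) (𝓘 : X.IdealSheafData)
    (hD : (BlowUp.IsEffCartierIdeal 𝓘 ∧ Flat (𝓘.subschemeι ≫ f))) (d : ↥𝓘.subscheme) [IsNoetherianRing (X.presheaf.stalk (𝓘.subschemeι d))] :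
    (f.stalkMap (𝓘.subschemeι d)).hom.Flat := by
  exact H1.S1701aux.main f 𝓘 hD d

end Groth.Agent.S1701
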