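import Groth.Statements.S17010
import Groth.Agent.Lib.Helper9.Misc.CR3

set_option autoImplicit false
universe u
open CategoryTheory AlgebraicGeometry
open QuadGrp

namespace Groth.Agent.S17010

/-- Let Q be a quadratic form on R^{2m}, m ≥ 1, over a commutative ring R, whose polar form is a perfect
pairing, and let G be a group scheme over Spec R which is the Clifford group of Q (its A-valued
points are the locally homogeneous units of the Clifford algebra of Q_A normalising the module,
naturally in A). Then G is smooth and affine over Spec R. -/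
theorem result (R : Type u) [CommRing R] (m : ℕ) (hm : 1 ≤ m)
    (Q : QuadraticForm R (Fin (2 * m) → R)) (hQ : QuadGrp.IsRegular Q)
    (G : Over (Spec (CommRingCat.of R))) [GrpObj G] (D : QuadGrp.GPinRep Q G) :
    AlgebraicGeometry.Smooth G.hom ∧ IsAffineHom G.hom := by
  rcases subsingleton_or_nontrivial R with hR | hR
  · haveI : IsEmpty ↥(Spec (CommRingCat.of R)) := (inferInstance : IsEmpty (PrimeSpectrum R))
    haveI : IsIso G.hom := isIso_of_isEmpty G.hom
    exact ⟨inferInstance, inferInstance⟩
  · haveI := Groth.Agent.H9.QG.free_clifford Q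
    haveI := Groth.Agent.H9.QG.finite_clifford Q
    have hT : ∀ (A : Type u) [CommRing A] [Algebra R A]
        (w : (CliffordAlgebra (QuadGrp.baseChangeForm A Q))ˣ),
        w ∈ QuadGrp.gpin Q A ↔ w ∈ QuadGrp.GPin' (QuadGrp.baseChangeForm A Q) := by
      intro A _ _ w
      constructor
      · intro h
        exact (Subgroup.mem_inf.mp h).1
      · intro h
        refine Subgroup.mem_inf.mpr ⟨h, ?_⟩
        rcases subsingleton_or_nontrivial A with hA | hA
        · haveI : Subsingleton (CliffordAlgebra (QuadGrp.baseChangeForm A Q)) :=
            Module.subsingleton A _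
          refine ⟨1, IsIdempotentElem.one, ?_, ?_⟩
          · rw [Subsingleton.elim ((1 : A) • (w : CliffordAlgebra (QuadGrp.baseChangeForm A Q))) 0]
            exact Submodule.zero_mem _
          · rw [Subsingleton.elim (((1 : A) - 1) •
              (w : CliffordAlgebra (QuadGrp.baseChangeForm A Q))) 0]
            exact Submodule.zero_mem _
        · exact Groth.Agent.H9.QG.GPin'_le_LH m hm
            (by rw [Module.finrank_baseChange, Module.finrank_fin_fun])
            (QuadGrp.baseChangeForm A Q)
            (Groth.Agent.H9.QG.isRegular_baseChangeForm A Q hQ) h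
    have hrep := Groth.Agent.H9.CR.isUniversal_GPin' Q (Pi.basisFun R (Fin (2 * m)))
      (Module.finBasis R (CliffordAlgebra Q)) (fun A _ _ => QuadGrp.gpin Q A) hT
    have hsm : Algebra.Smooth R (Groth.Agent.H9.CR.AGP Q (Pi.basisFun R (Fin (2 * m)))
        (Module.finBasis R (CliffordAlgebra Q))) :=
      { formallySmooth := Groth.Agent.H9.CR.formallySmooth_AGP Q _ _
          (fun B _ _ I hI xb yb h =>
            Groth.Agent.H9.CR.exists_lift_isGP rfl Q hQ B I hI xb yb h)
        finitePresentation := Groth.Agent.H9.CR.finitePresentation_AGP Q _ _ }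
    exact ⟨(Groth.Agent.H9.CR.smooth_iff_of_universalC D _ _ hrep).mpr hsm,
      Groth.Agent.H9.CR.isAffineHom_of_universalC D _ _ hrep⟩

end Groth.Agent.S17010
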