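import Groth.Statements.S17011
import Groth.Agent.Lib.Helper9.Misc.CR6

set_option autoImplicit false
universe u
open CategoryTheory AlgebraicGeometry
open QuadGrp

namespace Groth.Agent.S17011

/-- Let Q be a quadratic form on R^{2m+1} over a commutative ring R whose half-discriminant in the
standard basis is a unit, and let G be a group scheme over Spec R which is the Clifford group of Q
(its A-valued points are the locally homogeneous units of the Clifford algebra of Q_A normalising
the module, naturally in A). Then G is smooth over Spec R. -/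
theorem result (R : Type u) [CommRing R] (m : ℕ)
    (Q : QuadraticForm R (Fin (2 * m + 1) → R))
    (hQ : QuadGrp.IsSemiregular (Pi.basisFun R (Fin (2 * m + 1))) (LinearEquiv.refl R R) Q)
    (G : Over (Spec (CommRingCat.of R))) [GrpObj G] (D : QuadGrp.GPinRep Q G) :
    AlgebraicGeometry.Smooth G.hom := by
  rcases subsingleton_or_nontrivial R with hR | hR
  · haveI : IsEmpty ↥(Spec (CommRingCat.of R)) := (inferInstance : IsEmpty (PrimeSpectrum R))
    haveI : IsIso G.hom := isIso_of_isEmpty G.hom
    infer_instance
  · haveI := Groth.Agent.H9.QO.free_clifford' (Pi.basisFun R (Fin (2 * m + 1))) Q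
    haveI := Groth.Agent.H9.QO.finite_clifford' (Pi.basisFun R (Fin (2 * m + 1))) Q
    have hrep := Groth.Agent.H9.CR.isUniversal_GPin Q (Pi.basisFun R (Fin (2 * m + 1)))
      (Module.finBasis R (CliffordAlgebra Q))
    have hsm : Algebra.Smooth R (Groth.Agent.H9.CR.ALH Q (Pi.basisFun R (Fin (2 * m + 1)))
        (Module.finBasis R (CliffordAlgebra Q))) :=
      { formallySmooth := Groth.Agent.H9.CR.formallySmooth_ALH Q _ _
          (fun B _ _ I hI xb yb eb h hlh =>
            Groth.Agent.H9.CR.exists_lift_isGP_LH Q hQ B I hI xb yb eb h hlh)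
        finitePresentation := Groth.Agent.H9.CR.finitePresentation_ALH Q _ _ }
    exact (Groth.Agent.H9.CR.smooth_iff_of_universalC D _ _ hrep).mpr hsm

end Groth.Agent.S17011
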