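import Groth.Statements.S17065
import Mathlib
-- import your own Groth.Agent.* helpers here

set_option autoImplicit false
universe u
open CAlg

namespace Groth.Agent.S17065

/-- The local algebraic statement its proof establishes: let A be a Noetherian ring, I ≤ J radical
ideals and Â the J-adic completion of A. If J^n Â ⊆ I Â for some n, then the closed set V(J) is open
inside V(I) ⊆ Spec A. (Globally: if X₂ ⊆ X₁ are the completions of a locally Noetherian scheme along
nested closed subsets Z₂ ⊆ Z₁ and the ideal of Z₁ generates an ideal of definition of X₂, then X₂ is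
a union of connected components of X₁.) -/
theorem result (A : Type u) [CommRing A] [IsNoetherianRing A]
    (I J : Ideal A) (hIJ : I ≤ J) (hI : I.IsRadical) (hJ : J.IsRadical) (n : ℕ)
    (h : (J ^ n).map (algebraMap A (AdicCompletion J A)) ≤ I.map (algebraMap A (AdicCompletion J A))) :
    IsOpen ((fun x : PrimeSpectrum.zeroLocus (I : Set A) => (x : PrimeSpectrum A)) ⁻¹'
      PrimeSpectrum.zeroLocus (J : Set A)) := by
  -- Step 1: J^n ≤ I ⊔ J^(n+1)
  have h1 : J ^ n ≤ I ⊔ J ^ (n + 1) := by
    intro x hx
    have hx' : algebraMap A (AdicCompletion J A) x ∈ I.map (algebraMap A (AdicCompletion J A)) :=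
      h (Ideal.mem_map_of_mem _ hx)
    have h2 : (AdicCompletion.evalₐ J (n + 1) : AdicCompletion J A →+* A ⧸ J ^ (n + 1))
        (algebraMap A (AdicCompletion J A) x) ∈
        (I.map (algebraMap A (AdicCompletion J A))).map
          (AdicCompletion.evalₐ J (n + 1) : AdicCompletion J A →+* A ⧸ J ^ (n + 1)) :=
      Ideal.mem_map_of_mem _ hx'
    rw [Ideal.map_map] at h2
    have hcomp : ((AdicCompletion.evalₐ J (n + 1) : AdicCompletion J A →+* A ⧸ J ^ (n + 1)).comp
        (algebraMap A (AdicCompletion J A))) = Ideal.Quotient.mk (J ^ (n + 1)) := by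
      ext a
      simp
    rw [hcomp] at h2
    have h3 : (AdicCompletion.evalₐ J (n + 1) : AdicCompletion J A →+* A ⧸ J ^ (n + 1))
        (algebraMap A (AdicCompletion J A) x) = Ideal.Quotient.mk (J ^ (n + 1)) x := by
      simp
    rw [h3] at h2
    rw [Ideal.mem_map_iff_of_surjective _ Ideal.Quotient.mk_surjective] at h2
    obtain ⟨i, hi, hix⟩ := h2
    have h4 : x - i ∈ J ^ (n + 1) := by
      rw [← Ideal.Quotient.eq]; exact hix.symm
    have : x = i + (x - i) := by ring
    rw [this]
    exact Ideal.add_mem _ (Ideal.mem_sup_left hi) (Ideal.mem_sup_right h4)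
  have hJn : J ^ n ≤ J := h1.trans (sup_le hIJ (Ideal.pow_le_self (by omega)))
  -- Step 2: J^n ≤ I ⊔ J^(n+m)
  have h2 : ∀ m : ℕ, J ^ n ≤ I ⊔ J ^ (n + m) := by
    intro m
    induction m with
    | zero => exact le_sup_right
    | succ m ih =>
      refine ih.trans (sup_le le_sup_left ?_)
      have : J ^ (n + m) = J ^ n * J ^ m := pow_add _ _ _
      rw [this]
      refine (Ideal.mul_mono_left h1).trans ?_
      rw [Ideal.sup_mul]
      refine sup_le (Ideal.mul_le_left.trans le_sup_left) ?_
      refine le_trans (le_of_eq ?_) le_sup_right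
      rw [← pow_add]; congr 1; ring
  -- Step 3: idempotent in the quotient
  set K : Ideal (A ⧸ I) := (J ^ n).map (Ideal.Quotient.mk I) with hK
  have hKK : IsIdempotentElem K := by
    apply le_antisymm Ideal.mul_le_right
    have := Ideal.map_mono (f := Ideal.Quotient.mk I) (h2 n)
    rw [Ideal.map_sup, Ideal.map_quotient_self, bot_sup_eq, pow_add, Ideal.map_mul] at this
    exact this
  have hKfg : K.FG := IsNoetherian.noetherian K
  obtain ⟨e, he, hKe⟩ := (Ideal.isIdempotentElem_iff_of_fg K hKfg).mp hKK
  obtain ⟨e', rfl⟩ := Ideal.Quotient.mk_surjective e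
  have he'J : e' ∈ J := by
    have : Ideal.Quotient.mk I e' ∈ K := by rw [hKe]; exact Ideal.mem_span_singleton_self _
    rw [hK, Ideal.mem_map_iff_of_surjective _ Ideal.Quotient.mk_surjective] at this
    obtain ⟨j, hj, hje⟩ := this
    have h4 : j - e' ∈ I := by rw [← Ideal.Quotient.eq]; exact hje
    have : e' = j - (j - e') := by ring
    rw [this]
    exact Ideal.sub_mem _ (hJn hj) (hIJ h4)
  have hee : e' * e' - e' ∈ I := by
    rw [← Ideal.Quotient.eq, map_mul]; exact he
  have hset : ((fun x : PrimeSpectrum.zeroLocus (I : Set A) => (x : PrimeSpectrum A)) ⁻¹'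
      PrimeSpectrum.zeroLocus (J : Set A)) =
      (fun x : PrimeSpectrum.zeroLocus (I : Set A) => (x : PrimeSpectrum A)) ⁻¹'
        (PrimeSpectrum.basicOpen (1 - e') : Set (PrimeSpectrum A)) := by
    ext ⟨x, hx⟩
    have hIx : I ≤ x.asIdeal := by
      rw [PrimeSpectrum.mem_zeroLocus] at hx; exact hx
    simp only [Set.mem_preimage, PrimeSpectrum.mem_zeroLocus, SetLike.coe_subset_coe,
      SetLike.mem_coe, PrimeSpectrum.mem_basicOpen]
    constructor
    · intro hJx h1e
      have : (1 : A) ∈ x.asIdeal := by
        have : (1 : A) = (1 - e') + e' := by ring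
        rw [this]
        exact Ideal.add_mem _ h1e (hJx he'J)
      exact x.2.ne_top ((Ideal.eq_top_iff_one _).mpr this)
    · intro h1e j hj
      have hjn : Ideal.Quotient.mk I (j ^ n) ∈ K := Ideal.mem_map_of_mem _ (Ideal.pow_mem_pow hj n)
      rw [hKe, Ideal.mem_span_singleton] at hjn
      obtain ⟨a, ha⟩ := hjn
      obtain ⟨a', rfl⟩ := Ideal.Quotient.mk_surjective a
      have h5 : j ^ n - e' * a' ∈ I := by
        rw [← Ideal.Quotient.eq, map_mul]; exact ha
      have h6 : (1 - e') * j ^ n ∈ I := by
        have : (1 - e') * j ^ n = (1 - e') * (j ^ n - e' * a') - a' * (e' * e' - e') := by ring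
        rw [this]
        exact Ideal.sub_mem _ (Ideal.mul_mem_left _ _ h5) (Ideal.mul_mem_left _ _ hee)
      have h7 := hIx h6
      rcases x.2.mem_or_mem h7 with h8 | h8
      · exact absurd h8 h1e
      · exact x.2.mem_of_pow_mem n h8
  rw [hset]
  exact (PrimeSpectrum.basicOpen (1 - e')).isOpen.preimage continuous_subtype_val

end Groth.Agent.S17065
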