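import Groth.Statements.S17073
import Groth.Agent.Lib.Helper6.LCAdj

set_option autoImplicit false
open CategoryTheory
universe u
open LocCoh

namespace Groth.Agent.S17073

/-- Let R → S be a homomorphism of Noetherian rings, J an ideal of S containing elements u₁, …, u_d such
that S/(u₁, …, u_d) is a finite R-module and J lies in the radical of (u₁, …, u_d), and let F be a
finite R-module. Then the functor sending an S-module E to the set Hom_R(H^d_J(E), F) (d-th local
cohomology supported in J, scalars restricted to R) is representable by an S-module. (The published
statement gives the representing module as the degree −d cohomology of RHom_R(RΓ_J S, F) and a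
bifunctorial isomorphism; only representability is asserted here.) -/
theorem result
    (R S : Type u) [CommRing R] [CommRing S] [IsNoetherianRing R] [IsNoetherianRing S] [Algebra R S]
    (J : Ideal S) (d : ℕ) (u : Fin d → S) (hu : ∀ i, u i ∈ J)
    (hJ : J ≤ (Ideal.span (Set.range u)).radical) [Module.Finite R (S ⧸ Ideal.span (Set.range u))]
    (F : Type u) [AddCommGroup F] [Module R F] [Module.Finite R F] :
    ((localCohomology J d ⋙ ModuleCat.restrictScalars (algebraMap R S)).op ⋙
      yoneda.obj (ModuleCat.of R F)).IsRepresentable := by
  have hset : {a : S | a ∈ List.ofFn u} = Set.range u := by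
    ext a; simp [List.mem_ofFn]
  have hlen : (List.ofFn u).length = d := List.length_ofFn
  have h1 : ∀ a ∈ List.ofFn u, a ∈ J.radical := by
    intro a ha
    obtain ⟨i, rfl⟩ := (List.mem_ofFn' u a).1 ha
    exact Ideal.le_radical (hu i)
  have h2 : J ≤ (Ideal.span {a : S | a ∈ List.ofFn u}).radical := by rw [hset]; exact hJ
  have hpres : CategoryTheory.Limits.PreservesColimitsOfSize.{u, u} (localCohomology J d) := by
    have := Groth.Agent.H6.LCAdj.preservesColimits_lc_top J (List.ofFn u) h1 h2
    rw [hlen] at this
    exact this
  have hleft : (localCohomology J d ⋙ ModuleCat.restrictScalars (algebraMap R S)).IsLeftAdjoint :=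
    Groth.Agent.H6.LCAdj.isLeftAdjoint_of_preservesColimits _
  exact ((Adjunction.ofIsLeftAdjoint _).representableBy (ModuleCat.of R F)).isRepresentable

end Groth.Agent.S17073
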