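import Groth.Statements.S1708
import Groth.Agent.Lib.Lead.QC.WeakAssInj
import Groth.Agent.Lib.Lead.QC.WeakAssPush
import Groth.Agent.Lib.Lead.QC.Push

set_option autoImplicit false
universe u
open CategoryTheory CategoryTheory.Limits AlgebraicGeometry TopologicalSpace
open SDiv

namespace Groth.Agent.S1708

/-- Let f : X ⟶ S be an affine morphism and F a quasi-coherent module on X. Then every weakly associated
point of f_* F is the image of a weakly associated point of F. -/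
theorem result {X S : Scheme.{u}} (f : X ⟶ S) [IsAffineHom f] (F : X.Modules) (hF : Coh.IsQCoh F)
    (s : ↥S) (hs : Curv2.IsWeakAssPoint ((Scheme.Modules.pushforward f).obj F) s) :
    ∃ x : ↥X, f x = s ∧ Curv2.IsWeakAssPoint F x := by
  haveI : F.IsQuasicoherent := hF
  haveI : ((Scheme.Modules.pushforward f).obj F).IsQuasicoherent := LD.QC.qc_pushforward f F
  obtain ⟨V, hV, hsV, -⟩ := exists_isAffineOpen_mem_and_subset (x := s) (U := (⊤ : S.Opens)) trivial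
  have hU : IsAffineOpen (f ⁻¹ᵁ V) := hV.preimage f
  rw [LD.QC.isWeakAssPoint_iff_mem_weakAss _ hV s hsV] at hs
  letI : Module Γ(X, f ⁻¹ᵁ V) Γ((Scheme.Modules.pushforward f).obj F, V) :=
    inferInstanceAs (Module Γ(X, f ⁻¹ᵁ V) Γ(F, f ⁻¹ᵁ V))
  obtain ⟨q, hq, hqp⟩ := LD.QC.exists_weakAss_comap_eq (f.app V).hom
    (N := Γ((Scheme.Modules.pushforward f).obj F, V)) (fun a n => LD.QC.pushforward_smul f F V a n) _ hs
  have hq' : q ∈ FlatCA.weakAss Γ(X, f ⁻¹ᵁ V) Γ(F, f ⁻¹ᵁ V) := hq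
  have hqprime : q.IsPrime := by
    rw [LD.QC.mem_weakAss_iff] at hq'
    obtain ⟨m, hm⟩ := hq'
    exact hm.1.1
  let q' : PrimeSpectrum Γ(X, f ⁻¹ᵁ V) := ⟨q, hqprime⟩
  have hx : hU.fromSpec q' ∈ f ⁻¹ᵁ V := LD.QC.fromSpec_mem hU q'
  refine ⟨hU.fromSpec q', ?_, ?_⟩
  · have h1 := IsAffineOpen.comap_primeIdealOf_appLE V hV (f ⁻¹ᵁ V) hU le_rfl hx
    rw [LD.QC.primeIdealOf_fromSpec hU q' hx] at h1
    have h2 : hV.primeIdealOf ⟨f (hU.fromSpec q'), hx⟩ = hV.primeIdealOf ⟨s, hsV⟩ := by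
      rw [← h1]
      apply PrimeSpectrum.ext
      rw [← hqp, Scheme.Hom.app_eq_appLE]
      rfl
    have h3 := congrArg hV.fromSpec h2
    rwa [hV.fromSpec_primeIdealOf, hV.fromSpec_primeIdealOf] at h3
  · rw [LD.QC.isWeakAssPoint_iff_mem_weakAss F hU _ hx, LD.QC.primeIdealOf_fromSpec hU q' hx]
    exact hq'

end Groth.Agent.S1708
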