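import Groth.Statements.S17086
import Groth.Agent.Lib.Helper5.Curve6.IdealInv2
import Groth.Agent.Lib.Helper5.Curve6.P1Facts
import Groth.Agent.Lib.Helper5.AG.ProjProper
import Groth.Agent.Lib.Helper5.IntN.Veronese
import Groth.Agent.H4.ProjSmooth
import Groth.Agent.Lib.Helper1.SmoothDepth

set_option autoImplicit false
universe u
open CategoryTheory CategoryTheory.Limits AlgebraicGeometry
open RatCurve

namespace Groth.Agent.S17086

/-- Let k be an algebraically closed field, X a closed subscheme of P^n_k, Z ⊆ X a closed subscheme and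
σ : B → X a blow-up of X along Z (the inverse image ideal of Z is effective Cartier and σ is final
with this property). Then every k-morphism f : P^1_k → X whose image is not contained in Z lifts
uniquely along σ: there is exactly one morphism g : P^1_k → B with g ≫ σ = f. Equivalently, over the
open locus of morphisms meeting X ∖ Z, the morphism Mor(P^1_k, B) → Mor(P^1_k, X) induced by σ is a
bijection on k-points. -/
theorem result
    {k : Type u} [Field k] [IsAlgClosed k] {n : ℕ} (X : Scheme.{u})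
    (c : X ⟶ CohB1.ProjSpace n k) [IsClosedImmersion c]
    (Z : Scheme.{u}) (iZ : Z ⟶ X) [IsClosedImmersion iZ]
    (B : Scheme.{u}) (σ : B ⟶ X) (hσ : BlowUp.IsBlowUp σ iZ.ker)
    (f : CohB1.ProjSpace 1 k ⟶ X)
    (hf : f ≫ c ≫ CohB1.ProjSpace.toSpec n k = CohB1.ProjSpace.toSpec 1 k)
    (hfZ : ¬ Set.range f ⊆ Set.range iZ) :
    ∃! g : CohB1.ProjSpace 1 k ⟶ B, g ≫ σ = f := by
  have hprop : IsProper (CohB1.ProjSpace 1 k ↘ Spec (CommRingCat.of k)) :=
    Groth.Agent.H5.AG.isProper_toSpec 1 k
  have hint : IsIntegral (CohB1.ProjSpace 1 k) := Groth.Agent.H5.Curve6.isIntegral_projSpace k 1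
  have hsm : Smooth (CohB1.ProjSpace.toSpec 1 k) := Groth.Agent.H4.ProjSmooth.smooth_toSpec 1 k
  have hreg : ∀ x : CohB1.ProjSpace 1 k,
      IsRegularLocalRing ((CohB1.ProjSpace 1 k).presheaf.stalk x) := fun x =>
    Groth.Agent.H1.SmoothDepth.isRegularLocalRing_stalk_of_smooth k (CohB1.ProjSpace.toSpec 1 k) x
  have hdim : topologicalKrullDim (CohB1.ProjSpace 1 k) ≤ 1 :=
    le_of_eq (Groth.Agent.H5.IntN.dim_projSpace k 1)
  have hJ : iZ.ker.comap f ≠ ⊥ := by
    intro h
    apply hfZ
    have h1 : ((iZ.ker.comap f).support : Set (CohB1.ProjSpace 1 k)) = f ⁻¹' (iZ.ker.support : Set X) :=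
      congrArg (fun C : TopologicalSpace.Closeds (CohB1.ProjSpace 1 k) => (C : Set (CohB1.ProjSpace 1 k)))
        (Scheme.IdealSheafData.support_comap iZ.ker f)
    rw [h, Scheme.IdealSheafData.support_bot] at h1
    have h2 : (iZ.ker.support : Set X) = Set.range iZ := by
      rw [Scheme.Hom.support_ker]
      exact iZ.isClosedEmbedding.isClosed_range.closure_eq
    rintro _ ⟨y, rfl⟩
    have h3 : y ∈ f ⁻¹' (iZ.ker.support : Set X) := by
      rw [← h1]
      trivial
    rw [h2] at h3
    exact h3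
  exact hσ.2 _ f (Groth.Agent.H5.Curve6.isEffCartierIdeal_of_regular k (CohB1.ProjSpace 1 k) hdim hreg _ hJ)

end Groth.Agent.S17086
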