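import Groth.Statements.S17157
import Groth.Agent.Lib.Helper8.Isoc.Finite
-- import your own Groth.Agent.* helpers here

set_option autoImplicit false
universe u
open Isoc

namespace Groth.Agent.S17157

/-- Let k be a finite field of characteristic p, W = W(k), L its fraction field with Frobenius σ, and
let U be the σ-semilinear endomorphism of L² = (Fin 2 → L) determined by U(e₀) = e₀ and U(e₁) = e₀ +
e₁ on the standard basis. Then (L², U) is an F-isocrystal in which the sub-isocrystal L · e₀ admits
no U-stable complementary L-subspace; in particular the category of F-isocrystals over a finite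
field is not semisimple. (Over an algebraically closed field a complement exists.) -/
theorem result
    (p : ℕ) [Fact p.Prime] (k : Type u) [Field k] [CharP k p] [PerfectRing k p] [Finite k]
    (U : (Fin 2 → (FractionRing (WittVector p k))) →ₛₗ[Isoc.frob p k 1] (Fin 2 → (FractionRing (WittVector p k))))
    (hU0 : U (Pi.single 0 1) = Pi.single 0 1)
    (hU1 : U (Pi.single 1 1) = Pi.single 0 1 + Pi.single 1 1)
    (Q : Submodule (FractionRing (WittVector p k)) (Fin 2 → (FractionRing (WittVector p k)))) (hQ : ∀ x ∈ Q, U x ∈ Q) :
    ¬ IsCompl (Submodule.span (FractionRing (WittVector p k)) {(Pi.single 0 1 : Fin 2 → (FractionRing (WittVector p k)))}) Q := by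
  open Groth.Agent.H8.IsocLib in
  intro hc
  cases nonempty_fintype k
  obtain ⟨m, -, hm⟩ := FiniteField.card k p
  have htop : (Pi.single 1 1 : Fin 2 → (FractionRing (WittVector p k))) ∈
      Submodule.span (FractionRing (WittVector p k))
        {(Pi.single 0 1 : Fin 2 → (FractionRing (WittVector p k)))} ⊔ Q := by
    rw [hc.sup_eq_top]; trivial
  obtain ⟨y, hy, q, hq, hyq⟩ := Submodule.mem_sup.mp htop
  obtain ⟨c, rfl⟩ := Submodule.mem_span_singleton.mp hy
  have hq' : q = Pi.single 1 1 - c • Pi.single 0 1 := eq_sub_of_add_eq' hyq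
  have hUq : U q = Pi.single 0 1 + Pi.single 1 1 - (Isoc.frob p k 1 c) • Pi.single 0 1 := by
    rw [hq', map_sub, map_smulₛₗ, hU0, hU1]
  have hdiff : U q - q = (1 - Isoc.frob p k 1 c + c) • Pi.single 0 1 := by
    rw [hUq, hq']
    ext i
    fin_cases i <;> simp
  have hmemQ : (1 - Isoc.frob p k 1 c + c) • (Pi.single 0 1 : Fin 2 → (FractionRing (WittVector p k))) ∈ Q :=
    hdiff ▸ Q.sub_mem (hQ q hq) hq
  have hmemS : (1 - Isoc.frob p k 1 c + c) • (Pi.single 0 1 : Fin 2 → (FractionRing (WittVector p k))) ∈
      Submodule.span (FractionRing (WittVector p k))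
        {(Pi.single 0 1 : Fin 2 → (FractionRing (WittVector p k)))} :=
    Submodule.smul_mem _ _ (Submodule.mem_span_singleton_self _)
  have hzero := (Submodule.disjoint_def.mp hc.disjoint) _ hmemS hmemQ
  have hc1 : Isoc.frob p k 1 c = c + 1 := by
    have := congrFun hzero 0
    simp only [Pi.smul_apply, Pi.single_eq_same, smul_eq_mul, mul_one, Pi.zero_apply] at this
    linear_combination -this
  have hiter : ∀ j : ℕ, (⇑(Isoc.frob p k 1))^[j] c = c + j := by
    intro j
    induction j with
    | zero => simp
    | succ j ih =>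
      rw [Function.iterate_succ_apply', ih, map_add, map_natCast, hc1]
      push_cast; ring
  have h1 := hiter m
  rw [frob_one_iterate_eq_self hm] at h1
  have h2 : ((m : ℕ) : (FractionRing (WittVector p k))) = 0 := by linear_combination -h1
  have h3 : (m : ℕ) = 0 := by exact_mod_cast h2
  exact m.ne_zero h3

end Groth.Agent.S17157
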