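import Groth.Statements.S4721
import Groth.Agent.S2663

set_option autoImplicit false
universe u
open EGA4

namespace Groth.Agent.S4721

/-- Let A be a Noetherian ring whose spectrum is connected and d a natural number such that for every
prime p of height at least d the local ring A_p has depth at least 2. Then for any two distinct
minimal primes p', p'' of A there is a finite chain of minimal primes starting at p' and ending at
p'' such that any two consecutive members are both contained in a prime ideal of height at most d −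
1 (the spectrum is connected in codimension at most d − 1). -/
theorem result (A : Type u) [CommRing A] [IsNoetherianRing A]
    [ConnectedSpace (PrimeSpectrum A)] (d : ℕ)
    (h : ∀ (p : Ideal A) [p.IsPrime], (d : ℕ∞) ≤ p.height →
      (2 : ℕ∞) ≤ LocCoh.depth (Localization.AtPrime p) (Localization.AtPrime p))
    (p' p'' : Ideal A) (hp' : p' ∈ minimalPrimes A) (hp'' : p'' ∈ minimalPrimes A) (hne : p' ≠ p'') :
    ∃ (n : ℕ) (c : Fin (n + 1) → Ideal A), c 0 = p' ∧ c (Fin.last n) = p'' ∧ (∀ i, c i ∈ minimalPrimes A) ∧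
      ∀ i : Fin n, ∃ (q : Ideal A) (_ : q.IsPrime),
        c i.castSucc ≤ q ∧ c i.succ ≤ q ∧ q.height + 1 ≤ (d : ℕ∞) := by
  classical
  -- the linking relation and reachability from `p'`
  let Link : Ideal A → Ideal A → Prop := fun a b =>
    ∃ (q : Ideal A) (_ : q.IsPrime), a ≤ q ∧ b ≤ q ∧ q.height + 1 ≤ (d : ℕ∞)
  let Reach : Ideal A → Prop := fun p =>
    ∃ (n : ℕ) (c : Fin (n + 1) → Ideal A), c 0 = p' ∧ c (Fin.last n) = p ∧
      (∀ i, c i ∈ minimalPrimes A) ∧ ∀ i : Fin n, Link (c i.castSucc) (c i.succ)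
  have hreach0 : Reach p' := ⟨0, fun _ => p', rfl, rfl, fun _ => hp', fun i => i.elim0⟩
  have hstep : ∀ p p₂ : Ideal A, Reach p → p₂ ∈ minimalPrimes A → Link p p₂ → Reach p₂ := by
    rintro p p₂ ⟨n, c, h0, hl, hmin, hlink⟩ hp₂ hL
    refine ⟨n + 1, Fin.snoc (α := fun _ => Ideal A) c p₂, ?_, ?_, ?_, ?_⟩
    · have : (0 : Fin (n + 2)) = Fin.castSucc (0 : Fin (n + 1)) := rfl
      rw [this, Fin.snoc_castSucc]
      exact h0
    · exact Fin.snoc_last _ _
    · intro i
      induction i using Fin.lastCases with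
      | last => rw [Fin.snoc_last]; exact hp₂
      | cast j => rw [Fin.snoc_castSucc]; exact hmin j
    · intro i
      induction i using Fin.lastCases with
      | last =>
        rw [Fin.snoc_castSucc, Fin.succ_last, Fin.snoc_last, hl]
        exact hL
      | cast j =>
        rw [Fin.snoc_castSucc, ← Fin.castSucc_succ, Fin.snoc_castSucc]
        exact hlink j
  by_contra hcon
  have hnot : ¬ Reach p'' := hcon
  -- the two classes of minimal primes
  have hfin : (minimalPrimes A).Finite := minimalPrimes.finite_of_isNoetherianRing A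
  let S₁ : Finset (Ideal A) := hfin.toFinset.filter Reach
  let S₂ : Finset (Ideal A) := hfin.toFinset.filter (fun p => ¬ Reach p)
  let I₁ : Ideal A := S₁.inf id
  let I₂ : Ideal A := S₂.inf id
  have hmem₁ : ∀ p, p ∈ S₁ ↔ p ∈ minimalPrimes A ∧ Reach p := by
    intro p
    simp only [S₁, Finset.mem_filter, Set.Finite.mem_toFinset]
  have hmem₂ : ∀ p, p ∈ S₂ ↔ p ∈ minimalPrimes A ∧ ¬ Reach p := by
    intro p
    simp only [S₂, Finset.mem_filter, Set.Finite.mem_toFinset]
  -- every prime contains `I₁` or `I₂`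
  have hcover : ∀ (q : Ideal A) [q.IsPrime], I₁ ≤ q ∨ I₂ ≤ q := by
    intro q hq
    obtain ⟨p, hp, hpq⟩ := Ideal.exists_minimalPrimes_le (I := (⊥ : Ideal A)) (J := q) bot_le
    by_cases hr : Reach p
    · left
      exact (Finset.inf_le ((hmem₁ p).mpr ⟨hp, hr⟩)).trans hpq
    · right
      exact (Finset.inf_le ((hmem₂ p).mpr ⟨hp, hr⟩)).trans hpq
  -- depth condition along `V(I₁ + I₂)`
  have hdepth : ∀ (q : Ideal A) [q.IsPrime], I₁ ⊔ I₂ ≤ q →
      (2 : ℕ∞) ≤ LocCoh.depth (Localization.AtPrime q) (Localization.AtPrime q) := by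
    intro q hq hle
    apply h q
    obtain ⟨p₁, hp₁S, hp₁q⟩ := hq.inf_le'.mp (le_sup_left.trans hle)
    obtain ⟨p₂, hp₂S, hp₂q⟩ := hq.inf_le'.mp (le_sup_right.trans hle)
    rw [hmem₁] at hp₁S
    rw [hmem₂] at hp₂S
    by_contra hlt
    apply hp₂S.2
    apply hstep p₁ p₂ hp₁S.2 hp₂S.1
    refine ⟨q, hq, hp₁q, hp₂q, ?_⟩
    push Not at hlt
    exact Order.add_one_le_of_lt hlt
  have hpre := Groth.Agent.S2663.result A (I₁ ⊔ I₂) hdepth
  -- the two open pieces
  have hp'prime : p'.IsPrime := hp'.1.1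
  have hp''prime : p''.IsPrime := hp''.1.1
  have hp'U : (⟨p', hp'prime⟩ : PrimeSpectrum A) ∈ (PrimeSpectrum.zeroLocus (I₂ : Set A))ᶜ := by
    intro hmem
    rw [PrimeSpectrum.mem_zeroLocus, SetLike.coe_subset_coe] at hmem
    obtain ⟨p₂, hp₂S, hp₂q⟩ := hp'prime.inf_le'.mp hmem
    rw [hmem₂] at hp₂S
    have : p' ≤ p₂ := hp'.2 ⟨hp₂S.1.1.1, bot_le⟩ hp₂q
    have heq : p₂ = p' := le_antisymm hp₂q this
    apply hp₂S.2
    rw [heq]
    exact hreach0
  have hp''V : (⟨p'', hp''prime⟩ : PrimeSpectrum A) ∈ (PrimeSpectrum.zeroLocus (I₁ : Set A))ᶜ := by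
    intro hmem
    rw [PrimeSpectrum.mem_zeroLocus, SetLike.coe_subset_coe] at hmem
    obtain ⟨p₁, hp₁S, hp₁q⟩ := hp''prime.inf_le'.mp hmem
    rw [hmem₁] at hp₁S
    have : p'' ≤ p₁ := hp''.2 ⟨hp₁S.1.1.1, bot_le⟩ hp₁q
    have heq : p₁ = p'' := le_antisymm hp₁q this
    apply hnot
    rw [← heq]
    exact hp₁S.2
  have hsub : (PrimeSpectrum.zeroLocus ((I₁ ⊔ I₂ : Ideal A) : Set A))ᶜ ⊆
      (PrimeSpectrum.zeroLocus (I₂ : Set A))ᶜ ∪ (PrimeSpectrum.zeroLocus (I₁ : Set A))ᶜ := by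
    intro x hx
    by_contra hcon2
    rw [Set.mem_union, not_or, Set.notMem_compl_iff, Set.notMem_compl_iff] at hcon2
    apply hx
    rw [PrimeSpectrum.mem_zeroLocus, SetLike.coe_subset_coe]
    rw [PrimeSpectrum.mem_zeroLocus, SetLike.coe_subset_coe] at hcon2
    rw [PrimeSpectrum.mem_zeroLocus, SetLike.coe_subset_coe] at hcon2
    exact sup_le hcon2.2 hcon2.1
  have hin : ∀ x : PrimeSpectrum A, x ∈ (PrimeSpectrum.zeroLocus (I₂ : Set A))ᶜ →
      x ∈ (PrimeSpectrum.zeroLocus ((I₁ ⊔ I₂ : Ideal A) : Set A))ᶜ := by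
    intro x hx hmem
    apply hx
    rw [PrimeSpectrum.mem_zeroLocus, SetLike.coe_subset_coe] at hmem ⊢
    exact le_sup_right.trans hmem
  have hin' : ∀ x : PrimeSpectrum A, x ∈ (PrimeSpectrum.zeroLocus (I₁ : Set A))ᶜ →
      x ∈ (PrimeSpectrum.zeroLocus ((I₁ ⊔ I₂ : Ideal A) : Set A))ᶜ := by
    intro x hx hmem
    apply hx
    rw [PrimeSpectrum.mem_zeroLocus, SetLike.coe_subset_coe] at hmem ⊢
    exact le_sup_left.trans hmem
  obtain ⟨x, -, hxU, hxV⟩ := hpre _ _ (PrimeSpectrum.isClosed_zeroLocus _).isOpen_compl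
    (PrimeSpectrum.isClosed_zeroLocus _).isOpen_compl hsub
    ⟨_, hin _ hp'U, hp'U⟩ ⟨_, hin' _ hp''V, hp''V⟩
  rcases hcover x.asIdeal with h1 | h2
  · apply hxV
    rw [PrimeSpectrum.mem_zeroLocus, SetLike.coe_subset_coe]
    exact h1
  · apply hxU
    rw [PrimeSpectrum.mem_zeroLocus, SetLike.coe_subset_coe]
    exact h2

end Groth.Agent.S4721
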