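import Groth.Statements.S5154
import Groth.Agent.S4721
import Groth.Agent.Lib.Helper6.Catenary
import Groth.Agent.Lib.Helper6.LCNonvanish

set_option autoImplicit false
universe u
open LocCoh

namespace Groth.Agent.S5154

/-- Let A be a Noetherian local ring which is catenary and such that depth A_p ≥ 2 for every prime p
with dim A_p ≥ 2. Then all irreducible components of Spec A have dimension dim A: for every minimal
prime p, dim A/p = dim A. -/
theorem result (A : Type u) [CommRing A] [IsLocalRing A] [IsNoetherianRing A] (hc : CAlg.IsCatenary A) (h : ∀ p : PrimeSpectrum A, (2 : ℕ∞) ≤ p.asIdeal.height → (2 : ℕ∞) ≤ LocCoh.depth (Localization.AtPrime p.asIdeal) (Localization.AtPrime p.asIdeal)) (p : Ideal A) (hp : p ∈ minimalPrimes A) : ringKrullDim (A ⧸ p) = ringKrullDim A := by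
  haveI := Groth.Agent.H6.Cat.connectedSpace_of_isLocalRing (A := A)
  obtain ⟨n, hn⟩ := Groth.Agent.H6.LC.exists_supportDim_eq (R := A) A
  obtain ⟨p₀, hp₀, -, hdim⟩ := Groth.Agent.H6.LC.exists_prime_ringKrullDim_eq A n hn
  rw [Module.supportDim_self_eq_ringKrullDim] at hn
  haveI := hp₀
  obtain ⟨p₁, hp₁min, hp₁le⟩ := Ideal.exists_minimalPrimes_le (I := (⊥ : Ideal A)) (J := p₀) bot_le
  have hp₁dim : ringKrullDim (A ⧸ p₁) = ringKrullDim A := by
    apply le_antisymm (ringKrullDim_quotient_le p₁)
    rw [hn, ← hdim]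
    exact ringKrullDim_le_of_surjective (Ideal.Quotient.factor hp₁le)
      (Ideal.Quotient.factor_surjective hp₁le)
  by_cases hne : p = p₁
  · rw [hne]
    exact hp₁dim
  obtain ⟨n', c, h0, hl, hmin, hlink⟩ := Groth.Agent.S4721.result A 2
    (fun q _ hq => h ⟨q, inferInstance⟩ (by exact_mod_cast hq)) p p₁ hp hp₁min hne
  have key : ∀ i : Fin (n' + 1), ringKrullDim (A ⧸ c i) = ringKrullDim (A ⧸ c 0) := by
    intro i
    induction i using Fin.induction with
    | zero => rfl
    | succ i ih =>
      obtain ⟨q, hq, h1, h2, h3⟩ := hlink i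
      haveI := hq
      have hht : q.height ≤ 1 := by
        have h4 : q.height + 1 ≤ (1 : ℕ∞) + 1 := by
          refine le_trans h3 ?_
          norm_num
        exact (ENat.add_le_add_iff_right ENat.one_ne_top).mp h4
      rw [← ih]
      exact (Groth.Agent.H6.Cat.ringKrullDim_quotient_eq_of_le hc (hmin i.castSucc) (hmin i.succ)
        h1 h2 hht).symm
  have h5 := key (Fin.last n')
  rw [hl, h0] at h5
  rw [← h5]
  exact hp₁dim

end Groth.Agent.S5154
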