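import Groth.Statements.S1717
import Groth.Agent.S5154
import Groth.Agent.Lib.Helper6.SkQuot
import Groth.Agent.Lib.Helper6.FiberDict

set_option autoImplicit false
universe u
open LocCoh

namespace Groth.Agent.S1717

/-- Let A be a catenary Noetherian local ring satisfying Serre's condition (S_2). Then Spec A is
equidimensional: for every minimal prime p of A the dimension of A/p equals the dimension of A. -/
theorem result (A : Type u) [CommRing A] [IsLocalRing A] [IsNoetherianRing A] (hc : CAlg.IsCatenary A) (hS : LocCoh.HasSk 2 A A) (p : Ideal A) (hp : p ∈ minimalPrimes A) : ringKrullDim (A ⧸ p) = ringKrullDim A := by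
  apply Groth.Agent.S5154.result A hc ?_ p hp
  intro q hq
  have h1 := hS q.asIdeal
  rw [Groth.Agent.H6.Sk.supportDim_localizedModule_self] at h1
  have h2 : LocCoh.depth (Localization.AtPrime q.asIdeal)
      (LocalizedModule q.asIdeal.primeCompl A) =
      LocCoh.depth (Localization.AtPrime q.asIdeal) (Localization.AtPrime q.asIdeal) :=
    Groth.Agent.H6.HomKer.idealDepth_congr _ (Groth.Agent.H6.FiberDict.locEquiv A q.asIdeal)
  rw [h2] at h1
  have e2 : ((2 : ℕ) : WithBot ℕ∞) = (((2 : ℕ∞)) : WithBot ℕ∞) := rfl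
  have h3 : min ((2 : ℕ) : WithBot ℕ∞) ((q.asIdeal.height : ℕ∞) : WithBot ℕ∞) =
      ((2 : ℕ) : WithBot ℕ∞) := by
    apply min_eq_left
    rw [e2]
    exact WithBot.coe_le_coe.mpr hq
  rw [h3, e2] at h1
  exact WithBot.coe_le_coe.mp h1

end Groth.Agent.S1717
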