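import Groth.Statements.S17175
import Mathlib
-- import your own Groth.Agent.* helpers here

set_option autoImplicit false
universe u
open CAlg

namespace Groth.Agent.S17175

open PowerSeries in
/-- Let k be a field, O₀ = k[[x, y]]/(xy) the complete local ring of a node and Õ₀ = k[[x]] × k[[y]] its
normalization, O₀ being embedded in Õ₀ by h ↦ (h(x, 0), h(0, y)) as the subring of pairs with equal
constant coefficients. Regard Õ₀ as an O₀-module: it is the rank-one torsion-free O₀-module that is
not free. Then every O₀-linear endomorphism of this module is Õ₀-linear, i.e. it is multiplication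
by a unique element of Õ₀; consequently its O₀-endomorphism ring is Õ₀ and its O₀-automorphism group
is the unit group of Õ₀. Here an O₀-linear endomorphism is an additive map of k[[X]] × k[[X]]
commuting with multiplication by every pair whose two constant coefficients agree. (The source works
over an algebraically closed field; only the field structure is used.) -/
theorem result (k : Type u) [Field k]
    (φ : (k⟦X⟧ × k⟦X⟧) →+ (k⟦X⟧ × k⟦X⟧))
    (hφ : ∀ a s : k⟦X⟧ × k⟦X⟧, constantCoeff a.1 = constantCoeff a.2 → φ (a * s) = a * φ s) :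
    ∃! b : k⟦X⟧ × k⟦X⟧, ∀ s : k⟦X⟧ × k⟦X⟧, φ s = b * s := by
  have hX0 : constantCoeff (X : k⟦X⟧) = 0 := PowerSeries.constantCoeff_X
  -- φ (0,1) has zero first component, φ (1,0) has zero second component
  have h01 : (φ (0, 1)).1 = 0 := by
    have h := hφ ((X : k⟦X⟧), 0) (0, 1) (by simp)
    have h0 : ((X : k⟦X⟧), (0 : k⟦X⟧)) * ((0 : k⟦X⟧), (1 : k⟦X⟧)) = 0 := by
      ext <;> simp
    rw [h0, map_zero] at h
    have h1 := congrArg Prod.fst h
    simp only [Prod.fst_zero, Prod.fst_mul] at h1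
    exact (mul_eq_zero.mp h1.symm).resolve_left PowerSeries.X_ne_zero
  have h10 : (φ (1, 0)).2 = 0 := by
    have h := hφ ((0 : k⟦X⟧), (X : k⟦X⟧)) (1, 0) (by simp)
    have h0 : ((0 : k⟦X⟧), (X : k⟦X⟧)) * ((1 : k⟦X⟧), (0 : k⟦X⟧)) = 0 := by
      ext <;> simp
    rw [h0, map_zero] at h
    have h1 := congrArg Prod.snd h
    simp only [Prod.snd_zero, Prod.snd_mul] at h1
    exact (mul_eq_zero.mp h1.symm).resolve_left PowerSeries.X_ne_zero
  have hfst : ∀ s₁ : k⟦X⟧, φ (s₁, 0) = (s₁ * (φ (1, 0)).1, 0) := by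
    intro s₁
    have h := hφ (s₁, PowerSeries.C (constantCoeff s₁)) (1, 0) (by simp)
    have h0 : (s₁, PowerSeries.C (constantCoeff s₁)) * ((1 : k⟦X⟧), (0 : k⟦X⟧)) = (s₁, 0) := by
      ext <;> simp
    rw [h0] at h
    rw [h]
    ext <;> simp [h10]
  have hsnd : ∀ s₂ : k⟦X⟧, φ (0, s₂) = (0, s₂ * (φ (0, 1)).2) := by
    intro s₂
    have h := hφ (PowerSeries.C (constantCoeff s₂), s₂) (0, 1) (by simp)
    have h0 : (PowerSeries.C (constantCoeff s₂), s₂) * ((0 : k⟦X⟧), (1 : k⟦X⟧)) = (0, s₂) := by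
      ext <;> simp
    rw [h0] at h
    rw [h]
    ext <;> simp [h01]
  refine ⟨((φ (1, 0)).1, (φ (0, 1)).2), ?_, ?_⟩
  · intro s
    have hs : s = (s.1, 0) + (0, s.2) := by ext <;> simp
    conv_lhs => rw [hs, map_add, hfst, hsnd]
    ext <;> simp [mul_comm]
  · intro b hb
    have h1 := hb (1, 0)
    have h2 := hb (0, 1)
    ext
    · rw [h1]; simp
    · rw [h2]; simp

end Groth.Agent.S17175
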