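import Groth.Statements.S1728
import Groth.Agent.Lib.Helper6.InjHull

set_option autoImplicit false
universe u
open InjHull

namespace Groth.Agent.S1728

/-- Let I be an injective R-module and E a submodule of I. Then E is an injective module if and only if
every submodule E' of I containing E, such that every nonzero submodule of E' meets E nontrivially,
is equal to E. -/
theorem result (R : Type u) [CommRing R] (I : Type u) [AddCommGroup I] [Module R I] [Module.Injective R I] (E : Submodule R I) : Module.Injective R E ↔ ∀ E' : Submodule R I, E ≤ E' → (∀ N : Submodule R I, N ≤ E' → N ≠ ⊥ → N ⊓ E ≠ ⊥) → E' = E := by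
  constructor
  · intro hinj E' hEE' hess
    obtain ⟨N, hN⟩ := Groth.Agent.H6.IH.exists_isCompl_of_injective E
    apply le_antisymm _ hEE'
    intro x hx
    have hx' : x ∈ E ⊔ N := by rw [hN.sup_eq_top]; exact Submodule.mem_top
    obtain ⟨e, he, n, hn, rfl⟩ := Submodule.mem_sup.mp hx'
    have hnE' : n ∈ E' := by
      have := E'.sub_mem hx (hEE' he)
      simpa using this
    have hbot : E' ⊓ N = ⊥ := by
      by_contra hne
      apply hess (E' ⊓ N) inf_le_left hne
      rw [eq_bot_iff]
      rintro y ⟨⟨_, hyN⟩, hyE⟩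
      have : y ∈ E ⊓ N := ⟨hyE, hyN⟩
      rw [hN.inf_eq_bot] at this
      exact this
    have hn0 : n ∈ E' ⊓ N := ⟨hnE', hn⟩
    rw [hbot, Submodule.mem_bot] at hn0
    rw [hn0, add_zero]
    exact he
  · intro h
    have hmax : ∀ C : Submodule R I, Groth.Agent.H6.IH.Ess E C → E ≤ C → C = E := by
      intro C hC hEC
      exact h C hEC (fun N hN hN0 => hC.inf_ne_bot N hN hN0)
    obtain ⟨N, hN⟩ := Groth.Agent.H6.IH.exists_isCompl_of_maximal_ess
      (Groth.Agent.H6.IH.Ess.refl E) hmax
    exact Groth.Agent.H6.IH.injective_of_isCompl hN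

end Groth.Agent.S1728
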