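import Groth.Statements.S17289
import Mathlib
import Groth.Agent.H4.PE
import Groth.Agent.S8258
import Groth.Agent.S8284
import Groth.Agent.S8262
import Groth.Agent.S8292
import Groth.Agent.Lib.Helper8.RelTwist.PullTwist
import Groth.Agent.Lib.Lead.QC.PullAmple
import Groth.Agent.Lib.Lead.QC.AmpleIso
import Groth.Agent.Lib.Lead.QC.LocFree
import Groth.Agent.Lib.Lead.QC.Gen

set_option autoImplicit false
universe u
open CategoryTheory CategoryTheory.Limits AlgebraicGeometry TopologicalSpace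
open Variety

namespace Groth.Agent.S17289

/-- Suppose X is a proper scheme over a field k, and E, F are finite locally free O_X-modules with E → F
surjective. Assume E is ample, meaning that the fundamental module O(1) of the projective bundle
P(E) = Proj(Sym E) → X is ample (for any relative-Proj data of the graded symmetric algebra of E
with its O(1)); then F is ample in the same sense. (The source states this for proper algebraic
spaces over k, together with the analogous assertion for nef modules; this is the ample assertion in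
the case of schemes.) -/
theorem result (k : Type u) [Field k] (X : Scheme.{u})
    [X.Over (Spec (CommRingCat.of k))] [IsProper (X ↘ (Spec (CommRingCat.of k)))] (E F : X.Modules)
    (hE : FlatMod.IsFinLocFree E) (hF : FlatMod.IsFinLocFree F) (φ : E ⟶ F) [Epi φ]
    (hample : ∀ (𝒮 : RelProj.QCGrAlg X) (j : E ⟶ 𝒮.toModule) (P : Scheme.{u}) (p : P ⟶ X)
        (chart : ∀ (U : X.Opens) (hU : IsAffineOpen U),
          (((p ⁻¹ᵁ U : P.Opens) : Scheme.{u}) ≅ Proj (𝒮.deg U hU)))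
        (O1 : P.Modules)
        (lam : ∀ (U : X.Opens) (hU : IsAffineOpen U),
          O1 ⟶ (Scheme.Modules.pushforward (RelProj.emb p chart U hU)).obj (GrTwist.twist (𝒮.deg U hU) 1)),
        RelProj.IsGrSymAlg E 𝒮 j → RelProj.IsRelProj 𝒮 p chart → RelProj.IsRelTwist 𝒮 p chart 1 O1 lam →
        CohB1.IsAmple O1) :
    ∀ (𝒮 : RelProj.QCGrAlg X) (j : F ⟶ 𝒮.toModule) (P : Scheme.{u}) (p : P ⟶ X)
      (chart : ∀ (U : X.Opens) (hU : IsAffineOpen U),
        (((p ⁻¹ᵁ U : P.Opens) : Scheme.{u}) ≅ Proj (𝒮.deg U hU)))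
      (O1 : P.Modules)
      (lam : ∀ (U : X.Opens) (hU : IsAffineOpen U),
        O1 ⟶ (Scheme.Modules.pushforward (RelProj.emb p chart U hU)).obj (GrTwist.twist (𝒮.deg U hU) 1)),
      RelProj.IsGrSymAlg F 𝒮 j → RelProj.IsRelProj 𝒮 p chart → RelProj.IsRelTwist 𝒮 p chart 1 O1 lam →
      CohB1.IsAmple O1 := by
  intro 𝒮 j P p chart O1 lam hj hP hO1
  classical
  haveI hEq : E.IsQuasicoherent := Groth.Agent.LD.QC.qc_of_isFinLocFree E hE
  haveI hFq : F.IsQuasicoherent := Groth.Agent.LD.QC.qc_of_isFinLocFree F hF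
  obtain ⟨PE, pE, chartE, hPE⟩ := Groth.Agent.S8258.result (Groth.Agent.H4.PBundle.symGrAlg E)
  obtain ⟨O1E, lamE, hO1E⟩ :=
    Groth.Agent.S8284.result (Groth.Agent.H4.PBundle.symGrAlg E) pE chartE hPE 1
  have hjE := Groth.Agent.H4.PBundle.isGrSymAlg E
  have hampE := hample (Groth.Agent.H4.PBundle.symGrAlg E) (Groth.Agent.H6.Sym.symJ E) PE pE
    chartE O1E lamE hjE hPE hO1E
  have hgen : 𝒮.IsGenDegOne := Groth.Agent.H4.PE.genDegOne_of_isGrSymAlg hj
  have hgenE : (Groth.Agent.H4.PBundle.symGrAlg E).IsGenDegOne :=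
    Groth.Agent.H4.PE.genDegOne_of_isGrSymAlg hjE
  have hu1 : ∀ (U : X.Opens) (hU : IsAffineOpen U) (x : Γ(E, U)),
      ((φ ≫ j).app U) x ∈ 𝒮.deg U hU 1 := fun U hU x => hj.2 U hU ((φ.app U) x)
  have husurj : ∀ (U : X.Opens) (hU : IsAffineOpen U) (s : 𝒮.presheaf.obj (Opposite.op U)),
      s ∈ 𝒮.deg U hU 1 → ∃ x : Γ(E, U), ((φ ≫ j).app U) x = s := by
    intro U hU s hs
    obtain ⟨m, hm⟩ := Groth.Agent.H4.PE.deg_one_eq_sec hj U hU s hs
    obtain ⟨x, hx⟩ := Groth.Agent.LD.QC.epi_app_affine hEq hFq φ hU m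
    refine ⟨x, ?_⟩
    rw [hm, ← hx]
    rfl
  have hubar := Groth.Agent.H4.PBundle.symLift_graded E 𝒮 (φ ≫ j) hu1
  have hju := Groth.Agent.H6.Sym.symJ_symLift E 𝒮.toQCAlg (φ ≫ j)
  have hirr := Groth.Agent.H4.PBundle.symLift_irr E 𝒮 hgen (φ ≫ j) hu1 husurj
  obtain ⟨⟨h, hh, -⟩, hover⟩ := Groth.Agent.S8262.result
    (𝒜 := Groth.Agent.H4.PBundle.symGrAlg E) (ℬ := 𝒮)
    (Groth.Agent.H6.Sym.symLift E 𝒮.toQCAlg (φ ≫ j)) hubar hirr pE p chartE chart hPE hP
  haveI hci : IsClosedImmersion h :=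
    Groth.Agent.S8292.result 𝒮 (Groth.Agent.H4.PBundle.symGrAlg E) hgen E hEq (φ ≫ j) hu1 husurj
      (Groth.Agent.H6.Sym.symJ E) hjE
      (Groth.Agent.H6.Sym.symLift E 𝒮.toQCAlg (φ ≫ j)) hubar hju hirr pE p chartE chart
      hPE hP h hh
  obtain ⟨θ⟩ := Groth.Agent.H8.RelTwist.nonempty_pullback_iso hPE hP hh hgenE hO1E hO1
  have hqa : Mor2.IsQuasiAffine h := by
    refine ⟨inferInstance, fun V hV => ?_⟩
    haveI : IsAffine (h ⁻¹ᵁ V : Scheme.{u}) := hV.preimage h
    infer_instance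
  exact Groth.Agent.LD.QC.isAmple_of_iso θ
    (Groth.Agent.LD.QC.isAmple_pullback_of_isQuasiAffine (g := h) O1E hampE hqa)

end Groth.Agent.S17289
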