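import Groth.Statements.S1729
import Mathlib

set_option autoImplicit false
universe u
open Dual2

namespace Groth.Agent.S1729

open TensorProduct Function

/-- Over a local ring, every finite module M admits a projective cover: a surjection from a projective
module P onto M such that no proper submodule of P maps onto M. -/
theorem result (R : Type u) [CommRing R] [IsLocalRing R] (M : Type u) [AddCommGroup M] [Module R M] [Module.Finite R M] : ∃ (P : Type u) (_ : AddCommGroup P) (_ : Module R P) (f : P →ₗ[R] M), Dual2.IsProjectiveCover f := by
  let k := IsLocalRing.ResidueField R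
  let n := Module.finrank k (k ⊗[R] M)
  let b : Module.Basis (Fin n) k (k ⊗[R] M) := Module.finBasis k _
  have hsurj : Surjective (TensorProduct.mk R k M 1) :=
    TensorProduct.mk_surjective R M k Ideal.Quotient.mk_surjective
  choose x hx using fun i => hsurj (b i)
  let f : (Fin n → R) →ₗ[R] M := Fintype.linearCombination R x
  let B : Module.Basis (Fin n) k (k ⊗[R] (Fin n → R)) :=
    Algebra.TensorProduct.basis k (Pi.basisFun R (Fin n))
  have hfB : f.baseChange k = (B.equiv b (Equiv.refl _)).toLinearMap := by
    apply B.ext
    intro i
    have h1 : B i = 1 ⊗ₜ Pi.single i 1 := by simp [B]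
    rw [LinearEquiv.coe_coe, Module.Basis.equiv_apply, h1, LinearMap.baseChange_tmul]
    simp only [f, Fintype.linearCombination_apply_single, one_smul, Equiv.refl_apply]
    exact hx i
  have hbij : Bijective (f.lTensor k) := by
    have : Bijective (f.baseChange k) := by rw [hfB]; exact (B.equiv b (Equiv.refl _)).bijective
    exact this
  have hsq : (f.lTensor k) ∘ₗ (TensorProduct.mk R k (Fin n → R) 1) =
      (TensorProduct.mk R k M 1) ∘ₗ f := by
    ext p; simp
  have hsurjP : Surjective (TensorProduct.mk R k (Fin n → R) 1) :=
    TensorProduct.mk_surjective R _ k Ideal.Quotient.mk_surjective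
  refine ⟨Fin n → R, inferInstance, inferInstance, f, ⟨inferInstance, ?_, ?_⟩⟩
  · rw [← LinearMap.range_eq_top, ← IsLocalRing.map_tensorProduct_mk_eq_top, ← LinearMap.range_comp,
      ← hsq, LinearMap.range_comp, LinearMap.range_eq_top.mpr hsurjP, Submodule.map_top,
      LinearMap.range_eq_top]
    exact hbij.2
  · intro N hN
    rw [← IsLocalRing.map_tensorProduct_mk_eq_top]
    apply Submodule.map_injective_of_injective hbij.1
    rw [← Submodule.map_comp, hsq, Submodule.map_comp, hN, Submodule.map_top, Submodule.map_top,
      LinearMap.range_eq_top.mpr hsurj, LinearMap.range_eq_top.mpr hbij.2]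

end Groth.Agent.S1729
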