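import Groth.Statements.S17321
import Mathlib
import Groth.Agent.Lib.Helper8.Deriv
-- import your own Groth.Agent.* helpers here

set_option autoImplicit false
universe u v
open CAlg

namespace Groth.Agent.S17321

/-- Let k be an algebraically closed field and A a commutative k-algebra which is finite-dimensional as
a k-vector space (the coordinate ring of a finite k-scheme). Then the space Der(A) of k-derivations
A → A is zero if and only if A is reduced. -/
theorem result (k : Type u) [Field k] [IsAlgClosed k]
    (A : Type v) [CommRing A] [Algebra k A] [Module.Finite k A] :
    Subsingleton (Derivation k A A) ↔ IsReduced A := by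
  constructor
  · intro hsub
    by_contra hred
    obtain ⟨D, hD⟩ := Groth.Agent.H8.exists_derivation_ne_zero k A hred
    exact hD (Subsingleton.elim _ _)
  · intro hred
    have hint : Algebra.IsIntegral k A := Algebra.IsIntegral.of_finite k A
    refine ⟨fun D₁ D₂ => ?_⟩
    rw [Groth.Agent.H8.derivation_eq_zero_of_isReduced k A D₁,
      Groth.Agent.H8.derivation_eq_zero_of_isReduced k A D₂]

end Groth.Agent.S17321
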