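import Groth.Statements.S17323
import Mathlib
import Groth.Agent.Lib.Helper8.Etale
-- import your own Groth.Agent.* helpers here

set_option autoImplicit false
universe u v
open CAlg

namespace Groth.Agent.S17323

/-- Let k be an algebraically closed field and A a commutative k-algebra which is finite-dimensional as
a k-vector space. Then A has a largest reduced subalgebra: a k-subalgebra B which is reduced and
contains every reduced k-subalgebra of A; moreover the composite of the inclusion B → A with the
projection A → A/nilradical(A) is bijective. -/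
theorem result (k : Type u) [Field k] [IsAlgClosed k]
    (A : Type v) [CommRing A] [Algebra k A] [Module.Finite k A] :
    ∃ B : Subalgebra k A, IsReduced ↥B ∧ (∀ C : Subalgebra k A, IsReduced ↥C → C ≤ B) ∧
      Function.Bijective ((Ideal.Quotient.mkₐ k (nilradical A)).comp B.val) := by
  have hnoeth : IsNoetherianRing A := IsNoetherianRing.of_finite k A
  have hnil : IsNilpotent (nilradical A) := IsNoetherianRing.isNilpotent_nilradical A
  obtain ⟨s, hs⟩ := Algebra.FormallySmooth.exists_lift (R := k) (A := A ⧸ nilradical A)
    (nilradical A) hnil (AlgHom.id k (A ⧸ nilradical A))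
  have hs' : ∀ y, Ideal.Quotient.mk (nilradical A) (s y) = y := fun y => AlgHom.congr_fun hs y
  refine ⟨s.range, ?_, ?_, ?_⟩
  · rw [isReduced_iff]
    rintro ⟨b, y, rfl⟩ ⟨n, hn⟩
    have h1 : (s y) ^ n = 0 := by
      have := congrArg Subtype.val hn
      simpa using this
    have h2 : y ^ n = 0 := by
      rw [← hs' y, ← map_pow, h1, map_zero]
    have h3 : y = 0 := by
      have : IsReduced (A ⧸ nilradical A) :=
        (Ideal.isRadical_iff_quotient_reduced _).mp (Ideal.radical_isRadical _)
      exact IsReduced.eq_zero y ⟨n, h2⟩
    ext
    simp [h3]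
  · intro C hC
    have hfinC : Module.Finite k C := inferInstance
    have hE : Algebra.FormallyEtale k C := Groth.Agent.H8.formallyEtale_of_isReduced k C
    let f : C →ₐ[k] (A ⧸ nilradical A) := (Ideal.Quotient.mkₐ k (nilradical A)).comp C.val
    have heq : s.comp f = C.val := by
      apply Algebra.FormallyUnramified.lift_unique (R := k) (nilradical A) hnil
      rw [← AlgHom.comp_assoc, hs, AlgHom.id_comp]
    intro c hc
    have : (s.comp f) ⟨c, hc⟩ = c := by rw [heq]; rfl
    rw [← this]
    exact ⟨_, rfl⟩
  · constructor
    · rintro ⟨b, y, rfl⟩ ⟨b', y', rfl⟩ h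
      have h1 : Ideal.Quotient.mk (nilradical A) (s y) = Ideal.Quotient.mk (nilradical A) (s y') := h
      rw [hs', hs'] at h1
      subst h1
      rfl
    · intro y
      exact ⟨⟨s y, y, rfl⟩, hs' y⟩

end Groth.Agent.S17323
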