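import Groth.Statements.S17324
import Mathlib
import Groth.Agent.Lib.Helper8.FinAlg
-- import your own Groth.Agent.* helpers here

set_option autoImplicit false
universe u v
open CAlg

namespace Groth.Agent.S17324

/-- (i) ⟺ (ii): let k be an algebraically closed field, A a commutative k-algebra which is
finite-dimensional as a k-vector space and is a local ring with maximal ideal m, and a_1, …, a_m ∈
m. Then A is generated as a k-algebra by a_1, …, a_m if and only if m is generated as an ideal by
a_1, …, a_m. (The printed lemma has a third equivalent condition, that the images of the a_i span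
m/m²; its equivalence with (ii) is Nakayama's lemma.) -/
theorem result (k : Type u) [Field k] [IsAlgClosed k]
    (A : Type v) [CommRing A] [Algebra k A] [Module.Finite k A] [IsLocalRing A]
    (m : ℕ) (a : Fin m → A) (ha : ∀ i, a i ∈ IsLocalRing.maximalIdeal A) :
    Algebra.adjoin k (Set.range a) = ⊤ ↔ Ideal.span (Set.range a) = IsLocalRing.maximalIdeal A := by
  classical
  have hint : Algebra.IsIntegral k A := Algebra.IsIntegral.of_finite k A
  obtain ⟨χ, hχ⟩ := Groth.Agent.H8.exists_algHom_ker_eq_of_isPrime k A (IsLocalRing.maximalIdeal A)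
  have hdec : ∀ x : A, x - algebraMap k A (χ x) ∈ IsLocalRing.maximalIdeal A := by
    intro x
    rw [← hχ, RingHom.mem_ker, map_sub, AlgHom.commutes]
    simp
  have hspanle : Ideal.span (Set.range a) ≤ IsLocalRing.maximalIdeal A := by
    rw [Ideal.span_le]; rintro _ ⟨i, rfl⟩; exact ha i
  constructor
  · intro htop
    refine le_antisymm hspanle ?_
    -- subalgebra of elements congruent to a scalar mod span a
    let S : Subalgebra k A :=
      { carrier := {x | ∃ c : k, x - algebraMap k A c ∈ Ideal.span (Set.range a)}
        mul_mem' := by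
          rintro x y ⟨c, hc⟩ ⟨d, hd⟩
          refine ⟨c * d, ?_⟩
          have : x * y - algebraMap k A (c * d)
              = (x - algebraMap k A c) * y + algebraMap k A c * (y - algebraMap k A d) := by
            rw [map_mul]; ring
          rw [this]
          exact Ideal.add_mem _ (Ideal.mul_mem_right _ _ hc) (Ideal.mul_mem_left _ _ hd)
        add_mem' := by
          rintro x y ⟨c, hc⟩ ⟨d, hd⟩
          refine ⟨c + d, ?_⟩
          have : x + y - algebraMap k A (c + d)
              = (x - algebraMap k A c) + (y - algebraMap k A d) := by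
            rw [map_add]; ring
          rw [this]
          exact Ideal.add_mem _ hc hd
        algebraMap_mem' := fun c => ⟨c, by simp⟩ }
    have hS : Algebra.adjoin k (Set.range a) ≤ S := by
      rw [Algebra.adjoin_le_iff]
      rintro _ ⟨i, rfl⟩
      refine ⟨0, ?_⟩
      rw [map_zero, sub_zero]
      exact Ideal.subset_span ⟨i, rfl⟩
    intro x hx
    have hxS : x ∈ S := hS (htop ▸ Algebra.mem_top)
    obtain ⟨c, hc⟩ := hxS
    have hcm : algebraMap k A c ∈ IsLocalRing.maximalIdeal A := by
      have : algebraMap k A c = x - (x - algebraMap k A c) := by ring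
      rw [this]
      exact Ideal.sub_mem _ hx (hspanle hc)
    have hc0 : c = 0 := by
      by_contra hne
      have hu : IsUnit (algebraMap k A c) := (IsUnit.mk0 c hne).map (algebraMap k A)
      exact (IsLocalRing.mem_maximalIdeal _).mp hcm hu
    simpa [hc0] using hc
  · intro hspan
    set B := Algebra.adjoin k (Set.range a) with hB
    have haB : ∀ i, a i ∈ B := fun i => Algebra.subset_adjoin ⟨i, rfl⟩
    have key : ∀ j : ℕ, ∀ x ∈ IsLocalRing.maximalIdeal A,
        ∃ b ∈ B, x - b ∈ IsLocalRing.maximalIdeal A ^ (j + 1) := by
      intro j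
      induction j with
      | zero =>
        intro x hx
        exact ⟨0, B.zero_mem, by simpa using hx⟩
      | succ j ih =>
        intro x hx
        rw [← hspan, Ideal.mem_span_range_iff_exists_fun] at hx
        obtain ⟨c, rfl⟩ := hx
        have hc : ∀ i, ∃ b ∈ B, c i - b ∈ IsLocalRing.maximalIdeal A ^ (j + 1) := by
          intro i
          obtain ⟨b, hb, hb'⟩ := ih _ (hdec (c i))
          refine ⟨algebraMap k A (χ (c i)) + b, B.add_mem (B.algebraMap_mem _) hb, ?_⟩
          have : c i - (algebraMap k A (χ (c i)) + b) = c i - algebraMap k A (χ (c i)) - b := by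
            ring
          rw [this]; exact hb'
        choose b hb hb' using hc
        refine ⟨∑ i, b i * a i, B.sum_mem fun i _ => B.mul_mem (hb i) (haB i), ?_⟩
        rw [← Finset.sum_sub_distrib]
        refine Ideal.sum_mem _ fun i _ => ?_
        rw [← sub_mul, pow_succ]
        exact Ideal.mul_mem_mul (hb' i) (ha i)
    have hart : IsArtinianRing A := IsArtinianRing.of_finite k A
    have hnil : IsNilpotent (IsLocalRing.maximalIdeal A) := by
      have := IsArtinianRing.isNilpotent_jacobson_bot (R := A)
      rwa [IsLocalRing.jacobson_eq_maximalIdeal _ bot_ne_top] at this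
    obtain ⟨N, hN⟩ := hnil
    have hmB : ∀ x ∈ IsLocalRing.maximalIdeal A, x ∈ B := by
      intro x hx
      obtain ⟨b, hb, hb'⟩ := key N x hx
      rw [pow_succ, hN, Ideal.zero_eq_bot, Ideal.bot_mul, Ideal.mem_bot, sub_eq_zero] at hb'
      rw [hb']; exact hb
    rw [eq_top_iff]
    intro x _
    have : x = algebraMap k A (χ x) + (x - algebraMap k A (χ x)) := by ring
    rw [this]
    exact B.add_mem (B.algebraMap_mem _) (hmB _ (hdec x))

end Groth.Agent.S17324
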