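import Groth.Statements.S17326
import Groth.Agent.Lib.Helper8.FinAlg
import Mathlib.Algebra.CharP.Lemmas
import Mathlib.FieldTheory.Perfect
-- import your own Groth.Agent.* helpers here

set_option autoImplicit false
universe u v
open CAlg

namespace Groth.Agent.S17326

/-- Let k be an algebraically closed field of characteristic p > 0, A a commutative k-algebra which is
finite-dimensional as a k-vector space (a finite k-scheme X), and n ≥ 1. The n-th iterated relative
Frobenius morphism X → X^(p^n) is an isomorphism if and only if X is reduced; on rings: the map a ↦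
a^(p^n) of A to itself (which is the ring homomorphism underlying the relative Frobenius, the twist
A^(p^n) having the same underlying ring as A) is bijective if and only if A is reduced. -/
theorem result (k : Type u) [Field k] [IsAlgClosed k]
    (p : ℕ) [Fact p.Prime] [CharP k p] (A : Type v) [CommRing A] [Algebra k A] [Module.Finite k A]
    (n : ℕ) (hn : 1 ≤ n) :
    Function.Bijective (fun a : A => a ^ p ^ n) ↔ IsReduced A := by
  have hint : Algebra.IsIntegral k A := Algebra.IsIntegral.of_finite k A
  constructor
  · intro hbij
    refine ⟨fun a ha => ?_⟩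
    obtain ⟨m, hm⟩ := ha
    -- iterate the map
    have hiter : ∀ j : ℕ, a ^ (p ^ n) ^ j = 0 → a = 0 := by
      intro j
      induction j with
      | zero => intro h; simpa using h
      | succ j ih =>
        intro h
        apply ih
        apply hbij.1
        show (a ^ (p ^ n) ^ j) ^ p ^ n = (0 : A) ^ p ^ n
        rw [← pow_mul, ← pow_succ, h, zero_pow]
        exact pow_ne_zero _ (Nat.Prime.ne_zero Fact.out)
    apply hiter m
    have hle : m ≤ (p ^ n) ^ m := by
      have h2 : 2 ≤ p ^ n := by
        calc 2 ≤ p := (Nat.Prime.two_le Fact.out)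
          _ = p ^ 1 := (pow_one p).symm
          _ ≤ p ^ n := Nat.pow_le_pow_right (Nat.Prime.pos Fact.out) hn
      exact (Nat.lt_pow_self h2).le
    exact pow_eq_zero_of_le hle hm
  · intro hred
    have hker := Groth.Agent.H8.ker_pi_algHom_eq_nilradical k A
    have hsurj := Groth.Agent.H8.pi_algHom_surjective k A
    rw [nilradical_eq_zero] at hker
    set ev := AlgHom.pi (R := k) (fun f : A →ₐ[k] k => f) with hev
    have hinj : Function.Injective ev := by
      rw [injective_iff_map_eq_zero]
      intro a ha
      have : a ∈ RingHom.ker ev := ha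
      rw [hker] at this
      exact this
    have hkinj : ∀ x y : k, x ^ p ^ n = y ^ p ^ n → x = y := by
      intro x y h
      have : (x - y) ^ p ^ n = 0 := by rw [sub_pow_char_pow, h, sub_self]
      exact sub_eq_zero.1 (pow_eq_zero_iff (pow_ne_zero _ (Nat.Prime.ne_zero Fact.out)) |>.1 this)
    constructor
    · intro a b hab
      apply hinj
      funext χ
      apply hkinj
      show (χ a) ^ p ^ n = (χ b) ^ p ^ n
      rw [← map_pow, ← map_pow]
      exact congrArg χ hab
    · intro b
      have hroot : ∀ χ : A →ₐ[k] k, ∃ x : k, x ^ p ^ n = χ b := fun χ =>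
        IsAlgClosed.exists_pow_nat_eq (χ b) (Nat.pos_of_ne_zero (pow_ne_zero _ (Nat.Prime.ne_zero Fact.out)))
      choose h hh using hroot
      obtain ⟨a, ha⟩ := hsurj h
      refine ⟨a, ?_⟩
      apply hinj
      show ev (a ^ p ^ n) = ev b
      rw [map_pow, ha]
      funext χ
      exact hh χ

end Groth.Agent.S17326
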