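import Groth.Statements.S1733
import Mathlib

set_option autoImplicit false
universe u
open LocCoh

namespace Groth.Agent.S1733

/-- Let f_1, …, f_r and g be elements of a ring (r ≥ 1). If the family f_1, …, f_{r-1}, f_r g is
independent (every linear relation has coefficients in the ideal the family generates), then f_1, …,
f_r is independent. -/
theorem result (A : Type u) [CommRing A] (r : ℕ) (f : Fin (r + 1) → A) (g : A) (h : Dual2.Independent (Function.update f (Fin.last r) (f (Fin.last r) * g))) : Dual2.Independent f := by
  set f' := Function.update f (Fin.last r) (f (Fin.last r) * g) with hf'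
  have hcs : ∀ i : Fin r, f' i.castSucc = f i.castSucc := fun i ↦ by
    rw [hf', Function.update_of_ne (Fin.castSucc_lt_last i).ne]
  have hlast : f' (Fin.last r) = f (Fin.last r) * g := by rw [hf', Function.update_self]
  have hle : Ideal.span (Set.range f') ≤ Ideal.span (Set.range f) := by
    rw [Ideal.span_le]
    rintro _ ⟨i, rfl⟩
    rcases Fin.eq_castSucc_or_eq_last i with ⟨j, rfl⟩ | rfl
    · rw [hcs]; exact Ideal.subset_span ⟨_, rfl⟩
    · rw [hlast]; exact Ideal.mul_mem_right _ _ (Ideal.subset_span ⟨_, rfl⟩)
  intro a ha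
  rw [Fin.sum_univ_castSucc] at ha
  -- step 1 : a_r ∈ I'
  have h1 := h (fun i ↦ if i = Fin.last r then a i else a i * g) (by
    rw [Fin.sum_univ_castSucc]
    simp only [hcs, hlast, if_pos, (Fin.castSucc_lt_last _).ne, if_false]
    have : ∑ x : Fin r, a x.castSucc * g * f x.castSucc = g * ∑ x : Fin r, a x.castSucc * f x.castSucc := by
      rw [Finset.mul_sum]; exact Finset.sum_congr rfl fun i _ ↦ by ring
    rw [this]
    linear_combination g * ha) (Fin.last r)
  simp only [if_pos] at h1
  obtain ⟨c, hc⟩ := Ideal.mem_span_range_iff_exists_fun.mp h1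
  rw [Fin.sum_univ_castSucc] at hc
  simp only [hcs, hlast] at hc
  -- step 2
  have h2 := h (fun i ↦ if i = Fin.last r then c (Fin.last r) * f (Fin.last r)
      else a i + c i * f (Fin.last r)) (by
    rw [Fin.sum_univ_castSucc]
    simp only [hcs, hlast, if_pos, (Fin.castSucc_lt_last _).ne, if_false]
    have : ∑ x : Fin r, (a x.castSucc + c x.castSucc * f (Fin.last r)) * f x.castSucc =
        ∑ x : Fin r, a x.castSucc * f x.castSucc +
          f (Fin.last r) * ∑ x : Fin r, c x.castSucc * f x.castSucc := by
      rw [Finset.mul_sum, ← Finset.sum_add_distrib]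
      exact Finset.sum_congr rfl fun i _ ↦ by ring
    rw [this]
    linear_combination ha + f (Fin.last r) * hc)
  intro i
  rcases Fin.eq_castSucc_or_eq_last i with ⟨j, rfl⟩ | rfl
  · have h3 := h2 j.castSucc
    simp only [(Fin.castSucc_lt_last _).ne, if_false] at h3
    have h4 : c j.castSucc * f (Fin.last r) ∈ Ideal.span (Set.range f) :=
      Ideal.mul_mem_left _ _ (Ideal.subset_span ⟨_, rfl⟩)
    have := Ideal.sub_mem _ (hle h3) h4
    simpa using this
  · exact hle h1

end Groth.Agent.S1733
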