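import Groth.Statements.S17333
import Mathlib.Tactic
import Mathlib.RingTheory.Derivation.Basic
import Mathlib.LinearAlgebra.Prod
-- import your own Groth.Agent.* helpers here

set_option autoImplicit false
universe u v w
open CAlg

namespace Groth.Agent.S17333

/-- Let k be a field and A = B × C a decomposable commutative k-algebra. Then the natural map Der(B) ×
Der(C) → Der(A) is bijective: every k-derivation D : A → A is (b, c) ↦ (D₁ b, D₂ c) for a unique
pair of k-derivations D₁ : B → B, D₂ : C → C. Compatibility with brackets is not stated. (The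
published statement takes k algebraically closed; this row takes any field.) -/
theorem result (k : Type u) [Field k] (B : Type v) [CommRing B] [Algebra k B]
    (C : Type w) [CommRing C] [Algebra k C] (D : Derivation k (B × C) (B × C)) :
    ∃! P : Derivation k B B × Derivation k C C, ∀ (b : B) (c : C), D (b, c) = (P.1 b, P.2 c) := by
  -- D kills the idempotents (1,0) and (0,1)
  have hidem : ∀ e : B × C, e * e = e → D e = 0 := by
    intro e he
    have h1 : D e = e • D e + e • D e := by
      conv_lhs => rw [← he]
      rw [Derivation.leibniz]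
    have h2 : e • D e = e • (e • D e + e • D e) := by rw [← h1]
    rw [smul_add, smul_smul, he] at h2
    have h3 : e • D e = 0 := by
      have := h2
      rw [left_eq_add] at this
      exact this
    rw [h1, h3, add_zero]
  have he1 : D ((1, 0) : B × C) = 0 := hidem _ (by ext <;> simp)
  have he2 : D ((0, 1) : B × C) = 0 := hidem _ (by ext <;> simp)
  have hb : ∀ b : B, D (b, 0) = ((1, 0) : B × C) • D (b, 0) := by
    intro b
    have : ((b, 0) : B × C) = (1, 0) * (b, 0) := by ext <;> simp
    conv_lhs => rw [this]
    rw [Derivation.leibniz, he1, smul_zero, add_zero]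
  have hc : ∀ c : C, D (0, c) = ((0, 1) : B × C) • D (0, c) := by
    intro c
    have : ((0, c) : B × C) = (0, 1) * (0, c) := by ext <;> simp
    conv_lhs => rw [this]
    rw [Derivation.leibniz, he2, smul_zero, add_zero]
  have hb2 : ∀ b : B, (D (b, 0)).2 = 0 := by
    intro b
    have := congrArg Prod.snd (hb b)
    simpa using this
  have hc1 : ∀ c : C, (D (0, c)).1 = 0 := by
    intro c
    have := congrArg Prod.fst (hc c)
    simpa using this
  let D₁ : Derivation k B B := Derivation.mk'
    ((LinearMap.fst k B C) ∘ₗ (D : (B × C) →ₗ[k] (B × C)) ∘ₗ (LinearMap.inl k B C))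
    (by
      intro b b'
      simp only [LinearMap.coe_comp, Function.comp_apply, LinearMap.inl_apply, LinearMap.fst_apply,
        Derivation.coeFn_coe]
      have : ((b * b', 0) : B × C) = (b, 0) * (b', 0) := by ext <;> simp
      rw [this, Derivation.leibniz]
      simp)
  let D₂ : Derivation k C C := Derivation.mk'
    ((LinearMap.snd k B C) ∘ₗ (D : (B × C) →ₗ[k] (B × C)) ∘ₗ (LinearMap.inr k B C))
    (by
      intro c c'
      simp only [LinearMap.coe_comp, Function.comp_apply, LinearMap.inr_apply, LinearMap.snd_apply,
        Derivation.coeFn_coe]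
      have : ((0, c * c') : B × C) = (0, c) * (0, c') := by ext <;> simp
      rw [this, Derivation.leibniz]
      simp)
  have hD₁ : ∀ b, D₁ b = (D (b, 0)).1 := fun b => rfl
  have hD₂ : ∀ c, D₂ c = (D (0, c)).2 := fun c => rfl
  refine ⟨(D₁, D₂), ?_, ?_⟩
  · intro b c
    have : ((b, c) : B × C) = (b, 0) + (0, c) := by simp
    rw [this, map_add]
    ext
    · simp [hD₁, hc1]
    · simp [hD₂, hb2]
  · rintro ⟨P₁, P₂⟩ hP
    simp only at hP
    have h1 : P₁ = D₁ := by
      ext b
      rw [hD₁, hP b 0]
    have h2 : P₂ = D₂ := by
      ext c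
      rw [hD₂, hP 0 c]
    rw [h1, h2]

end Groth.Agent.S17333
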