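import Groth.Statements.S17334
import Mathlib.Tactic
import Mathlib.RingTheory.Artinian.Ring
import Mathlib.RingTheory.LocalRing.Basic
import Mathlib.RingTheory.Nilpotent.Basic
-- import your own Groth.Agent.* helpers here

set_option autoImplicit false
universe u v
open CAlg

namespace Groth.Agent.S17334

/-- Let k be a field and A a nonzero commutative k-algebra which is finite-dimensional as a k-vector
space. Then A is indecomposable (no decomposition as a product of two nonzero rings, i.e. no
idempotent other than 0 and 1) if and only if A is a local ring. (In the source k is algebraically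
closed and the lemma adds that the maximal ideal is then the nilradical, is nilpotent, and has
residue field k; the equivalence itself uses only that k is a field, and the zero algebra is
excluded here explicitly.) -/
theorem result (k : Type u) [Field k]
    (A : Type v) [CommRing A] [Algebra k A] [Module.Finite k A] [Nontrivial A] :
    (∀ e : A, IsIdempotentElem e → e = 0 ∨ e = 1) ↔ IsLocalRing A := by
  constructor
  · intro hconn
    have : IsArtinianRing A := IsArtinianRing.of_finite k A
    apply IsLocalRing.of_isUnit_or_isUnit_one_sub_self
    intro a
    obtain ⟨n, y, hy⟩ := IsArtinian.exists_pow_succ_smul_dvd a (1 : A)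
    simp only [smul_eq_mul, mul_one] at hy
    -- a^n = a^(n+j) y^j
    have hj : ∀ j : ℕ, a ^ n = a ^ (n + j) * y ^ j := by
      intro j
      induction j with
      | zero => simp
      | succ j ih =>
        calc a ^ n = a ^ (n + j) * y ^ j := ih
          _ = a ^ j * a ^ n * y ^ j := by rw [pow_add]; ring
          _ = a ^ j * (a ^ (n + 1) * y) * y ^ j := by rw [hy]
          _ = a ^ (n + (j + 1)) * y ^ (j + 1) := by ring
    have hnn := hj n
    set e := a ^ n * y ^ n with he
    have hidem : IsIdempotentElem e := by
      show e * e = e
      calc e * e = (a ^ (n + n) * y ^ n) * y ^ n := by rw [he, pow_add]; ring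
        _ = a ^ n * y ^ n := by rw [← hnn]
    rcases hconn e hidem with h0 | h1
    · right
      have : a ^ n = 0 := by
        calc a ^ n = a ^ (n + n) * y ^ n := hnn
          _ = a ^ n * e := by rw [he, pow_add]; ring
          _ = 0 := by rw [h0, mul_zero]
      exact IsNilpotent.isUnit_one_sub ⟨n, this⟩
    · left
      have hun : IsUnit (a ^ n) := IsUnit.of_mul_eq_one _ h1
      have : a ^ n * (a * y) = a ^ n * 1 := by
        rw [mul_one]
        calc a ^ n * (a * y) = a ^ (n + 1) * y := by ring
          _ = a ^ n := hy
      have hay : a * y = 1 := hun.mul_left_cancel this
      exact IsUnit.of_mul_eq_one _ hay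
  · intro hloc e he
    rcases IsLocalRing.isUnit_or_isUnit_one_sub_self e with h | h
    · right
      have : e * e = e * 1 := by rw [mul_one]; exact he
      exact h.mul_left_cancel this
    · left
      have : (1 - e) * e = (1 - e) * 0 := by
        rw [mul_zero, sub_mul, one_mul, he.eq, sub_self]
      exact h.mul_left_cancel this

end Groth.Agent.S17334
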