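import Groth.Statements.S17335
import Groth.Agent.Lib.Helper8.FinAlg
-- import your own Groth.Agent.* helpers here

set_option autoImplicit false
universe u v
open CAlg

namespace Groth.Agent.S17335

/-- Let k be an algebraically closed field and A a commutative k-algebra which is finite-dimensional as
a k-vector space, and let E be the set of k-algebra homomorphisms A → k. Then E is finite, and the
evaluation homomorphism A → O(E) = (E → k), a ↦ (f ↦ f(a)), is surjective with kernel the nilradical
of A; it therefore induces an isomorphism of A_red = A/nilradical(A) onto O(E). -/
theorem result (k : Type u) [Field k]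
    [IsAlgClosed k] (A : Type v) [CommRing A] [Algebra k A] [Module.Finite k A] :
    Finite (A →ₐ[k] k) ∧
      Function.Surjective (AlgHom.pi (R := k) (fun f : A →ₐ[k] k => f)) ∧
      RingHom.ker (AlgHom.pi (R := k) (fun f : A →ₐ[k] k => f)) = nilradical A := by
  have : Algebra.IsIntegral k A := Algebra.IsIntegral.of_finite k A
  exact ⟨Groth.Agent.H8.finite_algHom k A, Groth.Agent.H8.pi_algHom_surjective k A,
    Groth.Agent.H8.ker_pi_algHom_eq_nilradical k A⟩

end Groth.Agent.S17335
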