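import Groth.Statements.S17336
import Mathlib
import Groth.Agent.Lib.Helper8.Etale
-- import your own Groth.Agent.* helpers here

set_option autoImplicit false
universe u v
open CAlg

namespace Groth.Agent.S17336

/-- Let k be an algebraically closed field and A a commutative k-algebra which is finite-dimensional as
a k-vector space (a finite scheme X = Spec A with largest reduced subscheme X_red = Spec
(A/nilradical A) and immersion i : X_red → X). Then there is a unique morphism r : X → X_red with r
∘ i = id; on rings: the projection A → A/nilradical(A) admits exactly one section that is a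
k-algebra homomorphism. -/
theorem result (k : Type u) [Field k]
    [IsAlgClosed k] (A : Type v) [CommRing A] [Algebra k A] [Module.Finite k A] :
    ∃! s : (A ⧸ nilradical A) →ₐ[k] A,
      (Ideal.Quotient.mkₐ k (nilradical A)).comp s = AlgHom.id k (A ⧸ nilradical A) := by
  have hnoeth : IsNoetherianRing A := IsNoetherianRing.of_finite k A
  have hnil : IsNilpotent (nilradical A) := IsNoetherianRing.isNilpotent_nilradical A
  obtain ⟨s, hs⟩ := Algebra.FormallySmooth.exists_lift (R := k) (A := A ⧸ nilradical A)
    (nilradical A) hnil (AlgHom.id k (A ⧸ nilradical A))
  refine ⟨s, hs, ?_⟩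
  intro s' hs'
  exact Algebra.FormallyUnramified.lift_unique (R := k) (nilradical A) hnil s' s (hs'.trans hs.symm)

end Groth.Agent.S17336
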