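import Groth.Statements.S17352
import Groth.Agent.Lib.Helper7.SameKind
-- import your own Groth.Agent.* helpers here

set_option autoImplicit false
universe u v w w'
open scoped TensorProduct
open AzInv

namespace Groth.Agent.S17352

/-- (b) ⇒ (a): let `R` be a commutative ring with an involution `lam` whose fixed ring is exactly `S`;
assume that units have square roots locally for the etale topology of `S` (every unit of an etale
`S`-algebra becomes a square in some etale faithfully flat extension), and that `2` is a unit in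
`S`, or `R` is a quadratic etale `S`-algebra, or `n` is odd. Let `A` and `A'` be Azumaya
`R`-algebras of the same degree `n ≥ 1` with `lam`-involutions `t` and `t'`. If `t` and `t'` have
the same type, i.e. for some positive sizes the matrix algebras over `A` and `A'` with the
involutions induced by `t` and `t'` (apply the involution entrywise, then transpose) become
isomorphic as `R`-algebras with involution after an etale faithfully flat base change of `S`, then
`(A, t)` and `(A', t')` themselves become isomorphic as `R`-algebras with involution after an etale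
faithfully flat base change of `S`. (The source states this for an exact quotient of a locally
ringed topos with involution; the row is the affine case `Spec R → Spec S`, with etale coverings of
`Spec S` replaced by a single etale faithfully flat `S`-algebra.) -/
theorem result (S : Type u) (R : Type v) [CommRing S] [CommRing R] [Algebra S R]
    (lam : R ≃ₐ[S] R) (hlam : ∀ r, lam (lam r) = r) (hfix : RInv.IsFixedRing S R lam.toRingEquiv)
    (hsq : ∀ (S₁ : Type u) [CommRing S₁] [Algebra S S₁] [Algebra.Etale S S₁] (x : S₁ˣ),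
      ∃ (S₂ : Type u) (_ : CommRing S₂) (_ : Algebra S₁ S₂) (_ : Algebra.Etale S₁ S₂)
        (_ : Module.FaithfullyFlat S₁ S₂) (y : S₂), y * y = algebraMap S₁ S₂ ↑x)
    (n : ℕ) (hn : 0 < n) (hcond : IsUnit (2 : S) ∨ RInv.IsQuadEtale S R ∨ Odd n)
    (A : Type w) [Ring A] [Algebra S A] [Algebra R A] [IsScalarTower S R A]
    (A' : Type w') [Ring A'] [Algebra S A'] [Algebra R A'] [IsScalarTower S R A']
    (hA : AzInv.IsAzumayaDeg R A n) (hA' : AzInv.IsAzumayaDeg R A' n)
    (t : AzInv.LamInv R A lam) (t' : AzInv.LamInv R A' lam) (h : AzInv.SameType S lam t t') :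
    AzInv.LocIsoEt S lam t t' := by
  have hsq' : Groth.Agent.H7.OddStd.HasSqrt S := hsq
  obtain ⟨m, m', hm, hm', hloc⟩ := h
  apply Groth.Agent.H7.IsoOv.locIsoEt_of_isoAt
  intro q
  have hstd : Groth.Agent.H7.StdInv.StdAt S R lam A t n q →
      Groth.Agent.H7.StdInv.StdAt S R lam A' t' n q →
      Groth.Agent.H7.IsoOv.IsoAt S R lam A A' t t' q :=
    Groth.Agent.H7.SameKind.isoAt_of_stdAt S R lam A A' t t' n hn hA hA' q
  rcases hcond with h2 | hqe | hodd
  · haveI := q.isPrime
    rcases Groth.Agent.H7.RInvB.ramP_or_exists lam hlam hfix q.asIdeal with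
      hram | ⟨r₀, s, hs, hsq''⟩
    · have hisoAt : Groth.Agent.H7.IsoOv.IsoAt S R lam (Matrix (Fin m) (Fin m) A)
          (Matrix (Fin m') (Fin m') A') (t.matrix (Fin m)) (t'.matrix (Fin m')) q := by
        obtain ⟨S₀, _, _, het, hff, hiso⟩ :=
          Groth.Agent.H7.IsoOv.exists_isoOver_of_locIsoEt S R lam _ _ _ _ hloc
        obtain ⟨q₀, hq₀⟩ :=
          PrimeSpectrum.comap_surjective_of_faithfullyFlat (A := S) (B := S₀) q
        exact ⟨S₀, inferInstance, inferInstance, het, ⟨q₀, hq₀⟩, hiso⟩
      rcases Groth.Agent.H7.RamStd.L1 S R lam hlam hfix A t n h2 hsq' hn hA q with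
        h1 | ⟨κ, _, _, hκ, h1⟩
      · rcases Groth.Agent.H7.RamStd.L1 S R lam hlam hfix A' t' n h2 hsq' hn hA' q with
          h1' | ⟨κ', _, _, hκ', h1'⟩
        · exact hstd h1 h1'
        · exfalso
          have hA'' : AzInv.IsAzumayaDeg R A' (2 * Fintype.card κ') := by rw [hκ']; exact hA'
          exact Groth.Agent.H7.SameKind.false_of_kp_km S R lam hlam hfix A A' t t' h2 q hram n
            (Fintype.card κ') m m' hn (by omega) hm hm' hA hA''
            (Groth.Agent.H7.StdP.stdAtP_of_stdAt S R lam A t n q h1)
            (Groth.Agent.H7.SameKind.kmAt_of_flip S R lam A' t' κ' _ rfl q h1') hisoAt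
      · rcases Groth.Agent.H7.RamStd.L1 S R lam hlam hfix A' t' n h2 hsq' hn hA' q with
          h1' | ⟨κ', _, _, hκ', h1'⟩
        · exfalso
          have hA'' : AzInv.IsAzumayaDeg R A (2 * Fintype.card κ) := by rw [hκ]; exact hA
          obtain ⟨S₀, _, _, het, hq₀, hiso⟩ := hisoAt
          exact Groth.Agent.H7.SameKind.false_of_kp_km S R lam hlam hfix A' A t' t h2 q hram n
            (Fintype.card κ) m' m hn (by omega) hm' hm hA' hA''
            (Groth.Agent.H7.StdP.stdAtP_of_stdAt S R lam A' t' n q h1')
            (Groth.Agent.H7.SameKind.kmAt_of_flip S R lam A t κ _ rfl q h1)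
            ⟨S₀, inferInstance, inferInstance, het, hq₀,
              Groth.Agent.H7.IsoOv.IsoOver.symm S R lam _ _ _ _ S₀ hiso⟩
        · have hι : Fintype.card (Fin 2 × Fin (Fintype.card κ)) = n := by
            rw [Fintype.card_prod, Fintype.card_fin, Fintype.card_fin, hκ]
          exact Groth.Agent.H7.SameKind.isoAt_of_stdAtP S R lam A A' t t' n hn hA hA' hι
            (Groth.Agent.H7.SympStd.flip (Fin (Fintype.card κ)))
            (Groth.Agent.H7.SympStd.sgJ (Fin (Fintype.card κ))) q
            (Groth.Agent.H7.SameKind.kmAt_of_flip S R lam A t κ _ rfl q h1)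
            (Groth.Agent.H7.SameKind.kmAt_of_flip S R lam A' t' κ' _ (by omega) q h1')
    · exact hstd (Groth.Agent.H7.RamStd.stdAt_unram S R lam hlam hfix A t n hn hA q r₀ s hs hsq'')
        (Groth.Agent.H7.RamStd.stdAt_unram S R lam hlam hfix A' t' n hn hA' q r₀ s hs hsq'')
  · exact hstd (Groth.Agent.H7.RamStd.stdAt_of_isQuadEtale S R lam hlam hfix A t n hqe hn hA q)
      (Groth.Agent.H7.RamStd.stdAt_of_isQuadEtale S R lam hlam hfix A' t' n hqe hn hA' q)
  · exact hstd (Groth.Agent.H7.OddStd.thm S R lam hlam A t n hfix hsq' hodd hA q)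
      (Groth.Agent.H7.OddStd.thm S R lam hlam A' t' n hfix hsq' hodd hA' q)

end Groth.Agent.S17352
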