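import Groth.Statements.S1737
import Groth.Agent.Lib.Helper6.SkQuot

set_option autoImplicit false
set_option linter.style.haveILetI false
universe u
open LocCoh

namespace Groth.Agent.S1737

/-- Let A be a Noetherian ring, T ⊆ Spec A stable under specialization and M a finite A-module. There
are a finite A-module M' and a surjection M → M' which is bijective after localizing at every prime
outside T and such that M'_p has depth ≥ 1 over A_p for every p in T. (The source states this for
coherent modules on a Noetherian scheme, with uniqueness.) -/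
theorem result (A : Type u) [CommRing A] [IsNoetherianRing A] (T : Set (PrimeSpectrum A)) (hT : StableUnderSpecialization T) (M : Type u) [AddCommGroup M] [Module A M] [Module.Finite A M] : ∃ (M' : Type u) (_ : AddCommGroup M') (_ : Module A M') (_ : Module.Finite A M') (f : M →ₗ[A] M'), Function.Surjective f ∧ (∀ p : PrimeSpectrum A, p ∉ T → Function.Bijective (LocalizedModule.map p.asIdeal.primeCompl f)) ∧ ∀ p : PrimeSpectrum A, p ∈ T → 1 ≤ LocCoh.depth (Localization.AtPrime p.asIdeal) (LocalizedModule p.asIdeal.primeCompl M') := by
  classical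
  -- the submodule of sections supported in `T`
  let N : Submodule A M :=
    { carrier := {x | ∀ q : PrimeSpectrum A, q ∉ T → ∃ s ∈ q.asIdeal.primeCompl, s • x = 0}
      add_mem' := by
        intro a b ha hb q hq
        obtain ⟨s, hs, hsa⟩ := ha q hq
        obtain ⟨t, ht, htb⟩ := hb q hq
        refine ⟨s * t, Submonoid.mul_mem _ hs ht, ?_⟩
        have e1 : (s * t) • a = t • s • a := by rw [mul_comm, mul_smul]
        have e2 : (s * t) • b = s • t • b := by rw [mul_smul]
        rw [smul_add, e1, e2, hsa, htb, smul_zero, smul_zero, add_zero]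
      zero_mem' := fun q _ => ⟨1, Submonoid.one_mem _, smul_zero _⟩
      smul_mem' := by
        intro c a ha q hq
        obtain ⟨s, hs, hsa⟩ := ha q hq
        exact ⟨s, hs, by rw [smul_comm, hsa, smul_zero]⟩ }
  have hN : ∀ x : M, x ∈ N ↔ ∀ q : PrimeSpectrum A, q ∉ T →
      ∃ s ∈ q.asIdeal.primeCompl, s • x = 0 := fun x => Iff.rfl
  refine ⟨M ⧸ N, inferInstance, inferInstance, inferInstance, N.mkQ, N.mkQ_surjective, ?_, ?_⟩
  · intro p hp
    constructor
    · rw [← LinearMap.ker_eq_bot, eq_bot_iff]
      intro z hz
      rw [LinearMap.mem_ker] at hz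
      induction z using LocalizedModule.induction_on with
      | h m s =>
        rw [LocalizedModule.map_mk, ← LocalizedModule.zero_mk 1, LocalizedModule.mk_eq] at hz
        obtain ⟨t, ht⟩ := hz
        simp only [one_smul, smul_zero] at ht
        have h1 : t.1 • m ∈ N := by
          rw [← Submodule.Quotient.mk_eq_zero, Submodule.Quotient.mk_smul]
          exact ht
        obtain ⟨t', ht', htm⟩ := (hN _).mp h1 p hp
        rw [Submodule.mem_bot, ← LocalizedModule.zero_mk 1, LocalizedModule.mk_eq]
        refine ⟨⟨t' * t.1, Submonoid.mul_mem _ ht' t.2⟩, ?_⟩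
        simp only [one_smul, smul_zero]
        rw [Submonoid.mk_smul, mul_smul]
        exact htm
    · intro z
      induction z using LocalizedModule.induction_on with
      | h m s =>
        obtain ⟨x, rfl⟩ := N.mkQ_surjective m
        exact ⟨LocalizedModule.mk x s, by rw [LocalizedModule.map_mk]⟩
  · intro p hp
    have hass : p.asIdeal ∉ associatedPrimes A (M ⧸ N) := by
      intro hcon
      obtain ⟨-, f, hf⟩ := (isAssociatedPrime_iff_exists_injective_linearMap p.asIdeal _).mp hcon
      obtain ⟨x, hx⟩ := N.mkQ_surjective (f 1)
      have hxN : x ∈ N := by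
        rw [hN]
        intro q hq
        have hnle : ¬ p.asIdeal ≤ q.asIdeal := by
          intro hle
          apply hq
          exact hT ((PrimeSpectrum.le_iff_specializes p q).mp hle) hp
        obtain ⟨a, hap, haq⟩ := SetLike.not_le_iff_exists.mp hnle
        have h1 : a • x ∈ N := by
          rw [← Submodule.Quotient.mk_eq_zero, Submodule.Quotient.mk_smul]
          have : (Submodule.Quotient.mk x : M ⧸ N) = f 1 := hx
          rw [this, ← map_smul]
          have h2 : a • (1 : A ⧸ p.asIdeal) = 0 := by
            rw [Algebra.smul_def, mul_one]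
            exact Ideal.Quotient.eq_zero_iff_mem.mpr hap
          rw [h2, map_zero]
        obtain ⟨s, hs, hsx⟩ := (hN _).mp h1 q hq
        refine ⟨s * a, Submonoid.mul_mem _ hs haq, ?_⟩
        rw [mul_smul]
        exact hsx
      have h3 : f 1 = 0 := by
        rw [← hx, Submodule.mkQ_apply, Submodule.Quotient.mk_eq_zero]
        exact hxN
      have h4 : (1 : A ⧸ p.asIdeal) = 0 := hf (h3.trans (map_zero f).symm)
      haveI : Nontrivial (A ⧸ p.asIdeal) := Ideal.Quotient.nontrivial_iff.mpr p.2.ne_top
      exact one_ne_zero h4
    have h5 := H6.Depth.locDepthGE_one_of_not_mem_associatedPrimes (M ⧸ N) p.asIdeal hass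
    rw [H6.Depth.locDepthGE_iff] at h5
    exact_mod_cast h5

end Groth.Agent.S1737
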