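import Groth.Statements.S1738
import Groth.Agent.Lib.Helper2.HTBridgeC
import Groth.Agent.S1737
import Groth.Agent.S1727
import Groth.Agent.S1751

set_option autoImplicit false
universe u
open CategoryTheory
attribute [local instance] HasDerivedCategory.standard
open LocCoh

namespace Groth.Agent.S1738

/-- Let A be a Noetherian ring with a dualizing complex, T' ⊆ Spec A stable under specialization, and M
a finite A-module such that depth(M_p) ≥ 1 whenever q covers p in Spec A with q in T' and p outside
T'. Then there are a finite A-module M'' and a map M → M'' which is bijective after localizing at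
every prime outside T' and such that M''_p has depth ≥ 2 for every p in T'. (The source: coherent
modules on a Noetherian scheme locally having a dualizing complex, with uniqueness and a pullback
clause.) -/
theorem result (A : Type u) [CommRing A] [IsNoetherianRing A] (hA : ∃ ω : Dual.D A, Dual.IsDualizing A ω) (T' : Set (PrimeSpectrum A)) (hT : StableUnderSpecialization T') (M : Type u) [AddCommGroup M] [Module A M] [Module.Finite A M] (hM : ∀ p q : PrimeSpectrum A, p ⋖ q → q ∈ T' → p ∉ T' → 1 ≤ LocCoh.depth (Localization.AtPrime p.asIdeal) (LocalizedModule p.asIdeal.primeCompl M)) : ∃ (M'' : Type u) (_ : AddCommGroup M'') (_ : Module A M'') (_ : Module.Finite A M'') (f : M →ₗ[A] M''), (∀ p : PrimeSpectrum A, p ∉ T' → Function.Bijective (LocalizedModule.map p.asIdeal.primeCompl f)) ∧ ∀ p : PrimeSpectrum A, p ∈ T' → 2 ≤ LocCoh.depth (Localization.AtPrime p.asIdeal) (LocalizedModule p.asIdeal.primeCompl M'') := by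
  obtain ⟨N, iN1, iN2, iN3, f₁, -, hbij, hdepth⟩ := Groth.Agent.S1737.result A T' hT M
  have hpure : Groth.Agent.H2.HTBridge.TPure T' N :=
    Groth.Agent.H2.HTBridge.tpure_of_depth T' N hdepth
  have hfin : ∀ i : ℕ, i ≤ 1 → Module.Finite A (Dual2.HT T' i N) := by
    rw [Groth.Agent.S1727.result A hA T' hT 1 N]
    intro p q hp hq hpq
    have hlt : p < q := lt_of_le_of_ne hpq (fun h => hp (h ▸ hq))
    rw [Nat.cast_one]
    apply Groth.Agent.H2.HTBridge.one_lt_depth_add _ hlt
    intro hcov
    rw [← Groth.Agent.H2.HTBridge.depth_eq_of_bijective p f₁ (hbij p hp)]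
    exact hM p q hcov hq hp
  obtain ⟨J₀, hJ₀, hkill⟩ := (Groth.Agent.S1751.result A T' hT N 1).mp hfin
  have hk : ∀ a ∈ J₀, ∀ x : Dual2.HT T' 1 N, a • x = 0 := fun a ha x => hkill 1 le_rfl a ha x
  refine ⟨LocCoh.DT J₀ N, inferInstance, inferInstance,
    Groth.Agent.H2.HTBridge.finite_DT T' N J₀ hJ₀ hk hpure, LocCoh.toDT J₀ N ∘ₗ f₁, ?_, ?_⟩
  · intro p hp
    rw [Groth.Agent.H2.HTBridge.map_comp_apply]
    exact (Groth.Agent.H2.HTBridge.bijective_map_toDT T' N J₀ hJ₀ hk hpure p hp).comp (hbij p hp)
  · intro p hp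
    exact Groth.Agent.H2.HTBridge.two_le_depth_DT T' N J₀ hJ₀ hk hT hpure p hp

end Groth.Agent.S1738
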