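import Groth.Statements.S17409
import Mathlib
-- import your own Groth.Agent.* helpers here

set_option autoImplicit false
universe u
open Prym5

namespace Groth.Agent.S17409

/-- Over a perfect field K of characteristic different from 2 and 3, let G₂, G₃, G₄ be polynomials in
two variables x, y and consider G₂ z² + 2 G₃ z + G₄ as a polynomial in the three variables x, y, z.
If it lies in the square of the ideal (x, y, z) — the surface it defines has a double point at the
origin — then the discriminant G₃² − G₂ G₄ lies in the square of the ideal (x, y) of K[x, y], so the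
plane curve G₃² − G₂ G₄ = 0 is singular at the origin. (This is the affine-local form used in the
published proof: the surface is a quartic with a node at the centre of projection placed at infinity
on the z-axis, and the curve is the branch sextic of that projection.) -/
theorem result (K : Type u) [Field K] [PerfectField K]
    (h2 : (2 : K) ≠ 0) (h3 : (3 : K) ≠ 0) (G₂ G₃ G₄ : MvPolynomial (Fin 2) K)
    (h : MvPolynomial.rename (Fin.castSucc : Fin 2 → Fin 3) G₂ * MvPolynomial.X (2 : Fin 3) ^ 2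
        + 2 * MvPolynomial.rename (Fin.castSucc : Fin 2 → Fin 3) G₃ * MvPolynomial.X (2 : Fin 3)
        + MvPolynomial.rename (Fin.castSucc : Fin 2 → Fin 3) G₄
        ∈ (Ideal.span (Set.range (MvPolynomial.X : Fin 3 → MvPolynomial (Fin 3) K))) ^ 2) :
    G₃ ^ 2 - G₂ * G₄ ∈ (Ideal.span (Set.range (MvPolynomial.X : Fin 2 → MvPolynomial (Fin 2) K))) ^ 2 := by
  classical
  set P : MvPolynomial (Fin 3) K := MvPolynomial.rename (Fin.castSucc : Fin 2 → Fin 3) G₂ * MvPolynomial.X (2 : Fin 3) ^ 2
        + 2 * MvPolynomial.rename (Fin.castSucc : Fin 2 → Fin 3) G₃ * MvPolynomial.X (2 : Fin 3)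
        + MvPolynomial.rename (Fin.castSucc : Fin 2 → Fin 3) G₄ with hP
  set I3 := Ideal.span (Set.range (MvPolynomial.X : Fin 3 → MvPolynomial (Fin 3) K)) with hI3
  set I2 := Ideal.span (Set.range (MvPolynomial.X : Fin 2 → MvPolynomial (Fin 2) K)) with hI2
  -- first substitution: z ↦ 0
  let g₁ : Fin 3 → MvPolynomial (Fin 2) K := Fin.lastCases 0 MvPolynomial.X
  let f₁ : MvPolynomial (Fin 3) K →ₐ[K] MvPolynomial (Fin 2) K := MvPolynomial.aeval g₁
  have hg₁ : g₁ ∘ (Fin.castSucc : Fin 2 → Fin 3) = MvPolynomial.X := by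
    funext j; simp [g₁]
  have hf₁ren : ∀ G : MvPolynomial (Fin 2) K, f₁ (MvPolynomial.rename Fin.castSucc G) = G := by
    intro G
    simp only [f₁]
    rw [MvPolynomial.aeval_rename, hg₁, MvPolynomial.aeval_X_left, AlgHom.id_apply]
  have hf₁X2 : f₁ (MvPolynomial.X (2 : Fin 3)) = 0 := by
    simp only [f₁, MvPolynomial.aeval_X]
    exact Fin.lastCases_last
  have hf₁P : f₁ P = G₄ := by
    rw [hP]
    simp only [map_add, map_mul, map_pow, hf₁ren, hf₁X2]
    ring
  have hmap₁ : Ideal.map f₁ I3 ≤ I2 := by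
    rw [hI3, Ideal.map_span, Ideal.span_le]
    rintro _ ⟨_, ⟨i, rfl⟩, rfl⟩
    show f₁ (MvPolynomial.X i) ∈ I2
    simp only [f₁, MvPolynomial.aeval_X]
    refine Fin.lastCases ?_ ?_ i
    · have : g₁ (Fin.last 2) = 0 := Fin.lastCases_last
      rw [this]; exact I2.zero_mem
    · intro j
      simp only [g₁, Fin.lastCases_castSucc]
      exact Ideal.subset_span ⟨j, rfl⟩
  have hG₄ : G₄ ∈ I2 ^ 2 := by
    rw [← hf₁P]
    have h1 : f₁ P ∈ Ideal.map f₁ (I3 ^ 2) := Ideal.mem_map_of_mem _ h
    rw [Ideal.map_pow] at h1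
    exact Ideal.pow_right_mono hmap₁ 2 h1
  -- second substitution: x, y ↦ 0, z ↦ X
  let g₂ : Fin 3 → Polynomial K := Fin.lastCases Polynomial.X (fun _ => 0)
  let f₂ : MvPolynomial (Fin 3) K →ₐ[K] Polynomial K := MvPolynomial.aeval g₂
  have hg₂ : g₂ ∘ (Fin.castSucc : Fin 2 → Fin 3) = fun _ => 0 := by
    funext j; simp [g₂]
  have hf₂ren : ∀ G : MvPolynomial (Fin 2) K,
      f₂ (MvPolynomial.rename Fin.castSucc G) = Polynomial.C (MvPolynomial.constantCoeff G) := by
    intro G
    simp only [f₂]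
    rw [MvPolynomial.aeval_rename, hg₂]
    have := MvPolynomial.aeval_zero (R := K) (S₁ := Polynomial K) (σ := Fin 2) G
    simp at this ⊢
  have hf₂X2 : f₂ (MvPolynomial.X (2 : Fin 3)) = Polynomial.X := by
    simp only [f₂, MvPolynomial.aeval_X]
    exact Fin.lastCases_last
  have hmap₂ : Ideal.map f₂ I3 ≤ Ideal.span {Polynomial.X} := by
    rw [hI3, Ideal.map_span, Ideal.span_le]
    rintro _ ⟨_, ⟨i, rfl⟩, rfl⟩
    show f₂ (MvPolynomial.X i) ∈ Ideal.span {Polynomial.X}
    simp only [f₂, MvPolynomial.aeval_X]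
    refine Fin.lastCases ?_ ?_ i
    · simp only [g₂, Fin.lastCases_last]
      exact Ideal.subset_span rfl
    · intro j
      simp [g₂]
  have hf₂P : f₂ P ∈ Ideal.span {(Polynomial.X : Polynomial K)} ^ 2 := by
    have h1 : f₂ P ∈ Ideal.map f₂ (I3 ^ 2) := Ideal.mem_map_of_mem _ h
    rw [Ideal.map_pow] at h1
    exact Ideal.pow_right_mono hmap₂ 2 h1
  rw [Ideal.span_singleton_pow, Ideal.mem_span_singleton, Polynomial.X_pow_dvd_iff] at hf₂P
  have hc1 := hf₂P 1 (by norm_num)
  have hf₂Pval : f₂ P = Polynomial.C (MvPolynomial.constantCoeff G₂) * Polynomial.X ^ 2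
      + 2 * Polynomial.C (MvPolynomial.constantCoeff G₃) * Polynomial.X
      + Polynomial.C (MvPolynomial.constantCoeff G₄) := by
    rw [hP]
    simp only [map_add, map_mul, map_pow, hf₂ren, hf₂X2, map_ofNat]
  rw [hf₂Pval] at hc1
  have h2C : (2 : Polynomial K) = Polynomial.C 2 := (map_ofNat Polynomial.C 2).symm
  rw [h2C, ← Polynomial.C_mul] at hc1
  simp only [Polynomial.coeff_add, Polynomial.coeff_C_mul_X_pow, Polynomial.coeff_C_mul_X,
    Polynomial.coeff_C] at hc1
  norm_num at hc1
  have hG₃0 : MvPolynomial.constantCoeff G₃ = 0 := by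
    rcases hc1 with h0 | h0
    · exact absurd h0 h2
    · exact h0
  have hG₃ : G₃ ∈ I2 := by
    have : G₃ ∈ MvPolynomial.idealOfVars (Fin 2) K ^ 1 := by
      rw [MvPolynomial.mem_pow_idealOfVars_iff']
      intro x hx
      have hx0 : x = 0 := by
        rw [Nat.lt_one_iff, Finsupp.degree_eq_zero_iff] at hx
        exact hx
      rw [hx0]
      exact hG₃0
    simpa using this
  refine Ideal.sub_mem _ (Ideal.pow_mem_pow hG₃ 2) (Ideal.mul_mem_left _ _ hG₄)

end Groth.Agent.S17409
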