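import Groth.Statements.S17411
import Mathlib
import Groth.Agent.Lib.Helper1.FibDimTot

set_option autoImplicit false
universe u
open CategoryTheory AlgebraicGeometry
open Prym5

namespace Groth.Agent.S17411

open AlgebraicGeometry CategoryTheory

theorem dim_univ_eq {T : Type*} [TopologicalSpace T] :
    topologicalKrullDim ↥(Set.univ : Set T) = topologicalKrullDim T :=
  IsHomeomorph.topologicalKrullDim_eq _ (Homeomorph.Set.univ T).isHomeomorph

theorem key (k : Type u) [Field k] (X Y Z : Scheme.{u}) (gY : Y ⟶ Spec (CommRingCat.of k))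
    (gZ : Z ⟶ Spec (CommRingCat.of k)) [LocallyOfFiniteType gY] [LocallyOfFiniteType gZ]
    [IrreducibleSpace Y] [IrreducibleSpace Z] (hdim : topologicalKrullDim Y = topologicalKrullDim Z)
    (ρ : X ⟶ Y) (η : Y ⟶ Z) (hη : η ≫ gZ = gY)
    (hfin : (irreducibleComponents X).Finite)
    [IsDominant (ρ ≫ η)] : IsDominant ρ := by
  haveI : LocallyOfFiniteType (η ≫ gZ) := by rw [hη]; infer_instance
  haveI : LocallyOfFiniteType η := locallyOfFiniteType_of_comp η gZ
  -- the generic point of `Z` is a maximal point
  have hmax : Groth.Agent.H1.FibDimTot.IsMaxPt (genericPoint Z) := by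
    intro z hz
    exact ((genericPoint_specializes z).antisymm hz).eq.symm
  obtain ⟨x, hx⟩ := Groth.Agent.H1.FibDimTot.exists_eq_of_isMaxPt (ρ ≫ η).continuous
    (ρ ≫ η).denseRange hfin (genericPoint Z) hmax
  have hx' : η (ρ x) = genericPoint Z := hx
  -- dimension of the closure of `ρ x`
  have h1 := Groth.Agent.H1.FibDimTot.dim_closure_eq_add gZ η (ρ x)
  have h2 : topologicalKrullDim ↥(closure ({η (ρ x)} : Set Z)) = topologicalKrullDim Z := by
    rw [hx', genericPoint_closure, dim_univ_eq]
  have h3 : (0 : WithBot ℕ∞) ≤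
      topologicalKrullDim ↥(closure ({η.asFiber (ρ x)} : Set ↥(η.fiber (η (ρ x))))) := by
    haveI : Nonempty ↥(closure ({η.asFiber (ρ x)} : Set ↥(η.fiber (η (ρ x))))) :=
      ⟨⟨_, subset_closure rfl⟩⟩
    exact Groth.Agent.H3.TopDim.dim_nonneg
  have h4 : topologicalKrullDim Y ≤ topologicalKrullDim ↥(closure ({ρ x} : Set Y)) := by
    rw [h1, h2, hdim]
    exact le_add_of_nonneg_right h3
  -- finiteness of `dim Y`
  have hYfin : topologicalKrullDim Y ≠ ⊤ := by
    obtain ⟨t, -, ht⟩ := Groth.Agent.H1.ClosureDim.exists_trdeg_eq_dim_closure gY (genericPoint Y)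
    rw [genericPoint_closure, dim_univ_eq] at ht
    rw [ht]
    intro h'
    have h'' : ((t : ℕ∞) : WithBot ℕ∞) = ((⊤ : ℕ∞) : WithBot ℕ∞) := h'
    exact ENat.natCast_ne_top t (WithBot.coe_injective h'')
  have hcl : closure ({ρ x} : Set Y) = Set.univ := by
    by_contra hne
    exact absurd h4 (not_le.mpr
      (Groth.Agent.H3.TopDim.dim_lt_of_isClosed_ne_univ hYfin _ isClosed_closure hne))
  refine ⟨?_⟩
  rw [DenseRange, dense_iff_closure_eq, ← Set.univ_subset_iff, ← hcl]
  exact closure_mono (Set.singleton_subset_iff.mpr ⟨x, rfl⟩)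

/-- Let k be an algebraically closed field of characteristic zero and X, Y, Z schemes of finite type
over k, with Y and Z irreducible of the same dimension, η : Y → Z a dominant k-morphism and ρ : X →
Y a k-morphism. Then the composite ρ ≫ η is dominant exactly when ρ is dominant. (The published
statement concerns the forgetful map from the moduli space of étale double covers of genus-five
curves to the moduli space of genus-five curves, both irreducible of dimension 12, and a morphism
into the former; its argument uses only the hypotheses kept here.) -/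
theorem result (k : Type u) [Field k] [IsAlgClosed k]
    [CharZero k] (X Y Z : Scheme.{u}) [X.Over (Spec (CommRingCat.of k))] [Y.Over (Spec (CommRingCat.of k))]
    [Z.Over (Spec (CommRingCat.of k))]
    [LocallyOfFiniteType (X ↘ Spec (CommRingCat.of k))] [QuasiCompact (X ↘ Spec (CommRingCat.of k))]
    [LocallyOfFiniteType (Y ↘ Spec (CommRingCat.of k))] [QuasiCompact (Y ↘ Spec (CommRingCat.of k))]
    [LocallyOfFiniteType (Z ↘ Spec (CommRingCat.of k))] [QuasiCompact (Z ↘ Spec (CommRingCat.of k))]
    [IrreducibleSpace Y] [IrreducibleSpace Z] (hdim : topologicalKrullDim Y = topologicalKrullDim Z)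
    (ρ : X ⟶ Y) [ρ.IsOver (Spec (CommRingCat.of k))] (η : Y ⟶ Z) [η.IsOver (Spec (CommRingCat.of k))]
    [IsDominant η] :
    IsDominant (ρ ≫ η) ↔ IsDominant ρ := by
  constructor
  · intro h
    haveI : IsLocallyNoetherian X :=
      LocallyOfFiniteType.isLocallyNoetherian (X ↘ Spec (CommRingCat.of k))
    haveI : CompactSpace X :=
      QuasiCompact.compactSpace_of_compactSpace (X ↘ Spec (CommRingCat.of k))
    haveI : IsNoetherian X := ⟨⟩
    exact key k X Y Z (Y ↘ Spec (CommRingCat.of k)) (Z ↘ Spec (CommRingCat.of k)) hdim ρ η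
      (CategoryTheory.comp_over η (Spec (CommRingCat.of k)))
      TopologicalSpace.NoetherianSpace.finite_irreducibleComponents
  · intro h
    infer_instance

end Groth.Agent.S17411
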