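import Groth.Statements.S1743
import Groth.Agent.Lib.Helper6.LCProps
import Groth.Agent.Lib.Helper6.LocSplit

set_option autoImplicit false
universe u
open LocCoh

namespace Groth.Agent.S1743

/-- Let A be a Noetherian ring, J ⊆ I ideals and i ≥ 0. If H^i_I(A) is annihilated by J^n for some n,
then for every finite A-module M such that M_f is a projective A_f-module for every f in I, the
module H^i_I(M) is annihilated by J^m for some m. (The source allows any ring with finitely
generated ideals and finitely presented M.) -/
theorem result (A : Type u) [CommRing A] [IsNoetherianRing A] (J I : Ideal A) (hJI : J ≤ I) (i n : ℕ) (hA : ∀ a ∈ J ^ n, ∀ x : LocCoh.H I i A, a • x = 0) (M : Type u) [AddCommGroup M] [Module A M] [Module.Finite A M] (hM : ∀ f ∈ I, Module.Projective (Localization.Away f) (LocalizedModule (Submonoid.powers f) M)) : ∃ m : ℕ, ∀ a ∈ J ^ m, ∀ x : LocCoh.H I i M, a • x = 0 := by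
  have hfp : Module.FinitePresentation A M := Module.finitePresentation_of_finite A M
  -- for each `f ∈ I` some power `f^e` times `J^n` kills `H^i_I(M)`
  have key : ∀ f ∈ I, ∃ e : ℕ, ∀ a ∈ J ^ n, ∀ x : LocCoh.H I i M, (a * f ^ e) • x = 0 := by
    intro f hf
    have := hM f hf
    obtain ⟨k, f', g', s, hfg⟩ := Groth.Agent.H6.exists_split_of_localized_projective
      (Submonoid.powers f) M (Localization.Away f) (LocalizedModule (Submonoid.powers f) M)
      (LocalizedModule.mkLinearMap (Submonoid.powers f) M)
    obtain ⟨s, e, rfl⟩ := s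
    refine ⟨e, fun a ha x => ?_⟩
    have h2 := Groth.Agent.H6.LC.smul_eq_zero_finsupp (I := I) (i := i) (X := A) a (hA a ha) k
    have hfg' : CategoryTheory.CategoryStruct.comp (ModuleCat.ofHom g') (ModuleCat.ofHom f') =
        (f ^ e) • CategoryTheory.CategoryStruct.id (ModuleCat.of A M) := by
      apply ModuleCat.hom_ext
      exact hfg
    exact Groth.Agent.H6.LC.smul_eq_zero_of_split (I := I) (i := i) (ModuleCat.ofHom f')
      (ModuleCat.ofHom g') (f ^ e) a hfg' h2 x
  let N : Submodule A (LocCoh.H I i M) := (J ^ n) • (⊤ : Submodule A (LocCoh.H I i M))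
  let K : Ideal A := Module.annihilator A N
  have hJK : J ≤ K.radical := by
    intro f hf
    obtain ⟨e, he⟩ := key f (hJI hf)
    refine ⟨e, ?_⟩
    rw [Module.mem_annihilator]
    rintro ⟨y, hy⟩
    apply Subtype.ext
    change f ^ e • y = 0
    refine Submodule.smul_induction_on hy ?_ ?_
    · intro a ha x _
      rw [smul_smul, mul_comm]
      exact he a ha x
    · intro y z hy hz
      rw [smul_add, hy, hz, add_zero]
  obtain ⟨m', hm'⟩ := Ideal.exists_pow_le_of_le_radical_of_fg hJK (IsNoetherian.noetherian J)
  refine ⟨m' + n, fun b hb x => ?_⟩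
  rw [pow_add] at hb
  refine Submodule.mul_induction_on hb ?_ ?_
  · intro c hc a ha
    have hax : a • x ∈ N := Submodule.smul_mem_smul ha Submodule.mem_top
    have := Module.mem_annihilator.mp (hm' hc) ⟨a • x, hax⟩
    rw [mul_smul]
    exact congrArg Subtype.val this
  · intro y z hy hz
    rw [add_smul, hy, hz, add_zero]

end Groth.Agent.S1743
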