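import Groth.Statements.S17444
import Mathlib.Tactic
import Mathlib.RingTheory.Nilpotent.Basic
import Mathlib.Algebra.Polynomial.AlgebraMap
import Mathlib.Algebra.Polynomial.Div
import Mathlib.Algebra.Ring.GeomSum
-- import your own Groth.Agent.* helpers here

set_option autoImplicit false
universe u v
open SSRed

namespace Groth.Agent.S17444

/-- Let K be a field of characteristic zero, V a K-vector space and g a K-linear endomorphism of V such
that g - 1 is nilpotent (a unipotent automorphism). Then for every integer n > 0 the endomorphisms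
gⁿ - 1 and g - 1 have the same kernel: a vector fixed by gⁿ is fixed by g. (The published statement
assumes V finite-dimensional; this row allows any V.) -/
theorem result (K : Type u) (V : Type v) [Field K] [CharZero K]
    [AddCommGroup V] [Module K V] (g : Module.End K V) (hg : IsNilpotent (g - 1)) (n : ℕ) (hn : 0 < n) :
    LinearMap.ker (g ^ n - 1) = LinearMap.ker (g - 1) := by
  open Polynomial in
  -- S(X) = ∑_{i<n} X^i, and S - n = (X - 1) * T
  set S : K[X] := ∑ i ∈ Finset.range n, (X : K[X]) ^ i with hS
  have hS1 : S.eval 1 = (n : K) := by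
    simp [hS, Polynomial.eval_finsetSum]
  obtain ⟨T, hT⟩ : (X - C (1 : K)) ∣ S - C (S.eval 1) := Polynomial.X_sub_C_dvd_sub_C_eval
  rw [hS1] at hT
  have hSg : Polynomial.aeval g S = (n : K) • (1 : Module.End K V) + (g - 1) * Polynomial.aeval g T := by
    have h := congrArg (Polynomial.aeval g) hT
    simp only [map_sub, map_mul, Polynomial.aeval_X, Polynomial.aeval_C, map_one] at h
    rw [← h, Algebra.algebraMap_eq_smul_one]
    abel
  have hcomm : Commute (g - 1) (Polynomial.aeval g T) := by
    have : g - 1 = Polynomial.aeval g (X - C (1 : K)) := by simp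
    rw [this]
    exact (Commute.all (X - C (1 : K)) T).map (Polynomial.aeval g)
  have hnil : IsNilpotent ((g - 1) * Polynomial.aeval g T) := hcomm.isNilpotent_mul_right hg
  have hnK : (n : K) ≠ 0 := by exact_mod_cast hn.ne'
  have hunit : IsUnit ((n : K) • (1 : Module.End K V)) := by
    refine ⟨⟨(n : K) • 1, (n : K)⁻¹ • 1, ?_, ?_⟩, rfl⟩
    · rw [smul_mul_smul_comm, one_mul, mul_inv_cancel₀ hnK, one_smul]
    · rw [smul_mul_smul_comm, one_mul, inv_mul_cancel₀ hnK, one_smul]
  have hSunit : IsUnit (Polynomial.aeval g S) := by
    rw [hSg]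
    refine hnil.isUnit_add_left_of_commute hunit ?_
    exact (Commute.smul_right (Commute.one_right _) _)
  have hfact : g ^ n - 1 = Polynomial.aeval g S * (g - 1) := by
    have h := congrArg (Polynomial.aeval g) (geom_sum_mul (X : K[X]) n)
    simp only [map_sub, map_mul, map_pow, Polynomial.aeval_X, map_one] at h
    rw [← h]
  ext x
  simp only [LinearMap.mem_ker]
  rw [hfact, Module.End.mul_apply]
  constructor
  · intro h
    obtain ⟨u, hu⟩ := hSunit
    have : (↑u⁻¹ : Module.End K V) ((↑u : Module.End K V) ((g - 1) x)) = 0 := by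
      rw [hu, h, map_zero]
    rwa [← Module.End.mul_apply, Units.inv_mul, Module.End.one_apply] at this
  · intro h
    rw [h, map_zero]

end Groth.Agent.S17444
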