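import Groth.Statements.S17445
import Groth.Agent.Lib.Helper2.SSRedN3

set_option autoImplicit false
open Finset
open SSRed

namespace Groth.Agent.S17445

/-- For natural numbers g and B with B ≥ 2g + 1, a natural number d divides ∏_{a=1}^{g} (ℓ^{2a} - 1) for
every prime ℓ > B if and only if d divides N(g) = 2^{3g + v₂(g!)} · ∏_{3 ≤ p ≤ 2g+1, p prime}
p^{[2g/(p-1)] + Σ_{1 ≤ i ≤ [2g/(p-1)]} v_p(i)}. In words: N(g) is the greatest common divisor of
these products as ℓ runs through the primes beyond any bound that is at least 2g + 1; its prime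
factors are the primes p ≤ 2g + 1. (This is the number N(g) of the published result, which bounds
the degree of the field of semistable reduction of a g-dimensional abelian variety over a strictly
henselian discretely valued field; the printed phrase is the greatest common divisor over all large
primes, made precise here by the bound 2g + 1, below which a prime ℓ ≤ 2g + 1 divides N(g) but not
its own product.) -/
theorem result (g B d : ℕ) (hB : 2 * g + 1 ≤ B) :
    (∀ ℓ : ℕ, ℓ.Prime → B < ℓ → d ∣ ∏ a ∈ Icc 1 g, (ℓ ^ (2 * a) - 1)) ↔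
      d ∣ 2 ^ (3 * g + padicValNat 2 g.factorial) *
        ∏ p ∈ (Icc 3 (2 * g + 1)).filter Nat.Prime,
          p ^ ((2 * g) / (p - 1) + ∑ i ∈ Icc 1 ((2 * g) / (p - 1)), padicValNat p i) := by
  open Groth.Agent.H2.SSRedN in
  change (∀ ℓ : ℕ, ℓ.Prime → B < ℓ → d ∣ PP ℓ g) ↔ d ∣ NN g
  constructor
  · intro h
    obtain ⟨ℓ0, hℓ0B, hℓ0⟩ := Nat.exists_infinite_primes (B + 1)
    have hd : d ≠ 0 := by
      rintro rfl
      have := h ℓ0 hℓ0 (by omega)
      rw [zero_dvd_iff] at this
      exact PP_ne_zero hℓ0.two_le g this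
    rw [← Nat.factorization_prime_le_iff_dvd hd (NN_ne_zero g)]
    intro p hp
    haveI : Fact p.Prime := ⟨hp⟩
    by_cases hp2 : p = 2
    · subst hp2
      obtain ⟨ℓ, hℓB, hℓ, hmod⟩ := Nat.forall_exists_prime_gt_and_eq_mod (q := 8)
        (a := ((3 : ℕ) : ZMod 8)) ((ZMod.isUnit_iff_coprime 3 8).mpr (by norm_num)) B
      have h8 : ℓ % 8 = 3 := (ZMod.natCast_eq_natCast_iff' ℓ 3 8).mp hmod
      have h1 := (Nat.factorization_le_iff_dvd hd (PP_ne_zero hℓ.two_le g)).mpr (h ℓ hℓ hℓB) 2
      rw [Nat.factorization_def _ hp] at h1 ⊢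
      rw [Nat.factorization_def _ hp] at h1 ⊢
      rw [padicValNat_NN_two]
      rw [val_PP_two h8] at h1
      exact h1
    · obtain ⟨r, hru, hrord⟩ := exists_primitive hp hp2
      haveI : NeZero (p ^ 2) := ⟨pow_ne_zero _ hp.ne_zero⟩
      obtain ⟨ℓ, hℓB, hℓ, hmod⟩ := Nat.forall_exists_prime_gt_and_eq_mod hru B
      have hord : orderOf (ℓ : ZMod (p ^ 2)) = p * (p - 1) := by rw [hmod, hrord]
      have h1 := (Nat.factorization_le_iff_dvd hd (PP_ne_zero hℓ.two_le g)).mpr (h ℓ hℓ hℓB) p
      rw [Nat.factorization_def _ hp] at h1 ⊢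
      rw [Nat.factorization_def _ hp] at h1 ⊢
      rw [val_PP_odd hp2 hord hℓ.one_lt] at h1
      rw [padicValNat_NN_odd g p hp2]
      split_ifs with hle
      · exact h1
      · have hp3 : 3 ≤ p := by
          have := hp.two_le
          omega
        have : 2 * g / (p - 1) = 0 := Nat.div_eq_of_lt (by omega)
        rw [this] at h1
        simpa using h1
  · intro h ℓ hℓ hℓB
    refine dvd_trans h ?_
    by_cases hg : g = 0
    · subst hg
      simp [NN]
    have hℓ3 : 3 < ℓ := by omega
    have hodd : ¬ 2 ∣ ℓ := by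
      intro h2
      have := (Nat.prime_dvd_prime_iff_eq Nat.prime_two hℓ).mp h2
      omega
    rw [← Nat.factorization_prime_le_iff_dvd (NN_ne_zero g) (PP_ne_zero hℓ.two_le g)]
    intro p hp
    haveI : Fact p.Prime := ⟨hp⟩
    rw [Nat.factorization_def _ hp, Nat.factorization_def _ hp]
    by_cases hp2 : p = 2
    · subst hp2
      rw [padicValNat_NN_two]
      exact val_PP_two_ge hℓ.one_lt hodd g
    · rw [padicValNat_NN_odd g p hp2]
      split_ifs with hle
      · apply val_PP_odd_ge hp2 _ hℓ.one_lt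
        intro hd
        have := (Nat.prime_dvd_prime_iff_eq hp hℓ).mp hd
        omega
      · exact Nat.zero_le _

end Groth.Agent.S17445
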