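import Groth.Statements.S17462
import Mathlib
import Groth.Agent.Lib.Helper1.HensFin2

set_option autoImplicit false
universe u
open CategoryTheory CategoryTheory.Limits AlgebraicGeometry
open Hensel

namespace Groth.Agent.S17462

/-- Let R be a henselian local ring and let X and Y be quasi-finite separated schemes over Spec R
(locally of finite type, quasi-compact, with discrete fibres, separated), with finite parts W_X ⊆ X
and W_Y ⊆ Y (open and closed subsets, finite over Spec R as open subschemes, containing every point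
over the closed point). If W ⊆ X ×_R Y is the finite part of the fibre product (same three
conditions, for the structure morphism of X ×_R Y), then W = W_X ×_R W_Y: a point of X ×_R Y lies in
W if and only if its first projection lies in W_X and its second projection lies in W_Y. -/
theorem result (R : Type u) [CommRing R] [HenselianLocalRing R]
    {X Y : Scheme.{u}} (f : X ⟶ Spec (CommRingCat.of R)) (f' : Y ⟶ Spec (CommRingCat.of R))
    [LocallyQuasiFinite f] [LocallyOfFiniteType f] [QuasiCompact f] [IsSeparated f]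
    [LocallyQuasiFinite f'] [LocallyOfFiniteType f'] [QuasiCompact f'] [IsSeparated f']
    (WX : X.Opens) (hWX : (IsClosed (WX : Set ↥X) ∧ IsFinite (WX.ι ≫ f) ∧ ∀ x : ↥X, f.base x = IsLocalRing.closedPoint R → x ∈ WX))
    (WY : Y.Opens) (hWY : (IsClosed (WY : Set ↥Y) ∧ IsFinite (WY.ι ≫ f') ∧ ∀ x : ↥Y, f'.base x = IsLocalRing.closedPoint R → x ∈ WY))
    (W : (pullback f f').Opens)
    (hW : (IsClosed (W : Set ↥(pullback f f')) ∧ IsFinite (W.ι ≫ (pullback.fst f f' ≫ f)) ∧ ∀ x : ↥(pullback f f'), (pullback.fst f f' ≫ f).base x = IsLocalRing.closedPoint R → x ∈ W))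
    (z : ↥(pullback f f')) :
    z ∈ W ↔ ((pullback.fst f f').base z ∈ WX ∧ (pullback.snd f f').base z ∈ WY) := by
  haveI := hWX.2.1
  haveI := hWY.2.1
  haveI := hW.2.1
  constructor
  · intro hz
    constructor
    · exact Groth.Agent.H1.HensFin.map_mem_of_closedMap R (W.ι ≫ (pullback.fst f f' ≫ f))
        (W.ι ≫ (pullback.fst f f' ≫ f)).isClosedMap f
        (W.ι ≫ pullback.fst f f') (by rw [Category.assoc]) WX hWX.2.2 ⟨z, hz⟩
    · exact Groth.Agent.H1.HensFin.map_mem_of_closedMap R (W.ι ≫ (pullback.fst f f' ≫ f))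
        (W.ι ≫ (pullback.fst f f' ≫ f)).isClosedMap f'
        (W.ι ≫ pullback.snd f f') (by rw [Category.assoc, pullback.condition]) WY hWY.2.2 ⟨z, hz⟩
  · rintro ⟨h1, h2⟩
    let m : pullback (WX.ι ≫ f) (WY.ι ≫ f') ⟶ pullback f f' :=
      pullback.map (WX.ι ≫ f) (WY.ι ≫ f') f f' WX.ι WY.ι (𝟙 _) (by simp) (by simp)
    have hr := Scheme.Pullback.range_map (WX.ι ≫ f) (WY.ι ≫ f') f f' WX.ι WY.ι (𝟙 _)
      (by simp) (by simp)
    have hz : z ∈ Set.range m := by
      change z ∈ Set.range (pullback.map (WX.ι ≫ f) (WY.ι ≫ f') f f' WX.ι WY.ι (𝟙 _) _ _)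
      rw [hr]
      refine ⟨?_, ?_⟩
      · change (pullback.fst f f') z ∈ Set.range WX.ι
        rw [Scheme.Opens.range_ι]; exact h1
      · change (pullback.snd f f') z ∈ Set.range WY.ι
        rw [Scheme.Opens.range_ι]; exact h2
    obtain ⟨w, rfl⟩ := hz
    have hfin : IsFinite (pullback.fst (WX.ι ≫ f) (WY.ι ≫ f') ≫ WX.ι ≫ f) := inferInstance
    exact Groth.Agent.H1.HensFin.map_mem_of_closedMap R
      (pullback.fst (WX.ι ≫ f) (WY.ι ≫ f') ≫ WX.ι ≫ f)
      (pullback.fst (WX.ι ≫ f) (WY.ι ≫ f') ≫ WX.ι ≫ f).isClosedMap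
      (pullback.fst f f' ≫ f) m (by simp only [m]; rw [← Category.assoc, pullback.lift_fst, Category.assoc]) W hW.2.2 w

end Groth.Agent.S17462
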