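import Groth.Statements.S17469
import Mathlib
import Groth.Agent.Lib.Helper1.NormSections

set_option autoImplicit false
universe u
open CategoryTheory AlgebraicGeometry
open Variety

namespace Groth.Agent.S17469

/-- Let X be a locally Noetherian integral scheme all of whose local rings are integrally closed domains
and U an open subset of X. A section of O_X over U that is integral over the ring of global sections
of X, the latter acting through restriction, is itself the restriction of a global section. (The
published lemma is stated for an irreducible normal variety and for the graded ring of sections over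
U of all non-negative powers of a line bundle, integral over the corresponding ring of sections over
X; for the trivial line bundle its homogeneous components are the present statement, which is made
here for any locally Noetherian normal integral scheme.) -/
theorem result
    (X : Scheme.{u}) [AlgebraicGeometry.IsIntegral X] [IsLocallyNoetherian X]
    (hX : Pi1.IsNormalScheme X) (U : X.Opens) (b : Γ(X, U))
    (hb : (X.presheaf.map (homOfLE le_top : U ⟶ ⊤).op).hom.IsIntegralElem b) :
    b ∈ Set.range (X.presheaf.map (homOfLE le_top : U ⟶ ⊤).op).hom := by
  by_cases hU : U = ⊥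
  · haveI : Subsingleton Γ(X, U) :=
      CommRingCat.subsingleton_of_isTerminal (X.sheaf.isTerminalOfEqEmpty hU)
    exact ⟨0, Subsingleton.elim _ _⟩
  · haveI hne : Nonempty U := by
      by_contra h
      apply hU
      ext y
      simp only [TopologicalSpace.Opens.coe_bot, Set.mem_empty_iff_false, iff_false]
      intro hy
      exact h ⟨⟨y, hy⟩⟩
    haveI hne' : Nonempty (⊤ : X.Opens) := by
      obtain ⟨y⟩ := hne
      exact ⟨⟨y.1, trivial⟩⟩
    have hgenU : genericPoint X ∈ U :=
      ((genericPoint_spec X).mem_open_set_iff U.isOpen).mpr (by simpa using hne)
    have hres : ∀ a : Γ(X, ⊤), X.presheaf.germ U (genericPoint X) hgenU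
        ((X.presheaf.map (homOfLE le_top : U ⟶ ⊤).op).hom a) =
        X.presheaf.germ ⊤ (genericPoint X) trivial a := fun a =>
      TopCat.Presheaf.germ_res_apply X.presheaf (homOfLE (le_top : U ≤ ⊤)) (genericPoint X) hgenU a
    have h1 : IsIntegral Γ(X, ⊤) (X.presheaf.germ U (genericPoint X) hgenU b) := by
      obtain ⟨p, hp, hpe⟩ := hb
      refine ⟨p, hp, ?_⟩
      have h2 := Polynomial.hom_eval₂ p (X.presheaf.map (homOfLE le_top : U ⟶ ⊤).op).hom
        (X.presheaf.germ U (genericPoint X) hgenU).hom b
      rw [hpe, map_zero] at h2
      rw [h2]
      congr 1
      ext a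
      exact (hres a).symm
    obtain ⟨t, ht⟩ := Groth.Agent.Lib.Helper1.NormSections.exists_section_of_isIntegral hX _ (by
      intro V _ hV
      letI : Algebra Γ(X, ⊤) Γ(X, V) := (X.presheaf.map (homOfLE (le_top : V ≤ ⊤)).op).hom.toAlgebra
      haveI : IsScalarTower Γ(X, ⊤) Γ(X, V) X.functionField := by
        refine IsScalarTower.of_algebraMap_eq fun a => ?_
        exact (TopCat.Presheaf.germ_res_apply X.presheaf (homOfLE (le_top : V ≤ ⊤)) (genericPoint X) _ a).symm
      exact h1.tower_top)
    refine ⟨t, ?_⟩
    apply germ_injective_of_isIntegral X (genericPoint X) hgenU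
    rw [← ht]
    exact hres t

end Groth.Agent.S17469
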