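import Groth.Statements.S17471
import Mathlib
-- import your own Groth.Agent.* helpers here

set_option autoImplicit false
universe u v w x
open RootCh

namespace Groth.Agent.S17471

/-- Let Φ be a finite, reduced, crystallographic, irreducible root system with a base, and θ a positive
root such that θ + β is a root for no positive root β (so θ is the highest root). Then Σ_{β>0} ⟨β,
θ^∨⟩² = 2 + Σ_{β>0} ⟨β, θ^∨⟩ = 2(1 + ⟨ρ, θ^∨⟩), ρ being half the sum of the positive roots; in the
source the left side is the index of the adjoint representation obtained from its formal character,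
and 1 + ⟨ρ, θ^∨⟩ is the dual Coxeter number. -/
theorem result
    {ι : Type u} {R : Type v} {M : Type w} {N : Type x}
    [Field R] [LinearOrder R] [IsStrictOrderedRing R]
    [AddCommGroup M] [Module R M] [AddCommGroup N] [Module R N] [Fintype ι]
    (P : RootPairing ι R M N) [P.IsRootSystem] [P.IsCrystallographic] [P.IsReduced]
    [P.IsIrreducible] (b : P.Base) (θ : ι) (hθ : b.IsPos θ)
    (hmax : ∀ i : ι, b.IsPos i → P.root θ + P.root i ∉ Set.range P.root) :
    ∑ i ∈ Finset.univ.filter (fun i => 0 < b.height i), P.pairing i θ ^ 2 =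
      2 + ∑ i ∈ Finset.univ.filter (fun i => 0 < b.height i), P.pairing i θ := by
  classical
  have hθpos : 0 < b.height θ := hθ
  -- (a) positive roots pair non-negatively with θ
  have hA : ∀ j : ι, b.IsPos j → 0 ≤ P.pairingIn ℤ j θ := by
    intro j hj
    by_contra hneg
    push Not at hneg
    have hne : P.root j ≠ -P.root θ := by
      intro h
      rw [RootPairing.root_eq_neg_iff] at h
      have h2 := (RootPairing.Base.IsPos.neg_iff_not b θ).mp (by
        letI := P.indexNeg
        show b.IsPos (-θ)
        rw [show (-θ : ι) = P.reflectionPerm θ θ from rfl, ← h]; exact hj)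
      exact h2 hθ
    have := P.root_add_root_mem_of_pairingIn_neg hneg hne
    rw [add_comm] at this
    exact hmax j hj this
  -- (b) positive roots other than θ pair to 0 or 1
  have hB : ∀ i : ι, b.IsPos i → i ≠ θ → P.pairing i θ = 0 ∨ P.pairing i θ = 1 := by
    intro i hi hiθ
    have h0 := hA i hi
    rcases h0.eq_or_lt with h0 | h0
    · left
      rw [← P.algebraMap_pairingIn ℤ, ← h0]; simp
    right
    obtain ⟨k', hk'⟩ := P.root_sub_root_mem_of_pairingIn_pos h0 hiθ
    have hk'neg : ¬ b.IsPos k' := by
      intro hk'pos
      apply hmax k' hk'pos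
      exact ⟨i, by rw [hk']; abel⟩
    obtain ⟨k, hk⟩ : P.root θ - P.root i ∈ Set.range P.root := by
      rw [← P.neg_mem_range_root_iff, neg_sub, ← hk']; exact ⟨k', rfl⟩
    have hkpos : b.IsPos k := by
      rw [RootPairing.Base.isPos_iff, b.height_sub hk]
      have h1 : b.height k' = b.height i - b.height θ := b.height_sub hk'
      have h2 := b.height_ne_zero k'
      have h3 : ¬ 0 < b.height k' := hk'neg
      omega
    have hkθ : P.pairing k θ = 2 - P.pairing i θ := by
      rw [← P.root_coroot_eq_pairing, hk, map_sub, LinearMap.sub_apply, P.root_coroot_eq_pairing,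
        P.root_coroot_eq_pairing, P.pairing_same]
    have hkθ' : P.pairingIn ℤ k θ = 2 - P.pairingIn ℤ i θ := by
      have : (algebraMap ℤ R) (P.pairingIn ℤ k θ) = (algebraMap ℤ R) (2 - P.pairingIn ℤ i θ) := by
        rw [P.algebraMap_pairingIn ℤ, hkθ, ← P.algebraMap_pairingIn ℤ i θ]; simp
      exact (FaithfulSMul.algebraMap_injective ℤ R) this
    have h4 := hA k hkpos
    have hle : P.pairingIn ℤ i θ ≤ 2 := by omega
    have hcases : P.pairingIn ℤ i θ = 1 ∨ P.pairingIn ℤ i θ = 2 := by omega
    rcases hcases with h1 | h2
    · rw [← P.algebraMap_pairingIn ℤ, h1]; simp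
    · exfalso
      have hkθ0 : P.pairing k θ = 0 := by
        rw [← P.algebraMap_pairingIn ℤ, hkθ', h2]; simp
      have hθk0 : P.pairing θ k = 0 := (P.pairing_eq_zero_iff').mp hkθ0
      have hik : P.pairing i k = -2 := by
        have hi' : P.root i = P.root θ - P.root k := by rw [hk]; abel
        rw [← P.root_coroot_eq_pairing, hi', map_sub, LinearMap.sub_apply, P.root_coroot_eq_pairing,
          P.root_coroot_eq_pairing, P.pairing_same, hθk0]; ring
      have hrefl : P.reflection k (P.root i) = P.root θ + P.root k := by
        rw [P.reflection_apply_root, hik, hk]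
        module
      apply hmax k hkpos
      rw [← hrefl]
      exact ⟨P.reflectionPerm k i, P.root_reflectionPerm k i⟩
  -- the sum
  have hterm : ∀ i ∈ Finset.univ.filter (fun i => 0 < b.height i),
      P.pairing i θ ^ 2 = P.pairing i θ + (if i = θ then 2 else 0) := by
    intro i hi
    have hipos : b.IsPos i := (Finset.mem_filter.mp hi).2
    by_cases hiθ : i = θ
    · subst hiθ
      rw [P.pairing_same]; norm_num
    · rcases hB i hipos hiθ with h | h <;> rw [h] <;> simp [hiθ]
  rw [Finset.sum_congr rfl hterm, Finset.sum_add_distrib, Finset.sum_ite_eq', add_comm]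
  simp [hθpos]

end Groth.Agent.S17471
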