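import Groth.Statements.S17499
import Mathlib
import Groth.Agent.H4.K0Fib

set_option autoImplicit false
universe u
open RelQuot

namespace Groth.Agent.S17499

open CategoryTheory CategoryTheory.Limits AlgebraicGeometry in
/-- Let k be an algebraically closed field of characteristic zero, X, Y and F schemes of finite type
over k, and f : X → Y a morphism over k which is a Zariski locally trivial fibration with fibre F:
every point of Y has an open neighbourhood U together with an isomorphism from f⁻¹(U) to U ×_k F
whose composite with the first projection is the restriction of f. Then in the Grothendieck ring of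
k-schemes of finite type the class of X equals [Y] · [F]. The published statement is for varieties;
it is stated here for schemes of finite type over k, which present the same ring. -/
theorem result
    (k : Type u) [Field k] [IsAlgClosed k] [CharZero k] {X Y F : Scheme.{u}}
    (pY : Y ⟶ Spec (CommRingCat.of k)) [LocallyOfFiniteType pY] [QuasiCompact pY]
    (pF : F ⟶ Spec (CommRingCat.of k)) [LocallyOfFiniteType pF] [QuasiCompact pF]
    (f : X ⟶ Y) [LocallyOfFiniteType f] [QuasiCompact f]
    (hf : ∀ y : Y, ∃ (U : Y.Opens) (e : (f ⁻¹ᵁ U).toScheme ≅ pullback (U.ι ≫ pY) pF),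
      y ∈ U ∧ e.hom ≫ pullback.fst (U.ι ≫ pY) pF = f ∣_ U) :
    K0Var.cl (f ≫ pY) = K0Var.cl pY * K0Var.cl pF := by
  haveI : CompactSpace Y := QuasiCompact.compactSpace_of_compactSpace pY
  choose U e hyU he using hf
  obtain ⟨t, ht⟩ := isCompact_univ.elim_finite_subcover (fun y => ((U y : Y.Opens) : Set Y))
    (fun y => (U y).isOpen) (fun y _ => Set.mem_iUnion.mpr ⟨y, hyU y⟩)
  let σ : Fin t.card ≃ t := t.equivFin.symm
  refine Groth.Agent.H4.K0Fib.main pF t.card pY f (fun m => (U (σ m).1).toScheme)
    (fun m => (U (σ m).1).ι) (fun m => inferInstance) ?_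
    (fun m => (f ⁻¹ᵁ U (σ m).1).toScheme) (fun m => (f ⁻¹ᵁ U (σ m).1).ι)
    (fun m => f ∣_ U (σ m).1) (fun m => (isPullback_morphismRestrict f _).flip) ?_
  · intro y
    obtain ⟨y0, hy0, hy⟩ : ∃ y0 ∈ t, y ∈ ((U y0 : Y.Opens) : Set Y) := by
      simpa using ht (Set.mem_univ y)
    refine ⟨σ.symm ⟨y0, hy0⟩, ?_⟩
    simp only [Equiv.apply_symm_apply, Scheme.Opens.range_ι]
    exact hy
  · intro m
    refine ⟨(e (σ m).1).hom ≫ pullback.snd _ _, ?_⟩
    refine IsPullback.of_iso_pullback ⟨?_⟩ (e (σ m).1) (he (σ m).1) rfl
    rw [← he (σ m).1, Category.assoc, Category.assoc, pullback.condition]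

end Groth.Agent.S17499
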