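import Groth.Statements.S1750
import Groth.Agent.Lib.Helper6.FlatHullRes

set_option autoImplicit false
universe u
open InjHull

namespace Groth.Agent.S1750

/-- Let R → S be a flat local homomorphism of Noetherian local rings with m_R S = m_S inducing a
bijection on residue fields. If κ_S → E is an injective hull of the residue field of S over S, then
E regarded as an R-module is an injective hull of the residue field of R (for a suitable R-linear
map κ_R → E). -/
theorem result (R S : Type u) [CommRing R] [CommRing S] [IsLocalRing R] [IsLocalRing S] [IsNoetherianRing R] [IsNoetherianRing S] [Algebra R S] [IsLocalHom (algebraMap R S)] [Module.Flat R S] (hm : (IsLocalRing.maximalIdeal R).map (algebraMap R S) = IsLocalRing.maximalIdeal S) (hk : Function.Bijective (IsLocalRing.ResidueField.map (algebraMap R S))) (E : Type u) [AddCommGroup E] [Module S E] [Module R E] [IsScalarTower R S E] (f : IsLocalRing.ResidueField S →ₗ[S] E) (hf : InjHull.IsInjectiveHull f) : ∃ g : IsLocalRing.ResidueField R →ₗ[R] E, InjHull.IsInjectiveHull g := by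
  have hinjS : Module.Injective S E := hf.isInjective
  have hinjR : Module.Injective R E := Groth.Agent.H6.FlatHullRes.injective_of_flat R S E
  -- the R-linear map κ_R → κ_S
  let φ : IsLocalRing.ResidueField R →ₗ[R] IsLocalRing.ResidueField S :=
    { toFun := IsLocalRing.ResidueField.map (algebraMap R S)
      map_add' := map_add _
      map_smul' := by
        intro r x
        obtain ⟨x, rfl⟩ := IsLocalRing.residue_surjective x
        simp only [RingHom.id_apply]
        rw [Algebra.smul_def, map_mul, Algebra.smul_def]
        rfl }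
  let g : IsLocalRing.ResidueField R →ₗ[R] E := (f.restrictScalars R) ∘ₗ φ
  have hpt : LocCoh.IsPowerTorsion (IsLocalRing.maximalIdeal S) E :=
    Groth.Agent.H6.IH.powerTorsion_of_hull (IsLocalRing.maximalIdeal S) (f := f) hf
  have hsoc : Submodule.torsionBySet S E (IsLocalRing.maximalIdeal S : Set S) = LinearMap.range f :=
    Groth.Agent.H6.IH.torsionBySet_eq_range (IsLocalRing.maximalIdeal S) (f := f) hf.toIsEssentialInj
  refine ⟨g, ⟨(Groth.Agent.H6.IH.isEssentialInj_iff g).mpr ⟨?_, ?_⟩, hinjR⟩⟩
  · exact hf.injective.comp hk.1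
  · intro x hx
    have hptR : ∃ n : ℕ, ∀ a ∈ (IsLocalRing.maximalIdeal R) ^ n, a • x = 0 := by
      obtain ⟨n, hn⟩ := hpt x
      refine ⟨n, fun a ha => ?_⟩
      rw [← algebraMap_smul S a x]
      apply hn
      rw [← hm, ← Ideal.map_pow]
      exact Ideal.mem_map_of_mem _ ha
    obtain ⟨r, hr0, hr⟩ := Groth.Agent.H6.IH.exists_smul_mem_torsionBySet
      (IsLocalRing.maximalIdeal R) hx hptR
    refine ⟨r, hr0, ?_⟩
    have h1 : r • x ∈ Submodule.torsionBySet S E (IsLocalRing.maximalIdeal S : Set S) := by
      rw [Submodule.mem_torsionBySet_iff]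
      rintro ⟨s, hs⟩
      change s • (r • x) = 0
      have hs' : s ∈ (IsLocalRing.maximalIdeal R).map (algebraMap R S) := by rw [hm]; exact hs
      unfold Ideal.map at hs'
      refine Submodule.span_induction (p := fun s _ => s • (r • x) = 0) ?_ ?_ ?_ ?_ hs'
      · rintro _ ⟨a, ha, rfl⟩
        rw [algebraMap_smul]
        exact (Submodule.mem_torsionBySet_iff _ _).mp hr ⟨a, ha⟩
      · exact zero_smul _ _
      · intro a b _ _ ha hb
        rw [add_smul, ha, hb, add_zero]
      · intro t a _ ha
        rw [smul_eq_mul, mul_smul, ha, smul_zero]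
    rw [hsoc] at h1
    obtain ⟨k, hk'⟩ := h1
    obtain ⟨k', rfl⟩ := hk.2 k
    exact ⟨k', hk'⟩

end Groth.Agent.S1750
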