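import Groth.Statements.S17500
import Mathlib

set_option autoImplicit false
universe u
open TorsMod

open TensorProduct
namespace Groth.Agent.S17500

/-- Let p be a prime number, n a natural number and H a module over ℤ/p^nℤ. Then H is flat over ℤ/p^nℤ
if and only if, for every i with 0 ≤ i ≤ n, the kernel of multiplication by p^i on H coincides with
the image of multiplication by p^(n-i) on H. (The published item is phrased for an fppf sheaf of
ℤ/p^nℤ-modules on a scheme; this is the case of a single module, which is the case the argument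
treats.) -/
theorem result (p n : ℕ) [Fact p.Prime]
    (H : Type u) [AddCommGroup H] [Module (ZMod (p ^ n)) H] :
    Module.Flat (ZMod (p ^ n)) H ↔
      ∀ i : ℕ, i ≤ n →
        LinearMap.ker ((p ^ i : ZMod (p ^ n)) • (LinearMap.id : H →ₗ[ZMod (p ^ n)] H)) =
          LinearMap.range ((p ^ (n - i) : ZMod (p ^ n)) • (LinearMap.id : H →ₗ[ZMod (p ^ n)] H)) := by
  classical
  have hR : ZMod (p ^ n) = ZMod (p ^ n) := rfl
  have hp : p.Prime := Fact.out
  have hppos : 0 < p := hp.pos
  -- exactness in (ZMod (p ^ n))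
  have hexR : ∀ i : ℕ, i ≤ n → ∀ x : (ZMod (p ^ n)), x * (p : (ZMod (p ^ n))) ^ i = 0 → ∃ y : (ZMod (p ^ n)), x = y * (p : (ZMod (p ^ n))) ^ (n - i) := by
    intro i hi x hx
    by_cases hn : n = 0
    · have : Subsingleton (ZMod (p ^ n)) := by
        rw [hn, pow_zero]; infer_instance
      exact ⟨0, Subsingleton.elim _ _⟩
    have : NeZero (p ^ n) := ⟨by positivity⟩
    have hx' : ((x.val * p ^ i : ℕ) : (ZMod (p ^ n))) = 0 := by
      rw [Nat.cast_mul, ZMod.natCast_zmod_val, Nat.cast_pow]; exact hx
    rw [ZMod.natCast_eq_zero_iff] at hx'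
    have hpn : p ^ n = p ^ (n - i) * p ^ i := by rw [← pow_add]; congr 1; omega
    have hx'' : p ^ (n - i) * p ^ i ∣ x.val * p ^ i := by rw [← hpn]; exact hx'
    have hd : p ^ (n - i) ∣ x.val := (Nat.mul_dvd_mul_iff_right (by positivity)).1 hx''
    obtain ⟨c, hc⟩ := hd
    refine ⟨(c : (ZMod (p ^ n))), ?_⟩
    have : x = ((x.val : ℕ) : (ZMod (p ^ n))) := (ZMod.natCast_zmod_val x).symm
    rw [this, hc]; push_cast; ring
  have hpn0 : ((p : (ZMod (p ^ n))) ^ n) = 0 := by
    have : ((p ^ n : ℕ) : (ZMod (p ^ n))) = 0 := ZMod.natCast_self _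
    exact_mod_cast this
  -- ideals of (ZMod (p ^ n))
  have hideal : ∀ I : Ideal (ZMod (p ^ n)), ∃ k : ℕ, k ≤ n ∧ I = Ideal.span {(p : (ZMod (p ^ n))) ^ k} := by
    intro I
    by_cases hn : n = 0
    · have : Subsingleton (ZMod (p ^ n)) := by
        rw [hn, pow_zero]; infer_instance
      exact ⟨0, Nat.zero_le _, Subsingleton.elim _ _⟩
    have : NeZero (p ^ n) := ⟨by positivity⟩
    have : IsPrincipalIdealRing (ZMod (p ^ n)) := IsPrincipalIdealRing.of_surjective (Int.castRingHom (ZMod (p ^ n))) (ZMod.intCast_surjective)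
    obtain ⟨a, ha⟩ := (IsPrincipalIdealRing.principal I).principal
    have ha' : I = Ideal.span {a} := ha
    by_cases ha0 : a = 0
    · refine ⟨n, le_rfl, ?_⟩
      rw [ha', ha0, hpn0]
    · have hval : a.val ≠ 0 := fun h => ha0 ((ZMod.val_eq_zero a).1 h)
      obtain ⟨k, m, hm, hkm⟩ := Nat.exists_eq_pow_mul_and_not_dvd hval p hp.ne_one
      have haeq : a = (p : (ZMod (p ^ n))) ^ k * (m : (ZMod (p ^ n))) := by
        have : a = ((a.val : ℕ) : (ZMod (p ^ n))) := (ZMod.natCast_zmod_val a).symm
        rw [this, hkm]; push_cast; ring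
      have hunit : IsUnit (m : (ZMod (p ^ n))) := by
        rw [ZMod.isUnit_iff_coprime]
        exact Nat.Coprime.pow_right n ((Nat.Prime.coprime_iff_not_dvd hp).2 hm).symm
      have hk : k ≤ n := by
        by_contra hlt
        push Not at hlt
        apply ha0
        rw [haeq]
        have : (p : (ZMod (p ^ n))) ^ k = (p : (ZMod (p ^ n))) ^ n * (p : (ZMod (p ^ n))) ^ (k - n) := by rw [← pow_add]; congr 1; omega
        rw [this, hpn0]; simp
      refine ⟨k, hk, ?_⟩
      rw [ha', haeq]
      exact Ideal.span_singleton_mul_right_unit hunit _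
  constructor
  · intro hflat i hi
    apply le_antisymm
    · intro h hh
      rw [LinearMap.mem_ker] at hh
      simp only [LinearMap.smul_apply, LinearMap.id_coe, id_eq] at hh
      -- exact sequence (ZMod (p ^ n)) --p^(n-i)--> (ZMod (p ^ n)) --p^i--> (ZMod (p ^ n))
      let f : (ZMod (p ^ n)) →ₗ[(ZMod (p ^ n))] (ZMod (p ^ n)) := LinearMap.mulRight (ZMod (p ^ n)) ((p : (ZMod (p ^ n))) ^ (n - i))
      let g : (ZMod (p ^ n)) →ₗ[(ZMod (p ^ n))] (ZMod (p ^ n)) := LinearMap.mulRight (ZMod (p ^ n)) ((p : (ZMod (p ^ n))) ^ i)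
      have hfg : Function.Exact f g := by
        intro x
        constructor
        · intro hx
          obtain ⟨y, hy⟩ := hexR i hi x (by simpa [g] using hx)
          exact ⟨y, by simp [f, hy]⟩
        · rintro ⟨y, rfl⟩
          simp only [f, g, LinearMap.mulRight_apply]
          rw [mul_assoc, ← pow_add]
          have : n - i + i = n := by omega
          rw [this, hpn0, mul_zero]
      have hex := Module.Flat.lTensor_exact H hfg
      have h1 : (g.lTensor H) (h ⊗ₜ[(ZMod (p ^ n))] (1 : (ZMod (p ^ n)))) = 0 := by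
        simp only [LinearMap.lTensor_tmul, g, LinearMap.mulRight_apply, one_mul]
        have : h ⊗ₜ[(ZMod (p ^ n))] ((p : (ZMod (p ^ n))) ^ i) = ((p : (ZMod (p ^ n))) ^ i • h) ⊗ₜ[(ZMod (p ^ n))] (1 : (ZMod (p ^ n))) := by
          rw [TensorProduct.smul_tmul]; simp
        rw [this, hh, TensorProduct.zero_tmul]
      obtain ⟨z, hz⟩ := (hex _).1 h1
      have key : ∀ z : H ⊗[(ZMod (p ^ n))] (ZMod (p ^ n)), TensorProduct.rid (ZMod (p ^ n)) H ((f.lTensor H) z) = ((p : (ZMod (p ^ n))) ^ (n - i)) • TensorProduct.rid (ZMod (p ^ n)) H z := by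
        intro z
        induction z using TensorProduct.induction_on with
        | zero => simp
        | tmul a b =>
          simp only [LinearMap.lTensor_tmul, TensorProduct.rid_tmul, f, LinearMap.mulRight_apply]
          rw [mul_comm, mul_smul]
        | add a b ha hb => simp only [map_add, ha, hb, smul_add]
      have := congrArg (TensorProduct.rid (ZMod (p ^ n)) H) hz
      rw [key, TensorProduct.rid_tmul, one_smul] at this
      rw [LinearMap.mem_range]
      exact ⟨TensorProduct.rid (ZMod (p ^ n)) H z, by simpa using this⟩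
    · rintro _ ⟨h, rfl⟩
      rw [LinearMap.mem_ker]
      simp only [LinearMap.smul_apply, LinearMap.id_coe, id_eq]
      rw [← mul_smul, ← pow_add]
      have : i + (n - i) = n := by omega
      rw [this, hpn0, zero_smul]
  · intro hker
    rw [Module.Flat.iff_lift_lsmul_comp_subtype_injective]
    intro I _
    obtain ⟨k, hk, rfl⟩ := hideal I
    set gen : (Ideal.span {(p : (ZMod (p ^ n))) ^ k} : Ideal (ZMod (p ^ n))) := ⟨(p : (ZMod (p ^ n))) ^ k, Ideal.mem_span_singleton_self _⟩ with hgen
    have hform : ∀ z : (Ideal.span {(p : (ZMod (p ^ n))) ^ k} : Ideal (ZMod (p ^ n))) ⊗[(ZMod (p ^ n))] H, ∃ h : H, z = gen ⊗ₜ[(ZMod (p ^ n))] h := by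
      intro z
      induction z using TensorProduct.induction_on with
      | zero => exact ⟨0, by simp⟩
      | tmul a b =>
        obtain ⟨a, ha⟩ := a
        obtain ⟨r, rfl⟩ := Ideal.mem_span_singleton'.1 ha
        refine ⟨r • b, ?_⟩
        rw [← TensorProduct.smul_tmul]
        congr 1
      | add a b ha hb =>
        obtain ⟨h1, rfl⟩ := ha
        obtain ⟨h2, rfl⟩ := hb
        exact ⟨h1 + h2, by rw [TensorProduct.tmul_add]⟩
    rw [injective_iff_map_eq_zero]
    intro z hz
    obtain ⟨h, rfl⟩ := hform z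
    simp only [TensorProduct.lift.tmul, LinearMap.coe_comp, Function.comp_apply, Submodule.subtype_apply,
      LinearMap.lsmul_apply, hgen] at hz
    have hmem : h ∈ LinearMap.ker (((p : (ZMod (p ^ n))) ^ k) • (LinearMap.id : H →ₗ[(ZMod (p ^ n))] H)) := by
      rw [LinearMap.mem_ker]; simpa using hz
    have hker' := hker k hk
    rw [hker'] at hmem
    obtain ⟨h', hh'⟩ := hmem
    simp only [LinearMap.smul_apply, LinearMap.id_coe, id_eq] at hh'
    rw [← hh', ← TensorProduct.smul_tmul]
    have : ((p : (ZMod (p ^ n))) ^ (n - k)) • gen = 0 := by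
      apply Subtype.ext
      simp only [hgen, Submodule.coe_smul, smul_eq_mul, Submodule.coe_zero]
      rw [← pow_add]
      have : n - k + k = n := by omega
      rw [this, hpn0]
    rw [this, TensorProduct.zero_tmul]

end Groth.Agent.S17500
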