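import Groth.Statements.S17511
import Groth.Agent.Lib.Lead.Misc3.IdxLC

set_option autoImplicit false
universe u
open CategoryTheory CategoryTheory.Limits MonoidalCategory CartesianMonoidalCategory MonObj GrpObj AlgebraicGeometry
open AbVar

namespace Groth.Agent.S17511

/-- In an algebraic family of line bundles the index cannot jump locally. Let X be an abelian variety
over a field k (a proper, geometrically integral k-group scheme), let T be a locally Noetherian
k-scheme, M an invertible module on X ×_k T, and for each point t of T let M_t be the pull-back of M
to the fibre X ×_k Spec k(t). Suppose every M_t is non-degenerate, with index idx(t): H^j(X ×_k Spec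
k(t), M_t) = 0 for j ≠ idx(t) and H^{idx(t)} ≠ 0. Then t ↦ idx(t) is a locally constant function on
T. (Non-degeneracy with index i is expressed by the equivalent condition that the cohomology is
concentrated in degree i and non-zero there.) -/
theorem result
    (k : Type u) [Field k] (X : Over (Spec (CommRingCat.of k))) [GrpObj X] [IsProper X.hom] [GeometricallyIntegral X.hom]
    (T : Over (Spec (CommRingCat.of k))) [IsLocallyNoetherian T.left]
    (M : (X ⊗ T).left.Modules) (hM : PicF.IsInvertible M)
    (idx : ↥T.left → ℕ)
    (hidx : ∀ t : ↥T.left,
      (∀ j : ℕ, j ≠ idx t →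
        Subsingleton (Coh.HH (pullback (snd X T).left (T.left.fromSpecResidueField t))
          ((Scheme.Modules.pullback (pullback.fst (snd X T).left (T.left.fromSpecResidueField t))).obj M) j)) ∧
      Nontrivial (Coh.HH (pullback (snd X T).left (T.left.fromSpecResidueField t))
          ((Scheme.Modules.pullback (pullback.fst (snd X T).left (T.left.fromSpecResidueField t))).obj M) (idx t))) :
    IsLocallyConstant idx := by
  haveI : Flat X.hom := inferInstance
  haveI : IsProper (snd X T).left := inferInstanceAs (IsProper (pullback.snd X.hom T.hom))
  haveI : Flat (snd X T).left := inferInstanceAs (Flat (pullback.snd X.hom T.hom))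
  have hMc : Coh.IsCoh M := ⟨Groth.Agent.LD.QC.qc_of_isInvertible M hM,
    Groth.Agent.LD.QC.isFiniteType_of_isInvertible M hM⟩
  have hfl : FlatMod.IsFlatOver (snd X T).left M :=
    Groth.Agent.H4.PSch7.isFlatOver_of_isFinLocFree (snd X T).left M
      (Groth.Agent.LD.QC.isFinLocFree_of_isInvertible M hM)
  exact Groth.Agent.LD.IdxLC.isLocallyConstant_idx (snd X T).left M hMc hfl idx
    (fun t => hidx t)

end Groth.Agent.S17511
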