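import Groth.Statements.S17536
import Groth.Agent.Lib.Lead.Dec

set_option autoImplicit false
universe u v w
open W4c5adicflatcompl
open CAlg

namespace Groth.Agent.S17536

/-- If the A-module M is I-adically separated then so is the module of I-adically decaying functions
from a set Z to M. -/
theorem result {A : Type u} [CommRing A] (I : Ideal A) (Z : Type v)
    (M : Type w) [AddCommGroup M] [Module A M] [IsHausdorff I M] :
    IsHausdorff I (decaying I Z M) := by
  exact Groth.Agent.LD.Dec.S17536 (I := I) (Z := Z) (M := M)

end Groth.Agent.S17536
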