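import Groth.Statements.S17537
import Mathlib
-- import your own Groth.Agent.* helpers here

set_option autoImplicit false
universe u v
open CAlg

namespace Groth.Agent.S17537

/-- For a commutative ring A, an ideal I and an A-module M, the I-adic completion M^ of M is itself
I-adically complete if and only if, for every n, every element of M^ is congruent modulo I^n M^ to
the image of an element of M (the maps M/I^n M → M^/I^n M^ are surjective). -/
theorem result {A : Type u} [CommRing A] (I : Ideal A)
    (M : Type v) [AddCommGroup M] [Module A M] :
    IsAdicComplete I (AdicCompletion I M) ↔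
      ∀ (n : ℕ) (x : AdicCompletion I M), ∃ y : M,
        x - AdicCompletion.of I M y ∈ (I ^ n • ⊤ : Submodule A (AdicCompletion I M)) := by
  have hofmem : ∀ (n : ℕ) (y : M), y ∈ (I ^ n • ⊤ : Submodule A M) →
      AdicCompletion.of I M y ∈ (I ^ n • ⊤ : Submodule A (AdicCompletion I M)) := by
    intro n y hy
    have : (I ^ n • ⊤ : Submodule A M).map (AdicCompletion.of I M)
        ≤ (I ^ n • ⊤ : Submodule A (AdicCompletion I M)) := by
      rw [Submodule.map_smul'']
      exact Submodule.smul_mono le_rfl le_top
    exact this (Submodule.mem_map_of_mem hy)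
  have hker : ∀ n, (I ^ n • ⊤ : Submodule A (AdicCompletion I M)) ≤ LinearMap.ker (AdicCompletion.eval I M n) :=
    fun n => AdicCompletion.pow_smul_top_le_ker_eval (I := I) (M := M) n
  constructor
  · intro hcomp n x
    have hprec : IsPrecomplete I (AdicCompletion I M) := inferInstance
    -- lifts of the components of x
    choose y hy using fun k => Submodule.mkQ_surjective (I ^ k • ⊤ : Submodule A M) (x.val k)
    have hcauchy : ∀ {m n : ℕ}, m ≤ n →
        AdicCompletion.of I M (y m) ≡ AdicCompletion.of I M (y n)
          [SMOD (I ^ m • ⊤ : Submodule A (AdicCompletion I M))] := by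
      intro m n hmn
      rw [SModEq.sub_mem, ← map_sub]
      apply hofmem
      rw [← Submodule.Quotient.mk_eq_zero, Submodule.Quotient.mk_sub]
      have h1 : Submodule.Quotient.mk (p := (I ^ m • ⊤ : Submodule A M)) (y m) = x.val m := hy m
      have h2 : Submodule.Quotient.mk (p := (I ^ m • ⊤ : Submodule A M)) (y n) = x.val m := by
        have := x.property hmn
        rw [← this, ← hy n]
        rfl
      rw [h1, h2, sub_self]
    obtain ⟨L, hL⟩ := hprec.prec hcauchy
    have hLx : L = x := by
      apply AdicCompletion.ext
      intro k
      have h1 := hker k (SModEq.sub_mem.mp (hL k))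
      rw [LinearMap.mem_ker, map_sub, sub_eq_zero, AdicCompletion.eval_of] at h1
      rw [← AdicCompletion.eval_apply, ← h1]
      exact hy k
    refine ⟨y n, ?_⟩
    have h2 := SModEq.sub_mem.mp (hL n)
    rw [hLx] at h2
    have : x - AdicCompletion.of I M (y n) = -(AdicCompletion.of I M (y n) - x) := by abel
    rw [this]
    exact Submodule.neg_mem _ h2
  · intro hD
    -- kernel of eval equals I^n • ⊤
    have hkereq : ∀ n (z : AdicCompletion I M), z.val n = 0 →
        z ∈ (I ^ n • ⊤ : Submodule A (AdicCompletion I M)) := by
      intro n z hz
      obtain ⟨y, hy⟩ := hD n z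
      have h1 := hker n hy
      rw [LinearMap.mem_ker, map_sub, AdicCompletion.eval_of, AdicCompletion.eval_apply, hz, zero_sub,
        neg_eq_zero] at h1
      have hymem : y ∈ (I ^ n • ⊤ : Submodule A M) := (Submodule.Quotient.mk_eq_zero _).mp h1
      have : z = (z - AdicCompletion.of I M y) + AdicCompletion.of I M y := by abel
      rw [this]
      exact Submodule.add_mem _ hy (hofmem n y hymem)
    have hprec : IsPrecomplete I (AdicCompletion I M) := by
      refine ⟨fun f hf => ?_⟩
      have hfval : ∀ {m n : ℕ}, m ≤ n → (f n).val m = (f m).val m := by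
        intro m n hmn
        have h1 := hker m (SModEq.sub_mem.mp (hf hmn))
        rw [LinearMap.mem_ker, map_sub, sub_eq_zero] at h1
        exact h1.symm
      let L : AdicCompletion I M := ⟨fun n => (f n).val n, by
        intro m n hmn
        show AdicCompletion.transitionMap I M hmn ((f n).val n) = (f m).val m
        rw [AdicCompletion.transitionMap_comp_eval_apply]
        exact hfval hmn⟩
      refine ⟨L, fun n => ?_⟩
      rw [SModEq.sub_mem]
      apply hkereq
      rw [AdicCompletion.val_sub_apply]
      show (f n).val n - (f n).val n = 0
      rw [sub_self]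
    exact { toIsHausdorff := inferInstance, toIsPrecomplete := hprec }

end Groth.Agent.S17537
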