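import Groth.Statements.S17548
import Mathlib
import Groth.Agent.Lib.Helper1.Dec1

set_option autoImplicit false
universe u v w
open W4c5adicflatcompl
open CAlg

namespace Groth.Agent.S17548


/-- For a Noetherian ring A with I-adic completion Â, a set Z, an I-adically complete A-module M and any
function f : Z → M, there is a unique A-linear map from the module of I-adically decaying functions
Z → Â to M taking, for every z, the function supported at z with value 1 to f z. -/
theorem result {A : Type u} [CommRing A] [IsNoetherianRing A]
    (I : Ideal A) (Z : Type v) [DecidableEq Z] (M : Type w) [AddCommGroup M] [Module A M]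
    [IsAdicComplete I M] (f : Z → M) :
    ∃! φ : decaying I Z (AdicCompletion I A) →ₗ[A] M,
      ∀ z, φ (single I z (1 : AdicCompletion I A)) = f z := by
  open Groth.Agent.Lib.Helper1.Dec in
  refine ⟨lift I f, fun z => lift_single_one I f z, ?_⟩
  intro ψ hψ
  apply ext_of_single (IsNoetherian.noetherian I)
  intro z
  rw [hψ, lift_single_one]

end Groth.Agent.S17548
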