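import Groth.Statements.S17549
import Mathlib
import Groth.Agent.Lib.Helper1.Dec1

set_option autoImplicit false
universe u
open W4c5adicflatcompl
open CAlg

namespace Groth.Agent.S17549

universe v w
theorem isAdicComplete_of_retract {A : Type u} [CommRing A] (I : Ideal A) {P : Type v} {D : Type w}
    [AddCommGroup P] [Module A P] [AddCommGroup D] [Module A D] (i : P →ₗ[A] D) (r : D →ₗ[A] P)
    (h : r ∘ₗ i = LinearMap.id) [IsAdicComplete I D] : IsAdicComplete I P := by
  have hri : ∀ x, r (i x) = x := fun x => by
    have := congrArg (fun t => t x) h
    simpa using this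
  have hH : IsHausdorff I P := by
    refine ⟨fun x hx => ?_⟩
    have h0 : i x = 0 := by
      apply IsHausdorff.haus' (I := I)
      intro n
      have := hx n
      rw [SModEq.zero] at this ⊢
      exact Groth.Agent.LD.Dec.map_mem_smul_top i n this
    rw [← hri x, h0, map_zero]
  refine { toIsHausdorff := hH, prec' := ?_ }
  intro f hf
  obtain ⟨L, hL⟩ := IsPrecomplete.prec' (I := I) (fun n => i (f n)) (by
    intro m n hmn
    have := hf hmn
    rw [SModEq.sub_mem] at this ⊢
    rw [← map_sub]
    exact Groth.Agent.LD.Dec.map_mem_smul_top i m this)
  refine ⟨r L, fun n => ?_⟩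
  have := hL n
  rw [SModEq.sub_mem] at this ⊢
  have h2 := Groth.Agent.LD.Dec.map_mem_smul_top r n this
  rwa [map_sub, hri] at h2

/-- Over a Noetherian ring A with I-adic completion Â, an A-module P is I-adically projective
(I-adically complete, and every A-linear map from P to the target of a surjection between I-adically
complete modules lifts along that surjection) exactly when P is a retract of some module of
I-adically decaying functions Z → Â: there are a set Z, an A-linear map i from P to the decaying
functions Z → Â and an A-linear map r back with r ∘ i the identity of P. Test modules, P and Z live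
in the universe of A. -/
theorem result {A : Type u} [CommRing A] [IsNoetherianRing A]
    (I : Ideal A) (P : Type u) [AddCommGroup P] [Module A P] :
    IsAdicProjective I P ↔
      ∃ (Z : Type u) (i : P →ₗ[A] decaying I Z (AdicCompletion I A))
        (r : decaying I Z (AdicCompletion I A) →ₗ[A] P), r ∘ₗ i = LinearMap.id := by
  open Groth.Agent.Lib.Helper1.Dec in
  classical
  constructor
  · rintro ⟨hc, hlift⟩
    haveI := hc
    haveI : IsAdicComplete I (decaying I P (AdicCompletion I A)) :=
      Groth.Agent.LD.Dec.S17547 I P A
    have hsurj : Function.Surjective (lift I (id : P → P)) := by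
      intro p
      exact ⟨single I p 1, lift_single_one I _ p⟩
    obtain ⟨χ, hχ⟩ := hlift (decaying I P (AdicCompletion I A)) P inferInstance hc
      (lift I (id : P → P)) hsurj LinearMap.id
    exact ⟨P, χ, lift I (id : P → P), hχ⟩
  · rintro ⟨Z, i, r, hri⟩
    haveI : IsAdicComplete I (decaying I Z (AdicCompletion I A)) :=
      Groth.Agent.LD.Dec.S17547 I Z A
    have hc : IsAdicComplete I P := isAdicComplete_of_retract I i r hri
    refine ⟨hc, ?_⟩
    intro M N _ _ _ _ hM hN φ hφ ψ
    haveI := hM
    haveI := hN
    choose s hs using hφ
    let f : Z → M := fun z => s (ψ (r (single I z 1)))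
    have h1 : φ ∘ₗ lift I f = ψ ∘ₗ r := by
      apply ext_of_single (IsNoetherian.noetherian I)
      intro z
      rw [LinearMap.comp_apply, LinearMap.comp_apply, lift_single_one, hs]
    refine ⟨lift I f ∘ₗ i, ?_⟩
    rw [← LinearMap.comp_assoc, h1, LinearMap.comp_assoc, hri, LinearMap.comp_id]

end Groth.Agent.S17549
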