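import Groth.Statements.S17552
import Mathlib
import Groth.Agent.Lib.Helper1.Dec3

set_option autoImplicit false
universe u
open W4c5adicflatcompl
open CAlg

namespace Groth.Agent.S17552


/-- For a complete Noetherian local ring A (maximal ideal m, m-adic completion Â), an A-module M is
isomorphic to the module of m-adically decaying functions Z → Â for some set Z (m-adically free)
exactly when M is flat and m-adically complete. M and Z live in the universe of A. -/
theorem result {A : Type u} [CommRing A] [IsNoetherianRing A] [IsLocalRing A]
    [IsAdicComplete (IsLocalRing.maximalIdeal A) A]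
    (M : Type u) [AddCommGroup M] [Module A M] :
    IsAdicFree (IsLocalRing.maximalIdeal A) M ↔
      Module.Flat A M ∧ IsAdicComplete (IsLocalRing.maximalIdeal A) M := by
  open Groth.Agent.Lib.Helper1.Dec in
  constructor
  · rintro ⟨Z, ⟨e⟩⟩
    haveI := flat_decaying_adicCompletion (IsLocalRing.maximalIdeal A) Z
    haveI : IsAdicComplete (IsLocalRing.maximalIdeal A)
        (decaying (IsLocalRing.maximalIdeal A) Z (AdicCompletion (IsLocalRing.maximalIdeal A) A)) :=
      Groth.Agent.LD.Dec.S17547 _ Z A
    exact ⟨Module.Flat.of_linearEquiv e, isAdicComplete_of_linearEquiv _ e⟩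
  · rintro ⟨hflat, hc⟩
    exact isAdicFree_of_flat_of_isAdicComplete M

end Groth.Agent.S17552
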