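import Groth.Statements.S1758
import Mathlib

set_option autoImplicit false
universe u
open LocCoh

namespace Groth.Agent.S1758

/-- Let A → B be a flat ring map. If a family f_1, …, f_r of elements of A is independent (every linear
relation has coefficients in the ideal the family generates), then so is the family of their images
in B. -/
theorem result (A B : Type u) [CommRing A] [CommRing B] [Algebra A B] [Module.Flat A B] (r : ℕ) (f : Fin r → A) (hf : Dual2.Independent f) : Dual2.Independent (fun i => algebraMap A B (f i)) := by
  intro b hb
  obtain ⟨k, a, y, hxy, ha⟩ := Module.Flat.isTrivialRelation_of_sum_smul_eq_zero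
      (R := A) (M := B) (f := f) (x := b) (by
    rw [← hb]
    exact Finset.sum_congr rfl fun i _ ↦ by rw [Algebra.smul_def, mul_comm])
  intro i
  rw [hxy i]
  refine Ideal.sum_mem _ fun j _ ↦ ?_
  have h1 : a i j ∈ Ideal.span (Set.range f) :=
    hf (fun i ↦ a i j) (by rw [← ha j]; exact Finset.sum_congr rfl fun i _ ↦ mul_comm _ _) i
  rw [Algebra.smul_def]
  apply Ideal.mul_mem_right
  have h2 : algebraMap A B (a i j) ∈ Ideal.map (algebraMap A B) (Ideal.span (Set.range f)) :=
    Ideal.mem_map_of_mem _ h1
  rw [Ideal.map_span] at h2
  convert h2 using 2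
  ext z
  simp [Set.mem_image]

end Groth.Agent.S1758
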