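import Groth.Statements.S17581
import Groth.Agent.Lib.Lead.QC.BaseLocus

set_option autoImplicit false
open CategoryTheory CategoryTheory.Limits AlgebraicGeometry
open PosLin

namespace Groth.Agent.S17581

/-- Let X be a projective variety over the complex numbers (an integral scheme, proper over ℂ, with an
ample invertible module) and L an invertible O_X-module; for m ≥ 1 let Bs(L^⊗m) be the base locus of
L^⊗m (the points lying in no open X_s over which a global section s : O_X → L^⊗m is an isomorphism)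
and B(L) = ⋂_{m ≥ 1} Bs(L^⊗m) the stable base locus. Then, among the closed sets Bs(L^⊗m) with m ≥
1, B(L) occurs and is the only minimal one: B(L) = Bs(L^⊗m) for some m ≥ 1, and for each m ≥ 1,
Bs(L^⊗m) is minimal in this family if and only if it coincides with B(L). -/
theorem result (X : Scheme.{0}) [X.Over (Spec (CommRingCat.of ℂ))] [IsIntegral X]
    [IsProper (X ↘ Spec (CommRingCat.of ℂ))] (H : X.Modules) (hH : CohB1.IsAmple H)
    (L : X.Modules) (hL : PicF.IsInvertible L) :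
    (∃ m : ℕ, 0 < m ∧ {x : X | ∀ s : Coh.structureModule X ⟶ CohB1.tensorPow L m, x ∉ CohB1.genLocus (CohB1.tensorPow L m) s} = {x : X | ∀ m : ℕ, 0 < m → ∀ s : Coh.structureModule X ⟶ CohB1.tensorPow L m, x ∉ CohB1.genLocus (CohB1.tensorPow L m) s}) ∧
    ∀ m : ℕ, 0 < m →
      ((∀ m' : ℕ, 0 < m' →
          {x : X | ∀ s : Coh.structureModule X ⟶ CohB1.tensorPow L m', x ∉ CohB1.genLocus (CohB1.tensorPow L m') s} ⊆ {x : X | ∀ s : Coh.structureModule X ⟶ CohB1.tensorPow L m, x ∉ CohB1.genLocus (CohB1.tensorPow L m) s} →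
          {x : X | ∀ s : Coh.structureModule X ⟶ CohB1.tensorPow L m', x ∉ CohB1.genLocus (CohB1.tensorPow L m') s} = {x : X | ∀ s : Coh.structureModule X ⟶ CohB1.tensorPow L m, x ∉ CohB1.genLocus (CohB1.tensorPow L m) s}) ↔
        {x : X | ∀ s : Coh.structureModule X ⟶ CohB1.tensorPow L m, x ∉ CohB1.genLocus (CohB1.tensorPow L m) s} = {x : X | ∀ m : ℕ, 0 < m → ∀ s : Coh.structureModule X ⟶ CohB1.tensorPow L m, x ∉ CohB1.genLocus (CohB1.tensorPow L m) s}) := by
  haveI : IsLocallyNoetherian X :=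
    LocallyOfFiniteType.isLocallyNoetherian (X ↘ Spec (CommRingCat.of ℂ))
  haveI : CompactSpace X := QuasiCompact.compactSpace_of_compactSpace (X ↘ Spec (CommRingCat.of ℂ))
  haveI : IsNoetherian X := {}
  haveI : L.IsQuasicoherent := Groth.Agent.LD.QC.qc_of_isInvertible L hL
  obtain ⟨n₀, hn₀, -, h⟩ := Groth.Agent.LD.QC.exists_Bs_eq_SB (L := L) hL
  refine ⟨⟨n₀, hn₀, ?_⟩, fun m hm => ⟨fun hyp => ?_, fun hyp m' hm' hsub => ?_⟩⟩
  · have h1 := h 1 one_pos
    rw [Nat.one_mul] at h1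
    exact h1.symm
  · have hsub : Groth.Agent.LD.QC.Bs L (m * n₀) ⊆ Groth.Agent.LD.QC.Bs L m :=
      Groth.Agent.LD.QC.Bs_mul_subset hL m hn₀
    have h2 : Groth.Agent.LD.QC.Bs L (m * n₀) = Groth.Agent.LD.QC.Bs L m :=
      hyp (m * n₀) (Nat.mul_pos hm hn₀) hsub
    exact h2.symm.trans (h m hm).symm
  · apply Set.Subset.antisymm hsub
    have h3 : Groth.Agent.LD.QC.Bs L m = Groth.Agent.LD.QC.SB L := hyp
    show Groth.Agent.LD.QC.Bs L m ⊆ Groth.Agent.LD.QC.Bs L m'
    rw [h3]
    exact Groth.Agent.LD.QC.SB_subset_Bs L hm'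

end Groth.Agent.S17581
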