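import Groth.Statements.S17616
import Groth.Agent.Lib.Helper8.PairHens.SmoothAway
-- import your own Groth.Agent.* helpers here

set_option autoImplicit false
universe u
open Hensel

namespace Groth.Agent.S17616

/-- Let P be a property of ring maps (between rings in a fixed universe), and say that f : B → B' has P
at a prime q of B' if the composite B → B' → B'_g has P for some g ∉ q. Assume (i) for every
finitely presented f : B → B' the set of primes of B' at which f has P is ind-constructible in Spec
B', and f has P as soon as it has P at every prime; (ii) every étale ring map has P; (iii) for g : C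
→ C' and h : C' → C'', if h has P at a prime q of C'' and g has P at the inverse image of q in C',
then h ∘ g has P at q. Now suppose (A, I) is a Henselian pair, and take an A-algebra R of finite
presentation for which A → R has P at each prime of R that contains IR. Then there is an étale
R-algebra R' with R/IR → R'/IR' bijective such that A → R' has P. -/
theorem result
    (P : ∀ ⦃B B' : Type u⦄ [CommRing B] [CommRing B'], (B →+* B') → Prop)
    (PAt : ∀ ⦃B B' : Type u⦄ [CommRing B] [CommRing B'], (B →+* B') → Ideal B' → Prop)
    (hPAt : ∀ ⦃B B' : Type u⦄ [CommRing B] [CommRing B'] (f : B →+* B') (q : Ideal B'),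
      PAt f q ↔ ∃ g : B', g ∉ q ∧ P ((algebraMap B' (Localization.Away g)).comp f))
    (h₁ : ∀ ⦃B B' : Type u⦄ [CommRing B] [CommRing B'] (f : B →+* B'), f.FinitePresentation →
      ProCons.IsIndConstructible {q : PrimeSpectrum B' | PAt f q.asIdeal} ∧
        ((∀ q : PrimeSpectrum B', PAt f q.asIdeal) → P f))
    (h₂ : ∀ ⦃B B' : Type u⦄ [CommRing B] [CommRing B'] (f : B →+* B'), f.Etale → P f)
    (h₃ : ∀ ⦃C C' C'' : Type u⦄ [CommRing C] [CommRing C'] [CommRing C''] (g : C →+* C')
      (h : C' →+* C'') (q : Ideal C'') [q.IsPrime],
      PAt h q → PAt g (q.comap h) → PAt (h.comp g) q)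
    (A : Type u) [CommRing A] (I : Ideal A) [HenselianRing A I]
    (R : Type u) [CommRing R] [Algebra A R] [Algebra.FinitePresentation A R]
    (hR : ∀ (p : Ideal R) [p.IsPrime], I.map (algebraMap A R) ≤ p → PAt (algebraMap A R) p) :
    ∃ (R' : Type u) (_ : CommRing R') (_ : Algebra R R') (_ : Algebra A R') (_ : IsScalarTower A R R'),
      Algebra.Etale R R' ∧
      Function.Bijective (Ideal.quotientMap ((I.map (algebraMap A R)).map (algebraMap R R'))
        (algebraMap R R') Ideal.le_comap_map) ∧ P (algebraMap A R') := by
  set J := I.map (algebraMap A R) with hJ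
  let G : Set R := {g | P ((algebraMap R (Localization.Away g)).comp (algebraMap A R))}
  have htop : J ⊔ Ideal.span G = ⊤ := by
    by_contra hne
    obtain ⟨m, hm, hle⟩ := Ideal.exists_le_maximal _ hne
    haveI := hm.isPrime
    obtain ⟨g, hgm, hg⟩ := (hPAt _ _).mp (hR m (le_sup_left.trans hle))
    exact hgm (hle (Ideal.mem_sup_right (Ideal.subset_span hg)))
  have h1 : (1 : R) ∈ J ⊔ Ideal.span G := by rw [htop]; trivial
  obtain ⟨j, hj, s, hs, hjs⟩ := Submodule.mem_sup.mp h1
  have hs1 : 1 - s ∈ J := by
    have : 1 - s = j := by rw [← hjs]; ring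
    rw [this]; exact hj
  refine ⟨Localization.Away s, inferInstance, inferInstance, inferInstance, inferInstance,
    inferInstance, Groth.Agent.H8.PairHens.Smooth.bijective_quotientMap_away _ s hs1 _, ?_⟩
  have hfp : (algebraMap A (Localization.Away s)).FinitePresentation := by
    haveI : Algebra.FinitePresentation R (Localization.Away s) :=
      IsLocalization.Away.finitePresentation s
    haveI : Algebra.FinitePresentation A (Localization.Away s) :=
      Algebra.FinitePresentation.trans A R _
    exact RingHom.finitePresentation_algebraMap.mpr inferInstance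
  refine (h₁ _ hfp).2 fun Q => ?_
  have hcomp : algebraMap A (Localization.Away s) =
      (algebraMap R (Localization.Away s)).comp (algebraMap A R) :=
    IsScalarTower.algebraMap_eq A R _
  rw [hcomp]
  haveI := Q.isPrime
  refine h₃ (algebraMap A R) (algebraMap R (Localization.Away s)) Q.asIdeal ?_ ?_
  · rw [hPAt]
    refine ⟨1, fun h => Q.isPrime.ne_top ((Ideal.eq_top_iff_one _).mpr h), ?_⟩
    apply h₂
    have e1 : (algebraMap R (Localization.Away s)).Etale :=
      RingHom.etale_algebraMap.mpr inferInstance
    have e2 : (algebraMap (Localization.Away s) (Localization.Away (1 : Localization.Away s))).Etale :=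
      RingHom.etale_algebraMap.mpr inferInstance
    exact RingHom.Etale.stableUnderComposition _ _ e1 e2
  · -- the contraction is in D(s)
    set q := Q.asIdeal.comap (algebraMap R (Localization.Away s)) with hq
    have hsq : s ∉ q := by
      intro hsq
      have h1 : algebraMap R (Localization.Away s) s ∈ Q.asIdeal := hsq
      have hu : IsUnit (algebraMap R (Localization.Away s) s) :=
        IsLocalization.Away.algebraMap_isUnit s
      exact Q.isPrime.ne_top (Ideal.eq_top_of_isUnit_mem _ h1 hu)
    have hex : ∃ g ∈ G, g ∉ q := by
      by_contra hne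
      push Not at hne
      exact hsq ((Ideal.span_le.mpr hne) hs)
    obtain ⟨g, hg, hgq⟩ := hex
    exact (hPAt _ _).mpr ⟨g, hgq, hg⟩

end Groth.Agent.S17616
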