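import Groth.Statements.S17659
import Groth.Agent.Lib.Helper5.Snap.CompSum

set_option autoImplicit false
universe u
open CategoryTheory CategoryTheory.Limits AlgebraicGeometry
open CIDisc

namespace Groth.Agent.S17659

/-- Let X be a proper scheme over a field k all of whose irreducible components have dimension one, E a
finite locally free O_X-module of constant rank n and F a coherent O_X-module. Then χ(X, E ⊗ F) =
Σ_Z r_Z(F) · deg(E|_{Z_red}) + n · χ(X, F), the sum running over the irreducible components Z of X,
where r_Z(F) is the length of the stalk of F at the generic point ξ_Z of Z as a module over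
O_{X,ξ_Z}, and Z_red is Z with its reduced induced structure (the closed subscheme cut out by the
radical of the ideal of the component). The Noetherian hypothesis on X is a consequence of
properness over k and is stated for convenience. -/
theorem result (k : Type u) [Field k] (X : Scheme.{u}) [X.Over (Spec (CommRingCat.of k))]
    [IsProper (X ↘ (Spec (CommRingCat.of k)))] [IsNoetherian X]
    (hdim : ∀ Z ∈ irreducibleComponents (X : Type u), topologicalKrullDim Z = 1)
    (n : ℕ) (E : X.Modules) (hE : FlatMod.IsFinLocFreeOfRank n E) (F : X.Modules) (hF : Coh.IsCoh F) :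
    Curv2.euler k X (CohB1.tensorMod E F) =
      (∑ᶠ Z : irreducibleComponents (X : Type u),
        ((Module.length (X.presheaf.stalk Z.2.1.genericPoint) (F.presheaf.stalk Z.2.1.genericPoint)).toNat : ℤ) *
          @Curv2.deg k _ (X.irreducibleComponentIdeal Z.1 Z.2).radical.subscheme
            ⟨(X.irreducibleComponentIdeal Z.1 Z.2).radical.subschemeι ≫ (X ↘ (Spec (CommRingCat.of k)))⟩
            ((Scheme.Modules.pullback (X.irreducibleComponentIdeal Z.1 Z.2).radical.subschemeι).obj E) n) +
        (n : ℤ) * Curv2.euler k X F := by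
  have hdim1 : topologicalKrullDim X ≤ 1 :=
    Groth.Agent.H5.Snap.dim_le_of_forall_irreducibleComponents 1 (fun Z hZ => (hdim Z hZ).le)
  have hdim1' : topologicalKrullDim X ≤ ((1 : ℕ) : WithBot ℕ∞) := by
    rw [Nat.cast_one]; exact hdim1
  rcases isEmpty_or_nonempty X with he | hne
  · rw [Groth.Agent.H5.DegC.euler_eq_zero_of_isEmpty k, Groth.Agent.H5.DegC.euler_eq_zero_of_isEmpty k]
    haveI : IsEmpty (irreducibleComponents (X : Type u)) :=
      ⟨fun Z => by obtain ⟨x, _⟩ := Z.2.1.1; exact he.false x⟩
    rw [finsum_of_isEmpty]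
    simp
  have h := Groth.Agent.H5.Snap.del_eq_cycA k hdim1 n E hE F hF
  unfold Groth.Agent.H5.DegC.del at h
  have h2 : Groth.Agent.H5.Snap.cycA 1 (Groth.Agent.H5.Snap.cDeg k n E) F =
      ∑ᶠ Z : irreducibleComponents (X : Type u),
        ((Module.length (X.presheaf.stalk Z.2.1.genericPoint) (F.presheaf.stalk Z.2.1.genericPoint)).toNat : ℤ) *
          @Curv2.deg k _ (X.irreducibleComponentIdeal Z.1 Z.2).radical.subscheme
            ⟨(X.irreducibleComponentIdeal Z.1 Z.2).radical.subschemeι ≫ (X ↘ (Spec (CommRingCat.of k)))⟩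
            ((Scheme.Modules.pullback (X.irreducibleComponentIdeal Z.1 Z.2).radical.subschemeι).obj E) n := by
    unfold Groth.Agent.H5.Snap.cycA
    rw [Groth.Agent.H5.Snap.finsum_points_eq_components 1 hdim1'
      (fun ξ => Groth.Agent.H5.Snap.mult 1 F ξ • Groth.Agent.H5.Snap.cDeg k n E (Groth.Agent.H5.Snap.vI ξ))]
    · apply finsum_congr
      intro Z
      have hm : Groth.Agent.H5.Snap.mult 1 F (Groth.Agent.H5.Snap.gp Z) =
          (Module.length (X.presheaf.stalk Z.2.1.genericPoint)
            (F.presheaf.stalk Z.2.1.genericPoint)).toNat := by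
        unfold Groth.Agent.H5.Snap.mult
        rw [if_pos]
        · rfl
        · rw [Groth.Agent.H5.Snap.closure_gp, Nat.cast_one]
          exact hdim Z.1 Z.2
      beta_reduce
      rw [hm, Groth.Agent.H5.Snap.vI_gp, nsmul_eq_mul]
      rfl
    · intro ξ hξ
      beta_reduce
      unfold Groth.Agent.H5.Snap.mult
      rw [if_neg hξ, zero_smul]
  rw [← h2, ← h]
  ring

end Groth.Agent.S17659
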