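import Groth.Statements.S17677
import Mathlib
import Groth.Agent.Lib.Helper9.HochIntegral

set_option autoImplicit false
universe u
open Hoch

namespace Groth.Agent.S17677

open TensorProduct in
/-- coefficient at `0` -/
noncomputable def chi0 (k : Type u) [CommRing k] (M : Type u) [AddCommMonoid M] :
    AddMonoidAlgebra k M →ₗ[k] k :=
  Finsupp.lapply 0 ∘ₗ (AddMonoidAlgebra.coeffLinearEquiv k).toLinearMap

open Classical in
lemma chi0_single (k : Type u) [CommRing k] (M : Type u) [AddCommMonoid M] (m : M) (c : k) :
    chi0 k M (AddMonoidAlgebra.single m c) = if m = 0 then c else 0 := by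
  simp [chi0, Finsupp.single_apply]

open TensorProduct in
lemma chi0_int (k : Type u) [CommRing k] (M : Type u) [AddCommMonoid M] :
    Groth.Agent.H9.HochIntegral.IsRightIntegral k (AddMonoidAlgebra k M) (chi0 k M) := by
  classical
  intro a
  have : Groth.Agent.H9.HochIntegral.sl k (AddMonoidAlgebra k M) (chi0 k M) ∘ₗ
      Coalgebra.comul (R := k) =
      LinearMap.toSpanSingleton k (AddMonoidAlgebra k M) 1 ∘ₗ chi0 k M := by
    apply AddMonoidAlgebra.lhom_ext'
    intro m
    apply LinearMap.ext_ring
    simp only [LinearMap.comp_apply, AddMonoidAlgebra.lsingle_apply, AddMonoidAlgebra.comul_single,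
      LinearMap.toSpanSingleton_apply]
    rw [show Coalgebra.comul (R := k) (1 : k) = (1 : k) ⊗ₜ[k] (1 : k) from rfl]
    simp only [TensorProduct.map_tmul, AddMonoidAlgebra.lsingle_apply,
      Groth.Agent.H9.HochIntegral.sl_tmul, chi0_single]
    split_ifs with h
    · subst h; rfl
    · simp
  exact LinearMap.congr_fun this a

/-- Let k be a commutative ring, M a commutative monoid and V a right comodule over the monoid bialgebra
k[M] (a quasi-coherent module with an action of the diagonalizable monoid scheme Spec k[M]). Then
every 1-cocycle of the Hochschild complex of V is a 1-coboundary, i.e. the first Hochschild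
cohomology module of the diagonalizable monoid with coefficients in V is zero. (The source works
over an algebraic space with M finitely generated and cancellative, hypotheses it uses only to
identify modules under the monoid with comodules; the cocycle computation, which is the affine
statement given here, uses neither.) -/
theorem result (k : Type u) [CommRing k] (M : Type u)
    [AddCommMonoid M] (V : Type u) [AddCommGroup V] [Module k V]
    [HopfRep.Comod k (AddMonoidAlgebra k M) V] :
    Hoch.cocycles k (AddMonoidAlgebra k M) V 1 ≤ Hoch.coboundaries k (AddMonoidAlgebra k M) V 1 := by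
  refine Groth.Agent.H9.HochIntegral.cocycles_le_coboundaries k (AddMonoidAlgebra k M) V
    (chi0_int k M) ?_ 0
  rw [AddMonoidAlgebra.one_def, chi0_single, if_pos rfl]

end Groth.Agent.S17677
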