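import Groth.Statements.S17679
import Mathlib

set_option autoImplicit false
open DiagMon

namespace Groth.Agent.S17679

/-- For n ≥ 1 the minimal number of generators of ℤ^n as an additive monoid is n + 1: some n + 1
elements generate ℤ^n as a monoid, and every finite set generating ℤ^n as a monoid has at least n +
1 elements. (For n = 0 the empty set generates the zero monoid, so the count n + 1 is stated for n ≥
1 only.) -/
theorem result (n : ℕ) (hn : 1 ≤ n) :
    (∃ s : Finset (Fin n → ℤ), s.card = n + 1 ∧ AddSubmonoid.closure (s : Set (Fin n → ℤ)) = ⊤) ∧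
    ∀ s : Finset (Fin n → ℤ), AddSubmonoid.closure (s : Set (Fin n → ℤ)) = ⊤ → n + 1 ≤ s.card := by
  classical
  have : Nonempty (Fin n) := ⟨⟨0, hn⟩⟩
  constructor
  · refine ⟨insert (-1 : Fin n → ℤ) (Finset.univ.image (fun i : Fin n => (Pi.single i 1 : Fin n → ℤ))), ?_, ?_⟩
    · rw [Finset.card_insert_of_notMem, Finset.card_image_of_injective]
      · simp
      · intro i j hij
        by_contra hne
        have := congrFun hij i
        simp [hne] at this
      · intro h
        rw [Finset.mem_image] at h
        obtain ⟨i, -, hi⟩ := h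
        have := congrFun hi i
        simp at this
    · rw [eq_top_iff]
      intro v _
      set S : Set (Fin n → ℤ) := ↑(insert (-1 : Fin n → ℤ) (Finset.univ.image (fun i : Fin n => (Pi.single i 1 : Fin n → ℤ)))) with hS
      let m : ℕ := ∑ i, (v i).natAbs
      have hm : ∀ i, 0 ≤ v i + m := by
        intro i
        have h1 : (v i).natAbs ≤ m := Finset.single_le_sum (f := fun i => (v i).natAbs) (fun _ _ => Nat.zero_le _) (Finset.mem_univ i)
        have h2 : -(v i) ≤ ((v i).natAbs : ℤ) := by
          rw [Int.natCast_natAbs]; exact neg_le_abs _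
        have h3 : ((v i).natAbs : ℤ) ≤ (m : ℤ) := by exact_mod_cast h1
        linarith
      have hv : v = ∑ i, (v i + m).toNat • (Pi.single i 1 : Fin n → ℤ) + m • (-1 : Fin n → ℤ) := by
        funext j
        simp only [Pi.add_apply, Finset.sum_apply, Pi.smul_apply, Pi.single_apply, Pi.neg_apply, Pi.one_apply]
        rw [Finset.sum_eq_single j]
        · simp [Int.toNat_of_nonneg (hm j)]
        · intro b _ hb
          simp [hb.symm]
        · simp
      rw [hv]
      refine add_mem (sum_mem fun i _ => nsmul_mem (AddSubmonoid.subset_closure ?_) _) (nsmul_mem (AddSubmonoid.subset_closure ?_) _)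
      · simp [hS]
      · simp [hS]
  · intro s hs
    by_contra hlt
    have hcard : s.card ≤ n := by omega
    have hspan : ⊤ ≤ Submodule.span ℤ (Set.range (fun i : s => (i : Fin n → ℤ))) := by
      intro x _
      have hx : x ∈ AddSubmonoid.closure (s : Set (Fin n → ℤ)) := by rw [hs]; trivial
      have : AddSubmonoid.closure (s : Set (Fin n → ℤ)) ≤ (Submodule.span ℤ (s : Set (Fin n → ℤ))).toAddSubmonoid :=
        AddSubmonoid.closure_le.2 Submodule.subset_span
      have h2 := this hx
      simpa using h2
    have hli : LinearIndependent ℤ (fun i : s => (i : Fin n → ℤ)) := by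
      apply linearIndependent_of_top_le_span_of_card_le_finrank hspan
      simp [hcard]
    have hne : s.Nonempty := by
      by_contra hemp
      rw [Finset.not_nonempty_iff_eq_empty] at hemp
      subst hemp
      simp at hs
    obtain ⟨x₀, hx₀⟩ := hne
    have hmem : -x₀ ∈ Submodule.span ℕ (s : Set (Fin n → ℤ)) := by
      rw [← Submodule.mem_toAddSubmonoid, Submodule.span_nat_eq_addSubmonoidClosure, hs]; trivial
    obtain ⟨f, -, hf⟩ := Submodule.mem_span_finset.1 hmem
    rw [Fintype.linearIndependent_iff] at hli
    have h0 := hli (fun i => (f i : ℤ) + if (i : Fin n → ℤ) = x₀ then 1 else 0) ?_ ⟨x₀, hx₀⟩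
    · simp at h0
      omega
    · rw [Finset.sum_coe_sort s (fun i => ((f i : ℤ) + if i = x₀ then 1 else 0) • i)]
      simp only [add_smul, Finset.sum_add_distrib, ite_smul, one_smul, zero_smul]
      rw [Finset.sum_ite_eq' s x₀]
      simp only [hx₀, if_true]
      have : ∑ i ∈ s, (f i : ℤ) • i = ∑ i ∈ s, f i • i := by
        apply Finset.sum_congr rfl; intro i _; simp
      rw [this, hf]; simp

end Groth.Agent.S17679
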