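import Groth.Statements.S17682
import Mathlib

set_option autoImplicit false
universe u v w u'
open DiagMon

namespace Groth.Agent.S17682

/-- Let R be a commutative ring, A a commutative R-algebra graded by a commutative monoid M, N a
submonoid of M and R' a commutative R-algebra. For every R-algebra homomorphism F : A → R' vanishing
on the homogeneous elements of degree outside N there is a unique R-algebra homomorphism f : A →
R'[M] which is graded (a homogeneous element of degree m goes to a multiple of X^m), vanishes on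
homogeneous elements of degree outside N, and composes with the augmentation X^m ↦ 1 to F. In the
dictionary where an M-grading of A is an action of the diagonalizable monoid scheme Spec R[M] on
Spec A and graded maps A → R'[M] supported on N are equivariant maps from the monoid scheme of N
over R', this says that the attractor of Spec A for the magnet N is represented by the closed
subscheme of Spec A defined by the homogeneous elements of degree outside N. -/
theorem result (R : Type u) [CommRing R]
    (A : Type v) [CommRing A] [Algebra R A] (M : Type w) [AddCommMonoid M] [DecidableEq M]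
    (𝒜 : M → Submodule R A) [GradedAlgebra 𝒜] (N : AddSubmonoid M) (R' : Type u') [CommRing R']
    [Algebra R R'] (F : A →ₐ[R] R') (hF : ∀ m, m ∉ N → ∀ a ∈ 𝒜 m, F a = 0) :
    ∃! f : A →ₐ[R] AddMonoidAlgebra R' M,
      (∀ m, ∀ a ∈ 𝒜 m, f a =
          AddMonoidAlgebra.single m (Bialgebra.counitAlgHom R' (AddMonoidAlgebra R' M) (f a))) ∧
      (∀ m, m ∉ N → ∀ a ∈ 𝒜 m, f a = 0) ∧
      ∀ a, Bialgebra.counitAlgHom R' (AddMonoidAlgebra R' M) (f a) = F a := by
  classical
  have hcounit : ∀ (m : M) (r : R'), Bialgebra.counitAlgHom R' (AddMonoidAlgebra R' M) (AddMonoidAlgebra.single m r) = r := by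
    intro m r
    simp [Bialgebra.counitAlgHom]
  let φ : ∀ i, 𝒜 i →ₗ[R] AddMonoidAlgebra R' M := fun i =>
    ((AddMonoidAlgebra.lsingle i : R' →ₗ[R] AddMonoidAlgebra R' M)).comp (F.toLinearMap.comp (𝒜 i).subtype)
  have hφ : ∀ i (a : 𝒜 i), φ i a = AddMonoidAlgebra.single i (F a) := fun i a => rfl
  let f₀ : (DirectSum M fun i => 𝒜 i) →ₐ[R] AddMonoidAlgebra R' M :=
    DirectSum.toAlgebra R _ φ (by
      rw [hφ]
      simp [AddMonoidAlgebra.one_def]) (by
      intro i j ai aj
      rw [hφ, hφ, hφ, AddMonoidAlgebra.single_mul_single]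
      simp)
  let f : A →ₐ[R] AddMonoidAlgebra R' M := f₀.comp (DirectSum.decomposeAlgEquiv 𝒜).toAlgHom
  have hf : ∀ m, ∀ a ∈ 𝒜 m, f a = AddMonoidAlgebra.single m (F a) := by
    intro m a ha
    show f₀ (DirectSum.decompose 𝒜 a) = _
    rw [DirectSum.decompose_of_mem 𝒜 ha]
    simp only [f₀, DirectSum.toAlgebra_apply]
    exact (DirectSum.toSemiring_of _ _ _ _ _).trans (hφ m ⟨a, ha⟩)
  have hext : ∀ g₁ g₂ : A →ₐ[R] AddMonoidAlgebra R' M, (∀ m, ∀ a ∈ 𝒜 m, g₁ a = g₂ a) → g₁ = g₂ := by
    intro g₁ g₂ h
    apply AlgHom.ext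
    intro a
    rw [← DirectSum.sum_support_decompose 𝒜 a]
    simp only [map_sum]
    apply Finset.sum_congr rfl
    intro i _
    rw [h i _ (SetLike.coe_mem _)]
  refine ⟨f, ⟨?_, ?_, ?_⟩, ?_⟩
  · intro m a ha
    rw [hf m a ha, hcounit]
  · intro m hm a ha
    rw [hf m a ha, hF m hm a ha]
    simp
  · intro a
    rw [← DirectSum.sum_support_decompose 𝒜 a]
    simp only [map_sum]
    apply Finset.sum_congr rfl
    intro i _
    rw [hf i _ (SetLike.coe_mem _), hcounit]
  · intro g ⟨hg1, hg2, hg3⟩
    apply hext
    intro m a ha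
    rw [hf m a ha, hg1 m a ha, hg3]

end Groth.Agent.S17682
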