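import Groth.Statements.S17683
import Mathlib
-- import your own Groth.Agent.* helpers here

set_option autoImplicit false
universe u
open DiagMon

namespace Groth.Agent.S17683

/-- Let N be a commutative monoid and F a submonoid of N. The additive projection ℤ[N] → ℤ[F] of monoid
algebras keeping the monomials with exponent in F and killing the others is multiplicative, i.e. F
is a face of N, if and only if for all x, y in N the sum x + y lies in F exactly when both x and y
do. -/
theorem result {N : Type u} [AddCommMonoid N] (F : AddSubmonoid N) :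
    (∀ a b : AddMonoidAlgebra ℤ N,
        AddMonoidAlgebra.comapDomain ((↑) : F → N) Subtype.val_injective (a * b) =
          AddMonoidAlgebra.comapDomain ((↑) : F → N) Subtype.val_injective a *
            AddMonoidAlgebra.comapDomain ((↑) : F → N) Subtype.val_injective b) ↔
      ∀ x y : N, x + y ∈ F ↔ (x ∈ F ∧ y ∈ F) := by
  classical
  set c := AddMonoidAlgebra.comapDomainAddMonoidHom (R := ℤ) ((↑) : F → N) Subtype.val_injective with hc
  have hcdef : ∀ a, AddMonoidAlgebra.comapDomain ((↑) : F → N) Subtype.val_injective a = c a := fun a => rfl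
  have hcin : ∀ (x : N) (hx : x ∈ F) (r : ℤ), c (AddMonoidAlgebra.single x r) = AddMonoidAlgebra.single ⟨x, hx⟩ r := by
    intro x hx r
    exact AddMonoidAlgebra.comapDomain_single_map ((↑) : F → N) Subtype.val_injective ⟨x, hx⟩ r
  have hcout : ∀ (x : N) (_ : x ∉ F) (r : ℤ), c (AddMonoidAlgebra.single x r) = 0 := by
    intro x hx r
    ext y
    have hne : x ≠ (y : N) := by
      rintro rfl; exact hx y.2
    simp [hc, AddMonoidAlgebra.comapDomainAddMonoidHom, Finsupp.single_apply, hne]
  simp only [hcdef]
  constructor
  · intro h x y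
    constructor
    · intro hxy
      have h1 := h (AddMonoidAlgebra.single x 1) (AddMonoidAlgebra.single y 1)
      rw [AddMonoidAlgebra.single_mul_single, hcin _ hxy] at h1
      have hne : (AddMonoidAlgebra.single (⟨x + y, hxy⟩ : F) ((1 : ℤ) * 1) : AddMonoidAlgebra ℤ F) ≠ 0 := by
        intro h0
        have := congrArg (fun z => z.coeff ⟨x + y, hxy⟩) h0
        simp at this
      constructor
      · by_contra hx
        rw [hcout x hx, zero_mul] at h1
        exact hne h1
      · by_contra hy
        rw [hcout y hy, mul_zero] at h1
        exact hne h1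
    · rintro ⟨hx, hy⟩
      exact F.add_mem hx hy
  · intro hface a b
    -- reduce to singles by additivity
    have key : ∀ (x y : N) (r s : ℤ), c (AddMonoidAlgebra.single x r * AddMonoidAlgebra.single y s)
        = c (AddMonoidAlgebra.single x r) * c (AddMonoidAlgebra.single y s) := by
      intro x y r s
      rw [AddMonoidAlgebra.single_mul_single]
      by_cases hx : x ∈ F
      · by_cases hy : y ∈ F
        · rw [hcin _ hx, hcin _ hy, hcin _ (F.add_mem hx hy), AddMonoidAlgebra.single_mul_single]
          rfl
        · rw [hcout y hy, mul_zero, hcout]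
          intro hxy; exact hy ((hface x y).mp hxy).2
      · rw [hcout x hx, zero_mul, hcout]
        intro hxy; exact hx ((hface x y).mp hxy).1
    have h1 : ∀ (x : N) (r : ℤ) (b : AddMonoidAlgebra ℤ N),
        c (AddMonoidAlgebra.single x r * b) = c (AddMonoidAlgebra.single x r) * c b := by
      intro x r b
      let f₁ : AddMonoidAlgebra ℤ N →+ AddMonoidAlgebra ℤ F :=
        c.comp (AddMonoidHom.mulLeft (AddMonoidAlgebra.single x r))
      let f₂ : AddMonoidAlgebra ℤ N →+ AddMonoidAlgebra ℤ F :=
        (AddMonoidHom.mulLeft (c (AddMonoidAlgebra.single x r))).comp c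
      have : f₁ = f₂ := AddMonoidAlgebra.addMonoidHom_ext (fun y s => key x y r s)
      exact DFunLike.congr_fun this b
    let g₁ : AddMonoidAlgebra ℤ N →+ AddMonoidAlgebra ℤ F :=
      c.comp (AddMonoidHom.mulRight b)
    let g₂ : AddMonoidAlgebra ℤ N →+ AddMonoidAlgebra ℤ F :=
      (AddMonoidHom.mulRight (c b)).comp c
    have : g₁ = g₂ := AddMonoidAlgebra.addMonoidHom_ext (fun x r => h1 x r b)
    exact DFunLike.congr_fun this a

end Groth.Agent.S17683
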