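import Groth.Statements.S17685
import Mathlib
import Groth.Agent.H4.WRf

set_option autoImplicit false
universe u
open CategoryTheory MonoidalCategory CartesianMonoidalCategory MonObj GrpObj AlgebraicGeometry
open AlgGrp

namespace Groth.Agent.S17685

/-- Let S be a scheme, F an S-scheme that is finite locally free over S (finite, flat and locally of
finite presentation) with a section e of F over S which is a surjective closed immersion (an
infinitesimal pointed S-scheme), and X an S-scheme with an action of the pointed scheme F, i.e. an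
S-morphism F ×_S X → X through which e acts as the identity. Then the subfunctor of F-fixed points
of X, whose T-points are the T-points x of X with g · x_{T'} = x_{T'} for every S-scheme T' over T
and every T'-point g of F, is represented by a closed subscheme of X. (The source allows F and X to
be algebraic spaces over S; this row is the case of schemes.) -/
theorem result (S : Scheme.{u})
    (F X : Over S) (e : 𝟙_ (Over S) ⟶ F) (act : F ⊗ X ⟶ X) (he : (e ▷ X) ≫ act = (λ_ X).hom)
    [IsFinite F.hom] [Flat F.hom] [LocallyOfFinitePresentation F.hom]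
    [IsClosedImmersion e.left] [Surjective e.left] :
    ∃ (Z : Scheme.{u}) (i : Z ⟶ X.left), IsClosedImmersion i ∧
      ∀ (T : Over S) (x : T ⟶ X), (∃ y : T.left ⟶ Z, y ≫ i = x.left) ↔
        ∀ (T' : Over S) (t : T' ⟶ T) (g : T' ⟶ F), lift g (t ≫ x) ≫ act = t ≫ x := by
  have hW : IsClosedImmersion (Limits.equalizer.ι act.left (snd F X).left) :=
    Groth.Agent.H4.WRf.isClosedImmersion_equalizer_of_pointed F X e act he
  have hw : ∀ ⦃T'' : Scheme.{u}⦄ (s : T'' ⟶ (F ⊗ X).left),
      (∃ l : T'' ⟶ Limits.equalizer act.left (snd F X).left,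
        l ≫ Limits.equalizer.ι act.left (snd F X).left = s) ↔
        s ≫ act.left = s ≫ (snd F X).left :=
    fun T'' s => Groth.Agent.H4.WRd.eq_factor_iff act.left (snd F X).left s
  have hPB : IsPullback (fst F X).left (snd F X).left F.hom X.hom :=
    IsPullback.of_hasPullback F.hom X.hom
  obtain ⟨Z₀, c₀, hc₀, hZ⟩ := Groth.Agent.H4.WRc.weil_rep (snd F X).left
    (Limits.equalizer.ι act.left (snd F X).left) (by
      intro y
      obtain ⟨_, ⟨U, hU, rfl⟩, hyU, -⟩ := S.isBasis_affineOpens.exists_subset_of_mem_open
        (Set.mem_univ (X.hom y)) isOpen_univ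
      exact Groth.Agent.H4.WRd.loc_model F.hom X.hom (fst F X).left (snd F X).left hPB U hU
        (Groth.Agent.H4.WRf.projective_app_of_finite_flat F.hom U hU) y hyU)
  refine ⟨Z₀, c₀, hc₀, ?_⟩
  intro T x
  rw [← hZ x.left, ← Groth.Agent.H4.WRe.eq_iff_predW act (snd F X) _ hw x]
  constructor
  · intro h T' t g
    rw [h T' t g, lift_snd]
  · intro h T' t g
    rw [h T' t g, lift_snd]

end Groth.Agent.S17685
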