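import Groth.Statements.S17688
import Groth.Agent.Lib.Helper9.Misc.StdExt

set_option autoImplicit false
universe u
open CategoryTheory CategoryTheory.Limits AlgebraicGeometry MonObj
open Neron

namespace Groth.Agent.S17688

/-- Let R be a discrete valuation ring whose fraction field K has characteristic p > 0, and let U be a
flat, separated, commutative group scheme over Spec R whose generic fibre U_K is annihilated by a
power p^N of p (in the group of endomorphisms of U_K as a K-scheme, the p^N-th power of the identity
is the unit). Then for every prime ℓ invertible in R the ℓ-th power map of U (the ℓ-th power of the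
identity in the group of R-morphisms U → U) is an isomorphism. -/
theorem result
    (R : Type u) [CommRing R] [IsDomain R] [IsDiscreteValuationRing R]
    (p : ℕ) (hp : p.Prime) [CharP (FractionRing R) p]
    (U : Over (Spec (CommRingCat.of R))) [GrpObj U] [IsCommMonObj U] [Flat U.hom] [IsSeparated U.hom]
    (N : ℕ) (hN : (𝟙 (Red.bc (Neron.genPt R) U) : Red.bc (Neron.genPt R) U ⟶ Red.bc (Neron.genPt R) U) ^ (p ^ N) = 1)
    (ℓ : ℕ) (hℓ : ℓ.Prime) (hℓu : IsUnit (ℓ : R)) :
    IsIso ((𝟙 U : U ⟶ U) ^ ℓ) := by
  haveI : IsSchemeTheoreticallyDominant (Neron.genPt R) :=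
    Groth.Agent.H9.StdExt.std_specMap_algebraMap R (FractionRing R)
      (IsFractionRing.injective R (FractionRing R))
  have h1 : (𝟙 U : U ⟶ U) ^ (p ^ N) = 1 :=
    Groth.Agent.H9.StdExt.pow_eq_one_of_bc (Neron.genPt R) U (p ^ N) hN
  have hne : ℓ ≠ p := by
    rintro rfl
    have h0 : ((ℓ : R)) = 0 := by
      apply IsFractionRing.injective R (FractionRing R)
      rw [map_natCast, map_zero]
      exact CharP.cast_eq_zero (FractionRing R) ℓ
    rw [h0] at hℓu
    exact not_isUnit_zero hℓu
  have hcop : Nat.Coprime ℓ (p ^ N) :=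
    Nat.Coprime.pow_right N ((Nat.coprime_primes hℓ hp).mpr hne)
  exact Groth.Agent.H9.StdExt.isIso_pow_of_coprime U (p ^ N) ℓ h1 hcop

end Groth.Agent.S17688
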