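import Groth.Statements.S17689
import Mathlib
import Groth.Prelude.Def_Flat
import Groth.Agent.H4.UHPow

set_option autoImplicit false
universe u
open CategoryTheory AlgebraicGeometry
open Neron

namespace Groth.Agent.S17689

open CategoryTheory CategoryTheory.Limits AlgebraicGeometry TensorProduct


open Groth.Agent.S7405 Groth.Agent.H4.UHCrit Groth.Agent.H4.UHTower Groth.Agent.H4.UHPow

/-- Let R ⊆ S be a finite extension of discrete valuation rings (the structure map R → S is injective
and S is a finite R-module) such that the induced extension K ⊆ L of fraction fields is purely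
inseparable. Then the morphism Spec S → Spec R is a universal homeomorphism: every base change of it
is a homeomorphism on underlying spaces. (No excellence hypothesis is needed here.) -/
theorem result
    (R S K L : Type u) [CommRing R] [IsDomain R] [IsDiscreteValuationRing R]
    [CommRing S] [IsDomain S] [IsDiscreteValuationRing S] [Algebra R S] [Module.Finite R S] [FaithfulSMul R S]
    [Field K] [Field L] [Algebra R K] [IsFractionRing R K] [Algebra S L] [IsFractionRing S L]
    [Algebra K L] [Algebra R L] [IsScalarTower R S L] [IsScalarTower R K L] [IsPurelyInseparable K L] :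
    FlatMor.IsUnivHomeo (Spec.map (CommRingCat.ofHom (algebraMap R S))) := by
  rw [uhc_iff]
  have hSL : Function.Injective (algebraMap S L) := IsFractionRing.injective S L
  have hRS : Function.Injective (algebraMap R S) := FaithfulSMul.algebraMap_injective R S
  obtain ⟨q, hq⟩ := ExpChar.exists K
  have hq' : q = 1 ∨ (q.Prime ∧ (q : S) = 0) := by
    cases hq with
    | zero => exact Or.inl rfl
    | prime hprime =>
      refine Or.inr ⟨hprime, hSL ?_⟩
      rw [map_natCast, map_zero, ← map_natCast (algebraMap K L), CharP.cast_eq_zero K q, map_zero]
  apply uhc_of_pow_mem q hq'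
  · rw [(RingHom.injective_iff_ker_eq_bot _).mp hRS]; exact bot_le
  · intro b
    obtain ⟨n, k, hk⟩ := (isPurelyInseparable_iff_pow_mem K q).mp ‹_› (algebraMap S L b)
    have hbint : IsIntegral R b := Algebra.IsIntegral.isIntegral b
    have h1 : IsIntegral R (algebraMap K L k) := by
      rw [hk]
      exact (hbint.map (IsScalarTower.toAlgHom R S L)).pow _
    have h2 : IsIntegral R k := (isIntegral_algebraMap_iff (algebraMap K L).injective).mp h1
    obtain ⟨r, hr⟩ := IsIntegrallyClosed.isIntegral_iff.mp h2
    refine ⟨n, r, hSL ?_⟩
    rw [map_pow, ← hk, ← hr, ← IsScalarTower.algebraMap_apply, ← IsScalarTower.algebraMap_apply]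


end Groth.Agent.S17689
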