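import Groth.Statements.S17715
import Mathlib
import Groth.Agent.Lib.Helper8.Todd
-- import your own Groth.Agent.* helpers here

set_option autoImplicit false
open MoretBailly

namespace Groth.Agent.S17715

/-- Write B(x) = x/(1 - e^(-x)) for the exponential generating series of the Bernoulli numbers (B'_1 =
1/2). For all natural numbers d and p the coefficient of x^3 in B(-dx)^(-1) B(-dpx) B(x)^4
e^((dp-d-3)x), i.e. the case n = 3, s = 1 of the Todd-class integrand, equals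
-d(d+2)(p-1)(dp-d-2)/24 = -(d^3+2d^2) p^2/24 + (d^3+3d^2+2d) p/12 - (d^3+4d^2+4d)/24. (The published
closed form has the same p^2 and p coefficients but constant term -(d^3+2d^2+2d)/24; direct
expansion gives the value stated here, which vanishes at p = 1.) -/
theorem result (d p : ℕ) :
    PowerSeries.coeff 3 ((PowerSeries.rescale (-(d : ℚ)) (bernoulli'PowerSeries ℚ))⁻¹ * PowerSeries.rescale (-((d : ℚ) * p)) (bernoulli'PowerSeries ℚ) * bernoulli'PowerSeries ℚ ^ (4) * PowerSeries.rescale ((d : ℚ) * p - d - 3) (PowerSeries.exp ℚ)) =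
      -((d : ℚ) * (d + 2) * (p - 1) * (d * p - d - 2)) / 24 := by
  open Groth.Agent.H8.Todd in
  have h1 := Groth.Agent.H8.Todd.todd_eq 3 (d : ℚ) (p : ℚ) (1 : ℚ)
  have e : (d : ℚ) * p - d - 3 = (d : ℚ) * p - d - ((3 : ℕ) : ℚ) - 1 + 1 := by push_cast; ring
  simp only [Groth.Agent.H8.Todd.B] at h1
  rw [e, show (4 : ℕ) = 3 + 1 from rfl, h1]
  -- coefficients of B
  have hB0 : PowerSeries.coeff 0 Groth.Agent.H8.Todd.B = 1 := by
    rw [Groth.Agent.H8.Todd.coeff_B]; simp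
  have hB1 : PowerSeries.coeff 1 Groth.Agent.H8.Todd.B = 1 / 2 := by
    rw [Groth.Agent.H8.Todd.coeff_B]; simp
  have hB2 : PowerSeries.coeff 2 Groth.Agent.H8.Todd.B = 1 / 12 := by
    rw [Groth.Agent.H8.Todd.coeff_B, bernoulli'_two]; norm_num [Nat.factorial]
  have hB3 : PowerSeries.coeff 3 Groth.Agent.H8.Todd.B = 0 := by
    rw [Groth.Agent.H8.Todd.coeff_B, bernoulli'_three]; simp
  -- coefficients of B^2
  have hC0 : PowerSeries.coeff 0 (Groth.Agent.H8.Todd.B * Groth.Agent.H8.Todd.B) = 1 := by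
    rw [Groth.Agent.H8.Todd.coeff_zero_mul', hB0]; norm_num
  have hC1 : PowerSeries.coeff 1 (Groth.Agent.H8.Todd.B * Groth.Agent.H8.Todd.B) = 1 := by
    rw [Groth.Agent.H8.Todd.coeff_one_mul', hB0, hB1]; norm_num
  have hC2 : PowerSeries.coeff 2 (Groth.Agent.H8.Todd.B * Groth.Agent.H8.Todd.B) = 5 / 12 := by
    rw [Groth.Agent.H8.Todd.coeff_two_mul', hB0, hB1, hB2]; norm_num
  have hC3 : PowerSeries.coeff 3 (Groth.Agent.H8.Todd.B * Groth.Agent.H8.Todd.B) = 1 / 12 := by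
    rw [Groth.Agent.H8.Todd.coeff_three_mul', hB0, hB1, hB2, hB3]; norm_num
  -- coefficients of B^4
  have hB4 : Groth.Agent.H8.Todd.B ^ (3 + 1) =
      (Groth.Agent.H8.Todd.B * Groth.Agent.H8.Todd.B) * (Groth.Agent.H8.Todd.B * Groth.Agent.H8.Todd.B) := by
    ring
  have hD0 : PowerSeries.coeff 0 (Groth.Agent.H8.Todd.B ^ (3 + 1)) = 1 := by
    rw [hB4, Groth.Agent.H8.Todd.coeff_zero_mul', hC0]; norm_num
  have hD1 : PowerSeries.coeff 1 (Groth.Agent.H8.Todd.B ^ (3 + 1)) = 2 := by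
    rw [hB4, Groth.Agent.H8.Todd.coeff_one_mul', hC0, hC1]; norm_num
  have hD2 : PowerSeries.coeff 2 (Groth.Agent.H8.Todd.B ^ (3 + 1)) = 11 / 6 := by
    rw [hB4, Groth.Agent.H8.Todd.coeff_two_mul', hC0, hC1, hC2]; norm_num
  have hD3 : PowerSeries.coeff 3 (Groth.Agent.H8.Todd.B ^ (3 + 1)) = 1 := by
    rw [hB4, Groth.Agent.H8.Todd.coeff_three_mul', hC0, hC1, hC2, hC3]; norm_num
  -- coefficients of E(dx)
  have hE0 : PowerSeries.coeff 0 (PowerSeries.rescale (d : ℚ) Groth.Agent.H8.Todd.E) = 1 := by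
    rw [PowerSeries.coeff_rescale, Groth.Agent.H8.Todd.coeff_E]; simp
  have hE1 : PowerSeries.coeff 1 (PowerSeries.rescale (d : ℚ) Groth.Agent.H8.Todd.E) = (d : ℚ) / 2 := by
    rw [PowerSeries.coeff_rescale, Groth.Agent.H8.Todd.coeff_E]; norm_num [Nat.factorial]; ring
  have hE2 : PowerSeries.coeff 2 (PowerSeries.rescale (d : ℚ) Groth.Agent.H8.Todd.E) = (d : ℚ) ^ 2 / 6 := by
    rw [PowerSeries.coeff_rescale, Groth.Agent.H8.Todd.coeff_E]; norm_num [Nat.factorial]; ring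
  have hE3 : PowerSeries.coeff 3 (PowerSeries.rescale (d : ℚ) Groth.Agent.H8.Todd.E) = (d : ℚ) ^ 3 / 24 := by
    rw [PowerSeries.coeff_rescale, Groth.Agent.H8.Todd.coeff_E]; norm_num [Nat.factorial]; ring
  -- coefficients of the exponential
  set c : ℚ := (1 : ℚ) - (d : ℚ) - ((3 : ℕ) : ℚ) - 1 with hc
  have hX0 : PowerSeries.coeff 0 (PowerSeries.rescale c (PowerSeries.exp ℚ)) = 1 := by
    rw [PowerSeries.coeff_rescale, PowerSeries.coeff_exp]; simp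
  have hX1 : PowerSeries.coeff 1 (PowerSeries.rescale c (PowerSeries.exp ℚ)) = c := by
    rw [PowerSeries.coeff_rescale, PowerSeries.coeff_exp]; simp
  have hX2 : PowerSeries.coeff 2 (PowerSeries.rescale c (PowerSeries.exp ℚ)) = c ^ 2 / 2 := by
    rw [PowerSeries.coeff_rescale, PowerSeries.coeff_exp]; norm_num [Nat.factorial]; ring
  have hX3 : PowerSeries.coeff 3 (PowerSeries.rescale c (PowerSeries.exp ℚ)) = c ^ 3 / 6 := by
    rw [PowerSeries.coeff_rescale, PowerSeries.coeff_exp]; norm_num [Nat.factorial]; ring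
  -- coefficients of B(dpx)
  have hP0 : PowerSeries.coeff 0 (PowerSeries.rescale ((d : ℚ) * p) Groth.Agent.H8.Todd.B) = 1 := by
    rw [PowerSeries.coeff_rescale, hB0]; simp
  have hP1 : PowerSeries.coeff 1 (PowerSeries.rescale ((d : ℚ) * p) Groth.Agent.H8.Todd.B) =
      (d : ℚ) * p / 2 := by
    rw [PowerSeries.coeff_rescale, hB1]; ring
  have hP2 : PowerSeries.coeff 2 (PowerSeries.rescale ((d : ℚ) * p) Groth.Agent.H8.Todd.B) =
      ((d : ℚ) * p) ^ 2 / 12 := by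
    rw [PowerSeries.coeff_rescale, hB2]; ring
  have hP3 : PowerSeries.coeff 3 (PowerSeries.rescale ((d : ℚ) * p) Groth.Agent.H8.Todd.B) = 0 := by
    rw [PowerSeries.coeff_rescale, hB3]; ring
  -- assemble G
  set EB := PowerSeries.rescale (d : ℚ) Groth.Agent.H8.Todd.E * Groth.Agent.H8.Todd.B ^ (3 + 1) with hEB
  have hF0 : PowerSeries.coeff 0 EB = 1 := by
    rw [hEB, Groth.Agent.H8.Todd.coeff_zero_mul', hE0, hD0]; norm_num
  have hF1 : PowerSeries.coeff 1 EB = 2 + (d : ℚ) / 2 := by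
    rw [hEB, Groth.Agent.H8.Todd.coeff_one_mul', hE0, hD0, hE1, hD1]; ring
  have hF2 : PowerSeries.coeff 2 EB = 11 / 6 + (d : ℚ) + (d : ℚ) ^ 2 / 6 := by
    rw [hEB, Groth.Agent.H8.Todd.coeff_two_mul', hE0, hD0, hE1, hD1, hE2, hD2]; ring
  have hF3 : PowerSeries.coeff 3 EB = 1 + 11 / 12 * (d : ℚ) + (d : ℚ) ^ 2 / 3 + (d : ℚ) ^ 3 / 24 := by
    rw [hEB, Groth.Agent.H8.Todd.coeff_three_mul', hE0, hD0, hE1, hD1, hE2, hD2, hE3, hD3]; ring
  have hG : Groth.Agent.H8.Todd.G 3 (d : ℚ) 1 = EB * PowerSeries.rescale c (PowerSeries.exp ℚ) := by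
    rw [Groth.Agent.H8.Todd.G]
  have hG0 : PowerSeries.coeff 0 (Groth.Agent.H8.Todd.G 3 (d : ℚ) 1) = 1 := by
    rw [hG, Groth.Agent.H8.Todd.coeff_zero_mul', hF0, hX0]; norm_num
  have hG1 : PowerSeries.coeff 1 (Groth.Agent.H8.Todd.G 3 (d : ℚ) 1) = c + (2 + (d : ℚ) / 2) := by
    rw [hG, Groth.Agent.H8.Todd.coeff_one_mul', hF0, hX0, hF1, hX1]; ring
  have hG2 : PowerSeries.coeff 2 (Groth.Agent.H8.Todd.G 3 (d : ℚ) 1) =
      c ^ 2 / 2 + (2 + (d : ℚ) / 2) * c + (11 / 6 + (d : ℚ) + (d : ℚ) ^ 2 / 6) := by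
    rw [hG, Groth.Agent.H8.Todd.coeff_two_mul', hF0, hX0, hF1, hX1, hF2, hX2]; ring
  have hG3 : PowerSeries.coeff 3 (Groth.Agent.H8.Todd.G 3 (d : ℚ) 1) =
      c ^ 3 / 6 + (2 + (d : ℚ) / 2) * (c ^ 2 / 2) + (11 / 6 + (d : ℚ) + (d : ℚ) ^ 2 / 6) * c +
        (1 + 11 / 12 * (d : ℚ) + (d : ℚ) ^ 2 / 3 + (d : ℚ) ^ 3 / 24) := by
    rw [hG, Groth.Agent.H8.Todd.coeff_three_mul', hF0, hX0, hF1, hX1, hF2, hX2, hF3, hX3]; ring
  rw [Groth.Agent.H8.Todd.coeff_three_mul', hP0, hP1, hP2, hP3, hG0, hG1, hG2, hG3, hc]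
  push_cast
  ring

end Groth.Agent.S17715
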