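import Groth.Statements.S17717
import Mathlib
import Groth.Agent.Lib.Helper8.Todd
-- import your own Groth.Agent.* helpers here

set_option autoImplicit false
open MoretBailly

namespace Groth.Agent.S17717

/-- Write B(x) = x/(1 - e^(-x)) for the exponential generating series of the Bernoulli numbers (B'_1 =
1/2). For all natural numbers d, p and every integer s the coefficient of x in B(-dx)^(-1) B(-dpx)
B(x)^2 e^((dp-d-2+s)x), i.e. the case n = 1 of the Todd-class integrand, equals d(p-1)/2 + s - 1. -/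
theorem result (d p : ℕ) (s : ℤ) :
    PowerSeries.coeff 1 ((PowerSeries.rescale (-(d : ℚ)) (bernoulli'PowerSeries ℚ))⁻¹ * PowerSeries.rescale (-((d : ℚ) * p)) (bernoulli'PowerSeries ℚ) * bernoulli'PowerSeries ℚ ^ (2) * PowerSeries.rescale ((d : ℚ) * p - d - 2 + s) (PowerSeries.exp ℚ)) =
      (d : ℚ) * (p - 1) / 2 + s - 1 := by
  have h1 := Groth.Agent.H8.Todd.todd_eq 1 (d : ℚ) (p : ℚ) (s : ℚ)
  have e : (d : ℚ) * p - d - 2 + s = (d : ℚ) * p - d - ((1 : ℕ) : ℚ) - 1 + s := by push_cast; ring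
  simp only [Groth.Agent.H8.Todd.B] at h1
  rw [e, show (2 : ℕ) = 1 + 1 from rfl, h1, Groth.Agent.H8.Todd.coeff_one_mul',
    PowerSeries.coeff_zero_eq_constantCoeff_apply, PowerSeries.coeff_zero_eq_constantCoeff_apply,
    Groth.Agent.H8.Todd.constantCoeff_G, Groth.Agent.H8.Todd.coeff_one_G,
    ← PowerSeries.coeff_zero_eq_constantCoeff_apply, PowerSeries.coeff_rescale,
    PowerSeries.coeff_rescale]
  have hB0 : PowerSeries.coeff 0 (bernoulli'PowerSeries ℚ) = 1 := by
    rw [← Groth.Agent.H8.Todd.B, Groth.Agent.H8.Todd.coeff_B]; simp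
  have hB1 : PowerSeries.coeff 1 (bernoulli'PowerSeries ℚ) = 1 / 2 := by
    rw [← Groth.Agent.H8.Todd.B, Groth.Agent.H8.Todd.coeff_B]; simp
  rw [hB0, hB1]
  push_cast
  ring

end Groth.Agent.S17717
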