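import Groth.Statements.S17721
import Mathlib
import Groth.Agent.Lib.Helper8.DVRPowerSeries
-- import your own Groth.Agent.* helpers here

set_option autoImplicit false
universe u
open CAlg

namespace Groth.Agent.S17721

open Polynomial IsLocalRing in
/-- Let R be a complete discrete valuation ring with fraction field K, and f a polynomial over R with
non-zero constant term a₀ such that a₀ does not divide some coefficient of f of positive degree
(equivalently, the Newton polygon of f has a side of negative slope). Let b be the power series over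
K with b · f = a₀, the expansion of the geometric series in 1 − f/a₀. Then the valuations of the
coefficients b_j are not bounded below: for every non-zero c in R there is an index j with c · b_j
outside R. -/
theorem result
    (R : Type u) [CommRing R] [IsDomain R] [IsDiscreteValuationRing R]
    [IsAdicComplete (maximalIdeal R) R]
    (K : Type u) [Field K] [Algebra R K] [IsFractionRing R K]
    (f : R[X]) (h0 : f.coeff 0 ≠ 0) (hslope : ∃ i : ℕ, 0 < i ∧ ¬ (f.coeff 0 ∣ f.coeff i))
    (b : PowerSeries K)
    (hb : b * ((f.map (algebraMap R K) : K[X]) : PowerSeries K) = PowerSeries.C (algebraMap R K (f.coeff 0))) :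
    ∀ c : R, c ≠ 0 → ∃ j : ℕ, algebraMap R K c * PowerSeries.coeff j b ∉ (algebraMap R K).range := by
  intro c hc
  by_contra hcon
  push Not at hcon
  have hcoef : ∀ j, ∃ r : R, algebraMap R K r = algebraMap R K c * PowerSeries.coeff j b :=
    fun j => RingHom.mem_range.mp (hcon j)
  choose Bc hBc using hcoef
  set B : PowerSeries R := PowerSeries.mk Bc with hBdef
  set F : PowerSeries R := (f : PowerSeries R) with hFdef
  have hinj := IsFractionRing.injective R K
  have hBmap : PowerSeries.map (algebraMap R K) B = PowerSeries.C (algebraMap R K c) * b := by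
    ext j
    rw [PowerSeries.coeff_map, hBdef, PowerSeries.coeff_mk, hBc, PowerSeries.coeff_C_mul]
  have hBF : B * F = PowerSeries.C (c * f.coeff 0) := by
    apply PowerSeries.map_injective (algebraMap R K) hinj
    rw [map_mul, hBmap, hFdef, ← Polynomial.polynomial_map_coe, mul_assoc, hb, PowerSeries.map_C,
      ← map_mul, ← map_mul]
  obtain ⟨ϖ, hϖ⟩ := IsDiscreteValuationRing.exists_irreducible R
  have hF0 : PowerSeries.coeff 0 F = f.coeff 0 := by rw [hFdef, Polynomial.coeff_coe]
  have hFne : F ≠ 0 := by
    intro h
    rw [h] at hF0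
    exact h0 (by simpa using hF0.symm)
  have hBne : B ≠ 0 := by
    intro h
    rw [h, zero_mul] at hBF
    have := congrArg (PowerSeries.coeff 0) hBF
    simp only [map_zero, PowerSeries.coeff_zero_C] at this
    exact mul_ne_zero hc h0 this.symm
  obtain ⟨n, B', hB', jB, hjB⟩ := Groth.Agent.H8.exists_eq_C_pow_mul_primitive hϖ B hBne
  obtain ⟨m, F', hF', jF, hjF⟩ := Groth.Agent.H8.exists_eq_C_pow_mul_primitive hϖ F hFne
  have h1 : PowerSeries.C (ϖ ^ (n + m)) * (B' * F') = PowerSeries.C (c * f.coeff 0) := by
    rw [← hBF, hB', hF', pow_add, map_mul]; ring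
  set e' := PowerSeries.constantCoeff (B' * F') with he'
  have h2 : ϖ ^ (n + m) * e' = c * f.coeff 0 := by
    have := congrArg PowerSeries.constantCoeff h1
    rw [he', map_mul]
    simpa using this
  have h3 : B' * F' = PowerSeries.C e' := by
    have h4 : PowerSeries.C (ϖ ^ (n + m)) * (B' * F') =
        PowerSeries.C (ϖ ^ (n + m)) * PowerSeries.C e' := by
      rw [h1, ← map_mul, h2]
    have hne : PowerSeries.C (ϖ ^ (n + m)) ≠ (0 : PowerSeries R) := by
      intro h
      have := congrArg PowerSeries.constantCoeff h
      simp only [PowerSeries.constantCoeff_C, map_zero] at this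
      exact pow_ne_zero _ hϖ.ne_zero this
    exact mul_left_cancel₀ hne h4
  -- the constant coefficient of F' is not a unit
  have hF'0 : ¬ IsUnit (PowerSeries.constantCoeff F') := by
    intro hu
    obtain ⟨i, hi, hndvd⟩ := hslope
    apply hndvd
    obtain ⟨u, hu'⟩ := hu
    have ha0 : f.coeff 0 = ϖ ^ m * u := by
      rw [← hF0, hF', PowerSeries.coeff_C_mul, PowerSeries.coeff_zero_eq_constantCoeff_apply, hu']
    have hai : f.coeff i = ϖ ^ m * PowerSeries.coeff i F' := by
      have : PowerSeries.coeff i F = f.coeff i := by rw [hFdef, Polynomial.coeff_coe]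
      rw [← this, hF', PowerSeries.coeff_C_mul]
    refine ⟨(↑u⁻¹ : R) * PowerSeries.coeff i F', ?_⟩
    rw [hai, ha0]
    have : (u : R) * (↑u⁻¹ : R) = 1 := by simp
    calc ϖ ^ m * PowerSeries.coeff i F' = ϖ ^ m * ((u : R) * (↑u⁻¹ : R)) * PowerSeries.coeff i F' := by
          rw [this, mul_one]
      _ = ϖ ^ m * ↑u * (↑u⁻¹ * PowerSeries.coeff i F') := by ring
  -- reduce modulo the maximal ideal
  have hres : IsLocalRing.residue R e' = 0 := by
    rw [he', map_mul, map_mul]
    have : IsLocalRing.residue R (PowerSeries.constantCoeff F') = 0 := by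
      rw [IsLocalRing.residue_eq_zero_iff]
      exact hF'0
    rw [this, mul_zero]
  have h5 : PowerSeries.map (IsLocalRing.residue R) B' * PowerSeries.map (IsLocalRing.residue R) F' = 0 := by
    rw [← map_mul, h3, PowerSeries.map_C, hres, map_zero]
  rcases mul_eq_zero.mp h5 with h6 | h6
  · have := congrArg (PowerSeries.coeff jB) h6
    rw [PowerSeries.coeff_map, map_zero, IsLocalRing.residue_eq_zero_iff] at this
    exact this hjB
  · have := congrArg (PowerSeries.coeff jF) h6
    rw [PowerSeries.coeff_map, map_zero, IsLocalRing.residue_eq_zero_iff] at this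
    exact this hjF

end Groth.Agent.S17721
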