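import Groth.Statements.S17722
import Mathlib

set_option autoImplicit false
universe u
open CAlg

namespace Groth.Agent.S17722

/-- Let R → R' be a faithfully flat ring map between Noetherian integrally closed local domains, and p
an ideal of R. If the ideal pR' generated by the image of p is principal, then p is principal. (The
second assertion of the published lemma, descent of unique factorization, is not part of this row.) -/
theorem result
    (R R' : Type u) [CommRing R] [CommRing R'] [IsDomain R] [IsDomain R']
    [IsNoetherianRing R] [IsNoetherianRing R'] [IsLocalRing R] [IsLocalRing R']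
    [IsIntegrallyClosed R] [IsIntegrallyClosed R']
    [Algebra R R'] [Module.FaithfullyFlat R R']
    (p : Ideal R) (hp : (p.map (algebraMap R R')).IsPrincipal) :
    p.IsPrincipal := by
  classical
  obtain ⟨s, hs⟩ : p.FG := IsNoetherian.noetherian p
  obtain ⟨a, ha⟩ := hp.principal
  have ha' : p.map (algebraMap R R') = Ideal.span {a} := ha
  -- p.map = span of images
  have hmap : p.map (algebraMap R R') = Ideal.span ((algebraMap R R') '' (s : Set R)) := by
    rw [← hs, Ideal.map_span]
  by_cases ha0 : a = 0
  · -- p.map = ⊥ hence p = ⊥
    have h0 : p.map (algebraMap R R') = ⊥ := by rw [ha', ha0]; simp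
    have : p = ⊥ := by
      have h1 := Ideal.comap_map_eq_self_of_faithfullyFlat (B := R') p
      rw [h0] at h1
      rw [← h1]
      have hinj : Function.Injective (algebraMap R R') := FaithfulSMul.algebraMap_injective R R'
      rw [← RingHom.ker_eq_comap_bot, (RingHom.injective_iff_ker_eq_bot _).mp hinj]
    rw [this]
    exact ⟨⟨0, by simp⟩⟩
  · -- a is a combination of the images of the generators
    have hamem : a ∈ Ideal.span ((algebraMap R R') '' (s : Set R)) := by
      rw [← hmap, ha']; exact Ideal.mem_span_singleton_self a
    rw [← Finset.coe_image] at hamem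
    obtain ⟨c, hc⟩ := (Submodule.mem_span_finset).mp hamem
    -- each generator image is a multiple of a
    have hd : ∀ x ∈ s, ∃ d : R', algebraMap R R' x = d * a := by
      intro x hx
      have : algebraMap R R' x ∈ Ideal.span {a} := by
        rw [← ha']
        exact Ideal.mem_map_of_mem _ (hs ▸ Ideal.subset_span hx)
      obtain ⟨d, hd⟩ := Ideal.mem_span_singleton'.mp this
      exact ⟨d, hd.symm⟩
    choose! d hd using hd
    -- rewrite the sum over the image as a sum over s? use a direct argument instead
    -- there is x ∈ s with d x a unit
    have hex : ∃ x ∈ s, IsUnit (d x) := by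
      by_contra hcon
      push Not at hcon
      -- every element of span(image) is in (maximalIdeal R') • a
      have hall : ∀ y ∈ Ideal.span ((algebraMap R R') '' (s : Set R)),
          ∃ e ∈ IsLocalRing.maximalIdeal R', y = e * a := by
        intro y hy
        refine Submodule.span_induction ?_ ?_ ?_ ?_ hy
        · rintro _ ⟨x, hx, rfl⟩
          exact ⟨d x, (IsLocalRing.mem_maximalIdeal _).mpr (hcon x hx), hd x hx⟩
        · exact ⟨0, Ideal.zero_mem _, by simp⟩
        · rintro y z _ _ ⟨e1, he1, rfl⟩ ⟨e2, he2, rfl⟩
          exact ⟨e1 + e2, Ideal.add_mem _ he1 he2, by ring⟩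
        · rintro r y _ ⟨e, he, rfl⟩
          exact ⟨r * e, Ideal.mul_mem_left _ _ he, by rw [smul_eq_mul]; ring⟩
      have hamem' : a ∈ Ideal.span ((algebraMap R R') '' (s : Set R)) := by
        rw [← hmap, ha']; exact Ideal.mem_span_singleton_self a
      obtain ⟨e, he, hae⟩ := hall a hamem'
      have : (1 - e) * a = 0 := by rw [sub_mul, one_mul, ← hae, sub_self]
      rcases mul_eq_zero.mp this with h | h
      · have : e = 1 := by rw [sub_eq_zero] at h; exact h.symm
        rw [this] at he
        exact (Ideal.ne_top_iff_one _).mp (IsLocalRing.maximalIdeal.isMaximal R').ne_top he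
      · exact ha0 h
    obtain ⟨x, hxs, hxu⟩ := hex
    have hxp : x ∈ p := hs ▸ Ideal.subset_span hxs
    -- p.map = span {algebraMap x}
    have h2 : p.map (algebraMap R R') = (Ideal.span {x}).map (algebraMap R R') := by
      rw [ha', Ideal.map_span, Set.image_singleton, hd x hxs]
      exact (Ideal.span_singleton_mul_left_unit hxu a).symm
    have h3 : p = Ideal.span {x} := by
      rw [← Ideal.comap_map_eq_self_of_faithfullyFlat (B := R') p, h2,
        Ideal.comap_map_eq_self_of_faithfullyFlat]
    rw [h3]
    exact ⟨⟨x, rfl⟩⟩

end Groth.Agent.S17722
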