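import Groth.Statements.S17725
-- import your own Groth.Agent.* helpers here

set_option autoImplicit false
universe u
open SpecSp

namespace Groth.Agent.S17725

open AlgebraicGeometry in
/-- In a connected Noetherian scheme any two points p, q are linked by a finite chain of points p = x₁,
…, xₙ = q such that for each i one of x_i, x_{i+1} is a specialization of the other; equivalently, p
and q are related by the equivalence relation generated by the specialization relation. -/
theorem result
    (X : Scheme.{u}) [IsNoetherian X] [ConnectedSpace X] (p q : X) :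
    Relation.EqvGen (fun x y : X => x ⤳ y) p q := by
  classical
  set S : Set X := {y | Relation.EqvGen (fun x y : X => x ⤳ y) p y} with hS
  have hfin : (irreducibleComponents X).Finite :=
    TopologicalSpace.NoetherianSpace.finite_irreducibleComponents
  -- key: an irreducible component meeting S lies in S
  have key : ∀ Z ∈ irreducibleComponents X, (Z ∩ S).Nonempty → Z ⊆ S := by
    intro Z hZ ⟨w, hwZ, hwS⟩ z hz
    have hirr : IsIrreducible Z := hZ.1
    have hcl : IsClosed Z := isClosed_of_mem_irreducibleComponents Z hZ
    obtain ⟨η, hη⟩ := QuasiSober.sober hirr hcl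
    have h1 : η ⤳ w := hη.specializes hwZ
    have h2 : η ⤳ z := hη.specializes hz
    exact Relation.EqvGen.trans _ _ _ hwS
      (Relation.EqvGen.trans _ _ _ (Relation.EqvGen.symm _ _ (Relation.EqvGen.rel _ _ h1))
        (Relation.EqvGen.rel _ _ h2))
  have hclosed : IsClosed S := by
    have : S = ⋃ Z ∈ {Z | Z ∈ irreducibleComponents X ∧ (Z ∩ S).Nonempty}, Z := by
      ext y
      simp only [Set.mem_iUnion, Set.mem_setOf_eq, exists_prop]
      constructor
      · intro hy
        exact ⟨irreducibleComponent y, ⟨irreducibleComponent_mem_irreducibleComponents y,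
          ⟨y, mem_irreducibleComponent, hy⟩⟩, mem_irreducibleComponent⟩
      · rintro ⟨Z, ⟨hZ, hne⟩, hyZ⟩
        exact key Z hZ hne hyZ
    rw [this]
    refine Set.Finite.isClosed_biUnion (hfin.subset (fun Z hZ => hZ.1)) (fun Z hZ => ?_)
    exact isClosed_of_mem_irreducibleComponents Z hZ.1
  have hopen : IsClosed Sᶜ := by
    have : Sᶜ = ⋃ Z ∈ {Z | Z ∈ irreducibleComponents X ∧ ¬ (Z ∩ S).Nonempty}, Z := by
      ext y
      simp only [Set.mem_iUnion, Set.mem_setOf_eq, exists_prop, Set.mem_compl_iff]
      constructor
      · intro hy
        refine ⟨irreducibleComponent y, ⟨irreducibleComponent_mem_irreducibleComponents y, ?_⟩,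
          mem_irreducibleComponent⟩
        intro hne
        exact hy (key _ (irreducibleComponent_mem_irreducibleComponents y) hne
          mem_irreducibleComponent)
      · rintro ⟨Z, ⟨hZ, hne⟩, hyZ⟩ hyS
        exact hne ⟨y, hyZ, hyS⟩
    rw [this]
    refine Set.Finite.isClosed_biUnion (hfin.subset (fun Z hZ => hZ.1)) (fun Z hZ => ?_)
    exact isClosed_of_mem_irreducibleComponents Z hZ.1
  have hclopen : IsClopen S := ⟨hclosed, by simpa using hopen.isOpen_compl⟩
  have huniv : S = Set.univ := hclopen.eq_univ ⟨p, Relation.EqvGen.refl p⟩
  have : q ∈ S := by rw [huniv]; trivial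
  exact this

end Groth.Agent.S17725
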