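import Groth.Statements.S17726
import Mathlib.Tactic
import Mathlib.RingTheory.Ideal.Operations
-- import your own Groth.Agent.* helpers here

set_option autoImplicit false
universe u
open CAlg

namespace Groth.Agent.S17726

/-- Let f and g be non-zero-divisors of a commutative ring A, not both units; think of them as local
equations, at a point of the union of the supports, of two effective Cartier divisors E and D. If
the ideals generated by g^{m₁} and f^{n₁} coincide, and likewise for g^{m₂} and f^{n₂}, then m₁ n₂ =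
m₂ n₁. So all pairs (m, n) with m D = n E locally at the point are proportional, and the saturation
of the monoid they form is generated by a single element. -/
theorem result
    (A : Type u) [CommRing A] (f g : A)
    (hf : f ∈ nonZeroDivisors A) (hg : g ∈ nonZeroDivisors A) (hfg : ¬ (IsUnit f ∧ IsUnit g))
    (m₁ n₁ m₂ n₂ : ℕ)
    (h₁ : Ideal.span {g ^ m₁} = Ideal.span {f ^ n₁})
    (h₂ : Ideal.span {g ^ m₂} = Ideal.span {f ^ n₂}) :
    m₁ * n₂ = m₂ * n₁ := by
  -- key lemma: a non-zero-divisor with two equal principal powers of different exponents is a unit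
  have key : ∀ x : A, x ∈ nonZeroDivisors A → ∀ a b : ℕ, a < b →
      Ideal.span {x ^ a} = Ideal.span {x ^ b} → IsUnit x := by
    intro x hx a b hab h
    have hmem : x ^ a ∈ Ideal.span {x ^ b} := by
      rw [← h]; exact Ideal.mem_span_singleton_self _
    obtain ⟨c, hc⟩ := Ideal.mem_span_singleton'.1 hmem
    obtain ⟨d, rfl⟩ : ∃ d, b = a + (d + 1) := ⟨b - a - 1, by omega⟩
    have hxa : x ^ a ∈ nonZeroDivisors A := pow_mem hx a
    have h0 : (c * x ^ (d + 1) - 1) * x ^ a = 0 := by
      rw [sub_mul, one_mul, mul_assoc, ← pow_add, add_comm (d + 1) a, hc, sub_self]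
    have h1 : c * x ^ (d + 1) - 1 = 0 := (mul_right_mem_nonZeroDivisors_eq_zero_iff hxa).1 h0
    have h2 : x * (c * x ^ d) = 1 := by
      have : c * x ^ (d + 1) = 1 := sub_eq_zero.1 h1
      rw [← this, pow_succ]; ring
    exact IsUnit.of_mul_eq_one _ h2
  have hpow : ∀ (x : A) (k : ℕ), Ideal.span {x ^ k} = Ideal.span {x} ^ k := fun x k =>
    (Ideal.span_singleton_pow x k).symm
  have e1 : Ideal.span {g ^ (m₁ * n₂)} = Ideal.span {g ^ (m₂ * n₁)} := by
    rw [hpow g (m₁ * n₂), hpow g (m₂ * n₁), pow_mul, pow_mul, ← hpow g m₁, ← hpow g m₂, h₁, h₂,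
      hpow f n₁, hpow f n₂, ← pow_mul, ← pow_mul, mul_comm]
  have e2 : Ideal.span {f ^ (n₁ * m₂)} = Ideal.span {f ^ (n₂ * m₁)} := by
    rw [hpow f (n₁ * m₂), hpow f (n₂ * m₁), pow_mul, pow_mul, ← hpow f n₁, ← hpow f n₂, ← h₁, ← h₂,
      hpow g m₁, hpow g m₂, ← pow_mul, ← pow_mul, mul_comm]
  by_contra hne
  apply hfg
  rcases lt_or_gt_of_ne hne with h | h
  · refine ⟨key f hf (n₂ * m₁) (n₁ * m₂) (by nlinarith) e2.symm, key g hg _ _ h e1⟩
  · refine ⟨key f hf (n₁ * m₂) (n₂ * m₁) (by nlinarith) e2, key g hg _ _ h e1.symm⟩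

end Groth.Agent.S17726
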