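import Groth.Statements.S17739
import Mathlib

set_option autoImplicit false
open QsChow

namespace Groth.Agent.S17739

/-- For an integer n ≥ 2 put s := n / 2 + 1 (integer part) and, for 2 ≤ j ≤ s, let k_j be the integer
part of the base-2 logarithm of (2n - 1)/(2j - 3); let P := F_2[ε_1, …, ε_s]/(ε_1^n, ε_2^(2^k_2), …,
ε_s^(2^k_s)) over the field F_2 with two elements, and let τ be the F_2-algebra involution of P with
τ(ε_1) = ε_1 and τ(ε_j) = ε_j + ε_1^(2j-3) for 2 ≤ j ≤ s (it exists since (2j-3)·2^k_j ≥ n, and is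
unique). Then the image of the map y ↦ y + τ(y) on P equals the set of products ε_1 · z with z
running over the τ-fixed subalgebra of P. (The printed statement is the same assertion after passing
to the quotients by ε_1^m for 1 ≤ m ≤ n, which follows at once; n ≥ 2 is assumed so that ε_2
exists.) -/
theorem result (n : ℕ) (hn : 2 ≤ n)
    (τ : QsChow.P n →ₐ[ZMod 2] QsChow.P n) (hτ1 : τ (QsChow.eps n 1) = QsChow.eps n 1)
    (hτ : ∀ j : ℕ, 2 ≤ j → j ≤ QsChow.numVars n →
      τ (QsChow.eps n j) = QsChow.eps n j + QsChow.eps n 1 ^ (2 * j - 3)) :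
    Set.range (fun y : QsChow.P n => y + τ y) =
      (fun z : QsChow.P n => QsChow.eps n 1 * z) '' (AlgHom.equalizer τ (AlgHom.id (ZMod 2) (QsChow.P n)) : Set (QsChow.P n)) := by
  classical
  have h2 : ∀ x : QsChow.P n, x + x = 0 := by
    intro x
    have h : (2 : ZMod 2) = 0 := by decide
    calc x + x = (2 : ZMod 2) • x := (two_smul _ x).symm
      _ = 0 := by rw [h, zero_smul]
  have hs2 : 2 ≤ QsChow.numVars n := by unfold QsChow.numVars; omega
  have hτ2 : τ (QsChow.eps n 2) = QsChow.eps n 2 + QsChow.eps n 1 := by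
    have := hτ 2 le_rfl hs2
    simpa using this
  have hmk : ∀ i : Fin (QsChow.numVars n),
      Ideal.Quotient.mk (QsChow.truncIdeal n) (MvPolynomial.X i) = QsChow.eps n (i.val + 1) := by
    intro i
    unfold QsChow.eps
    rw [dif_pos ⟨Nat.succ_pos _, i.isLt⟩]
    rfl
  have hN : τ (QsChow.eps n 2 ^ 2 + QsChow.eps n 1 * QsChow.eps n 2) =
      QsChow.eps n 2 ^ 2 + QsChow.eps n 1 * QsChow.eps n 2 := by
    rw [map_add, map_pow, map_mul, hτ2, hτ1]
    have : (QsChow.eps n 2 + QsChow.eps n 1) ^ 2 + QsChow.eps n 1 * (QsChow.eps n 2 + QsChow.eps n 1) =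
        QsChow.eps n 2 ^ 2 + QsChow.eps n 1 * QsChow.eps n 2 +
          ((QsChow.eps n 1 * QsChow.eps n 2 + QsChow.eps n 1 * QsChow.eps n 2) +
            (QsChow.eps n 1 ^ 2 + QsChow.eps n 1 ^ 2)) := by ring
    rw [this, h2, h2, add_zero, add_zero]
  have hX : ∀ i : Fin (QsChow.numVars n), ∃ a' b' : QsChow.P n, τ a' = a' ∧ τ b' = b' ∧
      Ideal.Quotient.mk (QsChow.truncIdeal n) (MvPolynomial.X i) = a' + QsChow.eps n 2 * b' := by
    intro i
    rw [hmk i]
    rcases Nat.lt_or_ge i.val 2 with hlt | hge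
    · interval_cases hi : i.val
      · exact ⟨QsChow.eps n 1, 0, hτ1, map_zero _, by simp⟩
      · exact ⟨0, 1, map_zero _, map_one _, by simp⟩
    · have hj2 : 2 ≤ i.val + 1 := by omega
      have hjs : i.val + 1 ≤ QsChow.numVars n := i.isLt
      have hτj := hτ (i.val + 1) hj2 hjs
      have hexp : 2 * (i.val + 1) - 3 = (2 * (i.val + 1) - 4) + 1 := by omega
      refine ⟨QsChow.eps n (i.val + 1) + QsChow.eps n 1 ^ (2 * (i.val + 1) - 4) * QsChow.eps n 2,
        QsChow.eps n 1 ^ (2 * (i.val + 1) - 4), ?_, ?_, ?_⟩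
      · rw [map_add, map_mul, map_pow, hτj, hτ1, hτ2, hexp, pow_succ]
        have : QsChow.eps n (i.val + 1) + QsChow.eps n 1 ^ (2 * (i.val + 1) - 4) * QsChow.eps n 1 +
            QsChow.eps n 1 ^ (2 * (i.val + 1) - 4) * (QsChow.eps n 2 + QsChow.eps n 1) =
            QsChow.eps n (i.val + 1) + QsChow.eps n 1 ^ (2 * (i.val + 1) - 4) * QsChow.eps n 2 +
              (QsChow.eps n 1 ^ (2 * (i.val + 1) - 4) * QsChow.eps n 1 +
                QsChow.eps n 1 ^ (2 * (i.val + 1) - 4) * QsChow.eps n 1) := by ring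
        rw [this, h2, add_zero]
      · rw [map_pow, hτ1]
      · have : QsChow.eps n (i.val + 1) + QsChow.eps n 1 ^ (2 * (i.val + 1) - 4) * QsChow.eps n 2 +
            QsChow.eps n 2 * QsChow.eps n 1 ^ (2 * (i.val + 1) - 4) =
            QsChow.eps n (i.val + 1) + (QsChow.eps n 1 ^ (2 * (i.val + 1) - 4) * QsChow.eps n 2 +
              QsChow.eps n 1 ^ (2 * (i.val + 1) - 4) * QsChow.eps n 2) := by ring
        rw [this, h2, add_zero]
  have key : ∀ y : QsChow.P n, ∃ a b : QsChow.P n, τ a = a ∧ τ b = b ∧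
      y = a + QsChow.eps n 2 * b := by
    intro y
    obtain ⟨p, rfl⟩ := Ideal.Quotient.mk_surjective y
    induction p using MvPolynomial.induction_on with
    | C c =>
      refine ⟨Ideal.Quotient.mk _ (MvPolynomial.C c), 0, ?_, map_zero _, by simp⟩
      exact τ.commutes c
    | add p q hp hq =>
      obtain ⟨a, b, ha, hb, e⟩ := hp
      obtain ⟨a', b', ha', hb', e'⟩ := hq
      refine ⟨a + a', b + b', by rw [map_add, ha, ha'], by rw [map_add, hb, hb'], ?_⟩
      rw [map_add, e, e']; ring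
    | mul_X p i hp =>
      obtain ⟨a, b, ha, hb, e⟩ := hp
      obtain ⟨a', b', ha', hb', e'⟩ := hX i
      refine ⟨a * a' + (QsChow.eps n 2 ^ 2 + QsChow.eps n 1 * QsChow.eps n 2) * b * b',
        a * b' + a' * b + QsChow.eps n 1 * b * b', ?_, ?_, ?_⟩
      · rw [map_add, map_mul, map_mul, map_mul, hN, ha, ha', hb, hb']
      · rw [map_add, map_add, map_mul, map_mul, map_mul, map_mul, hτ1, ha, ha', hb, hb']
      · rw [map_mul, e, e']
        have : a * a' + (QsChow.eps n 2 ^ 2 + QsChow.eps n 1 * QsChow.eps n 2) * b * b' +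
            QsChow.eps n 2 * (a * b' + a' * b + QsChow.eps n 1 * b * b') =
            (a + QsChow.eps n 2 * b) * (a' + QsChow.eps n 2 * b') +
              (QsChow.eps n 1 * QsChow.eps n 2 * b * b' + QsChow.eps n 1 * QsChow.eps n 2 * b * b') := by
          ring
        rw [this, h2, add_zero]
  apply Set.eq_of_subset_of_subset
  · rintro _ ⟨y, rfl⟩
    obtain ⟨a, b, ha, hb, e⟩ := key y
    refine ⟨b, ?_, ?_⟩
    · exact hb
    · show QsChow.eps n 1 * b = y + τ y
      rw [e, map_add, map_mul, ha, hb, hτ2]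
      have : a + QsChow.eps n 2 * b + (a + (QsChow.eps n 2 + QsChow.eps n 1) * b) =
          QsChow.eps n 1 * b + ((a + a) + (QsChow.eps n 2 * b + QsChow.eps n 2 * b)) := by ring
      rw [this, h2, h2, add_zero, add_zero]
  · rintro _ ⟨z, hz, rfl⟩
    have hz' : τ z = z := hz
    refine ⟨QsChow.eps n 2 * z, ?_⟩
    show QsChow.eps n 2 * z + τ (QsChow.eps n 2 * z) = QsChow.eps n 1 * z
    rw [map_mul, hz', hτ2]
    have : QsChow.eps n 2 * z + (QsChow.eps n 2 + QsChow.eps n 1) * z =
        QsChow.eps n 1 * z + (QsChow.eps n 2 * z + QsChow.eps n 2 * z) := by ring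
    rw [this, h2, add_zero]

end Groth.Agent.S17739
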