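import Groth.Statements.S17740
import Groth.Agent.Lib.Helper9.Misc.QsChowA

set_option autoImplicit false
open QsChow

namespace Groth.Agent.S17740

/-- For an integer n ≥ 2 put s := n / 2 + 1 (integer part) and, for 2 ≤ j ≤ s, let k_j be the integer
part of the base-2 logarithm of (2n - 1)/(2j - 3); let P := F_2[ε_1, …, ε_s]/(ε_1^n, ε_2^(2^k_2), …,
ε_s^(2^k_s)) over the field F_2 with two elements, and let τ be the F_2-algebra involution of P with
τ(ε_1) = ε_1 and τ(ε_j) = ε_j + ε_1^(2j-3) for 2 ≤ j ≤ s (it exists since (2j-3)·2^k_j ≥ n, and is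
unique). Let 1 ≤ m ≤ n. If for some y in P the element y + τ(y) lies in the ideal ε_1^m P, then y +
τ(y) = ε_1^m z for some τ-fixed z in P. Equivalently: the map from the τ-fixed subalgebra modulo
ε_1^m to P modulo ε_1^m induced by the inclusion is injective on the image of id + τ. -/
theorem result (n : ℕ) (hn : 2 ≤ n)
    (τ : QsChow.P n →ₐ[ZMod 2] QsChow.P n) (hτ1 : τ (QsChow.eps n 1) = QsChow.eps n 1)
    (hτ : ∀ j : ℕ, 2 ≤ j → j ≤ QsChow.numVars n →
      τ (QsChow.eps n j) = QsChow.eps n j + QsChow.eps n 1 ^ (2 * j - 3))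
    (m : ℕ) (hm1 : 1 ≤ m) (hmn : m ≤ n) (y : QsChow.P n)
    (hy : y + τ y ∈ Ideal.span ({QsChow.eps n 1 ^ m} : Set (QsChow.P n))) :
    ∃ z : QsChow.P n, τ z = z ∧ y + τ y = QsChow.eps n 1 ^ m * z := by
  obtain ⟨b, hb, e⟩ := Groth.Agent.H9.QsC.add_tau hn τ hτ1 hτ y
  rw [e] at hy ⊢
  obtain ⟨w, hw⟩ := Ideal.mem_span_singleton'.1 hy
  have hm : m - 1 + 1 = m := by omega
  have h0 : QsChow.eps n 1 * (b + QsChow.eps n 1 ^ (m - 1) * w) = 0 := by
    rw [mul_add, ← mul_assoc, ← pow_succ', hm, ← hw, mul_comm w, Groth.Agent.H9.QsC.add_self]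
  obtain ⟨v, hv⟩ := Groth.Agent.H9.QsC.exists_of_eps1_mul_eq_zero n (by omega) _ h0
  have hnm : m - 1 + (n - m) = n - 1 := by omega
  have hb' : b = QsChow.eps n 1 ^ (m - 1) * (w + QsChow.eps n 1 ^ (n - m) * v) := by
    have h1 : b = (b + QsChow.eps n 1 ^ (m - 1) * w) + QsChow.eps n 1 ^ (m - 1) * w := by
      rw [add_assoc, Groth.Agent.H9.QsC.add_self, add_zero]
    rw [mul_add, ← mul_assoc, ← pow_add, hnm, ← hv, add_comm]
    exact h1
  obtain ⟨a', b', ha', hb'', e'⟩ := Groth.Agent.H9.QsC.key hn τ hτ1 hτ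
    (w + QsChow.eps n 1 ^ (n - m) * v)
  rw [e'] at hb'
  have hz : QsChow.eps n 1 ^ m * b' = 0 := by
    have h1 : τ b = b + QsChow.eps n 1 ^ m * b' := by
      rw [hb', map_mul, map_pow, hτ1, map_add, map_mul, ha', hb'',
        Groth.Agent.H9.QsC.tau_eps2 hn τ hτ]
      have : QsChow.eps n 1 ^ m = QsChow.eps n 1 ^ (m - 1) * QsChow.eps n 1 := by
        rw [← pow_succ, hm]
      rw [this]
      ring
    rw [hb] at h1
    exact left_eq_add.1 h1
  refine ⟨a', ha', ?_⟩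
  have h2 : QsChow.eps n 1 * (QsChow.eps n 1 ^ (m - 1) * (a' + QsChow.eps n 2 * b')) =
      QsChow.eps n 1 ^ m * a' + QsChow.eps n 2 * (QsChow.eps n 1 ^ m * b') := by
    have : QsChow.eps n 1 ^ m = QsChow.eps n 1 ^ (m - 1) * QsChow.eps n 1 := by
      rw [← pow_succ, hm]
    rw [this]
    ring
  rw [hb', h2, hz, mul_zero, add_zero]

end Groth.Agent.S17740
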