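import Groth.Statements.S17753
import Groth.Agent.Lib.Lead.Ara

set_option autoImplicit false
universe u
open LocCoh

namespace Groth.Agent.S17753

/-- Let R be a Noetherian local ring of Krull dimension d and I a proper ideal of R. Then there are d
elements f_1, …, f_d of I such that I and the ideal they generate have the same radical, so the
arithmetic rank of I is at most d. (The published statement has no properness hypothesis; for the
unit ideal of a field, d = 0 and no empty family generates the unit ideal up to radical, and the
published proof uses that the maximal ideal contains I.) -/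
theorem result (R : Type u) [CommRing R] [IsNoetherianRing R] [IsLocalRing R] (d : ℕ) (hd : ringKrullDim R = d) (I : Ideal R) (hI : I ≠ ⊤) : ∃ f : Fin d → R, (∀ i, f i ∈ I) ∧ I.radical = (Ideal.span (Set.range f)).radical := by
  obtain ⟨f, hfI, hf⟩ := Groth.Agent.LD.Ara.exists_seq_iff R I d
  have hspan : Ideal.span (Set.range f) ≤ I := by
    rw [Ideal.span_le]; rintro _ ⟨i, rfl⟩; exact hfI i
  refine ⟨f, hfI, Groth.Agent.LD.Ara.radical_eq_of_forall R _ _ (fun p _ => ?_)⟩
  by_cases hpm : p = IsLocalRing.maximalIdeal R
  · subst hpm
    have hIm : I ≤ IsLocalRing.maximalIdeal R := IsLocalRing.le_maximalIdeal hI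
    exact ⟨fun _ => hspan.trans hIm, fun _ => hIm⟩
  · apply hf p
    have hlt : p < IsLocalRing.maximalIdeal R :=
      lt_of_le_of_ne (IsLocalRing.le_maximalIdeal (Ideal.IsPrime.ne_top inferInstance)) hpm
    have h1 := Ideal.height_strict_mono_of_isPrime_of_isPrime hlt
    have h2 : ((IsLocalRing.maximalIdeal R).height : WithBot ℕ∞) = ringKrullDim R :=
      IsLocalRing.maximalIdeal_height_eq_ringKrullDim
    rw [hd] at h2
    have h3 : (IsLocalRing.maximalIdeal R).height = (d : ℕ∞) := by exact_mod_cast h2
    rw [h3] at h1
    exact h1

end Groth.Agent.S17753
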