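import Groth.Statements.S17757
import Groth.Agent.Lib.Helper6.Watts
import Groth.Agent.Lib.Helper6.LCAdj
import Groth.Agent.Lib.Helper6.LDSigma
import Groth.Agent.S11625

set_option autoImplicit false
universe u
open LocCoh

namespace Groth.Agent.S17757

/-- Let R be a Noetherian local ring of Krull dimension d, I an ideal of R and M an arbitrary R-module.
Then the top local cohomology H^d_I(M) is isomorphic, as an R-module, to H^d_I(R) ⊗_R M (existence
of an R-linear isomorphism; the functor H^d_I is right exact). -/
theorem result (R : Type u) [CommRing R] [IsNoetherianRing R] [IsLocalRing R] (d : ℕ) (hd : ringKrullDim R = d) (I : Ideal R) (M : Type u) [AddCommGroup M] [Module R M] : Nonempty (LocCoh.H I d M ≃ₗ[R] TensorProduct R (LocCoh.H I d R) M) := by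
  have hvan : ∀ N : ModuleCat.{u} R, CategoryTheory.Limits.IsZero (((Groth.Agent.H8.LC.lcDelta I).F (d + 1)).obj N) := by
    intro N
    have h1 : Module.supportDim R N < ((d + 1 : ℕ) : WithBot ℕ∞) := by
      refine lt_of_le_of_lt (Module.supportDim_le_ringKrullDim (R := R) (M := N)) ?_
      rw [hd]
      exact_mod_cast Nat.lt_succ_self d
    have : Subsingleton (((Groth.Agent.H8.LC.lcDelta I).F (d + 1)).obj N) :=
      Groth.Agent.S11625.result R I N (d + 1) h1
    exact ModuleCat.isZero_of_subsingleton _
  have : ((Groth.Agent.H8.LC.lcDelta I).F d).Additive := Groth.Agent.H6.EW.lcAdditive I d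
  have : CategoryTheory.Limits.PreservesFiniteColimits (localCohomology I d) :=
    Groth.Agent.H6.LCAdj.preservesFiniteColimits_top (Groth.Agent.H8.LC.lcDelta I) d hvan
  have hDC := Groth.Agent.H6.DirCont.dc_localCohomology I d
  exact Groth.Agent.H6.Watts.nonempty_equiv (localCohomology I d)
    (fun r M x => Groth.Agent.H6.LC.map_smul_id r x) hDC (ModuleCat.of R M)

end Groth.Agent.S17757
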