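import Groth.Statements.S17764


set_option autoImplicit false
universe u
open InjHull

namespace Groth.Agent.S17764

/-- Let R be a commutative ring and M an R-module which is torsion-free (no nonzero element of R kills a
nonzero element of M) and divisible (multiplication by every nonzero element of R is surjective on
M). Then M is an injective R-module. (Over a ring with zero divisors the two hypotheses force M =
0.) -/
theorem result (R : Type u) [CommRing R] (M : Type u) [AddCommGroup M] [Module R M] [NoZeroSMulDivisors R M] (hdiv : ∀ r : R, r ≠ 0 → Function.Surjective (fun m : M => r • m)) : Module.Injective R M := by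
  refine Module.Baer.injective ?_
  intro J g
  by_cases hJ : ∀ a : J, (a : R) = 0
  · refine ⟨0, fun x hx => ?_⟩
    have hx0 : (⟨x, hx⟩ : J) = 0 := Subtype.ext (hJ ⟨x, hx⟩)
    rw [hx0, map_zero, LinearMap.zero_apply]
  · push_neg at hJ
    obtain ⟨a, ha⟩ := hJ
    obtain ⟨m0, hm0⟩ := hdiv (a : R) ha (g a)
    refine ⟨LinearMap.toSpanSingleton R M m0, fun x hx => ?_⟩
    rw [LinearMap.toSpanSingleton_apply]
    have h1 : (a : R) • (x • m0 - g ⟨x, hx⟩) = 0 := by
      have e1 : (a : R) • g ⟨x, hx⟩ = g ((a : R) • ⟨x, hx⟩) := (map_smul g _ _).symm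
      have e2 : x • g a = g (x • a) := (map_smul g _ _).symm
      have e3 : (a : R) • (⟨x, hx⟩ : J) = x • a := by
        apply Subtype.ext
        change (a : R) * x = x * (a : R)
        exact mul_comm _ _
      rw [smul_sub, e1, e3, ← e2, ← hm0]
      change (a : R) • x • m0 - x • (a : R) • m0 = 0
      rw [smul_comm, sub_self]
    rcases NoZeroSMulDivisors.eq_zero_or_eq_zero_of_smul_eq_zero h1 with h | h
    · exact absurd h ha
    · exact sub_eq_zero.mp h

end Groth.Agent.S17764
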