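import Groth.Statements.S17780
import Mathlib
import Groth.Agent.S17779
import Groth.Agent.Lib.Helper8.FwdDiff
-- import your own Groth.Agent.* helpers here

set_option autoImplicit false
universe u
open DRR

namespace Groth.Agent.S17780

/-- For x, y in a commutative ring and a natural number n, (n+1)! · x · y^n equals the sum over j = 0,
…, n of (−1)^(n−j) C(n, j) (x + j y)^(n+1), minus (n · (n+1)!/2) · y^(n+1). (The published identity
is stated in ℚ[x, y] with an overall factor 1/(n+1) and the coefficients C(n, j)(−1)^(n−j)/n!; it is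
given here multiplied through by (n+1)!, which makes it an identity with integer coefficients valid
in every commutative ring; n · (n+1)!/2 is an integer.) -/
theorem result (A : Type u) [CommRing A] (x y : A) (n : ℕ) :
    ((n + 1).factorial : A) * x * y ^ n =
      (∑ j ∈ Finset.range (n + 1), (-1 : A) ^ (n - j) * (n.choose j : A) * (x + (j : A) * y) ^ (n + 1))
        - ((n * (n + 1).factorial / 2 : ℕ) : A) * y ^ (n + 1) := by
  -- the integer sums
  set S : ℕ → ℤ := fun k' => ∑ j ∈ Finset.range (n + 1), (-1 : ℤ) ^ (n - j) * (n.choose j : ℤ) * (j : ℤ) ^ k' with hS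
  have hScast : ∀ k', ((S k' : ℤ) : A) = ∑ j ∈ Finset.range (n + 1), (-1 : A) ^ (n - j) * (n.choose j : A) * (j : A) ^ k' := by
    intro k'
    simp only [hS]
    push_cast
    rfl
  have hS1 : S (n + 1) = (((n + 1).choose 2 * n.factorial : ℕ) : ℤ) := by
    have := Groth.Agent.S17779.result n (n + 1) le_rfl
    simpa using this
  have hS2 : S n = (n.factorial : ℤ) := by
    have := Groth.Agent.S17779.result n n (Nat.le_succ n)
    simpa using this
  have hS3 : ∀ k', k' < n → S k' = 0 := by
    intro k' hk'
    have := Groth.Agent.S17779.result n k' (by omega)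
    rw [if_neg (by omega), if_neg (by omega)] at this
    exact this
  have hexpand : (∑ j ∈ Finset.range (n + 1), (-1 : A) ^ (n - j) * (n.choose j : A) * (x + (j : A) * y) ^ (n + 1))
      = ∑ m ∈ Finset.range (n + 1 + 1), x ^ m * y ^ (n + 1 - m) * ((n + 1).choose m : A) * ((S (n + 1 - m) : ℤ) : A) := by
    simp_rw [add_pow, Finset.mul_sum]
    rw [Finset.sum_comm]
    refine Finset.sum_congr rfl fun m _ => ?_
    rw [hScast, Finset.mul_sum]
    refine Finset.sum_congr rfl fun j _ => ?_
    rw [mul_pow]; ring
  rw [hexpand, Finset.sum_range_succ', Finset.sum_range_succ']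
  have hrest : ∑ m ∈ Finset.range n, x ^ (m + 1 + 1) * y ^ (n + 1 - (m + 1 + 1)) * ((n + 1).choose (m + 1 + 1) : A) * ((S (n + 1 - (m + 1 + 1)) : ℤ) : A) = 0 := by
    refine Finset.sum_eq_zero fun m hm => ?_
    rw [Finset.mem_range] at hm
    rw [hS3 _ (by omega)]
    simp
  rw [hrest]
  have e1 : n + 1 - (0 + 1) = n := by omega
  have e0 : n + 1 - 0 = n + 1 := by omega
  rw [e1, e0, hS1, hS2]
  have h2 := Groth.Agent.H8.two_mul_choose_two n
  have hnat : n * (n + 1).factorial / 2 = (n + 1).choose 2 * n.factorial := by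
    have : n * (n + 1).factorial = 2 * ((n + 1).choose 2 * n.factorial) := by
      rw [Nat.factorial_succ, ← mul_assoc, ← mul_assoc, h2]
    rw [this, Nat.mul_div_cancel_left _ (by norm_num : 0 < 2)]
  rw [hnat]
  simp only [zero_add, pow_one, pow_zero, Nat.choose_one_right, Nat.choose_zero_right, Int.cast_natCast]
  push_cast [Nat.factorial_succ]
  ring

end Groth.Agent.S17780
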