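import Groth.Statements.S17840
import Mathlib
import Groth.Agent.Lib.Helper1.DimLocD
import Groth.Agent.Lib.Helper1.RelDim
import Groth.Agent.Lib.Helper1.FlatRelDim

set_option autoImplicit false
universe u
open CategoryTheory AlgebraicGeometry
open Cyc

namespace Groth.Agent.S17840

/-- Let (Y, δY) be a locally Noetherian scheme with universally catenary local rings and a dimension
function, f : X ⟶ Y a flat morphism locally of finite type between irreducible schemes with generic
points ξ and η, and δX the induced function on X, δX(x) = δY(f x) + trdeg_{κ(f x)} κ(x). Put d =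
δX(ξ) − δY(η). Then d ≥ 0, every irreducible component of every fibre of f has dimension d, and for
every point x of X the fibre of f over f(x) has dimension d. (The published statement is for schemes
separated of finite type over a Noetherian excellent regular separated base S with δ the S-dimension
— transcendence degree of the residue field minus the dimension of the local ring of S at the image
point — and for the fibre over every point of Y; the fibre over a point outside f(X) is empty, so
the dimension statement is made here at points of the image; this row allows any dimension function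
δY on a locally Noetherian Y with universally catenary local rings, with δX induced from it.) -/
theorem result {X Y : Scheme.{u}} (f : X ⟶ Y) [Flat f] [LocallyOfFiniteType f]
    [IrreducibleSpace X] [IrreducibleSpace Y] (δX : X → ℤ) (δY : Y → ℤ) (hY : Cyc.IsSetup Y δY)
    (hδ : Cyc.DeltaCompat f δX δY) :
    0 ≤ δX (genericPoint X) - δY (genericPoint Y) ∧
      Cyc.HasRelDim f (δX (genericPoint X) - δY (genericPoint Y)).toNat ∧
      ∀ x : X, topologicalKrullDim ↥(f.fiber (f x)) =
        ((δX (genericPoint X) - δY (genericPoint Y)).toNat : WithBot ℕ∞) := by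
  haveI := hY.1
  -- `f` maps the generic point to the generic point
  have hgen : f (genericPoint X) = genericPoint Y := by
    obtain ⟨ξ', hξ', hfξ'⟩ := (Flat.generalizingMap f) (genericPoint_specializes (f (genericPoint X)))
    have : ξ' = genericPoint X := (hξ'.antisymm (genericPoint_specializes ξ')).eq
    rw [← this]; exact hfξ'
  haveI : IsDominant f := by
    refine ⟨?_⟩
    intro y
    have h1 : y ∈ closure ({genericPoint Y} : Set Y) :=
      specializes_iff_mem_closure.1 (genericPoint_specializes y)
    refine closure_mono ?_ h1
    rintro _ rfl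
    exact ⟨genericPoint X, hgen⟩
  obtain ⟨nξ, hnξ, hδξ⟩ := hδ (genericPoint X)
  have hd : δX (genericPoint X) - δY (genericPoint Y) = nξ := by
    rw [hδξ, hgen]; ring
  rw [hd]
  simp only [Int.toNat_natCast]
  -- every local fibre dimension is `nξ`
  have key : ∀ x : X, FlatMor.fibreDimAt f x = (nξ : WithBot ℕ∞) := by
    intro x
    haveI : IsLocallyNoetherian X := LocallyOfFiniteType.isLocallyNoetherian f
    have hfin : ringKrullDim (X.presheaf.stalk x) ≠ ⊤ := ringKrullDim_ne_top
    have h1 := Groth.Agent.H1.DimLoc.stalk_dim_add_resTrdeg_eq_of_irreducible f x (hY.2.1 (f x)) hfin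
    obtain ⟨t, ht, hdim⟩ := Groth.Agent.H1.DimFormula.exists_fibreDimAt_eq_stalk_add_trdeg f x
    rw [Groth.Agent.H1.DimIneq.toENat_resTrdeg_of_eq_natCast f x t ht,
      Groth.Agent.H1.DimIneq.toENat_resTrdeg_of_eq_natCast f (genericPoint X) nξ hnξ] at h1
    have h2 := Groth.Agent.H1.FlatRelDim.stalk_dim_eq_add_fiber_of_flat f x (Flat.stalkMap f x)
    rw [h2, add_assoc] at h1
    have h1' : ringKrullDim (Y.presheaf.stalk (f x)) +
        (ringKrullDim ((f.fiber (f x)).presheaf.stalk (f.asFiber x)) + (t : WithBot ℕ∞)) =
        ringKrullDim (Y.presheaf.stalk (f x)) + (nξ : WithBot ℕ∞) := by exact_mod_cast h1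
    have hfinY : ringKrullDim (Y.presheaf.stalk (f x)) ≠ ⊤ := ringKrullDim_ne_top
    have hbotY : ringKrullDim (Y.presheaf.stalk (f x)) ≠ ⊥ := ringKrullDim_ne_bot
    rw [hdim]
    exact le_antisymm
      (Groth.Agent.H1.DimIneq.withBot_enat_add_le_add_left_cancel hbotY hfinY h1'.le)
      (Groth.Agent.H1.DimIneq.withBot_enat_add_le_add_left_cancel hbotY hfinY h1'.ge)
  refine ⟨Int.natCast_nonneg nξ, (Groth.Agent.H1.RelDim.hasRelDim_iff f nξ).2 key, fun x => ?_⟩
  apply le_antisymm
  · rw [Groth.Agent.H1.Chev.fiber_dim_le_iff]
    intro x' _
    exact (key x').le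
  · rw [← key x]
    exact Groth.Agent.H3.TopDim.localDim_le_dim _

end Groth.Agent.S17840
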