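import Groth.Statements.S17843
import Mathlib

set_option autoImplicit false
universe u v
open CAlg

namespace Groth.Agent.S17843

open Polynomial

section Sub
variable {A : Type*} [CommRing A]

/-- substitution `T ↦ cT`. -/
noncomputable def sub (c : A) : A[X] →ₐ[A] A[X] := aeval (C c * X)

@[simp] theorem sub_X (c : A) : sub c X = C c * X := by simp [sub]
@[simp] theorem sub_C (c a : A) : sub c (C a) = C a := by simp [sub]

theorem sub_sub (c d : A) (p : A[X]) : sub c (sub d p) = sub (c * d) p := by
  have : (sub c).comp (sub d) = sub (c * d) := by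
    apply Polynomial.algHom_ext
    simp only [AlgHom.comp_apply, sub_X, map_mul]
    rw [show (sub c) (C d) = C d from sub_C c d]
    try rw [C_mul]
    ring
  exact congrArg (fun f => f p) this

theorem eval_zero_sub (c : A) (p : A[X]) : eval 0 (sub c p) = eval 0 p := by
  have : (evalRingHom (0 : A)).comp (sub c).toRingHom = evalRingHom 0 := by
    apply Polynomial.ringHom_ext
    · intro a; simp
    · simp
  exact congrArg (fun f => f p) this

theorem map_sub' {B : Type*} [CommRing B] (φ : A →+* B) (c : A) (p : A[X]) :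
    Polynomial.map φ (sub c p) = sub (φ c) (Polynomial.map φ p) := by
  have : (mapRingHom φ).comp (sub c).toRingHom = (sub (φ c)).toRingHom.comp (mapRingHom φ) := by
    apply Polynomial.ringHom_ext
    · intro a; simp
    · simp
  exact congrArg (fun f => f p) this

end Sub

section Main
variable {R : Type u} [CommRing R] (r : R)

local notation "Rr" => Localization.Away r
local notation "ι" => Polynomial.map (algebraMap R (Localization.Away r))

/-- clearing denominators in a polynomial over `R[1/r]`. -/
theorem exists_pow_mul (c : Polynomial (Localization.Away r)) :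
    ∃ (e : ℕ) (γ : R[X]), C (algebraMap R (Localization.Away r) (r ^ e)) * c = ι γ := by
  induction c using Polynomial.induction_on' with
  | add p q hp hq =>
    obtain ⟨e₁, γ₁, h₁⟩ := hp
    obtain ⟨e₂, γ₂, h₂⟩ := hq
    refine ⟨e₁ + e₂, C (r ^ e₂) * γ₁ + C (r ^ e₁) * γ₂, ?_⟩
    rw [Polynomial.map_add, Polynomial.map_mul, Polynomial.map_mul, Polynomial.map_C,
      Polynomial.map_C, ← h₁, ← h₂, pow_add, map_mul, C_mul]
    ring
  | monomial n a =>
    obtain ⟨⟨a', ⟨_, e, rfl⟩⟩, ha⟩ := IsLocalization.surj (Submonoid.powers r) a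
    refine ⟨e, monomial n a', ?_⟩
    rw [Polynomial.map_monomial, C_mul_monomial]
    congr 1
    rw [mul_comm]
    exact ha

/-- a polynomial over `R` dying in `R[1/r][T]` is killed by a power of `r`. -/
theorem exists_pow_mul_eq_zero (h : R[X]) (hh : ι h = 0) : ∃ M : ℕ, C (r ^ M) * h = 0 := by
  classical
  have hc : ∀ j, ∃ M : ℕ, r ^ M * h.coeff j = 0 := by
    intro j
    have : algebraMap R (Localization.Away r) (h.coeff j) = 0 := by
      have := congrArg (fun p => p.coeff j) hh
      simpa using this
    obtain ⟨⟨_, M, rfl⟩, hM⟩ := (IsLocalization.map_eq_zero_iff (Submonoid.powers r) _ _).mp this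
    exact ⟨M, hM⟩
  choose Mj hMj using hc
  refine ⟨h.support.sup Mj, ?_⟩
  ext j
  rw [coeff_C_mul, coeff_zero]
  by_cases hj : j ∈ h.support
  · have hle : Mj j ≤ h.support.sup Mj := Finset.le_sup hj
    obtain ⟨k, hk⟩ := Nat.exists_eq_add_of_le hle
    rw [hk, pow_add, mul_comm (r ^ Mj j), mul_assoc, hMj, mul_zero]
  · rw [notMem_support_iff.mp hj, mul_zero]

/-- Lemma A. -/
theorem lemmaA (b : Polynomial (Localization.Away r)) (a : R)
    (hb : eval 0 b = algebraMap R (Localization.Away r) a) :
    ∃ e : ℕ, ∀ n : ℕ, e ≤ n → ∃ y : R[X],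
      ι y = sub (algebraMap R (Localization.Away r) (r ^ n)) b ∧ eval 0 y = a := by
  obtain ⟨e, γ, hγ⟩ := exists_pow_mul r (divX b)
  refine ⟨e, fun n hn => ?_⟩
  obtain ⟨k, rfl⟩ := Nat.exists_eq_add_of_le hn
  refine ⟨C a + X * (C (r ^ k) * sub (r ^ (e + k)) γ), ?_, by simp⟩
  have hb' : b = divX b * X + C (algebraMap R (Localization.Away r) a) := by
    rw [← hb, ← coeff_zero_eq_eval_zero]
    exact (divX_mul_X_add b).symm
  have h1 : ι (sub (r ^ (e + k)) γ) = C (algebraMap R (Localization.Away r) (r ^ e)) *
      sub (algebraMap R (Localization.Away r) (r ^ (e + k))) (divX b) := by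
    rw [map_sub', ← hγ, map_mul, sub_C]
  have h2 : C (algebraMap R (Localization.Away r) (r ^ (e + k))) =
      C (algebraMap R (Localization.Away r) (r ^ k)) *
        C (algebraMap R (Localization.Away r) (r ^ e)) := by
    rw [← C_mul, ← map_mul, ← pow_add, add_comm]
  conv_rhs => rw [hb']
  rw [Polynomial.map_add, Polynomial.map_mul, Polynomial.map_mul, Polynomial.map_C,
    Polynomial.map_C, Polynomial.map_X, h1, map_add, map_mul, sub_X, sub_C, h2]
  ring

end Main

/-- In the case of an affine scheme of finite presentation, let B be a finitely presented R-algebra, r ∈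
R, and x : B → R[1/r][T] an R-algebra homomorphism whose value at T = 0, a homomorphism B → R[1/r],
is induced by a homomorphism x̃₀ : B → R. Then for every large enough n, the homomorphism x(rⁿT) : B
→ R[1/r][T] is induced by a homomorphism x̃ : B → R[T] whose value at T = 0 is x̃₀. The published
statement is for algebraic spaces locally of finite presentation over R; this row takes an affine
scheme of finite presentation. -/
theorem result
    (R : Type u) (B : Type v) [CommRing R] [CommRing B] [Algebra R B]
    [Algebra.FinitePresentation R B] (r : R)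
    (x : B →ₐ[R] Polynomial (Localization.Away r))
    (x₀ : B →ₐ[R] R)
    (hx₀ : (algebraMap R (Localization.Away r)).comp x₀.toRingHom =
      (Polynomial.evalRingHom 0).comp x.toRingHom) :
    ∃ N : ℕ, ∀ n : ℕ, N ≤ n →
      ∃ y : B →ₐ[R] Polynomial R,
        (Polynomial.evalRingHom 0).comp y.toRingHom = x₀.toRingHom ∧
        (Polynomial.mapRingHom (algebraMap R (Localization.Away r))).comp y.toRingHom =
          (Polynomial.aeval (Polynomial.C (algebraMap R (Localization.Away r) (r ^ n)) * Polynomial.X) :
              Polynomial (Localization.Away r) →ₐ[Localization.Away r] Polynomial (Localization.Away r)).toRingHom.comp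
            x.toRingHom := by
  classical
  obtain ⟨m, f, hf, hfg⟩ := Algebra.FinitePresentation.out (R := R) (A := B)
  set ρ := algebraMap R (Localization.Away r) with hρ
  have halg : ∀ a : R, algebraMap R (Polynomial (Localization.Away r)) a = Polynomial.C (ρ a) := by
    intro a
    rw [IsScalarTower.algebraMap_apply R (Localization.Away r) (Polynomial (Localization.Away r)),
      Polynomial.algebraMap_apply, Algebra.algebraMap_self_apply]
  have hA : ∀ i : Fin m, ∃ e : ℕ, ∀ n : ℕ, e ≤ n → ∃ y : Polynomial R,
      Polynomial.map ρ y = sub (ρ (r ^ n)) (x (f (MvPolynomial.X i))) ∧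
        Polynomial.eval 0 y = x₀ (f (MvPolynomial.X i)) := by
    intro i
    apply lemmaA r
    have := congrArg (fun g => g (f (MvPolynomial.X i))) hx₀
    exact this.symm
  choose e he using hA
  set n₀ := Finset.univ.sup e with hn₀def
  have hn₀ : ∀ i, e i ≤ n₀ := fun i => Finset.le_sup (Finset.mem_univ i)
  choose yv hyv1 hyv2 using fun i => he i n₀ (hn₀ i)
  set yt : MvPolynomial (Fin m) R →ₐ[R] Polynomial R := MvPolynomial.aeval yv with hyt
  have h1 : ∀ g, Polynomial.map ρ (yt g) = sub (ρ (r ^ n₀)) (x (f g)) := by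
    have : (Polynomial.mapRingHom ρ).comp yt.toRingHom =
        ((sub (ρ (r ^ n₀))).toRingHom.comp x.toRingHom).comp f.toRingHom := by
      apply MvPolynomial.ringHom_ext
      · intro a
        have e1 : f (MvPolynomial.C a) = algebraMap R B a := by
          rw [← MvPolynomial.algebraMap_eq]; exact f.commutes a
        simp only [RingHom.comp_apply, AlgHom.toRingHom_eq_coe, RingHom.coe_coe, e1,
          AlgHom.commutes, halg, sub_C]
        rw [hyt, MvPolynomial.aeval_C, Polynomial.algebraMap_apply, Algebra.algebraMap_self_apply]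
        simp
      · intro i
        simp only [RingHom.comp_apply, AlgHom.toRingHom_eq_coe, RingHom.coe_coe]
        rw [hyt, MvPolynomial.aeval_X]
        exact hyv1 i
    intro g
    exact congrArg (fun h => h g) this
  have h2 : ∀ g, Polynomial.eval 0 (yt g) = x₀ (f g) := by
    have : (Polynomial.evalRingHom 0).comp yt.toRingHom = x₀.toRingHom.comp f.toRingHom := by
      apply MvPolynomial.ringHom_ext
      · intro a
        have e1 : f (MvPolynomial.C a) = algebraMap R B a := by
          rw [← MvPolynomial.algebraMap_eq]; exact f.commutes a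
        simp only [RingHom.comp_apply, AlgHom.toRingHom_eq_coe, RingHom.coe_coe, e1,
          AlgHom.commutes]
        rw [hyt, MvPolynomial.aeval_C]
        simp
      · intro i
        simp only [RingHom.comp_apply, AlgHom.toRingHom_eq_coe, RingHom.coe_coe]
        rw [hyt, MvPolynomial.aeval_X]
        exact hyv2 i
    intro g
    exact congrArg (fun h => h g) this
  -- the generators of the kernel
  obtain ⟨S, hS⟩ := hfg
  have hker : ∀ g ∈ S, ∃ M : ℕ, ∀ M' : ℕ, M ≤ M' → sub (r ^ M') (yt g) = 0 := by
    intro g hg
    have hg0 : f g = 0 := by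
      have : g ∈ RingHom.ker f.toRingHom := by rw [← hS]; exact Ideal.subset_span hg
      exact this
    have e1 : Polynomial.map ρ (yt g) = 0 := by rw [h1, hg0, map_zero, map_zero]
    have e2 : Polynomial.eval 0 (yt g) = 0 := by rw [h2, hg0, map_zero]
    have e3 : yt g = Polynomial.divX (yt g) * Polynomial.X := by
      have := Polynomial.divX_mul_X_add (yt g)
      rw [Polynomial.coeff_zero_eq_eval_zero, e2, map_zero, add_zero] at this
      exact this.symm
    have e4 : Polynomial.map ρ (Polynomial.divX (yt g)) = 0 := by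
      rw [e3, Polynomial.map_mul, Polynomial.map_X] at e1
      exact (Polynomial.monic_X.mul_left_eq_zero_iff).mp e1
    obtain ⟨M, hM⟩ := exists_pow_mul_eq_zero r _ e4
    refine ⟨M, fun M' hM' => ?_⟩
    obtain ⟨k, rfl⟩ := Nat.exists_eq_add_of_le hM'
    rw [e3, map_mul, sub_X]
    have : Polynomial.C (r ^ (M + k)) * Polynomial.divX (yt g) = 0 := by
      rw [pow_add, Polynomial.C_mul, mul_comm (Polynomial.C (r ^ M)), mul_assoc, hM, mul_zero]
    calc sub (r ^ (M + k)) (Polynomial.divX (yt g)) * (Polynomial.C (r ^ (M + k)) * Polynomial.X)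
        = sub (r ^ (M + k)) (Polynomial.C (r ^ (M + k)) * Polynomial.divX (yt g)) * Polynomial.X := by
          rw [map_mul, sub_C]; ring
      _ = 0 := by rw [this, map_zero, zero_mul]
  choose! Mg hMg using hker
  set M := S.sup Mg with hMdef
  refine ⟨n₀ + M, fun n hn => ?_⟩
  obtain ⟨M', hM', rfl⟩ : ∃ M', M ≤ M' ∧ n = n₀ + M' := ⟨n - n₀, by omega, by omega⟩
  set yh : MvPolynomial (Fin m) R →ₐ[R] Polynomial R := (sub (r ^ M')).comp yt with hyh
  have hle : RingHom.ker f.toRingHom ≤ RingHom.ker yh.toRingHom := by
    rw [← hS, Ideal.span_le]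
    intro g hg
    rw [SetLike.mem_coe, RingHom.mem_ker]
    exact hMg g hg M' ((Finset.le_sup hg).trans hM')
  have hle' : ∀ g, f g = 0 → yh g = 0 := fun g hg => hle hg
  let y : B →ₐ[R] Polynomial R := AlgHom.liftOfSurjective f hf yh hle'
  have hy : ∀ g, y (f g) = yh g := fun g => AlgHom.liftOfSurjective_apply f hf yh hle' g
  refine ⟨y, ?_, ?_⟩
  · apply RingHom.ext
    intro bb
    obtain ⟨g, rfl⟩ := hf bb
    change Polynomial.eval 0 (y (f g)) = x₀ (f g)
    rw [hy, hyh, AlgHom.comp_apply, eval_zero_sub, h2]
  · apply RingHom.ext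
    intro bb
    obtain ⟨g, rfl⟩ := hf bb
    change Polynomial.map ρ (y (f g)) = sub (ρ (r ^ (n₀ + M'))) (x (f g))
    rw [hy, hyh, AlgHom.comp_apply, map_sub', h1, sub_sub, ← map_mul, ← pow_add, add_comm]

end Groth.Agent.S17843
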