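import Groth.Statements.S17859
import Groth.Agent.Lib.Helper9.ProjDual

set_option autoImplicit false
open CategoryTheory MonoidalCategory
universe u
open Algz

namespace Groth.Agent.S17859

/-- Over an affine scheme, that is for modules over a commutative ring `R`, a finitely generated
projective `R`-module `M`, viewed as an object of the monoidal category of `R`-modules (tensor
product over `R`), has a right dual. (The published statement is the equivalence, for quasi-coherent
sheaves on a quasi-compact quasi-separated scheme, between being dualizable and being a vector
bundle; stated here is the affine case of the implication from vector bundle to dualizable. The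
converse implication, that a module admitting a dual is finitely generated projective, is stated
separately and is not repeated here.) -/
theorem result (R : Type u) [CommRing R] (M : ModuleCat.{u} R)
    [Module.Finite R M] [Module.Projective R M] : Nonempty (HasRightDual M) := by
  obtain ⟨n, x, φ, h⟩ := Groth.Agent.H9.exists_dualBasis_of_finite_projective R M
  let D : ModuleCat.{u} R := ModuleCat.of R (Module.Dual R M)
  let coevM : 𝟙_ (ModuleCat.{u} R) ⟶ M ⊗ D := ModuleCat.ofHom (Groth.Agent.H9.coevOf x φ)
  let evM : D ⊗ M ⟶ 𝟙_ (ModuleCat.{u} R) := ModuleCat.ofHom (contractLeft R M)
  have h1 : D ◁ coevM ≫ (α_ D M D).inv ≫ evM ▷ D = (ρ_ D).hom ≫ (λ_ D).inv := by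
    ext : 1
    exact Groth.Agent.H9.contractLeft_assoc_coevOf x φ h
  have h2 : coevM ▷ M ≫ (α_ M D M).hom ≫ M ◁ evM = (λ_ M).hom ≫ (ρ_ M).inv := by
    ext : 1
    exact Groth.Agent.H9.contractLeft_assoc_coevOf' x φ h
  exact ⟨{ rightDual := D
           exact := { coevaluation' := coevM
                      evaluation' := evM
                      coevaluation_evaluation' := h1
                      evaluation_coevaluation' := h2 } }⟩

end Groth.Agent.S17859
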