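import Groth.Statements.S17864
import Groth.Agent.Lib.Helper9.AdicComplete

set_option autoImplicit false
universe u
open Algz

namespace Groth.Agent.S17864

/-- The full-faithfulness assertion. Let `A` be a commutative ring which is `I`-adically complete for an
ideal `I`, and `P`, `Q` finitely generated projective `A`-modules. An `A`-linear map `P → Q` is
determined by its reductions modulo the powers `I^n`, and every family of `A`-linear maps `P/I^n P →
Q/I^n Q` compatible with the transition maps is the family of reductions of an `A`-linear map `P →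
Q`. (The companion assertion, that compatible systems of finite projective modules over the rings
`A/I^n` lift to `A`, is not restated here.) -/
theorem result (A : Type u) [CommRing A] (I : Ideal A)
    [IsAdicComplete I A] (P Q : Type u) [AddCommGroup P] [Module A P] [Module.Finite A P]
    [Module.Projective A P] [AddCommGroup Q] [Module A Q] [Module.Finite A Q] [Module.Projective A Q] :
    (∀ f f' : P →ₗ[A] Q, (∀ n : ℕ, f.reduceModIdeal (I ^ n) = f'.reduceModIdeal (I ^ n)) → f = f') ∧
    (∀ g : ∀ n : ℕ, P ⧸ (I ^ n • ⊤ : Submodule A P) →ₗ[A] Q ⧸ (I ^ n • ⊤ : Submodule A Q),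
      (∀ n : ℕ, AdicCompletion.transitionMap I Q (Nat.le_succ n) ∘ₗ g (n + 1) =
        g n ∘ₗ AdicCompletion.transitionMap I P (Nat.le_succ n)) →
      ∃ f : P →ₗ[A] Q, ∀ n : ℕ, f.reduceModIdeal (I ^ n) = g n) := by
  have : IsAdicComplete I Q := Groth.Agent.H9.isAdicComplete_of_finite_projective I Q
  constructor
  · intro f f' h
    apply LinearMap.ext
    intro p
    rw [IsHausdorff.eq_iff_smodEq (I := I)]
    intro n
    have := congrArg (fun φ => φ (Submodule.Quotient.mk p)) (h n)
    simp only [LinearMap.reduceModIdeal_apply] at this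
    exact this
  · intro g hg
    let φ : ∀ n : ℕ, P →ₗ[A] Q ⧸ (I ^ n • ⊤ : Submodule A Q) :=
      fun n => g n ∘ₗ Submodule.mkQ (I ^ n • ⊤ : Submodule A P)
    have hsucc : ∀ {m : ℕ}, Submodule.factorPow I Q (strictMono_id.monotone m.le_succ) ∘ₗ φ (m + 1) = φ m := by
      intro m
      have h1 := hg m
      apply LinearMap.ext
      intro p
      have h2 := LinearMap.congr_fun h1 (Submodule.Quotient.mk p)
      simp only [LinearMap.comp_apply] at h2
      simp only [φ, LinearMap.comp_apply, Submodule.mkQ_apply]
      exact h2
    have hφ : ∀ {m n : ℕ} (hle : m ≤ n), Submodule.factorPow I Q hle ∘ₗ φ n = φ m := by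
      intro m n hle
      exact IsAdicComplete.StrictMono.factorPow_comp_eq_of_factorPow_comp_succ_eq
        (a := id) strictMono_id φ hsucc hle
    refine ⟨IsAdicComplete.lift I φ hφ, ?_⟩
    intro n
    apply LinearMap.ext
    intro x
    obtain ⟨p, rfl⟩ := Submodule.Quotient.mk_surjective _ x
    show (LinearMap.reduceModIdeal (I ^ n) (IsAdicComplete.lift I φ hφ)) (Submodule.Quotient.mk p) = _
    rw [LinearMap.reduceModIdeal_apply, IsAdicComplete.mk_lift]
    rfl

end Groth.Agent.S17864
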