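import Groth.Statements.S17871
import Groth.Agent.Lib.Helper3.Nis2.Sheaf
import Groth.Agent.Lib.Helper9.Misc.QcqsInd
import Groth.Agent.S17868
import Groth.Agent.S17869

set_option autoImplicit false
open CategoryTheory AlgebraicGeometry Opposite
universe u
open Algz

namespace Groth.Agent.S17871

/-- Let `X` be a quasi-compact quasi-separated scheme, `A i` a family of commutative rings indexed by an
arbitrary type together with morphisms `f i : Spec (A i) ⟶ X`, and `F` an `O_X`-module locally of
finite presentation (a finitely presented quasi-coherent sheaf). Then the product over `i` of the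
modules of global sections of the pullbacks `(f i)^* F` is a finitely presented module over the
product of the rings of global sections `Γ(Spec (A i), O)` (that is, over `Π i, A i`). The point is
that the index set may be infinite. -/
theorem result (X : Scheme.{u}) [CompactSpace X] [QuasiSeparatedSpace X]
    {ι : Type u} (A : ι → CommRingCat.{u}) (f : ∀ i, Spec (A i) ⟶ X) (F : X.Modules) (hF : CohB1.IsFP F) :
    Module.FinitePresentation (∀ i, Γ(Spec (A i), ⊤))
      (∀ i, Γ((Scheme.Modules.pullback (f i)).obj F, ⊤)) := by
  classical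
  obtain ⟨n, V, hVaff, hVcov⟩ := Groth.Agent.H9.QcqsInd.fin_cover (⊤ : X.Opens)
    isCompact_univ IsAffineOpen (fun x _ => by
      obtain ⟨U, hU, hxU, hUle⟩ := exists_isAffineOpen_mem_and_subset (x := x) (U := ⊤) trivial
      exact ⟨U, hU, hxU, hUle⟩)
  haveI : ∀ i, IsAffine ((V i : X.Opens) : Scheme.{u}) := fun i => hVaff i
  haveI haff : IsAffine (∐ fun i => ((V i : X.Opens) : Scheme.{u})) := inferInstance
  have hcov := Groth.Agent.S17869.result n V (fun i => (hVaff i).isCompact) hVcov
  obtain ⟨m, hm⟩ := Groth.Agent.S17868.result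
    (Limits.Sigma.desc (fun i => (V i).ι) : (∐ fun i => ((V i : X.Opens) : Scheme.{u})) ⟶ X) n hcov
  obtain ⟨n₁, n₂, huni⟩ := Groth.Agent.H3.Nis2.exists_uniform_presentation _ m hm F hF
  choose s t hs ht using fun i => huni (A i) (f i)
  have hbij : ∀ i, Function.Bijective (algebraMap (A i) Γ(Spec (A i), ⊤)) := fun i =>
    ConcreteCategory.bijective_of_isIso (Scheme.ΓSpecIso (A i)).inv
  have key := fun i => Groth.Agent.H3.Nis2.presentation_transfer (hbij i) (s i) (t i) (hs i) (ht i)
  exact Groth.Agent.H3.Nis2.finitePresentation_pi (fun i => Γ(Spec (A i), ⊤))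
    (fun i => Γ((Scheme.Modules.pullback (f i)).obj F, ⊤)) n₁ n₂ s
    (fun i j k => algebraMap (A i) Γ(Spec (A i), ⊤) (t i j k))
    (fun i => (key i).1) (fun i => (key i).2)

end Groth.Agent.S17871
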