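import Groth.Statements.S17875
import Mathlib

set_option autoImplicit false
universe u
open Polynomial
open GRRSing

namespace Groth.Agent.S17875

/-- Let R be a commutative ℚ-algebra, r an element of R and δ a natural number with (r - 1) ^ (δ + 1) =
0. Write s(k, j) for the signed Stirling numbers of the first kind, the coefficients of x (x - 1) ⋯
(x - k + 1) = Σ_j s(k, j) x ^ j. Then (i) for every natural number n, r ^ n = Σ_{k ≤ δ} [n (n - 1) ⋯
(n - k + 1) / k!] (r - 1) ^ k; and (ii) in the polynomial ring R[x], Σ_{k ≤ δ} [x (x - 1) ⋯ (x - k +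
1) / k!] (r - 1) ^ k = Σ_{j ≤ δ} [Σ_{k ≤ δ} Σ_{u ≤ k} (-1) ^ (k - u) s(k, j) / (u! (k - u)!) · r ^
u] x ^ j. -/
theorem result {R : Type u} [CommRing R] [Algebra ℚ R]
    (r : R) (δ : ℕ) (hr : (r - 1) ^ (δ + 1) = 0) :
    (∀ n : ℕ, r ^ n = ∑ k ∈ Finset.range (δ + 1), ((descPochhammer ℚ k).eval (n : ℚ) / (k.factorial : ℚ)) • (r - 1) ^ k) ∧
    (∑ k ∈ Finset.range (δ + 1), ((k.factorial : ℚ)⁻¹ • (descPochhammer R k * Polynomial.C ((r - 1) ^ k))) =
      ∑ j ∈ Finset.range (δ + 1), Polynomial.C (∑ k ∈ Finset.range (δ + 1), ∑ u ∈ Finset.range (k + 1),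
        (((-1 : ℚ) ^ (k - u) * (((descPochhammer ℤ k).coeff j : ℤ) : ℚ)) / ((u.factorial * (k - u).factorial : ℕ) : ℚ)) • r ^ u) * Polynomial.X ^ j) := by
  constructor
  · intro n
    have h1 : r ^ n = ∑ k ∈ Finset.range (n + 1), (n.choose k : ℚ) • (r - 1) ^ k := by
      have : r = (r - 1) + 1 := by ring
      conv_lhs => rw [this, add_pow]
      refine Finset.sum_congr rfl fun k _ => ?_
      rw [one_pow, mul_one, Algebra.smul_def, map_natCast, mul_comm]
    have hterm : ∀ k, ((descPochhammer ℚ k).eval (n : ℚ) / (k.factorial : ℚ)) • (r - 1) ^ k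
        = (n.choose k : ℚ) • (r - 1) ^ k := by
      intro k; rw [Nat.cast_choose_eq_descPochhammer_div]
    simp_rw [hterm]
    rw [h1]
    have hN1 : n ≤ max n δ := le_max_left _ _
    have hN2 : δ ≤ max n δ := le_max_right _ _
    have e1 : ∑ k ∈ Finset.range (n + 1), (n.choose k : ℚ) • (r - 1) ^ k
        = ∑ k ∈ Finset.range (max n δ + 1), (n.choose k : ℚ) • (r - 1) ^ k := by
      apply Finset.sum_subset
      · intro k hk; rw [Finset.mem_range] at hk ⊢; omega
      · intro k _ hk
        rw [Finset.mem_range, not_lt] at hk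
        rw [Nat.choose_eq_zero_of_lt (by omega)]; simp
    have e2 : ∑ k ∈ Finset.range (δ + 1), (n.choose k : ℚ) • (r - 1) ^ k
        = ∑ k ∈ Finset.range (max n δ + 1), (n.choose k : ℚ) • (r - 1) ^ k := by
      apply Finset.sum_subset
      · intro k hk; rw [Finset.mem_range] at hk ⊢; omega
      · intro k _ hk
        rw [Finset.mem_range, not_lt] at hk
        have : (r - 1) ^ k = 0 := by
          rw [← Nat.sub_add_cancel hk, pow_add, hr, mul_zero]
        rw [this, smul_zero]
    rw [e1, e2]
  · have hS : ∀ k n, (descPochhammer R k).coeff n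
        = algebraMap ℚ R (((descPochhammer ℤ k).coeff n : ℤ) : ℚ) := by
      intro k n
      rw [← descPochhammer_map (Int.castRingHom R), Polynomial.coeff_map]
      simp
    ext n
    simp only [Polynomial.finsetSum_coeff, Polynomial.coeff_smul, Polynomial.coeff_mul_C,
      Polynomial.coeff_C_mul, Polynomial.coeff_X_pow, mul_ite, mul_one, mul_zero]
    rw [Finset.sum_ite_eq]
    by_cases hn : n ∈ Finset.range (δ + 1)
    · rw [if_pos hn]
      refine Finset.sum_congr rfl fun k _ => ?_
      rw [sub_pow, Finset.mul_sum, Finset.smul_sum]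
      refine Finset.sum_congr rfl fun u hu => ?_
      rw [Finset.mem_range] at hu
      have hu' : u ≤ k := by omega
      rw [hS, Algebra.smul_def, Algebra.smul_def, one_pow, mul_one]
      have hsign : ((-1 : ℚ)) ^ (u + k) = (-1) ^ (k - u) := by
        have : u + k = (k - u) + 2 * u := by omega
        rw [this, pow_add, pow_mul]; simp
      have key : ((k.factorial : ℚ))⁻¹ * ((((descPochhammer ℤ k).coeff n : ℤ) : ℚ)
          * ((-1) ^ (u + k) * (k.choose u : ℚ)))
          = ((-1 : ℚ) ^ (k - u) * (((descPochhammer ℤ k).coeff n : ℤ) : ℚ))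
            / ((u.factorial * (k - u).factorial : ℕ) : ℚ) := by
        rw [hsign, Nat.cast_choose ℚ hu']
        have h1 : (k.factorial : ℚ) ≠ 0 := by exact_mod_cast k.factorial_ne_zero
        have h2 : (u.factorial : ℚ) ≠ 0 := by exact_mod_cast u.factorial_ne_zero
        have h3 : ((k - u).factorial : ℚ) ≠ 0 := by exact_mod_cast (k - u).factorial_ne_zero
        push_cast
        field_simp
      rw [← key]
      simp only [map_mul, map_pow, map_neg, map_one, map_natCast]
      ring
    · rw [if_neg hn]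
      rw [Finset.mem_range, not_lt] at hn
      apply Finset.sum_eq_zero
      intro k hk
      rw [Finset.mem_range] at hk
      have : (descPochhammer ℤ k).coeff n = 0 := by
        apply Polynomial.coeff_eq_zero_of_natDegree_lt
        rw [descPochhammer_natDegree]; omega
      rw [hS, this]; simp

end Groth.Agent.S17875
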