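import Groth.Statements.S17881

set_option autoImplicit false
universe u
open CAlg

namespace Groth.Agent.S17881

/-- Let O be a subring of a nontrivial commutative ring A. The following are equivalent: (i) A is a
local ring, every non-unit of A belongs to O, and for every unit u of A one of u, u⁻¹ belongs to O —
equivalently O is the preimage in the local ring A of a valuation ring of the residue field of A,
which makes O a semi-valuation ring with semi-fraction ring A; (ii) for all f, g in A generating the
unit ideal, either f ∈ gO or g ∈ fO. (A is taken nontrivial: over the zero ring (ii) holds and (i)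
fails.) -/
theorem result (A : Type u) [CommRing A] [Nontrivial A]
    (O : Subring A) :
    (IsLocalRing A ∧ (∀ a : A, ¬ IsUnit a → a ∈ O) ∧ (∀ u : Aˣ, (u : A) ∈ O ∨ ((u⁻¹ : Aˣ) : A) ∈ O)) ↔
      ∀ f g : A, IsCoprime f g → (∃ o ∈ O, f = g * o) ∨ (∃ o ∈ O, g = f * o) := by
  constructor
  · rintro ⟨hloc, hnu, hu⟩ f g hfg
    by_cases hf : IsUnit f
    · by_cases hg : IsUnit g
      · obtain ⟨uf, rfl⟩ := hf
        obtain ⟨ug, rfl⟩ := hg
        rcases hu (ug⁻¹ * uf) with h | h
        · left
          refine ⟨_, h, ?_⟩
          simp [← mul_assoc]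
        · right
          refine ⟨_, h, ?_⟩
          simp [← mul_assoc]
      · right
        obtain ⟨uf, rfl⟩ := hf
        refine ⟨((uf⁻¹ : Aˣ) : A) * g, hnu _ ?_, ?_⟩
        · intro h
          apply hg
          have := (uf.isUnit.mul h)
          simpa [← mul_assoc] using this
        · simp [← mul_assoc]
    · left
      have hg : IsUnit g := by
        by_contra hg
        obtain ⟨a, b, hab⟩ := hfg
        have h1 : IsUnit (a * f + b * g) := by rw [hab]; exact isUnit_one
        rcases IsLocalRing.isUnit_or_isUnit_of_isUnit_add h1 with h | h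
        · exact hf (isUnit_of_mul_isUnit_right h)
        · exact hg (isUnit_of_mul_isUnit_right h)
      obtain ⟨ug, rfl⟩ := hg
      refine ⟨((ug⁻¹ : Aˣ) : A) * f, hnu _ ?_, ?_⟩
      · intro h
        apply hf
        have := (ug.isUnit.mul h)
        simpa [← mul_assoc] using this
      · simp [← mul_assoc]
  · intro H
    refine ⟨?_, ?_, ?_⟩
    · refine IsLocalRing.of_isUnit_or_isUnit_one_sub_self (fun a => ?_)
      have hcop : IsCoprime a (1 - a) := ⟨1, 1, by ring⟩
      rcases H a (1 - a) hcop with ⟨o, _, ho⟩ | ⟨o, _, ho⟩
      · right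
        refine IsUnit.of_mul_eq_one (1 + o) ?_
        have : (1 - a) * (1 + o) = (1 - a) + (1 - a) * o := by ring
        rw [this, ← ho]; ring
      · left
        refine IsUnit.of_mul_eq_one (1 + o) ?_
        have : a * (1 + o) = a + a * o := by ring
        rw [this, ← ho]; ring
    · intro a ha
      rcases H a 1 (isCoprime_one_right) with ⟨o, ho, h⟩ | ⟨o, _, h⟩
      · rw [one_mul] at h; rwa [h]
      · exact absurd (IsUnit.of_mul_eq_one o h.symm) ha
    · intro u
      rcases H (u : A) 1 (isCoprime_one_right) with ⟨o, ho, h⟩ | ⟨o, ho, h⟩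
      · left; rw [one_mul] at h; rwa [h]
      · right
        have : ((u⁻¹ : Aˣ) : A) = o := by
          have h2 : ((u⁻¹ : Aˣ) : A) * 1 = ((u⁻¹ : Aˣ) : A) * ((u : A) * o) := by rw [← h]
          rw [mul_one, ← mul_assoc, Units.inv_mul, one_mul] at h2
          exact h2
        rwa [this]

end Groth.Agent.S17881
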