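import Groth.Statements.S17882
import Mathlib.LinearAlgebra.Matrix.Adjugate
import Mathlib.Algebra.GroupWithZero.NonZeroDivisors

set_option autoImplicit false
universe u
open CAlg

namespace Groth.Agent.S17882

open Matrix

/-- Let B be a commutative ring, r ≥ 1, N a finitely generated submodule of B^r, and n_1, …, n_r ∈ N.
Suppose the determinant of the matrix with rows n_1, …, n_r is a nonzerodivisor of B and that the
determinant of every matrix whose rows lie in N is a multiple of it (the image of the top exterior
power of N in that of B^r ≅ B is the principal ideal generated by n_1 ∧ ⋯ ∧ n_r, a nonzerodivisor).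
Then n_1, …, n_r are linearly independent over B and span N: N is free of rank r with this basis. -/
theorem result (B : Type u) [CommRing B] (r : ℕ) (hr : 0 < r)
    (N : Submodule B (Fin r → B)) (hN : N.FG) (n : Fin r → (Fin r → B)) (hn : ∀ i, n i ∈ N)
    (hgen : ∀ m : Fin r → (Fin r → B), (∀ i, m i ∈ N) →
      Matrix.det (Matrix.of m) ∈ Ideal.span {Matrix.det (Matrix.of n)})
    (hnzd : Matrix.det (Matrix.of n) ∈ nonZeroDivisors B) :
    LinearIndependent B n ∧ Submodule.span B (Set.range n) = N := by
  classical
  set M : Matrix (Fin r) (Fin r) B := Matrix.of n with hM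
  have hcancel : ∀ v : Fin r → B, M.det • v = 0 → v = 0 := by
    intro v hv
    funext k
    have := congrFun hv k
    simp only [Pi.smul_apply, smul_eq_mul, Pi.zero_apply] at this
    exact (mul_left_mem_nonZeroDivisors_eq_zero_iff hnzd).mp this
  -- key identity: `Mᵀ *ᵥ c = ∑ i, c i • n i`
  have hmul : ∀ c : Fin r → B, Mᵀ *ᵥ c = ∑ i, c i • n i := by
    intro c
    funext k
    simp only [Matrix.mulVec, dotProduct, Matrix.transpose_apply, hM, Matrix.of_apply,
      Finset.sum_apply, Pi.smul_apply, smul_eq_mul]
    exact Finset.sum_congr rfl (fun i _ => mul_comm _ _)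
  constructor
  · rw [Fintype.linearIndependent_iff]
    intro c hc
    have h1 : Mᵀ *ᵥ c = 0 := by rw [hmul, hc]
    have h2 : (Matrix.adjugate Mᵀ) *ᵥ (Mᵀ *ᵥ c) = 0 := by rw [h1, Matrix.mulVec_zero]
    rw [Matrix.mulVec_mulVec, Matrix.adjugate_mul, Matrix.smul_mulVec, Matrix.one_mulVec,
      Matrix.det_transpose] at h2
    have := hcancel c h2
    intro i
    exact congrFun this i
  · apply le_antisymm
    · rw [Submodule.span_le]
      rintro _ ⟨i, rfl⟩
      exact hn i
    · intro x hx
      -- Cramer's rule
      have hc : ∀ i, ∃ d : B, (M.updateRow i x).det = M.det * d := by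
        intro i
        have hrows : ∀ j, (M.updateRow i x) j ∈ N := by
          intro j
          by_cases hji : j = i
          · subst hji; simpa using hx
          · rw [Matrix.updateRow_ne hji]; exact hn j
        have := hgen (fun j => (M.updateRow i x) j) hrows
        rw [Ideal.mem_span_singleton'] at this
        obtain ⟨d, hd⟩ := this
        refine ⟨d, ?_⟩
        rw [mul_comm]
        exact hd.symm
      choose d hd using hc
      have h1 : Mᵀ *ᵥ (Matrix.cramer Mᵀ x) = M.det • x := by
        rw [Matrix.mulVec_cramer, Matrix.det_transpose]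
      have h2 : Matrix.cramer Mᵀ x = M.det • d := by
        funext i
        rw [Matrix.cramer_transpose_apply, hd i]
        rfl
      rw [h2, Matrix.mulVec_smul, hmul] at h1
      have h3 : M.det • (∑ i, d i • n i - x) = 0 := by
        rw [smul_sub, h1, sub_self]
      have h4 := hcancel _ h3
      rw [sub_eq_zero] at h4
      rw [← h4]
      exact Submodule.sum_mem _ (fun i _ => Submodule.smul_mem _ _ (Submodule.subset_span ⟨i, rfl⟩))

end Groth.Agent.S17882
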