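import Groth.Statements.S17897
import Groth.Agent.Lib.Helper6.VC4

set_option autoImplicit false
universe u
open CategoryTheory AlgebraicGeometry
open ValCrit

namespace Groth.Agent.S17897

/-- Let f : Y → X be a morphism of schemes (not assumed separated), R a valuation ring with fraction
field K, and i : Spec K → Y, φ : Spec R → X with i ≫ f = (Spec K → Spec R) ≫ φ. Let y be the point
of Y hit by i and g : κ(y) → K the induced embedding, R' = g⁻¹(R) the induced valuation ring of κ(y)
and ρ : R' → R the restriction of g. Then φ factors uniquely through Spec R → Spec R': there is a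
unique φ' : Spec R' → X with (Spec ρ) ≫ φ' = φ whose restriction to the generic point Spec κ(y) is
the canonical morphism Spec κ(y) → Y followed by f. (Here y and g are given as data with Spec g
followed by Spec κ(y) → Y equal to i, and ρ as data by its defining equation.) -/
theorem result {X Y : Scheme.{u}} (f : Y ⟶ X)
    (K : Type u) [Field K] (R : ValuationSubring K)
    (i : Spec (CommRingCat.of K) ⟶ Y) (φ : Spec (CommRingCat.of ↥R) ⟶ X)
    (w : Spec.map (CommRingCat.ofHom R.subtype) ≫ φ = i ≫ f)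
    (y : Y) (g : Y.residueField y ⟶ CommRingCat.of K) (hg : Spec.map g ≫ Y.fromSpecResidueField y = i)
    (ρ : ↥(R.comap g.hom) →+* ↥R)
    (hρ : ∀ x : ↥(R.comap g.hom), ((ρ x : ↥R) : K) = g.hom (x : ↑(Y.residueField y))) :
    ∃! φ' : Spec (CommRingCat.of ↥(R.comap g.hom)) ⟶ X,
      Spec.map (CommRingCat.ofHom ρ) ≫ φ' = φ ∧
      Spec.map (CommRingCat.ofHom (R.comap g.hom).subtype) ≫ φ' = Y.fromSpecResidueField y ≫ f := by
  classical
  let A₀ : ValuationSubring ↑(Y.residueField y) := R.comap g.hom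
  have hginj : Function.Injective g.hom := g.hom.injective
  have hρinj : Function.Injective ρ := by
    intro a b hab
    have h1 : g.hom (a : ↑(Y.residueField y)) = g.hom (b : ↑(Y.residueField y)) := by
      rw [← hρ, ← hρ, hab]
    exact Subtype.ext (hginj h1)
  have hρloc : IsLocalHom ρ := by
    constructor
    intro a ha
    obtain ⟨⟨u, v, huv, hvu⟩, hu'⟩ := ha
    have hux : u = ρ a := hu'
    have h1 : g.hom (a : ↑(Y.residueField y)) * (v : K) = 1 := by
      have := congrArg Subtype.val huv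
      rw [hux] at this
      rw [← hρ]; exact this
    have ha0 : (a : ↑(Y.residueField y)) ≠ 0 := by
      intro h0
      rw [h0, map_zero, zero_mul] at h1
      exact zero_ne_one h1
    have hv : (v : K) = g.hom ((a : ↑(Y.residueField y))⁻¹) := by
      rw [map_inv₀]
      exact eq_inv_of_mul_eq_one_right h1
    have hinvmem : (a : ↑(Y.residueField y))⁻¹ ∈ A₀ := by
      change g.hom ((a : ↑(Y.residueField y))⁻¹) ∈ R
      rw [← hv]; exact v.2
    refine IsUnit.of_mul_eq_one ⟨_, hinvmem⟩ ?_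
    apply Subtype.ext
    change (a : ↑(Y.residueField y)) * (a : ↑(Y.residueField y))⁻¹ = 1
    exact mul_inv_cancel₀ ha0
  let ψ : Y.presheaf.stalk y ⟶ CommRingCat.of K := Y.residue y ≫ g
  have hψloc : IsLocalHom ψ.hom := by
    change IsLocalHom (g.hom.comp (Y.residue y).hom)
    have : IsLocalHom (Y.residue y).hom := by
      change IsLocalHom (IsLocalRing.residue (Y.presheaf.stalk y))
      infer_instance
    infer_instance
  have hi₁ : Spec.map ψ ≫ Y.fromSpecStalk y = i := by
    rw [← hg, Scheme.fromSpecResidueField, Spec.map_comp, Category.assoc]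
  let x' : X := φ.base (IsLocalRing.closedPoint R)
  let χ : X.presheaf.stalk x' ⟶ CommRingCat.of R := Scheme.stalkClosedPointTo φ
  have hi₂ : Spec.map χ ≫ X.fromSpecStalk x' = φ := Scheme.Spec_stalkClosedPointTo_fromSpecStalk φ
  let b0 : X.presheaf.stalk (f.base y) ⟶ CommRingCat.of K := f.stalkMap y ≫ ψ
  have hb0 : IsLocalHom b0.hom := by
    change IsLocalHom (ψ.hom.comp (f.stalkMap y).hom)
    infer_instance
  have h0 : Spec.map (χ ≫ CommRingCat.ofHom R.subtype) ≫ X.fromSpecStalk x' =
      Spec.map b0 ≫ X.fromSpecStalk (f.base y) := by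
    rw [Spec.map_comp, Category.assoc, hi₂, w, ← hi₁, Category.assoc,
      ← Scheme.SpecMap_stalkMap_fromSpecStalk, ← Spec.map_comp_assoc]
  obtain ⟨hsx, hχ⟩ := Groth.Agent.H6.VC.specializes_and_eq _ _ h0
  let χ₀' : X.presheaf.stalk x' ⟶ Y.residueField y :=
    X.presheaf.stalkSpecializes hsx ≫ f.stalkMap y ≫ Y.residue y
  have hχ₀' : ∀ s, g.hom (χ₀'.hom s) = ((χ.hom s : R) : K) := by
    intro s
    have h1 := congrArg (fun q => q.hom s) hχ
    exact h1.symm
  have hχ₀'A : ∀ s, χ₀'.hom s ∈ A₀ := by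
    intro s
    change g.hom (χ₀'.hom s) ∈ R
    rw [hχ₀']
    exact (χ.hom s).2
  let χ₀ : X.presheaf.stalk x' ⟶ CommRingCat.of A₀ :=
    CommRingCat.ofHom (χ₀'.hom.codRestrict A₀.toSubring hχ₀'A)
  have hχ₀sub : χ₀ ≫ CommRingCat.ofHom A₀.subtype = χ₀' := rfl
  have hρχ : ∀ s, ρ (χ₀.hom s) = χ.hom s := by
    intro s
    apply Subtype.ext
    rw [hρ]
    exact hχ₀' s
  have hχ₀loc : IsLocalHom χ₀.hom := by
    constructor
    intro s hs
    have h2 : IsUnit (ρ (χ₀.hom s)) := hs.map _
    rw [hρχ] at h2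
    exact (Scheme.isLocalHom_stalkClosedPointTo φ).map_nonunit _ h2
  refine ⟨Spec.map χ₀ ≫ X.fromSpecStalk x', ⟨?_, ?_⟩, ?_⟩
  · have e2 : χ₀ ≫ CommRingCat.ofHom ρ = χ := by
      ext s
      exact congrArg Subtype.val (hρχ s)
    rw [← Spec.map_comp_assoc, e2, hi₂]
  · rw [← Spec.map_comp_assoc, hχ₀sub]
    simp only [χ₀', Spec.map_comp, Category.assoc, Scheme.SpecMap_stalkSpecializes_fromSpecStalk,
      Scheme.SpecMap_stalkMap_fromSpecStalk]
    rfl
  · rintro φ₂ ⟨hφ₂, -⟩
    have : IsLocalHom (CommRingCat.ofHom ρ).hom := hρloc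
    apply Groth.Agent.H6.VC.eq_of_SpecMap_comp_eq (CommRingCat.ofHom ρ) hρinj
    have e2 : χ₀ ≫ CommRingCat.ofHom ρ = χ := by
      ext s
      exact congrArg Subtype.val (hρχ s)
    rw [hφ₂, ← Spec.map_comp_assoc, e2, hi₂]

end Groth.Agent.S17897
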