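import Groth.Statements.S17898
import Groth.Agent.Lib.Helper6.VC4

set_option autoImplicit false
universe u
open CategoryTheory AlgebraicGeometry
open ValCrit

namespace Groth.Agent.S17898

/-- Let f : Y → X be a morphism of schemes (not assumed separated), K a field with valuation rings R ⊆
R' (inclusion ι), i : Spec K → Y and φ : Spec R → X a commutative square over f, and g : Spec R' → Y
a lift of Spec R' → Spec R → X restricting to i on Spec K. Let K̃ be the residue field of R', R̃ ⊆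
K̃ the image of R (a valuation ring of K̃) with the surjection σ : R → R̃. Then every h̃ : Spec R̃ →
Y whose restriction to Spec K̃ is Spec K̃ → Spec R' → Y (via g) and which lies over Spec R̃ → Spec R
→ X is induced by a unique h : Spec R → Y compatible with the whole diagram: h restricts to i on
Spec K, lies over φ, restricts to g along Spec R' → Spec R and to h̃ along Spec R̃ → Spec R. (ι, R̃,
σ are given as data pinned by their defining equations.) -/
theorem result {X Y : Scheme.{u}} (f : Y ⟶ X)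
    (K : Type u) [Field K] (R R' : ValuationSubring K) (hRR' : R ≤ R')
    (ι : ↥R →+* ↥R') (hι : ∀ x : ↥R, ((ι x : ↥R') : K) = (x : K))
    (i : Spec (CommRingCat.of K) ⟶ Y) (φ : Spec (CommRingCat.of ↥R) ⟶ X)
    (w : Spec.map (CommRingCat.ofHom R.subtype) ≫ φ = i ≫ f)
    (g : Spec (CommRingCat.of ↥R') ⟶ Y) (hg₁ : Spec.map (CommRingCat.ofHom R'.subtype) ≫ g = i)
    (hg₂ : g ≫ f = Spec.map (CommRingCat.ofHom ι) ≫ φ)
    (Rt : ValuationSubring (IsLocalRing.ResidueField ↥R')) (σ : ↥R →+* ↥Rt) (hσs : Function.Surjective σ)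
    (hσ : ∀ x : ↥R, ((σ x : ↥Rt) : IsLocalRing.ResidueField ↥R') = IsLocalRing.residue ↥R' (ι x))
    (ht : Spec (CommRingCat.of ↥Rt) ⟶ Y)
    (hht₁ : Spec.map (CommRingCat.ofHom Rt.subtype) ≫ ht =
      Spec.map (CommRingCat.ofHom (IsLocalRing.residue ↥R')) ≫ g)
    (hht₂ : ht ≫ f = Spec.map (CommRingCat.ofHom σ) ≫ φ) :
    ∃! h : Spec (CommRingCat.of ↥R) ⟶ Y, Spec.map (CommRingCat.ofHom R.subtype) ≫ h = i ∧ h ≫ f = φ ∧
      Spec.map (CommRingCat.ofHom ι) ≫ h = g ∧ Spec.map (CommRingCat.ofHom σ) ≫ h = ht := by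
  classical
  have hιinj : Function.Injective ι := by
    intro a b hab
    apply Subtype.ext
    rw [← hι, ← hι, hab]
  have hσloc : IsLocalHom σ := IsLocalHom.of_surjective σ hσs
  -- the maximal ideal of `R'` lies in `R`
  have hmax : ∀ x : R', x ∈ IsLocalRing.maximalIdeal R' → (x : K) ∈ R := by
    intro x hx
    by_contra hn
    have hxi : (x : K)⁻¹ ∈ R := (R.mem_or_inv_mem (x : K)).resolve_left hn
    have hx0 : (x : K) ≠ 0 := fun h0 => hn (h0 ▸ R.zero_mem)
    have hunit : IsUnit x := by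
      refine IsUnit.of_mul_eq_one ⟨(x : K)⁻¹, hRR' hxi⟩ ?_
      apply Subtype.ext
      change (x : K) * (x : K)⁻¹ = 1
      exact mul_inv_cancel₀ hx0
    exact (IsLocalRing.mem_maximalIdeal _).1 hx hunit
  let y : Y := g.base (IsLocalRing.closedPoint R')
  let β : Y.presheaf.stalk y ⟶ CommRingCat.of R' := Scheme.stalkClosedPointTo g
  have hgβ : Spec.map β ≫ Y.fromSpecStalk y = g := Scheme.Spec_stalkClosedPointTo_fromSpecStalk g
  have hβloc : IsLocalHom β.hom := Scheme.isLocalHom_stalkClosedPointTo g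
  let y'' : Y := ht.base (IsLocalRing.closedPoint Rt)
  let δ : Y.presheaf.stalk y'' ⟶ CommRingCat.of Rt := Scheme.stalkClosedPointTo ht
  have hhtδ : Spec.map δ ≫ Y.fromSpecStalk y'' = ht := Scheme.Spec_stalkClosedPointTo_fromSpecStalk ht
  have hδloc : IsLocalHom δ.hom := Scheme.isLocalHom_stalkClosedPointTo ht
  let b0 : Y.presheaf.stalk y ⟶ CommRingCat.of (IsLocalRing.ResidueField R') :=
    β ≫ CommRingCat.ofHom (IsLocalRing.residue R')
  have hb0 : IsLocalHom b0.hom := by
    change IsLocalHom ((IsLocalRing.residue R').comp β.hom)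
    infer_instance
  have h0 : Spec.map (δ ≫ CommRingCat.ofHom Rt.subtype) ≫ Y.fromSpecStalk y'' =
      Spec.map b0 ≫ Y.fromSpecStalk y := by
    rw [Spec.map_comp, Category.assoc, hhtδ, hht₁, Spec.map_comp, Category.assoc, hgβ]
  obtain ⟨hsy, hδ⟩ := Groth.Agent.H6.VC.specializes_and_eq _ _ h0
  let γ1 : Y.presheaf.stalk y'' ⟶ CommRingCat.of R' := Y.presheaf.stalkSpecializes hsy ≫ β
  have hδ' : ∀ s, ((δ.hom s : Rt) : IsLocalRing.ResidueField R') =
      IsLocalRing.residue R' (γ1.hom s) := by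
    intro s
    exact congrArg (fun q => q.hom s) hδ
  have hγ1R : ∀ s, ((γ1.hom s : R') : K) ∈ R := by
    intro s
    obtain ⟨r, hr⟩ := hσs (δ.hom s)
    have h1 : IsLocalRing.residue R' (γ1.hom s - ι r) = 0 := by
      rw [map_sub, ← hδ', ← hσ, hr, sub_self]
    rw [IsLocalRing.residue_eq_zero_iff] at h1
    have h2 := hmax _ h1
    have h3 : ((γ1.hom s : R') : K) = ((γ1.hom s - ι r : R') : K) + (r : K) := by
      rw [← hι r]
      push_cast
      ring
    rw [h3]
    exact R.add_mem _ _ h2 r.2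
  let γ : Y.presheaf.stalk y'' ⟶ CommRingCat.of R :=
    CommRingCat.ofHom (((R'.subtype).comp γ1.hom).codRestrict R.toSubring hγ1R)
  have hγι : γ ≫ CommRingCat.ofHom ι = γ1 := by
    ext s
    exact hι _
  have hγσ : γ ≫ CommRingCat.ofHom σ = δ := by
    ext s
    change ((σ (γ.hom s) : Rt) : IsLocalRing.ResidueField R') = _
    rw [hσ, hδ']
    congr 1
    apply Subtype.ext
    exact hι _
  have hγloc : IsLocalHom γ.hom := by
    constructor
    intro s hs
    have h2 : IsUnit (σ (γ.hom s)) := hs.map _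
    have h3 : σ (γ.hom s) = δ.hom s := congrArg (fun q => q.hom s) hγσ
    rw [h3] at h2
    exact hδloc.map_nonunit _ h2
  have hsub : CommRingCat.ofHom ι ≫ CommRingCat.ofHom R'.subtype = CommRingCat.ofHom R.subtype := by
    ext a
    exact hι a
  have hσc : IsLocalHom (CommRingCat.ofHom σ).hom := hσloc
  have key3 : Spec.map (CommRingCat.ofHom ι) ≫ (Spec.map γ ≫ Y.fromSpecStalk y'') = g := by
    rw [← Spec.map_comp_assoc, hγι]
    simp only [γ1, Spec.map_comp, Category.assoc, Scheme.SpecMap_stalkSpecializes_fromSpecStalk]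
    exact hgβ
  have key4 : Spec.map (CommRingCat.ofHom σ) ≫ (Spec.map γ ≫ Y.fromSpecStalk y'') = ht := by
    rw [← Spec.map_comp_assoc, hγσ, hhtδ]
  refine ⟨Spec.map γ ≫ Y.fromSpecStalk y'', ⟨?_, ?_, key3, key4⟩, ?_⟩
  · rw [← hsub, Spec.map_comp, Category.assoc, key3, hg₁]
  · apply Groth.Agent.H6.VC.eq_of_SpecMap_comp_eq' (CommRingCat.ofHom σ) (CommRingCat.ofHom ι) hιinj
    · rw [← Category.assoc, key4, hht₂]
    · rw [← Category.assoc, key3, hg₂]
  · rintro h₂ ⟨-, -, h3, h4⟩
    apply Groth.Agent.H6.VC.eq_of_SpecMap_comp_eq' (CommRingCat.ofHom σ) (CommRingCat.ofHom ι) hιinj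
    · rw [h4, key4]
    · rw [h3, key3]

end Groth.Agent.S17898
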