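import Groth.Statements.S17900
import Groth.Agent.Lib.Helper9.Flat

set_option autoImplicit false
universe u
open TensorProduct
open Pinch

namespace Groth.Agent.S17900

/-- Let R be a commutative ring and let B' → B → A, B' → A' → A be a commutative square of R-algebras
which is a fibre square (B' = B ×_A A') with A' → A surjective. If B, A' and A are flat over R then
B' is flat over R. -/
theorem result (R B' B A' A : Type u) [CommRing R] [CommRing B'] [CommRing B] [CommRing A'] [CommRing A]
    [Algebra B' B] [Algebra B' A'] [Algebra B A] [Algebra A' A] [Algebra B' A]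
    [IsScalarTower B' B A] [IsScalarTower B' A' A]
    [Algebra R B'] [Algebra R B] [Algebra R A'] [Algebra R A]
    [IsScalarTower R B' B] [IsScalarTower R B' A'] [IsScalarTower R B' A] [IsScalarTower R B A] [IsScalarTower R A' A]
    (hsq : EtMil.IsFibreSquare B' B A' A)
    [Module.Flat R B] [Module.Flat R A'] [Module.Flat R A] :
    Module.Flat R B' := by
  obtain ⟨hsurj, hfib⟩ := hsq
  -- the difference map `B × A' → A`
  let d : (B × A') →ₗ[R] A :=
    (IsScalarTower.toAlgHom R B A).toLinearMap ∘ₗ LinearMap.fst R B A' -
      (IsScalarTower.toAlgHom R A' A).toLinearMap ∘ₗ LinearMap.snd R B A'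
  have hd_apply : ∀ p : B × A', d p = algebraMap B A p.1 - algebraMap A' A p.2 := by
    intro p; rfl
  have hd : Function.Surjective d := by
    intro a
    obtain ⟨a', ha'⟩ := hsurj (-a)
    refine ⟨(0, a'), ?_⟩
    rw [hd_apply]
    simp [ha']
  have : Module.Flat R (B × A') := Groth.Agent.H9.flat_prod
  have : Module.Flat R (LinearMap.ker d) := Groth.Agent.H9.flat_ker_of_surjective d hd
  -- the comparison map `B' → ker d`
  let φ : B' →ₗ[R] LinearMap.ker d :=
    LinearMap.codRestrict (LinearMap.ker d)
      (LinearMap.prod (IsScalarTower.toAlgHom R B' B).toLinearMap (IsScalarTower.toAlgHom R B' A').toLinearMap)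
      (by
        intro b'
        rw [LinearMap.mem_ker, hd_apply]
        show algebraMap B A (algebraMap B' B b') - algebraMap A' A (algebraMap B' A' b') = 0
        rw [← IsScalarTower.algebraMap_apply B' B A, ← IsScalarTower.algebraMap_apply B' A' A, sub_self])
  have hφ_apply : ∀ b' : B', ((φ b' : B × A')) = (algebraMap B' B b', algebraMap B' A' b') := by
    intro b'; rfl
  have hφ : Function.Bijective φ := by
    constructor
    · intro x y hxy
      have h1 : algebraMap B' B x = algebraMap B' B y := by
        have := congrArg (fun p : LinearMap.ker d => (p : B × A').1) hxy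
        simpa [hφ_apply] using this
      have h2 : algebraMap B' A' x = algebraMap B' A' y := by
        have := congrArg (fun p : LinearMap.ker d => (p : B × A').2) hxy
        simpa [hφ_apply] using this
      have hcompat : algebraMap B A (algebraMap B' B y) = algebraMap A' A (algebraMap B' A' y) := by
        rw [← IsScalarTower.algebraMap_apply B' B A, ← IsScalarTower.algebraMap_apply B' A' A]
      obtain ⟨c, _, hc⟩ := hfib _ _ hcompat
      rw [hc x ⟨h1, h2⟩, hc y ⟨rfl, rfl⟩]
    · rintro ⟨⟨b, a'⟩, hp⟩
      rw [LinearMap.mem_ker, hd_apply, sub_eq_zero] at hp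
      obtain ⟨c, ⟨hc1, hc2⟩, _⟩ := hfib b a' hp
      refine ⟨c, ?_⟩
      apply Subtype.ext
      rw [hφ_apply, hc1, hc2]
  exact Module.Flat.of_linearEquiv (LinearEquiv.ofBijective φ hφ)

end Groth.Agent.S17900
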