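import Groth.Statements.S17933
import Groth.Agent.Lib.Helper9.MultCrv

set_option autoImplicit false
universe u
open MultCrv

namespace Groth.Agent.S17933

/-- Let R be a discrete valuation ring, n ≥ 1, A = R[X]/(X^n) with z the class of X, and M a finitely
generated A-module. Then M is torsion-free as an R-module if and only if the submodule M^(1) of
elements killed by z is a free R-module. (This is the statement at a closed point of the sheaf
statement: for a primitive multiple curve of multiplicity n the local ring at a closed point is of
the form R[X]/(X^n) with R the local ring of the reduced smooth curve, torsion-freeness is the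
absence of sections with finite support, and local freeness on the reduced curve is freeness of the
stalk; the row is stated for every discrete valuation ring R.) -/
theorem result (R : Type u) [CommRing R] [IsDomain R] [IsDiscreteValuationRing R] (n : ℕ) (hn : 1 ≤ n) (M : Type u) [AddCommGroup M] [Module (MultCrv.Rn R n) M] [Module R M] [IsScalarTower R (MultCrv.Rn R n) M] [Module.Finite (MultCrv.Rn R n) M] : Module.IsTorsionFree R M ↔ Module.Free R ↥(MultCrv.filt2 R n M 1) := by
  haveI hfin : Module.Finite R M := Groth.Agent.H9.multCrv_finite_R (R := R) (n := n)
  constructor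
  · intro htf
    -- the `R`-submodule underlying `M^(1)`
    let S : Submodule R M := (MultCrv.filt2 R n M 1).restrictScalars R
    haveI : IsNoetherian R M := isNoetherian_of_isNoetherianRing_of_finite R M
    haveI : Module.Finite R S := Module.IsNoetherian.finite R S
    haveI : Module.IsTorsionFree R S :=
      Function.Injective.moduleIsTorsionFree (fun x : S => (x : M)) Subtype.val_injective
        (fun _ _ => rfl)
    haveI : Module.Free R S := Module.free_of_finite_type_torsion_free'
    let e : S ≃ₗ[R] ↥(MultCrv.filt2 R n M 1) :=
      { toFun := fun x => ⟨x.1, x.2⟩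
        invFun := fun x => ⟨x.1, x.2⟩
        map_add' := fun _ _ => rfl
        map_smul' := fun _ _ => rfl
        left_inv := fun _ => rfl
        right_inv := fun _ => rfl }
    exact Module.Free.of_equiv e
  · intro hfree
    haveI : Module.IsTorsionFree R ↥(MultCrv.filt2 R n M 1) := inferInstance
    refine ⟨fun r hr => ?_⟩
    have hr0 : r ≠ 0 := hr.ne_zero
    rw [isSMulRegular_iff_right_eq_zero_of_smul]
    intro x hx
    by_contra hne
    obtain ⟨j, hj1, hj2⟩ := Groth.Agent.H9.multCrv_exists_socle (R := R) (n := n) hne
    have hmem : MultCrv.z R n ^ j • x ∈ MultCrv.filt2 R n M 1 := by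
      show MultCrv.z R n ^ 1 • (MultCrv.z R n ^ j • x) = 0
      rw [pow_one]; exact hj2
    let y : ↥(MultCrv.filt2 R n M 1) := ⟨MultCrv.z R n ^ j • x, hmem⟩
    have hy : r • y = 0 := by
      apply Subtype.ext
      show r • (MultCrv.z R n ^ j • x) = 0
      rw [smul_comm, hx, smul_zero]
    have hy0 : y = 0 := (smul_eq_zero_iff_right hr0).mp hy
    exact hj1 (congrArg Subtype.val hy0)

end Groth.Agent.S17933
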