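import Groth.Statements.S17934
import Groth.Agent.Lib.Helper9.MultCrv

set_option autoImplicit false
universe u
open MultCrv

namespace Groth.Agent.S17934

/-- Let R be a discrete valuation ring, n ≥ 1, A = R[X]/(X^n) with z the class of X, and M a finitely
generated A-module that is torsion-free as an R-module. Then for 1 ≤ i ≤ n the graded piece
M^(i)/M^(i-1) of the second canonical filtration (M^(i) the elements killed by z^i) is a free
R-module. (Statement at a closed point of the sheaf statement on a primitive multiple curve of
multiplicity n, whose local rings are of the form R[X]/(X^n) with R the local ring of the reduced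
smooth curve; stated for every discrete valuation ring R.) -/
theorem result (R : Type u) [CommRing R] [IsDomain R] [IsDiscreteValuationRing R] (n : ℕ) (hn : 1 ≤ n) (M : Type u) [AddCommGroup M] [Module (MultCrv.Rn R n) M] [Module R M] [IsScalarTower R (MultCrv.Rn R n) M] [Module.Finite (MultCrv.Rn R n) M] [Module.IsTorsionFree R M] (i : ℕ) (hi : 1 ≤ i) (hin : i ≤ n) : Module.Free R (MultCrv.G2 R n M i) := by
  have hnoeth : IsNoetherian (MultCrv.Rn R n) M := isNoetherian_of_isNoetherianRing_of_finite _ M
  have hfinRn : Module.Finite (MultCrv.Rn R n) (MultCrv.G2 R n M i) := inferInstance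
  have hfin : Module.Finite R (MultCrv.G2 R n M i) :=
    Groth.Agent.H9.multCrv_finite_R (R := R) (n := n)
  have htf : Module.IsTorsionFree R (MultCrv.G2 R n M i) := by
    refine ⟨fun r hr => ?_⟩
    have hr0 : r ≠ 0 := hr.ne_zero
    rw [isSMulRegular_iff_right_eq_zero_of_smul]
    intro q hq
    obtain ⟨u, rfl⟩ := Submodule.Quotient.mk_surjective _ q
    rw [← Submodule.Quotient.mk_smul, Submodule.Quotient.mk_eq_zero, Submodule.mem_comap] at hq
    rw [Submodule.Quotient.mk_eq_zero, Submodule.mem_comap]
    have h1 : MultCrv.z R n ^ (i - 1) • (r • (u : M)) = 0 := hq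
    rw [smul_comm] at h1
    have h2 : MultCrv.z R n ^ (i - 1) • (u : M) = 0 := (smul_eq_zero_iff_right hr0).mp h1
    exact h2
  exact Module.free_of_finite_type_torsion_free'

end Groth.Agent.S17934
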