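import Groth.Statements.S17962

set_option autoImplicit false
open CategoryTheory CategoryTheory.Limits AlgebraicGeometry
universe u
open Hensel

namespace Groth.Agent.S17962

/-- Let i : X₀ ⟶ X be a closed immersion such that (X, X₀) is a henselian couple, i.e. for every finite
morphism g : Y ⟶ X every open-closed subset of Y ×_X X₀ is the inverse image under the first
projection of exactly one open-closed subset of Y. Then for every finite morphism h : Y ⟶ X the
couple (Y, Y ×_X X₀), with the first projection as closed immersion, is again henselian. -/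
theorem result {X X₀ : Scheme.{u}}
    (i : X₀ ⟶ X) [IsClosedImmersion i]
    (hX : ∀ (Y : Scheme.{u}) (g : Y ⟶ X), IsFinite g →
      ∀ V : Set ↥(pullback g (i)), IsClopen V →
        ∃! U : Set ↥Y, IsClopen U ∧ (pullback.fst g (i)).base ⁻¹' U = V)
    {Y : Scheme.{u}} (h : Y ⟶ X) [IsFinite h] :
    ∀ (Z : Scheme.{u}) (g : Z ⟶ Y), IsFinite g →
      ∀ V : Set ↥(pullback g (pullback.fst h i)), IsClopen V →
        ∃! U : Set ↥Z, IsClopen U ∧ (pullback.fst g (pullback.fst h i)).base ⁻¹' U = V := by
  intro Z g hg V hV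
  haveI : IsFinite g := hg
  have hgh : IsFinite (g ≫ h) := inferInstance
  let θ := pullbackRightPullbackFstIso h i g
  have hθ1 : θ.hom ≫ pullback.fst (g ≫ h) i = pullback.fst g (pullback.fst h i) :=
    pullbackRightPullbackFstIso_hom_fst h i g
  have hθ2 : θ.inv ≫ pullback.fst g (pullback.fst h i) = pullback.fst (g ≫ h) i :=
    pullbackRightPullbackFstIso_inv_fst h i g
  -- the homeomorphism underlying θ
  have hinv1 : ∀ x, θ.inv.base (θ.hom.base x) = x := by
    intro x
    have := congrArg (fun φ : pullback g (pullback.fst h i) ⟶ pullback g (pullback.fst h i) => φ.base x)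
      θ.hom_inv_id
    simpa using this
  have hinv2 : ∀ x, θ.hom.base (θ.inv.base x) = x := by
    intro x
    have := congrArg (fun φ : pullback (g ≫ h) i ⟶ pullback (g ≫ h) i => φ.base x) θ.inv_hom_id
    simpa using this
  have hfst1 : ∀ x, (pullback.fst (g ≫ h) i).base (θ.hom.base x) =
      (pullback.fst g (pullback.fst h i)).base x := by
    intro x
    have := congrArg (fun φ : pullback g (pullback.fst h i) ⟶ Z => φ.base x) hθ1
    simpa using this
  have hfst2 : ∀ x, (pullback.fst g (pullback.fst h i)).base (θ.inv.base x) =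
      (pullback.fst (g ≫ h) i).base x := by
    intro x
    have := congrArg (fun φ : pullback (g ≫ h) i ⟶ Z => φ.base x) hθ2
    simpa using this
  let V' : Set ↥(pullback (g ≫ h) i) := θ.inv.base ⁻¹' V
  have hV' : IsClopen V' := hV.preimage θ.inv.base.hom.continuous
  obtain ⟨U, ⟨hU, hUV⟩, huniq⟩ := hX Z (g ≫ h) hgh V' hV'
  refine ⟨U, ⟨hU, ?_⟩, ?_⟩
  · ext x
    have : θ.hom.base x ∈ (pullback.fst (g ≫ h) i).base ⁻¹' U ↔ θ.hom.base x ∈ V' := by rw [hUV]
    simp only [Set.mem_preimage, V', hfst1, hinv1] at this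
    exact this
  · rintro U' ⟨hU', hU'V⟩
    apply huniq
    refine ⟨hU', ?_⟩
    ext x
    have : θ.inv.base x ∈ (pullback.fst g (pullback.fst h i)).base ⁻¹' U' ↔ θ.inv.base x ∈ V := by
      rw [hU'V]
    simp only [Set.mem_preimage, hfst2] at this
    exact this

end Groth.Agent.S17962
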