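import Groth.Statements.S17974
import Mathlib.RingTheory.Unramified.Finite

set_option autoImplicit false
universe u
open Unram

namespace Groth.Agent.S17974

open TensorProduct

/-- Let A be a commutative ring, B an unramified A-algebra (formally unramified and of finite type), C
an A-algebra, p a prime ideal of C, and u, v : B → C two A-algebra homomorphisms which agree after
composition with C → C/p. Then there is an element f of C not in p such that u and v agree after
composition with the localization map C → C[1/f]. -/
theorem result
    (A : Type u) [CommRing A] (B : Type u) [CommRing B] [Algebra A B]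
    [Algebra.FormallyUnramified A B] [Algebra.FiniteType A B]
    (C : Type u) [CommRing C] [Algebra A C] (p : Ideal C) [p.IsPrime]
    (u v : B →ₐ[A] C)
    (huv : (Ideal.Quotient.mk p).comp u.toRingHom = (Ideal.Quotient.mk p).comp v.toRingHom) :
    ∃ f : C, f ∉ p ∧
      (algebraMap C (Localization.Away f)).comp u.toRingHom =
        (algebraMap C (Localization.Away f)).comp v.toRingHom := by
  haveI : Algebra.EssFiniteType A B := inferInstance
  let t : B ⊗[A] B := Algebra.FormallyUnramified.elem A B
  let w : B ⊗[A] B →ₐ[A] C := Algebra.TensorProduct.productMap u v
  have hw : ∀ x : B ⊗[A] B,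
      Ideal.Quotient.mk p (w x) = Ideal.Quotient.mk p (u (Algebra.TensorProduct.lmul' A x)) := by
    intro x
    induction x using TensorProduct.induction_on with
    | zero => simp
    | tmul b b' =>
      have h1 : Ideal.Quotient.mk p (v b') = Ideal.Quotient.mk p (u b') := by
        have := congrArg (fun φ : B →+* C ⧸ p => φ b') huv
        exact this.symm
      simp only [w, Algebra.TensorProduct.productMap_apply_tmul, map_mul,
        Algebra.TensorProduct.lmul'_apply_tmul, h1]
    | add x y hx hy => simp only [map_add, hx, hy]
  refine ⟨w t, ?_, ?_⟩
  · intro hmem
    have h1 : Ideal.Quotient.mk p (w t) = 1 := by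
      rw [hw t, Algebra.FormallyUnramified.lmul_elem, map_one, map_one]
    rw [Ideal.Quotient.eq_zero_iff_mem.mpr hmem] at h1
    have : (1 : C ⧸ p) ≠ 0 := one_ne_zero
    exact this h1.symm
  · apply RingHom.ext
    intro b
    have h1 : (v b - u b) * w t = 0 := by
      have h2 := congrArg w (Algebra.FormallyUnramified.one_tmul_sub_tmul_one_mul_elem (R := A) b)
      simpa [w, t, Algebra.TensorProduct.productMap_apply_tmul] using h2
    have h3 := congrArg (algebraMap C (Localization.Away (w t))) h1
    rw [map_mul, map_zero] at h3
    have hunit : IsUnit (algebraMap C (Localization.Away (w t)) (w t)) :=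
      IsLocalization.Away.algebraMap_isUnit (w t)
    have h4 := hunit.mul_left_eq_zero.mp h3
    rw [map_sub, sub_eq_zero] at h4
    exact h4.symm

end Groth.Agent.S17974
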