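import Groth.Statements.S17975
import Mathlib

set_option autoImplicit false
universe u
open Hensel

namespace Groth.Agent.S17975

/-- Let A be a local ring with maximal ideal m and residue field k, C a commutative A-algebra which is
finitely generated as an A-module, Q₀ a monic polynomial of degree n over k, e an A-algebra
isomorphism from C/mC to k[T]/(Q₀), and x an element of C whose class is sent by e to the class of
T. Then x generates C as an A-algebra, and x is a root of a monic polynomial Q over A of degree n
whose reduction modulo m equals Q₀. -/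
theorem result
    (A : Type u) [CommRing A] [IsLocalRing A] (C : Type u) [CommRing C] [Algebra A C] [Module.Finite A C]
    (Q₀ : Polynomial (IsLocalRing.ResidueField A)) (hQ₀ : Q₀.Monic)
    (e : (C ⧸ Ideal.map (algebraMap A C) (IsLocalRing.maximalIdeal A)) ≃ₐ[A] AdjoinRoot Q₀)
    (x : C) (hx : e (Ideal.Quotient.mk (Ideal.map (algebraMap A C) (IsLocalRing.maximalIdeal A)) x) = AdjoinRoot.root Q₀) :
    Algebra.adjoin A {x} = ⊤ ∧
      ∃ Q : Polynomial A, Q.Monic ∧ Q.natDegree = Q₀.natDegree ∧
        Polynomial.map (IsLocalRing.residue A) Q = Q₀ ∧ Polynomial.aeval x Q = 0 := by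
  classical
  obtain ⟨n, hn⟩ : ∃ n, n = Q₀.natDegree := ⟨_, rfl⟩
  set mk := Ideal.Quotient.mk (Ideal.map (algebraMap A C) (IsLocalRing.maximalIdeal A)) with hmk
  set N' : Submodule A C := Submodule.span A (Set.range fun i : Fin n => x ^ (i : ℕ)) with hN'
  have hjac : IsLocalRing.maximalIdeal A ≤ Ideal.jacobson ⊥ :=
    IsLocalRing.maximalIdeal_le_jacobson ⊥
  have hfg : (⊤ : Submodule A C).FG := Module.Finite.fg_top
  -- evaluation through `e`
  have hE : ∀ G : Polynomial A, e (mk (Polynomial.aeval x G))
      = AdjoinRoot.mk Q₀ (G.map (IsLocalRing.residue A)) := by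
    intro G
    have h1 : mk (Polynomial.aeval x G) = Polynomial.aeval (mk x) G :=
      (Polynomial.aeval_algHom_apply (Ideal.Quotient.mkₐ A _) x G).symm
    rw [h1, ← Polynomial.aeval_algHom_apply e, hx, AdjoinRoot.aeval_eq_of_algebra]
    rfl
  have hsumeval : ∀ a : Fin n → A,
      Polynomial.aeval x (∑ i : Fin n, Polynomial.C (a i) * Polynomial.X ^ (i : ℕ))
        = ∑ i : Fin n, a i • x ^ (i : ℕ) := by
    intro a
    rw [map_sum]
    refine Finset.sum_congr rfl fun i _ => ?_
    rw [map_mul, Polynomial.aeval_C, map_pow, Polynomial.aeval_X, Algebra.smul_def]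
  -- key: every element is in N' + mC
  have hkey : (⊤ : Submodule A C) ≤ N' ⊔ (IsLocalRing.maximalIdeal A) • (⊤ : Submodule A C) := by
    rintro c -
    obtain ⟨g', hg'⟩ := AdjoinRoot.mk_surjective (e (mk c))
    set g := g' %ₘ Q₀ with hg
    have hgmk : AdjoinRoot.mk Q₀ g = e (mk c) := by
      rw [← hg', AdjoinRoot.mk_eq_mk]
      refine ⟨-(g' /ₘ Q₀), ?_⟩
      have := Polynomial.modByMonic_add_div g' Q₀
      rw [hg]; linear_combination this
    have hgcoeff : ∀ j, n ≤ j → g.coeff j = 0 := by
      intro j hj
      by_cases h1 : Q₀ = 1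
      · rw [hg, h1, Polynomial.modByMonic_one]; simp
      · apply Polynomial.coeff_eq_zero_of_degree_lt
        have := Polynomial.degree_modByMonic_lt g' hQ₀
        rw [Polynomial.degree_eq_natDegree hQ₀.ne_zero, ← hn] at this
        exact lt_of_lt_of_le this (by exact_mod_cast hj)
    choose lift hlift using IsLocalRing.residue_surjective (R := A)
    set G : Polynomial A :=
      ∑ i : Fin n, Polynomial.C (lift (g.coeff i)) * Polynomial.X ^ (i : ℕ) with hG
    have hGmap : G.map (IsLocalRing.residue A) = g := by
      ext j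
      rw [hG, Polynomial.map_sum, Polynomial.finsetSum_coeff]
      simp only [Polynomial.map_mul, Polynomial.map_C, Polynomial.map_pow, Polynomial.map_X,
        Polynomial.coeff_C_mul_X_pow, hlift]
      by_cases hj : j < n
      · rw [Finset.sum_eq_single ⟨j, hj⟩]
        · simp
        · intro i _ hi
          rw [if_neg]
          intro h; exact hi (Fin.ext h.symm)
        · intro h; exact absurd (Finset.mem_univ _) h
      · rw [hgcoeff j (not_lt.mp hj)]
        apply Finset.sum_eq_zero
        intro i _
        rw [if_neg]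
        intro h; exact hj (h ▸ i.2)
    have hyN : Polynomial.aeval x G ∈ N' := by
      rw [hG, hsumeval]
      exact Submodule.sum_mem _ fun i _ =>
        Submodule.smul_mem _ _ (Submodule.subset_span ⟨i, rfl⟩)
    have hdiff : c - Polynomial.aeval x G ∈
        (IsLocalRing.maximalIdeal A) • (⊤ : Submodule A C) := by
      rw [Ideal.smul_top_eq_map]
      show c - Polynomial.aeval x G ∈ Ideal.map (algebraMap A C) (IsLocalRing.maximalIdeal A)
      rw [← Ideal.Quotient.eq_zero_iff_mem]
      apply e.injective
      rw [map_zero, map_sub, map_sub, hE, hGmap, hgmk, sub_self]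
    have : c = Polynomial.aeval x G + (c - Polynomial.aeval x G) := by ring
    rw [this]
    exact Submodule.add_mem_sup hyN hdiff
  have hNtop : N' = ⊤ :=
    top_le_iff.mp (Submodule.le_of_le_smul_of_le_jacobson_bot hfg hjac hkey)
  constructor
  · -- adjoin = ⊤
    rw [eq_top_iff]
    intro c _
    have hc : c ∈ N' := by rw [hNtop]; trivial
    have hle : N' ≤ Subalgebra.toSubmodule (Algebra.adjoin A {x}) := by
      rw [hN', Submodule.span_le]
      rintro _ ⟨i, rfl⟩
      exact Subalgebra.pow_mem _ (Algebra.subset_adjoin (Set.mem_singleton x)) _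
    exact hle hc
  · have hxn : x ^ n ∈ N' := by rw [hNtop]; trivial
    obtain ⟨a, ha⟩ := (Submodule.mem_span_range_iff_exists_fun A).mp hxn
    have hdeg : (∑ i : Fin n, Polynomial.C (a i) * Polynomial.X ^ (i : ℕ)).degree < (n : WithBot ℕ) :=
      Polynomial.degree_sum_fin_lt a
    set Q : Polynomial A :=
      Polynomial.X ^ n - ∑ i : Fin n, Polynomial.C (a i) * Polynomial.X ^ (i : ℕ) with hQ
    have hQmonic : Q.Monic := Polynomial.monic_X_pow_sub hdeg
    have hQdeg : Q.natDegree = n := by
      apply Polynomial.natDegree_eq_of_degree_eq_some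
      rw [hQ, Polynomial.degree_sub_eq_left_of_degree_lt]
      · exact Polynomial.degree_X_pow n
      · rw [Polynomial.degree_X_pow]; exact hdeg
    have hQx : Polynomial.aeval x Q = 0 := by
      rw [hQ, map_sub, hsumeval, map_pow, Polynomial.aeval_X, ha, sub_self]
    have hQbar : (Q.map (IsLocalRing.residue A)) = Q₀ := by
      apply Polynomial.eq_of_monic_of_dvd_of_natDegree_le hQ₀ (hQmonic.map _)
      · rw [← AdjoinRoot.mk_eq_zero, ← hE, hQx, map_zero, map_zero]
      · rw [hQmonic.natDegree_map, hQdeg, hn]
    exact ⟨Q, hQmonic, hQdeg.trans hn, hQbar, hQx⟩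

end Groth.Agent.S17975
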