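import Groth.Statements.S17976
import Groth.Agent.Lib.Helper8.PairHens.FinitePart
-- import your own Groth.Agent.* helpers here

set_option autoImplicit false
universe u
open Hensel

namespace Groth.Agent.S17976

/-- Let A be a commutative ring, I an ideal of A and B an A-algebra of finite type such that B/IB is a
finite A-module. Then there exist an etale A-algebra A' such that A → A'/IA' is surjective with
kernel I, and a commutative ring C which is an A'-algebra finite over A' and an etale B-algebra,
with compatible A-algebra structures, such that B → C/IC is surjective with kernel IB. In scheme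
language: an etale affine neighbourhood S' of Spec (A/I) in Spec A and an etale neighbourhood Z =
Spec C of Spec (B/IB) in Spec B, finite over S', forming a commutative square. -/
theorem result
    (A : Type u) [CommRing A] (I : Ideal A) (B : Type u) [CommRing B] [Algebra A B] [Algebra.FiniteType A B]
    (hfin : Module.Finite A (B ⧸ Ideal.map (algebraMap A B) I)) :
    ∃ (A' : Type u) (_ : CommRing A') (_ : Algebra A A') (_ : Algebra.Etale A A')
      (C : Type u) (_ : CommRing C) (_ : Algebra A C) (_ : Algebra A' C) (_ : Algebra B C)
      (_ : IsScalarTower A A' C) (_ : IsScalarTower A B C),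
      Function.Surjective ((Ideal.Quotient.mk (Ideal.map (algebraMap A A') I)).comp (algebraMap A A')) ∧
      RingHom.ker ((Ideal.Quotient.mk (Ideal.map (algebraMap A A') I)).comp (algebraMap A A')) = I ∧
      Algebra.Etale B C ∧ Module.Finite A' C ∧
      Function.Surjective ((Ideal.Quotient.mk (Ideal.map (algebraMap A C) I)).comp (algebraMap B C)) ∧
      RingHom.ker ((Ideal.Quotient.mk (Ideal.map (algebraMap A C) I)).comp (algebraMap B C)) =
        Ideal.map (algebraMap A B) I := by
  classical
  haveI := hfin
  obtain ⟨A', _, _, _, h, e, he, heI, hefin⟩ :=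
    Groth.Agent.H8.PairHens.exists_etale_idempotent_finite A I B
  letI := Algebra.TensorProduct.rightAlgebra (R := A) (A := A') (B := B)
  haveI : Algebra.Etale B (TensorProduct A A' B) :=
    Algebra.Etale.of_equiv (Algebra.TensorProduct.commRight A B A')
  haveI : IsLocalization.Away e ((TensorProduct A A' B) ⧸ Ideal.span {1 - e}) :=
    IsLocalization.Away.quotient_of_isIdempotentElem he
  haveI : Algebra.Etale (TensorProduct A A' B) ((TensorProduct A A' B) ⧸ Ideal.span {1 - e}) :=
    Algebra.Etale.of_isLocalizationAway e
  have hle : Ideal.span {1 - e} ≤ I.map (algebraMap A (TensorProduct A A' B)) := by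
    rw [Ideal.span_singleton_le_iff_mem]
    exact heI
  have hIC : I.map (algebraMap A ((TensorProduct A A' B) ⧸ Ideal.span {1 - e})) =
      (I.map (algebraMap A (TensorProduct A A' B))).map (Ideal.Quotient.mk (Ideal.span {1 - e})) := by
    rw [Ideal.map_map]
    rfl
  refine ⟨A', inferInstance, inferInstance, inferInstance,
    (TensorProduct A A' B) ⧸ Ideal.span {1 - e}, inferInstance, inferInstance, inferInstance,
    inferInstance, inferInstance, inferInstance, ?_, ?_, ?_, hefin, ?_, ?_⟩
  · intro y
    obtain ⟨ab, hab⟩ := h.2 y
    obtain ⟨a, rfl⟩ := Ideal.Quotient.mk_surjective ab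
    exact ⟨a, hab⟩
  · ext a
    rw [RingHom.mem_ker]
    constructor
    · intro ha
      have h1 : Ideal.quotientMap (I.map (algebraMap A A')) (algebraMap A A') Ideal.le_comap_map
          (Ideal.Quotient.mk I a) = 0 := ha
      have h2 := h.1 (h1.trans (map_zero _).symm)
      exact Ideal.Quotient.eq_zero_iff_mem.mp h2
    · intro ha
      exact Ideal.Quotient.eq_zero_iff_mem.mpr (Ideal.mem_map_of_mem _ ha)
  · exact Algebra.Etale.comp B (TensorProduct A A' B) _
  · intro y
    obtain ⟨c, rfl⟩ := Ideal.Quotient.mk_surjective y
    obtain ⟨z, rfl⟩ := Ideal.Quotient.mk_surjective c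
    obtain ⟨b, hb⟩ := Groth.Agent.H8.PairHens.exists_sub_one_tmul_mem B h z
    refine ⟨b, ?_⟩
    rw [RingHom.comp_apply, Ideal.Quotient.eq, hIC]
    have : algebraMap B ((TensorProduct A A' B) ⧸ Ideal.span {1 - e}) b -
        Ideal.Quotient.mk (Ideal.span {1 - e}) z =
        Ideal.Quotient.mk (Ideal.span {1 - e}) (-(z - TensorProduct.tmul A (1 : A') b)) := by
      rw [map_neg, map_sub]
      change _ = -(_ - algebraMap B ((TensorProduct A A' B) ⧸ Ideal.span {1 - e}) b)
      ring
    rw [this]
    exact Ideal.mem_map_of_mem _ (neg_mem hb)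
  · ext b
    rw [RingHom.mem_ker, RingHom.comp_apply, Ideal.Quotient.eq_zero_iff_mem]
    constructor
    · intro hb
      rw [hIC, Ideal.mem_map_iff_of_surjective _ Ideal.Quotient.mk_surjective] at hb
      obtain ⟨x, hx, hxb⟩ := hb
      have h1 : x - TensorProduct.tmul A (1 : A') b ∈ Ideal.span {1 - e} :=
        Ideal.Quotient.eq.mp hxb
      have h2 : TensorProduct.tmul A (1 : A') b ∈ I.map (algebraMap A (TensorProduct A A' B)) := by
        have : TensorProduct.tmul A (1 : A') b = x - (x - TensorProduct.tmul A (1 : A') b) := by ring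
        rw [this]
        exact sub_mem hx (hle h1)
      have h3 := Groth.Agent.H8.PairHens.rho_eq_zero_of_mem B h.section _ h2
      rw [Groth.Agent.H8.PairHens.rho_one_tmul, Ideal.Quotient.eq_zero_iff_mem] at h3
      exact h3
    · intro hb
      have h1 : algebraMap B ((TensorProduct A A' B) ⧸ Ideal.span {1 - e}) b ∈
          (I.map (algebraMap A B)).map
            (algebraMap B ((TensorProduct A A' B) ⧸ Ideal.span {1 - e})) :=
        Ideal.mem_map_of_mem _ hb
      rwa [Ideal.map_map, ← IsScalarTower.algebraMap_eq] at h1

end Groth.Agent.S17976
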