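import Groth.Statements.S17977
import Mathlib.RingTheory.Unramified.LocalRing
import Mathlib.RingTheory.Etale.Basic
import Mathlib.RingTheory.Localization.AtPrime.Basic

set_option autoImplicit false
universe u
open EGA4loc

namespace Groth.Agent.S17977

/-- Let A be a local ring, B a local ring which is a local-etale A-algebra, and C a local ring with a
local structure map A → C. Then every A-algebra homomorphism B → C is local. (The source states this
for local ind-etale B, i.e. filtered colimits of local-etale algebras along local maps, and reduces
at once to the local-etale case stated here.) -/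
theorem result (A : Type u) [CommRing A] [IsLocalRing A]
    (B : Type u) [CommRing B] [IsLocalRing B] [Algebra A B] (hB : EGA4loc.IsEssentiallyEtale A B)
    (C : Type u) [CommRing C] [IsLocalRing C] [Algebra A C] [IsLocalHom (algebraMap A C)]
    (φ : B →ₐ[A] C) : IsLocalHom φ.toRingHom := by
  obtain ⟨E, _, _, q, _, hEt, hq, ⟨e⟩⟩ := hB
  have : Algebra.FormallyUnramified A E := inferInstance
  have : Algebra.FiniteType A E := inferInstance
  have hunrL : Algebra.FormallyUnramified A (Localization.AtPrime q) := inferInstance
  have hessL : Algebra.EssFiniteType A (Localization.AtPrime q) := inferInstance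
  have hunrB : Algebra.FormallyUnramified A B := Algebra.FormallyUnramified.of_equiv e.symm
  have hessB : Algebra.EssFiniteType A B := (Algebra.EssFiniteType.iff_of_algEquiv e.symm).mp hessL
  have hlocAB : IsLocalHom (algebraMap A B) := by
    refine ⟨fun a ha => ?_⟩
    have h1 : IsUnit (e (algebraMap A B a)) := ha.map e
    rw [AlgEquiv.commutes, IsScalarTower.algebraMap_apply A E (Localization.AtPrime q),
      IsLocalization.AtPrime.isUnit_to_map_iff (Localization.AtPrime q) q] at h1
    by_contra hnu
    have h2 : a ∈ IsLocalRing.maximalIdeal A := (IsLocalRing.mem_maximalIdeal a).mpr hnu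
    rw [← hq, Ideal.mem_comap] at h2
    exact h1 h2
  have hmap : (IsLocalRing.maximalIdeal A).map (algebraMap A B) = IsLocalRing.maximalIdeal B :=
    Algebra.FormallyUnramified.map_maximalIdeal
  refine ⟨fun b hb => ?_⟩
  by_contra hnu
  have h1 : b ∈ IsLocalRing.maximalIdeal B := (IsLocalRing.mem_maximalIdeal b).mpr hnu
  rw [← hmap] at h1
  have h2 : φ.toRingHom b ∈ ((IsLocalRing.maximalIdeal A).map (algebraMap A B)).map φ.toRingHom :=
    Ideal.mem_map_of_mem _ h1
  rw [Ideal.map_map] at h2
  have h3 : φ.toRingHom.comp (algebraMap A B) = algebraMap A C := by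
    apply RingHom.ext
    intro a
    exact φ.commutes a
  rw [h3] at h2
  have h4 : (IsLocalRing.maximalIdeal A).map (algebraMap A C) ≤ IsLocalRing.maximalIdeal C :=
    ((IsLocalRing.local_hom_TFAE (algebraMap A C)).out 0 2 rfl rfl).mp inferInstance
  exact (IsLocalRing.mem_maximalIdeal _).mp (h4 h2) hb

end Groth.Agent.S17977
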