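import Groth.Statements.S17978
import Groth.Agent.S17974
import Mathlib.RingTheory.Etale.Basic
import Mathlib.RingTheory.Localization.AtPrime.Basic

set_option autoImplicit false
universe u
open EGA4loc

namespace Groth.Agent.S17978

/-- Let A be a local ring, B a local ring which is a local-etale A-algebra, and C a local ring with a
local structure map A → C. Then two A-algebra homomorphisms B → C which agree after composition with
the residue map of C are equal; in other words an A-algebra map B → C is determined by the map it
induces on residue fields. (The source states this for local ind-etale B and reduces to the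
local-etale case stated here; C is an arbitrary local A-algebra with local structure map.) -/
theorem result (A : Type u) [CommRing A] [IsLocalRing A]
    (B : Type u) [CommRing B] [IsLocalRing B] [Algebra A B] (hB : EGA4loc.IsEssentiallyEtale A B)
    (C : Type u) [CommRing C] [IsLocalRing C] [Algebra A C] [IsLocalHom (algebraMap A C)]
    (u v : B →ₐ[A] C)
    (h : (IsLocalRing.residue C).comp u.toRingHom = (IsLocalRing.residue C).comp v.toRingHom) :
    u = v := by
  obtain ⟨E, _, _, q, _, hEt, _, ⟨e⟩⟩ := hB
  have : Algebra.FormallyUnramified A E := inferInstance
  have : Algebra.FiniteType A E := inferInstance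
  -- the two induced maps `E → C`
  let ι : E →ₐ[A] Localization.AtPrime q := IsScalarTower.toAlgHom A E (Localization.AtPrime q)
  let u' : E →ₐ[A] C := (u.comp e.symm.toAlgHom).comp ι
  let v' : E →ₐ[A] C := (v.comp e.symm.toAlgHom).comp ι
  have huv' : (Ideal.Quotient.mk (IsLocalRing.maximalIdeal C)).comp u'.toRingHom =
      (Ideal.Quotient.mk (IsLocalRing.maximalIdeal C)).comp v'.toRingHom := by
    apply RingHom.ext
    intro x
    have := congrArg (fun φ : B →+* IsLocalRing.ResidueField C => φ (e.symm (ι x))) h
    exact this
  obtain ⟨f, hf, hfeq⟩ := Groth.Agent.S17974.result A E C (IsLocalRing.maximalIdeal C) u' v' huv'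
  have hfunit : IsUnit f := by
    by_contra hnu
    exact hf ((IsLocalRing.mem_maximalIdeal f).mpr hnu)
  have hinj : Function.Injective (algebraMap C (Localization.Away f)) := by
    apply IsLocalization.injective (M := Submonoid.powers f)
    rintro _ ⟨n, rfl⟩
    exact (hfunit.pow n).mem_nonZeroDivisors
  have hE : ∀ x : E, u' x = v' x := by
    intro x
    apply hinj
    exact congrArg (fun φ : E →+* Localization.Away f => φ x) hfeq
  -- extend to the localization
  have hloc : (u.comp e.symm.toAlgHom).toRingHom = (v.comp e.symm.toAlgHom).toRingHom := by
    apply IsLocalization.ringHom_ext q.primeCompl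
    apply RingHom.ext
    intro x
    exact hE x
  apply AlgHom.ext
  intro b
  have := congrArg (fun φ : Localization.AtPrime q →+* C => φ (e b)) hloc
  simpa using this

end Groth.Agent.S17978
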