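import Groth.Statements.S17981
import Mathlib.RingTheory.Ideal.GoingUp
import Mathlib.RingTheory.IntegralClosure.IsIntegralClosure.Basic

set_option autoImplicit false
universe u
open Hensel

namespace Groth.Agent.S17981

/-- Let A be a commutative ring, I an ideal contained in the Jacobson radical of A, and B a commutative
A-algebra which is finitely generated as an A-module. Then two idempotents of B with the same image
in B/IB are equal. -/
theorem result (A : Type u) [CommRing A] (I : Ideal A)
    (hI : I ≤ Ideal.jacobson ⊥) (B : Type u) [CommRing B] [Algebra A B] [Module.Finite A B] :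
    Set.InjOn (Ideal.Quotient.mk (Ideal.map (algebraMap A B) I)) {e : B | IsIdempotentElem e} := by
  -- `I B` is contained in the Jacobson radical of `B`
  have hIB : Ideal.map (algebraMap A B) I ≤ Ideal.jacobson (⊥ : Ideal B) := by
    rw [Ideal.map_le_iff_le_comap]
    intro a ha
    rw [Ideal.mem_comap, Ideal.jacobson, Ideal.mem_sInf]
    rintro m ⟨-, hm⟩
    haveI := hm
    haveI : Algebra.IsIntegral A B := Algebra.IsIntegral.of_finite A B
    have hmax : (m.comap (algebraMap A B)).IsMaximal :=
      Ideal.isMaximal_comap_of_isIntegral_of_isMaximal (R := A) m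
    have h1 : a ∈ Ideal.jacobson (⊥ : Ideal A) := hI ha
    rw [Ideal.jacobson, Ideal.mem_sInf] at h1
    have := h1 (show m.comap (algebraMap A B) ∈ {J | ⊥ ≤ J ∧ J.IsMaximal} from ⟨bot_le, hmax⟩)
    exact this
  intro e he e' he' hee'
  rw [Set.mem_ofPred_eq] at he he'
  have hd : e - e' ∈ Ideal.jacobson (⊥ : Ideal B) := by
    apply hIB
    rw [← Ideal.Quotient.eq_zero_iff_mem, map_sub, hee', sub_self]
  have hunit : IsUnit ((e - e') * (-(e - e')) + 1) := Ideal.mem_jacobson_bot.mp hd _
  have he2 : e * e = e := he
  have he2' : e' * e' = e' := he'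
  have hcube : (e - e') * ((e - e') * (-(e - e')) + 1) = 0 := by
    have : (e - e') * ((e - e') * (-(e - e')) + 1) =
        (e - e') - (e * e * e - 3 * (e * e) * e' + 3 * e * (e' * e') - e' * e' * e') := by ring
    rw [this, he2, he2', he2, he2']
    ring
  have := hunit.mul_left_eq_zero.mp hcube
  exact sub_eq_zero.mp this

end Groth.Agent.S17981
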