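import Groth.Statements.S18015
import Mathlib.RingTheory.Ideal.AssociatedPrime.Finiteness
import Mathlib.Algebra.Homology.ShortComplex.ModuleCat
import Mathlib.RingTheory.Finiteness.Finsupp
import Mathlib.RingTheory.Noetherian.Basic

set_option autoImplicit false
universe u
open CategoryTheory
open Coh

namespace Groth.Agent.S18015

/-- Let A be a Noetherian commutative ring and F an additive functor from A-modules to A-modules which
is half-exact, i.e. for every short exact sequence 0 → M' → M → M'' → 0 the sequence F(M') → F(M) →
F(M'') is exact at F(M). Then F(M) is a finitely generated A-module for every finitely generated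
A-module M if and only if F(A/p) is a finitely generated A-module for every prime ideal p of A. (The
published statement takes F from quasi-coherent sheaves on Spec A to abelian groups, with A acting
on each F(M) through F; this row allows any additive functor between A-module categories, A-linear
or not, and the same argument applies, since it uses only that each map F(f) is A-linear.) -/
theorem result {A : Type u} [CommRing A] [IsNoetherianRing A]
    (F : ModuleCat.{u} A ⥤ ModuleCat.{u} A) [F.Additive]
    (hF : ∀ S : ShortComplex (ModuleCat.{u} A), S.ShortExact → (S.map F).Exact) :
    (∀ M : ModuleCat.{u} A, Module.Finite A M → Module.Finite A (F.obj M)) ↔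
      ∀ p : PrimeSpectrum A, Module.Finite A (F.obj (ModuleCat.of A (A ⧸ p.asIdeal))) := by
  constructor
  · intro h p
    exact h _ (by
      show Module.Finite A (A ⧸ p.asIdeal)
      infer_instance)
  · intro h M hM
    -- prove it for `ModuleCat.of A N` by the prime filtration induction
    suffices hmot : ∀ (N : Type u) [AddCommGroup N] [Module A N] [Module.Finite A N],
        Module.Finite A (F.obj (ModuleCat.of A N)) by
      exact hmot M
    intro N _ _ hN
    refine IsNoetherianRing.induction_on_isQuotientEquivQuotientPrime A hN
      (motive := fun N _ _ _ => Module.Finite A (F.obj (ModuleCat.of A N))) ?_ ?_ ?_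
    · intro N _ _ _ _
      have hz : Limits.IsZero (ModuleCat.of A N) := ModuleCat.isZero_of_subsingleton _
      have hz' : Limits.IsZero (F.obj (ModuleCat.of A N)) := F.map_isZero hz
      haveI : Subsingleton (F.obj (ModuleCat.of A N)) := ModuleCat.subsingleton_of_isZero hz'
      infer_instance
    · intro N _ _ _ p e
      have hp := h p
      let e' : F.obj (ModuleCat.of A N) ≅ F.obj (ModuleCat.of A (A ⧸ p.asIdeal)) :=
        F.mapIso e.toModuleIso
      exact Module.Finite.equiv e'.toLinearEquiv.symm
    · intro N₁ _ _ _ N₂ _ _ _ N₃ _ _ _ f g hf hg hfg h₁ h₃
      let S : ShortComplex (ModuleCat.{u} A) :=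
        ShortComplex.mk (ModuleCat.ofHom f) (ModuleCat.ofHom g) (by
          ext x
          exact hfg.apply_apply_eq_zero x)
      have hS : S.ShortExact := ModuleCat.shortComplex_shortExact S hfg hf hg
      have hex : (S.map F).Exact := hF S hS
      have hrk : LinearMap.range (S.map F).f.hom = LinearMap.ker (S.map F).g.hom :=
        hex.moduleCat_range_eq_ker
      -- the kernel of `F g` is finitely generated, and so is the quotient by it
      let K : Submodule A (F.obj (ModuleCat.of A N₂)) := LinearMap.ker (S.map F).g.hom
      haveI : Module.Finite A K := by
        have : Module.Finite A (LinearMap.range (S.map F).f.hom) := by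
          haveI : Module.Finite A ↑(S.map F).X₁ := h₁
          exact Module.Finite.range _
        rw [hrk] at this
        exact this
      haveI : Module.Finite A (F.obj (ModuleCat.of A N₂) ⧸ K) := by
        haveI : Module.Finite A ↑(S.map F).X₃ := h₃
        haveI : IsNoetherian A ↑(S.map F).X₃ :=
          isNoetherian_of_isNoetherianRing_of_finite A _
        haveI : Module.Finite A (LinearMap.range (S.map F).g.hom) :=
          Module.IsNoetherian.finite A _
        exact Module.Finite.equiv (LinearMap.quotKerEquivRange (S.map F).g.hom).symm
      exact Module.Finite.of_submodule_quotient K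

end Groth.Agent.S18015
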