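import Groth.Statements.S18026
import Mathlib
import Groth.Agent.Lib.Helper1.HensFin2

set_option autoImplicit false
universe u
open Hensel

namespace Groth.Agent.S18026

open AlgebraicGeometry CategoryTheory in
/-- Let `A` be a henselian discrete valuation ring and `f : T ⟶ Spec A` an étale surjective morphism of
schemes. Then some open subscheme `U` of `T` is finite over `Spec A` and still maps onto it; in
particular `U → Spec A` is a finite étale cover sitting inside `T` as an open subscheme (étaleness
of the restriction is automatic, and surjectivity records that `U` meets the closed fibre). (The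
published statement asks for an open component of `T` finite étale over `Spec A`; when `T` is not
separated — two copies of `Spec A` glued along the generic point — no open and closed subset of `T`
is finite over `Spec A`, while the published proof constructs an open subscheme, the spectrum of the
local ring of `T` at a point of the closed fibre; so this row asks only for an open subscheme.) -/
theorem result
    (A : Type u) [CommRing A] [IsDomain A] [IsDiscreteValuationRing A] [HenselianLocalRing A]
    (T : Scheme.{u}) (f : T ⟶ Spec (CommRingCat.of A)) [Etale f] [Surjective f] :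
    ∃ U : T.Opens, IsFinite (U.ι ≫ f) ∧ Surjective (U.ι ≫ f) := by
  haveI : LocallyQuasiFinite f := by
    rw [HasRingHomProperty.iff_appLE (P := @LocallyQuasiFinite)]
    intro U V e
    have h1 : (f.appLE U.1 V.1 e).hom.FiniteType := f.finiteType_appLE U.2 V.2 e
    have h2 : (f.appLE U.1 V.1 e).hom.FormallyUnramified :=
      FormallyUnramified.formallyUnramified_appLE f U.2 V.2 e
    algebraize [(f.appLE U.1 V.1 e).hom]
    exact RingHom.quasiFinite_algebraMap.mpr inferInstance
  obtain ⟨x, hx⟩ := f.surjective (IsLocalRing.closedPoint A)
  obtain ⟨W, hxW, hW⟩ := Groth.Agent.H1.HensFin.exists_finite_open_nbhd_spec A f x hx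
  refine ⟨W, hW, ⟨?_⟩⟩
  have hopen : IsOpenMap (W.ι ≫ f) := (W.ι ≫ f).isOpenMap
  let O : (Spec (CommRingCat.of A)).Opens := ⟨Set.range (W.ι ≫ f), hopen.isOpen_range⟩
  have hmem : IsLocalRing.closedPoint A ∈ O := ⟨⟨x, hxW⟩, hx⟩
  have htop : O = ⊤ := (IsLocalRing.closedPoint_mem_iff _).mp hmem
  intro y
  have : y ∈ O := by rw [htop]; trivial
  exact this

end Groth.Agent.S18026
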