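import Groth.Statements.S18049
import Mathlib.Tactic

set_option autoImplicit false
open STCI

namespace Groth.Agent.S18049

/-- For natural numbers 0 < k < N such that k does not divide N, ⌊N/k⌋ ≤ (N - k)/gcd(k, N); stated here
in the equivalent cleared form ⌊N/k⌋ · gcd(k, N) ≤ N - k. -/
theorem result (k N : ℕ) (hk : 0 < k) (hkN : k < N) (hndvd : ¬ k ∣ N) :
    N / k * Nat.gcd k N ≤ N - k := by
  set g := Nat.gcd k N with hg
  have hgpos : 0 < g := Nat.gcd_pos_of_pos_left N hk
  obtain ⟨k', hk'⟩ : g ∣ k := Nat.gcd_dvd_left k N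
  obtain ⟨n', hn'⟩ : g ∣ N := Nat.gcd_dvd_right k N
  have hk'pos : 0 < k' := by
    rcases Nat.eq_zero_or_pos k' with h | h
    · rw [h, mul_zero] at hk'; omega
    · exact h
  -- `k' ≠ 1` because `k ∤ N`
  have hk'ne : k' ≠ 1 := by
    intro h1
    apply hndvd
    rw [h1, mul_one] at hk'
    rw [hk']
    exact Nat.gcd_dvd_right k N
  have hk'2 : 2 ≤ k' := by omega
  -- `N / k = n' / k'`
  have hdiv : N / k = n' / k' := by
    rw [hk', hn', Nat.mul_div_mul_left _ _ hgpos]
  -- `k' ∤ n'`
  have hndvd' : ¬ k' ∣ n' := by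
    intro h
    apply hndvd
    rw [hk', hn']
    exact Nat.mul_dvd_mul_left g h
  set d := n' / k' with hd
  have hr := Nat.div_add_mod n' k'
  have hrpos : 0 < n' % k' := by
    rcases Nat.eq_zero_or_pos (n' % k') with h | h
    · exact absurd (Nat.dvd_of_mod_eq_zero h) hndvd'
    · exact h
  have hrlt : n' % k' < k' := Nat.mod_lt _ hk'pos
  have hkn' : k' < n' := by
    have : g * k' < g * n' := by rw [← hk', ← hn']; exact hkN
    exact Nat.lt_of_mul_lt_mul_left this
  have hd1 : 1 ≤ d := by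
    rw [hd]
    exact Nat.div_pos hkn'.le hk'pos
  -- main inequality: `d ≤ n' - k'`
  have hmain : d + k' ≤ n' := by
    have h1 : k' * d + n' % k' = n' := hr
    have h2 : 2 * d ≤ k' * d := Nat.mul_le_mul_right d hk'2
    have h3 : k' * (d - 1) + k' = k' * d := by
      rw [← Nat.mul_succ]; congr 1; omega
    have h4 : 2 * (d - 1) ≤ k' * (d - 1) := Nat.mul_le_mul_right (d - 1) hk'2
    omega
  rw [hdiv, hk', hn']
  have : N - k = g * (n' - k') := by rw [hk', hn', Nat.mul_sub]
  calc d * g = g * d := mul_comm _ _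
    _ ≤ g * (n' - k') := Nat.mul_le_mul_left g (by omega)
    _ = g * n' - g * k' := Nat.mul_sub g n' k'

end Groth.Agent.S18049
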