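import Groth.Statements.S18050
import Mathlib.Tactic

set_option autoImplicit false
open STCI

namespace Groth.Agent.S18050

open W4c5stcicurvesp3 in
theorem irem_shift (N k : ℕ) (h : N % k ≠ 0) : ∀ i, irem k (N % k) i = irem N k (i + 1) := by
  have key : ∀ i, irem k (N % k) i = irem N k (i + 1) ∧
      irem k (N % k) (i + 1) = irem N k (i + 2) := by
    intro i
    induction i with
    | zero =>
      refine ⟨rfl, ?_⟩
      show k % (N % k) = irem N k 2
      have h1 : irem N k 1 = N % k := rfl
      have h0 : irem N k 0 = k := rfl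
      show k % (N % k) = (if irem N k 1 = 0 then 0 else irem N k 0 % irem N k 1)
      rw [h1, h0, if_neg h]
    | succ i ih =>
      refine ⟨ih.2, ?_⟩
      show (if irem k (N % k) (i + 1) = 0 then 0 else irem k (N % k) i % irem k (N % k) (i + 1)) =
        (if irem N k (i + 2) = 0 then 0 else irem N k (i + 1) % irem N k (i + 2))
      rw [ih.1, ih.2]
  exact fun i => (key i).1

open W4c5stcicurvesp3 in
theorem idiv_shift (N k : ℕ) (h : N % k ≠ 0) : ∀ i, 0 < i → idiv k (N % k) i = idiv N k (i + 1) := by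
  intro i hi
  obtain ⟨j, rfl⟩ := Nat.exists_eq_succ_of_ne_zero hi.ne'
  cases j with
  | zero =>
    show k / (N % k) = (if irem N k 1 = 0 then 0 else irem N k 0 / irem N k 1)
    have h1 : irem N k 1 = N % k := rfl
    have h0 : irem N k 0 = k := rfl
    rw [h1, h0, if_neg h]
  | succ j =>
    show (if irem k (N % k) (j + 1) = 0 then 0 else irem k (N % k) j / irem k (N % k) (j + 1)) =
      (if irem N k (j + 2) = 0 then 0 else irem N k (j + 1) / irem N k (j + 2))
    rw [irem_shift N k h j, irem_shift N k h (j + 1)]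

theorem div_mul_gcd_le (k N : ℕ) (hk : 0 < k) (hkN : k < N) (hndvd : ¬ k ∣ N) :
    N / k * Nat.gcd k N ≤ N - k := by
  set g := Nat.gcd k N with hg
  have hgpos : 0 < g := Nat.gcd_pos_of_pos_left N hk
  obtain ⟨k', hk'⟩ : g ∣ k := Nat.gcd_dvd_left k N
  obtain ⟨n', hn'⟩ : g ∣ N := Nat.gcd_dvd_right k N
  have hk'pos : 0 < k' := by
    rcases Nat.eq_zero_or_pos k' with h | h
    · rw [h, mul_zero] at hk'; omega
    · exact h
  have hk'ne : k' ≠ 1 := by
    intro h1
    apply hndvd
    rw [h1, mul_one] at hk'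
    rw [hk']
    exact Nat.gcd_dvd_right k N
  have hk'2 : 2 ≤ k' := by omega
  have hdiv : N / k = n' / k' := by
    rw [hk', hn', Nat.mul_div_mul_left _ _ hgpos]
  have hndvd' : ¬ k' ∣ n' := by
    intro h
    apply hndvd
    rw [hk', hn']
    exact Nat.mul_dvd_mul_left g h
  set d := n' / k' with hd
  have hr := Nat.div_add_mod n' k'
  have hrpos : 0 < n' % k' := by
    rcases Nat.eq_zero_or_pos (n' % k') with h | h
    · exact absurd (Nat.dvd_of_mod_eq_zero h) hndvd'
    · exact h
  have hrlt : n' % k' < k' := Nat.mod_lt _ hk'pos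
  have hkn' : k' < n' := by
    have : g * k' < g * n' := by rw [← hk', ← hn']; exact hkN
    exact Nat.lt_of_mul_lt_mul_left this
  have hd1 : 1 ≤ d := by
    rw [hd]
    exact Nat.div_pos hkn'.le hk'pos
  have hmain : d + k' ≤ n' := by
    have h1 : k' * d + n' % k' = n' := hr
    have h2 : 2 * d ≤ k' * d := Nat.mul_le_mul_right d hk'2
    have h3 : k' * (d - 1) + k' = k' * d := by
      rw [← Nat.mul_succ]; congr 1; omega
    have h4 : 2 * (d - 1) ≤ k' * (d - 1) := Nat.mul_le_mul_right (d - 1) hk'2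
    omega
  rw [hdiv, hk', hn']
  calc d * g = g * d := mul_comm _ _
    _ ≤ g * (n' - k') := Nat.mul_le_mul_left g (by omega)
    _ = g * n' - g * k' := Nat.mul_sub g n' k'

theorem sum_Icc_one_succ (f : ℕ → ℕ) (t : ℕ) :
    ∑ i ∈ Finset.Icc 1 (t + 1), f i = f 1 + ∑ i ∈ Finset.Icc 1 t, f (i + 1) := by
  induction t with
  | zero => simp
  | succ t ih =>
    rw [Finset.sum_Icc_succ_top (by omega), ih, Finset.sum_Icc_succ_top (by omega)]
    ring

open W4c5stcicurvesp3 in
theorem main : ∀ (k : ℕ), ∀ (N t : ℕ), 0 < k → k ≤ N → 0 < t → irem N k t = 0 →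
    (∀ i, 0 < i → i < t → irem N k i ≠ 0) →
    (∑ i ∈ Finset.Icc 1 t, idiv N k i) * Nat.gcd k N ≤ N := by
  intro k
  induction k using Nat.strong_induction_on with
  | _ k IH =>
    intro N t hk hkN ht hzero hmin
    obtain ⟨s, rfl⟩ := Nat.exists_eq_succ_of_ne_zero ht.ne'
    rcases Nat.eq_zero_or_pos s with hs | hs
    · -- t = 1: k ∣ N
      subst hs
      have h1 : N % k = 0 := hzero
      have hdvd : k ∣ N := Nat.dvd_of_mod_eq_zero h1
      have hsum : ∑ i ∈ Finset.Icc 1 (Nat.succ 0), idiv N k i = N / k := by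
        simp [idiv]
      rw [hsum, Nat.gcd_eq_left hdvd, Nat.div_mul_cancel hdvd]
    · -- t ≥ 2
      have hne : N % k ≠ 0 := hmin 1 Nat.one_pos (by omega)
      have hndvd : ¬ k ∣ N := fun h => hne (Nat.mod_eq_zero_of_dvd h)
      have hklt : k < N := by
        rcases Nat.lt_or_ge k N with h | h
        · exact h
        · exact absurd (by rw [le_antisymm hkN h]) hndvd
      have hk'pos : 0 < N % k := Nat.pos_of_ne_zero hne
      have hk'lt : N % k < k := Nat.mod_lt _ hk
      have hIH := IH (N % k) hk'lt k s hk'pos hk'lt.le hs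
        (by rw [irem_shift N k hne s]; exact hzero)
        (by
          intro i hi his
          rw [irem_shift N k hne i]
          exact hmin (i + 1) (by omega) (by omega))
      have hgcd : Nat.gcd (N % k) k = Nat.gcd k N := (Nat.gcd_rec k N).symm
      rw [hgcd] at hIH
      have hsum : ∑ i ∈ Finset.Icc 1 s, idiv k (N % k) i = ∑ i ∈ Finset.Icc 1 s, idiv N k (i + 1) := by
        apply Finset.sum_congr rfl
        intro i hi
        rw [Finset.mem_Icc] at hi
        exact idiv_shift N k hne i (by omega)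
      rw [hsum] at hIH
      rw [Nat.succ_eq_add_one, sum_Icc_one_succ, add_mul]
      have h1 : idiv N k 1 * Nat.gcd k N ≤ N - k := div_mul_gcd_le k N hk hklt hndvd
      omega

open W4c5stcicurvesp3 in
/-- Let k ≤ N be positive integers, let t be the least positive integer with rem_t(N, k) = 0, where
rem_0 = k, rem_1 = N mod k and rem_i is the remainder of rem_{i-2} by rem_{i-1} (iterated Euclidean
remainders), and let d_i be the corresponding iterated quotients (d_1 = ⌊N/k⌋, d_i =
⌊rem_{i-2}/rem_{i-1}⌋). Then d_1 + ⋯ + d_t ≤ N/gcd(k, N); stated in the cleared form (d_1 + ⋯ + d_t)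
· gcd(k, N) ≤ N. -/
theorem result (k N t : ℕ) (hk : 0 < k) (hkN : k ≤ N) (ht : 0 < t)
    (hzero : irem N k t = 0) (hmin : ∀ i, 0 < i → i < t → irem N k i ≠ 0) :
    (∑ i ∈ Finset.Icc 1 t, idiv N k i) * Nat.gcd k N ≤ N := by
  exact main k N t hk hkN ht hzero hmin

end Groth.Agent.S18050
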