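import Groth.Statements.S18051
import Mathlib.Tactic

set_option autoImplicit false
open STCI

namespace Groth.Agent.S18051

theorem algebra3 (a1 b1 y1 z : ℚ) (ha1 : 0 ≤ a1) (hb1 : 0 ≤ b1) (hy1 : 0 ≤ y1) (hz : 0 < z) :
    (((b1 + 1) * (z + y1) + z) - (z + y1)) / (a1 + 2)
      + ((z + y1) - z) / ((a1 + 2) + (b1 + 1))
      + z / ((a1 + 2) + (b1 + 1) + 1)
      ≤ ((b1 + 1) * (z + y1) + z) ^ 2 / ((a1 + 2) * ((b1 + 1) * (z + y1) + z) + (z + y1)) := by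
  have hN : 0 < (a1 + 2) * ((b1 + 1) * (z + y1) + z) + (z + y1) := by positivity
  have ha : 0 < a1 + 2 := by positivity
  have hab : 0 < (a1 + 2) + (b1 + 1) := by positivity
  have hab1 : 0 < (a1 + 2) + (b1 + 1) + 1 := by positivity
  rw [← sub_nonneg]
  have key : ((b1 + 1) * (z + y1) + z) ^ 2 / ((a1 + 2) * ((b1 + 1) * (z + y1) + z) + (z + y1))
      - ((((b1 + 1) * (z + y1) + z) - (z + y1)) / (a1 + 2)
      + ((z + y1) - z) / ((a1 + 2) + (b1 + 1))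
      + z / ((a1 + 2) + (b1 + 1) + 1))
      = (19 * a1 * b1 * y1 * z + 5 * a1 * b1 * y1 ^ 2 + 14 * a1 * b1 * z ^ 2 + 13 * a1 * b1 ^ 2 * y1 * z + 6 * a1 * b1 ^ 2 * y1 ^ 2 + 7 * a1 * b1 ^ 2 * z ^ 2 + 2 * a1 * b1 ^ 3 * y1 * z + 1 * a1 * b1 ^ 3 * y1 ^ 2 + 1 * a1 * b1 ^ 3 * z ^ 2 + 4 * a1 * y1 * z + 8 * a1 * z ^ 2 + 4 * a1 ^ 2 * b1 * y1 * z + 1 * a1 ^ 2 * b1 * y1 ^ 2 + 3 * a1 ^ 2 * b1 * z ^ 2 + 2 * a1 ^ 2 * b1 ^ 2 * y1 * z + 1 * a1 ^ 2 * b1 ^ 2 * y1 ^ 2 + 1 * a1 ^ 2 * b1 ^ 2 * z ^ 2 + 1 * a1 ^ 2 * y1 * z + 2 * a1 ^ 2 * z ^ 2 + 15 * b1 * y1 * z + 4 * b1 * y1 ^ 2 + 11 * b1 * z ^ 2 + 11 * b1 ^ 2 * y1 * z + 5 * b1 ^ 2 * y1 ^ 2 + 6 * b1 ^ 2 * z ^ 2 + 2 * b1 ^ 3 * y1 * z + 1 * b1 ^ 3 * y1 ^ 2 + 1 * b1 ^ 3 * z ^ 2 + 2 * y1 * z + 6 * z ^ 2)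
        / (((a1 + 2) * ((b1 + 1) * (z + y1) + z) + (z + y1)) * (a1 + 2) * ((a1 + 2) + (b1 + 1)) * ((a1 + 2) + (b1 + 1) + 1)) := by
    field_simp
    ring
  rw [key]
  positivity

open W4c5stcicurvesp3 in
/-- Let k ≤ N/2 be positive integers and let r_i = rem_i(N, k), d_i = div_i(N, k) be the iterated
Euclidean remainders and quotients of (N, k) (r_0 = k, r_1 = N mod k, r_2 = r_0 mod r_1, d_1 =
⌊N/k⌋, d_2 = ⌊r_0/r_1⌋). If the least positive t with r_t = 0 satisfies t ≥ 3, i.e. r_1 ≠ 0 and r_2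
≠ 0, then (r_0 - r_1)/d_1 + (r_1 - r_2)/(d_1 + d_2) + r_2/(d_1 + d_2 + 1) ≤ k²/N (in ℚ). -/
theorem result (k N : ℕ) (hk : 0 < k) (hkN : 2 * k ≤ N)
    (h1 : irem N k 1 ≠ 0) (h2 : irem N k 2 ≠ 0) :
    ((irem N k 0 : ℚ) - irem N k 1) / (idiv N k 1)
      + ((irem N k 1 : ℚ) - irem N k 2) / ((idiv N k 1 : ℚ) + idiv N k 2)
      + (irem N k 2 : ℚ) / ((idiv N k 1 : ℚ) + idiv N k 2 + 1)
      ≤ (k : ℚ) ^ 2 / N := by
  have hr0 : irem N k 0 = k := rfl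
  have hr1 : irem N k 1 = N % k := rfl
  have hd1 : idiv N k 1 = N / k := rfl
  have hy : N % k ≠ 0 := h1
  have hr2 : irem N k 2 = k % (N % k) := by
    show (if irem N k 1 = 0 then 0 else irem N k 0 % irem N k 1) = _
    rw [hr1, hr0, if_neg hy]
  have hd2 : idiv N k 2 = k / (N % k) := by
    show (if irem N k 1 = 0 then 0 else irem N k 0 / irem N k 1) = _
    rw [hr1, hr0, if_neg hy]
  rw [hr2] at h2
  rw [hr0, hr1, hr2, hd1, hd2]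
  set y := N % k with hydef
  set z := k % y with hzdef
  set a := N / k with hadef
  set b := k / y with hbdef
  have hypos : 0 < y := Nat.pos_of_ne_zero hy
  have hzpos : 0 < z := Nat.pos_of_ne_zero h2
  have hyk : y < k := Nat.mod_lt _ hk
  have hzy : z < y := Nat.mod_lt _ hypos
  have ha2 : 2 ≤ a := (Nat.le_div_iff_mul_le hk).2 hkN
  have hb1 : 1 ≤ b := Nat.div_pos hyk.le hypos
  have hN : k * a + y = N := Nat.div_add_mod N k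
  have hK : y * b + z = k := Nat.div_add_mod k y
  obtain ⟨a1, ha1⟩ : ∃ a1, a = a1 + 2 := ⟨a - 2, by omega⟩
  obtain ⟨b1, hb1'⟩ : ∃ b1, b = b1 + 1 := ⟨b - 1, by omega⟩
  obtain ⟨y1, hy1⟩ : ∃ y1, y = z + y1 := ⟨y - z, by omega⟩
  have hkQ : (k : ℚ) = ((b1 : ℚ) + 1) * ((z : ℚ) + y1) + z := by
    have : k = (b1 + 1) * (z + y1) + z := by rw [← hK, hb1', hy1]; ring
    exact_mod_cast this
  have hNQ : (N : ℚ) = ((a1 : ℚ) + 2) * (((b1 : ℚ) + 1) * ((z : ℚ) + y1) + z) + ((z : ℚ) + y1) := by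
    rw [← hkQ]
    have : N = (a1 + 2) * k + (z + y1) := by rw [← hN, ha1, hy1]; ring
    exact_mod_cast this
  have haQ : (a : ℚ) = (a1 : ℚ) + 2 := by exact_mod_cast ha1
  have hbQ : (b : ℚ) = (b1 : ℚ) + 1 := by exact_mod_cast hb1'
  have hyQ : (y : ℚ) = (z : ℚ) + y1 := by exact_mod_cast hy1
  rw [hNQ, hkQ, haQ, hbQ, hyQ]
  exact algebra3 (a1 : ℚ) b1 y1 z (by positivity) (by positivity) (by positivity) (by exact_mod_cast hzpos)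

end Groth.Agent.S18051
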