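import Groth.Statements.S18052
import Mathlib.Tactic
import Groth.Agent.S18050

set_option autoImplicit false
open STCI

namespace Groth.Agent.S18052

theorem algebra_step (x y E : ℚ) (hy : 0 ≤ y) (hyx : y ≤ x) (hx : 0 < x) (hE : 1 ≤ E) :
    (x - y) / E + y ^ 2 / (x + E * y) ≤ x ^ 2 / (E * x + y) := by
  have hE0 : 0 < E := by linarith
  have h1 : 0 < x + E * y := by positivity
  have h2 : 0 < E * x + y := by positivity
  rw [div_add_div _ _ hE0.ne' h1.ne', div_le_div_iff₀ (by positivity) h2]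
  have h4 : x ^ 2 * (E * (x + E * y)) - ((x - y) * (x + E * y) + E * y ^ 2) * (E * x + y)
      = (x - y) * (E - 1) * x * y := by ring
  have h3 : 0 ≤ (x - y) * (E - 1) * x * y := by
    apply mul_nonneg (mul_nonneg (mul_nonneg _ _) hx.le) hy <;> linarith
  linarith

open W4c5stcicurvesp3 in
theorem main : ∀ (k : ℕ), ∀ (N t D : ℕ), 0 < k → k ≤ N → 0 < t → irem N k t = 0 →
    (∀ i, 0 < i → i < t → irem N k i ≠ 0) →
    ∑ i ∈ Finset.range t, ((irem N k i : ℚ) - irem N k (i + 1)) /
        ((D : ℚ) + ∑ j ∈ Finset.Icc 1 (i + 1), (idiv N k j : ℚ))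
      ≤ (k : ℚ) ^ 2 / ((N : ℚ) + D * k) := by
  intro k
  induction k using Nat.strong_induction_on with
  | _ k IH =>
    intro N t D hk hkN ht hzero hmin
    obtain ⟨s, rfl⟩ := Nat.exists_eq_succ_of_ne_zero ht.ne'
    have hkQ : (0:ℚ) < k := by exact_mod_cast hk
    have hdm := Nat.div_add_mod N k
    have hq1 : 1 ≤ N / k := Nat.div_pos hkN hk
    have hr0 : irem N k 0 = k := rfl
    have hr1 : irem N k 1 = N % k := rfl
    have hd1 : idiv N k 1 = N / k := rfl
    have hq : (1:ℚ) ≤ (N / k : ℕ) := by exact_mod_cast hq1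
    have hN : (N:ℚ) = k * (N / k : ℕ) + (N % k : ℕ) := by exact_mod_cast hdm.symm
    rcases Nat.eq_zero_or_pos s with hs | hs
    · subst hs
      have h1 : N % k = 0 := hzero
      simp only [Nat.succ_eq_add_one, zero_add, Finset.range_one, Finset.sum_singleton,
        Finset.Icc_self, hr0, hr1, hd1, h1, Nat.cast_zero, sub_zero]
      rw [h1, Nat.cast_zero, add_zero] at hN
      rw [hN]
      have hDq : (0:ℚ) < (D:ℚ) + (N / k : ℕ) := by positivity
      rw [div_le_div_iff₀ hDq (by positivity)]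
      apply le_of_eq; ring
    · have hne : N % k ≠ 0 := hmin 1 Nat.one_pos (by omega)
      have hypos : 0 < N % k := Nat.pos_of_ne_zero hne
      have hylt : N % k < k := Nat.mod_lt _ hk
      have hIH := IH (N % k) hylt k s (D + N / k) hypos hylt.le hs
        (by rw [Groth.Agent.S18050.irem_shift N k hne s]; exact hzero)
        (by
          intro i hi his
          rw [Groth.Agent.S18050.irem_shift N k hne i]
          exact hmin (i + 1) (by omega) (by omega))
      rw [Nat.succ_eq_add_one, Finset.sum_range_succ']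
      have hsum : ∑ i ∈ Finset.range s, ((irem N k (i + 1) : ℚ) - irem N k (i + 1 + 1)) /
            ((D : ℚ) + ∑ j ∈ Finset.Icc 1 (i + 1 + 1), (idiv N k j : ℚ))
          = ∑ i ∈ Finset.range s, ((irem k (N % k) i : ℚ) - irem k (N % k) (i + 1)) /
            (((D + N / k : ℕ) : ℚ) + ∑ j ∈ Finset.Icc 1 (i + 1), (idiv k (N % k) j : ℚ)) := by
        apply Finset.sum_congr rfl
        intro i _
        rw [← Groth.Agent.S18050.irem_shift N k hne i, ← Groth.Agent.S18050.irem_shift N k hne (i + 1)]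
        congr 1
        have h1 : ∑ j ∈ Finset.Icc 1 (i + 1 + 1), (idiv N k j : ℚ)
            = ((∑ j ∈ Finset.Icc 1 (i + 1 + 1), idiv N k j : ℕ) : ℚ) := by push_cast; rfl
        rw [h1, Groth.Agent.S18050.sum_Icc_one_succ, hd1]
        have h2 : ∑ j ∈ Finset.Icc 1 (i + 1), idiv N k (j + 1)
            = ∑ j ∈ Finset.Icc 1 (i + 1), idiv k (N % k) j := by
          apply Finset.sum_congr rfl
          intro j hj
          rw [Finset.mem_Icc] at hj
          exact (Groth.Agent.S18050.idiv_shift N k hne j (by omega)).symm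
        rw [h2]
        push_cast
        ring
      rw [hsum]
      simp only [zero_add, Finset.Icc_self, Finset.sum_singleton, hr0, hr1, hd1]
      refine le_trans (add_le_add_left hIH _) ?_
      have hy0 : (0:ℚ) ≤ (N % k : ℕ) := by positivity
      have hyx : ((N % k : ℕ) : ℚ) ≤ k := by exact_mod_cast hylt.le
      have hE : (1:ℚ) ≤ ((D + N / k : ℕ) : ℚ) := by
        have : 1 ≤ D + N / k := by omega
        exact_mod_cast this
      have key := algebra_step (k:ℚ) ((N % k : ℕ) : ℚ) ((D + N / k : ℕ) : ℚ) hy0 hyx hkQ hE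
      have e1 : (N:ℚ) + D * k = ((D + N / k : ℕ) : ℚ) * k + (N % k : ℕ) := by
        rw [hN]; push_cast; ring
      rw [e1]
      have e2 : (k:ℚ) + ((D + N / k : ℕ) : ℚ) * (N % k : ℕ) = (k:ℚ) + ((D + N / k : ℕ) : ℚ) * (N % k : ℕ) := rfl
      push_cast at key ⊢
      linarith [key]

open W4c5stcicurvesp3 in
/-- Let k ≤ N/2 be positive integers, let r_i = rem_i(N, k) and d_i = div_i(N, k) be the iterated
Euclidean remainders and quotients of (N, k) (r_0 = k, r_1 = N mod k, …; d_1 = ⌊N/k⌋, d_i =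
⌊r_{i-2}/r_{i-1}⌋), and let t be the least positive integer with r_t = 0. Then the sum over i = 0,
…, t - 1 of (r_i - r_{i+1})/(d_1 + ⋯ + d_{i+1}) is at most k²/N (in ℚ). -/
theorem result (k N t : ℕ) (hk : 0 < k) (hkN : 2 * k ≤ N) (ht : 0 < t)
    (hzero : irem N k t = 0) (hmin : ∀ i, 0 < i → i < t → irem N k i ≠ 0) :
    ∑ i ∈ Finset.range t, ((irem N k i : ℚ) - irem N k (i + 1)) / (∑ j ∈ Finset.Icc 1 (i + 1), (idiv N k j : ℚ))
      ≤ (k : ℚ) ^ 2 / N := by
  have hkN' : k ≤ N := by omega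
  have h := main k N t 0 hk hkN' ht hzero hmin
  simpa using h

end Groth.Agent.S18052
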