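import Groth.Statements.S18053
import Mathlib.Tactic

set_option autoImplicit false
open STCI

namespace Groth.Agent.S18053

theorem arith (n a b c T : ℕ) (h1 : 5 * a + 2 * n ≤ 45) (hba : b ≤ a) (hcb : c ≤ b)
    (hT : T ≤ 17 * c) (hS : a + b + c + T + n ≤ 19)
    (hm : 360 ≤ 15 * n + 30 * a + 10 * b + 5 * c + 3 * T) :
    n = 0 ∧ a = 9 ∧ T = 0 ∧ ((b = 8 ∧ c = 2) ∨ (b = 9 ∧ c = 0) ∨ (b = 9 ∧ c = 1)) := by
  have hn : n ≤ 19 := by omega
  have ha : a ≤ 9 := by omega
  have hn0 : n = 0 := by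
    interval_cases n <;> first | rfl | (exfalso; omega)
  subst hn0
  have ha9 : a = 9 := by
    interval_cases a <;> first | rfl | (exfalso; omega)
  subst ha9
  have hb : b ≤ 9 := hba
  interval_cases b <;> omega

/-- Let (p_k)_{k ≥ 1} be a sequence of nonnegative integers and n a nonnegative integer such that (i)
p_1 ≤ 9 - (2/5)n, (ii) p_1 ≥ p_2 ≥ p_3 ≥ ⋯, (iii) Σ_k p_k ≤ 19 - n, and (iv) n/4 + Σ_{k ≥ 1}
p_k/(k(k+1)) ≥ 6. Then n = 0 and (p_k) is one of (9, 8, 2), (9, 9), (9, 9, 1) (followed by zeros).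
Here the sequence is indexed from 0 (so p 0 is p_1 and the weight of p k is 1/((k+1)(k+2))), (iii)
is stated for every partial sum, and the series in (iv) is the real sum Σ' over all k. -/
theorem result (p : ℕ → ℕ) (n : ℕ)
    (h1 : (p 0 : ℝ) ≤ 9 - (2 / 5 : ℝ) * n) (h2 : Antitone p)
    (h3 : ∀ m : ℕ, ((∑ k ∈ Finset.range m, p k : ℕ) : ℝ) ≤ 19 - (n : ℝ))
    (h4 : (6 : ℝ) ≤ (n : ℝ) / 4 + ∑' k : ℕ, (p k : ℝ) / (((k : ℝ) + 1) * ((k : ℝ) + 2))) :
    n = 0 ∧ (p = (fun k => if k = 0 then 9 else if k = 1 then 8 else if k = 2 then 2 else 0)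
      ∨ p = (fun k => if k = 0 then 9 else if k = 1 then 9 else 0)
      ∨ p = (fun k => if k = 0 then 9 else if k = 1 then 9 else if k = 2 then 1 else 0)) := by
  -- natural-number versions of the hypotheses
  have h3' : ∀ m : ℕ, (∑ k ∈ Finset.range m, p k) + n ≤ 19 := by
    intro m
    have := h3 m
    have h : (((∑ k ∈ Finset.range m, p k) + n : ℕ) : ℝ) ≤ (19 : ℕ) := by
      push_cast
      push_cast at this
      linarith
    exact_mod_cast h
  have h1' : 5 * p 0 + 2 * n ≤ 45 := by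
    have h : ((5 * p 0 + 2 * n : ℕ) : ℝ) ≤ (45 : ℕ) := by
      push_cast
      linarith
    exact_mod_cast h
  -- p vanishes from index 19 on
  have hvan : ∀ k, 19 ≤ k → p k = 0 := by
    intro k hk
    by_contra hne
    have hpos : 1 ≤ p k := Nat.one_le_iff_ne_zero.2 hne
    have hge : ∀ j ∈ Finset.range 20, 1 ≤ p j := by
      intro j hj
      rw [Finset.mem_range] at hj
      exact le_trans hpos (h2 (by omega))
    have hs : ∑ _j ∈ Finset.range 20, 1 ≤ ∑ j ∈ Finset.range 20, p j := Finset.sum_le_sum hge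
    simp at hs
    have := h3' 20
    omega
  -- the series is a finite sum
  have htsum : ∑' k : ℕ, (p k : ℝ) / (((k : ℝ) + 1) * ((k : ℝ) + 2))
      = ∑ k ∈ Finset.range 20, (p k : ℝ) / (((k : ℝ) + 1) * ((k : ℝ) + 2)) := by
    apply tsum_eq_sum
    intro k hk
    rw [Finset.mem_range, not_lt] at hk
    rw [hvan k (by omega)]
    simp
  rw [htsum] at h4
  -- split off the first three terms
  set T := ∑ k ∈ Finset.Ico 3 20, p k with hT
  have hsplit : ∑ k ∈ Finset.range 20, (p k : ℝ) / (((k : ℝ) + 1) * ((k : ℝ) + 2))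
      = (p 0 : ℝ) / 2 + (p 1 : ℝ) / 6 + (p 2 : ℝ) / 12
        + ∑ k ∈ Finset.Ico 3 20, (p k : ℝ) / (((k : ℝ) + 1) * ((k : ℝ) + 2)) := by
    rw [← Finset.sum_range_add_sum_Ico _ (by norm_num : 3 ≤ 20)]
    congr 1
    simp [Finset.sum_range_succ]
    norm_num
  have htail : ∑ k ∈ Finset.Ico 3 20, (p k : ℝ) / (((k : ℝ) + 1) * ((k : ℝ) + 2)) ≤ (T : ℝ) / 20 := by
    rw [hT]
    push_cast
    rw [Finset.sum_div]
    apply Finset.sum_le_sum
    intro k hk
    rw [Finset.mem_Ico] at hk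
    have hk3 : (3 : ℝ) ≤ k := by exact_mod_cast hk.1
    have hpk : (0 : ℝ) ≤ p k := by positivity
    apply div_le_div_of_nonneg_left hpk (by norm_num)
    nlinarith
  have hsumsplit : ∑ k ∈ Finset.range 20, p k = p 0 + p 1 + p 2 + T := by
    rw [← Finset.sum_range_add_sum_Ico _ (by norm_num : 3 ≤ 20), ← hT]
    simp [Finset.sum_range_succ]
  have hTle : T ≤ 17 * p 2 := by
    have : ∑ k ∈ Finset.Ico 3 20, p k ≤ (Finset.Ico 3 20).card • p 2 := by
      apply Finset.sum_le_card_nsmul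
      intro k hk
      rw [Finset.mem_Ico] at hk
      exact h2 (by omega)
    simpa using this
  have h10 : p 1 ≤ p 0 := h2 (by norm_num)
  have h21 : p 2 ≤ p 1 := h2 (by norm_num)
  have hbudget := h3' 20
  rw [hsumsplit] at hbudget
  have hmain : 360 ≤ 15 * n + 30 * p 0 + 10 * p 1 + 5 * p 2 + 3 * T := by
    have h : ((360 : ℕ) : ℝ) ≤ ((15 * n + 30 * p 0 + 10 * p 1 + 5 * p 2 + 3 * T : ℕ) : ℝ) := by
      push_cast
      rw [hsplit] at h4
      linarith
    exact_mod_cast h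
  have hfin : n = 0 ∧ p 0 = 9 ∧ T = 0 ∧
      ((p 1 = 8 ∧ p 2 = 2) ∨ (p 1 = 9 ∧ p 2 = 0) ∨ (p 1 = 9 ∧ p 2 = 1)) :=
    arith n (p 0) (p 1) (p 2) T h1' h10 h21 hTle hbudget hmain
  obtain ⟨hn0, hp0, hT0, hcases⟩ := hfin
  have hp3 : p 3 = 0 := by
    have : p 3 ≤ T := by
      rw [hT]
      exact Finset.single_le_sum (f := p) (fun _ _ => Nat.zero_le _) (by simp : 3 ∈ Finset.Ico 3 20)
    omega
  have hzero : ∀ k, 3 ≤ k → p k = 0 := by
    intro k hk
    have := h2 hk
    omega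
  refine ⟨hn0, ?_⟩
  rcases hcases with ⟨hp1, hp2⟩ | ⟨hp1, hp2⟩ | ⟨hp1, hp2⟩
  · left
    funext k
    rcases k with _ | _ | _ | k
    · simpa using hp0
    · simpa using hp1
    · simpa using hp2
    · simpa using hzero (k + 3) (by omega)
  · right; left
    funext k
    rcases k with _ | _ | _ | k
    · simpa using hp0
    · simpa using hp1
    · simpa using hp2
    · simpa using hzero (k + 3) (by omega)
  · right; right
    funext k
    rcases k with _ | _ | _ | k
    · simpa using hp0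
    · simpa using hp1
    · simpa using hp2
    · simpa using hzero (k + 3) (by omega)

end Groth.Agent.S18053
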