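import Groth.Statements.S18054
import Mathlib.Tactic

set_option autoImplicit false
open STCI

namespace Groth.Agent.S18054

/-- Let s, t, d, g be integers with t ≥ s ≥ 4, d ≥ 1, g ≥ 0 and d dividing st; put n = st/d and assume n
≥ 2; put r = d[n(s - 4) + t] + (2 - 2g)n and assume r ≤ (s/3)(2s² - 6s + 7) - 1. Then d ≤ g + 3.
(The bound is written cleared of the denominator 3; s(2s² - 6s + 7) is always divisible by 3, so
this is the same condition.) -/
theorem result (s t d g n : ℤ) (hs : 4 ≤ s) (hst : s ≤ t) (hd : 1 ≤ d) (hg : 0 ≤ g)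
    (hn : s * t = d * n) (hn2 : 2 ≤ n)
    (hr : 3 * (d * (n * (s - 4) + t) + (2 - 2 * g) * n) ≤ s * (2 * s ^ 2 - 6 * s + 7) - 3) :
    d ≤ g + 3 := by
  by_contra hcon
  have hd4 : g + 4 ≤ d := by omega
  have hn0 : 0 ≤ n := by omega
  -- key lower bound for r
  have hkey : 3 * (s * t * (s - 6) + d * t + 10 * n) ≤ s * (2 * s ^ 2 - 6 * s + 7) - 3 := by
    have h1 : 0 ≤ (d - 4 - g) * n := mul_nonneg (by omega) hn0
    nlinarith [h1, hn]
  -- multiply by d
  have hdpos : 0 < d := by omega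
  have hQ : 0 < d ^ 2 + s * (s - 6) * d + 10 * s := by
    have h1 : 0 ≤ (s - 2) * (s - 4) := mul_nonneg (by omega) (by omega)
    have h2 : 0 ≤ ((s - 2) * (s - 4)) * d := mul_nonneg h1 hdpos.le
    nlinarith [sq_nonneg (d - 4), h2]
  have hmul : 3 * t * (d ^ 2 + s * (s - 6) * d + 10 * s) ≤ d * (s * (2 * s ^ 2 - 6 * s + 7) - 3) := by
    have h1 := mul_le_mul_of_nonneg_left hkey hdpos.le
    have h2 : d * (3 * (s * t * (s - 6) + d * t + 10 * n)) =
        3 * t * (d ^ 2 + s * (s - 6) * d + 10 * s) := by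
      have : d * n = s * t := hn.symm
      linear_combination (30 : ℤ) * this
    rw [h2] at h1
    exact h1
  -- use t ≥ s
  have hts : 3 * s * (d ^ 2 + s * (s - 6) * d + 10 * s) ≤ 3 * t * (d ^ 2 + s * (s - 6) * d + 10 * s) := by
    apply mul_le_mul_of_nonneg_right _ hQ.le
    omega
  have hstar : 3 * s * d ^ 2 + (s ^ 3 - 12 * s ^ 2 - 7 * s + 3) * d + 30 * s ^ 2 ≤ 0 := by
    nlinarith [hts, hmul]
  rcases le_or_gt 13 s with hs13 | hs13
  · -- all coefficients positive
    have h1 : 0 ≤ s ^ 3 - 12 * s ^ 2 - 7 * s + 3 := by nlinarith [mul_nonneg (by omega : (0:ℤ) ≤ s - 13) (sq_nonneg s), sq_nonneg s]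
    have h2 : 0 ≤ (s ^ 3 - 12 * s ^ 2 - 7 * s + 3) * d := mul_nonneg h1 hdpos.le
    nlinarith [sq_nonneg d, sq_nonneg s, mul_pos (by omega : (0:ℤ) < s) (sq_pos_of_pos hdpos)]
  · rcases eq_or_lt_of_le hs with hs4 | hs5
    · -- s = 4
      subst hs4
      rcases le_or_gt 5 t with ht5 | ht4
      · have h3 : 15 * (d ^ 2 + 4 * (4 - 6) * d + 10 * 4) ≤ 3 * t * (d ^ 2 + 4 * (4 - 6) * d + 10 * 4) := by
          apply mul_le_mul_of_nonneg_right _ hQ.le
          omega
        nlinarith [h3, hmul, sq_nonneg (10 * d - 59)]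
      · have ht : t = 4 := by omega
        subst ht
        have hd67 : d = 6 ∨ d = 7 := by
          have h5 : 5 < d := by nlinarith [hstar]
          have h8 : d < 8 := by nlinarith [hstar]
          omega
        rcases hd67 with rfl | rfl <;> omega
    · -- 5 ≤ s ≤ 12
      have hs5' : 5 ≤ s := by omega
      interval_cases s
      · nlinarith [hstar, sq_nonneg (30 * d - 205)]
      · nlinarith [hstar, sq_nonneg (36 * d - 255)]
      · nlinarith [hstar, sq_nonneg (42 * d - 291)]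
      · nlinarith [hstar, sq_nonneg (48 * d - 309)]
      · nlinarith [hstar, sq_nonneg (54 * d - 303)]
      · nlinarith [hstar, sq_nonneg (60 * d - 267)]
      · nlinarith [hstar, sq_nonneg (66 * d - 195)]
      · nlinarith [hstar, sq_nonneg (72 * d - 81)]

end Groth.Agent.S18054
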