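import Groth.Statements.S18055
import Mathlib.Tactic

set_option autoImplicit false
open STCI

namespace Groth.Agent.S18055

/-- Let d ≥ 1, g ≥ 0 and 1 ≤ s ≤ t be integers with d dividing st, put n = st/d and r = d[n(s - 4) + t]
+ (2 - 2g)n, and assume n ≥ 2, r > 0 and (n - 1) divides r. Then s < 2d² and t < 2d⁴. This is the
statement about the degree data (d, g the degree and genus of the curve, s ≤ t the degrees of the
two surfaces) to which the published proof reduces the degree bound: there the divisibility and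
positivity express that r/(n - 1), the common value of the type numbers of the pair, is a positive
integer; the geometric hypotheses themselves are not part of this row. -/
theorem result (d g s t n : ℤ) (hd : 1 ≤ d) (hg : 0 ≤ g) (hs : 1 ≤ s) (hst : s ≤ t)
    (hn : s * t = d * n) (hn2 : 2 ≤ n)
    (hpos : 0 < d * (n * (s - 4) + t) + (2 - 2 * g) * n)
    (hdvd : (n - 1) ∣ d * (n * (s - 4) + t) + (2 - 2 * g) * n) :
    s < 2 * d ^ 2 ∧ t < 2 * d ^ 4 := by
  obtain ⟨k, hk⟩ := hdvd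
  have hn1 : 0 < n - 1 := by omega
  have hdpos : 0 < d := by omega
  have hspos : 0 < s := by omega
  have hnpos : 0 < n := by omega
  -- k ≥ 1
  have hkpos : 0 < k := by
    rw [hk] at hpos
    exact pos_of_mul_pos_right hpos hn1.le
  set m := k - d * (s - 4) - (2 - 2 * g) with hm
  -- n * m = k + d * t
  have hnm : n * m = k + d * t := by
    rw [hm]
    linear_combination (-1 : ℤ) * hk
  -- (n - 1) * m = d * (s + t - 4) + (2 - 2 g)
  have hn1m : (n - 1) * m = d * (s + t - 4) + (2 - 2 * g) := by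
    rw [hm]
    linear_combination (-1 : ℤ) * hk
  -- m * s ≥ d^2 + 1
  have hms : d ^ 2 + 1 ≤ m * s := by
    have h1 : n * (m * s - d ^ 2) = k * s := by
      have : n * (m * s - d ^ 2) = (n * m) * s - d * (d * n) := by ring
      rw [this, hnm, ← hn]; ring
    have h2 : 0 < k * s := mul_pos hkpos hspos
    rw [← h1] at h2
    have h3 : 0 < m * s - d ^ 2 := pos_of_mul_pos_right h2 hnpos.le
    omega
  have hmpos : 0 < m := by
    have h1 : 0 < m * s := by nlinarith [sq_nonneg d]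
    exact pos_of_mul_pos_left h1 hspos.le
  have hF6 : (n - 1) * m ≤ d * (s + t - 4) + 2 := by
    rw [hn1m]; omega
  have hF7 : n - 1 ≤ d * (s + t - 4) + 2 := by
    have : (n - 1) * 1 ≤ (n - 1) * m := mul_le_mul_of_nonneg_left (by omega) hn1.le
    omega
  have hs2 : s < 2 * d ^ 2 := by
    by_contra hcon
    have hs' : 2 * d ^ 2 ≤ s := by omega
    have ht' : 2 * d ^ 2 ≤ t := by omega
    have h1 : 0 ≤ (s - 2 * d ^ 2) * (t - 2 * d ^ 2) := mul_nonneg (by omega) (by omega)
    have h2 : d * (n - 1) ≤ d * (d * (s + t - 4) + 2) := mul_le_mul_of_nonneg_left hF7 hdpos.le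
    have h3 : d ≤ d ^ 2 := by nlinarith
    nlinarith [h1, h2, hn, h3, mul_nonneg (sq_nonneg d) (by omega : (0:ℤ) ≤ s - 2 * d ^ 2), mul_nonneg (sq_nonneg d) (by omega : (0:ℤ) ≤ t - 2 * d ^ 2)]
  refine ⟨hs2, ?_⟩
  -- bound on n
  have hF9 : n ≤ d * s ^ 2 - 4 * d * s + 2 * s + d ^ 2 + 1 := by
    have h1 : (n - 1) * (d ^ 2 + 1) ≤ (n - 1) * (m * s) := mul_le_mul_of_nonneg_left hms hn1.le
    have h2 : (n - 1) * m * s ≤ (d * (s + t - 4) + 2) * s := mul_le_mul_of_nonneg_right hF6 hspos.le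
    have h3 : d * (s * t) = d * (d * n) := by rw [hn]
    nlinarith [h1, h2, h3]
  by_contra hcon
  have ht' : 2 * d ^ 4 ≤ t := by omega
  have h1 : d * n ≤ d * (d * s ^ 2 - 4 * d * s + 2 * s + d ^ 2 + 1) := mul_le_mul_of_nonneg_left hF9 hdpos.le
  have h2 : 2 * d ^ 4 * s ≤ t * s := mul_le_mul_of_nonneg_right ht' hspos.le
  have h3 : 0 ≤ (s - 1) * (2 * d ^ 2 - s) := mul_nonneg (by omega) (by omega)
  have h4 : 0 ≤ d ^ 2 * ((s - 1) * (2 * d ^ 2 - s)) := mul_nonneg (sq_nonneg d) h3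
  have h5 : d ≤ d ^ 2 := by nlinarith
  have h6 : d ^ 3 ≤ d ^ 4 := by nlinarith [mul_le_mul_of_nonneg_left h5 (sq_nonneg d)]
  have h7 : (3 * d ^ 2 - 2 * d) * 1 ≤ (3 * d ^ 2 - 2 * d) * s := mul_le_mul_of_nonneg_left (by omega) (by nlinarith)
  nlinarith [h1, h2, h4, h5, h6, h7, hn, pow_pos hdpos 4]

end Groth.Agent.S18055
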