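import Groth.Statements.S18121
import Mathlib

set_option autoImplicit false
universe u
open Pinch

namespace Groth.Agent.S18121

/-- Let B be a commutative ring, b an element of B, B' := B[z]/(z^2 - b) the rank-two B-algebra with z^2
= b, and Ψ : B[u, v] → B'[t] the B-algebra homomorphism with u ↦ z t and v ↦ t. Then the kernel of Ψ
is the principal ideal generated by u^2 - b v^2, and a polynomial of B'[t] lies in the image of Ψ as
soon as its constant coefficient lies in B. Equivalently, B[u, v]/(u^2 - b v^2) is the fibre product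
of B'[t] and B over B' (for t ↦ 0 and the inclusion of B): the pinching of Spec B' × 𝔸¹ along Spec
B' × {0} by the double cover Spec B' → Spec B is the hypersurface u^2 = b v^2 over B; for B = K[w]
and b = w this is the pinch point u^2 = v^2 w. -/
theorem result (B : Type u) [CommRing B] (b : B) :
    letI Ψ : MvPolynomial (Fin 2) B →ₐ[B] Polynomial (AdjoinRoot (Polynomial.X ^ 2 - Polynomial.C b)) :=
      MvPolynomial.aeval
        ![Polynomial.C (AdjoinRoot.root (Polynomial.X ^ 2 - Polynomial.C b)) * Polynomial.X, Polynomial.X]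
    RingHom.ker Ψ.toRingHom =
        Ideal.span {MvPolynomial.X 0 ^ 2 - MvPolynomial.C b * MvPolynomial.X 1 ^ 2} ∧
      ∀ G : Polynomial (AdjoinRoot (Polynomial.X ^ 2 - Polynomial.C b)),
        (∃ c : B, G.coeff 0 = algebraMap B (AdjoinRoot (Polynomial.X ^ 2 - Polynomial.C b)) c) →
          G ∈ Ψ.range := by
  classical
  rcases subsingleton_or_nontrivial B with hB | hB
  · -- trivial ring: everything collapses
    have h10 : (1 : B) = 0 := Subsingleton.elim _ _
    constructor
    · ext x
      have hx : x = 0 := by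
        have : x = x * MvPolynomial.C (1 : B) := by simp
        rw [this, h10, MvPolynomial.C_0, mul_zero]
      simp [hx]
    · intro G _
      have hG : G = 0 := by
        have : G = G * Polynomial.C (algebraMap B _ (1 : B)) := by simp
        rw [this, h10, map_zero, map_zero, mul_zero]
      rw [hG]
      exact Subalgebra.zero_mem _
  set g : Polynomial B := Polynomial.X ^ 2 - Polynomial.C b with hg
  have hmonic : g.Monic := Polynomial.monic_X_pow_sub_C b (by norm_num)
  have hdeg : g.degree = 2 := by
    rw [hg]; exact_mod_cast Polynomial.degree_X_pow_sub_C (by norm_num : 0 < 2) b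
  set z : AdjoinRoot g := AdjoinRoot.root g with hz
  have hz2 : z ^ 2 = AdjoinRoot.of g b := by
    have h := AdjoinRoot.eval₂_root g
    rw [hg, Polynomial.eval₂_sub, Polynomial.eval₂_pow, Polynomial.eval₂_X, Polynomial.eval₂_C,
      sub_eq_zero] at h
    exact h
  -- linear independence of 1, z over B
  have hindep : ∀ a c : B, AdjoinRoot.of g a + AdjoinRoot.of g c * z = 0 → a = 0 ∧ c = 0 := by
    intro a c h
    have h1 : AdjoinRoot.mk g (Polynomial.C a + Polynomial.C c * Polynomial.X) = 0 := by
      rw [map_add, map_mul, AdjoinRoot.mk_C, AdjoinRoot.mk_C, AdjoinRoot.mk_X]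
      exact h
    rw [AdjoinRoot.mk_eq_zero] at h1
    have hle : (Polynomial.C a + Polynomial.C c * Polynomial.X).degree ≤ 1 := by
      rw [add_comm]; exact Polynomial.degree_linear_le
    have hlt : (Polynomial.C a + Polynomial.C c * Polynomial.X).degree < g.degree := by
      rw [hdeg]
      exact lt_of_le_of_lt hle (by norm_num)
    have h0 : Polynomial.C a + Polynomial.C c * Polynomial.X = 0 := by
      by_contra hne
      exact hmonic.not_dvd_of_degree_lt hne hlt h1
    have ha := congrArg (fun p => Polynomial.coeff p 0) h0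
    have hc := congrArg (fun p => Polynomial.coeff p 1) h0
    simp at ha hc
    exact ⟨ha, hc⟩
  -- every element of B' is a + c z
  have hrepr : ∀ β : AdjoinRoot g, ∃ a c : B, β = AdjoinRoot.of g a + AdjoinRoot.of g c * z := by
    intro β
    obtain ⟨p, rfl⟩ := AdjoinRoot.mk_surjective β
    have h1 : AdjoinRoot.mk g p = AdjoinRoot.mk g (p %ₘ g) := by
      conv_lhs => rw [← Polynomial.modByMonic_add_div p g]
      rw [map_add, map_mul, AdjoinRoot.mk_self, zero_mul, add_zero]
    have hlt : (p %ₘ g).degree ≤ 1 := by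
      have := Polynomial.degree_modByMonic_lt p hmonic
      rw [hdeg] at this
      exact Order.le_of_lt_succ this
    have h2 := Polynomial.eq_X_add_C_of_degree_le_one hlt
    refine ⟨(p %ₘ g).coeff 0, (p %ₘ g).coeff 1, ?_⟩
    rw [h1]
    conv_lhs => rw [h2]
    rw [map_add, map_mul, AdjoinRoot.mk_C, AdjoinRoot.mk_C, AdjoinRoot.mk_X]
    ring
  set Ψ : MvPolynomial (Fin 2) B →ₐ[B] Polynomial (AdjoinRoot g) :=
    MvPolynomial.aeval ![Polynomial.C z * Polynomial.X, Polynomial.X] with hΨ
  have Ψ0 : Ψ (MvPolynomial.X 0) = Polynomial.C z * Polynomial.X := by simp [hΨ]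
  have Ψ1 : Ψ (MvPolynomial.X 1) = Polynomial.X := by simp [hΨ]
  have ΨC : ∀ a : B, Ψ (MvPolynomial.C a) = Polynomial.C (AdjoinRoot.of g a) := by
    intro a
    simp [hΨ, Polynomial.algebraMap_apply, AdjoinRoot.algebraMap_eq]
  set I : Ideal (MvPolynomial (Fin 2) B) :=
    Ideal.span {MvPolynomial.X 0 ^ 2 - MvPolynomial.C b * MvPolynomial.X 1 ^ 2} with hI
  have hgen : Ψ (MvPolynomial.X 0 ^ 2 - MvPolynomial.C b * MvPolynomial.X 1 ^ 2) = 0 := by
    rw [map_sub, map_mul, map_pow, map_pow, Ψ0, Ψ1, ΨC, mul_pow, ← Polynomial.C_pow, hz2, sub_self]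
  have hIker : ∀ F ∈ I, Ψ F = 0 := by
    intro F hF
    have hle : I ≤ RingHom.ker Ψ.toRingHom := by
      rw [hI, Ideal.span_le]
      intro x hx
      simp only [Set.mem_singleton_iff] at hx
      subst hx
      exact hgen
    exact hle hF
  -- normal form modulo I
  set ιv : Polynomial B →ₐ[B] MvPolynomial (Fin 2) B :=
    Polynomial.aeval (MvPolynomial.X 1 : MvPolynomial (Fin 2) B) with hιv
  have ιvX : ιv Polynomial.X = MvPolynomial.X 1 := by simp [hιv]
  have ιvC : ∀ a : B, ιv (Polynomial.C a) = MvPolynomial.C a := by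
    intro a; simp [hιv, MvPolynomial.algebraMap_eq]
  have hnf : ∀ F : MvPolynomial (Fin 2) B, ∃ P Q : Polynomial B,
      F - (ιv P + MvPolynomial.X 0 * ιv Q) ∈ I := by
    intro F
    induction F using MvPolynomial.induction_on with
    | C a =>
      refine ⟨Polynomial.C a, 0, ?_⟩
      rw [ιvC, map_zero, mul_zero, add_zero, sub_self]
      exact I.zero_mem
    | add p q hp hq =>
      obtain ⟨P1, Q1, h1⟩ := hp
      obtain ⟨P2, Q2, h2⟩ := hq
      refine ⟨P1 + P2, Q1 + Q2, ?_⟩
      have : p + q - (ιv (P1 + P2) + MvPolynomial.X 0 * ιv (Q1 + Q2))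
          = (p - (ιv P1 + MvPolynomial.X 0 * ιv Q1)) + (q - (ιv P2 + MvPolynomial.X 0 * ιv Q2)) := by
        rw [map_add, map_add]; ring
      rw [this]
      exact I.add_mem h1 h2
    | mul_X p i hp =>
      obtain ⟨P, Q, h⟩ := hp
      have hi : i = 0 ∨ i = 1 := by fin_cases i <;> simp
      rcases hi with rfl | rfl
      · refine ⟨Polynomial.C b * Polynomial.X ^ 2 * Q, P, ?_⟩
        have : p * MvPolynomial.X 0 - (ιv (Polynomial.C b * Polynomial.X ^ 2 * Q) + MvPolynomial.X 0 * ιv P)
            = (p - (ιv P + MvPolynomial.X 0 * ιv Q)) * MvPolynomial.X 0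
              + (MvPolynomial.X 0 ^ 2 - MvPolynomial.C b * MvPolynomial.X 1 ^ 2) * ιv Q := by
          rw [map_mul, map_mul, map_pow, ιvC, ιvX]; ring
        rw [this]
        exact I.add_mem (I.mul_mem_right _ h) (I.mul_mem_right _ (Ideal.subset_span rfl))
      · refine ⟨Polynomial.X * P, Polynomial.X * Q, ?_⟩
        have : p * MvPolynomial.X 1 - (ιv (Polynomial.X * P) + MvPolynomial.X 0 * ιv (Polynomial.X * Q))
            = (p - (ιv P + MvPolynomial.X 0 * ιv Q)) * MvPolynomial.X 1 := by
          rw [map_mul, map_mul, ιvX]; ring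
        rw [this]
        exact I.mul_mem_right _ h
  have hΨι : ∀ P : Polynomial B, Ψ (ιv P) = P.map (AdjoinRoot.of g) := by
    intro P
    rw [hιv, ← Polynomial.aeval_algHom_apply, Ψ1, Polynomial.aeval_X_left_eq_map,
      AdjoinRoot.algebraMap_eq]
  refine ⟨?_, ?_⟩
  · -- kernel
    apply le_antisymm
    · intro F hF
      have hF0 : Ψ F = 0 := hF
      obtain ⟨P, Q, hPQ⟩ := hnf F
      have h0 : P.map (AdjoinRoot.of g)
          + Polynomial.C z * Polynomial.X * Q.map (AdjoinRoot.of g) = 0 := by
        have h1 := hIker _ hPQ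
        rw [map_sub, hF0, zero_sub, neg_eq_zero, map_add, map_mul, Ψ0, hΨι, hΨι] at h1
        exact h1
      have hcoef0 : P.coeff 0 = 0 := by
        have h1 := congrArg (fun p => Polynomial.coeff p 0) h0
        simp only [Polynomial.coeff_add, Polynomial.coeff_map, mul_assoc, Polynomial.coeff_C_mul,
          Polynomial.coeff_X_mul_zero, mul_zero, add_zero, Polynomial.coeff_zero] at h1
        have := hindep (P.coeff 0) 0 (by rw [map_zero, zero_mul, add_zero]; exact h1)
        exact this.1
      have hcoefS : ∀ m, P.coeff (m + 1) = 0 ∧ Q.coeff m = 0 := by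
        intro m
        have h1 := congrArg (fun p => Polynomial.coeff p (m + 1)) h0
        simp only [Polynomial.coeff_add, Polynomial.coeff_map, mul_assoc, Polynomial.coeff_C_mul,
          Polynomial.coeff_X_mul, Polynomial.coeff_zero] at h1
        exact hindep (P.coeff (m + 1)) (Q.coeff m) (by rw [mul_comm _ z]; exact h1)
      have hP : P = 0 := by
        ext n
        rcases n with _ | m
        · simpa using hcoef0
        · simpa using (hcoefS m).1
      have hQ : Q = 0 := by
        ext n
        simpa using (hcoefS n).2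
      rw [hP, hQ, map_zero, mul_zero, add_zero, sub_zero] at hPQ
      exact hPQ
    · intro F hF
      exact hIker F hF
  · -- range
    have hXrange : ∀ H : Polynomial (AdjoinRoot g), H * Polynomial.X ∈ Ψ.range := by
      intro H
      induction H using Polynomial.induction_on' with
      | add p q hp hq => rw [add_mul]; exact Ψ.range.add_mem hp hq
      | monomial n β =>
        obtain ⟨a, c, rfl⟩ := hrepr β
        refine ⟨MvPolynomial.C a * MvPolynomial.X 1 ^ (n + 1)
          + MvPolynomial.C c * MvPolynomial.X 0 * MvPolynomial.X 1 ^ n, ?_⟩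
        change Ψ _ = _
        rw [map_add, map_mul, map_mul, map_mul, map_pow, map_pow, ΨC, ΨC, Ψ0, Ψ1,
          ← Polynomial.C_mul_X_pow_eq_monomial, map_add, map_mul]
        ring
    rintro G ⟨c, hc⟩
    rw [← Polynomial.divX_mul_X_add G, hc]
    refine Ψ.range.add_mem (hXrange _) ⟨MvPolynomial.C c, ?_⟩
    change Ψ _ = _
    rw [AdjoinRoot.algebraMap_eq]
    exact ΨC c

end Groth.Agent.S18121
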