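import Groth.Statements.S18122
import Mathlib

set_option autoImplicit false
universe u
open Pinch

namespace Groth.Agent.S18122

/-- Let K be a field in which 2 ≠ 0, S = K[x, y], and R ⊆ S the K-subalgebra generated by x^2, x y and
y; R is the coordinate ring of the pinch point u^2 = v^2 w (u = x y, v = y, w = x^2) and S is its
normalization. Then restriction along R ⊆ S is a bijection from the K-derivations S → S onto the
K-derivations R → S: every K-derivation R → S extends uniquely to S. In sheaf terms, the natural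
injective map from the tangent sheaf of the normalization to the dual of the pulled-back sheaf of
differentials of the pinch point is an isomorphism. (The text works over an algebraically closed
field of characteristic different from 2 and for every semi-smooth variety; only this model case is
stated, and the computation uses only 2 ≠ 0.) -/
theorem result
    (K : Type u) [Field K] [NeZero (2 : K)] :
    letI R : Subalgebra K (MvPolynomial (Fin 2) K) :=
      Algebra.adjoin K {MvPolynomial.X 0 ^ 2, MvPolynomial.X 0 * MvPolynomial.X 1, MvPolynomial.X 1}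
    ∀ δ : Derivation K R (MvPolynomial (Fin 2) K),
      ∃! D : Derivation K (MvPolynomial (Fin 2) K) (MvPolynomial (Fin 2) K),
        ∀ r : R, D (r : MvPolynomial (Fin 2) K) = δ r := by
  intro δ
  classical
  have h2ne : (2 : K) ≠ 0 := two_ne_zero
  have h2S : (2 : MvPolynomial (Fin 2) K) ≠ 0 := by
    rw [show (2 : MvPolynomial (Fin 2) K) = MvPolynomial.C 2 from (map_ofNat MvPolynomial.C 2).symm]
    exact (MvPolynomial.C_ne_zero).2 h2ne
  have hC2 : (MvPolynomial.C (2⁻¹ : K) : MvPolynomial (Fin 2) K) * 2 = 1 := by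
    rw [show (2 : MvPolynomial (Fin 2) K) = MvPolynomial.C 2 from
      (map_ofNat MvPolynomial.C 2).symm, ← MvPolynomial.C_mul, inv_mul_cancel₀ h2ne,
      MvPolynomial.C_1]
  have hx0 : (MvPolynomial.X 0 : MvPolynomial (Fin 2) K) ≠ 0 := MvPolynomial.X_ne_zero 0
  have hy0 : (MvPolynomial.X 1 : MvPolynomial (Fin 2) K) ≠ 0 := MvPolynomial.X_ne_zero 1
  have hx2 : (MvPolynomial.X 0 ^ 2 : MvPolynomial (Fin 2) K) ∈
      Algebra.adjoin K ({MvPolynomial.X 0 ^ 2, MvPolynomial.X 0 * MvPolynomial.X 1, MvPolynomial.X 1} :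
        Set (MvPolynomial (Fin 2) K)) := Algebra.subset_adjoin (by simp)
  have hxy : (MvPolynomial.X 0 * MvPolynomial.X 1 : MvPolynomial (Fin 2) K) ∈
      Algebra.adjoin K ({MvPolynomial.X 0 ^ 2, MvPolynomial.X 0 * MvPolynomial.X 1, MvPolynomial.X 1} :
        Set (MvPolynomial (Fin 2) K)) := Algebra.subset_adjoin (by simp)
  have hy : (MvPolynomial.X 1 : MvPolynomial (Fin 2) K) ∈
      Algebra.adjoin K ({MvPolynomial.X 0 ^ 2, MvPolynomial.X 0 * MvPolynomial.X 1, MvPolynomial.X 1} :
        Set (MvPolynomial (Fin 2) K)) := Algebra.subset_adjoin (by simp)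
  -- the relation (xy)^2 = x^2 * y^2 in R
  have hrel : (⟨_, hxy⟩ : Algebra.adjoin K ({MvPolynomial.X 0 ^ 2, MvPolynomial.X 0 * MvPolynomial.X 1,
      MvPolynomial.X 1} : Set (MvPolynomial (Fin 2) K))) * ⟨_, hxy⟩
      = ⟨_, hx2⟩ * (⟨_, hy⟩ * ⟨_, hy⟩) := Subtype.ext (by
        simp only [MulMemClass.mk_mul_mk]
        ring)
  have hδ := congrArg δ hrel
  rw [Derivation.leibniz, Derivation.leibniz, Derivation.leibniz] at hδ
  simp only [Subalgebra.smul_def, smul_eq_mul, MulMemClass.coe_mul] at hδ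
  -- y * δ(x^2) = x * (2 * (δ(xy) - x * δ(y)))
  have h1 : MvPolynomial.X 1 * δ ⟨_, hx2⟩
      = MvPolynomial.X 0 * (2 * (δ ⟨_, hxy⟩ - MvPolynomial.X 0 * δ ⟨_, hy⟩)) := by
    apply mul_left_cancel₀ hy0
    linear_combination (-1 : MvPolynomial (Fin 2) K) * hδ
  have hdvd : (MvPolynomial.X 0 : MvPolynomial (Fin 2) K) ∣ δ ⟨_, hx2⟩ := by
    have h : (MvPolynomial.X 0 : MvPolynomial (Fin 2) K) ∣ MvPolynomial.X 1 * δ ⟨_, hx2⟩ := ⟨_, h1⟩
    rcases (MvPolynomial.X_prime (i := (0 : Fin 2))).dvd_or_dvd h with h | h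
    · exact absurd (MvPolynomial.X_dvd_X.1 h) (by decide)
    · exact h
  obtain ⟨b, hb⟩ := hdvd
  -- the value a of the extension at x
  have ha2 : δ ⟨_, hx2⟩ = 2 * MvPolynomial.X 0 * (MvPolynomial.C (2⁻¹ : K) * b) := by
    rw [hb]
    have : 2 * MvPolynomial.X 0 * (MvPolynomial.C (2⁻¹ : K) * b)
        = (MvPolynomial.C (2⁻¹ : K) * 2) * (MvPolynomial.X 0 * b) := by ring
    rw [this, hC2, one_mul]
  have haxy : MvPolynomial.X 1 * (MvPolynomial.C (2⁻¹ : K) * b)
      = δ ⟨_, hxy⟩ - MvPolynomial.X 0 * δ ⟨_, hy⟩ := by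
    have h3 : MvPolynomial.X 1 * b = 2 * (δ ⟨_, hxy⟩ - MvPolynomial.X 0 * δ ⟨_, hy⟩) := by
      apply mul_left_cancel₀ hx0
      rw [← h1, hb]
      ring
    have : MvPolynomial.X 1 * (MvPolynomial.C (2⁻¹ : K) * b)
        = MvPolynomial.C (2⁻¹ : K) * (MvPolynomial.X 1 * b) := by ring
    rw [this, h3, ← mul_assoc, hC2, one_mul]
  refine ⟨MvPolynomial.mkDerivation K ![MvPolynomial.C (2⁻¹ : K) * b, δ ⟨_, hy⟩], ?_, ?_⟩
  · -- it extends δ
    rintro ⟨r, hr⟩
    induction hr using Algebra.adjoin_induction with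
    | mem x hx =>
      simp only [Set.mem_insert_iff, Set.mem_singleton_iff] at hx
      rcases hx with rfl | rfl | rfl
      · rw [Derivation.leibniz_pow, ha2]
        simp [MvPolynomial.mkDerivation_X]
        ring
      · rw [Derivation.leibniz]
        simp only [MvPolynomial.mkDerivation_X, smul_eq_mul, Matrix.cons_val_zero,
          Matrix.cons_val_one]
        rw [haxy]
        ring
      · simp [MvPolynomial.mkDerivation_X]
    | algebraMap r =>
      rw [Derivation.map_algebraMap]
      exact (Derivation.map_algebraMap δ r).symm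
    | add x y hx hy ihx ihy =>
      rw [map_add, ihx, ihy, ← map_add]
      rfl
    | mul x y hx hy ihx ihy =>
      rw [Derivation.leibniz, ihx, ihy]
      have : (⟨x * y, mul_mem hx hy⟩ : Algebra.adjoin K ({MvPolynomial.X 0 ^ 2,
          MvPolynomial.X 0 * MvPolynomial.X 1, MvPolynomial.X 1} : Set (MvPolynomial (Fin 2) K)))
          = ⟨x, hx⟩ * ⟨y, hy⟩ := rfl
      rw [this, Derivation.leibniz]
      simp only [Subalgebra.smul_def, smul_eq_mul]
  · -- uniqueness
    intro D' hD'
    apply MvPolynomial.derivation_ext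
    intro i
    fin_cases i
    · simp only [Fin.zero_eta, MvPolynomial.mkDerivation_X, Matrix.cons_val_zero]
      have h := hD' ⟨_, hx2⟩
      simp only at h
      rw [Derivation.leibniz_pow, ha2] at h
      simp only [Nat.add_one_sub_one, pow_one, smul_eq_mul, nsmul_eq_mul, Nat.cast_ofNat] at h
      have h2x : (2 * MvPolynomial.X 0 : MvPolynomial (Fin 2) K) ≠ 0 := mul_ne_zero h2S hx0
      apply mul_left_cancel₀ h2x
      rw [← h]
      ring
    · simp only [Fin.mk_one, MvPolynomial.mkDerivation_X, Matrix.cons_val_one]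
      exact hD' ⟨_, hy⟩

end Groth.Agent.S18122
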