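import Groth.Statements.S18123
import Mathlib

set_option autoImplicit false
universe u
open Pinch

namespace Groth.Agent.S18123

/-- Let K be a field in which 2 ≠ 0, S = K[x, y], and R ⊆ S the K-subalgebra generated by x^2, x y, y,
the coordinate ring of the pinch point with normalization S, obtained by gluing the plane along the
line y = 0 via x ↦ -x. A K-derivation D of S maps R into R if and only if D(y) is a multiple of y
and D(x) = y s + x p(x^2) for some s in S and some polynomial p in one variable. Every K-derivation
R → S extends uniquely to S, and under this identification the derivations mapping R into R form the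
image of the tangent sheaf of the pinch point in that of its normalization; so this image contains y
times all derivations of S, and modulo those it is spanned by the odd multiples x^(2k+1) ∂/∂x, the
part of the tangent sheaf of the line y = 0 invariant under x ↦ -x. (The text works over an
algebraically closed field of characteristic different from 2; the computation uses only 2 ≠ 0.) -/
theorem result
    (K : Type u) [Field K] [NeZero (2 : K)]
    (D : Derivation K (MvPolynomial (Fin 2) K) (MvPolynomial (Fin 2) K)) :
    letI x : MvPolynomial (Fin 2) K := MvPolynomial.X 0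
    letI y : MvPolynomial (Fin 2) K := MvPolynomial.X 1
    letI R : Subalgebra K (MvPolynomial (Fin 2) K) := Algebra.adjoin K {x ^ 2, x * y, y}
    (∀ r ∈ R, D r ∈ R) ↔
      (D y ∈ Ideal.span {y} ∧
        ∃ (s : MvPolynomial (Fin 2) K) (p : Polynomial K), D x = y * s + x * Polynomial.aeval (x ^ 2) p) := by
  classical
  have h2ne : (2 : K) ≠ 0 := two_ne_zero
  set R : Subalgebra K (MvPolynomial (Fin 2) K) :=
    Algebra.adjoin K ({MvPolynomial.X 0 ^ 2, MvPolynomial.X 0 * MvPolynomial.X 1, MvPolynomial.X 1} :
      Set (MvPolynomial (Fin 2) K)) with hR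
  have hx2 : (MvPolynomial.X 0 ^ 2 : MvPolynomial (Fin 2) K) ∈ R := Algebra.subset_adjoin (by simp)
  have hxy : (MvPolynomial.X 0 * MvPolynomial.X 1 : MvPolynomial (Fin 2) K) ∈ R :=
    Algebra.subset_adjoin (by simp)
  have hy : (MvPolynomial.X 1 : MvPolynomial (Fin 2) K) ∈ R := Algebra.subset_adjoin (by simp)
  have h2R : (2 : MvPolynomial (Fin 2) K) ∈ R := by
    have : (2 : MvPolynomial (Fin 2) K) = algebraMap K _ 2 := (map_ofNat _ 2).symm
    rw [this]; exact R.algebraMap_mem 2
  -- Lemma A : y * S ⊆ R
  have hA : ∀ s : MvPolynomial (Fin 2) K,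
      MvPolynomial.X 1 * s ∈ R ∧ MvPolynomial.X 0 * MvPolynomial.X 1 * s ∈ R := by
    intro s
    induction s using MvPolynomial.induction_on with
    | C a =>
      have hCa : (MvPolynomial.C a : MvPolynomial (Fin 2) K) ∈ R := R.algebraMap_mem a
      exact ⟨R.mul_mem hy hCa, R.mul_mem hxy hCa⟩
    | add p q hp hq =>
      exact ⟨by rw [mul_add]; exact R.add_mem hp.1 hq.1, by rw [mul_add]; exact R.add_mem hp.2 hq.2⟩
    | mul_X p i hp =>
      fin_cases i
      · refine ⟨?_, ?_⟩
        · have : MvPolynomial.X 1 * (p * MvPolynomial.X ((fun i => i) ⟨0, by decide⟩))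
              = MvPolynomial.X 0 * MvPolynomial.X 1 * p := by
            show MvPolynomial.X 1 * (p * MvPolynomial.X 0) = _
            ring
          rw [this]; exact hp.2
        · have : MvPolynomial.X 0 * MvPolynomial.X 1 * (p * MvPolynomial.X ((fun i => i) ⟨0, by decide⟩))
              = MvPolynomial.X 0 ^ 2 * (MvPolynomial.X 1 * p) := by
            show MvPolynomial.X 0 * MvPolynomial.X 1 * (p * MvPolynomial.X 0) = _
            ring
          rw [this]; exact R.mul_mem hx2 hp.1
      · refine ⟨?_, ?_⟩
        · have : MvPolynomial.X 1 * (p * MvPolynomial.X ((fun i => i) ⟨1, by decide⟩))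
              = MvPolynomial.X 1 * (MvPolynomial.X 1 * p) := by
            show MvPolynomial.X 1 * (p * MvPolynomial.X 1) = _
            ring
          rw [this]; exact R.mul_mem hy hp.1
        · have : MvPolynomial.X 0 * MvPolynomial.X 1 * (p * MvPolynomial.X ((fun i => i) ⟨1, by decide⟩))
              = MvPolynomial.X 1 * (MvPolynomial.X 0 * MvPolynomial.X 1 * p) := by
            show MvPolynomial.X 0 * MvPolynomial.X 1 * (p * MvPolynomial.X 1) = _
            ring
          rw [this]; exact R.mul_mem hy hp.2
  -- evaluation at y = 0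
  set ev : MvPolynomial (Fin 2) K →ₐ[K] Polynomial K :=
    MvPolynomial.aeval ![Polynomial.X, 0] with hev
  have ev0 : ev (MvPolynomial.X 0) = Polynomial.X := by simp [hev]
  have ev1 : ev (MvPolynomial.X 1) = 0 := by simp [hev]
  set E : Subalgebra K (Polynomial K) := (Polynomial.aeval (Polynomial.X ^ 2 : Polynomial K)).range with hE
  have hevR : ∀ r ∈ R, ev r ∈ E := by
    intro r hr
    have hle : R ≤ E.comap ev := by
      rw [hR, Algebra.adjoin_le_iff]
      intro z hz
      simp only [Set.mem_insert_iff, Set.mem_singleton_iff] at hz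
      rw [SetLike.mem_coe, Subalgebra.mem_comap]
      rcases hz with rfl | rfl | rfl
      · rw [map_pow, ev0]
        exact ⟨Polynomial.X, by simp⟩
      · rw [map_mul, ev0, ev1, mul_zero]; exact E.zero_mem
      · rw [ev1]; exact E.zero_mem
    exact hle hr
  -- the involution X ↦ -X fixes E
  set σ : Polynomial K →ₐ[K] Polynomial K := Polynomial.aeval (-Polynomial.X : Polynomial K) with hσ
  have hσE : ∀ e ∈ E, σ e = e := by
    rintro e ⟨g, rfl⟩
    show σ (Polynomial.aeval (Polynomial.X ^ 2) g) = _
    rw [← Polynomial.aeval_algHom_apply]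
    congr 1
    simp [hσ]
  have h2P : (2 : Polynomial K) ≠ 0 := by
    rw [show (2 : Polynomial K) = Polynomial.C 2 from (map_ofNat Polynomial.C 2).symm]
    exact (Polynomial.C_ne_zero).2 h2ne
  have hzero : ∀ q : Polynomial K, q ∈ E → Polynomial.X * q ∈ E → q = 0 := by
    intro q hq hXq
    have h1 := hσE _ hXq
    rw [map_mul, hσE q hq] at h1
    have h2 : σ Polynomial.X = -Polynomial.X := by simp [hσ]
    rw [h2] at h1
    have h3 : (2 * Polynomial.X : Polynomial K) * q = 0 := by linear_combination (-1 : Polynomial K) * h1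
    rcases mul_eq_zero.1 h3 with h | h
    · exact absurd h (mul_ne_zero h2P Polynomial.X_ne_zero)
    · exact h
  -- section of ev
  set ι : Polynomial K →ₐ[K] MvPolynomial (Fin 2) K :=
    Polynomial.aeval (MvPolynomial.X 0 : MvPolynomial (Fin 2) K) with hι
  have hker : ∀ f : MvPolynomial (Fin 2) K, MvPolynomial.X 1 ∣ f - ι (ev f) := by
    intro f
    induction f using MvPolynomial.induction_on with
    | C a =>
      have : ι (ev (MvPolynomial.C a)) = MvPolynomial.C a := by
        simp [hev, hι, MvPolynomial.algebraMap_eq]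
      rw [this, sub_self]; exact dvd_zero _
    | add p q hp hq =>
      have : p + q - ι (ev (p + q)) = (p - ι (ev p)) + (q - ι (ev q)) := by
        rw [map_add, map_add]; ring
      rw [this]; exact dvd_add hp hq
    | mul_X p i hp =>
      fin_cases i
      · have : p * MvPolynomial.X ((fun i => i) ⟨0, by decide⟩) - ι (ev (p * MvPolynomial.X ((fun i => i) ⟨0, by decide⟩)))
            = (p - ι (ev p)) * MvPolynomial.X 0 := by
          show p * MvPolynomial.X 0 - ι (ev (p * MvPolynomial.X 0)) = _
          rw [map_mul, ev0, map_mul]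
          have : ι Polynomial.X = MvPolynomial.X 0 := by simp [hι]
          rw [this]; ring
        rw [this]; exact Dvd.dvd.mul_right hp _
      · have : p * MvPolynomial.X ((fun i => i) ⟨1, by decide⟩) - ι (ev (p * MvPolynomial.X ((fun i => i) ⟨1, by decide⟩)))
            = p * MvPolynomial.X 1 := by
          show p * MvPolynomial.X 1 - ι (ev (p * MvPolynomial.X 1)) = _
          rw [map_mul, ev1, mul_zero, map_zero, sub_zero]
        rw [this]; exact Dvd.intro_left _ rfl
  have hC2 : (Polynomial.C (2⁻¹ : K) : Polynomial K) * 2 = 1 := by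
    rw [show (2 : Polynomial K) = Polynomial.C 2 from (map_ofNat Polynomial.C 2).symm,
      ← Polynomial.C_mul, inv_mul_cancel₀ h2ne, Polynomial.C_1]
  constructor
  · -- (⇒)
    intro h
    have hDy : D (MvPolynomial.X 1) ∈ R := h _ hy
    have hDxy : D (MvPolynomial.X 0 * MvPolynomial.X 1) ∈ R := h _ hxy
    have hDx2 : D (MvPolynomial.X 0 ^ 2) ∈ R := h _ hx2
    -- D y is divisible by y
    have hq : ev (D (MvPolynomial.X 1)) = 0 := by
      apply hzero _ (hevR _ hDy)
      have h1 := hevR _ hDxy
      rw [Derivation.leibniz, smul_eq_mul, smul_eq_mul, map_add, map_mul, map_mul, ev0, ev1,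
        zero_mul, add_zero] at h1
      exact h1
    have hdy : MvPolynomial.X 1 ∣ D (MvPolynomial.X 1) := by
      have := hker (D (MvPolynomial.X 1))
      rwa [hq, map_zero, sub_zero] at this
    refine ⟨Ideal.mem_span_singleton.2 hdy, ?_⟩
    -- D x
    have hXq : Polynomial.X * ev (D (MvPolynomial.X 0)) ∈ E := by
      have h1 := hevR _ hDx2
      rw [Derivation.leibniz_pow] at h1
      simp only [Nat.add_one_sub_one, pow_one, smul_eq_mul, nsmul_eq_mul, Nat.cast_ofNat,
        map_mul, ev0] at h1
      have h2 : (Polynomial.C (2⁻¹ : K) : Polynomial K) ∈ E := E.algebraMap_mem _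
      have h3 := E.mul_mem h2 h1
      have h4 : Polynomial.C (2⁻¹ : K) * (ev 2 * (Polynomial.X * ev (D (MvPolynomial.X 0))))
          = Polynomial.X * ev (D (MvPolynomial.X 0)) := by
        have : ev (2 : MvPolynomial (Fin 2) K) = 2 := map_ofNat ev 2
        rw [this, ← mul_assoc, hC2, one_mul]
      rwa [h4] at h3
    obtain ⟨g, hg⟩ := hXq
    have hg' : Polynomial.aeval (Polynomial.X ^ 2 : Polynomial K) g
        = Polynomial.X * ev (D (MvPolynomial.X 0)) := hg
    -- split g = divX g * X + C (g.coeff 0)
    have hsplit := Polynomial.divX_mul_X_add g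
    have hg2 : Polynomial.aeval (Polynomial.X ^ 2 : Polynomial K) g.divX * Polynomial.X ^ 2
        + Polynomial.C (g.coeff 0) = Polynomial.X * ev (D (MvPolynomial.X 0)) := by
      rw [← hg']
      conv_rhs => rw [← hsplit]
      simp
    have hc0 : g.coeff 0 = 0 := by
      have := congrArg (Polynomial.eval 0) hg2
      simpa using this
    rw [hc0, map_zero, add_zero] at hg2
    have hq' : ev (D (MvPolynomial.X 0))
        = Polynomial.X * Polynomial.aeval (Polynomial.X ^ 2 : Polynomial K) g.divX := by
      apply mul_left_cancel₀ (Polynomial.X_ne_zero (R := K))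
      rw [← hg2]; ring
    obtain ⟨s, hs⟩ := hker (D (MvPolynomial.X 0))
    refine ⟨s, g.divX, ?_⟩
    have hιq : ι (ev (D (MvPolynomial.X 0)))
        = MvPolynomial.X 0 * Polynomial.aeval (MvPolynomial.X 0 ^ 2 : MvPolynomial (Fin 2) K) g.divX := by
      rw [hq', map_mul]
      have h1 : ι Polynomial.X = MvPolynomial.X 0 := by simp [hι]
      rw [h1, ← Polynomial.aeval_algHom_apply, map_pow, h1]
    rw [← hιq]
    linear_combination hs
  · -- (⇐)
    rintro ⟨hDy, s, p, hDx⟩
    obtain ⟨c, hc⟩ := Ideal.mem_span_singleton'.1 hDy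
    have hP : Polynomial.aeval (MvPolynomial.X 0 ^ 2 : MvPolynomial (Fin 2) K) p ∈ R := by
      have h1 := Polynomial.aeval_mem_adjoin_singleton (p := p) K
        (MvPolynomial.X 0 ^ 2 : MvPolynomial (Fin 2) K)
      exact Algebra.adjoin_mono (by simp) h1
    intro r hr
    induction hr using Algebra.adjoin_induction with
    | mem z hz =>
      simp only [Set.mem_insert_iff, Set.mem_singleton_iff] at hz
      rcases hz with rfl | rfl | rfl
      · rw [Derivation.leibniz_pow, hDx]
        simp only [Nat.add_one_sub_one, pow_one, smul_eq_mul, nsmul_eq_mul, Nat.cast_ofNat]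
        have : (2 : MvPolynomial (Fin 2) K) * (MvPolynomial.X 0 * (MvPolynomial.X 1 * s
            + MvPolynomial.X 0 * Polynomial.aeval (MvPolynomial.X 0 ^ 2 : MvPolynomial (Fin 2) K) p))
            = MvPolynomial.X 1 * (2 * MvPolynomial.X 0 * s)
              + 2 * (MvPolynomial.X 0 ^ 2 * Polynomial.aeval (MvPolynomial.X 0 ^ 2 : MvPolynomial (Fin 2) K) p) := by
          ring
        rw [this]
        exact R.add_mem (hA _).1 (R.mul_mem h2R (R.mul_mem hx2 hP))
      · rw [Derivation.leibniz, hDx, ← hc]
        simp only [smul_eq_mul]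
        have : MvPolynomial.X 0 * (c * MvPolynomial.X 1) + MvPolynomial.X 1 * (MvPolynomial.X 1 * s
            + MvPolynomial.X 0 * Polynomial.aeval (MvPolynomial.X 0 ^ 2 : MvPolynomial (Fin 2) K) p)
            = MvPolynomial.X 1 * (MvPolynomial.X 0 * c + MvPolynomial.X 1 * s
              + MvPolynomial.X 0 * Polynomial.aeval (MvPolynomial.X 0 ^ 2 : MvPolynomial (Fin 2) K) p) := by
          ring
        rw [this]
        exact (hA _).1
      · rw [← hc, mul_comm]
        exact (hA _).1
    | algebraMap a =>
      rw [Derivation.map_algebraMap]; exact R.zero_mem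
    | add a b ha hb iha ihb =>
      rw [map_add]; exact R.add_mem iha ihb
    | mul a b ha hb iha ihb =>
      rw [Derivation.leibniz]
      simp only [smul_eq_mul]
      exact R.add_mem (R.mul_mem ha ihb) (R.mul_mem hb iha)

end Groth.Agent.S18123
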