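import Groth.Statements.S18125
import Mathlib

set_option autoImplicit false
universe u
open Pinch

namespace Groth.Agent.S18125

/-- Let K be a field in which 2 ≠ 0, n ≥ 0, S = K[u, v, w, t_1, …, t_n] (u, v, w the first three
variables), h = u^2 - v^2 w the equation of the pinch-point model, and Jac the ideal generated by h
and its three partial derivatives 2u, -2vw, -v^2, which cuts out the scheme-theoretic singular locus
of {h = 0}. Then the ideal (u, v) of the double locus is Jac + (v), and the colon ideal of Jac by
(v) is (u, v, w). Consequently (u, v)/Jac, the ideal of the double locus restricted to the singular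
locus, is an invertible sheaf on the pinch locus u = v = w = 0: it is free of rank one over K[t_1,
…, t_n] on the class of v. (The text states this for every semi-smooth variety and reduces to this
model; K algebraically closed is not needed for the model computation.) -/
theorem result
    (K : Type u) [Field K] [NeZero (2 : K)] (n : ℕ) :
    letI u : MvPolynomial (Fin (n + 3)) K := MvPolynomial.X 0
    letI v : MvPolynomial (Fin (n + 3)) K := MvPolynomial.X 1
    letI w : MvPolynomial (Fin (n + 3)) K := MvPolynomial.X 2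
    letI Jac : Ideal (MvPolynomial (Fin (n + 3)) K) :=
      Ideal.span {u ^ 2 - v ^ 2 * w, 2 * u, -(2 * v * w), -(v ^ 2)}
    Ideal.span {u, v} = Jac ⊔ Ideal.span {v} ∧ Jac.colon (Ideal.span {v}) = Ideal.span {u, v, w} := by
  classical
  have h2ne : (2 : K) ≠ 0 := two_ne_zero
  have hC2 : (MvPolynomial.C (2⁻¹ : K) : MvPolynomial (Fin (n + 3)) K) * 2 = 1 := by
    rw [show (2 : MvPolynomial (Fin (n + 3)) K) = MvPolynomial.C 2 from
      (map_ofNat MvPolynomial.C 2).symm, ← MvPolynomial.C_mul, inv_mul_cancel₀ h2ne,
      MvPolynomial.C_1]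
  have h01 : (0 : Fin (n + 3)) ≠ 1 := by
    intro h; have := congrArg Fin.val h; simp at this
  have h02 : (0 : Fin (n + 3)) ≠ 2 := by
    intro h; have := congrArg Fin.val h; simp at this
    rw [Nat.mod_eq_of_lt (by omega : 2 < n + 3)] at this; omega
  have h12 : (1 : Fin (n + 3)) ≠ 2 := by
    intro h; have := congrArg Fin.val h; simp at this
    rw [Nat.mod_eq_of_lt (by omega : 2 < n + 3)] at this; omega
  set Jac : Ideal (MvPolynomial (Fin (n + 3)) K) := Ideal.span
    {MvPolynomial.X 0 ^ 2 - MvPolynomial.X 1 ^ 2 * MvPolynomial.X 2, 2 * MvPolynomial.X 0,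
      -(2 * MvPolynomial.X 1 * MvPolynomial.X 2), -MvPolynomial.X 1 ^ 2} with hJac
  have hg2 : (2 * MvPolynomial.X 0 : MvPolynomial (Fin (n + 3)) K) ∈ Jac :=
    Ideal.subset_span (by simp)
  have hg3 : (-(2 * MvPolynomial.X 1 * MvPolynomial.X 2) : MvPolynomial (Fin (n + 3)) K) ∈ Jac :=
    Ideal.subset_span (by simp)
  have hg4 : (-MvPolynomial.X 1 ^ 2 : MvPolynomial (Fin (n + 3)) K) ∈ Jac :=
    Ideal.subset_span (by simp)
  have hu : (MvPolynomial.X 0 : MvPolynomial (Fin (n + 3)) K) ∈ Jac := by
    have : (MvPolynomial.X 0 : MvPolynomial (Fin (n + 3)) K)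
        = MvPolynomial.C (2⁻¹ : K) * (2 * MvPolynomial.X 0) := by
      rw [← mul_assoc, hC2, one_mul]
    rw [this]
    exact Ideal.mul_mem_left _ _ hg2
  have hvw : (MvPolynomial.X 1 * MvPolynomial.X 2 : MvPolynomial (Fin (n + 3)) K) ∈ Jac := by
    have : (MvPolynomial.X 1 * MvPolynomial.X 2 : MvPolynomial (Fin (n + 3)) K)
        = (-MvPolynomial.C (2⁻¹ : K)) * (-(2 * MvPolynomial.X 1 * MvPolynomial.X 2)) := by
      have : (-MvPolynomial.C (2⁻¹ : K)) * (-(2 * MvPolynomial.X 1 * MvPolynomial.X 2))
          = (MvPolynomial.C (2⁻¹ : K) * 2) * (MvPolynomial.X 1 * MvPolynomial.X 2 :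
            MvPolynomial (Fin (n + 3)) K) := by ring
      rw [this, hC2, one_mul]
    rw [this]
    exact Ideal.mul_mem_left _ _ hg3
  have hvv : (MvPolynomial.X 1 ^ 2 : MvPolynomial (Fin (n + 3)) K) ∈ Jac := by
    have : (MvPolynomial.X 1 ^ 2 : MvPolynomial (Fin (n + 3)) K)
        = (-1) * (-MvPolynomial.X 1 ^ 2) := by ring
    rw [this]
    exact Ideal.mul_mem_left _ _ hg4
  refine ⟨?_, ?_⟩
  · -- (u, v) = Jac + (v)
    apply le_antisymm
    · rw [Ideal.span_le]
      intro x hx
      simp only [Set.mem_insert_iff, Set.mem_singleton_iff] at hx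
      rcases hx with rfl | rfl
      · exact Ideal.mem_sup_left hu
      · exact Ideal.mem_sup_right (Ideal.subset_span (by simp))
    · apply sup_le
      · rw [hJac, Ideal.span_le]
        intro x hx
        simp only [Set.mem_insert_iff, Set.mem_singleton_iff] at hx
        rcases hx with rfl | rfl | rfl | rfl
        · exact Ideal.mem_span_pair.2 ⟨MvPolynomial.X 0, -(MvPolynomial.X 1 * MvPolynomial.X 2), by ring⟩
        · exact Ideal.mem_span_pair.2 ⟨2, 0, by ring⟩
        · exact Ideal.mem_span_pair.2 ⟨0, -(2 * MvPolynomial.X 2), by ring⟩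
        · exact Ideal.mem_span_pair.2 ⟨0, -MvPolynomial.X 1, by ring⟩
      · rw [Ideal.span_le]
        intro x hx
        simp only [Set.mem_singleton_iff] at hx
        subst hx
        exact Ideal.subset_span (by simp)
  · -- Jac : (v) = (u, v, w)
    apply le_antisymm
    · intro f hf
      rw [Ideal.mem_colon_span_singleton] at hf
      -- Jac ≤ monomial ideal (u, vw, v^2)
      have hJle : Jac ≤ Ideal.span ((fun s => MvPolynomial.monomial s (1 : K)) ''
          ({Finsupp.single 0 1, Finsupp.single 1 1 + Finsupp.single 2 1, Finsupp.single 1 2} :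
            Set (Fin (n + 3) →₀ ℕ))) := by
        have e0 : (MvPolynomial.X 0 : MvPolynomial (Fin (n + 3)) K) ∈ Ideal.span
            ((fun s => MvPolynomial.monomial s (1 : K)) ''
            ({Finsupp.single 0 1, Finsupp.single 1 1 + Finsupp.single 2 1, Finsupp.single 1 2} :
              Set (Fin (n + 3) →₀ ℕ))) :=
          Ideal.subset_span ⟨Finsupp.single 0 1, by simp, rfl⟩
        have e1 : (MvPolynomial.X 1 * MvPolynomial.X 2 : MvPolynomial (Fin (n + 3)) K) ∈ Ideal.span
            ((fun s => MvPolynomial.monomial s (1 : K)) ''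
            ({Finsupp.single 0 1, Finsupp.single 1 1 + Finsupp.single 2 1, Finsupp.single 1 2} :
              Set (Fin (n + 3) →₀ ℕ))) := by
          refine Ideal.subset_span ⟨Finsupp.single 1 1 + Finsupp.single 2 1, by simp, ?_⟩
          simp only [MvPolynomial.X, MvPolynomial.monomial_mul, mul_one]
        have e2 : (MvPolynomial.X 1 ^ 2 : MvPolynomial (Fin (n + 3)) K) ∈ Ideal.span
            ((fun s => MvPolynomial.monomial s (1 : K)) ''
            ({Finsupp.single 0 1, Finsupp.single 1 1 + Finsupp.single 2 1, Finsupp.single 1 2} :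
              Set (Fin (n + 3) →₀ ℕ))) := by
          refine Ideal.subset_span ⟨Finsupp.single 1 2, by simp, ?_⟩
          simp only [MvPolynomial.X_pow_eq_monomial]
        rw [hJac, Ideal.span_le]
        intro x hx
        simp only [Set.mem_insert_iff, Set.mem_singleton_iff] at hx
        rcases hx with rfl | rfl | rfl | rfl
        · have : (MvPolynomial.X 0 ^ 2 - MvPolynomial.X 1 ^ 2 * MvPolynomial.X 2 :
              MvPolynomial (Fin (n + 3)) K)
              = MvPolynomial.X 0 * MvPolynomial.X 0 - MvPolynomial.X 2 * MvPolynomial.X 1 ^ 2 := by ring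
          rw [this]
          exact Ideal.sub_mem _ (Ideal.mul_mem_left _ _ e0) (Ideal.mul_mem_left _ _ e2)
        · exact Ideal.mul_mem_left _ _ e0
        · have : (-(2 * MvPolynomial.X 1 * MvPolynomial.X 2) : MvPolynomial (Fin (n + 3)) K)
              = (-2) * (MvPolynomial.X 1 * MvPolynomial.X 2) := by ring
          rw [this]
          exact Ideal.mul_mem_left _ _ e1
        · have : (-MvPolynomial.X 1 ^ 2 : MvPolynomial (Fin (n + 3)) K)
              = (-1) * (MvPolynomial.X 1 ^ 2) := by ring
          rw [this]
          exact Ideal.mul_mem_left _ _ e2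
      have hf' := hJle hf
      rw [MvPolynomial.mem_ideal_span_monomial_image] at hf'
      have hset : ({MvPolynomial.X 0, MvPolynomial.X 1, MvPolynomial.X 2} :
          Set (MvPolynomial (Fin (n + 3)) K)) = MvPolynomial.X '' ({0, 1, 2} : Set (Fin (n + 3))) := by
        simp [Set.image_insert_eq]
      rw [hset, MvPolynomial.mem_ideal_span_X_image]
      intro m hm
      have hm' : m + Finsupp.single 1 1 ∈ (f * MvPolynomial.X 1).support := by
        rw [MvPolynomial.support_mul_X]
        exact Finset.mem_map.2 ⟨m, hm, rfl⟩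
      obtain ⟨s, hs, hle⟩ := hf' _ hm'
      simp only [Set.mem_insert_iff, Set.mem_singleton_iff] at hs
      rcases hs with rfl | rfl | rfl
      · refine ⟨0, by simp, ?_⟩
        have := Finsupp.le_def.1 hle 0
        simp at this
        omega
      · refine ⟨2, by simp, ?_⟩
        have := Finsupp.le_def.1 hle 2
        simp [h12] at this
        omega
      · refine ⟨1, by simp, ?_⟩
        have := Finsupp.le_def.1 hle 1
        simp at this
        omega
    · rw [Ideal.span_le]
      intro x hx
      simp only [Set.mem_insert_iff, Set.mem_singleton_iff] at hx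
      rw [SetLike.mem_coe, Ideal.mem_colon_span_singleton]
      rcases hx with rfl | rfl | rfl
      · exact Ideal.mul_mem_right _ _ hu
      · rw [← pow_two]; exact hvv
      · rw [mul_comm]; exact hvw

end Groth.Agent.S18125
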