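import Groth.Statements.S18127
import Mathlib

set_option autoImplicit false
universe u
open LocAlg

namespace Groth.Agent.S18127

/-- Let R be a local ring with maximal ideal m and algebraically closed residue field, and M an n × n
matrix over R whose reduction modulo m has rank at most r. Then the determinant of M lies in m^(n −
r). (The published setting is the local ring of germs of holomorphic functions at a point of a
complex manifold, where this says that the determinant vanishes to order at least n − r at a point
where the matrix has rank at most r.) -/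
theorem result
    {R : Type u} [CommRing R] [IsLocalRing R] [IsAlgClosed (IsLocalRing.ResidueField R)]
    {n : ℕ} (M : Matrix (Fin n) (Fin n) R) (r : ℕ)
    (hr : (M.map (IsLocalRing.residue R)).rank ≤ r) :
    M.det ∈ IsLocalRing.maximalIdeal R ^ (n - r) := by
  classical
  obtain ⟨L, L', D, h⟩ :=
    Matrix.Pivot.exists_list_transvec_mul_mul_list_transvec_eq_diagonal
      (M.map (IsLocalRing.residue R))
  -- lift single transvections
  have hlift : ∀ t : Matrix.TransvectionStruct (Fin n) (IsLocalRing.ResidueField R),
      ∃ t' : Matrix.TransvectionStruct (Fin n) R,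
        t'.toMatrix.map (IsLocalRing.residue R) = t.toMatrix := by
    intro t
    obtain ⟨c, hc⟩ := IsLocalRing.residue_surjective t.c
    refine ⟨⟨t.i, t.j, t.hij, c⟩, ?_⟩
    ext a b
    simp only [Matrix.TransvectionStruct.toMatrix, Matrix.transvection, Matrix.map_apply,
      Matrix.add_apply, map_add, Matrix.one_apply, Matrix.single_apply]
    rw [apply_ite (IsLocalRing.residue R), apply_ite (IsLocalRing.residue R), hc]
    simp
  -- lift products of transvections
  have hliftL : ∀ L : List (Matrix.TransvectionStruct (Fin n) (IsLocalRing.ResidueField R)),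
      ∃ P : Matrix (Fin n) (Fin n) R, P.det = 1 ∧
        P.map (IsLocalRing.residue R) = (L.map Matrix.TransvectionStruct.toMatrix).prod := by
    intro L
    induction L with
    | nil => exact ⟨1, by simp, by simp⟩
    | cons t L ih =>
      obtain ⟨P, hP1, hP2⟩ := ih
      obtain ⟨t', ht'⟩ := hlift t
      refine ⟨t'.toMatrix * P, by simp [hP1], ?_⟩
      rw [Matrix.map_mul, ht', hP2]
      simp
  obtain ⟨P, hPdet, hP⟩ := hliftL L
  obtain ⟨Q, hQdet, hQ⟩ := hliftL L'
  have hNdet : (P * M * Q).det = M.det := by simp [hPdet, hQdet]
  have hNmap : (P * M * Q).map (IsLocalRing.residue R) = Matrix.diagonal D := by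
    rw [Matrix.map_mul, Matrix.map_mul, hP, hQ, h]
  -- rank of the diagonal matrix
  have hrank : (Matrix.diagonal D).rank = (M.map (IsLocalRing.residue R)).rank := by
    rw [← h, Matrix.rank_mul_eq_left_of_isUnit_det _ _ (by simp),
      Matrix.rank_mul_eq_right_of_isUnit_det _ _ (by simp)]
  rw [Matrix.rank_diagonal] at hrank
  have hZ : n - r ≤ (Finset.univ.filter (fun i : Fin n => D i = 0)).card := by
    have h1 : (Finset.univ.filter (fun i : Fin n => ¬ D i = 0)).card ≤ r := by
      have h0 : Fintype.card {i // D i ≠ 0}
          = (Finset.univ.filter (fun i : Fin n => ¬ D i = 0)).card := by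
        rw [Fintype.card_subtype]
      omega
    have h2 := Finset.card_filter_add_card_filter_not (s := (Finset.univ : Finset (Fin n)))
      (fun i : Fin n => D i = 0)
    simp only [Finset.card_univ, Fintype.card_fin] at h2
    omega
  have hrow : ∀ i ∈ Finset.univ.filter (fun i : Fin n => D i = 0), ∀ j,
      (P * M * Q) i j ∈ IsLocalRing.maximalIdeal R := by
    intro i hi j
    have hD : D i = 0 := (Finset.mem_filter.1 hi).2
    have h1 : IsLocalRing.residue R ((P * M * Q) i j) = Matrix.diagonal D i j := by
      rw [← hNmap]; rfl
    rw [← IsLocalRing.residue_eq_zero_iff, h1]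
    by_cases hij : i = j
    · subst hij; simp [hD]
    · simp [hij]
  rw [← hNdet, ← Matrix.det_transpose, Matrix.det_apply]
  apply Ideal.sum_mem
  intro σ _
  rw [Units.smul_def]
  apply zsmul_mem
  apply Ideal.pow_le_pow_right hZ
  rw [← Finset.prod_mul_prod_compl (Finset.univ.filter (fun i : Fin n => D i = 0))]
  apply Ideal.mul_mem_right
  rw [← Finset.prod_const]
  exact Ideal.prod_mem_prod (fun i hi => hrow i hi _)

end Groth.Agent.S18127
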