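import Groth.Statements.S18136
import Mathlib

set_option autoImplicit false
universe u v
open IsLocalRing
open CAlg

namespace Groth.Agent.S18136

/-- Criterion for linear independence of classes in the cotangent space. -/
theorem li_cotangent_iff {R : Type*} [CommRing R] [IsLocalRing R] {κ : Type*} [Fintype κ]
    (Y : κ → maximalIdeal R) :
    LinearIndependent (ResidueField R) (⇑(maximalIdeal R).toCotangent ∘ Y) ↔
      ∀ b : κ → R, (∑ k, b k * (Y k : R)) ∈ maximalIdeal R ^ 2 → ∀ k, b k ∈ maximalIdeal R := by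
  have key : ∀ b : κ → R, ∑ k, residue R (b k) • ((maximalIdeal R).toCotangent (Y k))
      = (maximalIdeal R).toCotangent (∑ k, b k • Y k) := by
    intro b
    rw [map_sum]
    apply Finset.sum_congr rfl
    intro k _
    rw [map_smul, ← ResidueField.algebraMap_eq, algebraMap_smul]
  have hcoe : ∀ b : κ → R, ((∑ k, b k • Y k : maximalIdeal R) : R) = ∑ k, b k * (Y k : R) := by
    intro b
    rw [AddSubmonoidClass.coe_finsetSum]
    rfl
  rw [Fintype.linearIndependent_iff]
  constructor
  · intro h b hb k
    have h1 : ∑ k, residue R (b k) • ((⇑(maximalIdeal R).toCotangent ∘ Y) k) = 0 := by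
      simp only [Function.comp_apply]
      rw [key, Ideal.toCotangent_eq_zero, hcoe]
      exact hb
    have := h (fun k => residue R (b k)) h1 k
    exact (residue_eq_zero_iff _).1 this
  · intro h w hw k
    choose b hb using fun k => residue_surjective (w k)
    have h1 : (∑ k, b k * (Y k : R)) ∈ maximalIdeal R ^ 2 := by
      rw [← hcoe, ← Ideal.toCotangent_eq_zero, ← key]
      simp only [hb]
      exact hw
    rw [← hb k]
    exact (residue_eq_zero_iff _).2 (h b h1 k)

/-- Let A be a regular local ring with maximal ideal m and residue field k, written as a directed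
colimit of regular local rings A_j with local transition maps (compatible maps ψ_j : A_j → A that
are jointly surjective, an element dying in A dying at some later stage). Let f_1, …, f_c, g_1, …,
g_d ∈ m have linearly independent classes in m/m^2 over k, and put I = (f_1, …, f_c) ⊆ I' = (f_1, …,
f_c, g_1, …, g_d) (so I is generated by part of a regular system of parameters of A and I'/I by part
of a regular system of parameters of A/I; for a regular local ring the condition on I ⊆ I' is stated
through such a joint family). Then there are an index j_0 and ideals I_j ⊆ I'_j ⊆ A_j for j ≥ j_0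
such that: each I_j is generated by c elements and I'_j by these together with d further elements of
the maximal ideal m_j, the c + d classes in m_j/m_j^2 being linearly independent over the residue
field of A_j; the transition maps carry I_i, I'_i onto generators of I_j, I'_j for j_0 ≤ i ≤ j; and
I_j, I'_j generate I, I' in A. -/
theorem result
    {A : Type u} [CommRing A] [IsRegularLocalRing A]
    {ι : Type v} [Preorder ι] [Nonempty ι] [IsDirected ι (· ≤ ·)]
    (B : ι → Type u) [∀ j, CommRing (B j)] [∀ j, IsRegularLocalRing (B j)]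
    (φ : ∀ i j, i ≤ j → (B i →+* B j)) (hφloc : ∀ i j (h : i ≤ j), IsLocalHom (φ i j h))
    (hφ : ∀ i j l (hij : i ≤ j) (hjl : j ≤ l), (φ j l hjl).comp (φ i j hij) = φ i l (hij.trans hjl))
    (ψ : ∀ j, B j →+* A) (hψ : ∀ i j (h : i ≤ j), (ψ j).comp (φ i j h) = ψ i)
    (hsurj : ∀ a : A, ∃ j, ∃ x : B j, ψ j x = a)
    (hker : ∀ j (x : B j), ψ j x = 0 → ∃ l, ∃ h : j ≤ l, φ j l h x = 0)
    (c d : ℕ) (f : Fin c → maximalIdeal A) (g : Fin d → maximalIdeal A)
    (hind : LinearIndependent (ResidueField A) (⇑(maximalIdeal A).toCotangent ∘ Sum.elim f g)) :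
    ∃ j₀ : ι, ∃ (P : ∀ j, j₀ ≤ j → Ideal (B j)) (Q : ∀ j, j₀ ≤ j → Ideal (B j)),
      (∀ j (hj : j₀ ≤ j), ∃ (F : Fin c → maximalIdeal (B j)) (E : Fin d → maximalIdeal (B j)),
        LinearIndependent (ResidueField (B j)) (⇑(maximalIdeal (B j)).toCotangent ∘ Sum.elim F E) ∧
        P j hj = Ideal.span (Set.range (fun s => (F s : B j))) ∧
        Q j hj = P j hj ⊔ Ideal.span (Set.range (fun t => (E t : B j)))) ∧
      (∀ i j (hi : j₀ ≤ i) (hij : i ≤ j),
        (P i hi).map (φ i j hij) = P j (le_trans hi hij) ∧ (Q i hi).map (φ i j hij) = Q j (le_trans hi hij)) ∧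
      (∀ j (hj : j₀ ≤ j),
        (P j hj).map (ψ j) = Ideal.span (Set.range (fun s => (f s : A))) ∧
        (Q j hj).map (ψ j) = Ideal.span (Set.range (fun s => (f s : A))) ⊔ Ideal.span (Set.range (fun t => (g t : A)))) := by
  classical
  -- ψ j reflects units
  have hψunit : ∀ j (x : B j), IsUnit (ψ j x) → IsUnit x := by
    intro j x hx
    obtain ⟨a, ha⟩ := hx.exists_right_inv
    obtain ⟨l, y, hy⟩ := hsurj a
    obtain ⟨k, hjk, hlk⟩ := exists_ge_ge j l
    have h0 : ψ k (φ j k hjk x * φ l k hlk y - 1) = 0 := by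
      have e1 : ψ k (φ j k hjk x) = ψ j x := by rw [← RingHom.comp_apply, hψ]
      have e2 : ψ k (φ l k hlk y) = ψ l y := by rw [← RingHom.comp_apply, hψ]
      rw [map_sub, map_mul, map_one, e1, e2, hy, ha, sub_self]
    obtain ⟨k', hkk', h1⟩ := hker k _ h0
    rw [map_sub, map_mul, map_one, ← RingHom.comp_apply, ← RingHom.comp_apply, hφ, hφ,
      sub_eq_zero] at h1
    have hu : IsUnit (φ j k' (hjk.trans hkk') x) := IsUnit.of_mul_eq_one _ h1
    have := hφloc j k' (hjk.trans hkk')
    exact (isUnit_map_iff (φ j k' (hjk.trans hkk')) x).1 hu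
  have hψmem : ∀ j (x : B j), x ∈ maximalIdeal (B j) ↔ ψ j x ∈ maximalIdeal A := by
    intro j x
    rw [mem_maximalIdeal, mem_maximalIdeal, mem_nonunits_iff, mem_nonunits_iff]
    exact ⟨fun h h' => h (hψunit j x h'), fun h h' => h (h'.map (ψ j))⟩
  -- lift the finite family to a common stage
  set a : Fin c ⊕ Fin d → maximalIdeal A := Sum.elim f g with ha
  choose jk xk hxk using fun k => hsurj (a k : A)
  obtain ⟨j₀, hj₀⟩ := Finite.exists_le jk
  set x : Fin c ⊕ Fin d → B j₀ := fun k => φ (jk k) j₀ (hj₀ k) (xk k) with hx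
  have hxψ : ∀ k, ψ j₀ (x k) = (a k : A) := by
    intro k
    rw [hx]
    simp only
    rw [← RingHom.comp_apply, hψ, hxk]
  -- the family at stage j
  set X : ∀ j, j₀ ≤ j → Fin c ⊕ Fin d → B j := fun j hj k => φ j₀ j hj (x k) with hX
  have hXψ : ∀ j (hj : j₀ ≤ j) k, ψ j (X j hj k) = (a k : A) := by
    intro j hj k
    rw [hX]
    simp only
    rw [← RingHom.comp_apply, hψ, hxψ]
  have hXφ : ∀ i j (hi : j₀ ≤ i) (hij : i ≤ j) k, φ i j hij (X i hi k) = X j (hi.trans hij) k := by
    intro i j hi hij k
    rw [hX]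
    simp only
    rw [← RingHom.comp_apply, hφ]
  have hXmem : ∀ j (hj : j₀ ≤ j) k, X j hj k ∈ maximalIdeal (B j) := by
    intro j hj k
    rw [hψmem, hXψ]
    exact (a k).2
  have hindA := (li_cotangent_iff a).1 hind
  refine ⟨j₀, fun j hj => Ideal.span (Set.range (fun s => X j hj (Sum.inl s))),
    fun j hj => Ideal.span (Set.range (fun s => X j hj (Sum.inl s))) ⊔
      Ideal.span (Set.range (fun t => X j hj (Sum.inr t))), ?_, ?_, ?_⟩
  · intro j hj
    refine ⟨fun s => ⟨X j hj (Sum.inl s), hXmem j hj _⟩, fun t => ⟨X j hj (Sum.inr t), hXmem j hj _⟩,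
      ?_, rfl, rfl⟩
    have hY : Sum.elim (fun s => (⟨X j hj (Sum.inl s), hXmem j hj _⟩ : maximalIdeal (B j)))
        (fun t => ⟨X j hj (Sum.inr t), hXmem j hj _⟩)
        = fun k => ⟨X j hj k, hXmem j hj k⟩ := by
      funext k
      rcases k with s | t <;> rfl
    rw [hY, li_cotangent_iff]
    intro b hb k
    rw [hψmem]
    apply hindA (fun k => ψ j (b k)) _ k
    have hmap : (maximalIdeal (B j) ^ 2).map (ψ j) ≤ maximalIdeal A ^ 2 := by
      rw [Ideal.map_pow]
      apply Ideal.pow_right_mono
      rw [Ideal.map_le_iff_le_comap]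
      intro y hy
      exact (hψmem j y).1 hy
    have h1 := hmap (Ideal.mem_map_of_mem (ψ j) hb)
    rw [map_sum] at h1
    simp only [map_mul, hXψ] at h1
    exact h1
  · intro i j hi hij
    have hP : (Ideal.span (Set.range (fun s => X i hi (Sum.inl s)))).map (φ i j hij)
        = Ideal.span (Set.range (fun s => X j (le_trans hi hij) (Sum.inl s))) := by
      rw [Ideal.map_span, ← Set.range_comp]
      congr 2
      funext s
      exact hXφ i j hi hij _
    have hQ : (Ideal.span (Set.range (fun t => X i hi (Sum.inr t)))).map (φ i j hij)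
        = Ideal.span (Set.range (fun t => X j (le_trans hi hij) (Sum.inr t))) := by
      rw [Ideal.map_span, ← Set.range_comp]
      congr 2
      funext s
      exact hXφ i j hi hij _
    refine ⟨hP, ?_⟩
    rw [Ideal.map_sup, hP, hQ]
  · intro j hj
    have hP : (Ideal.span (Set.range (fun s => X j hj (Sum.inl s)))).map (ψ j)
        = Ideal.span (Set.range (fun s => (f s : A))) := by
      rw [Ideal.map_span, ← Set.range_comp]
      congr 2
      funext s
      exact hXψ j hj _
    have hQ : (Ideal.span (Set.range (fun t => X j hj (Sum.inr t)))).map (ψ j)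
        = Ideal.span (Set.range (fun t => (g t : A))) := by
      rw [Ideal.map_span, ← Set.range_comp]
      congr 2
      funext s
      exact hXψ j hj _
    refine ⟨hP, ?_⟩
    rw [Ideal.map_sup, hP, hQ]

end Groth.Agent.S18136
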