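import Groth.Statements.S1831
import Mathlib
import Groth.Agent.Lib.Helper1.HerbNil

set_option autoImplicit false
universe u v
open CycAlg

namespace Groth.Agent.S1831

/-- If φ is an endomorphism of M with φ^n = 0 (n > 0) and ker φ / im φ^(n-1) has finite length, then for
each 0 ≤ i ≤ n the (2,1)-periodic complex (M, φ^i, φ^(n-i)) has finite-length cohomology modules and
its Herbrand quotient vanishes. -/
theorem result {R : Type u} [CommRing R] {M : Type v} [AddCommGroup M] [Module R M] (φ : M →ₗ[R] M) (n : ℕ) (hn : 0 < n) (hφ : φ ^ n = 0) (hfin : Module.length R (CycAlg.perH φ (φ ^ (n - 1))) < ⊤) (i : ℕ) (hi : i ≤ n) : CycAlg.FinCoh R (φ ^ i) (φ ^ (n - i)) ∧ CycAlg.herbrand R (φ ^ i) (φ ^ (n - i)) = 0 := by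
  open Groth.Agent.H1.HerbNil Groth.Agent.H1.LatDist in
  have h1 : a φ n 1 < ⊤ := by
    have : a φ n 1 = Module.length R (CycAlg.perH φ (φ ^ (n - 1))) := by
      unfold a K I rl
      rw [pow_one]
    rw [this]; exact hfin
  have e1 : Module.length R (CycAlg.perH (φ ^ i) (φ ^ (n - i))) = a φ n i := rfl
  have e2 : Module.length R (CycAlg.perH (φ ^ (n - i)) (φ ^ i)) = a φ n (n - i) := by
    unfold a K I rl
    rw [show n - (n - i) = i by omega]
  have hs := a_symm φ hφ h1 i hi
  have hf := a_lt_top φ hφ h1 i hi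
  refine ⟨⟨by rw [e1]; exact hf, by rw [e2, ← hs]; exact hf⟩, ?_⟩
  unfold CycAlg.herbrand
  rw [e1, e2, ← hs, sub_self]

end Groth.Agent.S1831
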