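import Groth.Statements.S18364
import Mathlib

set_option autoImplicit false
universe u
open CAlg

namespace Groth.Agent.S18364

/-- Let A be a Noetherian ring, π an element of A, and (𝔓_i)_{i ∈ ι} an injective finite family listing
exactly the minimal prime ideals over (π). Let M be a finitely generated A-module and M̄ = M/πM. For
a subset T of ι let K(T) ⊆ M̄ be the submodule of elements whose image in the localisation of M̄ at
𝔓_i is zero for every i ∈ T, and N(T) ⊆ M its preimage in M. Assume K(ι) = 0, i.e. no nonzero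
element of M̄ vanishes at all the minimal primes (every associated prime of M̄ is one of the 𝔓_i).
Then for every subset Y of ι with complement Z one has N(Y) ∩ N(Z) = πM, and the same construction
applied to the module N(Y) instead of M — the preimage in N(Y) of the elements of N(Y)/πN(Y)
vanishing at every 𝔓_i with i ∈ Z — is, as a submodule of M, equal to N(Y) ∩ N(Z). (Geometric
meaning: A is the local ring of a flat family of curves over a discrete valuation ring with
uniformizer π at a point of the reduced special fibre, M the stalk of a torsion-free rank-one sheaf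
I, Y a set of components of the special fibre through the point, and N(Y) the stalk of the kernel
I^Y of I → I(s)_Y; the statement is (I^Y)^Z = I^Y ∩ I^Z = πI. Reducedness of A/πA, flatness and rank
one are not used.) -/
theorem result
    (A : Type u) [CommRing A] [IsNoetherianRing A] (π : A)
    (ι : Type) [Finite ι] (𝔓 : ι → Ideal A) [∀ i, (𝔓 i).IsPrime]
    (h𝔓 : ∀ i, 𝔓 i ∈ (Ideal.span {π}).minimalPrimes) (h𝔓inj : Function.Injective 𝔓)
    (h𝔓surj : ∀ 𝔔 ∈ (Ideal.span {π}).minimalPrimes, ∃ i, 𝔓 i = 𝔔)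
    (M : Type u) [AddCommGroup M] [Module A M] [Module.Finite A M]
    (K : Set ι → Submodule A (M ⧸ Ideal.span {π} • (⊤ : Submodule A M)))
    (hK : ∀ T : Set ι, K T = ⨅ i ∈ T, LinearMap.ker
      (LocalizedModule.mkLinearMap (𝔓 i).primeCompl (M ⧸ Ideal.span {π} • (⊤ : Submodule A M))))
    (htf : K Set.univ = ⊥)
    (N : Set ι → Submodule A M)
    (hN : ∀ T : Set ι, N T = (K T).comap (Submodule.mkQ (Ideal.span {π} • (⊤ : Submodule A M))))
    (Y : Set ι) :
    N Y ⊓ N Yᶜ = Ideal.span {π} • (⊤ : Submodule A M) ∧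
    Submodule.map (N Y).subtype
      ((⨅ i ∈ Yᶜ, LinearMap.ker (LocalizedModule.mkLinearMap (𝔓 i).primeCompl
          (↥(N Y) ⧸ Ideal.span {π} • (⊤ : Submodule A ↥(N Y))))).comap
        (Submodule.mkQ (Ideal.span {π} • (⊤ : Submodule A ↥(N Y)))))
      = N Y ⊓ N Yᶜ := by
  classical
  have : Fintype ι := Fintype.ofFinite ι
  -- localisation lemma
  have loc : ∀ j, ∀ x ∈ 𝔓 j, ∃ r : ℕ, ∃ t ∈ (𝔓 j).primeCompl, t * x ^ r ∈ Ideal.span {π} := by
    intro j x hx
    by_contra hcon
    have hdisj : Disjoint ((Ideal.span {π} : Ideal A) : Set A)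
        (((𝔓 j).primeCompl ⊔ Submonoid.powers x : Submonoid A) : Set A) := by
      rw [Set.disjoint_left]
      intro y hyI hyS
      obtain ⟨t, ht, z, ⟨r, rfl⟩, rfl⟩ := Submonoid.mem_sup.mp hyS
      exact hcon ⟨r, t, ht, hyI⟩
    obtain ⟨Q, hQ, hIQ, hQS⟩ := Ideal.exists_le_prime_disjoint _ _ hdisj
    have hQP : Q ≤ 𝔓 j := by
      intro y hy
      by_contra hyP
      exact Set.disjoint_left.mp hQS hy
        ((le_sup_left : (𝔓 j).primeCompl ≤ _) (show y ∈ (𝔓 j).primeCompl from hyP))
    have hPQ : 𝔓 j ≤ Q := (h𝔓 j).2 ⟨hQ, hIQ⟩ hQP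
    exact Set.disjoint_left.mp hQS (hPQ hx)
      ((le_sup_right : Submonoid.powers x ≤ _) (Submonoid.mem_powers x))
  -- key lemma
  have key : ∀ (i : ι) (Y : Set ι), i ∉ Y → ∃ s ∈ (𝔓 i).primeCompl,
      ∀ j ∈ Y, ∃ t ∈ (𝔓 j).primeCompl, t * s ∈ Ideal.span {π} := by
    intro i Y hiY
    have hx : ∀ j, j ≠ i → ∃ x, x ∈ 𝔓 j ∧ x ∉ 𝔓 i := by
      intro j hji
      by_contra hcon
      apply hji
      apply h𝔓inj
      apply le_antisymm
      · intro x hx
        by_contra hxi
        exact hcon ⟨x, hx, hxi⟩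
      · apply (h𝔓 i).2 ⟨inferInstance, (h𝔓 j).1.2⟩
        intro x hx
        by_contra hxi
        exact hcon ⟨x, hx, hxi⟩
    choose! x hx1 hx2 using hx
    have hrt : ∀ j, j ≠ i → ∃ r : ℕ, ∃ t ∈ (𝔓 j).primeCompl, t * x j ^ r ∈ Ideal.span {π} :=
      fun j hji => loc j (x j) (hx1 j hji)
    choose! r t ht1 ht2 using hrt
    refine ⟨∏ j ∈ Finset.univ.filter (fun j => j ≠ i), x j ^ r j, ?_, ?_⟩
    · intro hmem
      have hmem' : ∏ j ∈ Finset.univ.filter (fun j => j ≠ i), x j ^ r j ∈ 𝔓 i := hmem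
      rw [Ideal.IsPrime.prod_mem_iff] at hmem'
      obtain ⟨j, hj, hjm⟩ := hmem'
      rw [Finset.mem_filter] at hj
      exact hx2 j hj.2 (Ideal.IsPrime.mem_of_pow_mem inferInstance _ hjm)
    · intro j hjY
      have hji : j ≠ i := fun h => hiY (h ▸ hjY)
      refine ⟨t j, ht1 j hji, ?_⟩
      have hmemF : j ∈ Finset.univ.filter (fun j => j ≠ i) := by
        rw [Finset.mem_filter]; exact ⟨Finset.mem_univ _, hji⟩
      obtain ⟨c, hc⟩ := Finset.dvd_prod_of_mem (fun j => x j ^ r j) hmemF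
      rw [hc, ← mul_assoc]
      exact Ideal.mul_mem_right _ _ (ht2 j hji)
  have memπ : ∀ m : M, m ∈ Ideal.span {π} • (⊤ : Submodule A M) ↔ ∃ m', π • m' = m := by
    intro m
    rw [Submodule.ideal_span_singleton_smul, Submodule.mem_smul_pointwise_iff_exists]
    simp
  have memN : ∀ (T : Set ι) (n : M), n ∈ N T ↔
      ∀ i ∈ T, ∃ s ∈ (𝔓 i).primeCompl, ∃ m' : M, π • m' = s • n := by
    intro T n
    rw [hN, Submodule.mem_comap, hK]
    simp only [Submodule.mem_iInf, LocalizedModule.mem_ker_mkLinearMap_iff]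
    refine forall₂_congr fun i hi => ?_
    refine exists_congr fun s => and_congr_right fun hs => ?_
    rw [← map_smul, Submodule.mkQ_apply, Submodule.Quotient.mk_eq_zero, memπ]
  have part1 : N Y ⊓ N Yᶜ = Ideal.span {π} • (⊤ : Submodule A M) := by
    have hKK : K Y ⊓ K Yᶜ = ⊥ := by
      rw [← htf, hK, hK, hK, ← iInf_union, Set.union_compl_self]
    ext n
    rw [Submodule.mem_inf, hN, hN, Submodule.mem_comap, Submodule.mem_comap, ← Submodule.mem_inf,
      hKK, Submodule.mem_bot, Submodule.mkQ_apply, Submodule.Quotient.mk_eq_zero]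
  refine ⟨part1, ?_⟩
  ext x
  rw [Submodule.mem_map]
  constructor
  · rintro ⟨⟨n, hn⟩, hmem, rfl⟩
    rw [Submodule.mem_comap] at hmem
    simp only [Submodule.mem_iInf, LocalizedModule.mem_ker_mkLinearMap_iff] at hmem
    refine ⟨hn, ?_⟩
    change n ∈ N Yᶜ
    rw [memN]
    intro i hi
    obtain ⟨s, hs, h0⟩ := hmem i hi
    rw [← map_smul, Submodule.mkQ_apply, Submodule.Quotient.mk_eq_zero,
      Submodule.ideal_span_singleton_smul, Submodule.mem_smul_pointwise_iff_exists] at h0
    obtain ⟨n', -, hn'⟩ := h0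
    refine ⟨s, hs, n'.1, ?_⟩
    have := congrArg Subtype.val hn'
    simpa using this
  · intro hx
    rw [part1, memπ] at hx
    obtain ⟨m, rfl⟩ := hx
    have hπmN : π • m ∈ N Y := by
      rw [memN]; intro i hi
      exact ⟨1, Submonoid.one_mem _, m, by simp⟩
    refine ⟨⟨π • m, hπmN⟩, ?_, rfl⟩
    rw [Submodule.mem_comap]
    simp only [Submodule.mem_iInf, LocalizedModule.mem_ker_mkLinearMap_iff]
    intro i hi
    obtain ⟨s, hs, hsY⟩ := key i Y hi
    refine ⟨s, hs, ?_⟩
    rw [← map_smul, Submodule.mkQ_apply, Submodule.Quotient.mk_eq_zero,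
      Submodule.ideal_span_singleton_smul, Submodule.mem_smul_pointwise_iff_exists]
    have hsm : s • m ∈ N Y := by
      rw [memN]; intro j hj
      obtain ⟨t, ht, hts⟩ := hsY j hj
      obtain ⟨c, hc⟩ := Ideal.mem_span_singleton'.mp hts
      exact ⟨t, ht, c • m, by rw [smul_smul, smul_smul, mul_comm π c, hc]⟩
    refine ⟨⟨s • m, hsm⟩, trivial, ?_⟩
    apply Subtype.ext
    change π • s • m = s • π • m
    rw [smul_comm]

end Groth.Agent.S18364
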