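import Groth.Statements.S18365
import Mathlib

set_option autoImplicit false
universe u
open CAlg

namespace Groth.Agent.S18365

/-- Let A be a Noetherian ring, π an element of A, (𝔓_i)_{i ∈ ι} an injective finite family listing
exactly the minimal prime ideals over (π), and M a finitely generated A-module on which π acts
injectively; put M̄ = M/πM. For T ⊆ ι let K(T) ⊆ M̄ be the submodule of elements whose image in the
localisation of M̄ at 𝔓_i vanishes for every i ∈ T, and N(T) ⊆ M its preimage; assume K(ι) = 0.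
Suppose that M̄ decomposes at Y, i.e. K(Y) + K(Yᶜ) = M̄, and that for a subset Z the module
N(Y)/πN(Y) decomposes at Z, i.e. its submodule of elements vanishing at every 𝔓_i (i ∈ Z) and its
submodule of elements vanishing at every 𝔓_i (i ∉ Z) together span it. Then M̄ decomposes at Z: K(Z)
+ K(Zᶜ) = M̄. (Geometric meaning: for a flat family of curves over a discrete valuation ring with
uniformizer π, I a torsion-free rank-one sheaf flat over the base, Y a subcurve of the special fibre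
X(s) at which I(s) decomposes and I^Y = ker(I → I(s)_Y): if I^Y(s) decomposes at a subcurve Z then
so does I(s); decomposition of a sheaf at Z is the surjectivity of I(s) → I(s)_Z ⊕ I(s)_{Z^c},
checked on stalks. Reducedness of the special fibre and rank one are not used.) -/
theorem result
    (A : Type u) [CommRing A] [IsNoetherianRing A] (π : A)
    (ι : Type) [Finite ι] (𝔓 : ι → Ideal A) [∀ i, (𝔓 i).IsPrime]
    (h𝔓 : ∀ i, 𝔓 i ∈ (Ideal.span {π}).minimalPrimes) (h𝔓inj : Function.Injective 𝔓)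
    (h𝔓surj : ∀ 𝔔 ∈ (Ideal.span {π}).minimalPrimes, ∃ i, 𝔓 i = 𝔔)
    (M : Type u) [AddCommGroup M] [Module A M] [Module.Finite A M]
    (hπ : ∀ m : M, π • m = 0 → m = 0)
    (K : Set ι → Submodule A (M ⧸ Ideal.span {π} • (⊤ : Submodule A M)))
    (hK : ∀ T : Set ι, K T = ⨅ i ∈ T, LinearMap.ker
      (LocalizedModule.mkLinearMap (𝔓 i).primeCompl (M ⧸ Ideal.span {π} • (⊤ : Submodule A M))))
    (htf : K Set.univ = ⊥)
    (N : Set ι → Submodule A M)
    (hN : ∀ T : Set ι, N T = (K T).comap (Submodule.mkQ (Ideal.span {π} • (⊤ : Submodule A M))))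
    (Y Z : Set ι) (hY : K Y ⊔ K Yᶜ = ⊤)
    (K' : Set ι → Submodule A (↥(N Y) ⧸ Ideal.span {π} • (⊤ : Submodule A ↥(N Y))))
    (hK' : ∀ T : Set ι, K' T = ⨅ i ∈ T, LinearMap.ker
      (LocalizedModule.mkLinearMap (𝔓 i).primeCompl (↥(N Y) ⧸ Ideal.span {π} • (⊤ : Submodule A ↥(N Y)))))
    (hZ : K' Z ⊔ K' Zᶜ = ⊤) :
    K Z ⊔ K Zᶜ = ⊤ := by
  classical
  have memπ : ∀ m : M, m ∈ Ideal.span {π} • (⊤ : Submodule A M) ↔ ∃ m', π • m' = m := by
    intro m
    rw [Submodule.ideal_span_singleton_smul, Submodule.mem_smul_pointwise_iff_exists]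
    simp
  have memN : ∀ (T : Set ι) (n : M), n ∈ N T ↔
      ∀ i ∈ T, ∃ s ∈ (𝔓 i).primeCompl, ∃ m' : M, π • m' = s • n := by
    intro T n
    rw [hN, Submodule.mem_comap, hK]
    simp only [Submodule.mem_iInf, LocalizedModule.mem_ker_mkLinearMap_iff]
    refine forall₂_congr fun i hi => ?_
    refine exists_congr fun s => and_congr_right fun hs => ?_
    rw [← map_smul, Submodule.mkQ_apply, Submodule.Quotient.mk_eq_zero, memπ]
  have memNK : ∀ (T : Set ι) (m : M), m ∈ N T ↔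
      Submodule.mkQ (Ideal.span {π} • (⊤ : Submodule A M)) m ∈ K T := by
    intro T m; rw [hN]; rfl
  have memK' : ∀ (T : Set ι) (n : N Y),
      Submodule.mkQ (Ideal.span {π} • (⊤ : Submodule A ↥(N Y))) n ∈ K' T ↔
      ∀ i ∈ T, ∃ s ∈ (𝔓 i).primeCompl, ∃ n' : N Y, π • n' = s • n := by
    intro T n
    rw [hK']
    simp only [Submodule.mem_iInf, LocalizedModule.mem_ker_mkLinearMap_iff]
    refine forall₂_congr fun i hi => ?_
    refine exists_congr fun s => and_congr_right fun hs => ?_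
    rw [← map_smul, Submodule.mkQ_apply, Submodule.Quotient.mk_eq_zero,
      Submodule.ideal_span_singleton_smul, Submodule.mem_smul_pointwise_iff_exists]
    simp
  have hNuniv : ∀ m, m ∈ N Set.univ → ∃ m', π • m' = m := by
    intro m hm
    rw [hN, htf, Submodule.mem_comap, Submodule.mem_bot, Submodule.mkQ_apply,
      Submodule.Quotient.mk_eq_zero, memπ] at hm
    exact hm
  have hNunion : ∀ (S T : Set ι) (m : M), m ∈ N S → m ∈ N T → m ∈ N (S ∪ T) := by
    intro S T m h1 h2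
    rw [memN] at *
    rintro i (hi | hi)
    · exact h1 i hi
    · exact h2 i hi
  have hNmono : ∀ (S T : Set ι), S ⊆ T → ∀ m, m ∈ N T → m ∈ N S := by
    intro S T hST m hm
    rw [memN] at *
    intro i hi
    exact hm i (hST hi)
  have hπN : ∀ (T : Set ι) (m : M), π • m ∈ N T := by
    intro T m
    rw [memN]; intro i hi
    exact ⟨1, Submonoid.one_mem _, m, by simp⟩
  have hY' : ∀ m, ∃ a ∈ N Y, ∃ b ∈ N Yᶜ, m = a + b := by
    intro m
    have hmem : Submodule.mkQ (Ideal.span {π} • (⊤ : Submodule A M)) m ∈ K Y ⊔ K Yᶜ := by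
      rw [hY]; trivial
    obtain ⟨x, hx, y, hy, hxy⟩ := Submodule.mem_sup.mp hmem
    obtain ⟨a, rfl⟩ := Submodule.mkQ_surjective _ x
    refine ⟨a, (memNK Y a).mpr hx, m - a, ?_, by abel⟩
    rw [memNK, map_sub, ← hxy]
    simpa using hy
  have hZ' : ∀ n (hn : n ∈ N Y), ∃ c, ∃ hc : c ∈ N Y, ∃ d, ∃ hd : d ∈ N Y, n = c + d ∧
      Submodule.mkQ (Ideal.span {π} • (⊤ : Submodule A ↥(N Y))) ⟨c, hc⟩ ∈ K' Z ∧
      Submodule.mkQ (Ideal.span {π} • (⊤ : Submodule A ↥(N Y))) ⟨d, hd⟩ ∈ K' Zᶜ := by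
    intro n hn
    have hmem : Submodule.mkQ (Ideal.span {π} • (⊤ : Submodule A ↥(N Y))) ⟨n, hn⟩ ∈
        K' Z ⊔ K' Zᶜ := by
      rw [hZ]; trivial
    obtain ⟨x, hx, y, hy, hxy⟩ := Submodule.mem_sup.mp hmem
    obtain ⟨⟨c, hc⟩, rfl⟩ := Submodule.mkQ_surjective _ x
    refine ⟨c, hc, n - c, Submodule.sub_mem _ hn hc, by abel, hx, ?_⟩
    have hsub : (⟨n - c, Submodule.sub_mem _ hn hc⟩ : N Y) = ⟨n, hn⟩ - ⟨c, hc⟩ := rfl
    rw [hsub, map_sub, ← hxy]
    simpa using hy
  have hV : ∀ (T : Set ι) (c : M) (hc : c ∈ N Y),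
      Submodule.mkQ (Ideal.span {π} • (⊤ : Submodule A ↥(N Y))) ⟨c, hc⟩ ∈ K' T → c ∈ N T := by
    intro T c hc h
    rw [memK'] at h
    rw [memN]
    intro i hi
    obtain ⟨s, hs, n', hn'⟩ := h i hi
    exact ⟨s, hs, n'.1, congrArg Subtype.val hn'⟩
  have hV2 : ∀ (T : Set ι) (c'' : M) (hc : π • c'' ∈ N Y),
      Submodule.mkQ (Ideal.span {π} • (⊤ : Submodule A ↥(N Y))) ⟨π • c'', hc⟩ ∈ K' T →
      c'' ∈ N (T ∩ Y) := by
    intro T c'' hc h
    rw [memK'] at h
    rw [memN]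
    rintro i ⟨hiT, hiY⟩
    obtain ⟨s, hs, n', hn'⟩ := h i hiT
    have h1 : π • n'.1 = s • (π • c'') := congrArg Subtype.val hn'
    have h2 : n'.1 = s • c'' := by
      apply sub_eq_zero.mp
      apply hπ
      rw [smul_sub, h1, smul_comm, sub_self]
    obtain ⟨t, ht, m', hm'⟩ := (memN Y n'.1).mp n'.2 i hiY
    exact ⟨t * s, Submonoid.mul_mem _ ht hs, m', by rw [hm', h2, smul_smul]⟩
  have step1 : ∀ a ∈ N Y, ∃ e ∈ N Z, ∃ f ∈ N Zᶜ, a = e + f := by
    intro a ha
    obtain ⟨c, hc, d, hd, hcd, hcZ, hdZ⟩ := hZ' a ha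
    exact ⟨c, hV Z c hc hcZ, d, hV Zᶜ d hd hdZ, hcd⟩
  have main : ∀ m : M, ∃ e ∈ N Z, ∃ f ∈ N Zᶜ, m = e + f := by
    intro m
    obtain ⟨c', hc', d', hd', hcd, hcZ, hdZ⟩ := hZ' (π • m) (hπN Y m)
    have hc'Z := hV Z c' hc' hcZ
    have hd'Z := hV Zᶜ d' hd' hdZ
    have hc'u : c' ∈ N Set.univ := by
      have hc'Zc : c' ∈ N Zᶜ := by
        have hc'eq : c' = π • m - d' := by rw [hcd]; abel
        rw [hc'eq]; exact Submodule.sub_mem _ (hπN Zᶜ m) hd'Z
      have hun := hNunion Z Zᶜ c' hc'Z hc'Zc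
      rwa [Set.union_compl_self] at hun
    obtain ⟨c'', hc''⟩ := hNuniv c' hc'u
    subst hc''
    have hd'' : d' = π • (m - c'') := by rw [smul_sub, hcd]; abel
    subst hd''
    have h1 : c'' ∈ N (Z ∩ Y) := hV2 Z c'' hc' hcZ
    have h2 : m - c'' ∈ N (Zᶜ ∩ Y) := hV2 Zᶜ (m - c'') hd' hdZ
    obtain ⟨u, hu, v, hv, huv⟩ := hY' c''
    obtain ⟨u', hu', v', hv', huv'⟩ := hY' (m - c'')
    have hvZ : v ∈ N Z := by
      have hv1 : v ∈ N (Z ∩ Y) := by
        have hveq : v = c'' - u := by rw [huv]; abel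
        rw [hveq]; exact Submodule.sub_mem _ h1 (hNmono _ _ Set.inter_subset_right u hu)
      have hun := hNunion _ _ v hv1 hv
      refine hNmono _ _ ?_ v hun
      intro i hi
      by_cases hiY : i ∈ Y
      · exact Or.inl ⟨hi, hiY⟩
      · exact Or.inr hiY
    have hv'Z : v' ∈ N Zᶜ := by
      have hv1 : v' ∈ N (Zᶜ ∩ Y) := by
        have hveq : v' = (m - c'') - u' := by rw [huv']; abel
        rw [hveq]; exact Submodule.sub_mem _ h2 (hNmono _ _ Set.inter_subset_right u' hu')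
      have hun := hNunion _ _ v' hv1 hv'
      refine hNmono _ _ ?_ v' hun
      intro i hi
      by_cases hiY : i ∈ Y
      · exact Or.inl ⟨hi, hiY⟩
      · exact Or.inr hiY
    obtain ⟨e, he, f, hf, hef⟩ := step1 (u + u') (Submodule.add_mem _ hu hu')
    refine ⟨e + v, Submodule.add_mem _ he hvZ, f + v', Submodule.add_mem _ hf hv'Z, ?_⟩
    calc m = c'' + (m - c'') := by abel
      _ = (u + v) + (u' + v') := by rw [← huv, ← huv']
      _ = (u + u') + v + v' := by abel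
      _ = (e + f) + v + v' := by rw [hef]
      _ = e + v + (f + v') := by abel
  rw [eq_top_iff]
  intro x _
  obtain ⟨m, rfl⟩ := Submodule.mkQ_surjective _ x
  obtain ⟨e, he, f, hf, rfl⟩ := main m
  rw [map_add]
  exact Submodule.add_mem_sup ((memNK Z e).mp he) ((memNK _ f).mp hf)

end Groth.Agent.S18365
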