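import Groth.Statements.S18370
import Mathlib

set_option autoImplicit false
universe u
open CategoryTheory CategoryTheory.Limits MonoidalCategory CartesianMonoidalCategory MonObj GrpObj AlgebraicGeometry
open GrpSch

namespace Groth.Agent.S18370

/-- Let S be a scheme and G a commutative S-group scheme which is killed by a natural number n, i.e. the
n-th power map of G is the trivial homomorphism, and let n = a·b with a and b coprime. If i_a : G_a
→ G and i_b : G_b → G are scheme-theoretic kernels of the a-th and b-th power maps of G, then the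
morphism G_a ×_S G_b → G sending (x, y) to i_a(x)·i_b(y) is an isomorphism of S-schemes. (The
published statement assumes n ≠ 0; the case n = 0, where {a, b} = {0, 1} and one kernel is all of G
while the other is trivial, is included here.) -/
theorem result {S : Scheme.{u}} (G Ga Gb : Over S)
    [GrpObj G] [IsCommMonObj G] (n a b : ℕ) (hn : n = a * b) (hab : Nat.Coprime a b)
    (hG : (𝟙 G) ^ n = 1)
    (ia : Ga ⟶ G) (hia : AlgGrp.IsKernel ia ((𝟙 G) ^ a))
    (ib : Gb ⟶ G) (hib : AlgGrp.IsKernel ib ((𝟙 G) ^ b)) :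
    IsIso ((fst Ga Gb ≫ ia) * (snd Ga Gb ≫ ib)) := by
  obtain ⟨u, v, huv⟩ : ∃ u v : ℤ, u * a + v * b = 1 := by
    have h := Nat.gcd_eq_gcd_ab a b
    rw [hab.gcd_eq_one] at h
    exact ⟨Nat.gcdA a b, Nat.gcdB a b, by push_cast at h; linarith⟩
  have hka : ∀ {T : Over S} (x : T ⟶ Ga), (x ≫ ia) ^ a = 1 := by
    intro T x
    have h2 : (x ≫ ia) ^ a = x ≫ ia ≫ (𝟙 G) ^ a := by
      rw [MonObj.comp_pow, MonObj.comp_pow, Category.comp_id]
    rw [h2, hia.w, ← Hom.one_def, MonObj.comp_one]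
  have hkb : ∀ {T : Over S} (x : T ⟶ Gb), (x ≫ ib) ^ b = 1 := by
    intro T x
    have h2 : (x ≫ ib) ^ b = x ≫ ib ≫ (𝟙 G) ^ b := by
      rw [MonObj.comp_pow, MonObj.comp_pow, Category.comp_id]
    rw [h2, hib.w, ← Hom.one_def, MonObj.comp_one]
  have hpa : ((𝟙 G) ^ (v * b)) ≫ (𝟙 G) ^ a = toUnit G ≫ η := by
    rw [MonObj.comp_pow, Category.comp_id, ← zpow_natCast, ← zpow_mul, ← Hom.one_def]
    have h3 : (v * b * a : ℤ) = (n : ℤ) * v := by rw [hn]; push_cast; ring
    rw [h3, zpow_mul, zpow_natCast, hG, one_zpow]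
  have hpb : ((𝟙 G) ^ (u * a)) ≫ (𝟙 G) ^ b = toUnit G ≫ η := by
    rw [MonObj.comp_pow, Category.comp_id, ← zpow_natCast, ← zpow_mul, ← Hom.one_def]
    have h3 : (u * a * b : ℤ) = (n : ℤ) * u := by rw [hn]; push_cast; ring
    rw [h3, zpow_mul, zpow_natCast, hG, one_zpow]
  set ψa : G ⟶ Ga := hia.lift ((𝟙 G) ^ (v * b)) (toUnit G) hpa with hψa
  set ψb : G ⟶ Gb := hib.lift ((𝟙 G) ^ (u * a)) (toUnit G) hpb with hψb
  have hψa' : ψa ≫ ia = (𝟙 G) ^ (v * b) := hia.lift_fst _ _ _
  have hψb' : ψb ≫ ib = (𝟙 G) ^ (u * a) := hib.lift_fst _ _ _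
  refine ⟨CartesianMonoidalCategory.lift ψa ψb, ?_, ?_⟩
  · set φ : Ga ⊗ Gb ⟶ G := (fst Ga Gb ≫ ia) * (snd Ga Gb ≫ ib) with hφ
    apply CartesianMonoidalCategory.hom_ext
    · rw [Category.assoc, lift_fst, Category.id_comp]
      apply hia.hom_ext
      · rw [Category.assoc, hψa', GrpObj.comp_zpow, Category.comp_id, hφ, mul_zpow]
        have h4 : (snd Ga Gb ≫ ib) ^ (v * b) = 1 := by
          rw [mul_comm, zpow_mul, zpow_natCast, hkb, one_zpow]
        have h5 : (fst Ga Gb ≫ ia) ^ (v * b) = fst Ga Gb ≫ ia := by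
          have h6 : (v * b : ℤ) = 1 - a * u := by linarith
          rw [h6, zpow_sub, zpow_one, zpow_mul, zpow_natCast, hka, one_zpow, inv_one, _root_.mul_one]
        rw [h4, h5, _root_.mul_one]
      · exact toUnit_unique _ _
    · rw [Category.assoc, lift_snd, Category.id_comp]
      apply hib.hom_ext
      · rw [Category.assoc, hψb', GrpObj.comp_zpow, Category.comp_id, hφ, mul_zpow]
        have h4 : (fst Ga Gb ≫ ia) ^ (u * a) = 1 := by
          rw [mul_comm, zpow_mul, zpow_natCast, hka, one_zpow]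
        have h5 : (snd Ga Gb ≫ ib) ^ (u * a) = snd Ga Gb ≫ ib := by
          have h6 : (u * a : ℤ) = 1 - b * v := by linarith
          rw [h6, zpow_sub, zpow_one, zpow_mul, zpow_natCast, hkb, one_zpow, inv_one, _root_.mul_one]
        rw [h4, h5, _root_.one_mul]
      · exact toUnit_unique _ _
  · rw [MonObj.comp_mul, lift_fst_assoc, lift_snd_assoc, hψa', hψb', ← zpow_add]
    have h7 : v * b + u * a = 1 := by linarith
    rw [h7, zpow_one]

end Groth.Agent.S18370
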