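import Groth.Statements.S18386
import Mathlib

set_option autoImplicit false
universe u
open LVCorr

namespace Groth.Agent.S18386

open AlgebraicGeometry in
/-- Let X be a connected Noetherian scheme and I a quasi-coherent sheaf of ideals on X, different from
the structure sheaf, such that I^k = I^(k+1) for some natural number k. Then I^k = 0. -/
theorem result (X : Scheme.{u}) [AlgebraicGeometry.IsNoetherian X]
    [ConnectedSpace X] (I : X.IdealSheafData) (hI : I ≠ ⊤) (k : ℕ)
    (h : I ^ k = I ^ (k + 1)) : I ^ k = ⊥ := by
  classical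
  have hk : k ≠ 0 := by
    rintro rfl
    apply hI
    simpa using h.symm
  have hloc : ∀ U : X.affineOpens, ∃ e : Γ(X, U.1),
      IsIdempotentElem e ∧ (I.ideal U) ^ k = Ideal.span {e} := by
    intro U
    have : IsNoetherianRing Γ(X, U.1) := IsLocallyNoetherian.component_noetherian U
    have hJ : (I.ideal U) ^ k = (I.ideal U) ^ (k + 1) := by
      have := congrArg (fun K : X.IdealSheafData => K.ideal U) h
      simpa using this
    have hJm : ∀ m, (I.ideal U) ^ (k + m) = (I.ideal U) ^ k := by
      intro m
      induction m with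
      | zero => rfl
      | succ m ih => rw [← add_assoc, pow_succ, ih, ← pow_succ, ← hJ]
    have hidem : IsIdempotentElem ((I.ideal U) ^ k) := by
      unfold IsIdempotentElem; rw [← pow_add, hJm]
    exact (Ideal.isIdempotentElem_iff_of_fg _ (IsNoetherian.noetherian _)).mp hidem
  choose e he1 he2 using hloc
  have hmul : ∀ U : X.affineOpens, X.basicOpen (e U) ⊓ X.basicOpen (1 - e U) = ⊥ := by
    intro U
    rw [← Scheme.basicOpen_mul]
    have : e U * (1 - e U) = 0 := by
      rw [mul_sub, mul_one, (he1 U).eq, sub_self]
    rw [this, Scheme.basicOpen_zero]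
  have hsupp : ∀ U : X.affineOpens,
      (I.support : Set X) ∩ U = (X.basicOpen (1 - e U) : Set X) := by
    intro U
    rw [← Scheme.IdealSheafData.support_pow I k hk, Scheme.IdealSheafData.coe_support_inter,
      Scheme.IdealSheafData.ideal_pow, Pi.pow_apply, he2 U, Scheme.zeroLocus_span]
    ext x
    constructor
    · rintro ⟨hx, hxU⟩
      rw [Scheme.mem_zeroLocus_iff] at hx
      have h1 := hx (e U) rfl
      rw [Scheme.mem_basicOpen _ _ _ hxU] at h1
      rw [SetLike.mem_coe, Scheme.mem_basicOpen _ _ _ hxU, map_sub, map_one]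
      exact IsLocalRing.isUnit_one_sub_self_of_mem_nonunits _ h1
    · intro hx
      refine ⟨?_, Scheme.basicOpen_le _ _ hx⟩
      rw [Scheme.mem_zeroLocus_iff]
      intro f hf
      rw [Set.mem_singleton_iff] at hf
      subst hf
      intro hxe
      have : x ∈ X.basicOpen (e U) ⊓ X.basicOpen (1 - e U) := ⟨hxe, hx⟩
      rw [hmul U] at this
      exact this
  have hopen : IsOpen (I.support : Set X) := by
    have hcov : (I.support : Set X) = ⋃ U : X.affineOpens, (X.basicOpen (1 - e U) : Set X) := by
      ext x
      simp only [Set.mem_iUnion]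
      constructor
      · intro hx
        obtain ⟨U, hxU⟩ : ∃ U : X.affineOpens, x ∈ U.1 := by
          have hx' : x ∈ (⊤ : X.Opens) := trivial
          rw [← AlgebraicGeometry.iSup_affineOpens_eq_top X, TopologicalSpace.Opens.mem_iSup] at hx'
          exact hx'
        exact ⟨U, (Set.ext_iff.mp (hsupp U) x).mp ⟨hx, hxU⟩⟩
      · rintro ⟨U, hx⟩
        exact ((Set.ext_iff.mp (hsupp U) x).mpr hx).1
    rw [hcov]
    exact isOpen_iUnion fun U => (X.basicOpen (1 - e U)).2
  rcases isClopen_iff.mp ⟨I.support.isClosed, hopen⟩ with h0 | h1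
  · exfalso
    apply hI
    rw [← Scheme.IdealSheafData.support_eq_bot_iff]
    exact TopologicalSpace.Closeds.ext h0
  · apply Scheme.IdealSheafData.ext
    funext U
    rw [Scheme.IdealSheafData.ideal_pow, Scheme.IdealSheafData.ideal_bot, Pi.bot_apply, Pi.pow_apply, he2 U]
    have hU1 : (X.basicOpen (1 - e U) : Set X) = U := by
      rw [← hsupp U, h1, Set.univ_inter]
    have hU2 : X.basicOpen (e U) = ⊥ := by
      rw [← hmul U]
      apply le_antisymm
      · refine le_inf le_rfl ?_
        intro x hx
        have : x ∈ (U.1 : Set X) := Scheme.basicOpen_le _ _ hx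
        rw [← hU1] at this
        exact this
      · exact inf_le_left
    have hnil := (Scheme.isNilpotent_iff_basicOpen_eq_bot_of_isCompact U.2.isCompact (e U)).mpr hU2
    obtain ⟨n, hn⟩ := hnil
    have he0 : e U = 0 := by
      rcases Nat.eq_zero_or_pos n with rfl | hpos
      · rw [pow_zero] at hn
        rw [← mul_one (e U), hn, mul_zero]
      · rw [← (he1 U).pow_eq hpos.ne', hn]
    rw [he0]
    simp

end Groth.Agent.S18386
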