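import Groth.Statements.S18387
import Mathlib

set_option autoImplicit false
universe u
open LVCorr

namespace Groth.Agent.S18387

/-- In the affine form which its proof establishes. Let A be a commutative algebra over a field F which
is finite-dimensional of dimension d over F. Then the d-th power of the nilradical of A vanishes.
(Applied to the fibre algebra A = B/mB of a quasi-finite morphism over a closed point with maximal
ideal m, this says that the d-th power of the radical of mB lies in mB, i.e. the ramification of the
morphism at that point is at most the degree d of the fibre.) -/
theorem result (F A : Type u) [Field F] [CommRing A] [Algebra F A]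
    [FiniteDimensional F A] : nilradical A ^ Module.finrank F A = ⊥ := by
  classical
  set N : Ideal A := nilradical A with hN
  have hAnoeth : IsNoetherianRing A := by
    have : IsNoetherian F A := inferInstance
    exact isNoetherian_of_tower F this
  obtain ⟨n, hn⟩ : IsNilpotent N := IsNoetherianRing.isNilpotent_nilradical A
  -- rank function of the powers
  set f : ℕ → ℕ := fun i => Module.finrank F ((N ^ i).restrictScalars F) with hf
  -- stabilisation forces vanishing
  have hstab : ∀ i, N ^ (i + 1) = N ^ i → N ^ i = ⊥ := by
    intro i h
    have h2 : ∀ k, N ^ (i + k) = N ^ i := by
      intro k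
      induction k with
      | zero => rfl
      | succ k ih => rw [← add_assoc, pow_succ, ih, ← pow_succ, h]
    have h3 := h2 n
    rw [pow_add, hn, Ideal.zero_eq_bot, Ideal.mul_bot] at h3
    exact h3.symm
  have hstrict : ∀ i, N ^ i ≠ ⊥ → f (i + 1) < f i := by
    intro i hi
    have hlt : N ^ (i + 1) < N ^ i :=
      lt_of_le_of_ne (Ideal.pow_le_pow_right (Nat.le_succ i)) (fun h => hi (hstab i h))
    have hlt' : (N ^ (i + 1)).restrictScalars F < (N ^ i).restrictScalars F :=
      (Submodule.restrictScalarsEmbedding F A A).lt_iff_lt.2 hlt
    exact Submodule.finrank_lt_finrank_of_lt hlt'
  have hmain : ∀ i, i ≤ Module.finrank F A → N ^ i = ⊥ ∨ f i + i ≤ Module.finrank F A := by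
    intro i
    induction i with
    | zero =>
      intro _
      right
      simp only [hf, add_zero]
      exact Submodule.finrank_le _
    | succ i ih =>
      intro hi
      rcases ih (by omega) with h | h
      · left
        rw [pow_succ, h, Ideal.bot_mul]
      · by_cases h0 : N ^ i = ⊥
        · left
          rw [pow_succ, h0, Ideal.bot_mul]
        · right
          have := hstrict i h0
          omega
  rcases hmain (Module.finrank F A) le_rfl with h | h
  · exact h
  · have h0 : f (Module.finrank F A) = 0 := by omega
    have h1 : (N ^ Module.finrank F A).restrictScalars F = ⊥ := Submodule.finrank_eq_zero.1 h0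
    rw [Submodule.restrictScalars_eq_bot_iff] at h1
    exact h1

end Groth.Agent.S18387
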