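import Groth.Statements.S18389
import Mathlib

set_option autoImplicit false
universe u
open LVCorr

namespace Groth.Agent.S18389

open AlgebraicGeometry CategoryTheory in
/-- Let j : C → C̄ be an open immersion with dense image and jX : X → X̄ an open immersion, and let c₁ :
C → X and c̄₁ : C̄ → X̄ satisfy j followed by c̄₁ equals c₁ followed by jX, with c̄₁ separated. Let
U be an open subset of X such that c₁⁻¹(U) is dense in C and the restriction c₁⁻¹(U) → U of c₁ is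
proper. Then c̄₁⁻¹(jX(U)) = j(c₁⁻¹(U)) as open subsets of C̄. (In the source all schemes are
separated of finite type over a field, C̄ and X̄ are compactifications of a correspondence and of X,
so that c̄₁ is automatically separated.) -/
theorem result {C Cb X Xb : Scheme.{u}}
    (j : C ⟶ Cb) [IsOpenImmersion j] (hj : DenseRange j.base)
    (jX : X ⟶ Xb) [IsOpenImmersion jX] (c₁ : C ⟶ X) (cb₁ : Cb ⟶ Xb) [IsSeparated cb₁]
    (h : j ≫ cb₁ = c₁ ≫ jX) (U : X.Opens) (hU : Dense ((c₁ ⁻¹ᵁ U : C.Opens) : Set C))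
    [IsProper (c₁ ∣_ U)] :
    cb₁ ⁻¹ᵁ (jX ''ᵁ U) = j ''ᵁ (c₁ ⁻¹ᵁ U) := by
  apply le_antisymm
  · intro x hx
    obtain ⟨u, hu, hux⟩ := hx
    let ι' : (U : Scheme) ⟶ Xb := U.ι ≫ jX
    have hcomm : ((c₁ ⁻¹ᵁ U).ι ≫ j) ≫ cb₁ = (c₁ ∣_ U) ≫ ι' := by
      rw [Category.assoc, h, ← Category.assoc, ← morphismRestrict_ι, Category.assoc]
    let ℓ : (c₁ ⁻¹ᵁ U : Scheme) ⟶ Limits.pullback cb₁ ι' :=
      Limits.pullback.lift ((c₁ ⁻¹ᵁ U).ι ≫ j) (c₁ ∣_ U) hcomm
    have hℓ : ℓ ≫ Limits.pullback.snd cb₁ ι' = c₁ ∣_ U := Limits.pullback.lift_snd _ _ _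
    have hℓ1 : ℓ ≫ Limits.pullback.fst cb₁ ι' = (c₁ ⁻¹ᵁ U).ι ≫ j := Limits.pullback.lift_fst _ _ _
    have : IsProper (ℓ ≫ Limits.pullback.snd cb₁ ι') := by rw [hℓ]; infer_instance
    have : UniversallyClosed ℓ :=
      UniversallyClosed.of_comp_of_isSeparated ℓ (Limits.pullback.snd cb₁ ι')
    have hclosed : IsClosed (Set.range ℓ.base) := ℓ.isClosedMap.isClosed_range
    obtain ⟨p, hp1, hp2⟩ := Scheme.Pullback.exists_preimage_pullback (f := cb₁) (g := ι')
      x ⟨u, hu⟩ (by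
        rw [← hux]
        simp [ι'])
    have hemb := (Limits.pullback.fst cb₁ ι').isOpenEmbedding
    have hdense : Dense (Set.range ((c₁ ⁻¹ᵁ U).ι ≫ j).base) := by
      have hr : Set.range ((c₁ ⁻¹ᵁ U).ι ≫ j).base = j.base '' ((c₁ ⁻¹ᵁ U : C.Opens) : Set C) := by
        rw [Scheme.Hom.comp_base, TopCat.coe_comp, Set.range_comp, Scheme.Opens.range_ι]
      rw [hr]
      exact hj.dense_image j.continuous hU
    have hpcl : p ∈ closure (Set.range ℓ.base) := by
      rw [hemb.isInducing.closure_eq_preimage_closure_image, ← Set.range_comp]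
      have hcomp : (Limits.pullback.fst cb₁ ι').base ∘ ℓ.base = ((c₁ ⁻¹ᵁ U).ι ≫ j).base := by
        rw [← hℓ1]; rfl
      rw [hcomp, hdense.closure_eq]
      trivial
    rw [hclosed.closure_eq] at hpcl
    obtain ⟨q, rfl⟩ := hpcl
    refine ⟨(c₁ ⁻¹ᵁ U).ι q, q.2, ?_⟩
    rw [← hp1]
    have := congrArg (fun f => f.base q) hℓ1
    simpa using this.symm
  · rintro _ ⟨y, hy, rfl⟩
    refine ⟨c₁ y, hy, ?_⟩
    have := congrArg (fun f => f.base y) h
    simpa using this.symm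

end Groth.Agent.S18389
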