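import Groth.Statements.S18390
import Mathlib

set_option autoImplicit false
universe u
open LVCorr

namespace Groth.Agent.S18390

theorem pow_le_of_ge {A : Type*} [CommRing A] (P I : Ideal A) (hP : P ≤ I) (k : ℕ)
    (hk : P ^ k ≤ I ^ (k + 1)) (m : ℕ) (hm : k ≤ m) : P ^ m ≤ I ^ (m + 1) := by
  obtain ⟨j, rfl⟩ := Nat.exists_eq_add_of_le hm
  calc P ^ (k + j) = P ^ k * P ^ j := pow_add _ _ _
    _ ≤ I ^ (k + 1) * I ^ j := Ideal.mul_mono hk (Ideal.pow_right_mono hP j)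
    _ = I ^ (k + j + 1) := by rw [← pow_add]; congr 1; omega

theorem sup_pow_le {A : Type*} [CommRing A] (P Q I : Ideal A) (hP : P ≤ I) (hQ : Q ≤ I)
    (K₁ K₂ : ℕ) (h1 : P ^ K₁ ≤ I ^ (K₁ + 1)) (h2 : Q ^ K₂ ≤ I ^ (K₂ + 1)) :
    (P ⊔ Q) ^ (K₁ + K₂) ≤ I ^ (K₁ + K₂ + 1) := by
  rw [← Ideal.add_eq_sup, add_pow, Ideal.sum_eq_sup]
  apply Finset.sup_le
  intro m hm
  rw [Finset.mem_range] at hm
  refine le_trans Ideal.mul_le_left ?_
  rcases le_or_gt K₁ m with h | h
  · calc P ^ m * Q ^ (K₁ + K₂ - m) ≤ I ^ (m + 1) * I ^ (K₁ + K₂ - m) :=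
        Ideal.mul_mono (pow_le_of_ge P I hP K₁ h1 m h) (Ideal.pow_right_mono hQ _)
      _ = I ^ (K₁ + K₂ + 1) := by rw [← pow_add]; congr 1; omega
  · calc P ^ m * Q ^ (K₁ + K₂ - m) ≤ I ^ m * I ^ (K₁ + K₂ - m + 1) :=
        Ideal.mul_mono (Ideal.pow_right_mono hP _) (pow_le_of_ge Q I hQ K₂ h2 _ (by omega))
      _ = I ^ (K₁ + K₂ + 1) := by rw [← pow_add]; congr 1; omega

/-- In the affine, ring-theoretic form which its proof establishes. Let φ : A' → A be a ring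
homomorphism, I' a finitely generated ideal of A' and I an ideal of A containing the image of I'.
Then some power I'^k is mapped into I^(k+1) if and only if for every n ≥ 1 and every a ∈ I'^n there
is a k with φ(a)^k ∈ I^(nk+1). (Geometrically, for a morphism f : (X, Z) → (X', Z') of pairs with Z
a closed subscheme of the preimage of Z', the normal cone of Z in X is the spectrum of the
associated graded algebra of I, and the second condition says that the induced map of normal cones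
sends the normal cone of Z set-theoretically into the zero section Z'; the source states the
equivalence in that language.) -/
theorem result (A' A : Type u) [CommRing A'] [CommRing A]
    (φ : A' →+* A) (I' : Ideal A') (hI' : I'.FG) (I : Ideal A) (hle : I'.map φ ≤ I) :
    (∃ k : ℕ, (I' ^ k).map φ ≤ I ^ (k + 1)) ↔
      ∀ n : ℕ, 1 ≤ n → ∀ a ∈ I' ^ n, ∃ k : ℕ, 1 ≤ k ∧ φ a ^ k ∈ I ^ (n * k + 1) := by
  constructor
  · rintro ⟨k₀, hk₀⟩ n hn a ha
    rcases Nat.eq_zero_or_pos k₀ with rfl | hpos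
    · -- I = ⊤
      have hI : I = ⊤ := by
        rw [Ideal.eq_top_iff_one]
        have h1 : φ 1 ∈ (I' ^ 0).map φ := Ideal.mem_map_of_mem φ (by simp)
        have := hk₀ h1
        simpa using this
      refine ⟨1, le_rfl, ?_⟩
      rw [hI, Ideal.top_pow]
      trivial
    · refine ⟨k₀, hpos, ?_⟩
      have h1 : a ^ k₀ ∈ (I' ^ k₀) ^ n := by
        rw [← pow_mul, mul_comm, pow_mul]
        exact Ideal.pow_mem_pow ha k₀
      have h2 : φ (a ^ k₀) ∈ ((I' ^ k₀) ^ n).map φ := Ideal.mem_map_of_mem φ h1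
      rw [Ideal.map_pow] at h2
      have h3 : ((I' ^ k₀).map φ) ^ n ≤ I ^ (n * k₀ + 1) := by
        calc ((I' ^ k₀).map φ) ^ n ≤ (I ^ (k₀ + 1)) ^ n := Ideal.pow_right_mono hk₀ n
          _ = I ^ ((k₀ + 1) * n) := (pow_mul _ _ _).symm
          _ ≤ I ^ (n * k₀ + 1) := Ideal.pow_le_pow_right (by nlinarith)
      rw [← map_pow]
      exact h3 h2
  · intro h
    have h1 : ∀ a ∈ I', ∃ k : ℕ, 1 ≤ k ∧ φ a ^ k ∈ I ^ (k + 1) := by
      intro a ha
      obtain ⟨k, hk, hk'⟩ := h 1 le_rfl a (by simpa using ha)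
      exact ⟨k, hk, by simpa using hk'⟩
    suffices hsuff : ∀ (J : Submodule A' A') (_ : J.FG), (Ideal.map φ J ≤ I) →
        (∀ a ∈ J, ∃ k : ℕ, 1 ≤ k ∧ φ a ^ k ∈ I ^ (k + 1)) →
        ∃ K : ℕ, (Ideal.map φ J) ^ K ≤ I ^ (K + 1) by
      obtain ⟨K, hK⟩ := hsuff I' hI' hle h1
      exact ⟨K, by rw [Ideal.map_pow]; exact hK⟩
    intro J hJ
    induction J, hJ using Submodule.fg_induction with
    | singleton x =>
      intro _ hx
      obtain ⟨k, _, hk⟩ := hx x (Submodule.mem_span_singleton_self x)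
      refine ⟨k, ?_⟩
      have : Ideal.map φ (Submodule.span A' {x}) = Ideal.span {φ x} := by
        rw [← Ideal.span, Ideal.map_span, Set.image_singleton]
      rw [this, Ideal.span_singleton_pow, Ideal.span_singleton_le_iff_mem]
      exact hk
    | sup J₁ J₂ hJ₁ hJ₂ ih₁ ih₂ =>
      intro hle' hx
      have hle₁ : Ideal.map φ J₁ ≤ I := le_trans (Ideal.map_mono le_sup_left) hle'
      have hle₂ : Ideal.map φ J₂ ≤ I := le_trans (Ideal.map_mono le_sup_right) hle'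
      obtain ⟨K₁, hK₁⟩ := ih₁ hle₁ (fun a ha => hx a (Submodule.mem_sup_left ha))
      obtain ⟨K₂, hK₂⟩ := ih₂ hle₂ (fun a ha => hx a (Submodule.mem_sup_right ha))
      refine ⟨K₁ + K₂, ?_⟩
      have : Ideal.map φ (J₁ ⊔ J₂) = Ideal.map φ J₁ ⊔ Ideal.map φ J₂ := Ideal.map_sup _ _ _
      rw [this]
      exact sup_pow_le _ _ I hle₁ hle₂ K₁ K₂ hK₁ hK₂

end Groth.Agent.S18390
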