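import Groth.Statements.S18391
import Mathlib

set_option autoImplicit false
universe u
open LVCorr

namespace Groth.Agent.S18391


theorem height_one_loc {A : Type*} [CommRing A] [IsDomain A] [IsNoetherianRing A]
    [IsIntegrallyClosed A] (P : Ideal A) [hP : P.IsPrime]
    (key : ∀ Q : Ideal A, Q.IsPrime → Q ≤ P → Q ≠ ⊥ → Q = P) :
    ∃ t : A, t ∈ P ∧ ∀ x : A, x ≠ 0 →
      ∃ (r : ℕ) (a s : A), a ∉ P ∧ s ∉ P ∧ a * x = s * t ^ r := by
  have hM : P.primeCompl ≤ nonZeroDivisors A := P.primeCompl_le_nonZeroDivisors
  let B := Localization.AtPrime P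
  have : IsDomain B := IsLocalization.isDomain_localization hM
  have : IsIntegrallyClosed B := isIntegrallyClosed_of_isLocalization B P.primeCompl hM
  have : IsNoetherianRing B := IsLocalization.isNoetherianRing P.primeCompl B inferInstance
  have hinj : Function.Injective (algebraMap A B) := IsLocalization.injective B hM
  have hprimes : ∀ Q : Ideal B, Q ≠ ⊥ → Q.IsPrime → Q = IsLocalRing.maximalIdeal B := by
    intro Q hQ0 hQ
    have hQ' : (Q.under A).IsPrime := Ideal.comap_isPrime _ _
    have hle : Q.under A ≤ P := by
      have h1 : (IsLocalRing.maximalIdeal B).under A = P :=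
        IsLocalization.AtPrime.under_maximalIdeal B P
      exact (Ideal.comap_mono (IsLocalRing.le_maximalIdeal hQ.ne_top)).trans h1.le
    have hne : Q.under A ≠ ⊥ := by
      intro h
      apply hQ0
      rw [← IsLocalization.map_under P.primeCompl B Q, h, Ideal.map_bot]
    have := key _ hQ' hle hne
    rw [← IsLocalization.map_under P.primeCompl B Q, this,
      Localization.AtPrime.map_eq_maximalIdeal]
  have tfae := tfae_of_isNoetherianRing_of_isLocalRing_of_isDomain B
  have hcond : IsIntegrallyClosed B ∧
      ∀ Q : Ideal B, Q ≠ ⊥ → Q.IsPrime → Q = IsLocalRing.maximalIdeal B :=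
    ⟨inferInstance, hprimes⟩
  have hprin : (IsLocalRing.maximalIdeal B).IsPrincipal := (tfae.out 3 4).mp hcond
  have hpow : ∀ I : Ideal B, I ≠ ⊥ → ∃ n : ℕ, I = IsLocalRing.maximalIdeal B ^ n :=
    (tfae.out 3 6).mp hcond
  obtain ⟨ϖ, hϖ⟩ := hprin.principal
  obtain ⟨t₀, s₀, hts⟩ := IsLocalization.exists_mk'_eq P.primeCompl ϖ
  have hspec : ϖ * algebraMap A B s₀ = algebraMap A B t₀ := by
    rw [← hts]; exact IsLocalization.mk'_spec B t₀ s₀
  have hunit : IsUnit (algebraMap A B s₀) := IsLocalization.map_units B s₀
  have hmax : IsLocalRing.maximalIdeal B = Ideal.span {algebraMap A B t₀} := by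
    rw [hϖ, ← Ideal.submodule_span_eq, Ideal.span_singleton_eq_span_singleton]
    exact ⟨hunit.unit, by simpa using hspec⟩
  refine ⟨t₀, ?_, ?_⟩
  · rw [← IsLocalization.AtPrime.to_map_mem_maximal_iff B P t₀, hmax]
    exact Ideal.mem_span_singleton_self _
  · intro x hx
    have hx' : algebraMap A B x ≠ 0 := fun h => hx (hinj (by rw [h, map_zero]))
    have hne : Ideal.span {algebraMap A B x} ≠ ⊥ := by
      rw [Ne, Ideal.span_singleton_eq_bot]; exact hx'
    obtain ⟨r, hr⟩ := hpow _ hne
    rw [hmax, Ideal.span_singleton_pow, Ideal.span_singleton_eq_span_singleton] at hr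
    obtain ⟨u, hu⟩ := hr
    obtain ⟨a, s, has⟩ := IsLocalization.exists_mk'_eq P.primeCompl (u : B)
    have hspec2 : (u : B) * algebraMap A B s = algebraMap A B a := by
      rw [← has]; exact IsLocalization.mk'_spec B a s
    refine ⟨r, a, s, ?_, s.2, ?_⟩
    · have hua : IsUnit (algebraMap A B a) := by
        rw [← hspec2]; exact u.isUnit.mul (IsLocalization.map_units B s)
      have := (IsLocalization.AtPrime.isUnit_to_map_iff B P a).mp hua
      exact this
    · apply hinj
      rw [map_mul, map_mul, map_pow, ← hu, ← hspec2]
      ring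

/-- Let A be a normal (integrally closed) Noetherian domain and z an element of A such that the radical
of the principal ideal (z) is prime. Then there exist elements w, t of A and a natural number r,
with w not in the radical of (z), such that in the localization A[1/w] the ideal generated by z
equals the ideal generated by t^r and the ideal generated by t is prime. (The condition on w is the
one the printed proof produces and the later use of the lemma needs.) -/
theorem result (A : Type u) [CommRing A] [IsDomain A]
    [IsNoetherianRing A] [IsIntegrallyClosed A] (z : A) (hz : (Ideal.span {z}).radical.IsPrime) :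
    ∃ (w t : A) (r : ℕ), w ∉ (Ideal.span {z}).radical ∧
      Ideal.span {algebraMap A (Localization.Away w) z} =
        Ideal.span {algebraMap A (Localization.Away w) t ^ r} ∧
      (Ideal.span {algebraMap A (Localization.Away w) t}).IsPrime := by
  classical
  by_cases hz0 : z = 0
  · subst hz0
    refine ⟨1, 0, 1, ?_, ?_, ?_⟩
    · intro h
      exact hz.ne_top ((Ideal.eq_top_iff_one _).mpr h)
    · simp
    · have : IsDomain (Localization.Away (1 : A)) :=
        IsLocalization.isDomain_localization
          (powers_le_nonZeroDivisors_of_noZeroDivisors one_ne_zero)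
      rw [map_zero, Ideal.span_singleton_eq_bot.mpr rfl]
      exact Ideal.isPrime_bot
  · set P := (Ideal.span {z}).radical with hPdef
    have hzP : z ∈ P := Ideal.le_radical (Ideal.mem_span_singleton_self z)
    have hPmin : P ∈ (Ideal.span {z}).minimalPrimes := by
      refine ⟨⟨hz, Ideal.le_radical⟩, ?_⟩
      rintro Q ⟨hQ, hzQ⟩ hQP
      exact hQ.radical_le_iff.mpr hzQ
    have hht : P.height ≤ 1 :=
      Ideal.height_le_one_of_isPrincipal_of_mem_minimalPrimes _ _ hPmin
    have key : ∀ Q : Ideal A, Q.IsPrime → Q ≤ P → Q ≠ ⊥ → Q = P := by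
      intro Q hQ hQP hQ0
      by_contra hne'
      have hlt : Q < P := lt_of_le_of_ne hQP hne'
      have h1 := Ideal.height_strict_mono_of_isPrime_of_isPrime hlt
      have h2 : Q.height = 0 := by
        have : Q.height < 1 := lt_of_lt_of_le h1 hht
        exact Order.lt_one_iff.mp this
      exact hQ0 (Ideal.height_eq_zero_iff_eq_bot.mp h2)
    obtain ⟨t, htP, hfac⟩ := height_one_loc P key
    obtain ⟨r, a, s, ha, hs, hasz⟩ := hfac z hz0
    obtain ⟨G, hG⟩ := (IsNoetherian.noetherian P : P.FG)
    have hgen : ∀ p ∈ G, ∃ (b c : A), b ∉ P ∧ b * p = c * t := by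
      intro p hp
      have hpP : p ∈ P := hG ▸ Ideal.subset_span hp
      by_cases hp0 : p = 0
      · exact ⟨1, 0, fun h => hz.ne_top ((Ideal.eq_top_iff_one _).mpr h), by simp [hp0]⟩
      obtain ⟨r', a', s', ha', hs', h'⟩ := hfac p hp0
      rcases Nat.eq_zero_or_pos r' with rfl | hpos
      · exfalso
        apply hs'
        rw [pow_zero, mul_one] at h'
        rw [← h']
        exact P.mul_mem_left _ hpP
      · refine ⟨a', s' * t ^ (r' - 1), ha', ?_⟩
        rw [h', mul_assoc, ← pow_succ, Nat.sub_add_cancel hpos]
    choose! bb cc hb1 hb2 using hgen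
    set w := a * s * ∏ p ∈ G, bb p with hw
    have hwP : w ∉ P := by
      intro h
      rcases hz.mem_or_mem h with h1 | h1
      · rcases hz.mem_or_mem h1 with h2 | h2
        · exact ha h2
        · exact hs h2
      · rw [hz.prod_mem_iff] at h1
        obtain ⟨p, hp, hbp⟩ := h1
        exact hb1 p hp hbp
    refine ⟨w, t, r, hwP, ?_, ?_⟩
    · have hwu : IsUnit (algebraMap A (Localization.Away w) w) :=
        IsLocalization.Away.algebraMap_isUnit w
      have hau : IsUnit (algebraMap A (Localization.Away w) a) :=
        isUnit_of_dvd_unit (map_dvd _ ⟨s * ∏ p ∈ G, bb p, by rw [hw]; ring⟩) hwu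
      have hsu : IsUnit (algebraMap A (Localization.Away w) s) :=
        isUnit_of_dvd_unit (map_dvd _ ⟨a * ∏ p ∈ G, bb p, by rw [hw]; ring⟩) hwu
      have h1 : algebraMap A (Localization.Away w) a * algebraMap A (Localization.Away w) z =
          algebraMap A (Localization.Away w) s * algebraMap A (Localization.Away w) t ^ r := by
        rw [← map_mul, hasz, map_mul, map_pow]
      apply le_antisymm
      · rw [Ideal.span_singleton_le_span_singleton, ← hau.dvd_mul_left, h1]
        exact Dvd.intro_left _ rfl
      · rw [Ideal.span_singleton_le_span_singleton, ← hsu.dvd_mul_left, ← h1]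
        exact Dvd.intro_left _ rfl
    · have hwu : IsUnit (algebraMap A (Localization.Away w) w) :=
        IsLocalization.Away.algebraMap_isUnit w
      have hdisj : Disjoint ((Submonoid.powers w : Submonoid A) : Set A) (P : Set A) := by
        rw [Set.disjoint_left]
        rintro _ ⟨m, rfl⟩ hm
        exact hwP (hz.mem_of_pow_mem _ hm)
      have hprime : (P.map (algebraMap A (Localization.Away w))).IsPrime :=
        IsLocalization.isPrime_of_isPrime_disjoint (Submonoid.powers w) _ P hz hdisj
      have heq : Ideal.span {algebraMap A (Localization.Away w) t} =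
          P.map (algebraMap A (Localization.Away w)) := by
        apply le_antisymm
        · rw [Ideal.span_singleton_le_iff_mem]
          exact Ideal.mem_map_of_mem _ htP
        · rw [← hG, Ideal.map_span, Ideal.span_le]
          rintro _ ⟨p, hp, rfl⟩
          have hbu : IsUnit (algebraMap A (Localization.Away w) (bb p)) := by
            refine isUnit_of_dvd_unit (map_dvd _ ?_) hwu
            rw [hw]
            exact Dvd.dvd.mul_left (Finset.dvd_prod_of_mem bb hp) _
          rw [SetLike.mem_coe, Ideal.mem_span_singleton, ← hbu.dvd_mul_left, ← map_mul,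
            hb2 p hp, map_mul]
          exact Dvd.intro_left _ rfl
      rw [heq]
      exact hprime

end Groth.Agent.S18391
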