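import Groth.Statements.S18392
import Mathlib

set_option autoImplicit false
universe u
open LVCorr

namespace Groth.Agent.S18392

/-- Let A be a normal (integrally closed) Noetherian domain and z an element of A such that the radical
of (z) is prime. Then for every non-empty open subset V of Spec A contained in the basic open set
D(z) (that is, every non-empty open subset of Spec A[1/z]) there is an element x of A, not in the
radical of (z), such that the basic open set D(xz) = Spec A[1/xz] is contained in V. -/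
theorem result (A : Type u) [CommRing A]
    [IsDomain A] [IsNoetherianRing A] [IsIntegrallyClosed A] (z : A)
    (hz : (Ideal.span {z}).radical.IsPrime) (V : Set (PrimeSpectrum A)) (hV : IsOpen V)
    (hVz : V ⊆ (PrimeSpectrum.basicOpen z : Set (PrimeSpectrum A))) (hne : V.Nonempty) :
    ∃ x : A, x ∉ (Ideal.span {z}).radical ∧
      ((PrimeSpectrum.basicOpen (x * z) : TopologicalSpace.Opens (PrimeSpectrum A)) :
        Set (PrimeSpectrum A)) ⊆ V := by
  classical
  have hz0 : z ≠ 0 := by
    rintro rfl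
    obtain ⟨p, hp⟩ := hne
    have := hVz hp
    simp at this
  set P := (Ideal.span {z}).radical with hP
  have hzP : z ∈ P := Ideal.le_radical (Ideal.mem_span_singleton_self z)
  have hPmin : P ∈ (Ideal.span {z}).minimalPrimes := by
    refine ⟨⟨hz, Ideal.le_radical⟩, ?_⟩
    rintro Q ⟨hQ, hzQ⟩ hQP
    exact hQ.radical_le_iff.mpr hzQ
  have hht : P.height ≤ 1 :=
    Ideal.height_le_one_of_isPrincipal_of_mem_minimalPrimes _ _ hPmin
  have key : ∀ Q : Ideal A, Q.IsPrime → Q ≤ P → Q ≠ ⊥ → Q = P := by
    intro Q hQ hQP hQ0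
    by_contra hne'
    have hlt : Q < P := lt_of_le_of_ne hQP hne'
    have h1 := Ideal.height_strict_mono_of_isPrime_of_isPrime hlt
    have h2 : Q.height = 0 := by
      have : Q.height < 1 := lt_of_lt_of_le h1 hht
      exact Order.lt_one_iff.mp this
    exact hQ0 (Ideal.height_eq_zero_iff_eq_bot.mp h2)
  obtain ⟨s, hs⟩ := (PrimeSpectrum.isOpen_iff V).mp hV
  obtain ⟨p, hp⟩ := hne
  have hp' : p ∉ PrimeSpectrum.zeroLocus s := by
    rw [← hs]; simpa using hp
  obtain ⟨y, hys, hyp⟩ : ∃ y ∈ s, y ∉ p.asIdeal := by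
    by_contra hcon
    apply hp'
    intro y hy
    by_contra h'
    exact hcon ⟨y, hy, h'⟩
  have hy0 : y ≠ 0 := by
    rintro rfl
    exact hyp (Ideal.zero_mem _)
  have hDy : ∀ q : PrimeSpectrum A, y ∉ q.asIdeal → q ∈ V := by
    intro q hq
    by_contra hqV
    have : q ∈ PrimeSpectrum.zeroLocus s := by
      rw [← hs]; exact hqV
    exact hq (this hys)
  have hyP : y ∈ P := by
    by_contra hyP
    have := hVz (hDy ⟨P, hz⟩ hyP)
    exact this hzP
  have hfin := Ideal.finite_minimalPrimes_of_isNoetherianRing A (Ideal.span {y})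
  have hex : ∀ Q : Ideal A, Q ∈ (Ideal.span {y}).minimalPrimes → Q ≠ P → ∃ x ∈ Q, x ∉ P := by
    intro Q hQ hQP
    by_contra hcon
    apply hQP
    apply key Q hQ.1.1
    · intro x hx
      by_contra h'
      exact hcon ⟨x, hx, h'⟩
    · intro hbot
      have : y ∈ Q := hQ.1.2 (Ideal.mem_span_singleton_self y)
      rw [hbot] at this
      exact hy0 (by simpa using this)
  choose! f hf1 hf2 using hex
  refine ⟨∏ Q ∈ hfin.toFinset.filter (fun Q => Q ≠ P), f Q, ?_, ?_⟩
  · intro hmem
    rw [hz.prod_mem_iff] at hmem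
    obtain ⟨Q, hQ, hfQ⟩ := hmem
    rw [Finset.mem_filter, Set.Finite.mem_toFinset] at hQ
    exact hf2 Q hQ.1 hQ.2 hfQ
  · intro q hq
    apply hDy
    intro hyq
    have hle : Ideal.span {y} ≤ q.asIdeal := by
      rw [Ideal.span_le]; simpa using hyq
    obtain ⟨Q, hQ, hQq⟩ := Ideal.exists_minimalPrimes_le hle
    apply hq
    by_cases hQP : Q = P
    · exact Ideal.mul_mem_left _ _ (hQq (hQP ▸ hzP))
    · apply Ideal.mul_mem_right
      have hmemF : Q ∈ hfin.toFinset.filter (fun Q => Q ≠ P) := by
        rw [Finset.mem_filter, Set.Finite.mem_toFinset]; exact ⟨hQ, hQP⟩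
      have hdvd := Finset.dvd_prod_of_mem f hmemF
      exact Ideal.mem_of_dvd _ hdvd (hQq (hf1 Q hQ hQP))

end Groth.Agent.S18392
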