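import Groth.Statements.S18393
import Mathlib

set_option autoImplicit false
universe u v
open LVCorr

namespace Groth.Agent.S18393

/-- Stated for the underlying continuous maps. Let c₁, c₂ : C → X be continuous maps with C a Noetherian
topological space, let Z be a closed subset of X and B the closure in C of c₂⁻¹(Z) ∖ c₁⁻¹(Z). Call Z
locally invariant when every point x of Z has an open neighbourhood U such that every y in C with
c₂(y) ∈ Z ∩ U and c₁(y) ∈ U satisfies c₁(y) ∈ Z. Then Z is locally invariant if and only if for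
every irreducible subset T of B the closures of c₁(T) and of c₂(T) in X are disjoint. (The source
states this for a correspondence c = (c₁, c₂) : C → X × X of separated schemes of finite type over
an algebraically closed field and for the irreducible components of B; the condition for all
irreducible subsets of B is the same condition.) -/
theorem result {C : Type u} {X : Type v}
    [TopologicalSpace C] [TopologicalSpace X] [TopologicalSpace.NoetherianSpace C]
    (c₁ c₂ : C → X) (hc₁ : Continuous c₁) (hc₂ : Continuous c₂) (Z : Set X) (hZ : IsClosed Z) :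
    (∀ x ∈ Z, ∃ U : Set X, IsOpen U ∧ x ∈ U ∧
        ∀ y : C, c₂ y ∈ Z → c₂ y ∈ U → c₁ y ∈ U → c₁ y ∈ Z) ↔
      ∀ T : Set C, T ⊆ closure (c₂ ⁻¹' Z \ c₁ ⁻¹' Z) → IsIrreducible T →
        closure (c₁ '' T) ∩ closure (c₂ '' T) = ∅ := by
  classical
  set W : Set C := c₂ ⁻¹' Z \ c₁ ⁻¹' Z with hW
  constructor
  · -- (⇒)
    intro hLI T hT hTirr
    by_contra hne
    obtain ⟨x, hx1, hx2⟩ := Set.nonempty_iff_ne_empty.2 hne
    -- closure (c₂ '' T) ⊆ Z
    have hc₂T : closure (c₂ '' T) ⊆ Z := by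
      apply closure_minimal _ hZ
      rintro _ ⟨y, hy, rfl⟩
      have hy' : y ∈ closure W := hT hy
      have hcl : closure W ⊆ c₂ ⁻¹' Z := by
        apply closure_minimal _ (hZ.preimage hc₂)
        intro w hw
        exact hw.1
      exact hcl hy'
    have hxZ : x ∈ Z := hc₂T hx2
    obtain ⟨U, hUo, hxU, hU⟩ := hLI x hxZ
    -- T meets c₁⁻¹ U and c₂⁻¹ U
    have h1 : (T ∩ c₁ ⁻¹' U).Nonempty := by
      obtain ⟨_, hyU, ⟨y, hy, rfl⟩⟩ := mem_closure_iff.1 hx1 U hUo hxU
      exact ⟨y, hy, hyU⟩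
    have h2 : (T ∩ c₂ ⁻¹' U).Nonempty := by
      obtain ⟨_, hyU, ⟨y, hy, rfl⟩⟩ := mem_closure_iff.1 hx2 U hUo hxU
      exact ⟨y, hy, hyU⟩
    obtain ⟨y, hyT, hy1, hy2⟩ := hTirr.2 (c₁ ⁻¹' U) (c₂ ⁻¹' U) (hUo.preimage hc₁) (hUo.preimage hc₂) h1 h2
    -- y ∈ closure W, and V = c₁⁻¹U ∩ c₂⁻¹U is an open nbhd
    have hyB : y ∈ closure W := hT hyT
    obtain ⟨y', ⟨hy'1, hy'2⟩, hy'W⟩ := mem_closure_iff.1 hyB (c₁ ⁻¹' U ∩ c₂ ⁻¹' U)
      ((hUo.preimage hc₁).inter (hUo.preimage hc₂)) ⟨hy1, hy2⟩
    exact hy'W.2 (hU y' hy'W.1 hy'2 hy'1)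
  · -- (⇐)
    intro h x hxZ
    obtain ⟨S, hSf, hSc, hSi, hSU⟩ :=
      TopologicalSpace.NoetherianSpace.exists_finite_set_isClosed_irreducible
        (isClosed_closure (s := W))
    -- for each component choose a closed set avoiding x
    have hchoice : ∀ T ∈ S, ∃ Fc : Set X, IsClosed Fc ∧ x ∉ Fc ∧
        (closure (c₁ '' T) = Fc ∨ closure (c₂ '' T) = Fc) := by
      intro T hT
      have hTsub : T ⊆ closure W := by
        rw [hSU]; exact Set.subset_sUnion_of_mem hT
      have hdis := h T hTsub (hSi T hT)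
      by_cases hx1 : x ∈ closure (c₁ '' T)
      · refine ⟨closure (c₂ '' T), isClosed_closure, ?_, Or.inr rfl⟩
        intro hx2
        have : x ∈ closure (c₁ '' T) ∩ closure (c₂ '' T) := ⟨hx1, hx2⟩
        rw [hdis] at this
        exact this
      · exact ⟨closure (c₁ '' T), isClosed_closure, hx1, Or.inl rfl⟩
    choose! Fc hFc using hchoice
    refine ⟨⋂ T ∈ S, (Fc T)ᶜ, ?_, ?_, ?_⟩
    · exact hSf.isOpen_biInter (fun T hT => (hFc T hT).1.isOpen_compl)
    · simp only [Set.mem_iInter, Set.mem_compl_iff]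
      intro T hT
      exact (hFc T hT).2.1
    · intro y hy2Z hy2U hy1U
      by_contra hy1Z
      have hyW : y ∈ W := ⟨hy2Z, hy1Z⟩
      have hyB : y ∈ closure W := subset_closure hyW
      rw [hSU] at hyB
      obtain ⟨T, hT, hyT⟩ := hyB
      simp only [Set.mem_iInter, Set.mem_compl_iff] at hy1U hy2U
      rcases (hFc T hT).2.2 with hF | hF
      · apply hy1U T hT
        rw [← hF]
        exact subset_closure ⟨y, hyT, rfl⟩
      · apply hy2U T hT
        rw [← hF]
        exact subset_closure ⟨y, hyT, rfl⟩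

end Groth.Agent.S18393
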