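import Groth.Statements.S18399
import Mathlib

set_option autoImplicit false
universe u
open CAlg

namespace Groth.Agent.S18399


theorem avg_lemma {k A : Type*} [Field k] [CommRing A] [Algebra k A] (σ : A →ₐ[k] A) (n : ℕ)
    (hσ : ∀ a, (⇑σ)^[n] a = a) (hn : (n : k) ≠ 0) (J : Ideal A) (hJ : ∀ a ∈ J, σ a ∈ J)
    (z : A) (hz : z - σ z ∈ J) : ∃ u ∈ J, u - σ u = z - σ z := by
  have hl : ∀ l : ℕ, z - (⇑σ)^[l] z ∈ J := by
    intro l
    induction l with
    | zero => simp
    | succ l ih =>
      have : z - (⇑σ)^[l + 1] z = (z - σ z) + σ (z - (⇑σ)^[l] z) := by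
        rw [Function.iterate_succ_apply', map_sub]; ring
      rw [this]
      exact J.add_mem hz (hJ _ ih)
  refine ⟨(n : k)⁻¹ • ∑ l ∈ Finset.range n, (z - (⇑σ)^[l] z), ?_, ?_⟩
  · exact Submodule.smul_of_tower_mem J _ (J.sum_mem fun l _ => hl l)
  · rw [map_smul, ← smul_sub, map_sum, ← Finset.sum_sub_distrib]
    have h1 : ∀ l ∈ Finset.range n, (z - (⇑σ)^[l] z) - σ (z - (⇑σ)^[l] z) =
        (z - σ z) - ((⇑σ)^[l] z - (⇑σ)^[l + 1] z) := by
      intro l _
      rw [Function.iterate_succ_apply', map_sub]; ring
    rw [Finset.sum_congr rfl h1, Finset.sum_sub_distrib, Finset.sum_range_sub', Finset.sum_const,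
      Finset.card_range, Function.iterate_zero, id_eq, hσ, sub_self, sub_zero,
      ← Nat.cast_smul_eq_nsmul k, smul_smul, inv_mul_cancel₀ hn, one_smul]

theorem one_sub_mul_mem {A : Type*} [CommRing A] (σ : A →+* A) (𝔪 : Ideal A)
    (h𝔪 : ∀ a ∈ 𝔪, σ a ∈ 𝔪) (u : A) (hu : u ∈ 𝔪 * 𝔪) :
    u - σ u ∈ 𝔪 * Ideal.span (Set.range fun a => a - σ a) := by
  refine Submodule.smul_induction_on (p := fun u => u - σ u ∈
    𝔪 * Ideal.span (Set.range fun a => a - σ a)) hu ?_ ?_
  · intro a ha b hb
    have : a • b - σ (a • b) = b * (a - σ a) + σ a * (b - σ b) := by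
      rw [smul_eq_mul, map_mul]; ring
    rw [this]
    exact Ideal.add_mem _ (Ideal.mul_mem_mul hb (Ideal.subset_span ⟨a, rfl⟩))
      (Ideal.mul_mem_mul (h𝔪 a ha) (Ideal.subset_span ⟨b, rfl⟩))
  · intro x y hx hy
    have : x + y - σ (x + y) = (x - σ x) + (y - σ y) := by rw [map_add]; ring
    rw [this]
    exact Ideal.add_mem _ hx hy

/-- Let k be a field and A a regular local k-algebra with residue field k (the structure map from k onto
the residue field of A is surjective), let σ be a k-algebra endomorphism of A of finite order n with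
n invertible in k, and let I_σ be the ideal of A generated by the elements f - σ f. Then I_σ is
generated by finitely many elements of the maximal ideal whose classes in the cotangent space m/m^2
are linearly independent over the residue field. (Such elements are part of a regular system of
parameters of A, hence part of a regular sequence, which is the printed conclusion; the generators
with independent classes are what the argument produces.) -/
theorem result {k : Type u} [Field k] {A : Type u} [CommRing A] [Algebra k A] [IsRegularLocalRing A] (hres : Function.Surjective ⇑(algebraMap k (IsLocalRing.ResidueField A))) (σ : A →ₐ[k] A) (n : ℕ) (hσ : ∀ a : A, (⇑σ)^[n] a = a) (hn : (n : k) ≠ 0) : ∃ (m : ℕ) (f : Fin m → ↥(IsLocalRing.maximalIdeal A)), Ideal.span (Set.range fun i : Fin m => (f i : A)) = Ideal.span (Set.range fun a : A => a - σ a) ∧ LinearIndependent (IsLocalRing.ResidueField A) (fun i : Fin m => (IsLocalRing.maximalIdeal A).toCotangent (f i)) := by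
  classical
  have hn0 : n ≠ 0 := by
    rintro rfl
    simp at hn
  have hunit : ∀ (l : ℕ) (b : A), IsUnit b → IsUnit ((⇑σ)^[l] b) := by
    intro l b hb
    induction l with
    | zero => simpa using hb
    | succ l ih =>
      rw [Function.iterate_succ_apply']
      exact ih.map σ
  have hσ𝔪 : ∀ a ∈ IsLocalRing.maximalIdeal A, σ a ∈ IsLocalRing.maximalIdeal A := by
    intro a ha
    rw [IsLocalRing.mem_maximalIdeal, mem_nonunits_iff] at ha ⊢
    intro hu
    apply ha
    obtain ⟨n', rfl⟩ := Nat.exists_eq_succ_of_ne_zero hn0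
    have := hunit n' (σ a) hu
    rwa [← Function.iterate_succ_apply, hσ] at this
  have hσ2 : ∀ a ∈ IsLocalRing.maximalIdeal A ^ 2, σ a ∈ IsLocalRing.maximalIdeal A ^ 2 := by
    intro a ha
    have h1 : IsLocalRing.maximalIdeal A ≤ (IsLocalRing.maximalIdeal A).comap (σ : A →+* A) :=
      fun x hx => hσ𝔪 x hx
    exact ((Ideal.pow_right_mono h1 2).trans (Ideal.le_comap_pow (σ : A →+* A) 2)) ha
  have hdec : ∀ a : A, ∃ c : k, a - algebraMap k A c ∈ IsLocalRing.maximalIdeal A := by
    intro a
    obtain ⟨c, hc⟩ := hres (IsLocalRing.residue A a)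
    refine ⟨c, ?_⟩
    rw [← IsLocalRing.residue_eq_zero_iff, map_sub, ← hc, IsScalarTower.algebraMap_apply k A,
      IsLocalRing.ResidueField.algebraMap_eq, sub_self]
  -- the map y
  set y : IsLocalRing.maximalIdeal A → IsLocalRing.maximalIdeal A :=
    fun x => ⟨(x : A) - σ x, sub_mem x.2 (hσ𝔪 x x.2)⟩ with hy
  set T : IsLocalRing.maximalIdeal A → IsLocalRing.CotangentSpace A :=
    fun x => (IsLocalRing.maximalIdeal A).toCotangent (y x) with hT
  obtain ⟨b, hbs, hspan, hli⟩ :=
    exists_linearIndependent (IsLocalRing.ResidueField A) (Set.range T)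
  have hbfin : Finite b := hli.finite
  have : Fintype b := Fintype.ofFinite b
  have hX : ∀ v : b, ∃ x : IsLocalRing.maximalIdeal A, T x = v.1 := fun v => hbs v.2
  choose X hX using hX
  -- the main claim over the index type b
  have hmain : Ideal.span (Set.range fun v : b => ((y (X v) : IsLocalRing.maximalIdeal A) : A)) =
      Ideal.span (Set.range fun a : A => a - σ a) := by
    apply le_antisymm
    · rw [Ideal.span_le]
      rintro _ ⟨v, rfl⟩
      exact Ideal.subset_span ⟨(X v : A), rfl⟩
    · refine Submodule.le_of_le_smul_of_le_jacobson_bot (I := IsLocalRing.maximalIdeal A)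
        (IsNoetherian.noetherian _) (IsLocalRing.maximalIdeal_le_jacobson ⊥) ?_
      rw [Ideal.span_le]
      rintro _ ⟨a, rfl⟩
      obtain ⟨c, hx⟩ := hdec a
      set x : A := a - algebraMap k A c with hxdef
      have hax : a - σ a = x - σ x := by
        rw [hxdef, map_sub, AlgHom.commutes]; ring
      have hTx : T ⟨x, hx⟩ ∈ Submodule.span (IsLocalRing.ResidueField A) (Set.range T) :=
        Submodule.subset_span ⟨_, rfl⟩
      rw [← hspan, ← Subtype.range_coe (s := b), Submodule.mem_span_range_iff_exists_fun] at hTx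
      obtain ⟨cc, hcc⟩ := hTx
      have hc' : ∀ v : b, ∃ c' : k, algebraMap k (IsLocalRing.ResidueField A) c' = cc v :=
        fun v => hres (cc v)
      choose c' hc' using hc'
      -- the element w
      set w : IsLocalRing.maximalIdeal A :=
        y ⟨x, hx⟩ - ∑ v : b, (algebraMap k A (c' v)) • y (X v) with hw
      have hw0 : (IsLocalRing.maximalIdeal A).toCotangent w = 0 := by
        rw [hw, map_sub, map_sum, sub_eq_zero]
        change T ⟨x, hx⟩ = _
        rw [← hcc]
        apply Finset.sum_congr rfl
        intro v _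
        rw [map_smul, ← hc' v, IsScalarTower.algebraMap_apply k A (IsLocalRing.ResidueField A),
          algebraMap_smul]
        change _ • v.1 = _ • T (X v)
        rw [hX v]
      rw [Ideal.toCotangent_eq_zero] at hw0
      set z : A := x - ∑ v : b, algebraMap k A (c' v) * (X v : A) with hz
      have hwz : (w : A) = z - σ z := by
        rw [hw, hz]
        simp only [AddSubgroupClass.coe_sub, AddSubmonoidClass.coe_finsetSum, map_sub, map_sum,
          map_mul, AlgHom.commutes, hy, SetLike.val_smul, smul_eq_mul]
        simp only [mul_sub, Finset.sum_sub_distrib]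
        ring
      rw [hwz] at hw0
      obtain ⟨u, hu, huz⟩ := avg_lemma σ n hσ hn _ hσ2 z hw0
      have hu' : u - σ u ∈ IsLocalRing.maximalIdeal A *
          Ideal.span (Set.range fun a => a - σ a) := by
        have := one_sub_mul_mem (σ : A →+* A) (IsLocalRing.maximalIdeal A) hσ𝔪 u
          (by rwa [← pow_two])
        exact this
      have hfinal : a - σ a = (∑ v : b, algebraMap k A (c' v) * ((y (X v) : IsLocalRing.maximalIdeal A) : A))
          + (u - σ u) := by
        rw [hax, huz, hz]
        simp only [map_sub, map_sum, map_mul, AlgHom.commutes, hy]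
        simp only [mul_sub, Finset.sum_sub_distrib]
        ring
      suffices hgoal : a - σ a ∈ Ideal.span (Set.range fun v : b =>
          ((y (X v) : IsLocalRing.maximalIdeal A) : A)) ⊔ IsLocalRing.maximalIdeal A •
          Ideal.span (Set.range fun a : A => a - σ a) from hgoal
      rw [hfinal]
      refine Submodule.add_mem_sup ?_ ?_
      · refine Submodule.sum_mem _ fun v _ => ?_
        exact Ideal.mul_mem_left _ _ (Ideal.subset_span ⟨v, rfl⟩)
      · rw [smul_eq_mul]
        exact hu'
  -- reindex
  set e : Fin (Nat.card b) ≃ b := (Finite.equivFin b).symm with he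
  refine ⟨Nat.card b, fun i => y (X (e i)), ?_, ?_⟩
  · rw [← hmain]
    congr 1
    exact e.surjective.range_comp (fun v : b => ((y (X v) : IsLocalRing.maximalIdeal A) : A))
  · have := hli.comp e e.injective
    convert this using 1
    funext i
    exact hX (e i)

end Groth.Agent.S18399
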