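import Groth.Statements.S1840
import Mathlib
import Groth.Agent.Lib.Helper1.CycDetD

set_option autoImplicit false
universe u v
open CycDet

namespace Groth.Agent.S1840

open IsLocalRing CycDet Groth.Agent.H1.CycDetA in
lemma wedge_eq_zero_of_mem {R : Type u} [CommRing R] [IsLocalRing R] {M : Type v} [AddCommGroup M]
    [Module R M] [Module (ResidueField R) M] [IsScalarTower R (ResidueField R) M] {n : ℕ}
    (v : Fin n → M) (a : Fin n) (h : v a ∈ spanBefore R M v a) :
    exteriorPower.ιMulti (ResidueField R) n v = 0 := by
  apply AlternatingMap.map_linearDependent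
  intro hli
  have h1 : v a ∉ Submodule.span (ResidueField R) (v '' {j : Fin n | (j : ℕ) < a}) := by
    apply hli.notMem_span_image
    simp
  apply h1
  have h2 : Submodule.span R (v '' {j : Fin n | (j : ℕ) < a}) ≤
      (Submodule.span (ResidueField R) (v '' {j : Fin n | (j : ℕ) < a})).restrictScalars R :=
    Submodule.span_le_restrictScalars R (ResidueField R) _
  exact h2 h

open IsLocalRing CycDet Groth.Agent.H1.CycDetA in
lemma smul_eq_residue_smul {R : Type u} [CommRing R] [IsLocalRing R] {M : Type v} [AddCommGroup M]
    [Module R M] [Module (ResidueField R) M] [IsScalarTower R (ResidueField R) M] (r : R) (x : M) :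
    r • x = residue R r • x := by
  rw [← IsLocalRing.ResidueField.algebraMap_eq, algebraMap_smul]

open IsLocalRing CycDet Groth.Agent.H1.CycDetA in
lemma isAdmissible_of_vectorSpace {R : Type u} [CommRing R] [IsLocalRing R] {M : Type v}
    [AddCommGroup M]
    [Module R M] [Module (ResidueField R) M] [IsScalarTower R (ResidueField R) M] {n : ℕ}
    (v : Fin n → M) : IsAdmissible R M v := by
  intro i r hr
  rw [smul_eq_residue_smul, (IsLocalRing.residue_eq_zero_iff r).2 hr, zero_smul]
  exact Submodule.zero_mem _

/-- Let M be a finite-dimensional vector space over the residue field κ of a local ring R, viewed as an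
R-module. There is a κ-linear isomorphism from det_κ(M) to the top exterior power of M sending the
symbol of an admissible tuple (e₁, …, e_l) to e₁ ∧ … ∧ e_l. -/
theorem result (R : Type u) [CommRing R] [IsLocalRing R] (M : Type v) [AddCommGroup M] [Module R M] [Module (IsLocalRing.ResidueField R) M] [IsScalarTower R (IsLocalRing.ResidueField R) M] [Module.Finite (IsLocalRing.ResidueField R) M] : ∃ Φ : CycDet.Det R M ≃ₗ[IsLocalRing.ResidueField R] (⋀[IsLocalRing.ResidueField R]^((Module.length R M).toNat) M), ∀ e : CycDet.Adm R M (Module.length R M).toNat, Φ (CycDet.symbol R M e) = exteriorPower.ιMulti (IsLocalRing.ResidueField R) ((Module.length R M).toNat) e.1 := by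
  open IsLocalRing CycDet Groth.Agent.H1.CycDetA in
  classical
  have hlen : Module.length R M = (Module.finrank (ResidueField R) M : ℕ∞) := by
    rw [Module.length_eq_of_surjective (R := ResidueField R) (S := R) (M := M)
      IsLocalRing.residue_surjective, Module.length_eq_finrank]
  have hn : (Module.length R M).toNat = Module.finrank (ResidueField R) M := by
    rw [hlen, ENat.toNat_natCast]
  set n := (Module.length R M).toNat with hndef
  let φ : Adm R M n → ⋀[ResidueField R]^n M := fun e => exteriorPower.ιMulti (ResidueField R) n e.1
  let Φ₀ : DetOfLen R M n →ₗ[ResidueField R] ⋀[ResidueField R]^n M :=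
    lift φ
      (by
        intro e a ha
        exact wedge_eq_zero_of_mem e.1 a ha)
      (by
        intro e e' a c h1 h2
        simp only [φ]
        set y := e.1 a - (c : R) • e'.1 a with hy
        have he : e.1 = Function.update e'.1 a ((c : R) • e'.1 a + y) := by
          funext j
          by_cases hja : j = a
          · subst hja
            rw [Function.update_self, hy]; abel
          · rw [Function.update_of_ne hja]
            exact h1 j hja
        rw [he, AlternatingMap.map_update_add, smul_eq_residue_smul,
          AlternatingMap.map_update_smul, Function.update_eq_self]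
        have hz : exteriorPower.ιMulti (ResidueField R) n (Function.update e'.1 a y) = 0 := by
          apply wedge_eq_zero_of_mem _ a
          rw [Function.update_self]
          have : spanBefore R M (Function.update e'.1 a y) a = spanBefore R M e.1 a := by
            apply spanBefore_congr
            intro j hj
            have hja : j ≠ a := by
              intro h0; rw [h0] at hj; exact lt_irrefl _ hj
            rw [Function.update_of_ne hja]
            exact (h1 j hja).symm
          rw [this]
          exact h2
        rw [hz, add_zero])
      (by
        intro e e' a b hab hm he'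
        simp only [φ]
        rw [he']
        have hne : a ≠ b := by
          intro h0; rw [h0] at hab; omega
        rw [AlternatingMap.map_swap _ _ hne, add_neg_cancel])
  have hΦ₀ : ∀ e : Adm R M n, Φ₀ (mk e) = exteriorPower.ιMulti (ResidueField R) n e.1 := by
    intro e
    exact lift_mk _ _ _ _ e
  have hsurj : Function.Surjective Φ₀ := by
    rw [← LinearMap.range_eq_top, eq_top_iff, ← exteriorPower.ιMulti_span, Submodule.span_le]
    rintro _ ⟨v, rfl⟩
    exact ⟨mk ⟨v, isAdmissible_of_vectorSpace v⟩, hΦ₀ _⟩
  have hrank : Module.rank (ResidueField R) (DetOfLen R M n) ≤ 1 := by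
    apply rank_detOfLen_le_one
    have : Module.length R M ≠ ⊤ := by rw [hlen]; exact ENat.natCast_ne_top _
    exact (ENat.natCast_toNat this).symm
  have hfinDet : Module.Finite (ResidueField R) (DetOfLen R M n) := by
    rw [← Module.rank_lt_aleph0_iff]
    exact lt_of_le_of_lt hrank Cardinal.one_lt_aleph0
  have hfr1 : Module.finrank (ResidueField R) (⋀[ResidueField R]^n M) = 1 := by
    rw [exteriorPower.finrank_eq, hn, Nat.choose_self]
  have hfr2 : Module.finrank (ResidueField R) (DetOfLen R M n) ≤ 1 := by
    have := Module.finrank_le_of_rank_le (n := 1) (by simpa using hrank)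
    exact this
  have hfr3 : 1 ≤ Module.finrank (ResidueField R) (DetOfLen R M n) := by
    rw [← hfr1]
    exact LinearMap.finrank_le_finrank_of_surjective hsurj
  have hfr : Module.finrank (ResidueField R) (DetOfLen R M n) =
      Module.finrank (ResidueField R) (⋀[ResidueField R]^n M) := by omega
  have hinj : Function.Injective Φ₀ :=
    (LinearMap.injective_iff_surjective_of_finrank_eq_finrank hfr).2 hsurj
  refine ⟨LinearEquiv.ofBijective Φ₀ ⟨hinj, hsurj⟩, ?_⟩
  intro e
  exact hΦ₀ e

end Groth.Agent.S1840
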