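import Groth.Statements.S18423
import Groth.Agent.Lib.Helper9.Misc.PFD1

set_option autoImplicit false
universe u v
open Pi1

namespace Groth.Agent.S18423

/-- Let A be a Noetherian local ring of Krull dimension at least 2 and B a finite flat commutative
A-algebra. If B is etale over A at every prime of B lying over a non-maximal prime of A (that is,
Spec B is etale over the punctured spectrum of A), then B is etale over A. -/
theorem result (A : Type u) (B : Type v) [CommRing A] [CommRing B]
    [Algebra A B] [IsNoetherianRing A] [IsLocalRing A] (hdim : (2 : WithBot ℕ∞) ≤ ringKrullDim A)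
    [Module.Finite A B] [Module.Flat A B]
    (h : ∀ q : PrimeSpectrum B, q.asIdeal.comap (algebraMap A B) ≠ IsLocalRing.maximalIdeal A →
      Algebra.IsEtaleAt A q.asIdeal) :
    Algebra.Etale A B := by
  refine Groth.Agent.H9.PFD.main A B hdim (fun q hq => ?_)
  have h1 : Algebra.FormallyEtale A (Localization.AtPrime q.asIdeal) := h q hq
  show Algebra.FormallyUnramified A (Localization.AtPrime q.asIdeal)
  infer_instance

end Groth.Agent.S18423
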