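import Groth.Statements.S18427
import Groth.Agent.Lib.Helper5.ArS.H0Ded
import Groth.Agent.Lib.Helper5.Gro.Pi1D
import Groth.Agent.Lib.Lead.Stein.Local

set_option autoImplicit false
universe u
open Models

namespace Groth.Agent.S18427



open CategoryTheory AlgebraicGeometry in
/-- Let R be a discrete valuation ring with fraction field K, C a smooth proper geometrically connected
curve over K, and X a regular proper model of C over R (flat and proper over R, regular, with
generic fibre C). Then the structure morphism X → Spec R has geometrically connected fibres; in
particular the special fibre of X is geometrically connected over the residue field of R. -/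
theorem result (R : Type u) [CommRing R] [IsDomain R]
    [IsDiscreteValuationRing R] (C X : Scheme.{u})
    (f : C ⟶ Spec (CommRingCat.of (FractionRing R))) (p : X ⟶ Spec (CommRingCat.of R))
    (hC : Curve.IsSmoothProperCurve (FractionRing R) C f) [GeometricallyConnected f]
    (hX : Models.IsRegularProperModel R X p C f) :
    GeometricallyConnected p := by
  obtain ⟨hprop, hsm, hint, hdim⟩ := hC
  haveI := hprop
  haveI := hsm
  haveI : GeometricallyReduced f := Groth.Agent.H5.Gro.geometricallyReduced_of_smooth _ f
  have hfbij := Groth.Agent.H5.ArS.bijective_toGlobal_of_geometrically (FractionRing R) f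
  have hH0 : IsIso f.appTop := by
    rw [ConcreteCategory.isIso_iff_bijective]
    have h1 : Function.Bijective ((Scheme.ΓSpecIso (CommRingCat.of (FractionRing R))).inv.hom) :=
      ConcreteCategory.bijective_of_isIso (Scheme.ΓSpecIso _).inv
    exact (Function.Bijective.of_comp_iff (f.appTop.hom) h1).mp hfbij
  have hbij := Groth.Agent.H5.ArS.bijective_toGlobal_of_model f p hX hH0
  haveI := hX.2.1
  have hiso : IsIso (p.app ⊤) := by
    rw [ConcreteCategory.isIso_iff_bijective]
    have h1 : Function.Bijective ((Scheme.ΓSpecIso (CommRingCat.of R)).inv.hom) :=
      ConcreteCategory.bijective_of_isIso (Scheme.ΓSpecIso _).inv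
    exact (Function.Bijective.of_comp_iff (p.appTop.hom) h1).mp hbij
  rw [GeometricallyConnected.iff_geometricallyConnected_fiber]
  intro s
  exact Groth.Agent.LD.Stein.geometricallyConnected_fiber p Groth.Agent.H6.HC.formalBij s ⊤
    (isAffineOpen_top _) trivial hiso

end Groth.Agent.S18427
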