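import Groth.Statements.S18429
import Mathlib

set_option autoImplicit false
universe u
open SpinCurv

namespace Groth.Agent.S18429

/-- Let n ≥ 1 and r ≥ 2 be integers and let e_0, …, e_{nr} be integers with e_0 = e_{nr} = 0 (the
coefficients of a chain of nr - 1 exceptional curves joining two non-exceptional components with
coefficient zero) such that at every interior index 1 ≤ j ≤ nr - 1 the second difference e_{j-1} - 2
e_j + e_{j+1} (the degree of the divisor Σ e_i E_i on the j-th curve of the chain) is divisible by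
r. Then there are integers e'_0, …, e'_{nr}, with e'_j ≡ e_j modulo r for every interior j, with
e'_0 = e'_{nr} = 0 and every e'_j ≤ 0, whose second differences at the interior indices are each 0
or r, and are nonzero at no two distinct interior indices. -/
theorem result (n r : ℕ) (hn : 1 ≤ n) (hr : 2 ≤ r)
    (e : ℕ → ℤ) (he0 : e 0 = 0) (henr : e (n * r) = 0)
    (hdiv : ∀ j : ℕ, 1 ≤ j → j < n * r → (r : ℤ) ∣ e (j - 1) - 2 * e j + e (j + 1)) :
    ∃ e' : ℕ → ℤ, e' 0 = 0 ∧ e' (n * r) = 0 ∧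
      (∀ j : ℕ, 1 ≤ j → j < n * r → (r : ℤ) ∣ e' j - e j) ∧
      (∀ j : ℕ, j ≤ n * r → e' j ≤ 0) ∧
      (∀ j : ℕ, 1 ≤ j → j < n * r →
        (e' (j - 1) - 2 * e' j + e' (j + 1) = 0 ∨ e' (j - 1) - 2 * e' j + e' (j + 1) = r)) ∧
      (∀ j j' : ℕ, 1 ≤ j → j < n * r → 1 ≤ j' → j' < n * r →
        e' (j - 1) - 2 * e' j + e' (j + 1) ≠ 0 → e' (j' - 1) - 2 * e' j' + e' (j' + 1) ≠ 0 → j = j') := by
  have h1 : ∀ j : ℕ, j < n * r → (r : ℤ) ∣ (e (j + 1) - e j) - (e 1 - e 0) := by
    intro j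
    induction j with
    | zero => intro _; simp
    | succ j ih =>
      intro hj
      have h2 := hdiv (j + 1) (by omega) hj
      have h3 := ih (by omega)
      rw [Nat.add_sub_cancel] at h2
      have : (e (j + 1 + 1) - e (j + 1)) - (e 1 - e 0) =
          (e j - 2 * e (j + 1) + e (j + 1 + 1)) + ((e (j + 1) - e j) - (e 1 - e 0)) := by ring
      rw [this]
      exact dvd_add h2 h3
  have hlin : ∀ m : ℕ, m ≤ n * r → (r : ℤ) ∣ e m - m * e 1 := by
    intro m
    induction m with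
    | zero => intro _; simp [he0]
    | succ m ih =>
      intro hm
      have h3 := ih (by omega)
      have h4 := h1 m (by omega)
      have : e (m + 1) - ((m + 1 : ℕ) : ℤ) * e 1 =
          (e m - m * e 1) + ((e (m + 1) - e m) - (e 1 - e 0)) := by
        rw [he0]; push_cast; ring
      rw [this]
      exact dvd_add h3 h4
  have hrpos : (0 : ℤ) < r := by exact_mod_cast (by omega : 0 < r)
  have hn0 : (0 : ℤ) ≤ n := Nat.cast_nonneg n
  obtain ⟨a, ha0, har, hadvd⟩ : ∃ a : ℤ, 0 ≤ a ∧ a < r ∧ (r : ℤ) ∣ a + e 1 := by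
    refine ⟨(-e 1) % r, Int.emod_nonneg _ (ne_of_gt hrpos), Int.emod_lt_of_pos _ hrpos, ?_⟩
    rw [Int.emod_def]
    exact ⟨-((-e 1) / r), by ring⟩
  obtain ⟨j₀, hj₀⟩ : ∃ j₀ : ℤ, j₀ = n * (r - a) := ⟨_, rfl⟩
  have hj₀0 : 0 ≤ j₀ := by rw [hj₀]; exact mul_nonneg hn0 (by linarith)
  have hj₀le : j₀ ≤ n * r := by
    rw [hj₀]; exact mul_le_mul_of_nonneg_left (by linarith) hn0
  let e' : ℕ → ℤ := fun j => if (j : ℤ) ≤ j₀ then -a * j else (r - a) * (j - n * r)
  have he'1 : ∀ j : ℕ, (j : ℤ) ≤ j₀ → e' j = -a * j := fun j hj => if_pos hj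
  have he'2 : ∀ j : ℕ, j₀ ≤ (j : ℤ) → e' j = (r - a) * (j - n * r) := by
    intro j hj
    by_cases h : (j : ℤ) ≤ j₀
    · have hjj : (j : ℤ) = j₀ := le_antisymm h hj
      rw [he'1 j h, hjj, hj₀]; ring
    · exact if_neg h
  have hsd0 : ∀ k : ℕ, ((k : ℤ) + 1 ≠ j₀) → e' k - 2 * e' (k + 1) + e' (k + 1 + 1) = 0 := by
    intro k hk
    rcases lt_or_gt_of_ne hk with h | h
    · rw [he'1 k (by linarith), he'1 (k + 1) (by push_cast; linarith),
        he'1 (k + 1 + 1) (by push_cast; linarith)]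
      push_cast; ring
    · rw [he'2 k (by linarith), he'2 (k + 1) (by push_cast; linarith),
        he'2 (k + 1 + 1) (by push_cast; linarith)]
      push_cast; ring
  have hsdr : ∀ k : ℕ, ((k : ℤ) + 1 = j₀) → e' k - 2 * e' (k + 1) + e' (k + 1 + 1) = r := by
    intro k hk
    rw [he'1 k (by linarith), he'1 (k + 1) (by push_cast; linarith),
      he'2 (k + 1 + 1) (by push_cast; linarith)]
    push_cast
    rw [hj₀] at hk
    linear_combination (r : ℤ) * hk
  refine ⟨e', ?_, ?_, ?_, ?_, ?_, ?_⟩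
  · rw [he'1 0 (by exact_mod_cast hj₀0)]; simp
  · rw [he'2 (n * r) (by push_cast; exact hj₀le)]; push_cast; ring
  · intro j _ hj2
    by_cases h : (j : ℤ) ≤ j₀
    · rw [he'1 j h]
      have : -a * j - e j = -(j : ℤ) * (a + e 1) - (e j - j * e 1) := by ring
      rw [this]
      exact dvd_sub (dvd_mul_of_dvd_right hadvd _) (hlin j hj2.le)
    · rw [he'2 j (by linarith)]
      have : (r - a) * ((j : ℤ) - n * r) - e j =
          r * (j - n * r + a * n) - (j : ℤ) * (a + e 1) - (e j - j * e 1) := by ring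
      rw [this]
      exact dvd_sub (dvd_sub (dvd_mul_right _ _) (dvd_mul_of_dvd_right hadvd _)) (hlin j hj2.le)
  · intro j hj
    have hjle : (j : ℤ) ≤ n * r := by exact_mod_cast hj
    by_cases h : (j : ℤ) ≤ j₀
    · rw [he'1 j h]
      have : 0 ≤ a * j := mul_nonneg ha0 (Nat.cast_nonneg j)
      linarith
    · rw [he'2 j (by linarith)]
      exact mul_nonpos_of_nonneg_of_nonpos (by linarith) (by linarith)
  · intro j hj1 _
    obtain ⟨k, rfl⟩ : ∃ k, j = k + 1 := ⟨j - 1, by omega⟩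
    rw [Nat.add_sub_cancel]
    by_cases hk : (k : ℤ) + 1 = j₀
    · right; exact hsdr k hk
    · left; exact hsd0 k hk
  · intro j j' hj1 _ hj'1 _ hne hne'
    obtain ⟨k, rfl⟩ : ∃ k, j = k + 1 := ⟨j - 1, by omega⟩
    obtain ⟨k', rfl⟩ : ∃ k', j' = k' + 1 := ⟨j' - 1, by omega⟩
    rw [Nat.add_sub_cancel] at hne hne'
    have hk : (k : ℤ) + 1 = j₀ := by
      by_contra h
      exact hne (hsd0 k h)
    have hk' : (k' : ℤ) + 1 = j₀ := by
      by_contra h
      exact hne' (hsd0 k' h)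
    have : (k : ℤ) = k' := by linarith
    have : k = k' := by exact_mod_cast this
    rw [this]

end Groth.Agent.S18429
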