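import Groth.Statements.S18431
import Mathlib

set_option autoImplicit false
universe u
open SpinCurv

namespace Groth.Agent.S18431

/-- Let R be a Noetherian local ring in which the natural number r is invertible and let ξ, ζ ∈ R
satisfy ξ^r = 1 and ζ^r = 1. Then either ξ = ζ, or ξ - ζ is a unit of R. (Consequently an element of
R annihilated by ξ - ζ is zero unless ξ = ζ. In the published setting R is moreover complete; the
step does not use completeness.) -/
theorem result (R : Type u) [CommRing R] [IsNoetherianRing R] [IsLocalRing R]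
    (r : ℕ) (hr : IsUnit (r : R)) (ξ ζ : R) (hξ : ξ ^ r = 1) (hζ : ζ ^ r = 1) :
    ξ = ζ ∨ IsUnit (ξ - ζ) := by
  by_cases hu : IsUnit (ξ - ζ)
  · exact Or.inr hu
  · left
    have hm : ξ - ζ ∈ IsLocalRing.maximalIdeal R := by
      rwa [IsLocalRing.mem_maximalIdeal, mem_nonunits_iff]
    have hres : IsLocalRing.residue R ξ = IsLocalRing.residue R ζ := by
      rw [← sub_eq_zero, ← map_sub, IsLocalRing.residue_eq_zero_iff]
      exact hm
    have hr0 : r ≠ 0 := by
      rintro rfl
      simp at hr
    have hζu : IsUnit ζ := IsUnit.of_pow_eq_one hζ hr0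
    have hS : (∑ i ∈ Finset.range r, ξ ^ i * ζ ^ (r - 1 - i)) * (ξ - ζ) = 0 := by
      rw [geom_sum₂_mul, hξ, hζ, sub_self]
    have hSu : IsUnit (∑ i ∈ Finset.range r, ξ ^ i * ζ ^ (r - 1 - i)) := by
      rw [← isUnit_map_iff (IsLocalRing.residue R), map_sum]
      have h1 : ∀ i ∈ Finset.range r, IsLocalRing.residue R (ξ ^ i * ζ ^ (r - 1 - i)) =
          IsLocalRing.residue R ζ ^ (r - 1) := by
        intro i hi
        rw [map_mul, map_pow, map_pow, hres, ← pow_add]
        congr 1
        have := Finset.mem_range.mp hi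
        omega
      rw [Finset.sum_congr rfl h1, Finset.sum_const, Finset.card_range, nsmul_eq_mul]
      have h2 : IsUnit (IsLocalRing.residue R (r : R)) := hr.map _
      rw [map_natCast] at h2
      exact h2.mul ((hζu.map _).pow _)
    exact sub_eq_zero.mp (hSu.mul_right_eq_zero.mp hS)

end Groth.Agent.S18431
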