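import Groth.Statements.S18457
import Mathlib

set_option autoImplicit false
open Finset
open Surf

namespace Groth.Agent.S18457

/-- In the Picard lattice of the plane blown up at n ≤ 8 points, with basis h, e_1, …, e_n, form h² = 1,
e_i² = −1, all other products 0, and anticanonical class D = 3h − Σ e_i, let d·h − Σ a_i e_i be a
class with all a_i ≥ 0 (the class of the strict transform of a degree-d plane curve having
multiplicity a_i at the i-th point) which is a (−2)-class orthogonal to D, that is d² − Σ a_i² = −2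
and 3d = Σ a_i. Then one of the following holds: d = 1 and every a_i is 0 or 1 with exactly three
equal to 1; d = 2 and every a_i is 0 or 1 with exactly six equal to 1; d = 3, n = 8, and one a_i
equals 2 while the remaining seven equal 1. The published statement is geometric: under the
general-position hypotheses on the points, no smooth rational curve on the blown-up plane is
orthogonal to D; this row is the lattice enumeration its proof carries out (a line through three of
the points, a conic through six, a cubic through all eight and singular at one). -/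
theorem result (n : ℕ) (hn : n ≤ 8)
    (d : ℤ) (a : Fin n → ℤ) (ha : ∀ i, 0 ≤ a i)
    (hsq : d ^ 2 - ∑ i, (a i) ^ 2 = -2) (hK : 3 * d = ∑ i, a i) :
    (d = 1 ∧ (∀ i, a i = 0 ∨ a i = 1) ∧ (Finset.univ.filter (fun i => a i = 1)).card = 3) ∨
      (d = 2 ∧ (∀ i, a i = 0 ∨ a i = 1) ∧ (Finset.univ.filter (fun i => a i = 1)).card = 6) ∨
      (d = 3 ∧ n = 8 ∧ ∃ j, a j = 2 ∧ ∀ i, i ≠ j → a i = 1) := by
  classical
  have hid : ∀ (c t : ℤ), ∑ i, (c * a i - t) ^ 2 =
      c ^ 2 * ∑ i, (a i) ^ 2 - 2 * c * t * ∑ i, a i + n * t ^ 2 := by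
    intro c t
    have : ∀ i, (c * a i - t) ^ 2 = c ^ 2 * (a i) ^ 2 - 2 * c * t * a i + t ^ 2 := fun i => by ring
    simp only [this, Finset.sum_add_distrib, Finset.sum_sub_distrib, ← Finset.mul_sum,
      Finset.sum_const, Finset.card_univ, Fintype.card_fin, nsmul_eq_mul]
  have hS1 : ∑ i, a i = 3 * d := hK.symm
  have hS2 : ∑ i, (a i) ^ 2 = d ^ 2 + 2 := by linarith
  have hn' : (n : ℤ) ≤ 8 := by exact_mod_cast hn
  have hd0 : 0 ≤ d := by
    have : 0 ≤ ∑ i, a i := Finset.sum_nonneg fun i _ => ha i
    linarith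
  have hd4 : d ≤ 4 := by
    have h1 := hid 8 (3 * d)
    have h2 : 0 ≤ ∑ i, (8 * a i - 3 * d) ^ 2 := Finset.sum_nonneg fun i _ => sq_nonneg _
    rw [hS1, hS2] at h1
    nlinarith
  -- T = Σ a_i (a_i - 1)
  have hT : ∑ i, a i * (a i - 1) = d ^ 2 + 2 - 3 * d := by
    have : ∀ i, a i * (a i - 1) = (a i) ^ 2 - a i := fun i => by ring
    simp only [this, Finset.sum_sub_distrib, hS1, hS2]
  have hTnn : ∀ i, 0 ≤ a i * (a i - 1) := by
    intro i
    rcases (ha i).eq_or_lt with h | h
    · rw [← h]; simp
    · exact mul_nonneg (ha i) (by linarith)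
  have h01 : ∀ i, a i * (a i - 1) = 0 → a i = 0 ∨ a i = 1 := by
    intro i h
    rcases mul_eq_zero.mp h with h | h
    · exact Or.inl h
    · exact Or.inr (by linarith)
  have hcount : (∀ i, a i = 0 ∨ a i = 1) →
      ((Finset.univ.filter (fun i => a i = 1)).card : ℤ) = ∑ i, a i := by
    intro h
    rw [Finset.card_filter]
    push_cast
    apply Finset.sum_congr rfl
    intro i _
    rcases h i with h | h <;> simp [h]
  interval_cases d
  · -- d = 0
    exfalso
    have h0 : ∀ i ∈ Finset.univ, a i = 0 :=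
      (Finset.sum_eq_zero_iff_of_nonneg fun i _ => ha i).mp (by simpa using hS1)
    have : ∑ i, (a i) ^ 2 = 0 := Finset.sum_eq_zero fun i hi => by rw [h0 i hi]; simp
    rw [hS2] at this
    norm_num at this
  · -- d = 1
    left
    have hz : ∀ i ∈ Finset.univ, a i * (a i - 1) = 0 :=
      (Finset.sum_eq_zero_iff_of_nonneg fun i _ => hTnn i).mp (by rw [hT]; norm_num)
    have hall : ∀ i, a i = 0 ∨ a i = 1 := fun i => h01 i (hz i (Finset.mem_univ i))
    refine ⟨rfl, hall, ?_⟩
    have := hcount hall
    rw [hS1] at this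
    exact_mod_cast this
  · -- d = 2
    right; left
    have hz : ∀ i ∈ Finset.univ, a i * (a i - 1) = 0 :=
      (Finset.sum_eq_zero_iff_of_nonneg fun i _ => hTnn i).mp (by rw [hT]; norm_num)
    have hall : ∀ i, a i = 0 ∨ a i = 1 := fun i => h01 i (hz i (Finset.mem_univ i))
    refine ⟨rfl, hall, ?_⟩
    have := hcount hall
    rw [hS1] at this
    exact_mod_cast this
  · -- d = 3
    right; right
    have hT' : ∑ i, a i * (a i - 1) = 2 := by rw [hT]; norm_num
    obtain ⟨j, hj⟩ : ∃ j, 2 ≤ a j := by
      by_contra hcon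
      have hall : ∀ i, a i * (a i - 1) = 0 := by
        intro i
        have h1 : a i < 2 := by
          by_contra h
          exact hcon ⟨i, by linarith⟩
        have h2 := ha i
        interval_cases (a i) <;> simp
      have : ∑ i, a i * (a i - 1) = 0 := Finset.sum_eq_zero fun i _ => hall i
      rw [hT'] at this
      norm_num at this
    have hsplit : ∑ i, a i * (a i - 1) =
        a j * (a j - 1) + ∑ i ∈ Finset.univ.erase j, a i * (a i - 1) :=
      (Finset.add_sum_erase _ _ (Finset.mem_univ j)).symm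
    have hrest_nn : 0 ≤ ∑ i ∈ Finset.univ.erase j, a i * (a i - 1) :=
      Finset.sum_nonneg fun i _ => hTnn i
    have hj2 : a j = 2 := by nlinarith
    have hrest0 : ∑ i ∈ Finset.univ.erase j, a i * (a i - 1) = 0 := by
      rw [hj2] at hsplit; linarith
    have hz : ∀ i ∈ Finset.univ.erase j, a i * (a i - 1) = 0 :=
      (Finset.sum_eq_zero_iff_of_nonneg fun i _ => hTnn i).mp hrest0
    have hothers : ∀ i, i ≠ j → a i = 0 ∨ a i = 1 := fun i hi =>
      h01 i (hz i (Finset.mem_erase.mpr ⟨hi, Finset.mem_univ i⟩))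
    have hsplit1 : ∑ i, a i = a j + ∑ i ∈ Finset.univ.erase j, a i :=
      (Finset.add_sum_erase _ _ (Finset.mem_univ j)).symm
    have hsum7 : ∑ i ∈ Finset.univ.erase j, a i = 7 := by
      rw [hS1, hj2] at hsplit1; linarith
    have hcard : ((Finset.univ.erase j : Finset (Fin n)).card : ℤ) = n - 1 := by
      rw [Finset.card_erase_of_mem (Finset.mem_univ j), Finset.card_univ, Fintype.card_fin]
      have : 1 ≤ n := Nat.succ_le_of_lt (Fin.pos j)
      push_cast [Nat.cast_sub this]; ring
    have hdef : ∑ i ∈ Finset.univ.erase j, (1 - a i) = (n : ℤ) - 1 - 7 := by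
      rw [Finset.sum_sub_distrib, hsum7, Finset.sum_const, nsmul_eq_mul, hcard]; ring
    have hdef_nn : ∀ i ∈ Finset.univ.erase j, 0 ≤ 1 - a i := by
      intro i hi
      rcases hothers i (Finset.mem_erase.mp hi).1 with h | h <;> rw [h] <;> norm_num
    have hdef0 : 0 ≤ (n : ℤ) - 1 - 7 := by rw [← hdef]; exact Finset.sum_nonneg hdef_nn
    have hn8 : n = 8 := by omega
    refine ⟨rfl, hn8, j, hj2, ?_⟩
    intro i hi
    have hzero : ∑ i ∈ Finset.univ.erase j, (1 - a i) = 0 := by rw [hdef, hn8]; norm_num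
    have := (Finset.sum_eq_zero_iff_of_nonneg hdef_nn).mp hzero i
      (Finset.mem_erase.mpr ⟨hi, Finset.mem_univ i⟩)
    linarith
  · -- d = 4
    exfalso
    have h1 := hid 2 3
    rw [hS1, hS2] at h1
    have h2 : (n : ℤ) ≤ ∑ i, (2 * a i - 3) ^ 2 := by
      have h3 : ∀ i ∈ (Finset.univ : Finset (Fin n)), (1 : ℤ) ≤ (2 * a i - 3) ^ 2 := by
        intro i _
        have : 2 * a i - 3 ≠ 0 := by omega
        have h4 : 0 < (2 * a i - 3) ^ 2 := by positivity
        linarith
      have := Finset.sum_le_sum h3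
      simpa using this
    nlinarith

end Groth.Agent.S18457
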