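import Groth.Statements.S18463
import Groth.Agent.Lib.Helper5.NegCfg.Cfg
import Groth.Agent.Lib.Helper1.SmoothDepth

set_option autoImplicit false
universe u
open CategoryTheory CategoryTheory.Limits AlgebraicGeometry TopologicalSpace
open Surf

namespace Groth.Agent.S18463



/-- Let k be an algebraically closed field of characteristic zero and X a smooth projective surface over
k (integral, proper and smooth over k, of dimension 2, carrying an ample invertible module). Let
C_1, …, C_r be pairwise distinct integral curves on X with ideal sheaves I_i and negative definite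
intersection matrix (Σ_{i,j} a_i a_j (I_i·I_j) < 0 for every nonzero integer vector a, where (A·B) =
χ(O_X) − χ(A) − χ(B) + χ(A ⊗ B)), let F be an effective Cartier divisor on X, with ideal I_F, none
of whose components is a C_i, and let s_1, …, s_r be integers such that F is numerically equivalent
to Σ_i s_i C_i: (I_F·M) = Σ_i s_i (I_i·M) for every invertible O_X-module M (equivalently (F·D) = Σ
s_i (C_i·D) for every divisor D). Then F = 0, i.e. I_F = O_X, and every s_i is 0. The published
statement writes the hypothesis as [F] + Σ s_i[C_i] = 0 with real s_i; this row writes F ≡ Σ s_i C_i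
with integer s_i, which is the same after changing the signs of the s_i. -/
theorem result (k : Type u) [Field k] [IsAlgClosed k] [CharZero k]
    (X : Scheme.{u}) [X.Over (Spec (CommRingCat.of k))] [IsProper (X ↘ (Spec (CommRingCat.of k)))]
    [Smooth (X ↘ (Spec (CommRingCat.of k)))] [IsIntegral X] (hdim : topologicalKrullDim X = 2)
    (hproj : ∃ H : X.Modules, CohB1.IsAmple H)
    (r : ℕ) (C : Fin r → X.IdealSheafData) (hC : Function.Injective C)
    (hCi : ∀ i, IsIntegral (C i).subscheme) (hCd : ∀ i, topologicalKrullDim ((C i).support : Set X) = 1)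
    (hneg : ∀ a : Fin r → ℤ, a ≠ 0 →
      ∑ i, ∑ j, a i * a j * FGA.intNum k X 2 ![(ClSub.idealMod (C i)), (ClSub.idealMod (C j))] (Coh.structureModule X) < 0)
    (F : X.IdealSheafData) (hF : FGA.IsEffCartier F) (hFC : ∀ i, ¬ ((C i).support : Set X) ⊆ (F.support : Set X))
    (s : Fin r → ℤ)
    (hnum : ∀ M : X.Modules, PicF.IsInvertible M →
      FGA.intNum k X 2 ![(ClSub.idealMod F), M] (Coh.structureModule X) =
        ∑ i, s i * FGA.intNum k X 2 ![(ClSub.idealMod (C i)), M] (Coh.structureModule X)) :
    F = ⊤ ∧ ∀ i, s i = 0 := by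
  have hreg : ∀ x : X, IsRegularLocalRing (X.presheaf.stalk x) := fun x =>
    Groth.Agent.H1.SmoothDepth.isRegularLocalRing_stalk_of_smooth k
      (X ↘ Spec (CommRingCat.of k)) x
  obtain ⟨H, hH⟩ := hproj
  have hFinv : PicF.IsInvertible (ClSub.idealMod F) :=
    (Groth.Agent.LD.QC.isInvertible_idealMod_iff F).mpr hF
  have hinv := fun i => Groth.Agent.H5.NegCfg.isInvertible_curve k X hdim hreg C hCi hCd i
  have hHneg := Groth.Agent.H5.NegCfg.curve_ample_neg k X hdim hreg C hCi hCd H hH
  -- `s ≤ 0`
  have hs : ∀ i, 0 ≤ - s i := by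
    refine Groth.Agent.H5.NegCfg.nonneg_of_solve_int (Groth.Agent.H5.NegCfg.gram k X C)
      (Groth.Agent.H5.NegCfg.gram_off_nonneg k X hdim hreg C hC hCi hCd) hneg (fun i => - s i)
      (fun j => - FGA.intNum k X 2 ![ClSub.idealMod F, ClSub.idealMod (C j)]
        (Coh.structureModule X)) ?_ ?_
    · intro j
      have := Groth.Agent.H5.NegCfg.intNum_eff_curve_nonneg k X hdim F (C j) (hCi j) (hCd j) hFinv
        (hinv j) (hFC j)
      change - FGA.intNum k X 2 ![ClSub.idealMod F, ClSub.idealMod (C j)]
        (Coh.structureModule X) ≤ 0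
      linarith
    · intro j
      have h1 := hnum (ClSub.idealMod (C j)) (hinv j)
      change ∑ i, (- s i) * Groth.Agent.H5.NegCfg.gram k X C i j =
        - FGA.intNum k X 2 ![ClSub.idealMod F, ClSub.idealMod (C j)] (Coh.structureModule X)
      rw [h1, ← Finset.sum_neg_distrib]
      apply Finset.sum_congr rfl
      intro i _
      unfold Groth.Agent.H5.NegCfg.gram
      ring
  have h1 := hnum H hH.1
  have hcomm := Groth.Agent.LD.RRS.Kit.intNum_comm k (ClSub.idealMod F) H hFinv hH.1
  have hterm : ∀ i, 0 ≤ s i *
      FGA.intNum k X 2 ![ClSub.idealMod (C i), H] (Coh.structureModule X) := fun i =>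
    mul_nonneg_of_nonpos_of_nonpos (by have := hs i; linarith) (hHneg i).le
  have hsum : 0 ≤ ∑ i, s i *
      FGA.intNum k X 2 ![ClSub.idealMod (C i), H] (Coh.structureModule X) :=
    Finset.sum_nonneg (fun i _ => hterm i)
  have hFtop : F = ⊤ := by
    by_contra hne
    have hd1 := Groth.Agent.H5.NegCfg.dim_support_eq_one_of_isEffCartier k X hdim F hF hne
    have := Groth.Agent.H5.NegCfg.intNum_ample_idealMod_neg k X hdim H hH F hF hd1
    linarith
  refine ⟨hFtop, ?_⟩
  have hnonpos := Groth.Agent.H5.NegCfg.intNum_ample_idealMod_nonpos k X hdim H hH F hF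
  have hzero : ∑ i, s i *
      FGA.intNum k X 2 ![ClSub.idealMod (C i), H] (Coh.structureModule X) = 0 := by linarith
  have h3 := (Finset.sum_eq_zero_iff_of_nonneg (fun i _ => hterm i)).mp hzero
  intro i
  rcases mul_eq_zero.mp (h3 i (Finset.mem_univ i)) with h | h
  · exact h
  · exact absurd h (hHneg i).ne

end Groth.Agent.S18463
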