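import Groth.Statements.S18465
import Mathlib

set_option autoImplicit false
universe u v w x
open WildLef

namespace Groth.Agent.S18465

/-- Let f : G₁ → G₂ be a homomorphism of groups, ρ : G₂ → Γ a homomorphism with finite image G, and A a
nontrivial commutative ring. Let G₂ act on the group algebra A[G] through ρ followed by the left
regular representation, and G₁ through f. If the elements of A[G] fixed by G₁ coincide with those
fixed by G₂, then ρ ∘ f and ρ have the same image. (The published statement has Γ a general linear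
group GL_r(A); over the zero ring that group is trivial, so requiring A nontrivial and allowing any
target group loses nothing.) -/
theorem result
    {G₁ : Type u} {G₂ : Type v} {Γ : Type w} [Group G₁] [Group G₂] [Group Γ]
    (f : G₁ →* G₂) (ρ : G₂ →* Γ) [Finite ρ.range] (A : Type x) [CommRing A] [Nontrivial A]
    (h : {x : MonoidAlgebra A ρ.range | ∀ g : G₁, MonoidAlgebra.of A ρ.range (ρ.rangeRestrict (f g)) * x = x} =
      {x : MonoidAlgebra A ρ.range | ∀ g : G₂, MonoidAlgebra.of A ρ.range (ρ.rangeRestrict g) * x = x}) :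
    (ρ.comp f).range = ρ.range := by
  classical
  have : Fintype ρ.range := Fintype.ofFinite _
  apply le_antisymm
  · rintro _ ⟨g, rfl⟩
    exact ⟨f g, rfl⟩
  · rintro _ ⟨g₂, rfl⟩
    set S : Finset ρ.range :=
      Finset.univ.filter (fun y => ∃ g : G₁, ρ.rangeRestrict (f g) = y) with hS
    set x : MonoidAlgebra A ρ.range := ∑ y ∈ S, MonoidAlgebra.of A ρ.range y with hx
    have hxapply : ∀ γ : ρ.range, x.coeff γ = if γ ∈ S then 1 else 0 := by
      intro γ
      rw [hx, MonoidAlgebra.coeff_sum, Finsupp.finsetSum_apply]
      simp only [MonoidAlgebra.of_apply, MonoidAlgebra.coeff_single, Finsupp.single_apply]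
      rw [Finset.sum_ite_eq' S γ]
    have hx1 : x ∈ {x : MonoidAlgebra A ρ.range |
        ∀ g : G₁, MonoidAlgebra.of A ρ.range (ρ.rangeRestrict (f g)) * x = x} := by
      intro g
      rw [hx, Finset.mul_sum]
      simp only [← map_mul]
      refine Finset.sum_bij (fun y _ => ρ.rangeRestrict (f g) * y) ?_ ?_ ?_ ?_
      · intro y hy
        rw [hS, Finset.mem_filter] at hy ⊢
        obtain ⟨g', hg'⟩ := hy.2
        exact ⟨Finset.mem_univ _, g * g', by rw [map_mul, map_mul, hg']⟩
      · intro y _ y' _ h
        exact mul_left_cancel h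
      · intro y hy
        rw [hS, Finset.mem_filter] at hy
        obtain ⟨g', hg'⟩ := hy.2
        refine ⟨(ρ.rangeRestrict (f g))⁻¹ * y, ?_, by group⟩
        rw [hS, Finset.mem_filter]
        exact ⟨Finset.mem_univ _, g⁻¹ * g', by rw [map_mul, map_mul, hg', map_inv, map_inv]⟩
      · intro y _
        rfl
    rw [h] at hx1
    have h2 := hx1 g₂
    have h3 := congrArg (fun z : MonoidAlgebra A ρ.range => z.coeff (ρ.rangeRestrict g₂)) h2
    simp only [MonoidAlgebra.of_apply] at h3
    rw [MonoidAlgebra.coeff_single_mul_apply, hxapply, hxapply, one_mul, inv_mul_cancel] at h3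
    have h1S : (1 : ρ.range) ∈ S := by
      rw [hS, Finset.mem_filter]
      exact ⟨Finset.mem_univ _, 1, by simp⟩
    rw [if_pos h1S] at h3
    have hmem : ρ.rangeRestrict g₂ ∈ S := by
      by_contra hcon
      rw [if_neg hcon] at h3
      exact one_ne_zero h3
    rw [hS, Finset.mem_filter] at hmem
    obtain ⟨g₁, hg₁⟩ := hmem.2
    refine ⟨g₁, ?_⟩
    have := congrArg Subtype.val hg₁
    simpa using this

end Groth.Agent.S18465
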