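import Groth.Statements.S18467
import Mathlib

set_option autoImplicit false
universe u
open Hopf

namespace Groth.Agent.S18467

/-- Let p be a prime and R a commutative ring containing an element u with u(p − 1) = 1, and let χ be a
homomorphism from the group of units of ℤ/p to the group of units of R such that χ(m) − 1 is a unit
of R for every m ≠ 1. For 0 ≤ i < p − 1 put e_i = u · Σ_m χ(m)^{−i} [m] in the group algebra
R[(ℤ/p)ˣ]. Then the e_i are idempotents, e_i e_j = 0 for i ≠ j, and Σ_i e_i = 1. (The published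
statement is for algebras over the subring of the p-adic integers generated over ℤ by the values of
the Teichmüller character χ and by 1/(p(p − 1)); the hypotheses on R and χ here are the properties
of that situation which the computation uses, so the row is stated for every such pair.) -/
theorem result
    (p : ℕ) [Fact p.Prime] (R : Type u) [CommRing R] (u : R) (hu : u * ((p - 1 : ℕ) : R) = 1)
    (χ : (ZMod p)ˣ →* Rˣ) (hχ : ∀ m : (ZMod p)ˣ, m ≠ 1 → IsUnit ((χ m : R) - 1)) :
    CompleteOrthogonalIdempotents (fun i : Fin (p - 1) =>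
      u • ∑ m : (ZMod p)ˣ, ((χ m⁻¹ : Rˣ) : R) ^ (i : ℕ) • MonoidAlgebra.of R (ZMod p)ˣ m) := by
  classical
  rw [CompleteOrthogonalIdempotents.iff_ortho_complete]
  have hcard : Fintype.card (ZMod p)ˣ = p - 1 := ZMod.card_units p
  have hL : ∀ d : ℤ, ¬ (((p - 1 : ℕ) : ℤ) ∣ d) →
      ∑ m : (ZMod p)ˣ, (((χ m) ^ d : Rˣ) : R) = 0 := by
    intro d hd
    obtain ⟨g, hg⟩ := IsCyclic.exists_generator (α := (ZMod p)ˣ)
    have hord : orderOf g = p - 1 := by
      rw [orderOf_eq_card_of_forall_mem_zpowers hg, Nat.card_eq_fintype_card, hcard]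
    have hgd : g ^ d ≠ 1 := by
      intro h
      apply hd
      rw [← hord]
      exact orderOf_dvd_iff_zpow_eq_one.mpr h
    have hw := hχ (g ^ d) hgd
    have hsum : ∑ m : (ZMod p)ˣ, (((χ m) ^ d : Rˣ) : R) =
        ((χ (g ^ d) : Rˣ) : R) * ∑ m : (ZMod p)ˣ, (((χ m) ^ d : Rˣ) : R) := by
      rw [Finset.mul_sum]
      symm
      apply Fintype.sum_equiv (Equiv.mulLeft g)
      intro m
      simp only [Equiv.coe_mulLeft, map_mul, map_zpow, mul_zpow, Units.val_mul]
    have h0 : (((χ (g ^ d) : Rˣ) : R) - 1) * ∑ m : (ZMod p)ˣ, (((χ m) ^ d : Rˣ) : R) = 0 := by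
      rw [sub_mul, one_mul, ← hsum, sub_self]
    exact (hw.mul_right_eq_zero).mp h0
  have hmul : ∀ i j : ℕ,
      (∑ m : (ZMod p)ˣ, ((χ m⁻¹ : Rˣ) : R) ^ i • MonoidAlgebra.of R (ZMod p)ˣ m) *
        (∑ m : (ZMod p)ˣ, ((χ m⁻¹ : Rˣ) : R) ^ j • MonoidAlgebra.of R (ZMod p)ˣ m) =
      (∑ m : (ZMod p)ˣ, (((χ m) ^ ((j : ℤ) - i) : Rˣ) : R)) •
        (∑ m : (ZMod p)ˣ, ((χ m⁻¹ : Rˣ) : R) ^ j • MonoidAlgebra.of R (ZMod p)ˣ m) := by
    intro i j
    rw [Finset.sum_mul_sum]
    have step1 : ∀ m : (ZMod p)ˣ,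
        ∑ m' : (ZMod p)ˣ, (((χ m⁻¹ : Rˣ) : R) ^ i • MonoidAlgebra.of R (ZMod p)ˣ m) *
          (((χ m'⁻¹ : Rˣ) : R) ^ j • MonoidAlgebra.of R (ZMod p)ˣ m') =
        ∑ t : (ZMod p)ˣ, ((((χ m) ^ ((j : ℤ) - i) : Rˣ) : R) * ((χ t⁻¹ : Rˣ) : R) ^ j) •
          MonoidAlgebra.of R (ZMod p)ˣ t := by
      intro m
      symm
      apply Fintype.sum_equiv (Equiv.mulLeft m⁻¹)
      intro t
      simp only [Equiv.coe_mulLeft]
      symm
      rw [smul_mul_smul_comm, ← map_mul, mul_inv_cancel_left]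
      congr 1
      rw [← Units.val_pow_eq_pow_val, ← Units.val_pow_eq_pow_val, ← Units.val_pow_eq_pow_val,
        ← Units.val_mul, ← Units.val_mul]
      congr 1
      simp only [map_mul, map_inv, mul_inv_rev, inv_inv, mul_pow, zpow_sub, zpow_natCast, inv_pow]
      simp only [mul_comm, mul_left_comm, mul_assoc]
    rw [Finset.sum_congr rfl (fun m _ => step1 m), Finset.sum_smul]
    apply Finset.sum_congr rfl
    intro m _
    rw [Finset.smul_sum]
    apply Finset.sum_congr rfl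
    intro t _
    rw [smul_smul]
  constructor
  · intro i j hij
    change (u • _) * (u • _) = 0
    rw [smul_mul_smul_comm, hmul]
    have hd : ¬ (((p - 1 : ℕ) : ℤ) ∣ ((j : ℕ) : ℤ) - ((i : ℕ) : ℤ)) := by
      intro hdvd
      have habs : |((j : ℕ) : ℤ) - ((i : ℕ) : ℤ)| < ((p - 1 : ℕ) : ℤ) := by
        have h1 := i.2
        have h2 := j.2
        rw [abs_lt]
        constructor <;> omega
      have := Int.eq_zero_of_abs_lt_dvd hdvd habs
      apply hij
      apply Fin.ext
      omega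
    rw [hL _ hd, zero_smul, smul_zero]
  · rw [← Finset.smul_sum, Finset.sum_comm]
    have hinner : ∀ m : (ZMod p)ˣ,
        ∑ i : Fin (p - 1), ((χ m⁻¹ : Rˣ) : R) ^ (i : ℕ) • MonoidAlgebra.of R (ZMod p)ˣ m =
        (if m = 1 then ((p - 1 : ℕ) : R) else 0) • MonoidAlgebra.of R (ZMod p)ˣ m := by
      intro m
      rw [← Finset.sum_smul]
      congr 1
      rw [Fin.sum_univ_eq_sum_range (fun i => ((χ m⁻¹ : Rˣ) : R) ^ i) (p - 1)]
      split_ifs with hm
      · subst hm
        simp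
      · have hm' : m⁻¹ ≠ 1 := by simpa using hm
        have hunit := hχ m⁻¹ hm'
        have hgeom := geom_sum_mul (((χ m⁻¹ : Rˣ) : R)) (p - 1)
        have hpow : ((χ m⁻¹ : Rˣ) : R) ^ (p - 1) = 1 := by
          rw [← Units.val_pow_eq_pow_val, ← map_pow, ← hcard, pow_card_eq_one, map_one,
            Units.val_one]
        rw [hpow, sub_self] at hgeom
        exact (hunit.mul_left_eq_zero).mp hgeom
    rw [Finset.sum_congr rfl (fun m _ => hinner m)]
    rw [Finset.sum_eq_single (1 : (ZMod p)ˣ)]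
    · rw [if_pos rfl, smul_smul, hu, map_one, one_smul]
    · intro m _ hm
      rw [if_neg hm, zero_smul]
    · intro h
      exact absurd (Finset.mem_univ _) h

end Groth.Agent.S18467
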