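import Groth.Statements.S18470
import Mathlib

set_option autoImplicit false
universe u v
open OortTate

namespace Groth.Agent.S18470

/-- Let R be a commutative ring and A a commutative Hopf algebra over R which is finitely generated and
projective as an R-module (a finite locally free group scheme G = Spec A, not assumed commutative),
and let A^D = Hom_R(A, R) be the dual algebra with its Hopf structure (the Cartier dual when A is
cocommutative), whose counit is evaluation at 1. Then restriction of linear forms to the
augmentation ideal I = ker ε_A of A is a bijection from the augmentation ideal of A^D onto the dual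
module Hom_R(I, R): the dual of the augmentation ideal of G is the augmentation ideal of the dual.
The published statement is for a group scheme of order p over a Λ_p-algebra; the argument uses only
the splitting A = R·1 ⊕ ker ε. -/
theorem result
    (R : Type u) [CommRing R] (A : Type v) [CommRing A] [HopfAlgebra R A]
    [Module.Finite R A] [Module.Projective R A] :
    Function.Bijective (fun f : LinearMap.ker (Bialgebra.counitAlgHom R (CartDual.D R A)).toLinearMap =>
      ((CartDual.toDual R A) (f : CartDual.D R A)).comp
        (LinearMap.ker (Bialgebra.counitAlgHom R A).toLinearMap).subtype) := by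
  have hmem : ∀ a : A, a - algebraMap R A (Bialgebra.counitAlgHom R A a) ∈
      LinearMap.ker (Bialgebra.counitAlgHom R A).toLinearMap := by
    intro a
    rw [LinearMap.mem_ker]
    simp
  constructor
  · intro f g hfg
    apply Subtype.ext
    apply (CartDual.toDual R A).injective
    apply LinearMap.ext
    intro a
    have hf1 : (CartDual.toDual R A (f : CartDual.D R A)) 1 = 0 := f.2
    have hg1 : (CartDual.toDual R A (g : CartDual.D R A)) 1 = 0 := g.2
    have h1 := LinearMap.congr_fun hfg ⟨_, hmem a⟩
    simp only [LinearMap.comp_apply, Submodule.subtype_apply, map_sub] at h1
    rw [Algebra.algebraMap_eq_smul_one, map_smul, map_smul, hf1, hg1] at h1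
    simpa using h1
  · intro ψ
    let P : A →ₗ[R] LinearMap.ker (Bialgebra.counitAlgHom R A).toLinearMap :=
      LinearMap.codRestrict _
        (LinearMap.id - (Algebra.linearMap R A).comp (Bialgebra.counitAlgHom R A).toLinearMap)
        (fun a => by simp)
    have hP : ∀ a : A, ((P a : LinearMap.ker (Bialgebra.counitAlgHom R A).toLinearMap) : A) =
        a - algebraMap R A (Bialgebra.counitAlgHom R A a) := fun a => rfl
    refine ⟨⟨(CartDual.toDual R A).symm (ψ.comp P), ?_⟩, ?_⟩
    · rw [LinearMap.mem_ker]
      change (ψ.comp P) 1 = 0
      have : P 1 = 0 := by
        apply Subtype.ext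
        rw [hP, map_one, map_one, sub_self]
        rfl
      rw [LinearMap.comp_apply, this, map_zero]
    · apply LinearMap.ext
      intro a
      simp only [LinearEquiv.apply_symm_apply, LinearMap.comp_apply, Submodule.subtype_apply]
      congr 1
      apply Subtype.ext
      have ha : Bialgebra.counitAlgHom R A (a : A) = 0 := a.2
      rw [hP, ha, map_zero, sub_zero]

end Groth.Agent.S18470
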