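import Groth.Statements.S18498
import Mathlib

set_option autoImplicit false
universe u
open CategoryTheory CategoryTheory.Limits AlgebraicGeometry MonObj
open Neron

namespace Groth.Agent.S18498

/-- Let R be a Dedekind domain with fraction field K, X a Spec R-scheme which is flat over Spec R, Y a
Spec R-scheme which is separated over Spec R, and f, g : X → Y two R-morphisms whose restrictions to
generic fibres X_K → Y_K are equal. Then f = g: an R-morphism from a flat R-scheme to a separated
R-scheme is determined by its generic fibre. (The source states this for algebraic spaces over a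
connected Dedekind scheme; the case of schemes over an affine base is stated.) -/
theorem result (R : Type u) [CommRing R] [IsDedekindDomain R]
    (X Y : Over (Spec (CommRingCat.of R))) [Flat X.hom] [IsSeparated Y.hom] (f g : X ⟶ Y)
    (h : (Neron.genericFibre R).map f = (Neron.genericFibre R).map g) : f = g := by
  have hdom : IsDominant (Neron.genPt R) := by
    rw [isDominant_iff]
    change DenseRange (PrimeSpectrum.comap (algebraMap R (FractionRing R)))
    rw [PrimeSpectrum.denseRange_comap_iff_ker_le_nilRadical,
      (RingHom.injective_iff_ker_eq_bot _).mp (IsFractionRing.injective R (FractionRing R))]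
    exact bot_le
  have hst : IsSchemeTheoreticallyDominant (Neron.genPt R) := .of_isDominant _
  have hst2 : IsSchemeTheoreticallyDominant (pullback.fst X.hom (Neron.genPt R)) := inferInstance
  have hsep : IsSeparated Y.hom := ‹_›
  have hι : pullback.fst X.hom (Neron.genPt R) ≫ f.left =
      pullback.fst X.hom (Neron.genPt R) ≫ g.left := by
    have := congrArg (fun φ => φ.left ≫ pullback.fst Y.hom (Neron.genPt R)) h
    simp only [Over.pullback_map_left, pullback.lift_fst] at this
    exact this
  let U' : Over (Spec (CommRingCat.of R)) :=
    Over.mk (pullback.fst X.hom (Neron.genPt R) ≫ X.hom)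
  let ιo : U' ⟶ X := Over.homMk (pullback.fst X.hom (Neron.genPt R))
  have hιo : ιo ≫ f = ιo ≫ g := by
    ext1
    exact hι
  have hfac : (equalizer.lift ιo hιo).left ≫ (equalizer.ι f g).left =
      pullback.fst X.hom (Neron.genPt R) := by
    rw [← Over.comp_left, equalizer.lift_ι]
    rfl
  have hker : (equalizer.ι f g).left.ker = ⊥ := by
    have h1 := Scheme.Hom.le_ker_comp (equalizer.lift ιo hιo).left (equalizer.ι f g).left
    rw [hfac, (pullback.fst X.hom (Neron.genPt R)).ker_eq_bot] at h1
    exact le_bot_iff.mp h1
  have hiso : IsIso (equalizer.ι f g).left := IsClosedImmersion.isIso_iff_ker_eq_bot.mpr hker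
  apply Over.OverMorphism.ext
  rw [← cancel_epi (equalizer.ι f g).left]
  exact congr($(equalizer.condition f g).left)

end Groth.Agent.S18498
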