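import Groth.Statements.S18539
import Mathlib

set_option autoImplicit false
universe u v w
open CAlg

namespace Groth.Agent.S18539

/-- For a commutative ring R, R-modules M and N and elements r₁, r₂ of R such that r₁ is a
non-zero-divisor on N and r₂ is a non-zero-divisor on N/r₁N, the element r₁ is a non-zero-divisor on
the module Hom_R(M, N) and r₂ is a non-zero-divisor on Hom_R(M, N)/r₁Hom_R(M, N). (Weak regularity
on both sides: no condition that the quotient by (r₁, r₂) is nonzero, which would fail for M = 0.) -/
theorem result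
    (R : Type u) [CommRing R] (M : Type v) (N : Type w)
    [AddCommGroup M] [Module R M] [AddCommGroup N] [Module R N]
    (r₁ r₂ : R) (h : RingTheory.Sequence.IsWeaklyRegular N [r₁, r₂]) :
    RingTheory.Sequence.IsWeaklyRegular (M →ₗ[R] N) [r₁, r₂] := by
  rw [RingTheory.Sequence.isWeaklyRegular_cons_iff,
    RingTheory.Sequence.isWeaklyRegular_singleton_iff] at h ⊢
  obtain ⟨h1, h2⟩ := h
  have h1' : ∀ n : N, r₁ • n = 0 → n = 0 := isSMulRegular_iff_right_eq_zero_of_smul.mp h1
  have h2' : ∀ n : N, (∃ n' : N, r₁ • n' = r₂ • n) → ∃ n'' : N, r₁ • n'' = n := by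
    intro n ⟨n', hn'⟩
    have h3 := isSMulRegular_iff_right_eq_zero_of_smul.mp h2
      (Submodule.Quotient.mk n)
    rw [← Submodule.Quotient.mk_smul, Submodule.Quotient.mk_eq_zero,
      Submodule.Quotient.mk_eq_zero, Submodule.mem_smul_pointwise_iff_exists,
      Submodule.mem_smul_pointwise_iff_exists] at h3
    obtain ⟨n'', -, hn''⟩ := h3 ⟨n', trivial, hn'⟩
    exact ⟨n'', hn''⟩
  constructor
  · rw [isSMulRegular_iff_right_eq_zero_of_smul]
    intro f hf
    ext m
    apply h1'
    have := LinearMap.congr_fun hf m
    simpa using this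
  · rw [isSMulRegular_iff_right_eq_zero_of_smul]
    intro x hx
    obtain ⟨f, rfl⟩ := Submodule.Quotient.mk_surjective _ x
    rw [← Submodule.Quotient.mk_smul, Submodule.Quotient.mk_eq_zero,
      Submodule.mem_smul_pointwise_iff_exists] at hx
    obtain ⟨g, -, hg⟩ := hx
    rw [Submodule.Quotient.mk_eq_zero, Submodule.mem_smul_pointwise_iff_exists]
    have hex : ∀ m : M, ∃ n'' : N, r₁ • n'' = f m := by
      intro m
      apply h2'
      refine ⟨g m, ?_⟩
      have := LinearMap.congr_fun hg m
      simpa using this
    choose hfun hspec using hex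
    have hinj : ∀ a b : N, r₁ • a = r₁ • b → a = b := by
      intro a b hab
      have : r₁ • (a - b) = 0 := by rw [smul_sub, hab, sub_self]
      exact sub_eq_zero.mp (h1' _ this)
    refine ⟨{ toFun := hfun
              map_add' := ?_
              map_smul' := ?_ }, trivial, ?_⟩
    · intro a b
      apply hinj
      rw [smul_add, hspec, hspec, hspec, map_add]
    · intro c a
      apply hinj
      rw [RingHom.id_apply, smul_comm, hspec, hspec, map_smul]
    · ext m
      exact hspec m

end Groth.Agent.S18539
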