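import Groth.Statements.S18544
import Mathlib

set_option autoImplicit false
universe u
open CAlg

namespace Groth.Agent.S18544


section helpers
open Matrix Polynomial

variable {F : Type u} [Field F] {n : ℕ}

/-- evaluation of `N` on a matrix -/
noncomputable def ev (N : MvPolynomial (Fin n × Fin n) F) (x : Matrix (Fin n) (Fin n) F) : F :=
  MvPolynomial.eval (fun ij : Fin n × Fin n => x ij.1 ij.2) N

theorem eval_aeval (t : F) (g : Fin n × Fin n → F[X]) (N : MvPolynomial (Fin n × Fin n) F) :
    Polynomial.eval t (MvPolynomial.aeval g N) =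
      MvPolynomial.eval (fun x => Polynomial.eval t (g x)) N := by
  induction N using MvPolynomial.induction_on with
  | C a => simp
  | add p q hp hq => simp [hp, hq]
  | mul_X p i hp => simp [hp]

/-- A polynomial over an algebraically closed field with no nonzero roots and value 1 at 1 is
a power of X. -/
theorem poly_eq_X_pow [IsAlgClosed F] (q : F[X]) (h1 : q.eval 1 = 1)
    (hroots : ∀ t, q.eval t = 0 → t = 0) : ∃ m : ℕ, ∀ t, q.eval t = t ^ m := by
  have hq0 : q ≠ 0 := by
    rintro rfl
    simp at h1
  have hsp := (IsAlgClosed.splits q).eq_prod_roots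
  have hr : q.roots = Multiset.replicate (Multiset.card q.roots) 0 := by
    rw [Multiset.eq_replicate]
    refine ⟨rfl, fun b hb => ?_⟩
    exact hroots b ((Polynomial.mem_roots hq0).1 hb)
  refine ⟨Multiset.card q.roots, fun t => ?_⟩
  have hform : q = C q.leadingCoeff * X ^ (Multiset.card q.roots) := by
    conv_lhs => rw [hsp, hr]
    simp
  have hlc : q.leadingCoeff = 1 := by
    have := congrArg (Polynomial.eval 1) hform
    rw [h1] at this
    simpa using this.symm
  rw [hform, hlc]
  simp

section main
variable [IsAlgClosed F] [CharZero F] (ν : Matrix (Fin n) (Fin n) F →* F)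

/-- the character on diagonal matrices -/
noncomputable def chi : (Fin n → F) →* F :=
  ν.comp (Matrix.diagonalRingHom (Fin n) F).toMonoidHom

theorem chi_apply (d : Fin n → F) : chi ν d = ν (Matrix.diagonal d) := rfl

theorem chi_ne_zero (d : Fin n → F) (hd : ∀ i, d i ≠ 0) : chi ν d ≠ 0 := by
  have hu : IsUnit d := by
    rw [Pi.isUnit_iff]
    intro i
    exact (hd i).isUnit
  exact (hu.map (chi ν)).ne_zero

theorem mulSingle_ne_zero (i : Fin n) (t : F) (ht : t ≠ 0) : ∀ j, (Pi.mulSingle i t : Fin n → F) j ≠ 0 := by
  intro j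
  by_cases hj : j = i
  · subst hj; simpa using ht
  · rw [Pi.mulSingle_eq_of_ne hj]; exact one_ne_zero

theorem nu_transvection (i j : Fin n) (hij : i ≠ j) (c : F) : ν (Matrix.transvection i j c) = 1 := by
  have h2 : (2 : F) ≠ 0 := two_ne_zero
  have hD := chi_ne_zero ν (Pi.mulSingle i (2 : F)) (mulSingle_ne_zero i 2 h2)
  rw [chi_apply] at hD
  have hcomm : Matrix.diagonal (Pi.mulSingle i (2 : F)) * Matrix.transvection i j c =
      Matrix.transvection i j (c + c) * Matrix.diagonal (Pi.mulSingle i (2 : F)) := by
    ext k l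
    rw [Matrix.diagonal_mul, Matrix.mul_diagonal]
    simp only [Matrix.transvection, Matrix.add_apply, Matrix.one_apply, Matrix.single_apply,
      Pi.mulSingle_apply]
    by_cases hkl : k = l
    · subst hkl
      have : ¬ (i = k ∧ j = k) := fun h => hij (h.1.trans h.2.symm)
      simp [this, mul_comm]
    · by_cases hik : i = k
      · subst hik
        by_cases hjl : j = l
        · subst hjl
          simp [hkl, hij.symm]; ring
        · simp [hkl, hjl]
      · simp [hkl, hik]
  have h3 := congrArg ν hcomm
  rw [map_mul, map_mul, mul_comm] at h3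
  have h4 : ν (Matrix.transvection i j c) = ν (Matrix.transvection i j (c + c)) :=
    mul_right_cancel₀ hD h3
  rw [← Matrix.transvection_mul_transvection_same i j hij, map_mul] at h4
  have h5 : ν (Matrix.transvection i j c) ≠ 0 := by
    have := congrArg ν (Matrix.transvection_mul_transvection_same i j hij c (-c))
    rw [add_neg_cancel, Matrix.transvection_zero, map_one, map_mul] at this
    exact left_ne_zero_of_mul_eq_one this
  have h6 : ν (Matrix.transvection i j c) * 1 = ν (Matrix.transvection i j c) * ν (Matrix.transvection i j c) := by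
    rw [mul_one]; exact h4
  exact (mul_left_cancel₀ h5 h6).symm

variable (N : MvPolynomial (Fin n × Fin n) F) (hν : ∀ x, ν x = ev N x)
include hν

theorem chi_mulSingle (i : Fin n) : ∃ m : ℕ, ∀ t : F, chi ν (Pi.mulSingle i t) = t ^ m := by
  let q : F[X] := MvPolynomial.aeval
    (fun jk : Fin n × Fin n => (Matrix.diagonal (Pi.mulSingle i (X : F[X]))) jk.1 jk.2) N
  have key : ∀ t, q.eval t = chi ν (Pi.mulSingle i t) := by
    intro t
    rw [eval_aeval, chi_apply, hν, ev]
    congr 2
    funext jk
    simp only [Matrix.diagonal_apply, Pi.mulSingle_apply]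
    split_ifs <;> simp
  obtain ⟨m, hm⟩ := poly_eq_X_pow q (by rw [key, Pi.mulSingle_one, map_one]) (by
    intro t ht
    by_contra h0
    rw [key] at ht
    exact chi_ne_zero ν _ (mulSingle_ne_zero i t h0) ht)
  exact ⟨m, fun t => by rw [← key, hm]⟩

omit hν in
theorem chi_perm (σ : Equiv.Perm (Fin n)) (d : Fin n → F) : chi ν (d ∘ σ) = chi ν d := by
  have h1 : (σ.toPEquiv.toMatrix : Matrix (Fin n) (Fin n) F) * Matrix.diagonal d *
      (σ.symm.toPEquiv.toMatrix : Matrix (Fin n) (Fin n) F) = Matrix.diagonal (d ∘ σ) := by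
    rw [PEquiv.toMatrix_toPEquiv_mul, PEquiv.mul_toMatrix_toPEquiv, Matrix.submatrix_submatrix]
    simp
  have h2 : (σ.toPEquiv.toMatrix : Matrix (Fin n) (Fin n) F) *
      (σ.symm.toPEquiv.toMatrix : Matrix (Fin n) (Fin n) F) = 1 := by
    rw [← PEquiv.toMatrix_trans, ← Equiv.toPEquiv_trans, Equiv.self_trans_symm,
      Equiv.toPEquiv_refl, PEquiv.toMatrix_refl]
  have h3 : ν (σ.toPEquiv.toMatrix : Matrix (Fin n) (Fin n) F) *
      ν (σ.symm.toPEquiv.toMatrix : Matrix (Fin n) (Fin n) F) = 1 := by
    rw [← map_mul, h2, map_one]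
  rw [chi_apply, chi_apply, ← h1, map_mul, map_mul, mul_comm (ν _) (ν (Matrix.diagonal d)),
    mul_assoc, h3, mul_one]

theorem chi_diag : ∃ m : ℕ, ∀ d : Fin n → F, chi ν d = (∏ i, d i) ^ m := by
  choose mf hmf using chi_mulSingle ν N hν
  have hsym : ∀ i j, mf i = mf j := by
    intro i j
    have h1 := chi_perm ν (Equiv.swap i j) (Pi.mulSingle i (2 : F))
    have h2 : (Pi.mulSingle i (2 : F) : Fin n → F) ∘ (Equiv.swap i j) = Pi.mulSingle j (2 : F) := by
      funext k
      simp only [Function.comp_apply, Pi.mulSingle_apply]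
      by_cases hk : k = j
      · subst hk; simp
      · have : ¬ (Equiv.swap i j k = i) := by
          rw [Equiv.swap_apply_eq_iff, Equiv.swap_apply_left]; exact hk
        rw [if_neg this, if_neg hk]
    rw [h2, hmf, hmf] at h1
    have h3 : ((2 ^ mf j : ℕ) : F) = ((2 ^ mf i : ℕ) : F) := by push_cast; exact h1
    exact (Nat.pow_right_injective le_rfl (Nat.cast_injective h3)).symm
  refine ⟨if h : 0 < n then mf ⟨0, h⟩ else 0, fun d => ?_⟩
  have hm : ∀ i : Fin n, mf i = (if h : 0 < n then mf ⟨0, h⟩ else 0) := by
    intro i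
    have hn : 0 < n := i.pos
    rw [dif_pos hn]
    exact hsym _ _
  conv_lhs => rw [← Finset.univ_prod_mulSingle d]
  rw [map_prod, ← Finset.prod_pow]
  refine Finset.prod_congr rfl fun i _ => ?_
  rw [hmf, hm]

end main

end helpers

/-- Let F be an algebraically closed field of characteristic zero, n a natural number, and N a nonzero
polynomial over F in the n² matrix entries whose evaluation on n × n matrices is multiplicative,
N(xy) = N(x)·N(y) for all x, y (a norm form on the matrix algebra M_n(F) over F). Then N is a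
natural power of the determinant: for some m, N(x) = det(x)^m for every matrix x. The published
statement concerns norm forms of any central simple algebra over a subfield; this row is the case of
the full matrix algebra over an algebraically closed field, which is the case its proof treats. -/
theorem result (F : Type u) [Field F] [IsAlgClosed F]
    [CharZero F] (n : ℕ) (N : MvPolynomial (Fin n × Fin n) F) (hN : N ≠ 0)
    (hmul : ∀ x y : Matrix (Fin n) (Fin n) F,
      MvPolynomial.eval (fun ij : Fin n × Fin n => (x * y) ij.1 ij.2) N =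
        MvPolynomial.eval (fun ij : Fin n × Fin n => x ij.1 ij.2) N * MvPolynomial.eval (fun ij : Fin n × Fin n => y ij.1 ij.2) N) :
    ∃ m : ℕ, ∀ x : Matrix (Fin n) (Fin n) F,
      MvPolynomial.eval (fun ij : Fin n × Fin n => x ij.1 ij.2) N = x.det ^ m := by
  classical
  -- N(1) = 1
  have hmul' : ∀ x y : Matrix (Fin n) (Fin n) F, ev N (x * y) = ev N x * ev N y := hmul
  have h1 : ev N 1 = 1 := by
    have h := hmul' 1 1
    rw [mul_one] at h
    by_contra hne
    have h0 : ev N 1 = 0 := by
      have : ev N 1 * (ev N 1 - 1) = 0 := by rw [mul_sub, mul_one, ← h, sub_self]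
      rcases mul_eq_zero.mp this with h' | h'
      · exact h'
      · exact absurd (sub_eq_zero.mp h') hne
    apply hN
    apply MvPolynomial.funext
    intro v
    have := hmul' (Matrix.of fun i j => v (i, j)) 1
    rw [mul_one, h0, mul_zero] at this
    rw [map_zero, ← this]
    rfl
  let ν : Matrix (Fin n) (Fin n) F →* F :=
    { toFun := ev N, map_one' := h1, map_mul' := hmul' }
  have hν : ∀ x, ν x = ev N x := fun _ => rfl
  obtain ⟨m, hm⟩ := chi_diag ν N hν
  refine ⟨m, fun x => ?_⟩
  show ν x = x.det ^ m
  refine Matrix.diagonal_transvection_induction (fun M => ν M = M.det ^ m) x ?_ ?_ ?_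
  · intro D _
    rw [← chi_apply, hm, Matrix.det_diagonal]
  · intro t
    rw [Matrix.TransvectionStruct.det, one_pow]
    exact nu_transvection ν t.i t.j t.hij t.c
  · intro A B hA hB
    rw [map_mul, hA, hB, Matrix.det_mul, mul_pow]

end Groth.Agent.S18544
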