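import Groth.Statements.S18545
import Mathlib

set_option autoImplicit false
universe u
open AbVar

namespace Groth.Agent.S18545


section helpers
variable {K : Type u} [Field K] {V : Type u} [AddCommGroup V] [Module K V] [FiniteDimensional K V]

theorem iso_le {g : ℕ} (hV : Module.finrank K V = 2 * g)
    (e : LinearMap.BilinForm K V) (hnd : e.Nondegenerate)
    (W : Submodule K V) (hWiso : ∀ x ∈ W, ∀ y ∈ W, e x y = 0) : Module.finrank K W ≤ g := by
  have h1 : W ≤ e.orthogonal W := by
    intro x hx
    rw [LinearMap.BilinForm.mem_orthogonal_iff]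
    intro n hn
    exact hWiso n hn x hx
  have h2 := LinearMap.BilinForm.finrank_orthogonal hnd W
  have h3 := Submodule.finrank_mono h1
  have h4 := Submodule.finrank_le W
  omega

theorem orth_stable (e : LinearMap.BilinForm K V) (hnd : e.Nondegenerate)
    (F : Subalgebra K (Module.End K V))
    (S : Set (Module.End K V)) (hS : Submodule.span K S = Subalgebra.toSubmodule F)
    (hsim : ∀ s ∈ S, ∃ c : K, c ≠ 0 ∧ ∀ x y : V, e (s x) (s y) = c * e x y)
    (W : Submodule K V) (hWF : ∀ f ∈ F, ∀ w ∈ W, f w ∈ W) :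
    ∀ f ∈ F, ∀ y ∈ e.orthogonal W, f y ∈ e.orthogonal W := by
  intro f hf y hy
  have hf' : f ∈ Submodule.span K S := by rw [hS]; exact hf
  refine Submodule.span_induction (p := fun t _ => t y ∈ e.orthogonal W) ?_ ?_ ?_ ?_ hf'
  · intro s hs
    obtain ⟨c, hc, hsc⟩ := hsim s hs
    have hsF : s ∈ F := by
      have : s ∈ Submodule.span K S := Submodule.subset_span hs
      rw [hS] at this; exact this
    -- s is injective
    have hinj : Function.Injective s := by
      rw [injective_iff_map_eq_zero]
      intro x hx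
      apply hnd.1
      intro z
      have := hsc x z
      rw [hx] at this
      simp only [map_zero, LinearMap.zero_apply] at this
      rcases mul_eq_zero.mp this.symm with h | h
      · exact absurd h hc
      · exact h
    -- s restricted to W is surjective
    have hmaps : ∀ w ∈ W, s w ∈ W := fun w hw => hWF s hsF w hw
    let sW : W →ₗ[K] W := s.restrict hmaps
    have hinjW : Function.Injective sW := by
      intro a b hab
      apply Subtype.ext
      apply hinj
      have := congrArg Subtype.val hab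
      simpa [sW] using this
    have hsurjW : Function.Surjective sW := LinearMap.surjective_of_injective hinjW
    rw [LinearMap.BilinForm.mem_orthogonal_iff]
    intro w hw
    obtain ⟨w', hw'⟩ := hsurjW ⟨w, hw⟩
    have hw'' : s w'.1 = w := by
      have := congrArg Subtype.val hw'
      simpa [sW] using this
    show e w (s y) = 0
    rw [← hw'', hsc]
    rw [LinearMap.BilinForm.mem_orthogonal_iff] at hy
    have : e w'.1 y = 0 := hy w'.1 w'.2
    rw [this, mul_zero]
  · simp
  · intro a b _ _ ha hb
    simpa using Submodule.add_mem _ ha hb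
  · intro c a _ ha
    simpa using Submodule.smul_mem _ c ha

theorem exists_eigen (F : Subalgebra K (Module.End K V)) (r : ℕ) (φ : F ≃ₐ[K] (Fin r → K))
    (U P : Submodule K V) (hU : ∀ f ∈ F, ∀ y ∈ U, f y ∈ U)
    (hlt : Module.finrank K P < Module.finrank K U) :
    ∃ x ∈ U, x ∉ P ∧ ∀ f ∈ F, ∃ c : K, f x = c • x := by
  by_contra hcon
  push Not at hcon
  have hle : U ≤ P := by
    intro y hy
    have hone : (∑ i, φ.symm (Pi.single i 1) : F) = 1 := by
      apply φ.injective
      rw [map_sum, map_one]
      simp only [AlgEquiv.apply_symm_apply]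
      exact Finset.univ_sum_single (1 : Fin r → K)
    have hy1 : y = ∑ i, ((φ.symm (Pi.single i 1) : F) : Module.End K V) y := by
      have := congrArg (fun t : F => ((t : Module.End K V)) y) hone
      simp only [AddSubmonoidClass.coe_finsetSum, LinearMap.sum_apply, OneMemClass.coe_one,
        Module.End.one_apply] at this
      exact this.symm
    rw [hy1]
    refine Submodule.sum_mem _ fun i _ => ?_
    by_contra hnot
    obtain ⟨f, hf, hfc⟩ := hcon _ (hU _ (φ.symm (Pi.single i 1) : F).2 y hy) hnot
    apply hfc (φ ⟨f, hf⟩ i)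
    have hmul : (⟨f, hf⟩ : F) * φ.symm (Pi.single i 1) = (φ ⟨f, hf⟩ i) • φ.symm (Pi.single i 1) := by
      apply φ.injective
      rw [map_mul, map_smul, AlgEquiv.apply_symm_apply]
      ext j
      by_cases hj : j = i
      · subst hj; simp
      · simp [hj]
    have := congrArg (fun t : F => ((t : Module.End K V)) y) hmul
    simpa using this
  exact absurd (Submodule.finrank_mono hle) (not_le.mpr hlt)

theorem step {g : ℕ} (hV : Module.finrank K V = 2 * g)
    (e : LinearMap.BilinForm K V) (he : e.IsAlt) (hnd : e.Nondegenerate)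
    (F : Subalgebra K (Module.End K V)) (r : ℕ) (φ : F ≃ₐ[K] (Fin r → K))
    (S : Set (Module.End K V)) (hS : Submodule.span K S = Subalgebra.toSubmodule F)
    (hsim : ∀ s ∈ S, ∃ c : K, c ≠ 0 ∧ ∀ x y : V, e (s x) (s y) = c * e x y)
    (v : V) (W : Submodule K V) (hWF : ∀ f ∈ F, ∀ w ∈ W, f w ∈ W)
    (hWiso : ∀ x ∈ W, ∀ y ∈ W, e x y = 0) (hv : v ∉ W) (hlt : Module.finrank K W < g) :
    ∃ W' : Submodule K V, W < W' ∧ (∀ f ∈ F, ∀ w ∈ W', f w ∈ W') ∧
      (∀ x ∈ W', ∀ y ∈ W', e x y = 0) ∧ v ∉ W' := by
  have hU := orth_stable e hnd F S hS hsim W hWF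
  have hfU := LinearMap.BilinForm.finrank_orthogonal hnd W
  have hP : Module.finrank K (W ⊔ Submodule.span K {v} : Submodule K V) ≤ Module.finrank K W + 1 := by
    refine (Submodule.finrank_add_le_finrank_add_finrank _ _).trans ?_
    have : Module.finrank K (Submodule.span K ({v} : Set V)) ≤ 1 :=
      le_trans (finrank_span_le_card ({v} : Set V)) (by simp)
    omega
  obtain ⟨x, hxU, hxP, hxe⟩ := exists_eigen F r φ (e.orthogonal W) (W ⊔ Submodule.span K {v}) hU
    (by omega)
  rw [LinearMap.BilinForm.mem_orthogonal_iff] at hxU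
  have hxU' : ∀ w ∈ W, e w x = 0 := fun w hw => hxU w hw
  have hxU'' : ∀ w ∈ W, e x w = 0 := fun w hw => by
    rw [← he.neg_eq, hxU' w hw, neg_zero]
  have hxW : x ∉ W := fun h => hxP (Submodule.mem_sup_left h)
  refine ⟨W ⊔ Submodule.span K {x}, ?_, ?_, ?_, ?_⟩
  · refine lt_of_le_of_ne le_sup_left ?_
    intro h
    apply hxW
    rw [h]
    exact Submodule.mem_sup_right (Submodule.mem_span_singleton_self x)
  · intro f hf m hm
    obtain ⟨w, hw, z, hz, rfl⟩ := Submodule.mem_sup.mp hm
    obtain ⟨c, rfl⟩ := Submodule.mem_span_singleton.mp hz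
    obtain ⟨l, hl⟩ := hxe f hf
    rw [map_add, map_smul, hl]
    refine Submodule.add_mem _ (Submodule.mem_sup_left (hWF f hf w hw)) (Submodule.mem_sup_right ?_)
    exact Submodule.smul_mem _ _ (Submodule.smul_mem _ _ (Submodule.mem_span_singleton_self x))
  · intro a ha b hb
    obtain ⟨w, hw, z, hz, rfl⟩ := Submodule.mem_sup.mp ha
    obtain ⟨c, rfl⟩ := Submodule.mem_span_singleton.mp hz
    obtain ⟨w', hw', z', hz', rfl⟩ := Submodule.mem_sup.mp hb
    obtain ⟨c', rfl⟩ := Submodule.mem_span_singleton.mp hz'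
    simp only [map_add, map_smul, LinearMap.add_apply, LinearMap.smul_apply, hWiso w hw w' hw',
      hxU' w hw, hxU'' w' hw', he.self_eq_zero x, smul_zero, add_zero]
  · intro hvm
    obtain ⟨w, hw, z, hz, hwz⟩ := Submodule.mem_sup.mp hvm
    obtain ⟨c, rfl⟩ := Submodule.mem_span_singleton.mp hz
    by_cases hc : c = 0
    · subst hc
      rw [zero_smul, add_zero] at hwz
      exact hv (hwz ▸ hw)
    · apply hxP
      have hx : x = c⁻¹ • (v - w) := by
        rw [← hwz, add_sub_cancel_left, smul_smul, inv_mul_cancel₀ hc, one_smul]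
      rw [hx]
      refine Submodule.smul_mem _ _ (Submodule.sub_mem _ ?_ (Submodule.mem_sup_left hw))
      exact Submodule.mem_sup_right (Submodule.mem_span_singleton_self v)

theorem main_lemma {g : ℕ} (hV : Module.finrank K V = 2 * g)
    (e : LinearMap.BilinForm K V) (he : e.IsAlt) (hnd : e.Nondegenerate)
    (F : Subalgebra K (Module.End K V)) (r : ℕ) (φ : F ≃ₐ[K] (Fin r → K))
    (S : Set (Module.End K V)) (hS : Submodule.span K S = Subalgebra.toSubmodule F)
    (hsim : ∀ s ∈ S, ∃ c : K, c ≠ 0 ∧ ∀ x y : V, e (s x) (s y) = c * e x y)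
    (v : V) : ∀ (n : ℕ) (W : Submodule K V), (∀ f ∈ F, ∀ w ∈ W, f w ∈ W) →
      (∀ x ∈ W, ∀ y ∈ W, e x y = 0) → v ∉ W → g - Module.finrank K W ≤ n →
      ∃ W' : Submodule K V, W ≤ W' ∧ (∀ f ∈ F, ∀ w ∈ W', f w ∈ W') ∧
        (∀ x ∈ W', ∀ y ∈ W', e x y = 0) ∧ Module.finrank K W' = g ∧ v ∉ W' := by
  intro n
  induction n with
  | zero =>
    intro W hWF hWiso hv hn
    have := iso_le hV e hnd W hWiso
    exact ⟨W, le_rfl, hWF, hWiso, by omega, hv⟩
  | succ n ih =>
    intro W hWF hWiso hv hn
    have hle := iso_le hV e hnd W hWiso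
    by_cases heq : Module.finrank K W = g
    · exact ⟨W, le_rfl, hWF, hWiso, heq, hv⟩
    · obtain ⟨W₁, hlt, h1, h2, h3⟩ := step hV e he hnd F r φ S hS hsim v W hWF hWiso hv (by omega)
      have hlt' := Submodule.finrank_lt_finrank_of_lt hlt
      obtain ⟨W', h4, h5, h6, h7, h8⟩ := ih W₁ h1 h2 h3 (by omega)
      exact ⟨W', hlt.le.trans h4, h5, h6, h7, h8⟩

end helpers

/-- A step in the proof of Tate's isogeny result over finite fields, in linear-algebra form. Let K be a
field and V a K-vector space of finite dimension 2g carrying a nondegenerate alternating bilinear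
form e. Let F be a K-subalgebra of End(V) which is isomorphic as a K-algebra to a finite product K ×
⋯ × K and which is spanned over K by a set S of similitudes of e (for each s in S there is a nonzero
scalar c with e(s x, s y) = c·e(x, y) for all x, y). Let D be a set of endomorphisms of V such that
every F-stable isotropic subspace W of dimension g (a maximal isotropic subspace) is D-stable. Then
every F-stable isotropic subspace of V is D-stable. (In the application V is the rational ℓ-adic
Tate module of an abelian variety over a finite field with the Riemann form of a polarisation, F the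
algebra generated by the Galois group, split for the chosen ℓ, and D the commutant of the image of
the endomorphism algebra; the hypothesis on maximal isotropic subspaces is the step obtained from
the finiteness of isomorphism classes.) -/
theorem result (K : Type u) [Field K]
    (V : Type u) [AddCommGroup V] [Module K V] [FiniteDimensional K V] (g : ℕ) (hV : Module.finrank K V = 2 * g)
    (e : LinearMap.BilinForm K V) (he : e.IsAlt) (hnd : e.Nondegenerate)
    (F : Subalgebra K (Module.End K V)) (r : ℕ) (hF : Nonempty (F ≃ₐ[K] (Fin r → K)))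
    (S : Set (Module.End K V)) (hS : Submodule.span K S = Subalgebra.toSubmodule F)
    (hsim : ∀ s ∈ S, ∃ c : K, c ≠ 0 ∧ ∀ x y : V, e (s x) (s y) = c * e x y)
    (D : Set (Module.End K V))
    (hmax : ∀ W : Submodule K V, (∀ f ∈ F, ∀ w ∈ W, f w ∈ W) → (∀ x ∈ W, ∀ y ∈ W, e x y = 0) →
      Module.finrank K W = g → ∀ d ∈ D, ∀ w ∈ W, d w ∈ W)
    (W : Submodule K V) (hWF : ∀ f ∈ F, ∀ w ∈ W, f w ∈ W) (hWiso : ∀ x ∈ W, ∀ y ∈ W, e x y = 0) :
    ∀ d ∈ D, ∀ w ∈ W, d w ∈ W := by
  obtain ⟨φ⟩ := hF
  intro d hd w hw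
  by_contra hdw
  obtain ⟨W', h1, h2, h3, h4, h5⟩ := main_lemma hV e he hnd F r φ S hS hsim (d w) _ W hWF hWiso hdw le_rfl
  exact h5 (hmax W' h2 h3 h4 d hd w (h1 hw))

end Groth.Agent.S18545
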