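import Groth.Statements.S18550
import Mathlib

set_option autoImplicit false
open CategoryTheory Limits
universe w v u
open CohDer

namespace Groth.Agent.S18550


section helpers
open DerivedCategory DerivedCategory.TStructure Pretriangulated

variable {A : Type u} [Category.{v} A] [Abelian A] [HasDerivedCategory.{w} A]

theorem base_case (X : DerivedCategory A) (a : ℤ) [X.IsGE a] [X.IsLE a] (f : X ⟶ X)
    (hf : (DerivedCategory.homologyFunctor A a).map f = 0) : f = 0 := by
  obtain ⟨Y, ⟨e⟩⟩ := exists_iso_singleFunctor_obj_of_isGE_of_isLE X a
  obtain ⟨φ, hφ⟩ := (singleFunctor A a).map_surjective (e.inv ≫ f ≫ e.hom)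
  have h1 := NatIso.naturality_1 (singleFunctorCompHomologyFunctorIso A a) φ
  have h2 : (homologyFunctor A a).map ((singleFunctor A a).map φ) = 0 := by
    rw [hφ, Functor.map_comp, Functor.map_comp, hf, zero_comp, comp_zero]
  have h3 : φ = 0 := by
    rw [Functor.comp_map, h2, zero_comp, comp_zero, Functor.id_map] at h1
    exact h1.symm
  rw [h3, Functor.map_zero] at hφ
  have : f = e.hom ≫ (e.inv ≫ f ≫ e.hom) ≫ e.inv := by simp
  rw [this, ← hφ, zero_comp, comp_zero]

theorem mono_ι (X : DerivedCategory A) (a i : ℤ) :
    Mono ((homologyFunctor A i).map ((t.truncLEι a).app X)) := by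
  have hT := t.triangleLEGT_distinguished a X
  refine (HomologySequence.mono_homologyMap_mor₁_iff _ hT (i - 1) i (by omega)).2 ?_
  by_cases h : i ≤ a
  · apply IsZero.eq_of_src
    exact isZero_of_isGE ((t.truncGT a).obj X) (a + 1) (i - 1) (by omega)
  · apply IsZero.eq_of_tgt
    exact isZero_of_isLE ((t.truncLE a).obj X) a i (by omega)

theorem epi_π (X : DerivedCategory A) (a i : ℤ) :
    Epi ((homologyFunctor A i).map ((t.truncGTπ a).app X)) := by
  have hT := t.triangleLEGT_distinguished a X
  refine (HomologySequence.epi_homologyMap_mor₂_iff _ hT i (i + 1) rfl).2 ?_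
  by_cases h : i ≤ a
  · apply IsZero.eq_of_src
    exact isZero_of_isGE ((t.truncGT a).obj X) (a + 1) i (by omega)
  · apply IsZero.eq_of_tgt
    exact isZero_of_isLE ((t.truncLE a).obj X) a (i + 1) (by omega)

theorem aux (n : ℕ) : ∀ (X : DerivedCategory A) (a : ℤ) [X.IsGE a] [X.IsLE (a + n)]
    (f : CategoryTheory.End X) (_ : ∀ i : ℤ, (DerivedCategory.homologyFunctor A i).map f = 0),
    f ^ (n + 1) = 0 := by
  induction n with
  | zero =>
    intro X a _ hLE f hf
    have : X.IsLE a := by simpa using hLE
    rw [zero_add, pow_one]
    exact base_case X a f (hf a)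
  | succ n ih =>
    intro X a _ hLE f hf
    have hLE' : X.IsLE ((a + 1) + n) := by
      have : a + ((n + 1 : ℕ) : ℤ) = (a + 1) + n := by push_cast; ring
      rw [← this]; exact hLE
    -- truncations
    have hL : (t.truncLE a).map f = 0 := by
      apply base_case ((t.truncLE a).obj X) a
      have := mono_ι X a a
      rw [← cancel_mono ((homologyFunctor A a).map ((t.truncLEι a).app X)), zero_comp,
        ← Functor.map_comp]
      have hnat := (t.truncLEι a).naturality f
      simp only [Functor.id_map] at hnat
      rw [hnat, Functor.map_comp, hf a, comp_zero]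
    have hG : ((t.truncGT a).mapEnd X f) ^ (n + 1) = 0 := by
      apply ih ((t.truncGT a).obj X) (a + 1)
      intro i
      rw [Functor.mapEnd_apply]
      have := epi_π X a i
      rw [← cancel_epi ((homologyFunctor A i).map ((t.truncGTπ a).app X)), comp_zero,
        ← Functor.map_comp]
      have hnat := (t.truncGTπ a).naturality f
      simp only [Functor.id_map] at hnat
      rw [← hnat, Functor.map_comp, hf i, zero_comp]
    have hG' : (t.truncGT a).map (f ^ (n + 1) : CategoryTheory.End X) = 0 := by
      have := map_pow ((t.truncGT a).mapEnd X) f (n + 1)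
      rw [hG, Functor.mapEnd_apply] at this
      exact this
    have hT := t.triangleLEGT_distinguished a X
    have hz : (f ^ (n + 1) : CategoryTheory.End X) ≫ ((t.triangleLEGT a).obj X).mor₂ = 0 := by
      have hnat := (t.truncGTπ a).naturality (f ^ (n + 1) : CategoryTheory.End X)
      simp only [Functor.id_map] at hnat
      show (f ^ (n + 1) : CategoryTheory.End X) ≫ (t.truncGTπ a).app X = 0
      rw [hnat, hG', comp_zero]
    obtain ⟨g, hg⟩ : ∃ g : X ⟶ (t.truncLE a).obj X,
        (f ^ (n + 1) : CategoryTheory.End X) = g ≫ (t.truncLEι a).app X :=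
      Triangle.coyoneda_exact₂ _ hT _ hz
    rw [pow_succ', CategoryTheory.End.mul_def, hg]
    have hnat := (t.truncLEι a).naturality f
    simp only [Functor.id_map] at hnat
    show (g ≫ (t.truncLEι a).app X) ≫ f = 0
    rw [Category.assoc, ← hnat, hL, zero_comp, comp_zero]

end helpers

/-- Let A be an abelian category, X an object of its derived category whose cohomology objects H^i(X)
are zero for all integers i outside the interval [a, a + n], and f : X → X an endomorphism in the
derived category such that H^i(f) = 0 for every i. Then f^(n+1) = 0. (The source works in the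
bounded derived category; the statement in D(A) for an object with cohomology bounded in this way is
the same assertion, the bounded derived category being a full subcategory.) -/
theorem result (A : Type u) [Category.{v} A] [Abelian A]
    [HasDerivedCategory.{w} A] (X : DerivedCategory A) (a : ℤ) (n : ℕ)
    (hX : ∀ i : ℤ, i < a ∨ a + n < i → IsZero ((DerivedCategory.homologyFunctor A i).obj X))
    (f : CategoryTheory.End X) (hf : ∀ i : ℤ, (DerivedCategory.homologyFunctor A i).map f = 0) :
    f ^ (n + 1) = 0 := by
  have h1 : X.IsGE a := by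
    rw [DerivedCategory.isGE_iff]
    intro i hi
    exact hX i (Or.inl hi)
  have h2 : X.IsLE (a + n) := by
    rw [DerivedCategory.isLE_iff]
    intro i hi
    exact hX i (Or.inr hi)
  exact aux n X a f hf

end Groth.Agent.S18550
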