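import Groth.Statements.S18560
import Mathlib

set_option autoImplicit false
universe u v
open PtQuiv

namespace Groth.Agent.S18560

/-- Let K be a field and s i ∈ K² (i in a finite index type) nonzero vectors, regarded as a
representation of the quiver with a central vertex carrying the plane and one vertex per i carrying
a line that maps to the plane by 1 ↦ s i. For a weight θ in the hypersimplex (0 ≤ θ i ≤ 1, Σ θ i =
2, central weight -1) the representation is θ-semistable if and only if, for every vector v, the
indices i with s i on the line K ∙ v have total weight at most 1. (The published statement is over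
an algebraically closed field, assumes semistability for some interior weight instead of s i ≠ 0,
and phrases the bound through the classes of pairwise proportional s i; any field is allowed here.
Its further assertion that the bounding walls, where the total weight of one proportionality class
equals 1, do not meet in the interior of the hypersimplex is not part of this row.) -/
theorem result (K : Type u) [Field K] (ι : Type v) [Fintype ι]
    (s : ι → (Fin 2 → K)) (hs : ∀ i, s i ≠ 0) (θ : ι → ℚ) (h0 : ∀ i, 0 ≤ θ i)
    (h1 : ∀ i, θ i ≤ 1) (h2 : ∑ i, θ i = 2) :
    PtQuiv.QSemistable (-1) θ s ↔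
      ∀ (J : Finset ι) (v : Fin 2 → K), (∀ i ∈ J, s i ∈ K ∙ v) → ∑ i ∈ J, θ i ≤ 1 := by
  classical
  unfold PtQuiv.QSemistable PtQuiv.QSubrep PtQuiv.QWt
  constructor
  · rintro ⟨_, h⟩ J v hJ
    have := h (K ∙ v) J hJ
    have hd : Module.finrank K (K ∙ v : Submodule K (Fin 2 → K)) ≤ 1 :=
      le_trans (finrank_span_le_card ({v} : Set (Fin 2 → K))) (by simp)
    have hd' : (Module.finrank K (K ∙ v : Submodule K (Fin 2 → K)) : ℚ) ≤ 1 := by exact_mod_cast hd
    linarith
  · intro h
    refine ⟨by rw [h2]; norm_num, fun L I hI => ?_⟩
    have hle : Module.finrank K L ≤ 2 := by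
      have := Submodule.finrank_le L
      simpa using this
    have hsum : ∑ i ∈ I, θ i ≤ 2 := by
      rw [← h2]
      exact Finset.sum_le_sum_of_subset_of_nonneg (Finset.subset_univ I) (fun i _ _ => h0 i)
    interval_cases hd : Module.finrank K L
    · -- L = ⊥
      have hL : L = ⊥ := Submodule.finrank_eq_zero.mp hd
      have hIe : I = ∅ := by
        rw [Finset.eq_empty_iff_forall_notMem]
        intro i hi
        have := hI i hi
        rw [hL, Submodule.mem_bot] at this
        exact hs i this
      rw [hIe]; simp
    · obtain ⟨v, hv, hspan⟩ := finrank_eq_one_iff'.mp hd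
      have := h I v.1 (fun i hi => by
        obtain ⟨c, hc⟩ := hspan ⟨s i, hI i hi⟩
        rw [Submodule.mem_span_singleton]
        exact ⟨c, by simpa using congrArg Subtype.val hc⟩)
      push_cast
      linarith
    · push_cast
      linarith

end Groth.Agent.S18560
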