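import Groth.Statements.S18561
import Mathlib

set_option autoImplicit false
universe u v
open PtQuiv

namespace Groth.Agent.S18561

/-- Let K be a field and s i ∈ K² (i in a finite index type) nonzero vectors, regarded as a
representation of the quiver with a central vertex carrying the plane and one vertex per i carrying
a line mapping to the plane by 1 ↦ s i. Then the representation is stable for some weight of the
hypersimplex (0 ≤ θ i ≤ 1, Σ θ i = 2, central weight -1) if and only if the s i fall into at least
three proportionality classes, i.e. three of them are pairwise non-proportional. (The published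
statement is over an algebraically closed field and assumes semistability for some interior weight
instead of s i ≠ 0; any field is allowed here. Its further assertions, that the set of semistability
weights is full-dimensional exactly in this case and is a wall otherwise, are not part of this row.) -/
theorem result (K : Type u) [Field K] (ι : Type v)
    [Fintype ι] (s : ι → (Fin 2 → K)) (hs : ∀ i, s i ≠ 0) :
    (∃ θ : ι → ℚ, (∀ i, 0 ≤ θ i) ∧ (∀ i, θ i ≤ 1) ∧ ∑ i, θ i = 2 ∧ PtQuiv.QStable (-1) θ s) ↔
      ∃ i j k : ι, s i ∉ K ∙ s j ∧ s j ∉ K ∙ s k ∧ s i ∉ K ∙ s k := by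
  classical
  constructor
  · rintro ⟨θ, h0, h1, h2, ⟨-, hQ⟩, hQst⟩
    have hclass : ∀ v : Fin 2 → K, v ≠ 0 → ∑ i, (if s i ∈ K ∙ v then θ i else 0) < 1 := by
      intro v hv
      have hsub : QSubrep s (K ∙ v) (Finset.univ.filter (fun i => s i ∈ K ∙ v)) := by
        intro i hi; exact (Finset.mem_filter.mp hi).2
      have hfr : Module.finrank K (K ∙ v : Submodule K (Fin 2 → K)) = 1 :=
        finrank_span_singleton hv
      have hle := hQ _ _ hsub
      have hne : QWt K (-1) θ (K ∙ v) (Finset.univ.filter (fun i => s i ∈ K ∙ v)) ≠ 0 := by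
        intro h
        rcases hQst _ _ hsub h with ⟨h, -⟩ | ⟨h, -⟩
        · rw [h] at hfr; simp at hfr
        · rw [h] at hfr; simp at hfr
      have hlt := lt_of_le_of_ne hle hne
      unfold QWt at hlt
      rw [hfr, Finset.sum_filter] at hlt
      push_cast at hlt; linarith
    by_contra hcon
    push Not at hcon
    have hne : Nonempty ι := by
      by_contra hem
      rw [not_nonempty_iff] at hem
      simp at h2
    obtain ⟨i₀⟩ := hne
    have hc0 := hclass (s i₀) (hs i₀)
    obtain ⟨j₀, hj₀⟩ : ∃ j₀, s j₀ ∉ K ∙ s i₀ := by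
      by_contra hall
      push Not at hall
      have : ∑ i, (if s i ∈ K ∙ s i₀ then θ i else 0) = ∑ i, θ i :=
        Finset.sum_congr rfl (fun i _ => if_pos (hall i))
      rw [this, h2] at hc0; norm_num at hc0
    have hc1 := hclass (s j₀) (hs j₀)
    obtain ⟨k, hk0, hk1⟩ : ∃ k, s k ∉ K ∙ s i₀ ∧ s k ∉ K ∙ s j₀ := by
      by_contra hall
      push Not at hall
      have : ∑ i, θ i ≤ ∑ i, (if s i ∈ K ∙ s i₀ then θ i else 0)
          + ∑ i, (if s i ∈ K ∙ s j₀ then θ i else 0) := by
        rw [← Finset.sum_add_distrib]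
        refine Finset.sum_le_sum fun i _ => ?_
        by_cases hi : s i ∈ K ∙ s i₀
        · rw [if_pos hi]; have := h0 i; split_ifs <;> linarith
        · rw [if_neg hi, if_pos (hall i hi)]; linarith
      linarith
    exact hk0 (hcon k j₀ i₀ hk1 hj₀)
  · rintro ⟨i, j, k, hij, hjk, hik⟩
    have hne_ij : i ≠ j := by rintro rfl; exact hij (Submodule.mem_span_singleton_self _)
    have hne_jk : j ≠ k := by rintro rfl; exact hjk (Submodule.mem_span_singleton_self _)
    have hne_ik : i ≠ k := by rintro rfl; exact hik (Submodule.mem_span_singleton_self _)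
    obtain ⟨T, hT⟩ : ∃ T : Finset ι, T = {i, j, k} := ⟨_, rfl⟩
    have hTcard : T.card = 3 := by
      rw [hT, Finset.card_insert_of_notMem (by simp [hne_ij, hne_ik]), Finset.card_pair hne_jk]
    obtain ⟨n, hn⟩ : ∃ n : ℕ, n = Fintype.card ι := ⟨_, rfl⟩
    have hn3 : 3 ≤ n := by rw [← hTcard, hn]; exact Finset.card_le_univ T
    have hn3' : (3 : ℚ) ≤ n := by exact_mod_cast hn3
    obtain ⟨ε, hε⟩ : ∃ ε : ℚ, ε = 1 / (2 * n) := ⟨_, rfl⟩
    obtain ⟨B, hB⟩ : ∃ B : ℚ, B = (2 - ((n : ℚ) - 3) * ε) / 3 := ⟨_, rfl⟩
    have hnpos : (0 : ℚ) < n := by linarith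
    have hεpos : 0 < ε := by rw [hε]; positivity
    have hε1 : ε * (2 * n) = 1 := by rw [hε]; field_simp
    have hnε : ((n : ℚ) - 3) * ε < 1 / 2 := by nlinarith
    have hnε0 : 0 ≤ ((n : ℚ) - 3) * ε := mul_nonneg (by linarith) hεpos.le
    have hεle : ε ≤ 1 := by nlinarith
    have hBpos : 0 < B := by rw [hB]; linarith
    have hBle : B ≤ 1 := by rw [hB]; linarith
    have hBε : B + ((n : ℚ) - 3) * ε < 1 := by rw [hB]; linarith
    obtain ⟨θ, hθT, hθnT⟩ : ∃ θ : ι → ℚ, (∀ x ∈ T, θ x = B) ∧ (∀ x ∉ T, θ x = ε) :=
      ⟨fun x => if x ∈ T then B else ε, fun x hx => if_pos hx, fun x hx => if_neg hx⟩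
    have hθpos : ∀ x, 0 < θ x := by
      intro x
      by_cases hx : x ∈ T
      · rw [hθT x hx]; exact hBpos
      · rw [hθnT x hx]; exact hεpos
    have hθ0 : ∀ x, 0 ≤ θ x := fun x => (hθpos x).le
    have hθ1 : ∀ x, θ x ≤ 1 := by
      intro x
      by_cases hx : x ∈ T
      · rw [hθT x hx]; exact hBle
      · rw [hθnT x hx]; exact hεle
    have hcompl : (Tᶜ.card : ℚ) = (n : ℚ) - 3 := by
      rw [Finset.card_compl, hTcard, ← hn, Nat.cast_sub hn3]; simp
    have hsum : ∑ x, θ x = 2 := by
      rw [← Finset.sum_add_sum_compl T θ]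
      have e1 : ∑ x ∈ T, θ x = 3 * B := by
        rw [Finset.sum_congr rfl (fun x hx => hθT x hx), Finset.sum_const, hTcard]; simp
      have e2 : ∑ x ∈ Tᶜ, θ x = ((n : ℚ) - 3) * ε := by
        rw [Finset.sum_congr rfl (fun x hx => hθnT x (Finset.mem_compl.mp hx)), Finset.sum_const,
          nsmul_eq_mul, hcompl]
      rw [e1, e2, hB]; ring
    refine ⟨θ, hθ0, hθ1, hsum, ?_⟩
    have key : ∀ (L : Submodule K (Fin 2 → K)) (I : Finset ι), QSubrep s L I →
        QWt K (-1) θ L I ≤ 0 ∧
          (QWt K (-1) θ L I = 0 → (L = ⊥ ∧ I = ∅) ∨ (L = ⊤ ∧ I = Finset.univ)) := by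
      intro L I hLI
      have hle : Module.finrank K L ≤ 2 := by
        have := Submodule.finrank_le L; simpa using this
      unfold QWt
      interval_cases hd : Module.finrank K L
      · have hL : L = ⊥ := Submodule.finrank_eq_zero.mp hd
        have hIe : I = ∅ := by
          rw [Finset.eq_empty_iff_forall_notMem]
          intro x hx
          have := hLI x hx
          rw [hL, Submodule.mem_bot] at this
          exact hs x this
        subst hIe
        exact ⟨by simp, fun _ => Or.inl ⟨hL, rfl⟩⟩
      · have hline : ∀ x ∈ I, ∀ y ∈ I, s x ∈ K ∙ s y := by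
          intro x hx y hy
          have hnz : (⟨s y, hLI y hy⟩ : L) ≠ 0 := fun h => hs y (congrArg Subtype.val h)
          obtain ⟨c, hc⟩ := (finrank_eq_one_iff_of_nonzero' _ hnz).mp hd ⟨s x, hLI x hx⟩
          rw [Submodule.mem_span_singleton]
          exact ⟨c, by simpa using congrArg Subtype.val hc⟩
        have hcard : (I ∩ T).card ≤ 1 := by
          rw [Finset.card_le_one]
          intro x hx y hy
          rw [Finset.mem_inter] at hx hy
          have hxT := hx.2
          have hyT := hy.2
          rw [hT] at hxT hyT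
          simp only [Finset.mem_insert, Finset.mem_singleton] at hxT hyT
          rcases hxT with rfl | rfl | rfl <;> rcases hyT with rfl | rfl | rfl
          · rfl
          · exact absurd (hline _ hx.1 _ hy.1) hij
          · exact absurd (hline _ hx.1 _ hy.1) hik
          · exact absurd (hline _ hy.1 _ hx.1) hij
          · rfl
          · exact absurd (hline _ hx.1 _ hy.1) hjk
          · exact absurd (hline _ hy.1 _ hx.1) hik
          · exact absurd (hline _ hy.1 _ hx.1) hjk
          · rfl
        have hsumI : ∑ x ∈ I, θ x < 1 := by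
          have e := Finset.sum_inter_add_sum_sdiff I T θ
          have e1 : ∑ x ∈ I ∩ T, θ x = (I ∩ T).card * B := by
            rw [Finset.sum_congr rfl (fun x hx => hθT x (Finset.mem_inter.mp hx).2),
              Finset.sum_const, nsmul_eq_mul]
          have e2 : ∑ x ∈ I \ T, θ x = (I \ T).card * ε := by
            rw [Finset.sum_congr rfl (fun x hx => hθnT x (Finset.mem_sdiff.mp hx).2),
              Finset.sum_const, nsmul_eq_mul]
          have c1 : ((I ∩ T).card : ℚ) ≤ 1 := by exact_mod_cast hcard
          have c2 : ((I \ T).card : ℚ) ≤ (n : ℚ) - 3 := by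
            have : (I \ T).card ≤ Tᶜ.card := Finset.card_le_card
              (fun x hx => Finset.mem_compl.mpr (Finset.mem_sdiff.mp hx).2)
            rw [← hcompl]; exact_mod_cast this
          have m1 : ((I ∩ T).card : ℚ) * B ≤ 1 * B := mul_le_mul_of_nonneg_right c1 hBpos.le
          have m2 : ((I \ T).card : ℚ) * ε ≤ ((n : ℚ) - 3) * ε :=
            mul_le_mul_of_nonneg_right c2 hεpos.le
          rw [← e, e1, e2]; linarith
        refine ⟨by push_cast; linarith, fun h => ?_⟩
        exfalso; push_cast at h; linarith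
      · have hL : L = ⊤ := Submodule.eq_top_of_finrank_eq (by rw [hd]; simp)
        have hI2 : ∑ x ∈ I, θ x ≤ 2 := by
          rw [← hsum]
          exact Finset.sum_le_sum_of_subset_of_nonneg (Finset.subset_univ I) (fun x _ _ => hθ0 x)
        refine ⟨by push_cast; linarith, fun h => Or.inr ⟨hL, ?_⟩⟩
        rw [Finset.eq_univ_iff_forall]
        intro x
        by_contra hx
        have hsub : I ⊆ Finset.univ.erase x := fun y hy =>
          Finset.mem_erase.mpr ⟨fun e => hx (e ▸ hy), Finset.mem_univ _⟩
        have h3 := Finset.sum_le_sum_of_subset_of_nonneg hsub (f := θ) (fun y _ _ => hθ0 y)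
        have h4 := Finset.add_sum_erase Finset.univ θ (Finset.mem_univ x)
        have := hθpos x
        push_cast at h; linarith
    exact ⟨⟨by rw [hsum]; norm_num, fun L I h => (key L I h).1⟩, fun L I h => (key L I h).2⟩

end Groth.Agent.S18561
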