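import Groth.Statements.S1857
import Mathlib
import Groth.Agent.Lib.Helper1.PullComp
import Groth.Agent.Lib.Helper1.RelDim
import Groth.Agent.Lib.Helper1.DimFormula2

set_option autoImplicit false
universe u
open CategoryTheory AlgebraicGeometry
open Cyc

namespace Groth.Agent.S1857

theorem shift_of_hasRelDim {X Y : Scheme.{u}} (f : X ⟶ Y) [LocallyOfFiniteType f] (δX : X → ℤ)
    (δY : Y → ℤ) (r : ℕ) (hr : Cyc.HasRelDim f r) (hf : Cyc.DeltaCompat f δX δY) (x : X)
    (hgen : ∀ y, f y = f x → y ⤳ x → y = x) : δX x = δY (f x) + r := by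
  obtain ⟨n, hn1, hn2⟩ := hf x
  obtain ⟨t, ht1, ht2⟩ := Groth.Agent.H1.DimFormula.fibreDimAt_eq_trdeg_of_generic f x hgen
  have h3 := (Groth.Agent.H1.RelDim.hasRelDim_iff f r).1 hr x
  rw [ht2] at h3
  have htr : t = r := by exact_mod_cast h3
  have hnt : n = t := by
    have : (n : Cardinal.{u}) = t := hn1.symm.trans ht1
    exact_mod_cast this
  rw [hn2, hnt, htr]

/-- For flat morphisms f : X → Y and g : Y → Z locally of finite type of relative dimensions r and s,
the composite has relative dimension r + s and (g ∘ f)^* = f^* ∘ g^* on k-cycles (equality of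
coefficient functions). Here a pair (X, δ) with Cyc.IsSetup plays the role of a scheme locally of
finite type over a fixed base with a dimension function (X locally Noetherian with universally
catenary local rings, δ a dimension function), and Cyc.DeltaCompat records that the dimension
function upstairs is the induced one. -/
theorem result (X Y Z : Scheme.{u}) (δX : X → ℤ) (δY : Y → ℤ) (δZ : Z → ℤ) (hX : Cyc.IsSetup X δX) (hY : Cyc.IsSetup Y δY) (hZ : Cyc.IsSetup Z δZ) (f : X ⟶ Y) (g : Y ⟶ Z) [Flat f] [LocallyOfFiniteType f] [Flat g] [LocallyOfFiniteType g] (r s : ℕ) (hr : Cyc.HasRelDim f r) (hs : Cyc.HasRelDim g s) (hf : Cyc.DeltaCompat f δX δY) (hg : Cyc.DeltaCompat g δY δZ) (k : ℤ) : Cyc.HasRelDim (f ≫ g) (r + s) ∧ ∀ α : AlgebraicCycle Z ℤ, α ∈ Cyc.Zk Z δZ k → Cyc.pullFun f δX δY r (Cyc.pullFun g δY δZ s ⇑α) = Cyc.pullFun (f ≫ g) δX δZ ((r : ℤ) + s) ⇑α := by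
  constructor
  · rw [Groth.Agent.H1.RelDim.hasRelDim_iff]
    intro x
    rw [(Groth.Agent.H1.DimFormula.fibreDimAt_comp f g x).2 (Flat.stalkMap f x),
      (Groth.Agent.H1.RelDim.hasRelDim_iff f r).1 hr x,
      (Groth.Agent.H1.RelDim.hasRelDim_iff g s).1 hs (f x)]
    push_cast
    rfl
  · intro α _
    have := Groth.Agent.H1.PullComp.pullFun_comp f g δX δY δZ (r : ℤ) (s : ℤ)
      (fun x hx => shift_of_hasRelDim f δX δY r hr hf x hx)
      (fun y hy => shift_of_hasRelDim g δY δZ s hs hg y hy) ⇑α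
    rw [← this, add_comm]

end Groth.Agent.S1857
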