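import Groth.Statements.S18579
import Mathlib

set_option autoImplicit false
universe u
open LogDiff

namespace Groth.Agent.S18579


section helpers
variable {R : Type*} [CommRing R] [IsDomain R] {r : ℕ} (f : Fin r → R) (hf : ∀ i, Prime (f i))
include hf

theorem key_exists : ∀ (s : Multiset (Fin r)) (x y u : R), IsUnit u → x * y = u * (s.map f).prod →
    ∃ (v : Rˣ) (t : Multiset (Fin r)), x = v * (t.map f).prod := by
  intro s
  induction s using Multiset.induction with
  | empty =>
    intro x y u hu h
    rw [Multiset.map_zero, Multiset.prod_zero, mul_one] at h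
    have hx : IsUnit x := isUnit_of_mul_isUnit_left (h ▸ hu)
    exact ⟨hx.unit, 0, by simp⟩
  | cons i s ih =>
    intro x y u hu h
    rw [Multiset.map_cons, Multiset.prod_cons] at h
    have hdvd : f i ∣ x * y := ⟨u * (s.map f).prod, by rw [h]; ring⟩
    rcases (hf i).dvd_or_dvd hdvd with ⟨x', rfl⟩ | ⟨y', rfl⟩
    · have h' : x' * y = u * (s.map f).prod := by
        apply mul_left_cancel₀ (hf i).ne_zero
        rw [← mul_assoc, h]; ring
      obtain ⟨v, t, ht⟩ := ih x' y u hu h'
      refine ⟨v, i ::ₘ t, ?_⟩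
      rw [Multiset.map_cons, Multiset.prod_cons, ht]; ring
    · have h' : x * y' = u * (s.map f).prod := by
        apply mul_left_cancel₀ (hf i).ne_zero
        linear_combination h
      exact ih x y' u hu h'

omit [IsDomain R] hf in
theorem multiset_prod_eq (t : Multiset (Fin r)) :
    (t.map f).prod = ∏ i, f i ^ t.count i := by
  rw [Finset.prod_multiset_map_count]
  apply Finset.prod_subset (Finset.subset_univ _)
  intro i _ hi
  rw [Multiset.mem_toFinset] at hi
  rw [Multiset.count_eq_zero_of_notMem hi, pow_zero]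

variable (hfa : ∀ i j, Associated (f i) (f j) → i = j)
include hfa

theorem not_dvd_aux (i : Fin r) (c : Fin r → ℕ) (u : Rˣ) :
    ¬ f i ∣ (u : R) * ∏ j ∈ Finset.univ.erase i, f j ^ c j := by
  intro h
  rcases (hf i).dvd_or_dvd h with h1 | h2
  · exact (hf i).not_isUnit (isUnit_of_dvd_unit h1 u.isUnit)
  · obtain ⟨j, hj, hd⟩ := (hf i).exists_mem_finset_dvd h2
    have h3 := (hf i).dvd_of_dvd_pow hd
    have h4 := (hf i).associated_of_dvd (hf j) h3
    have := hfa i j h4
    exact (Finset.ne_of_mem_erase hj) this.symm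

theorem exp_le (u u' : Rˣ) (c c' : Fin r → ℕ)
    (h : (u : R) * ∏ i, f i ^ c i = u' * ∏ i, f i ^ c' i) (i : Fin r) : c i ≤ c' i := by
  by_contra hlt
  push Not at hlt
  have h1 : f i ^ (c' i + 1) ∣ (u : R) * ∏ j, f j ^ c j := by
    refine Dvd.dvd.mul_left ?_ _
    exact (pow_dvd_pow _ hlt).trans (Finset.dvd_prod_of_mem (fun j => f j ^ c j) (Finset.mem_univ i))
  rw [h, ← Finset.mul_prod_erase Finset.univ (fun j => f j ^ c' j) (Finset.mem_univ i), pow_succ] at h1
  have h2 : f i ^ c' i * f i ∣ f i ^ c' i * ((u' : R) * ∏ j ∈ Finset.univ.erase i, f j ^ c' j) := by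
    convert h1 using 1; ring
  rw [mul_dvd_mul_iff_left (pow_ne_zero _ (hf i).ne_zero)] at h2
  exact not_dvd_aux f hf hfa i c' u' h2

theorem key_unique (u u' : Rˣ) (c c' : Fin r → ℕ)
    (h : (u : R) * ∏ i, f i ^ c i = u' * ∏ i, f i ^ c' i) : c = c' ∧ u = u' := by
  have hc : c = c' := by
    funext i
    exact le_antisymm (exp_le f hf hfa u u' c c' h i) (exp_le f hf hfa u' u c' c h.symm i)
  refine ⟨hc, ?_⟩
  subst hc
  have hne : ∏ i, f i ^ c i ≠ 0 :=
    Finset.prod_ne_zero_iff.mpr fun i _ => pow_ne_zero _ (hf i).ne_zero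
  exact Units.ext (mul_right_cancel₀ hne h)

end helpers

/-- The exact sequence for units (first Milnor K-groups) when every component of the divisor is removed.
Let k be a field, B a smooth k-algebra, R the localization of B at a prime ideal, K the fraction
field of R and f_1, …, f_r pairwise non-associate prime elements of R. If w is a unit of K such that
w and w⁻¹ both lie in R[1/(f_1⋯f_r)], i.e. each becomes an element of R after multiplication by a
power of f_1⋯f_r, then there is exactly one pair (v, b) consisting of a unit v of R and integers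
b_1, …, b_r with w = v · ∏ f_i^{b_i} in K. (This is the exactness of 0 → Γ(Spec R, O^×) → Γ(Spec R ∖
V(f_1⋯f_r), O^×) → ℤ^r → 0, the last map being the orders along the f_i. The published statement
takes the f_i to be local equations of the components of a normal crossings divisor, over a field of
characteristic zero; this row allows arbitrary pairwise non-associate prime elements and any field.) -/
theorem result
    {k B R K : Type u} [Field k] [CommRing B] [Algebra k B] [Algebra.Smooth k B]
    (p : Ideal B) [p.IsPrime] [CommRing R] [Algebra B R] [IsLocalization.AtPrime R p]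
    [Field K] [Algebra R K] [IsFractionRing R K]
    {r : ℕ} (f : Fin r → R) (hf : ∀ i, Prime (f i)) (hfa : ∀ i j, Associated (f i) (f j) → i = j)
    (w : Kˣ)
    (hw : ∃ (a : R) (n : ℕ), (w : K) * algebraMap R K ((∏ i, f i) ^ n) = algebraMap R K a)
    (hw' : ∃ (a : R) (n : ℕ), (w⁻¹ : Kˣ) * algebraMap R K ((∏ i, f i) ^ n) = algebraMap R K a) :
    ∃! vb : Rˣ × (Fin r → ℤ),
      (w : K) = algebraMap R K (vb.1 : R) * ∏ i, (algebraMap R K (f i)) ^ (vb.2 i) := by
  classical
  haveI : IsDomain R := (IsFractionRing.injective R K).isDomain _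
  have hinj := IsFractionRing.injective R K
  have hFne : ∀ i, algebraMap R K (f i) ≠ 0 := fun i => by
    rw [Ne, map_eq_zero_iff _ hinj]; exact (hf i).ne_zero
  -- a general evaluation of the shape
  have hshape : ∀ (v : Rˣ) (c : Fin r → ℕ) (n : ℕ),
      algebraMap R K (v : R) * ∏ i, (algebraMap R K (f i)) ^ ((c i : ℤ) - n) =
        algebraMap R K ((v : R) * ∏ i, f i ^ c i) / algebraMap R K ((∏ i, f i) ^ n) := by
    intro v c n
    have : ∀ i, (algebraMap R K (f i)) ^ ((c i : ℤ) - n) =
        (algebraMap R K (f i)) ^ c i / (algebraMap R K (f i)) ^ n := by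
      intro i
      rw [zpow_sub₀ (hFne i), zpow_natCast, zpow_natCast]
    simp_rw [this]
    rw [Finset.prod_div_distrib, Finset.prod_pow, map_mul, map_prod, map_pow, map_prod, mul_div_assoc]
    simp_rw [map_pow]
  have hPne : ∀ n : ℕ, algebraMap R K ((∏ i, f i) ^ n) ≠ 0 := fun n => by
    rw [Ne, map_eq_zero_iff _ hinj]
    exact pow_ne_zero _ (Finset.prod_ne_zero_iff.mpr fun i _ => (hf i).ne_zero)
  -- uniqueness in general
  have huniq : ∀ (v v' : Rˣ) (b b' : Fin r → ℤ),
      algebraMap R K (v : R) * ∏ i, (algebraMap R K (f i)) ^ (b i) =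
        algebraMap R K (v' : R) * ∏ i, (algebraMap R K (f i)) ^ (b' i) → v = v' ∧ b = b' := by
    intro v v' b b' h
    let N : ℕ := ∑ i, ((b i).natAbs + (b' i).natAbs)
    have hN : ∀ i, (b i).natAbs + (b' i).natAbs ≤ N := fun i =>
      Finset.single_le_sum (f := fun i => (b i).natAbs + (b' i).natAbs)
        (fun _ _ => Nat.zero_le _) (Finset.mem_univ i)
    have hc : ∀ i, b i = (((b i + N).toNat : ℕ) : ℤ) - N := by
      intro i
      have := hN i
      rw [Int.toNat_of_nonneg (by omega)]; ring
    have hc' : ∀ i, b' i = (((b' i + N).toNat : ℕ) : ℤ) - N := by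
      intro i
      have := hN i
      rw [Int.toNat_of_nonneg (by omega)]; ring
    have e1 : (fun i => (algebraMap R K (f i)) ^ (b i)) =
        fun i => (algebraMap R K (f i)) ^ ((((b i + N).toNat : ℕ) : ℤ) - N) := by
      funext i; rw [← hc i]
    have e2 : (fun i => (algebraMap R K (f i)) ^ (b' i)) =
        fun i => (algebraMap R K (f i)) ^ ((((b' i + N).toNat : ℕ) : ℤ) - N) := by
      funext i; rw [← hc' i]
    rw [e1, e2, hshape v _ N, hshape v' _ N, div_left_inj' (hPne N)] at h
    have h' := hinj h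
    obtain ⟨h1, h2⟩ := key_unique f hf hfa v v' _ _ h'
    refine ⟨h2, ?_⟩
    funext i
    rw [hc i, hc' i, congrFun h1 i]
  -- existence
  obtain ⟨a, n, ha⟩ := hw
  obtain ⟨b, m, hb⟩ := hw'
  have hab : a * b = 1 * (((n + m) • (Finset.univ : Finset (Fin r)).val).map f).prod := by
    apply hinj
    rw [Multiset.map_nsmul, Multiset.prod_nsmul, one_mul, map_mul, ← ha, ← hb]
    have : (((Finset.univ : Finset (Fin r)).val).map f).prod = ∏ i, f i := rfl
    rw [this, pow_add, map_mul]
    have hw1 : (w : K) * ((w⁻¹ : Kˣ) : K) = 1 := by simp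
    calc (w : K) * algebraMap R K ((∏ i, f i) ^ n) *
          (((w⁻¹ : Kˣ) : K) * algebraMap R K ((∏ i, f i) ^ m))
        = ((w : K) * ((w⁻¹ : Kˣ) : K)) *
          (algebraMap R K ((∏ i, f i) ^ n) * algebraMap R K ((∏ i, f i) ^ m)) := by ring
      _ = _ := by rw [hw1, one_mul]
  obtain ⟨v, t, hvt⟩ := key_exists f hf _ a b 1 isUnit_one hab
  have hex : (w : K) = algebraMap R K (v : R) *
      ∏ i, (algebraMap R K (f i)) ^ ((fun i => ((t.count i : ℕ) : ℤ) - n) i) := by
    rw [hshape v (fun i => t.count i) n, ← multiset_prod_eq, ← hvt, eq_div_iff (hPne n)]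
    exact ha
  refine ⟨(v, fun i => ((t.count i : ℕ) : ℤ) - n), hex, ?_⟩
  rintro ⟨v', b'⟩ h'
  have := huniq v' v b' _ (h'.symm.trans hex)
  exact Prod.ext this.1 this.2

end Groth.Agent.S18579
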