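import Groth.Statements.S18580
import Mathlib

set_option autoImplicit false
universe u
open EtBase

namespace Groth.Agent.S18580


section helpers
open AlgebraicGeometry CategoryTheory Limits

theorem isOpenImmersion_of_section {X Y : Scheme.{u}} (f : X ⟶ Y)
    [FormallyUnramified f] [LocallyOfFiniteType f] (s : Y ⟶ X) (hs : s ≫ f = 𝟙 Y) :
    IsOpenImmersion s := by
  have : MorphismProperty.HasOfPostcompProperty @IsOpenImmersion
      (@LocallyOfFiniteType ⊓ @FormallyUnramified) := by
    rw [MorphismProperty.hasOfPostcompProperty_iff_le_diagonal]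
    intro X Y f ⟨hft, hfu⟩
    exact inferInstanceAs <| IsOpenImmersion (pullback.diagonal f)
  refine MorphismProperty.of_postcomp (W := @IsOpenImmersion)
    (W' := @LocallyOfFiniteType ⊓ @FormallyUnramified) s f ⟨‹_›, ‹_›⟩ ?_
  rw [hs]
  infer_instance

theorem isClosedImmersion_of_section {X Y : Scheme.{u}} (f : X ⟶ Y)
    [IsSeparated f] (s : Y ⟶ X) (hs : s ≫ f = 𝟙 Y) :
    IsClosedImmersion s := by
  have : IsClosedImmersion (s ≫ f) := by rw [hs]; infer_instance
  exact IsClosedImmersion.of_comp s f

end helpers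

open AlgebraicGeometry CategoryTheory in
/-- Let Y be a connected scheme and f : X ⟶ Y a separated morphism that is unramified (locally of finite
type and formally unramified). Then the sections of f correspond bijectively to the connected
components of X mapping isomorphically onto Y: there is a bijection from the set of sections s of f
to the set of open subschemes U of X whose underlying set is a connected component of X and for
which U ⟶ X ⟶ Y is an isomorphism, sending s to its image. In particular every section is an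
isomorphism onto a connected component of X and is determined by its image. (A connected component
mapping isomorphically onto Y is the image of a section, hence open, so restricting to open
components loses nothing. The published statement also assumes Y Noetherian; that hypothesis plays
no role and is omitted.) -/
theorem result {X Y : Scheme.{u}} (f : X ⟶ Y)
    [FormallyUnramified f] [LocallyOfFiniteType f] [IsSeparated f] [ConnectedSpace Y] :
    ∃ e : {s : Y ⟶ X // s ≫ f = 𝟙 Y} ≃
        {U : X.Opens // (∃ x : X, (U : Set X) = connectedComponent x) ∧ IsIso (U.ι ≫ f)},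
      ∀ s : {s : Y ⟶ X // s ≫ f = 𝟙 Y}, ((e s).1 : Set X) = Set.range s.1 := by
  classical
  -- forward map
  have hopen : ∀ s : {s : Y ⟶ X // s ≫ f = 𝟙 Y}, IsOpenImmersion s.1 :=
    fun s => isOpenImmersion_of_section f s.1 s.2
  have hclosed : ∀ s : {s : Y ⟶ X // s ≫ f = 𝟙 Y}, IsClosedImmersion s.1 :=
    fun s => isClosedImmersion_of_section f s.1 s.2
  have hcomp : ∀ s : {s : Y ⟶ X // s ≫ f = 𝟙 Y},
      ∃ x : X, Set.range s.1 = connectedComponent x := by
    intro s
    have := hopen s
    have := hclosed s
    obtain ⟨y₀⟩ := (inferInstance : Nonempty Y)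
    refine ⟨s.1 y₀, ?_⟩
    have hclopen : IsClopen (Set.range s.1) :=
      ⟨s.1.isClosedEmbedding.isClosed_range, s.1.isOpenEmbedding.isOpen_range⟩
    apply Set.Subset.antisymm
    · exact (isPreconnected_range s.1.continuous).subset_connectedComponent ⟨y₀, rfl⟩
    · exact hclopen.connectedComponent_subset ⟨y₀, rfl⟩
  have hiso : ∀ s : {s : Y ⟶ X // s ≫ f = 𝟙 Y},
      ∀ h : IsOpenImmersion s.1, IsIso (s.1.opensRange.ι ≫ f) := by
    intro s h
    have h1 : s.1.opensRange.ι ≫ f = s.1.isoOpensRange.inv := by
      rw [← cancel_epi s.1.isoOpensRange.hom, ← Category.assoc, Scheme.Hom.isoOpensRange_hom_ι,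
        s.2, Iso.hom_inv_id]
    rw [h1]
    infer_instance
  let φ : {s : Y ⟶ X // s ≫ f = 𝟙 Y} →
      {U : X.Opens // (∃ x : X, (U : Set X) = connectedComponent x) ∧ IsIso (U.ι ≫ f)} :=
    fun s => ⟨@Scheme.Hom.opensRange _ _ s.1 (hopen s), by
      have := hopen s
      obtain ⟨x, hx⟩ := hcomp s
      exact ⟨x, by rw [Scheme.Hom.coe_opensRange]; exact hx⟩, hiso s (hopen s)⟩
  have hφ : ∀ s, ((φ s).1 : Set X) = Set.range s.1 := by
    intro s
    have := hopen s
    exact Scheme.Hom.coe_opensRange _
  -- key: a section is determined by its range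
  have hdet : ∀ (U : X.Opens) (hU : IsIso (U.ι ≫ f)) (s : {s : Y ⟶ X // s ≫ f = 𝟙 Y}),
      Set.range s.1 = (U : Set X) → s.1 = inv (U.ι ≫ f) ≫ U.ι := by
    intro U hU s hs
    have := hopen s
    have hle : Set.range s.1 ⊆ Set.range U.ι := by rw [Scheme.Opens.range_ι]; exact hs.le
    have hfac : IsOpenImmersion.lift U.ι s.1 hle ≫ U.ι = s.1 := IsOpenImmersion.lift_fac _ _ _
    have h2 : IsOpenImmersion.lift U.ι s.1 hle ≫ (U.ι ≫ f) = 𝟙 Y := by
      rw [← Category.assoc, hfac, s.2]
    have h3 : IsOpenImmersion.lift U.ι s.1 hle = inv (U.ι ≫ f) := by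
      rw [← cancel_mono (U.ι ≫ f), h2, IsIso.inv_hom_id]
    rw [← h3, hfac]
  have hinj : Function.Injective φ := by
    intro s s' hss
    have h1 : (φ s).1 = (φ s').1 := congrArg Subtype.val hss
    have hr : Set.range s.1 = ((φ s').1 : Set X) := by rw [← hφ s, h1]
    have hr' : Set.range s'.1 = ((φ s').1 : Set X) := (hφ s').symm
    apply Subtype.ext
    rw [hdet (φ s').1 (φ s').2.2 s hr, hdet (φ s').1 (φ s').2.2 s' hr']
  have hsurj : Function.Surjective φ := by
    rintro ⟨U, hUc, hU⟩
    have hsec : (inv (U.ι ≫ f) ≫ U.ι) ≫ f = 𝟙 Y := by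
      rw [Category.assoc, IsIso.inv_hom_id]
    refine ⟨⟨inv (U.ι ≫ f) ≫ U.ι, hsec⟩, ?_⟩
    apply Subtype.ext
    apply TopologicalSpace.Opens.ext
    rw [hφ]
    show Set.range (inv (U.ι ≫ f) ≫ U.ι) = (U : Set X)
    rw [Scheme.Hom.comp_base, TopCat.coe_comp, Set.range_comp]
    have : Set.range (inv (U.ι ≫ f)) = Set.univ := by
      rw [Set.range_eq_univ]
      exact (inv (U.ι ≫ f)).surjective
    rw [this, Set.image_univ, Scheme.Opens.range_ι]
  exact ⟨Equiv.ofBijective φ ⟨hinj, hsurj⟩, fun s => hφ s⟩

end Groth.Agent.S18580
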