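import Groth.Statements.S18589
import Mathlib

set_option autoImplicit false
open CAlg

namespace Groth.Agent.S18589

/-- For a prime p and every natural number n, the n-th Witt addition polynomial over the integers (the
polynomial S_n with (x + y)_n = S_n(x_0, y_0, …, x_n, y_n) for p-typical Witt vectors x, y) is
weighted homogeneous of weighted degree p ^ n for the grading in which the variables x_i and y_i
have weight p ^ i. -/
theorem result (p : ℕ) [Fact p.Prime] (n : ℕ) :
    MvPolynomial.IsWeightedHomogeneous (fun i : Fin 2 × ℕ => p ^ i.2) (WittVector.wittAdd p n) (p ^ n) := by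
  induction n using Nat.strong_induction_on with
  | _ n ih =>
  have hp0 : (p : ℤ) ≠ 0 := by exact_mod_cast (Fact.out : p.Prime).ne_zero
  have hprop := wittStructureInt_prop p
    (MvPolynomial.X 0 + MvPolynomial.X 1 : MvPolynomial (Fin 2) ℤ) n
  have hpow : ∀ i ∈ Finset.range (n + 1), p ^ (n - i) * p ^ i = p ^ n := by
    intro i hi
    rw [← pow_add, Nat.sub_add_cancel (Nat.lt_succ_iff.mp (Finset.mem_range.mp hi))]
  -- the right-hand side is weighted homogeneous
  have hR : ∀ b : Fin 2, MvPolynomial.IsWeightedHomogeneous (fun i : Fin 2 × ℕ => p ^ i.2)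
      (MvPolynomial.rename (Prod.mk b) (wittPolynomial p ℤ n)) (p ^ n) := by
    intro b
    rw [wittPolynomial_eq_sum_C_mul_X_pow, map_sum]
    refine MvPolynomial.IsWeightedHomogeneous.sum _ _ _ fun i hi => ?_
    rw [map_mul, MvPolynomial.rename_C, map_pow (MvPolynomial.rename (Prod.mk b)), MvPolynomial.rename_X]
    refine MvPolynomial.IsWeightedHomogeneous.C_mul ?_ _
    have := (MvPolynomial.isWeightedHomogeneous_X (R := ℤ) (fun i : Fin 2 × ℕ => p ^ i.2) (b, i)).pow
      (p ^ (n - i))
    simp only [smul_eq_mul] at this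
    rw [hpow i hi] at this
    exact this
  have hRHS : MvPolynomial.IsWeightedHomogeneous (fun i : Fin 2 × ℕ => p ^ i.2)
      (MvPolynomial.bind₁ (fun i => MvPolynomial.rename (Prod.mk i) (wittPolynomial p ℤ n))
        (MvPolynomial.X 0 + MvPolynomial.X 1 : MvPolynomial (Fin 2) ℤ)) (p ^ n) := by
    rw [map_add, MvPolynomial.bind₁_X_right, MvPolynomial.bind₁_X_right]
    exact (hR 0).add (hR 1)
  have hL : MvPolynomial.bind₁ (wittStructureInt p (MvPolynomial.X 0 + MvPolynomial.X 1 : MvPolynomial (Fin 2) ℤ))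
      (wittPolynomial p ℤ n) = ∑ x ∈ Finset.range (n + 1), MvPolynomial.C ((p : ℤ) ^ x) *
        wittStructureInt p (MvPolynomial.X 0 + MvPolynomial.X 1 : MvPolynomial (Fin 2) ℤ) x ^ p ^ (n - x) := by
    rw [wittPolynomial_eq_sum_C_mul_X_pow, map_sum]
    refine Finset.sum_congr rfl fun i _ => ?_
    rw [map_mul, MvPolynomial.bind₁_C_right, map_pow (MvPolynomial.bind₁ _), MvPolynomial.bind₁_X_right]
  rw [← hprop, hL, Finset.sum_range_succ, Nat.sub_self, pow_zero, pow_one] at hRHS
  have hlow : MvPolynomial.IsWeightedHomogeneous (fun i : Fin 2 × ℕ => p ^ i.2)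
      (∑ x ∈ Finset.range n, MvPolynomial.C ((p : ℤ) ^ x) *
        wittStructureInt p (MvPolynomial.X 0 + MvPolynomial.X 1) x ^ p ^ (n - x)) (p ^ n) := by
    refine MvPolynomial.IsWeightedHomogeneous.sum _ _ _ fun i hi => ?_
    refine MvPolynomial.IsWeightedHomogeneous.C_mul ?_ _
    have := (ih i (Finset.mem_range.mp hi)).pow (p ^ (n - i))
    simp only [smul_eq_mul] at this
    rw [hpow i (Finset.mem_range.mpr (Nat.lt_succ_of_lt (Finset.mem_range.mp hi)))] at this
    exact this
  have htop := hRHS.sub hlow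
  rw [add_sub_cancel_left] at htop
  intro m hm
  apply htop
  rw [MvPolynomial.coeff_C_mul]
  exact mul_ne_zero (pow_ne_zero _ hp0) hm

end Groth.Agent.S18589
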