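import Groth.Statements.S18614
import Mathlib

set_option autoImplicit false
universe u v
open LinTop

namespace Groth.Agent.S18614


theorem continuous_of_le_ker {k : Type*} {M : Type*} [Field k]
    [TopologicalSpace k] [DiscreteTopology k] [AddCommGroup M] [Module k M] [TopologicalSpace M]
    [IsTopologicalAddGroup M] (f : M →ₗ[k] k) (N : Submodule k M) (hN : (N : Set M) ∈ nhds (0 : M))
    (hle : N ≤ LinearMap.ker f) : Continuous f := by
  have : Continuous f.toAddMonoidHom := by
    apply continuous_of_continuousAt_zero
    rw [ContinuousAt, map_zero]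
    intro s hs
    have h0 : (0 : k) ∈ s := mem_of_mem_nhds hs
    rw [Filter.mem_map]
    refine Filter.mem_of_superset hN ?_
    intro m hm
    have : f m = 0 := hle hm
    simp only [Set.mem_preimage, LinearMap.toAddMonoidHom_coe, this, h0]
  exact this

/-- Let k be a field carrying the discrete topology and M a separated topological k-module with a
k-linear topology (the open k-submodules form a basis of neighbourhoods of zero and M is a
topological additive group). For a closed submodule M₁, the perpendicular of the perpendicular of
M₁, both taken with respect to the pairing of M with its continuous dual (the continuous k-linear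
maps M → k), is M₁ itself: an element killed by every continuous functional vanishing on M₁ belongs
to M₁. -/
theorem result (k : Type u) (M : Type v) [Field k]
    [TopologicalSpace k] [DiscreteTopology k] [AddCommGroup M] [Module k M] [TopologicalSpace M]
    [IsTopologicalAddGroup M] [IsLinearTopology k M] [T2Space M]
    (M₁ : Submodule k M) (hM₁ : IsClosed (M₁ : Set M)) (x : M)
    (hx : ∀ φ : M →L[k] k, (∀ m ∈ M₁, φ m = 0) → φ x = 0) : x ∈ M₁ := by
  by_contra hxn
  -- an open submodule U with x + U disjoint from M₁
  have hopen : (M₁ : Set M)ᶜ ∈ nhds x := hM₁.isOpen_compl.mem_nhds hxn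
  have h0 : (fun u => x + u) ⁻¹' (M₁ : Set M)ᶜ ∈ nhds (0 : M) := by
    have hc : ContinuousAt (fun u : M => x + u) 0 := (continuous_const.add continuous_id).continuousAt
    apply hc
    simpa using hopen
  obtain ⟨U, hU, hUsub⟩ := (IsLinearTopology.hasBasis_submodule k).mem_iff.mp h0
  have hxN : x ∉ M₁ ⊔ U := by
    intro hmem
    obtain ⟨m, hm, u, hu, hmu⟩ := Submodule.mem_sup.mp hmem
    have : x + (-u) ∈ (M₁ : Set M)ᶜ := hUsub (U.neg_mem hu)
    apply this
    have : x + -u = m := by rw [← hmu]; abel
    rw [this]; exact hm
  obtain ⟨f, hfx, hf⟩ := Submodule.exists_dual_map_eq_bot_of_notMem hxN inferInstance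
  have hker : M₁ ⊔ U ≤ LinearMap.ker f := by
    intro m hm
    rw [LinearMap.mem_ker]
    have : f m ∈ (M₁ ⊔ U).map f := ⟨m, hm, rfl⟩
    rw [hf] at this
    simpa using this
  have hcont : Continuous f := continuous_of_le_ker f U hU (le_sup_right.trans hker)
  apply hfx
  exact hx ⟨f, hcont⟩ (fun m hm => hker (Submodule.mem_sup_left hm))

end Groth.Agent.S18614
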