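import Groth.Statements.S18615
import Mathlib

set_option autoImplicit false
universe u v
open LinTop

namespace Groth.Agent.S18615


theorem continuous_of_le_ker {k : Type*} {M : Type*} [Field k]
    [TopologicalSpace k] [DiscreteTopology k] [AddCommGroup M] [Module k M] [TopologicalSpace M]
    [IsTopologicalAddGroup M] (f : M →ₗ[k] k) (N : Submodule k M) (hN : (N : Set M) ∈ nhds (0 : M))
    (hle : N ≤ LinearMap.ker f) : Continuous f := by
  have : Continuous f.toAddMonoidHom := by
    apply continuous_of_continuousAt_zero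
    rw [ContinuousAt, map_zero]
    intro s hs
    have h0 : (0 : k) ∈ s := mem_of_mem_nhds hs
    rw [Filter.mem_map]
    refine Filter.mem_of_superset hN ?_
    intro m hm
    have : f m = 0 := hle hm
    simp only [Set.mem_preimage, LinearMap.toAddMonoidHom_coe, this, h0]
  exact this

/-- Let k be a field carrying the discrete topology and M a separated topological k-module with a
k-linear topology (open k-submodules form a basis of neighbourhoods of zero, M a topological
additive group). For closed submodules M₁ ⊆ M₂ there is a short exact sequence 0 → M₂^⊥ → M₁^⊥ →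
(M₂/M₁)^* → 0 of plain k-modules, where ⊥ denotes the annihilator in the continuous dual of M and *
the continuous dual. Stated here as its one non-formal part, surjectivity on the right: every
continuous functional on M₂ (subspace topology) that vanishes on M₁ is the restriction of a
continuous functional on M vanishing on M₁ (continuous functionals on M₂/M₁ being the continuous
functionals on M₂ that kill M₁). -/
theorem result (k : Type u) (M : Type v) [Field k]
    [TopologicalSpace k] [DiscreteTopology k] [AddCommGroup M] [Module k M] [TopologicalSpace M]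
    [IsTopologicalAddGroup M] [IsLinearTopology k M] [T2Space M]
    (M₁ M₂ : Submodule k M) (h₁₂ : M₁ ≤ M₂) (hM₁ : IsClosed (M₁ : Set M))
    (hM₂ : IsClosed (M₂ : Set M)) (ψ : M₂ →L[k] k)
    (hψ : ∀ m : M₂, (m : M) ∈ M₁ → ψ m = 0) :
    ∃ φ : M →L[k] k, (∀ m ∈ M₁, φ m = 0) ∧ ∀ m : M₂, φ (m : M) = ψ m := by
  -- the kernel of ψ is a neighbourhood of 0 in M₂
  have hker : (ψ : M₂ → k) ⁻¹' {0} ∈ nhds (0 : M₂) := by
    have hc : ContinuousAt ψ 0 := ψ.continuous.continuousAt
    apply hc
    rw [map_zero]
    exact (isOpen_discrete ({0} : Set k)).mem_nhds rfl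
  rw [nhds_subtype_eq_comap, Filter.mem_comap] at hker
  obtain ⟨t, ht, hts⟩ := hker
  obtain ⟨U, hU, hUt⟩ := (IsLinearTopology.hasBasis_submodule k).mem_iff.mp ht
  -- K' = M₂ ∩ U as a submodule of M₂
  let K' : Submodule k M₂ := U.comap M₂.subtype
  have hK' : K' ≤ LinearMap.ker (ψ : M₂ →ₗ[k] k) := by
    intro m hm
    have : (m : M) ∈ t := hUt hm
    have := hts this
    simpa using this
  let ψbar : (M₂ ⧸ K') →ₗ[k] k := K'.liftQ (ψ : M₂ →ₗ[k] k) hK'
  let ι : (M₂ ⧸ K') →ₗ[k] (M ⧸ U) := K'.mapQ U M₂.subtype le_rfl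
  have hι : LinearMap.ker ι = ⊥ := by
    have : LinearMap.ker (U.mkQ ∘ₗ M₂.subtype) = K' := by
      rw [LinearMap.ker_comp, Submodule.ker_mkQ]
    exact Submodule.ker_liftQ_eq_bot K' (U.mkQ ∘ₗ M₂.subtype) _ this.le
  obtain ⟨g, hg⟩ := LinearMap.exists_leftInverse_of_injective ι hι
  let φ : M →ₗ[k] k := ψbar ∘ₗ g ∘ₗ U.mkQ
  have hφU : U ≤ LinearMap.ker φ := by
    intro u hu
    rw [LinearMap.mem_ker]
    simp only [φ, LinearMap.comp_apply, Submodule.mkQ_apply]
    rw [(Submodule.Quotient.mk_eq_zero U).mpr hu, map_zero, map_zero]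
  have hφ2 : ∀ m : M₂, φ (m : M) = ψ m := by
    intro m
    have h1 : U.mkQ (m : M) = ι (K'.mkQ m) := by
      simp [ι, Submodule.mapQ_apply]
    simp only [φ, LinearMap.comp_apply]
    rw [h1]
    have h2 : g (ι (K'.mkQ m)) = K'.mkQ m := by
      have := congrArg (fun F => F (K'.mkQ m)) hg
      simpa using this
    rw [h2]
    simp [ψbar]
  have hcont : Continuous φ := continuous_of_le_ker φ U hU hφU
  refine ⟨⟨φ, hcont⟩, ?_, hφ2⟩
  intro m hm
  have := hφ2 ⟨m, h₁₂ hm⟩
  rw [hψ ⟨m, h₁₂ hm⟩ hm] at this
  exact this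

end Groth.Agent.S18615
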