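import Groth.Statements.S18617
import Mathlib

set_option autoImplicit false
universe u
open LocRes

namespace Groth.Agent.S18617

/-- The published statement is that, for a complete separated linearly topologized commutative algebra K
over a field of characteristic zero, the separated de Rham complex of K tensored with the exterior
algebra on symbols α_1, ..., α_n maps quasi-isomorphically to the separated de Rham complex of the
iterated Laurent series ring K((t_1, ..., t_n)), α_i going to dlog t_i; this row is the case K = k
and n = 1, unpacked: over a field k of characteristic 0, a formal Laurent series f in k((t)) has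
term-by-term derivative zero if and only if it is the constant series on its coefficient of degree
0, and a Laurent series g is the derivative of some Laurent series if and only if its residue (the
coefficient of t⁻¹) vanishes; so H⁰ of the complex k((t)) → k((t)) dt is k and H¹ is the line
spanned by the class of dt/t, on which the residue is 1. -/
theorem result (k : Type u) [Field k] [CharZero k] :
    (∀ f : LaurentSeries k, LocRes.D k f = 0 ↔ f = HahnSeries.C (f.coeff 0)) ∧
      ∀ g : LaurentSeries k, (∃ f : LaurentSeries k, LocRes.D k f = g) ↔ LocRes.res k g = 0 := by
  have hcoeff : ∀ (f : LaurentSeries k) (n : ℤ),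
      (LocRes.D k f).coeff n = ((n + 1 : ℤ) : k) * f.coeff (n + 1) := by
    intro f n
    have := LocRes.derivative_coeff k f n
    rw [zsmul_eq_mul] at this
    exact this
  have hne : ∀ m : ℤ, m ≠ 0 → ((m : ℤ) : k) ≠ 0 := fun m hm => by exact_mod_cast hm
  constructor
  · intro f
    constructor
    · intro h
      ext m
      rw [HahnSeries.C_apply, HahnSeries.coeff_single]
      split_ifs with hm
      · rw [hm]
      · have := hcoeff f (m - 1)
        rw [h, HahnSeries.coeff_zero, sub_add_cancel] at this
        rcases mul_eq_zero.mp this.symm with h1 | h1
        · exact absurd h1 (hne m hm)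
        · exact h1
    · intro h
      ext n
      rw [hcoeff, HahnSeries.coeff_zero, h, HahnSeries.C_apply, HahnSeries.coeff_single]
      split_ifs with hn
      · rw [hn]; simp
      · rw [mul_zero]
  · intro g
    constructor
    · rintro ⟨f, rfl⟩
      rw [LocRes.res_apply, hcoeff]
      simp
    · intro hg
      rw [LocRes.res_apply] at hg
      have hpwo : (Function.support fun m : ℤ => g.coeff (m - 1) / ((m : ℤ) : k)).IsPWO := by
        refine Set.IsPWO.mono (g.isPWO_support.image_of_monotone
          (f := fun n : ℤ => n + 1) (fun a b hab => by simpa using hab)) ?_
        intro m hm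
        rw [Function.mem_support] at hm
        refine ⟨m - 1, ?_, by simp⟩
        rw [HahnSeries.mem_support]
        intro h0
        apply hm
        rw [h0, zero_div]
      refine ⟨⟨fun m : ℤ => g.coeff (m - 1) / ((m : ℤ) : k), hpwo⟩, ?_⟩
      ext n
      rw [hcoeff]
      show ((n + 1 : ℤ) : k) * (g.coeff (n + 1 - 1) / ((n + 1 : ℤ) : k)) = g.coeff n
      rw [add_sub_cancel_right]
      by_cases hn : n + 1 = 0
      · have : n = -1 := by omega
        subst this
        rw [hg]; simp
      · rw [mul_div_cancel₀ _ (hne _ hn)]

end Groth.Agent.S18617
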