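import Groth.Statements.S18635
import Groth.Agent.Lib.Helper6.BassAss

set_option autoImplicit false
universe u
open GrLC

namespace Groth.Agent.S18635

/-- Let R be a commutative Noetherian ℤ-graded ring and M a *injective graded R-module (an injective
object of the category of graded R-modules). Then M fails to be injective as an ordinary R-module —
equivalently, since a *injective graded module has ordinary injective dimension at most 1, its
ordinary injective dimension is exactly 1 — if and only if there is a prime ideal p of R which is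
not graded and whose graded core p* (the largest graded ideal contained in p, itself a prime) is an
associated prime of M. -/
theorem result (R : Type u) [CommRing R] [IsNoetherianRing R] (𝒜 : ℤ → AddSubgroup R) [GradedRing 𝒜] (M : Type u) [AddCommGroup M] [Module R M] (ℳ : ℤ → AddSubgroup M) [DirectSum.Decomposition ℳ] [SetLike.GradedSMul 𝒜 ℳ] (hM : GrLC.IsStarInj 𝒜 ℳ) : ¬ Module.Injective R M ↔ ∃ p : Ideal R, p.IsPrime ∧ ¬ Ideal.IsHomogeneous 𝒜 p ∧ (Ideal.homogeneousCore 𝒜 p).toIdeal ∈ associatedPrimes R M := by
  constructor
  · intro hinj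
    by_contra hcon
    push Not at hcon
    apply hinj
    apply Groth.Agent.H6.BassGlobal.injective_of_bassNum
    intro P hP
    by_cases hph : P.IsHomogeneous 𝒜
    · exact Groth.Agent.H6.StarBass.bassNum_succ_eq_zero_of_isHomogeneous 𝒜 ℳ hM P hph 0
    · haveI : (Ideal.homogeneousCore 𝒜 P).toIdeal.IsPrime := Ideal.IsPrime.homogeneousCore hP
      rw [Groth.Agent.H6.StarBass.bassNum_succ_eq_core 𝒜 ℳ P hph 0]
      by_contra hne
      exact hcon P hP hph ((Groth.Agent.H6.BassGlobal.bassNum_zero_ne_zero_iff _ M).mp hne)
  · rintro ⟨p, hp, hph, hass⟩ hinj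
    haveI : (Ideal.homogeneousCore 𝒜 p).toIdeal.IsPrime := Ideal.IsPrime.homogeneousCore hp
    have h1 := Groth.Agent.H6.BassGlobal.bassNum_eq_zero_of_injective M p 0
    rw [zero_add, Groth.Agent.H6.StarBass.bassNum_succ_eq_core 𝒜 ℳ p hph 0] at h1
    exact (Groth.Agent.H6.BassGlobal.bassNum_zero_ne_zero_iff _ M).mpr hass h1

end Groth.Agent.S18635
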