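import Groth.Statements.S18636
import Groth.Agent.Lib.Helper6.GrBassStar

set_option autoImplicit false
universe u
open GrLC

namespace Groth.Agent.S18636

/-- Let R be a commutative Noetherian ℤ-graded ring, M a graded R-module (not necessarily finitely
generated) and p a prime ideal of R which is not graded; write p* for the largest graded ideal
contained in p (a graded prime). Then μ_0(p, M) = 0 and μ_{i+1}(p, M) = μ_i(p*, M) for every i ≥ 0.
(Bass numbers μ_i(q, M) are taken as the k(q)-dimension of Ext^i over R_q of k(q) into M_q, as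
extended natural numbers; the published text also recalls their description as multiplicities in a
minimal injective resolution, and the two agree over a Noetherian ring.) -/
theorem result (R : Type u) [CommRing R] [IsNoetherianRing R] (𝒜 : ℤ → AddSubgroup R) [GradedRing 𝒜] (M : Type u) [AddCommGroup M] [Module R M] (ℳ : ℤ → AddSubgroup M) [DirectSum.Decomposition ℳ] [SetLike.GradedSMul 𝒜 ℳ] (p : Ideal R) [p.IsPrime] (hp : ¬ Ideal.IsHomogeneous 𝒜 p) [(Ideal.homogeneousCore 𝒜 p).toIdeal.IsPrime] : GrLC.bassNum p M 0 = 0 ∧ ∀ i : ℕ, GrLC.bassNum p M (i + 1) = GrLC.bassNum (Ideal.homogeneousCore 𝒜 p).toIdeal M i := by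
  have hq : (Ideal.homogeneousCore 𝒜 p).toIdeal.IsHomogeneous 𝒜 := (Ideal.homogeneousCore 𝒜 p).isHomogeneous
  have hqle : (Ideal.homogeneousCore 𝒜 p).toIdeal ≤ p := Ideal.toIdeal_homogeneousCore_le 𝒜 p
  have hhom : ∀ s : R, (∃ d, s ∈ 𝒜 d) → s ∈ p → s ∈ (Ideal.homogeneousCore 𝒜 p).toIdeal :=
    fun s hs hsp => Ideal.mem_homogeneousCore_of_homogeneous_of_mem hs hsp
  have hne : ∃ x ∈ p, x ∉ (Ideal.homogeneousCore 𝒜 p).toIdeal := by
    by_contra hcon
    push Not at hcon
    apply hp
    have : (Ideal.homogeneousCore 𝒜 p).toIdeal = p := le_antisymm hqle hcon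
    rw [← this]
    exact hq
  exact ⟨Groth.Agent.H6.BassStar.bassNum_zero 𝒜 ℳ _ hq p hqle hhom hne,
    Groth.Agent.H6.BassStar.bassNum_succ 𝒜 ℳ _ hq p hqle hhom hne⟩

end Groth.Agent.S18636
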