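import Groth.Statements.S18639
import Groth.Agent.Lib.Helper6.GrCanLoc
import Groth.Agent.Lib.Helper6.GrDim
import Groth.Agent.Lib.Helper6.GrMaxHull
import Groth.Agent.Lib.Helper6.GrLCCompare
import Groth.Agent.Lib.Helper6.GrInjDim
import Groth.Agent.Lib.Helper6.CanInj

set_option autoImplicit false
universe u
open GrLC

namespace Groth.Agent.S18639

/-- Let R be a graded ring defined over a field which is Cohen–Macaulay, with graded maximal ideal m and
canonical module K_R. Then (i) K_R is a Cohen–Macaulay R-module — stated here at m: the localisation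
of K_R at m is a Cohen–Macaulay module over R_m, which is what the published proof computes (the Ext
groups of the residue field into K_R vanish outside degree n = dim R) — and (ii) K_R has finite
injective dimension as an R-module. Here 'graded ring defined over a field' means R = ⊕_{n ≥ 0} R_n
is Noetherian with R_0 a field (so R is finitely generated over R_0), m = R_+ is its unique graded
maximal ideal and n = dim R; the canonical module K_R (the graded dual of H^n_m(R)) is represented
by a finitely generated graded module C together with a homogeneous isomorphism from Hom_R(C, E)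
onto H^n_m(R), where E is a *injective envelope of R/m and H^n_m(R) is computed from a *injective
resolution of R in the graded category; by graded Matlis duality this says exactly that C ≅ K_R as
graded modules. -/
theorem result (R : Type u) [CommRing R] [LocCoh.IsCohenMacaulayRing R] (𝒜 : ℤ → AddSubgroup R) [GradedRing 𝒜] (hpos : ∀ n : ℤ, n < 0 → 𝒜 n = ⊥) (h0 : IsField (GrLC.deg0 𝒜)) (m : HomogeneousIdeal 𝒜) (hm : GrLC.IsStarLocal 𝒜 m) (hmsp : m.toIdeal = Ideal.span (⋃ n ∈ Set.Ioi (0 : ℤ), (𝒜 n : Set R))) [m.toIdeal.IsMaximal] (n : ℕ) (hn : ringKrullDim R = n) (I : GrLC.StarInjRes 𝒜 𝒜) (E' : Type u) [AddCommGroup E'] [Module R E'] (𝓔 : ℤ → AddSubgroup E') [DirectSum.Decomposition 𝓔] [SetLike.GradedSMul 𝒜 𝓔] (e : (R ⧸ m.toIdeal) →ₗ[R] E') (he : GrLC.IsStarInjHull 𝒜 (GrLC.quotGr 𝒜 m) 𝓔 e) (C : Type u) [AddCommGroup C] [Module R C] (𝒞 : ℤ → AddSubgroup C) [DirectSum.Decomposition 𝒞] [SetLike.GradedSMul 𝒜 𝒞] (hC : GrLC.IsStarCanonical 𝒜 𝒞 𝓔 m n I) : LocCoh.IsCohenMacaulayModule (Localization.AtPrime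 m.toIdeal) (LocalizedModule m.toIdeal.primeCompl C) ∧ ∃ N : ℕ, CategoryTheory.HasInjectiveDimensionLT (ModuleCat.of R C) N := by
  have hf₀ := Groth.Agent.H6.Gr.isInjectiveHull_of_starInjHull_maximal 𝒜 m 𝓔 he
  obtain ⟨hfin, φ, -⟩ := hC
  obtain ⟨ψ⟩ := Groth.Agent.H6.Gr.nonempty_H_equiv 𝒜 𝒜 I m n
  have hht := Groth.Agent.H6.Gr.height_irrelevant 𝒜 hpos h0 m.toIdeal hmsp n hn
  haveI : LocCoh.IsCohenMacaulayLocalRing (Localization.AtPrime m.toIdeal) :=
    LocCoh.IsCohenMacaulayRing.isCohenMacaulayLocalRing_localization m.toIdeal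
  have hnA : ringKrullDim (Localization.AtPrime m.toIdeal) = (n : WithBot ℕ∞) := by
    rw [IsLocalization.AtPrime.ringKrullDim_eq_height m.toIdeal (Localization.AtPrime m.toIdeal), hht]
    rfl
  obtain ⟨f, hf⟩ := Groth.Agent.H6.CanLoc.exists_hull_loc m.toIdeal e hf₀
  obtain ⟨eK⟩ := Groth.Agent.H6.CanLoc.nonempty_eK m.toIdeal C n (φ.trans ψ)
  haveI : Module.Finite (Localization.AtPrime m.toIdeal) (LocalizedModule m.toIdeal.primeCompl C) :=
    Module.Finite.of_isLocalizedModule m.toIdeal.primeCompl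
      (LocalizedModule.mkLinearMap m.toIdeal.primeCompl C)
  obtain ⟨h1, -, h3, -⟩ := Groth.Agent.H6.Can.can_injdim_cm n hnA _ _ f hf eK
  refine ⟨h3, n + 2, ?_⟩
  exact Groth.Agent.H6.GrInjDim.hasInjectiveDimensionLT_of_star 𝒜 𝒞 m.toIdeal
    (fun P hP hne => Groth.Agent.H6.Gr.le_irrelevant 𝒜 hpos h0 m.toIdeal hmsp P hP hne) n h1

end Groth.Agent.S18639
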