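import Groth.Statements.S18650
import Groth.Agent.Lib.Helper6.GrGorInj
import Groth.Agent.Lib.Helper6.GrShiftRes
import Groth.Agent.S13244
open Groth.Agent.H6

set_option autoImplicit false
universe u
open GrLC

namespace Groth.Agent.S18650

/-- The case M = R of the published statement. Let R be a commutative Noetherian ℤ-graded ring which is
H-local, i.e. has a unique maximal graded ideal m, and which is Cohen–Macaulay, with ht m = n. Then
R is a Gorenstein ring if and only if the graded local cohomology module H^n_m(R) is an injective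
object of the category of graded R-modules. Here H^n_m(R) is computed from a *injective resolution I
of R in the graded category, and its *injectivity is expressed as the existence of a *injective
graded R-module X and an R-linear isomorphism H^n_m(R) ≅ X preserving degrees. (The published item
is stated for a Cohen–Macaulay graded module M and the notion of Gorenstein module; this row is its
case M = R.) -/
theorem result (R : Type u) [CommRing R] [LocCoh.IsCohenMacaulayRing R] (𝒜 : ℤ → AddSubgroup R) [GradedRing 𝒜] (m : HomogeneousIdeal 𝒜) (hm : GrLC.IsStarLocal 𝒜 m) (n : ℕ) (hn : m.toIdeal.height = n) (I : GrLC.StarInjRes 𝒜 𝒜) : LocCoh.IsGorensteinRing R ↔ ∃ (X : GrLC.GMod.{u} 𝒜) (φ : I.H m n ≃ₗ[R] X.carrier), GrLC.IsStarInj 𝒜 X.gr ∧ GrLC.IsGrHom (I.Hgr m n) X.gr φ.toLinearMap := by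
  constructor
  · intro hG
    haveI := hG
    have hker : (LinearMap.ker (Submodule.mkQ m.toIdeal)).IsHomogeneous 𝒜 := by
      rw [Submodule.ker_mkQ]
      exact m.isHomogeneous
    let Qm : GrLC.GMod.{u} 𝒜 := Gr.GMod.ofQuot 𝒜 𝒜 (q := Submodule.mkQ m.toIdeal)
      (Submodule.mkQ_surjective _) hker
    obtain ⟨Em, e0, he0⟩ := Gr.exists_starInjHull 𝒜 Qm.gr
    let e : (R ⧸ m.toIdeal) →ₗ[R] Em.carrier := e0
    have he : GrLC.IsStarInjHull 𝒜 (GrLC.quotGr 𝒜 m) Em.gr e := by
      refine ⟨⟨he0.injective, ?_, he0.essential⟩, he0.starInj⟩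
      rintro g _ ⟨r, hr, rfl⟩
      exact he0.grHom g _ ⟨r, hr, rfl⟩
    obtain ⟨g, φ, hφ⟩ := Groth.Agent.S13244.result R 𝒜 m hm n hn I Em.carrier Em.gr e he
    refine ⟨Gr.GMod.ofShift 𝒜 Em.gr (-g), φ, Gr.shift_starInj Em.gr he.starInj (-g), ?_⟩
    intro k h hh
    have := hφ k h hh
    change φ h ∈ Em.gr (k - -g)
    rwa [sub_neg_eq_add]
  · rintro ⟨X, φ, hX, -⟩
    obtain ⟨ψ⟩ := Gr.nonempty_H_equiv 𝒜 𝒜 I m n
    exact GorInj.gorenstein_of_top_starInj 𝒜 m hm n hn X.gr hX (φ.symm.trans ψ)

end Groth.Agent.S18650
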