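import Groth.Statements.S1867
import Mathlib
import Groth.Agent.Lib.Helper1.AlgFibFin

set_option autoImplicit false
universe u
open CategoryTheory AlgebraicGeometry
open Cyc

namespace Groth.Agent.S1867

/-- Let f : X → Y be a proper morphism of integral schemes with Y locally Noetherian, mapping the
generic point to the generic point with finite extension of function fields, and let ξ be a point of
Y whose local ring has dimension 1. Then f is finite over some open neighbourhood of ξ. -/
theorem result (X Y : Scheme.{u}) [IsIntegral X] [IsIntegral Y] [IsLocallyNoetherian Y] (f : X ⟶ Y) [IsProper f] (hgen : f (genericPoint X) = genericPoint Y) (hfin : (f.residueFieldMap (genericPoint X)).hom.Finite) (ξ : Y) (hξ : ringKrullDim (Y.presheaf.stalk ξ) = 1) : ∃ V : Y.Opens, ξ ∈ V ∧ IsFinite (f ∣_ V) := by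
  apply exists_isFinite_morphismRestrict_of_finite_preimage_singleton f ξ
  apply Groth.Agent.H1.AlgFibFin.finite_preimage_singleton_of_resTrdeg_eq_zero
  intro x hx
  have hη0 : Dual3.resTrdeg f (genericPoint X) = 0 := by
    unfold Dual3.resTrdeg
    letI := (f.residueFieldMap (genericPoint X)).hom.toAlgebra
    haveI : Module.Finite (Y.residueField (f (genericPoint X))) (X.residueField (genericPoint X)) :=
      hfin
    haveI : Algebra.IsAlgebraic (Y.residueField (f (genericPoint X)))
        (X.residueField (genericPoint X)) := Algebra.IsAlgebraic.of_finite _ _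
    exact trdeg_eq_zero
  have hE : ∀ ζ : X, ζ ⤳ x → ringKrullDim (X.presheaf.stalk ζ) = 0 →
      Dual3.resTrdeg f ζ ≤ 0 := by
    intro ζ hζ hdim
    have h1 : genericPoint X = ζ :=
      Groth.Agent.H1.DimIneq.eq_of_specializes_of_stalk_dim_eq_zero ζ (genericPoint X) hdim
        ((genericPoint_spec X).specializes trivial)
    rw [← h1, hη0]
  have h1 := Groth.Agent.H1.DimIneq.stalk_dim_add_resTrdeg_le f x 0 hE
  rw [hx, hξ] at h1
  have hx1 : (1 : WithBot ℕ∞) ≤ ringKrullDim (X.presheaf.stalk x) := by
    by_contra hlt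
    have h0 : ringKrullDim (X.presheaf.stalk x) = 0 := by
      have hnn : (0 : WithBot ℕ∞) ≤ ringKrullDim (X.presheaf.stalk x) :=
        ringKrullDim_nonneg_of_nontrivial
      obtain ⟨e, he⟩ := WithBot.ne_bot_iff_exists.1 (ne_bot_of_le_ne_bot (by simp) hnn)
      rw [← he] at hlt hnn ⊢
      have h2 : ¬ (1 : ℕ∞) ≤ e := fun h => hlt (by exact_mod_cast h)
      have h3 : e = 0 := by
        rw [Order.one_le_iff_ne_zero] at h2
        push Not at h2
        exact h2
      rw [h3]; rfl
    have h2 : genericPoint X = x :=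
      Groth.Agent.H1.DimIneq.eq_of_specializes_of_stalk_dim_eq_zero x (genericPoint X) h0
        ((genericPoint_spec X).specializes trivial)
    rw [← h2, hgen] at hx
    have h3 : ∀ y : Y, y = genericPoint Y → ringKrullDim (Y.presheaf.stalk y) = 0 := by
      intro y hy
      apply Groth.Agent.H1.DimFormula.ringKrullDim_stalk_eq_zero y
      intro z hz
      subst hy
      exact (hz.antisymm ((genericPoint_spec Y).specializes trivial)).eq
    have h4 := h3 ξ hx.symm
    rw [hξ] at h4
    exact absurd h4 (by decide)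
  rw [← Cardinal.toENat_eq_zero]
  obtain ⟨e, he⟩ := WithBot.ne_bot_iff_exists.1 (ne_bot_of_le_ne_bot (by simp) hx1)
  rw [← he] at h1 hx1
  have h1' : e + Cardinal.toENat (Dual3.resTrdeg f x) ≤ 1 + Cardinal.toENat (0 : Cardinal.{u}) := by
    exact_mod_cast h1
  have hx1' : (1 : ℕ∞) ≤ e := by exact_mod_cast hx1
  rw [map_zero, add_zero] at h1'
  by_contra hne
  have h4 : (1 : ℕ∞) ≤ Cardinal.toENat (Dual3.resTrdeg f x) := Order.one_le_iff_ne_zero.2 hne
  have h5 : (1 : ℕ∞) + 1 ≤ 1 := (add_le_add hx1' h4).trans h1'
  exact absurd h5 (by decide)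

end Groth.Agent.S1867
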