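import Groth.Statements.S18672
import Mathlib

set_option autoImplicit false
universe u
open GrLC

namespace Groth.Agent.S18672


section helpers
variable {R : Type*} [CommRing R] (𝒜 : ℤ → AddSubgroup R) [GradedRing 𝒜]

/-- products of a degree `m` element with a degree `n` element -/
def prodSet (m n : ℤ) : Set R := {z | ∃ x ∈ 𝒜 m, ∃ y ∈ 𝒜 n, z = x * y}

theorem claimA (hstd : Ideal.span (⋃ n ∈ Set.Ioi (0 : ℤ), (𝒜 n : Set R)) =
      Ideal.span ((𝒜 1 : AddSubgroup R) : Set R)) (n : ℤ) (hn : 0 ≤ n) (x : R) (hx : x ∈ 𝒜 (n + 1)) :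
    x ∈ AddSubgroup.closure (prodSet 𝒜 n 1) := by
  have hx1 : x ∈ Ideal.span ((𝒜 1 : AddSubgroup R) : Set R) := by
    rw [← hstd]
    apply Ideal.subset_span
    simp only [Set.mem_iUnion, Set.mem_Ioi, SetLike.mem_coe]
    exact ⟨n + 1, by omega, hx⟩
  obtain ⟨c, hc, hsum⟩ := Submodule.mem_span_set.mp hx1
  have hproj : x = (DirectSum.decompose 𝒜 x (n + 1) : R) := by
    rw [DirectSum.decompose_of_mem_same 𝒜 hx]
  rw [hproj, ← hsum]
  rw [Finsupp.sum, DirectSum.decompose_sum, DFinsupp.finsetSum_apply, AddSubgroup.val_finsetSum]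
  refine AddSubgroup.sum_mem _ fun y hy => ?_
  have hy1 : y ∈ 𝒜 1 := hc hy
  rw [smul_eq_mul, DirectSum.coe_decompose_mul_add_of_right_mem 𝒜 hy1]
  exact AddSubgroup.subset_closure ⟨_, SetLike.coe_mem _, y, hy1, rfl⟩

theorem claimB (hstd : Ideal.span (⋃ n ∈ Set.Ioi (0 : ℤ), (𝒜 n : Set R)) =
      Ideal.span ((𝒜 1 : AddSubgroup R) : Set R)) (N : ℤ) (hN : 0 ≤ N) :
    ∀ (K : ℕ) (x : R), x ∈ 𝒜 (N + K) → x ∈ AddSubgroup.closure (prodSet 𝒜 K N) := by
  intro K
  induction K with
  | zero =>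
    intro x hx
    rw [Nat.cast_zero, add_zero] at hx
    have h1 : (1 : R) ∈ 𝒜 ((0 : ℕ) : ℤ) := by
      rw [Nat.cast_zero]; exact SetLike.one_mem_graded 𝒜
    exact AddSubgroup.subset_closure ⟨1, h1, x, hx, (one_mul x).symm⟩
  | succ K ih =>
    intro x hx
    have hx' : x ∈ 𝒜 ((N + K) + 1) := by
      have : N + ((K + 1 : ℕ) : ℤ) = (N + K) + 1 := by push_cast; ring
      rw [← this]; exact hx
    have h1 := claimA 𝒜 hstd (N + K) (by positivity) x hx'
    refine AddSubgroup.closure_induction (p := fun z _ => z ∈ AddSubgroup.closure (prodSet 𝒜 ((K + 1 : ℕ) : ℤ) N))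
      ?_ ?_ ?_ ?_ h1
    · rintro z ⟨r, hr, y, hy, rfl⟩
      have h2 := ih r hr
      refine AddSubgroup.closure_induction (p := fun w _ => w * y ∈ AddSubgroup.closure (prodSet 𝒜 ((K + 1 : ℕ) : ℤ) N))
        ?_ ?_ ?_ ?_ h2
      · rintro w ⟨x', hx', y', hy', rfl⟩
        refine AddSubgroup.subset_closure ⟨x' * y, ?_, y', hy', by ring⟩
        have : ((K + 1 : ℕ) : ℤ) = K + 1 := by push_cast; ring
        rw [this]
        exact SetLike.GradedMul.mul_mem hx' hy
      · simp
      · intro u v _ _ hu hv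
        rw [add_mul]; exact AddSubgroup.add_mem _ hu hv
      · intro u _ hu
        rw [neg_mul]; exact AddSubgroup.neg_mem _ hu
    · exact AddSubgroup.zero_mem _
    · intro u v _ _ hu hv; exact AddSubgroup.add_mem _ hu hv
    · intro u _ hu; exact AddSubgroup.neg_mem _ hu

end helpers

/-- Let R be a graded ring defined over a field k = R_0 which is Cohen–Macaulay and generated over k by
R_1 (the standing hypotheses of this section; only generation in degree one is used), q ≥ 1, R' =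
R^(q), and a an integer. Then the Veronese submodule [R(a)]^(q) = ⊕_j R_{a+jq} is generated over R'
by its piece R(a)_n = R_{a+n}, where n is the smallest multiple of q with n + a ≥ 0. Here 'graded
ring defined over a field' means R = ⊕_{n ≥ 0} R_n is Noetherian with R_0 a field, and m = R_+ is
its unique graded maximal ideal. The Veronese subring R^(q) = ⊕_j R_{jq}, regraded by (R^(q))_j =
R_{jq}, is presented abstractly as a ℤ-graded ring R' with an injective ring homomorphism φ : R' → R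
carrying R'_j onto R_{jq} for every j. The module [R(a)]^(q) is presented as a graded R'-module M'
with an injective additive map g : M' → R, semilinear over φ, carrying M'_j onto R_{a+jq} for every
j; with n = j₀q, the conclusion is that the R'-span of M'_{j₀} is all of M'. -/
theorem result (R : Type u) [CommRing R] [LocCoh.IsCohenMacaulayRing R] (𝒜 : ℤ → AddSubgroup R) [GradedRing 𝒜] (hpos : ∀ n : ℤ, n < 0 → 𝒜 n = ⊥) (h0 : IsField (GrLC.deg0 𝒜)) (hstd : Ideal.span (⋃ n ∈ Set.Ioi (0 : ℤ), (𝒜 n : Set R)) = Ideal.span ((𝒜 1 : AddSubgroup R) : Set R)) (q : ℕ) (hq : 0 < q) (R' : Type u) [CommRing R'] (𝒜' : ℤ → AddSubgroup R') [GradedRing 𝒜'] (φ : R' →+* R) (hφ : Function.Injective φ) (hdeg : ∀ j : ℤ, (𝒜' j).map (φ : R' →+ R) = 𝒜 (j * q)) (a : ℤ) (M' : Type u) [AddCommGroup M'] [Module R' M'] (ℳ' : ℤ → AddSubgroup M') [DirectSum.Decomposition ℳ'] [SetLike.GradedSMul 𝒜' ℳ'] (g : M' →ₛₗ[φ] R) (hg : Function.Injective g) (hgdeg : ∀ j : ℤ, (ℳ' j).map (g : M' →+ R) = 𝒜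 (a + j * q)) (j₀ : ℤ) (hj₀ : 0 ≤ a + j₀ * q) (hj₀' : a + (j₀ - 1) * q < 0) : Submodule.span R' ((ℳ' j₀ : AddSubgroup M') : Set M') = ⊤ := by
  classical
  rw [eq_top_iff]
  intro m' _
  -- it suffices to treat homogeneous elements
  have hcomp : ∀ (j : ℤ) (m : M'), m ∈ ℳ' j →
      m ∈ Submodule.span R' ((ℳ' j₀ : AddSubgroup M') : Set M') := by
    intro j m hm
    have hgm : g m ∈ 𝒜 (a + j * q) := by
      rw [← hgdeg j]; exact ⟨m, hm, rfl⟩
    by_cases hj : j < j₀
    · -- the piece is zero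
      have hneg : a + j * (q : ℤ) < 0 := by
        have hq' : (0 : ℤ) < q := by exact_mod_cast hq
        have : j * (q : ℤ) ≤ (j₀ - 1) * q := by
          apply mul_le_mul_of_nonneg_right (by omega) hq'.le
        linarith
      rw [hpos _ hneg, AddSubgroup.mem_bot] at hgm
      have : m = 0 := hg (by rw [hgm, map_zero])
      rw [this]; exact Submodule.zero_mem _
    · push Not at hj
      obtain ⟨d, hd⟩ : ∃ d : ℕ, j - j₀ = d := ⟨(j - j₀).toNat, by rw [Int.toNat_of_nonneg (by omega)]⟩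
      have hdeg_eq : a + j * (q : ℤ) = (a + j₀ * q) + ((d * q : ℕ) : ℤ) := by
        have : j = j₀ + d := by omega
        rw [this]; push_cast; ring
      rw [hdeg_eq] at hgm
      have h1 := claimB 𝒜 hstd (a + j₀ * q) hj₀ (d * q) (g m) hgm
      -- every element of the closure is g of an element of the span
      have key : ∀ z ∈ AddSubgroup.closure (prodSet 𝒜 ((d * q : ℕ) : ℤ) (a + j₀ * q)),
          ∃ w ∈ Submodule.span R' ((ℳ' j₀ : AddSubgroup M') : Set M'), g w = z := by
        intro z hz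
        refine AddSubgroup.closure_induction (p := fun z _ =>
          ∃ w ∈ Submodule.span R' ((ℳ' j₀ : AddSubgroup M') : Set M'), g w = z) ?_ ?_ ?_ ?_ hz
        · rintro z ⟨x, hx, y, hy, rfl⟩
          have hx' : x ∈ (𝒜' (d : ℤ)).map (φ : R' →+ R) := by
            rw [hdeg]; push_cast at hx ⊢; exact hx
          obtain ⟨r', _, rfl⟩ := hx'
          rw [← hgdeg j₀] at hy
          obtain ⟨w, hw, rfl⟩ := hy
          refine ⟨r' • w, Submodule.smul_mem _ _ (Submodule.subset_span hw), ?_⟩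
          rw [map_smulₛₗ]; rfl
        · exact ⟨0, Submodule.zero_mem _, map_zero _⟩
        · rintro u v _ _ ⟨wu, hwu, rfl⟩ ⟨wv, hwv, rfl⟩
          exact ⟨wu + wv, Submodule.add_mem _ hwu hwv, map_add _ _ _⟩
        · rintro u _ ⟨wu, hwu, rfl⟩
          exact ⟨-wu, Submodule.neg_mem _ hwu, map_neg _ _⟩
      obtain ⟨w, hw, hgw⟩ := key _ h1
      have : m = w := hg hgw.symm
      rw [this]; exact hw
  rw [← DirectSum.sum_support_decompose ℳ' m']
  refine Submodule.sum_mem _ fun j _ => ?_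
  exact hcomp j _ (SetLike.coe_mem _)

end Groth.Agent.S18672
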