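import Groth.Statements.S1870
import Mathlib
import Groth.Agent.Lib.Helper1.Herbrand

set_option autoImplicit false
universe u v
open CycAlg

namespace Groth.Agent.S1870

/-- A morphism of (2,1)-periodic complexes, both with finite-length cohomology, whose kernel and
cokernel have finite length does not change the additive Herbrand quotient: e_R(M, φ, ψ) = e_R(M',
φ', ψ'). -/
theorem result {R : Type u} [CommRing R] {M M' : Type v} [AddCommGroup M] [Module R M] [AddCommGroup M'] [Module R M'] (φ ψ : M →ₗ[R] M) (φ' ψ' : M' →ₗ[R] M') (h : CycAlg.IsPeriodic φ ψ) (h' : CycAlg.IsPeriodic φ' ψ') (f : M →ₗ[R] M') (cφ : φ' ∘ₗ f = f ∘ₗ φ) (cψ : ψ' ∘ₗ f = f ∘ₗ ψ) (hfin : CycAlg.FinCoh R φ ψ) (hfin' : CycAlg.FinCoh R φ' ψ') (hker : Module.length R (LinearMap.ker f) < ⊤) (hcoker : Module.length R (M' ⧸ LinearMap.range f) < ⊤) : CycAlg.herbrand R φ ψ = CycAlg.herbrand R φ' ψ' := by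
  have eφ : ∀ x, φ' (f x) = f (φ x) := fun x => congrArg (fun l => l x) cφ
  have eψ : ∀ x, ψ' (f x) = f (ψ x) := fun x => congrArg (fun l => l x) cψ
  have p1 : ∀ x, φ (ψ x) = 0 := fun x => congrArg (fun l => l x) h.1
  have p2 : ∀ x, ψ (φ x) = 0 := fun x => congrArg (fun l => l x) h.2
  have p1' : ∀ x, φ' (ψ' x) = 0 := fun x => congrArg (fun l => l x) h'.1
  have p2' : ∀ x, ψ' (φ' x) = 0 := fun x => congrArg (fun l => l x) h'.2
  -- kernel complex
  let φK : LinearMap.ker f →ₗ[R] LinearMap.ker f :=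
    φ.restrict (p := LinearMap.ker f) (q := LinearMap.ker f) (fun x hx => by
      rw [LinearMap.mem_ker] at hx ⊢; rw [← eφ, hx, map_zero])
  let ψK : LinearMap.ker f →ₗ[R] LinearMap.ker f :=
    ψ.restrict (p := LinearMap.ker f) (q := LinearMap.ker f) (fun x hx => by
      rw [LinearMap.mem_ker] at hx ⊢; rw [← eψ, hx, map_zero])
  have hK : CycAlg.IsPeriodic φK ψK := by
    constructor
    · ext x; exact p1 x
    · ext x; exact p2 x
  -- image complex
  let φI : LinearMap.range f →ₗ[R] LinearMap.range f :=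
    φ'.restrict (p := LinearMap.range f) (q := LinearMap.range f) (by
      rintro _ ⟨x, rfl⟩; exact ⟨φ x, (eφ x).symm⟩)
  let ψI : LinearMap.range f →ₗ[R] LinearMap.range f :=
    ψ'.restrict (p := LinearMap.range f) (q := LinearMap.range f) (by
      rintro _ ⟨x, rfl⟩; exact ⟨ψ x, (eψ x).symm⟩)
  have hI : CycAlg.IsPeriodic φI ψI := by
    constructor
    · ext x; exact p1' x
    · ext x; exact p2' x
  -- cokernel complex
  let φC : (M' ⧸ LinearMap.range f) →ₗ[R] (M' ⧸ LinearMap.range f) :=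
    Submodule.mapQ _ _ φ' (by rintro _ ⟨x, rfl⟩; exact ⟨φ x, (eφ x).symm⟩)
  let ψC : (M' ⧸ LinearMap.range f) →ₗ[R] (M' ⧸ LinearMap.range f) :=
    Submodule.mapQ _ _ ψ' (by rintro _ ⟨x, rfl⟩; exact ⟨ψ x, (eψ x).symm⟩)
  have hC : CycAlg.IsPeriodic φC ψC := by
    constructor
    · ext x
      change Submodule.Quotient.mk (φ' (ψ' x)) = 0
      rw [p1']; rfl
    · ext x
      change Submodule.Quotient.mk (ψ' (φ' x)) = 0
      rw [p2']; rfl
  obtain ⟨fK, eK⟩ := Groth.Agent.H1.Herbrand.herbrand_eq_zero_of_length_lt_top φK ψK hK hker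
  obtain ⟨fC, eC⟩ := Groth.Agent.H1.Herbrand.herbrand_eq_zero_of_length_lt_top φC ψC hC hcoker
  -- first SES: 0 → K → M → I → 0
  have s1 := Groth.Agent.H1.Herbrand.herbrand_shortExact (φ₁ := φK) (ψ₁ := ψK) (φ₂ := φ) (ψ₂ := ψ)
    (φ₃ := φI) (ψ₃ := ψI) (f₁ := (LinearMap.ker f).subtype) (g₁ := (LinearMap.ker f).subtype)
    (f₂ := f.rangeRestrict) (g₂ := f.rangeRestrict) h
    (by ext x; rfl) (by ext x; rfl)
    (by ext x; exact eφ x) (by ext x; exact eψ x)
    (Submodule.injective_subtype _) (Submodule.injective_subtype _)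
    f.surjective_rangeRestrict f.surjective_rangeRestrict
    (by rw [Submodule.range_subtype, LinearMap.ker_rangeRestrict])
    (by rw [Submodule.range_subtype, LinearMap.ker_rangeRestrict])
    (Or.inl ⟨fK, hfin⟩)
  obtain ⟨-, -, fI, e1⟩ := s1
  -- second SES: 0 → I → M' → C → 0
  have s2 := Groth.Agent.H1.Herbrand.herbrand_shortExact (φ₁ := φI) (ψ₁ := ψI) (φ₂ := φ') (ψ₂ := ψ')
    (φ₃ := φC) (ψ₃ := ψC) (f₁ := (LinearMap.range f).subtype) (g₁ := (LinearMap.range f).subtype)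
    (f₂ := (LinearMap.range f).mkQ) (g₂ := (LinearMap.range f).mkQ) h'
    (by ext x; rfl) (by ext x; rfl)
    (by ext x; rfl) (by ext x; rfl)
    (Submodule.injective_subtype _) (Submodule.injective_subtype _)
    (Submodule.mkQ_surjective _) (Submodule.mkQ_surjective _)
    (by rw [Submodule.range_subtype, Submodule.ker_mkQ])
    (by rw [Submodule.range_subtype, Submodule.ker_mkQ])
    (Or.inl ⟨fI, hfin'⟩)
  obtain ⟨-, -, -, e2⟩ := s2
  rw [e1, e2, eK, eC, zero_add, add_zero]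

end Groth.Agent.S1870
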