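import Groth.Statements.S18701
import Groth.Agent.Lib.Helper6.SkKit

set_option autoImplicit false
universe u
open QGor

namespace Groth.Agent.S18701

/-- Affine form. Let A be a Noetherian ring and G the kernel of a linear map u : E⁰ → E¹ of finite
A-modules. If E⁰ has (S_1) then G has (S_1). If Supp G ⊆ Supp E¹, E¹ has (S_1) and E⁰ has (S_2),
then G has (S_2). -/
theorem result (A : Type u) [CommRing A] [IsNoetherianRing A]
    (E0 E1 : Type u) [AddCommGroup E0] [Module A E0] [Module.Finite A E0] [AddCommGroup E1] [Module A E1]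
    [Module.Finite A E1] (u : E0 →ₗ[A] E1) :
    (LocCoh.HasSk 1 A E0 → LocCoh.HasSk 1 A (LinearMap.ker u)) ∧
    (Module.support A (LinearMap.ker u) ⊆ Module.support A E1 → LocCoh.HasSk 1 A E1 → LocCoh.HasSk 2 A E0 →
      LocCoh.HasSk 2 A (LinearMap.ker u)) := by
  haveI : IsNoetherian A E0 := isNoetherian_of_isNoetherianRing_of_finite A E0
  haveI : Module.Finite A (LinearMap.ker u) := Module.Finite.of_fg (IsNoetherian.noetherian _)
  have hdim0 : ∀ (p : Ideal A) [p.IsPrime],
      Module.supportDim (Localization.AtPrime p) (LocalizedModule p.primeCompl (LinearMap.ker u)) ≤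
        Module.supportDim (Localization.AtPrime p) (LocalizedModule p.primeCompl E0) :=
    fun p _ => Groth.Agent.H6.Sk.supportDim_localized_le_of_injective (LinearMap.ker u).subtype
      (Submodule.injective_subtype _) p
  have h12 : ((1 : ℕ) : WithBot ℕ∞) ≤ ((2 : ℕ) : WithBot ℕ∞) := by exact_mod_cast one_le_two
  constructor
  · intro h0
    rw [Groth.Agent.H6.Sk.hasSk_iff] at h0 ⊢
    intro p _ j hj1 hj
    rcases Nat.le_one_iff_eq_zero_or_eq_one.mp hj1 with rfl | rfl
    · intro i hi
      omega
    · exact Groth.Agent.H6.Depth.locDepthGE_one_of_injective (LinearMap.ker u).subtype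
        (Submodule.injective_subtype _) p (h0 p 1 le_rfl (hj.trans (hdim0 p)))
  · intro hsupp h1 h0
    rw [Groth.Agent.H6.Sk.hasSk_iff] at h0 h1 ⊢
    intro p _ j hj2 hj
    have hdim1 := Groth.Agent.H6.Sk.supportDim_localized_le_of_support_subset hsupp p
    interval_cases j
    · intro i hi
      omega
    · exact Groth.Agent.H6.Depth.locDepthGE_one_of_injective (LinearMap.ker u).subtype
        (Submodule.injective_subtype _) p (h0 p 1 one_le_two (hj.trans (hdim0 p)))
    · exact Groth.Agent.H6.Depth.locDepthGE_two_ker u p (h0 p 2 le_rfl (hj.trans (hdim0 p)))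
        (h1 p 1 le_rfl ((h12.trans hj).trans hdim1))

end Groth.Agent.S18701
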