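import Groth.Statements.S18704
import Groth.Agent.Lib.Helper6.ReflLoc

set_option autoImplicit false
set_option linter.style.haveILetI false
universe u
open QGor

namespace Groth.Agent.S18704

/-- Affine form. Let A be a Noetherian ring with Serre's condition (S_2), I an ideal with ht I ≥ 2
(every prime containing I has height ≥ 2), and G a finite A-module with G_p reflexive for every
prime p not containing I. Then the following are equivalent: (i) G has (S_2) and dim Supp(G_p) ≥ 2
for every prime p ⊇ I in Supp G; (ii) depth_I G ≥ 2; (iii) G is reflexive. -/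
theorem result (A : Type u) [CommRing A] [IsNoetherianRing A]
    (hA : LocCoh.HasSk 2 A A) (I : Ideal A) (hI : 2 ≤ I.height)
    (G : Type u) [AddCommGroup G] [Module A G] [Module.Finite A G]
    (hU : ∀ p : PrimeSpectrum A, ¬ I ≤ p.asIdeal →
      Module.IsReflexive (Localization.AtPrime p.asIdeal) (LocalizedModule p.asIdeal.primeCompl G)) :
    ((LocCoh.HasSk 2 A G ∧ ∀ p : PrimeSpectrum A, I ≤ p.asIdeal → p ∈ Module.support A G →
        (2 : WithBot ℕ∞) ≤ Module.supportDim (Localization.AtPrime p.asIdeal) (LocalizedModule p.asIdeal.primeCompl G)) ↔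
      2 ≤ LocCoh.idealDepth I G) ∧
    (2 ≤ LocCoh.idealDepth I G ↔ Module.IsReflexive A G) := by
  have c1 : ∀ D : ℕ∞, (2 : WithBot ℕ∞) ≤ ((D : ℕ∞) : WithBot ℕ∞) ↔ (2 : ℕ∞) ≤ D := by
    intro D
    have : (2 : WithBot ℕ∞) = ((2 : ℕ∞) : WithBot ℕ∞) := rfl
    rw [this, WithBot.coe_le_coe]
  have c2 : ((2 : ℕ) : WithBot ℕ∞) = (2 : WithBot ℕ∞) := by norm_cast
  have hN : ∀ (p : Ideal A) [p.IsPrime], IsNoetherianRing (Localization.AtPrime p) := fun p _ =>
    IsLocalization.isNoetherianRing p.primeCompl _ inferInstance
  have hfin : ∀ (p : Ideal A) [p.IsPrime] (N : Type u) [AddCommGroup N] [Module A N]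
      [Module.Finite A N], Module.Finite (Localization.AtPrime p) (LocalizedModule p.primeCompl N) :=
    fun p _ N _ _ _ => Module.Finite.of_isLocalizedModule p.primeCompl
      (LocalizedModule.mkLinearMap p.primeCompl N)
  -- the localized ring as a localized module
  have heq : ∀ (p : Ideal A) [p.IsPrime],
      Nonempty (LocalizedModule p.primeCompl A ≃ₗ[Localization.AtPrime p] Localization.AtPrime p) :=
    fun p _ => ⟨(IsLocalizedModule.iso p.primeCompl
        (Algebra.linearMap A (Localization.AtPrime p))).extendScalarsOfIsLocalization p.primeCompl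
          (Localization.AtPrime p)⟩
  have hdepthA : ∀ (p : Ideal A) [p.IsPrime],
      LocCoh.depth (Localization.AtPrime p) (LocalizedModule p.primeCompl A) =
        LocCoh.depth (Localization.AtPrime p) (Localization.AtPrime p) := by
    intro p _
    haveI := hN p
    haveI := hfin p A
    obtain ⟨e⟩ := heq p
    exact Groth.Agent.H6.CM.idealDepth_eq_of_linearEquiv _ e
  have hdimA : ∀ (p : Ideal A) [p.IsPrime],
      Module.supportDim (Localization.AtPrime p) (LocalizedModule p.primeCompl A) =
        ((p.height : ℕ∞) : WithBot ℕ∞) := by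
    intro p _
    obtain ⟨e⟩ := heq p
    rw [Module.supportDim_eq_of_equiv e, Module.supportDim_self_eq_ringKrullDim,
      IsLocalization.AtPrime.ringKrullDim_eq_height p (Localization.AtPrime p)]
  -- depth of `A` along `I`
  have hIA : 2 ≤ LocCoh.idealDepth I A := by
    rw [Groth.Agent.H6.Depth.idealDepth_eq_iInf I A, le_iInf₂_iff]
    intro p hIp
    haveI := p.2
    have h1 := hA p.asIdeal
    rw [hdimA p.asIdeal, c2, min_eq_left] at h1
    · exact (c1 _).mp h1
    · exact (c1 _).mpr (hI.trans (Ideal.height_mono hIp))
  have hIA1 : 1 ≤ LocCoh.idealDepth I A := le_trans one_le_two hIA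
  refine ⟨⟨?_, ?_⟩, ⟨?_, ?_⟩⟩
  · rintro ⟨hS, hcodim⟩
    rw [Groth.Agent.H6.Depth.idealDepth_eq_iInf I G, le_iInf₂_iff]
    intro p hIp
    haveI := p.2
    by_cases hp : p ∈ Module.support A G
    · have h1 := hS p.asIdeal
      have h2 := hcodim p hIp hp
      rw [c2, min_eq_left h2] at h1
      exact (c1 _).mp h1
    · rw [Module.notMem_support_iff] at hp
      have : LocCoh.depth (Localization.AtPrime p.asIdeal)
          (LocalizedModule p.asIdeal.primeCompl G) = ⊤ := by
        unfold LocCoh.depth LocCoh.idealDepth
        rw [if_pos (Subsingleton.elim _ _)]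
      rw [this]
      exact le_top
  · intro hG
    have hle : ∀ p : PrimeSpectrum A, I ≤ p.asIdeal → 2 ≤ LocCoh.depth
        (Localization.AtPrime p.asIdeal) (LocalizedModule p.asIdeal.primeCompl G) := by
      intro p hIp
      rw [Groth.Agent.H6.Depth.idealDepth_eq_iInf I G, le_iInf₂_iff] at hG
      exact hG p hIp
    constructor
    · intro p hp
      by_cases hIp : I ≤ p
      · have h1 := hle ⟨p, hp⟩ hIp
        refine le_trans (min_le_left _ _) ?_
        rw [c2]
        exact (c1 _).mpr h1
      · haveI := hN p
        haveI := hfin p G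
        haveI := hU ⟨p, hp⟩ hIp
        have hr := Groth.Agent.H6.Refl.reflexive_depth_sk
          (IsLocalRing.maximalIdeal (Localization.AtPrime p)) (LocalizedModule p.primeCompl G)
        have hAp := hA p
        rw [hdepthA p, Groth.Agent.H6.Sk.min_le_coe_iff] at hAp
        rw [Groth.Agent.H6.Sk.min_le_coe_iff]
        intro j hj2 hjdim
        have hjA : (j : ℕ∞) ≤ LocCoh.depth (Localization.AtPrime p) (Localization.AtPrime p) := by
          apply hAp j hj2
          refine hjdim.trans ?_
          rw [hdimA p, ← IsLocalization.AtPrime.ringKrullDim_eq_height p (Localization.AtPrime p)]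
          exact Module.supportDim_le_ringKrullDim _ _
        interval_cases j
        · exact bot_le
        · exact_mod_cast hr.1 (by exact_mod_cast hjA)
        · exact_mod_cast hr.2.1 (by exact_mod_cast hjA)
    · intro p hIp hp
      haveI := p.2
      haveI := hN p.asIdeal
      haveI := hfin p.asIdeal G
      haveI : Nontrivial (LocalizedModule p.asIdeal.primeCompl G) := Module.mem_support_iff.mp hp
      obtain ⟨D, hD, hDle⟩ := Groth.Agent.H6.Depth.exists_depth_eq
        (R := Localization.AtPrime p.asIdeal) (LocalizedModule p.asIdeal.primeCompl G)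
      refine le_trans ?_ hDle
      have h1 := hle p hIp
      rw [hD] at h1
      exact (c1 _).mpr h1
  · intro hG
    exact Groth.Agent.H6.Refl.isReflexive_of_depth I hIA1 G hU hG
  · intro hG
    haveI := hG
    exact (Groth.Agent.H6.Refl.reflexive_depth_sk I G).2.1 hIA

end Groth.Agent.S18704
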