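import Groth.Statements.S18710
import Groth.Agent.Lib.Helper6.DepthKit
import Groth.Agent.Lib.Helper6.FlatDepth
import Groth.Agent.S11617

set_option autoImplicit false
universe u
open QGor

namespace Groth.Agent.S18710

open TensorProduct in
/-- Affine form. Let A → B be a flat homomorphism of Noetherian rings and I an ideal of A with V(I)
contained in the image of Spec B → Spec A (every prime containing I is a contraction of a prime of
B). Then ht(IB) = ht(I) (codimension of the preimage equals codimension), and for every finite
A-module G one has depth_{IB} (B ⊗_A G) = depth_I G. -/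
theorem result (A B : Type u) [CommRing A] [CommRing B]
    [IsNoetherianRing A] [IsNoetherianRing B] [Algebra A B] [Module.Flat A B] (I : Ideal A)
    (hI : ∀ p : PrimeSpectrum A, I ≤ p.asIdeal → ∃ q : PrimeSpectrum B, q.asIdeal.comap (algebraMap A B) = p.asIdeal)
    (G : Type u) [AddCommGroup G] [Module A G] [Module.Finite A G] :
    (I.map (algebraMap A B)).height = I.height ∧
    LocCoh.idealDepth (I.map (algebraMap A B)) (B ⊗[A] G) = LocCoh.idealDepth I G := by
  -- faithfulness on `I`-power torsion modules
  have hfaith : ∀ (N : Type u) [AddCommGroup N] [Module A N], LocCoh.IsPowerTorsion I N →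
      Subsingleton (B ⊗[A] N) → Subsingleton N := by
    intro N _ _ hpt hsub
    by_contra hN
    rw [not_subsingleton_iff_nontrivial] at hN
    obtain ⟨x, hx⟩ := exists_ne (0 : N)
    set J : Ideal A := LinearMap.ker (LinearMap.toSpanSingleton A N x) with hJ
    have hJne : J ≠ ⊤ := by
      intro htop
      have : (1 : A) ∈ J := by rw [htop]; trivial
      rw [hJ, LinearMap.mem_ker, LinearMap.toSpanSingleton_apply, one_smul] at this
      exact hx this
    obtain ⟨p, hpmax, hJp⟩ := Ideal.exists_le_maximal J hJne
    have hpprime : p.IsPrime := hpmax.isPrime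
    obtain ⟨n, hn⟩ := hpt x
    have hIp : I ≤ p := by
      apply hpprime.le_of_pow_le (n := n)
      intro a ha
      apply hJp
      rw [hJ, LinearMap.mem_ker, LinearMap.toSpanSingleton_apply]
      exact hn a ha
    obtain ⟨q, hq⟩ := hI ⟨p, hpprime⟩ hIp
    -- the injection `A/J → N`
    let ι : (A ⧸ J) →ₗ[A] N :=
      (LinearMap.range (LinearMap.toSpanSingleton A N x)).subtype.comp
        (LinearMap.quotKerEquivRange (LinearMap.toSpanSingleton A N x)).toLinearMap
    have hι : Function.Injective ι :=
      (Submodule.injective_subtype _).comp (LinearEquiv.injective _)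
    have hinj : Function.Injective (ι.lTensor B) :=
      Module.Flat.lTensor_preserves_injective_linearMap ι hι
    haveI : Subsingleton (B ⊗[A] (A ⧸ J)) := hinj.subsingleton
    have h1 : Subsingleton (B ⧸ (J • (⊤ : Submodule A B))) :=
      (TensorProduct.tensorQuotEquivQuotSMul B J).symm.toEquiv.subsingleton
    have h2 : (1 : B) ∈ J • (⊤ : Submodule A B) := by
      rw [← Submodule.Quotient.mk_eq_zero]
      exact Subsingleton.elim _ _
    rw [← H6.FlatDepth.mem_map_smul_top_iff (S := B) B, smul_eq_mul, Ideal.mul_top] at h2
    have h3 : J.map (algebraMap A B) ≤ q.asIdeal := by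
      rw [Ideal.map_le_iff_le_comap, hq]
      exact hJp
    exact q.2.ne_top ((Ideal.eq_top_iff_one _).mpr (h3 h2))
  haveI : Module.Finite B (B ⊗[A] G) := Module.Finite.base_change A B G
  have hiff : ∀ i : ℕ, Subsingleton (LocCoh.H I i G) ↔
      Subsingleton (LocCoh.H (I.map (algebraMap A B)) i (B ⊗[A] G)) := by
    intro i
    obtain ⟨e⟩ := Groth.Agent.S11617.result A B I G i
    constructor
    · intro h
      haveI : Subsingleton (B ⊗[A] LocCoh.H I i G) := by
        refine ⟨fun a b => ?_⟩
        have h0 : ∀ z : B ⊗[A] LocCoh.H I i G, z = 0 := by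
          intro z
          induction z using TensorProduct.induction_on with
          | zero => rfl
          | tmul b y => rw [Subsingleton.elim y 0, TensorProduct.tmul_zero]
          | add a b ha hb => rw [ha, hb, add_zero]
        rw [h0 a, h0 b]
      exact e.symm.toEquiv.subsingleton
    · intro h
      apply hfaith _ (H6.LC.isPowerTorsion I i (ModuleCat.of A G))
      exact e.toEquiv.subsingleton
  refine ⟨?_, ?_⟩
  · -- heights
    apply le_antisymm
    · by_cases htop : I.height = ⊤
      · rw [htop]; exact le_top
      obtain ⟨h, hh⟩ := ENat.ne_top_iff_exists.mp htop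
      obtain ⟨p, hp, hIp, hph⟩ := Ideal.exists_isPrime_height_eq hh.symm
      obtain ⟨q0, hq0⟩ := hI ⟨p, hp⟩ hIp
      have hpq0 : p.map (algebraMap A B) ≤ q0.asIdeal := by
        rw [Ideal.map_le_iff_le_comap, hq0]
      obtain ⟨q, hq, hqq0⟩ := Ideal.exists_minimalPrimes_le hpq0
      haveI hqprime : q.IsPrime := hq.1.1
      have hqc : q.comap (algebraMap A B) = p := by
        apply le_antisymm
        · have := Ideal.comap_mono (f := algebraMap A B) hqq0
          rw [hq0] at this
          exact this
        · rw [← Ideal.map_le_iff_le_comap]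
          exact hq.1.2
      haveI : q.LiesOver p := ⟨hqc.symm⟩
      have hform := Ideal.height_eq_height_add_of_liesOver_of_hasGoingDown p q
      have hzero : (q.map (Ideal.Quotient.mk (p.map (algebraMap A B)))).height = 0 := by
        rw [Ideal.minimalPrimes_eq_comap] at hq
        obtain ⟨Q', hQ', rfl⟩ := hq
        rw [Ideal.map_comap_of_surjective _ Ideal.Quotient.mk_surjective]
        haveI : Q'.IsPrime := hQ'.1.1
        exact Ideal.height_eq_zero_iff.mpr hQ'
      rw [hzero, add_zero] at hform
      calc (I.map (algebraMap A B)).height ≤ q.height :=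
            Ideal.height_mono ((Ideal.map_mono hIp).trans hq.1.2)
        _ = p.height := hform
        _ = I.height := by rw [hph, hh]
    · -- every prime over `IB` has height at least `ht I`
      rw [Ideal.height_eq_inf_minimalPrimes (I.map (algebraMap A B))]
      apply le_iInf₂
      intro q hq
      haveI hqprime : q.IsPrime := hq.1.1
      haveI : q.LiesOver (q.comap (algebraMap A B)) := ⟨rfl⟩
      have hform := Ideal.height_eq_height_add_of_liesOver_of_hasGoingDown
        (q.comap (algebraMap A B)) q
      have h1 : I ≤ q.comap (algebraMap A B) := by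
        rw [← Ideal.map_le_iff_le_comap]
        exact hq.1.2
      rw [hform]
      exact (Ideal.height_mono h1).trans le_self_add
  · apply le_antisymm
    · apply H6.Depth.idealDepth_le_of_forall
      intro n hn i hi
      exact (hiff i).mpr (hn i hi)
    · apply H6.Depth.idealDepth_le_of_forall
      intro n hn i hi
      exact (hiff i).mp (hn i hi)

end Groth.Agent.S18710
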