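import Groth.Statements.S18757
import Groth.Agent.Lib.Helper9.Misc.FIN1
import Groth.Agent.Lib.Helper9.Misc.FIN2
import Groth.Agent.Lib.Helper9.Misc.MDP4

set_option autoImplicit false
universe u
open CategoryTheory CategoryTheory.Limits AlgebraicGeometry TopologicalSpace
open ModPair

namespace Groth.Agent.S18757

/-- Let S be a modulus pair whose total space is quasi-compact and quasi-separated, (X_i ⟶ S) a
cofiltered system of modulus pairs over S whose transition morphisms have affine, minimal underlying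
morphisms, with every X_i quasi-compact and quasi-separated, and X ⟶ S a limit of the system in the
category of modulus pairs over S, X quasi-compact and quasi-separated. Let Y ⟶ S be a modulus pair
over S whose structure morphism is locally of finite type, Y quasi-compact and quasi-separated, and
assume either that all transition morphisms are scheme-theoretically dominant or that Y ⟶ S is
locally of finite presentation. Let Q be the localization functor at the abstract admissible
blow-ups. Then the colimit of the sets of morphisms Q X_i ⟶ Q Y over Q S maps bijectively to the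
morphisms Q X ⟶ Q Y over Q S: every such morphism factors through Q X ⟶ Q X_i for some i, and two
morphisms Q X_i ⟶ Q Y over Q S with the same composite Q X ⟶ Q Y agree after Q X_j ⟶ Q X_i for some
j. -/
theorem result (S : ModPair.Pair.{u})
    [CompactSpace S.total] [QuasiSeparatedSpace S.total]
    {I : Type u} [SmallCategory I] [IsCofiltered I] (D : I ⥤ Over S) (c : Cone D) (hc : IsLimit c)
    [∀ (i j : I) (t : i ⟶ j), IsAffineHom (D.map t).left.hom]
    (hmin : ∀ (i j : I) (t : i ⟶ j),
      ModPair.IsMinimal (D.obj i).left.mod (D.obj j).left.mod (D.map t).left.hom)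
    [∀ i, CompactSpace (D.obj i).left.total] [∀ i, QuasiSeparatedSpace (D.obj i).left.total]
    [CompactSpace c.pt.left.total] [QuasiSeparatedSpace c.pt.left.total]
    (Y : Over S) [CompactSpace Y.left.total] [QuasiSeparatedSpace Y.left.total]
    [LocallyOfFiniteType Y.hom.hom]
    (h : (∀ (i j : I) (t : i ⟶ j), IsSchemeTheoreticallyDominant (D.map t).left.hom) ∨
      LocallyOfFinitePresentation Y.hom.hom) :
    (∀ φ : (ModPair.Pair.admBlowup.{u}).Q.obj c.pt.left ⟶ (ModPair.Pair.admBlowup.{u}).Q.obj Y.left,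
        φ ≫ (ModPair.Pair.admBlowup.{u}).Q.map Y.hom = (ModPair.Pair.admBlowup.{u}).Q.map c.pt.hom →
        ∃ (i : I) (φi : (ModPair.Pair.admBlowup.{u}).Q.obj (D.obj i).left ⟶
            (ModPair.Pair.admBlowup.{u}).Q.obj Y.left),
          φi ≫ (ModPair.Pair.admBlowup.{u}).Q.map Y.hom = (ModPair.Pair.admBlowup.{u}).Q.map (D.obj i).hom ∧
            (ModPair.Pair.admBlowup.{u}).Q.map (c.π.app i).left ≫ φi = φ) ∧
      ∀ (i : I) (φ ψ : (ModPair.Pair.admBlowup.{u}).Q.obj (D.obj i).left ⟶
          (ModPair.Pair.admBlowup.{u}).Q.obj Y.left),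
        φ ≫ (ModPair.Pair.admBlowup.{u}).Q.map Y.hom = (ModPair.Pair.admBlowup.{u}).Q.map (D.obj i).hom →
        ψ ≫ (ModPair.Pair.admBlowup.{u}).Q.map Y.hom = (ModPair.Pair.admBlowup.{u}).Q.map (D.obj i).hom →
        (ModPair.Pair.admBlowup.{u}).Q.map (c.π.app i).left ≫ φ =
            (ModPair.Pair.admBlowup.{u}).Q.map (c.π.app i).left ≫ ψ →
          ∃ (j : I) (t : j ⟶ i), (ModPair.Pair.admBlowup.{u}).Q.map (D.map t).left ≫ φ =
            (ModPair.Pair.admBlowup.{u}).Q.map (D.map t).left ≫ ψ := by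
  haveI := Groth.Agent.H9.MDP.S18738_main.{u}
  refine ⟨fun φ hφ ↦ ?_, fun i φ ψ hφ hψ h ↦ ?_⟩
  · exact Groth.Agent.H9.FIN.surj_of_geom (ModPair.Pair.admBlowup.{u})
      (ModPair.Pair.admBlowup.{u}).Q (S := S) (show c.pt.left ⟶ S from c.pt.hom)
      (show Y.left ⟶ S from Y.hom) (fun i ↦ (D.obj i).left) (fun i ↦ (D.obj i).hom)
      (fun i ↦ (c.π.app i).left)
      (fun X' s hs f hf ↦ Groth.Agent.H9.FIN.geomSurj D c hc hmin Y h X' s hs f hf) φ hφ
  · obtain ⟨j, hj⟩ := Groth.Agent.H9.FIN.inj_of_geom (ModPair.Pair.admBlowup.{u})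
      (ModPair.Pair.admBlowup.{u}).Q (S := S) (show Y.left ⟶ S from Y.hom)
      (show (D.obj i).left ⟶ S from (D.obj i).hom) (c.π.app i).left
      (fun j : Over i ↦ (D.obj j.left).left) (fun j ↦ (D.map j.hom).left)
      (fun t ht a b hab ↦ Groth.Agent.H9.FIN.hepi t ht a b hab)
      (fun X' s hs f₁ f₂ h₁ h₂ ↦
        Groth.Agent.H9.FIN.geomInj D c hc hmin Y i X' s hs f₁ f₂ h₁ h₂) φ ψ hφ hψ h
    exact ⟨j.left, j.hom, hj⟩

end Groth.Agent.S18757
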