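import Groth.Statements.S18779
import Groth.Agent.Lib.Helper5.ExtG1.B
import Groth.Agent.Lib.Lead.FF.H0Const
import Groth.Agent.Lib.Helper5.Gro.EllPush

set_option autoImplicit false
universe u
open CategoryTheory CategoryTheory.Limits AlgebraicGeometry
open VBCurve

namespace Groth.Agent.S18779



/-- Let k be a finite field and C a smooth proper geometrically integral curve over k (proper, smooth
and geometrically integral over k, of dimension one) of genus one, i.e. dim_k H^1(C, O_C) = 1, with
a k-rational point O (an elliptic curve over k). Let 0 → A → E → B → 0 be a short exact sequence of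
O_C-modules in which A and B are finite locally free of ranks a ≥ 1 and b ≥ 1, A is semistable in
the sense that deg G · rk A ≤ deg A · rk G for every finite locally free submodule G of A of
positive rank (the degree of a rank-n locally free module being χ − n·χ(O_C)), likewise for B, and
μ(A) > μ(B), that is deg B · a < deg A · b. Then the sequence splits: E → B is a split epimorphism,
so E ≅ A ⊕ B. (This is the case of a two-step filtration; the published statement, that a vector
bundle on an elliptic curve is the direct sum of the graded pieces of its Harder–Narasimhan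
filtration, follows by induction on the length and is not restated in that form.) (The published
setting takes k of characteristic at least 5; the argument does not use this and the row allows
every finite field.) -/
theorem result (k : Type u) [Field k] [Finite k] (X : Scheme.{u}) [X.Over (Spec (CommRingCat.of k))]
    [IsProper (X ↘ Spec (CommRingCat.of k))] [Smooth (X ↘ Spec (CommRingCat.of k))]
    [GeometricallyIntegral (X ↘ Spec (CommRingCat.of k))] (hdim : topologicalKrullDim ↥X = 1)
    (hg : Curv2.genus k X = 1) (O : Spec (CommRingCat.of k) ⟶ X) (hO : O ≫ (X ↘ Spec (CommRingCat.of k)) = 𝟙 _)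
    (T : ShortComplex X.Modules) (hT : T.ShortExact)
    (a b : ℕ) (ha : 0 < a) (hb : 0 < b)
    (hA : FlatMod.IsFinLocFreeOfRank a T.X₁) (hB : FlatMod.IsFinLocFreeOfRank b T.X₃)
    (hAss : (∀ (G : X.Modules) (r' : ℕ) (i : G ⟶ T.X₁), Mono i → 0 < r' → FlatMod.IsFinLocFreeOfRank r' G →
      Curv2.deg k X G r' * (a : ℤ) ≤ Curv2.deg k X T.X₁ a * (r' : ℤ)))
    (hBss : (∀ (G : X.Modules) (r' : ℕ) (i : G ⟶ T.X₃), Mono i → 0 < r' → FlatMod.IsFinLocFreeOfRank r' G →
      Curv2.deg k X G r' * (b : ℤ) ≤ Curv2.deg k X T.X₃ b * (r' : ℤ)))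
    (hslope : Curv2.deg k X T.X₃ b * (a : ℤ) < Curv2.deg k X T.X₁ a * (b : ℤ)) :
    IsSplitEpi T.g := by
  haveI : Subsingleton ↥(Spec (CommRingCat.of k)) :=
    inferInstanceAs (Subsingleton (PrimeSpectrum k))
  haveI : IsIntegral X :=
    GeometricallyIntegral.isIntegral_of_subsingleton (X ↘ Spec (CommRingCat.of k))
  haveI : GeometricallyConnected (X ↘ Spec (CommRingCat.of k)) :=
    ⟨fun K _ y Z fst snd h => by
      haveI : IrreducibleSpace Z :=
        GeometricallyIrreducible.geometrically_irreducibleSpace y fst snd h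
      infer_instance⟩
  haveI : GeometricallyReduced (X ↘ Spec (CommRingCat.of k)) :=
    Groth.Agent.H5.Gro.geometricallyReduced_of_smooth k _
  have h0 : Module.finrank k (Coh.HH X (Coh.structureModule X) 0) = 1 :=
    Groth.Agent.LD.FF.finrank_HH0_eq_one k X
  have hreg : ∀ x : X, IsRegularLocalRing (X.presheaf.stalk x) :=
    fun x => Groth.Agent.H5.Curve4.regular_stalks k X x
  refine Groth.Agent.H5.ExtG1.isSplitEpi_of_hom_eq_zero k X hdim hreg h0 hg T hT a b hA hB ?_
  intro f
  refine Groth.Agent.H5.Curve4.hom_eq_zero_of_slope k X hdim.le a b hA hB hAss ?_ f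
  intro G r' i hi hr' hG
  have h1 := hBss G r' i hi hr' hG
  have hbz : (0 : ℤ) < b := by exact_mod_cast hb
  have haz : (0 : ℤ) < a := by exact_mod_cast ha
  have hr'z : (0 : ℤ) < r' := by exact_mod_cast hr'
  have h2 : Curv2.deg k X G r' * (b : ℤ) * (a : ℤ) ≤ Curv2.deg k X T.X₃ b * (r' : ℤ) * (a : ℤ) :=
    mul_le_mul_of_nonneg_right h1 haz.le
  have h3 : Curv2.deg k X T.X₃ b * (a : ℤ) * (r' : ℤ) < Curv2.deg k X T.X₁ a * (b : ℤ) * (r' : ℤ) :=
    mul_lt_mul_of_pos_right hslope hr'z
  have h4 : (Curv2.deg k X G r' * (a : ℤ)) * (b : ℤ) < (Curv2.deg k X T.X₁ a * (r' : ℤ)) * (b : ℤ) := by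
    nlinarith
  exact lt_of_mul_lt_mul_right h4 hbz.le

end Groth.Agent.S18779
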