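import Groth.Statements.S18789
import Mathlib

set_option autoImplicit false
universe u v w x
open TorusGr

namespace Groth.Agent.S18789

open DirectSum in
/-- Let `A` be a commutative algebra over a field `k`, graded by an additive commutative group `M` (for
`M` the character group of a split torus `T` this is a `T`-action on `Spec A`, and an `M`-graded
`A`-module is a `T`-equivariant quasi-coherent sheaf), let `P` be a finitely generated projective
`A`-module with a compatible `M`-grading (a locally free `T`-sheaf of finite rank), and let `m` be a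
homogeneous maximal ideal with residue field `k` (a `T`-fixed rational point). If homogeneous
elements `f i` of `P` reduce to a basis of `P/mP`, then there is a homogeneous `s ∉ m` such that
after inverting `s` the `f i` generate `P` and every relation among them is killed by a power of
`s`: on the invariant open `D(s)` the module is free on the homogeneous sections `f i`, with the
weights of the fibre `P/mP`. (The published statement has `M ≅ ℤ^r`, a split torus; here `M` is any
additive commutative group, i.e. any diagonalizable group.) -/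
theorem result
    {k : Type u} [Field k] {M : Type v} [AddCommGroup M] [DecidableEq M]
    {A : Type w} [CommRing A] [Algebra k A] (𝒜 : M → Submodule k A) [GradedAlgebra 𝒜]
    {P : Type x} [AddCommGroup P] [Module A P] [Module k P] [IsScalarTower k A P]
    (ℳ : M → Submodule k P) [Decomposition ℳ] [SetLike.GradedSMul 𝒜 ℳ]
    [Module.Finite A P] [Module.Projective A P]
    (m : Ideal A) [m.IsMaximal] (hm : m.IsHomogeneous 𝒜)
    (hrat : Function.Surjective (algebraMap k (A ⧸ m)))
    {n : ℕ} (wt : Fin n → M) (f : Fin n → P) (hf : ∀ i, f i ∈ ℳ (wt i))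
    (hli : LinearIndependent (A ⧸ m)
      (fun i => (Submodule.Quotient.mk (f i) : P ⧸ (m • (⊤ : Submodule A P)))))
    (hsp : Submodule.span A (Set.range f) ⊔ m • (⊤ : Submodule A P) = ⊤) :
    ∃ s : A, SetLike.IsHomogeneousElem 𝒜 s ∧ s ∉ m ∧
      (∀ p : P, ∃ (N : ℕ) (c : Fin n → A), s ^ N • p = ∑ i, c i • f i) ∧
      (∀ c : Fin n → A, ∑ i, c i • f i = 0 → ∃ N : ℕ, ∀ i, s ^ N * c i = 0) := by
  classical
  -- Step 1: nonzero degree elements lie in m
  have hfix : ∀ j : M, j ≠ 0 → ∀ a ∈ 𝒜 j, a ∈ m := by
    intro j hj a ha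
    obtain ⟨l, hl⟩ := hrat (Ideal.Quotient.mk m a)
    have h1 : a - algebraMap k A l ∈ m := by
      rw [← Ideal.Quotient.eq_zero_iff_mem, map_sub, ← hl]
      exact sub_self _
    have h2 := hm j h1
    rw [DirectSum.decompose_sub, DirectSum.sub_apply, AddSubgroupClass.coe_sub,
      DirectSum.decompose_of_mem_same _ ha,
      DirectSum.decompose_of_mem_ne 𝒜 (SetLike.algebraMap_mem_graded 𝒜 l) (Ne.symm hj),
      sub_zero] at h2
    exact h2
  -- Step 2: Nakayama
  obtain ⟨s₁, hs₁, hs₁P⟩ := Submodule.exists_sub_one_mem_and_smul_le_of_fg_of_le_sup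
    (I := m) (N := Submodule.span A (Set.range f)) (N' := ⊤) (P := ⊤)
    (Module.Finite.fg_top) le_rfl hsp.ge
  have hs₁m : s₁ ∉ m := by
    intro h
    have : (1 : A) ∈ m := by
      have := m.sub_mem h hs₁
      simpa using this
    exact (Ideal.IsMaximal.ne_top inferInstance) ((Ideal.eq_top_iff_one m).mpr this)
  have hs₁span : ∀ p : P, s₁ • p ∈ Submodule.span A (Set.range f) := fun p =>
    hs₁P (Submodule.smul_mem_pointwise_smul p s₁ ⊤ trivial)
  -- Step 3: lifting
  let g : (Fin n → A) →ₗ[A] P := Fintype.linearCombination A f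
  have hg : ∀ c : Fin n → A, g c = ∑ i, c i • f i := fun c => Fintype.linearCombination_apply A f c
  have hgrange : LinearMap.range g = Submodule.span A (Set.range f) :=
    Fintype.range_linearCombination A f
  let σ : P →ₗ[A] LinearMap.range g :=
    LinearMap.codRestrict (LinearMap.range g) (s₁ • LinearMap.id) (fun p => by
      rw [hgrange]; exact hs₁span p)
  obtain ⟨h, hh⟩ := Module.projective_lifting_property g.rangeRestrict σ
    (LinearMap.surjective_rangeRestrict g)
  have hgh : ∀ p : P, g (h p) = s₁ • p := by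
    intro p
    have := congrArg Subtype.val (LinearMap.congr_fun hh p)
    simpa [σ] using this
  -- Step 4: the matrix
  let E : (Fin n → A) →ₗ[A] (Fin n → A) := h ∘ₗ g
  obtain ⟨Em, hEmdef⟩ : ∃ Em : Matrix (Fin n) (Fin n) A, Em = LinearMap.toMatrix' E := ⟨_, rfl⟩
  have hEE : E ∘ₗ E = s₁ • E := by
    apply LinearMap.ext
    intro c
    simp only [E, LinearMap.comp_apply, LinearMap.smul_apply, hgh, map_smul]
  have hEmEm : Em * Em = s₁ • Em := by
    rw [hEmdef, ← LinearMap.toMatrix'_comp, hEE, map_smul]
  have hEmulVec : ∀ c : Fin n → A, Em.mulVec c = E c := fun c => by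
    rw [hEmdef]; exact LinearMap.toMatrix'_mulVec E c
  -- Step 5: E is s₁ mod m
  have hEmod : ∀ i j, Ideal.Quotient.mk m (Em j i) = if j = i then Ideal.Quotient.mk m s₁ else 0 := by
    intro i j
    have h1 : g (E (Pi.single i 1)) = s₁ • f i := by
      simp only [E, LinearMap.comp_apply, hgh]
      rw [hg]
      simp [Pi.single_apply]
    rw [hg] at h1
    have h2 : ∀ j, E (Pi.single i 1) j = Em j i := by
      intro j
      rw [← hEmulVec]
      simp
    have h3 : ∑ j, (Ideal.Quotient.mk m (Em j i - if j = i then s₁ else 0)) •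
        (Submodule.Quotient.mk (f j) : P ⧸ (m • (⊤ : Submodule A P))) = 0 := by
      have e1 : ∑ j, (Ideal.Quotient.mk m (Em j i - if j = i then s₁ else 0)) •
          (Submodule.Quotient.mk (f j) : P ⧸ (m • (⊤ : Submodule A P))) =
          (Submodule.mkQ (m • (⊤ : Submodule A P)))
            (∑ j, (Em j i - if j = i then s₁ else 0) • f j) := by
        rw [map_sum]; rfl
      rw [e1]
      have : ∑ j, (Em j i - if j = i then s₁ else 0) • f j = 0 := by
        simp only [sub_smul, Finset.sum_sub_distrib, ite_smul, zero_smul, Finset.sum_ite_eq',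
          Finset.mem_univ, if_true]
        rw [sub_eq_zero, ← h1]
        exact Finset.sum_congr rfl fun j _ => by rw [h2]
      rw [this, map_zero]
    have h4 := Fintype.linearIndependent_iff.mp hli _ h3 j
    rw [map_sub, sub_eq_zero] at h4
    rw [h4]
    split_ifs <;> simp
  -- Step 6: det Em ∉ m
  have hs₁one : Ideal.Quotient.mk m s₁ = 1 := by
    rw [← sub_eq_zero, ← map_one (Ideal.Quotient.mk m), ← map_sub, Ideal.Quotient.eq_zero_iff_mem]
    exact hs₁
  have hdetm : Matrix.det Em ∉ m := by
    rw [← Ideal.Quotient.eq_zero_iff_mem, RingHom.map_det]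
    have : (Ideal.Quotient.mk m).mapMatrix Em = 1 := by
      ext j i
      rw [RingHom.mapMatrix_apply, Matrix.map_apply, hEmod, hs₁one, Matrix.one_apply]
    rw [this, Matrix.det_one]
    exact one_ne_zero
  -- Step 7: the element u
  have hker : ∀ c : Fin n → A, g c = 0 → ∀ i, (s₁ * Matrix.det Em) * c i = 0 := by
    intro c hc i
    have hEc : Em.mulVec c = 0 := by
      rw [hEmulVec]
      simp only [E, LinearMap.comp_apply, hc, map_zero]
    have h1 : Matrix.det Em • (Em - s₁ • (1 : Matrix (Fin n) (Fin n) A)) = 0 := by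
      have : Matrix.adjugate Em * (Em * (Em - s₁ • (1 : Matrix (Fin n) (Fin n) A))) = 0 := by
        rw [mul_sub, hEmEm, Matrix.mul_smul, mul_one, sub_self, mul_zero]
      rwa [← mul_assoc, Matrix.adjugate_mul, Matrix.smul_mul, one_mul] at this
    have h2 := congrArg (fun X : Matrix (Fin n) (Fin n) A => X.mulVec c i) h1
    simp only [Matrix.smul_mulVec, Matrix.sub_mulVec, hEc, Matrix.one_mulVec, Matrix.zero_mulVec,
      Pi.smul_apply, Pi.neg_apply, Pi.zero_apply, smul_eq_mul, zero_sub] at h2
    rw [mul_neg, neg_eq_zero] at h2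
    rw [mul_comm s₁, mul_assoc]
    exact h2
  obtain ⟨u, hu⟩ : ∃ u : A, u = s₁ * Matrix.det Em := ⟨_, rfl⟩
  rw [← hu] at hker
  have hum : u ∉ m := by
    rw [hu]
    intro h
    rcases (Ideal.IsMaximal.isPrime inferInstance).mem_or_mem h with h | h
    · exact hs₁m h
    · exact hdetm h
  have huspan : ∀ p : P, u • p ∈ Submodule.span A (Set.range f) := by
    intro p
    rw [hu, mul_comm, mul_smul]
    exact Submodule.smul_mem _ _ (hs₁span p)
  -- Step 8: graded part
  have GS : ∀ (a : A) (j : M) (p : P), p ∈ ℳ j → ∀ i : M,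
      ((DirectSum.decompose ℳ (a • p)) (i + j) : P) = (DirectSum.decompose 𝒜 a i : A) • p := by
    intro a j p hp i
    have hterm : ∀ l : M, ((DirectSum.decompose ℳ ((DirectSum.decompose 𝒜 a l : A) • p)) (i + j) : P)
        = if l = i then (DirectSum.decompose 𝒜 a l : A) • p else 0 := by
      intro l
      have hmem : (DirectSum.decompose 𝒜 a l : A) • p ∈ ℳ (l + j) := by
        have := SetLike.GradedSMul.smul_mem (A := 𝒜) (B := ℳ) (i := l) (j := j)
          (SetLike.coe_mem (DirectSum.decompose 𝒜 a l)) hp
        rwa [vadd_eq_add] at this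
      split_ifs with hl
      · subst hl
        exact DirectSum.decompose_of_mem_same _ hmem
      · refine DirectSum.decompose_of_mem_ne _ hmem ?_
        intro h
        exact hl (add_right_cancel h)
    conv_lhs => rw [← DirectSum.sum_support_decompose 𝒜 a, Finset.sum_smul,
      DirectSum.decompose_sum, DFinsupp.finsetSum_apply, Submodule.coe_sum]
    simp only [hterm, Finset.sum_ite_eq', DFinsupp.mem_support_iff]
    split_ifs with hi
    · rfl
    · push Not at hi
      rw [hi]
      simp
  obtain ⟨u₀, hu₀⟩ : ∃ u₀ : A, u₀ = (DirectSum.decompose 𝒜 u 0 : A) := ⟨_, rfl⟩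
  have hu₀m : u₀ ∉ m := by
    intro h0
    apply hum
    rw [← DirectSum.sum_support_decompose 𝒜 u]
    refine Ideal.sum_mem _ fun j _ => ?_
    by_cases hj : j = 0
    · subst hj; rw [← hu₀]; exact h0
    · exact hfix j hj _ (SetLike.coe_mem _)
  have hu₀hom : SetLike.IsHomogeneousElem 𝒜 u₀ := ⟨0, by rw [hu₀]; exact SetLike.coe_mem _⟩
  -- homogeneous components of a relation
  have hsumdec : ∀ (c : Fin n → A) (d : M),
      ((DirectSum.decompose ℳ (∑ i, c i • f i)) d : P) =
        ∑ i, (DirectSum.decompose 𝒜 (c i) (d - wt i) : A) • f i := by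
    intro c d
    rw [DirectSum.decompose_sum, DFinsupp.finsetSum_apply, Submodule.coe_sum]
    refine Finset.sum_congr rfl fun i _ => ?_
    have := GS (c i) (wt i) (f i) (hf i) (d - wt i)
    rwa [sub_add_cancel] at this
  have hgen : ∀ p : P, ∃ c : Fin n → A, u₀ • p = ∑ i, c i • f i := by
    intro p
    induction p using DirectSum.Decomposition.inductionOn ℳ with
    | zero => exact ⟨0, by simp⟩
    | @homogeneous d p =>
      obtain ⟨c, hc⟩ := (Submodule.mem_span_range_iff_exists_fun A).mp (huspan (p : P))
      refine ⟨fun i => (DirectSum.decompose 𝒜 (c i) (d - wt i) : A), ?_⟩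
      rw [← hsumdec, hc]
      have := GS u d (p : P) p.2 0
      rw [zero_add] at this
      rw [this, hu₀]
    | add p q hp hq =>
      obtain ⟨c, hc⟩ := hp
      obtain ⟨c', hc'⟩ := hq
      refine ⟨c + c', ?_⟩
      simp only [smul_add, hc, hc', Pi.add_apply, add_smul, Finset.sum_add_distrib]
  have hrel : ∀ c : Fin n → A, ∑ i, c i • f i = 0 → ∀ i, u₀ * c i = 0 := by
    intro c hc i
    have hcomp : ∀ e : M, u₀ * (DirectSum.decompose 𝒜 (c i) e : A) = 0 := by
      intro e
      have h1 := hsumdec c (e + wt i)
      rw [hc, DirectSum.decompose_zero, DirectSum.zero_apply, ZeroMemClass.coe_zero] at h1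
      have h2 := hker (fun i' => (DirectSum.decompose 𝒜 (c i') (e + wt i - wt i') : A))
        (by rw [hg]; exact h1.symm) i
      rw [add_sub_cancel_right] at h2
      have h3 := DirectSum.coe_decompose_mul_add_of_right_mem 𝒜 (a := u) (i := 0)
        (SetLike.coe_mem (DirectSum.decompose 𝒜 (c i) e))
      rw [h2, zero_add, DirectSum.decompose_zero, DirectSum.zero_apply, ZeroMemClass.coe_zero,
        ← hu₀] at h3
      exact h3.symm
    rw [← DirectSum.sum_support_decompose 𝒜 (c i), Finset.mul_sum]
    exact Finset.sum_eq_zero fun e _ => hcomp e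
  refine ⟨u₀, hu₀hom, hu₀m, fun p => ?_, fun c hc => ⟨1, fun i => ?_⟩⟩
  · obtain ⟨c, hc⟩ := hgen p
    exact ⟨1, c, by rw [pow_one, hc]⟩
  · rw [pow_one]
    exact hrel c hc i

end Groth.Agent.S18789
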