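import Groth.Statements.S18790
import Mathlib

set_option autoImplicit false
universe u v w
open TorusGr

namespace Groth.Agent.S18790

/-- Let `A` be a commutative algebra over a field `k`, graded by an additive commutative group `M` (for
`M` the character group of a split torus `T`, a `T`-action on `Spec A`), let `J` be the ideal
generated by the homogeneous elements of non-zero degree (its zero locus is the fixed-point
subscheme) and let `m ⊇ J` be a maximal ideal with residue field `k` (a fixed rational point) at
which the fixed-point subscheme is the reduced point: `J` and `m` agree after localizing at `m`.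
Then the cotangent space `m/m²` has no part of weight zero: every degree-zero element of `m` lies in
`m²`. (The published statement has `M ≅ ℤ^r`, a split torus, and phrases the conclusion as the
non-vanishing of the weights of a semi-invariant basis of `m/m²`; here `M` is any additive
commutative group, i.e. any diagonalizable group.) -/
theorem result
    {k : Type u} [Field k] {M : Type v} [AddCommGroup M] [DecidableEq M]
    {A : Type w} [CommRing A] [Algebra k A] (𝒜 : M → Submodule k A) [GradedAlgebra 𝒜]
    (m : Ideal A) [m.IsMaximal] (hrat : Function.Surjective (algebraMap k (A ⧸ m)))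
    (hfix : ∀ i : M, i ≠ 0 → ∀ a ∈ 𝒜 i, a ∈ m)
    (hred : ∀ a ∈ m, ∃ s ∉ m, s * a ∈ Ideal.span {b : A | ∃ i : M, i ≠ 0 ∧ b ∈ 𝒜 i})
    {f : A} (hf0 : f ∈ 𝒜 0) (hfm : f ∈ m) : f ∈ m ^ 2 := by
  classical
  obtain ⟨s, hs, hsf⟩ := hred f hfm
  -- degree zero component of s
  set s0 : A := (DirectSum.decompose 𝒜 s 0 : A) with hs0
  have hs0m : s0 ∉ m := by
    intro h0
    apply hs
    rw [← DirectSum.sum_support_decompose 𝒜 s]
    refine Ideal.sum_mem _ fun i _ => ?_
    by_cases hi : i = 0
    · subst hi; exact h0
    · exact hfix i hi _ (SetLike.coe_mem _)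
  -- s0 * f is the degree-zero part of s * f
  have h1 : (DirectSum.decompose 𝒜 (s * f) 0 : A) = s0 * f := by
    have := DirectSum.coe_decompose_mul_add_of_right_mem 𝒜 (a := s) (i := 0) hf0
    rwa [add_zero] at this
  -- the degree-zero part of an element of J lies in m^2
  have h2 : (DirectSum.decompose 𝒜 (s * f) 0 : A) ∈ m ^ 2 := by
    obtain ⟨c, hc, hsum⟩ := Submodule.mem_span_set.mp hsf
    rw [← hsum, Finsupp.sum, DirectSum.decompose_sum, DFinsupp.finsetSum_apply,
      Submodule.coe_sum]
    refine Ideal.sum_mem _ fun b hb => ?_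
    obtain ⟨i, hi, hbi⟩ := hc hb
    rw [smul_eq_mul]
    have h3 := DirectSum.coe_decompose_mul_add_of_right_mem 𝒜 (a := c b) (i := -i) hbi
    rw [neg_add_cancel] at h3
    rw [h3, pow_two]
    refine Ideal.mul_mem_mul ?_ (hfix i hi b hbi)
    exact hfix (-i) (neg_ne_zero.mpr hi) _ (SetLike.coe_mem _)
  rw [h1] at h2
  -- invert s0 modulo m
  obtain ⟨t, ht⟩ := Ideal.Quotient.exists_inv (I := m) (a := Ideal.Quotient.mk m s0)
    (by rwa [Ne, Ideal.Quotient.eq_zero_iff_mem])
  obtain ⟨t', rfl⟩ := Ideal.Quotient.mk_surjective t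
  have hu : s0 * t' - 1 ∈ m := by
    rw [← Ideal.Quotient.eq_zero_iff_mem, map_sub, map_mul, ht, map_one, sub_self]
  have : f = t' * (s0 * f) - (s0 * t' - 1) * f := by ring
  rw [this]
  refine Ideal.sub_mem _ (Ideal.mul_mem_left _ _ h2) ?_
  rw [pow_two]
  exact Ideal.mul_mem_mul hu hfm

end Groth.Agent.S18790
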