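import Groth.Statements.S18791
import Mathlib

set_option autoImplicit false
universe u v w x
open TorusGr

namespace Groth.Agent.S18791

/-- Let `φ : B → A` be a degree-preserving homomorphism of commutative algebras over a field `k` graded
by an additive commutative group `M` (for `M` the character group of a split torus, an equivariant
morphism `Spec A → Spec B`), and let `m` be a maximal ideal of `A` containing all homogeneous
elements of non-zero degree (a fixed point). Then the ideal of those `b` whose image is zero in the
local ring `A_m` is homogeneous: the homogeneous (weight) components of such a `b` again die in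
`A_m`. Since `A_m` embeds in its completion when `A` is Noetherian, these are the elements of `B`
that die in the completed local ring. (The published lemma asserts moreover that, for `B = k[Y_1, …,
Y_d]` mapping the `Y_i` to semi-invariant lifts of a basis of `m/m²`, the kernel of the induced
surjection of completions `k[[Y]] → Â_m` is generated by semi-invariant polynomials; generation of
that kernel by polynomials can fail, so only the statement about polynomial elements of the kernel
is recorded here. The published statement has `M ≅ ℤ^r` (a split torus) and `B` the polynomial ring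
on the lifts; here `M` is any additive commutative group and `B` any `M`-graded `k`-algebra.) -/
theorem result
    {k : Type u} [Field k] {M : Type v} [AddCommGroup M] [DecidableEq M]
    {A : Type w} [CommRing A] [Algebra k A] (𝒜 : M → Submodule k A) [GradedAlgebra 𝒜]
    {B : Type x} [CommRing B] [Algebra k B] (ℬ : M → Submodule k B) [GradedAlgebra ℬ]
    (φ : B →ₐ[k] A) (hφ : ∀ i : M, ∀ b ∈ ℬ i, φ b ∈ 𝒜 i)
    (m : Ideal A) [m.IsMaximal] (hfix : ∀ i : M, i ≠ 0 → ∀ a ∈ 𝒜 i, a ∈ m) :
    (RingHom.ker ((algebraMap A (Localization.AtPrime m)).comp (φ : B →+* A))).IsHomogeneous ℬ := by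
  classical
  intro i b hb
  rw [RingHom.mem_ker, RingHom.comp_apply] at hb ⊢
  obtain ⟨⟨s, hs⟩, hsb⟩ := (IsLocalization.map_eq_zero_iff m.primeCompl
    (Localization.AtPrime m) _).mp hb
  replace hsb : s * φ b = 0 := hsb
  have hsm : s ∉ m := hs
  -- components of φ b
  have hcomp : ∀ j, (DirectSum.decompose 𝒜 (φ b) j : A) = φ (DirectSum.decompose ℬ b j : B) := by
    intro j
    conv_lhs => rw [← DirectSum.sum_support_decompose ℬ b, map_sum, DirectSum.decompose_sum,
      DFinsupp.finsetSum_apply, Submodule.coe_sum]
    by_cases hj : j ∈ (DirectSum.decompose ℬ b).support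
    · rw [Finset.sum_eq_single j]
      · exact DirectSum.decompose_of_mem_same _ (hφ j _ (SetLike.coe_mem _))
      · intro l _ hlj
        exact DirectSum.decompose_of_mem_ne _ (hφ l _ (SetLike.coe_mem _)) hlj
      · intro h; exact absurd hj h
    · have : (DirectSum.decompose ℬ b j : B) = 0 := by
        simpa [DFinsupp.mem_support_iff] using hj
      rw [this, map_zero]
      refine Finset.sum_eq_zero fun l hl => ?_
      have hlj : l ≠ j := fun h => hj (h ▸ hl)
      exact DirectSum.decompose_of_mem_ne _ (hφ l _ (SetLike.coe_mem _)) hlj
  set D := (DirectSum.decompose ℬ b).support with hD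
  let a : D → A := fun d => φ (DirectSum.decompose ℬ b d : B)
  have ha : ∀ d : D, a d ∈ 𝒜 d := fun d => hφ d _ (SetLike.coe_mem _)
  let T : Matrix D D A := Matrix.of fun d e => (DirectSum.decompose 𝒜 s ((d : M) - e) : A)
  have hφb : φ b = ∑ e : D, a e := by
    conv_lhs => rw [← DirectSum.sum_support_decompose ℬ b, map_sum]
    rw [← Finset.sum_coe_sort]
  have hT : T.mulVec a = 0 := by
    funext d
    simp only [Matrix.mulVec, dotProduct, Pi.zero_apply]
    have h0 : (DirectSum.decompose 𝒜 (s * φ b) d : A) = 0 := by rw [hsb]; simp
    rw [hφb, Finset.mul_sum, DirectSum.decompose_sum, DFinsupp.finsetSum_apply,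
      Submodule.coe_sum] at h0
    rw [← h0]
    refine Finset.sum_congr rfl fun e _ => ?_
    have := DirectSum.coe_decompose_mul_add_of_right_mem 𝒜 (a := s) (i := (d : M) - e) (ha e)
    rw [sub_add_cancel] at this
    exact this.symm
  have hdet : ∀ e : D, Matrix.det T * a e = 0 := by
    have h1 : (Matrix.adjugate T * T).mulVec a = 0 := by
      rw [← Matrix.mulVec_mulVec, hT, Matrix.mulVec_zero]
    rw [Matrix.adjugate_mul, Matrix.smul_mulVec, Matrix.one_mulVec] at h1
    intro e
    have := congrFun h1 e
    simpa using this
  -- degree zero part of s is not in m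
  have hs0 : (DirectSum.decompose 𝒜 s 0 : A) ∉ m := by
    intro h0
    apply hsm
    rw [← DirectSum.sum_support_decompose 𝒜 s]
    refine Ideal.sum_mem _ fun j _ => ?_
    by_cases hj : j = 0
    · subst hj; exact h0
    · exact hfix j hj _ (SetLike.coe_mem _)
  have hdetm : Matrix.det T ∉ m := by
    rw [← Ideal.Quotient.eq_zero_iff_mem, RingHom.map_det]
    have : (Ideal.Quotient.mk m).mapMatrix T
        = Matrix.diagonal fun _ => Ideal.Quotient.mk m (DirectSum.decompose 𝒜 s 0 : A) := by
      ext d e
      simp only [RingHom.mapMatrix_apply, Matrix.map_apply, Matrix.diagonal_apply]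
      by_cases hde : d = e
      · subst hde
        simp only [T, Matrix.of_apply, if_true]
        rw [sub_self]
      · rw [if_neg hde, Ideal.Quotient.eq_zero_iff_mem]
        refine hfix _ ?_ _ (SetLike.coe_mem _)
        intro h
        exact hde (Subtype.ext (sub_eq_zero.mp h))
    rw [this, Matrix.det_diagonal, Finset.prod_const]
    refine pow_ne_zero _ ?_
    rwa [Ne, Ideal.Quotient.eq_zero_iff_mem]
  by_cases hi : i ∈ D
  · refine (IsLocalization.map_eq_zero_iff m.primeCompl (Localization.AtPrime m) _).mpr ?_
    exact ⟨⟨Matrix.det T, hdetm⟩, hdet ⟨i, hi⟩⟩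
  · have : (DirectSum.decompose ℬ b i : B) = 0 := by
      simpa [hD, DFinsupp.mem_support_iff] using hi
    rw [this, map_zero, map_zero]

end Groth.Agent.S18791
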