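import Groth.Statements.S18794
import Mathlib

set_option autoImplicit false
universe u v w
open scoped TensorProduct
open DefMod

namespace Groth.Agent.S18794


section helpers

variable {K : Type u} [Field K] {D : Type v} [Ring D] [Algebra K D]
  {E : Type w} [AddCommGroup E] [Module K E] [Module D E] [IsScalarTower K D E]

/-- the comparison map `L ⊗ E → Ω ⊗ E` induced by a `K`-embedding `σ : L → Ω`. -/
noncomputable def iota {L : Type*} {Ω : Type*} [Field L] [Algebra K L] [Field Ω] [Algebra K Ω]
    (σ : L →ₐ[K] Ω) (E : Type w) [AddCommGroup E] [Module K E] :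
    L ⊗[K] E →ₗ[K] Ω ⊗[K] E := σ.toLinearMap.rTensor E

lemma iota_tmul {L : Type*} {Ω : Type*} [Field L] [Algebra K L] [Field Ω] [Algebra K Ω]
    (σ : L →ₐ[K] Ω) (l : L) (e : E) : iota σ E (l ⊗ₜ[K] e) = σ l ⊗ₜ[K] e := rfl

lemma iota_smul {L : Type*} {Ω : Type*} [Field L] [Algebra K L] [Field Ω] [Algebra K Ω]
    (σ : L →ₐ[K] Ω) (l : L) (y : L ⊗[K] E) : iota σ E (l • y) = σ l • iota σ E y := by
  induction y using TensorProduct.induction_on with
  | zero => simp
  | tmul q e =>
    rw [TensorProduct.smul_tmul', iota_tmul, iota_tmul, TensorProduct.smul_tmul', smul_eq_mul,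
      smul_eq_mul, map_mul]
  | add y z hy hz => rw [smul_add, map_add, map_add, smul_add, hy, hz]

lemma iota_act {L : Type*} {Ω : Type*} [Field L] [Algebra K L] [Field Ω] [Algebra K Ω]
    (σ : L →ₐ[K] Ω) (d : D) (y : L ⊗[K] E) :
    iota σ E ((DistribSMul.toLinearMap K E d).baseChange L y) =
      (DistribSMul.toLinearMap K E d).baseChange Ω (iota σ E y) := by
  induction y using TensorProduct.induction_on with
  | zero => simp
  | tmul q e => simp only [LinearMap.baseChange_tmul, iota_tmul]
  | add y z hy hz => simp only [map_add, hy, hz]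

lemma iota_injective {L : Type*} {Ω : Type*} [Field L] [Algebra K L] [Field Ω] [Algebra K Ω]
    (σ : L →ₐ[K] Ω) : Function.Injective (iota σ E) :=
  Module.Flat.rTensor_preserves_injective_linearMap _ σ.toRingHom.injective

lemma exists_ne_of_nontrivial_tensor {L : Type*} [Field L] [Algebra K L]
    (h : Nontrivial (L ⊗[K] E)) : Nontrivial E := by
  by_contra hE
  rw [not_nontrivial_iff_subsingleton] at hE
  obtain ⟨x0, hx0⟩ := exists_ne (0 : L ⊗[K] E)
  have hall : ∀ z : L ⊗[K] E, z = 0 := by
    intro z
    induction z using TensorProduct.induction_on with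
    | zero => rfl
    | tmul q x => rw [Subsingleton.elim x 0, TensorProduct.tmul_zero]
    | add z w hz hw => rw [hz, hw, add_zero]
  exact hx0 (hall x0)

lemma nontrivial_tensor {L : Type*} [Field L] [Algebra K L] [Nontrivial E] :
    Nontrivial (L ⊗[K] E) :=
  (Module.FaithfullyFlat.tensorProduct_mk_injective (A := K) (B := L) E).nontrivial

/-- the irreducibility predicate -/
def Irr (L : Type*) [Field L] [Algebra K L] (D : Type v) [Ring D] [Algebra K D]
    (E : Type w) [AddCommGroup E] [Module K E] [Module D E] [IsScalarTower K D E] : Prop :=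
  Nontrivial (L ⊗[K] E) ∧ ∀ N : Submodule L (L ⊗[K] E),
    (∀ (d : D) (x : L ⊗[K] E), x ∈ N → (DistribSMul.toLinearMap K E d).baseChange L x ∈ N) →
      N = ⊥ ∨ N = ⊤

/-- descent: irreducible over `Ω` implies irreducible over `L`. -/
lemma irr_descend {L : Type*} {Ω : Type*} [Field L] [Algebra K L] [Field Ω] [Algebra K Ω]
    (σ : L →ₐ[K] Ω) (h : Irr (K := K) Ω D E) : Irr (K := K) L D E := by
  classical
  obtain ⟨hnt, hirr⟩ := h
  have hE : Nontrivial E := exists_ne_of_nontrivial_tensor hnt
  refine ⟨nontrivial_tensor, fun N hN => ?_⟩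
  -- L-structure on Ω and retraction
  letI : Algebra L Ω := σ.toRingHom.toAlgebra
  have hinj : LinearMap.ker (Algebra.linearMap L Ω) = ⊥ :=
    LinearMap.ker_eq_bot.mpr (algebraMap L Ω).injective
  obtain ⟨ρL, hρL⟩ := LinearMap.exists_leftInverse_of_injective (Algebra.linearMap L Ω) hinj
  have hρσ : ∀ l : L, ρL (σ l) = l := fun l => LinearMap.congr_fun hρL l
  have hρmul : ∀ (c : Ω) (l : L), ρL (c * σ l) = ρL c * l := by
    intro c l
    have : c * σ l = l • c := by rw [Algebra.smul_def, mul_comm]; rfl
    rw [this, map_smul, smul_eq_mul, mul_comm]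
  let ρ : Ω →ₗ[K] L :=
    { toFun := fun c => ρL c
      map_add' := fun x y => map_add ρL x y
      map_smul' := fun c x => by
        have : c • x = x * σ (algebraMap K L c) := by
          rw [σ.commutes, Algebra.smul_def, mul_comm]
        rw [RingHom.id_apply, this, hρmul, mul_comm, Algebra.smul_def] }
  let r : Ω ⊗[K] E →ₗ[K] L ⊗[K] E := ρ.rTensor E
  have hr : ∀ (c : Ω) (y : L ⊗[K] E), r (c • iota σ E y) = ρL c • y := by
    intro c y
    induction y using TensorProduct.induction_on with
    | zero => simp
    | tmul q e =>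
      rw [iota_tmul, TensorProduct.smul_tmul', TensorProduct.smul_tmul', smul_eq_mul, smul_eq_mul]
      show ρL (c * σ q) ⊗ₜ[K] e = _
      rw [hρmul]
    | add y z hy hz => rw [map_add, smul_add, map_add, hy, hz, smul_add]
  -- the span
  let N' : Submodule Ω (Ω ⊗[K] E) := Submodule.span Ω (iota σ E '' (N : Set (L ⊗[K] E)))
  have hN' : ∀ (d : D) (x : Ω ⊗[K] E), x ∈ N' →
      (DistribSMul.toLinearMap K E d).baseChange Ω x ∈ N' := by
    intro d x hx
    have hle : N' ≤ N'.comap ((DistribSMul.toLinearMap K E d).baseChange Ω) := by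
      apply Submodule.span_le.mpr
      rintro _ ⟨n, hn, rfl⟩
      show (DistribSMul.toLinearMap K E d).baseChange Ω (iota σ E n) ∈ N'
      rw [← iota_act]
      exact Submodule.subset_span ⟨_, hN d n hn, rfl⟩
    exact hle hx
  rcases hirr N' hN' with h | h
  · left
    rw [eq_bot_iff]
    intro n hn
    have : iota σ E n ∈ N' := Submodule.subset_span ⟨n, hn, rfl⟩
    rw [h, Submodule.mem_bot] at this
    rw [Submodule.mem_bot]
    exact iota_injective σ (by rw [this, map_zero])
  · right
    rw [eq_top_iff]
    intro x _
    have key : ∀ z ∈ N', ∀ c : Ω, r (c • z) ∈ N := by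
      intro z hz
      induction hz using Submodule.span_induction with
      | mem z hz =>
        obtain ⟨n, hn, rfl⟩ := hz
        intro c
        rw [hr]
        exact N.smul_mem _ hn
      | zero => intro c; simp
      | add z w _ _ hz hw => intro c; rw [smul_add, map_add]; exact N.add_mem (hz c) (hw c)
      | smul c' z _ hz => intro c; rw [smul_smul]; exact hz _
    have h1 := key (iota σ E x) (by rw [h]; trivial) 1
    rw [hr] at h1
    have h2 : ρL 1 = 1 := by rw [← map_one σ, hρσ]
    rwa [h2, one_smul] at h1

end helpers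

section helpers2

variable {K : Type u} [Field K] {E : Type w} [AddCommGroup E] [Module K E]

lemma iota_comp {L : Type*} {L' : Type*} {Ω : Type*} [Field L] [Algebra K L] [Field L']
    [Algebra K L'] [Field Ω] [Algebra K Ω]
    (σ : L →ₐ[K] L') (τ : L' →ₐ[K] Ω) (y : L ⊗[K] E) :
    iota τ E (iota σ E y) = iota (τ.comp σ) E y := by
  induction y using TensorProduct.induction_on with
  | zero => simp
  | tmul q e => rfl
  | add y z hy hz => simp only [map_add, hy, hz]

end helpers2

/-- Let E be a left module over an associative algebra D over a field K of characteristic zero. For a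
field extension L of K, the base change L ⊗_K E is a module over L ⊗_K D, i.e. an L-vector space
with a commuting action of D; call it irreducible when it is nonzero and its only L-subspaces stable
under every element of D are 0 and the whole space. Then E is absolutely irreducible (its base
change to an algebraic closure of K is irreducible) if and only if L ⊗_K E is irreducible for every
finite extension L of K. (Finite extensions are taken in the universe of K.) -/
theorem result
    {K : Type u} [Field K] [CharZero K]
    {D : Type v} [Ring D] [Algebra K D]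
    {E : Type w} [AddCommGroup E] [Module K E] [Module D E] [IsScalarTower K D E] :
    (Nontrivial (AlgebraicClosure K ⊗[K] E) ∧ ∀ N : Submodule (AlgebraicClosure K) (AlgebraicClosure K ⊗[K] E), (∀ (d : D) (x : AlgebraicClosure K ⊗[K] E), x ∈ N → (DistribSMul.toLinearMap K E d).baseChange (AlgebraicClosure K) x ∈ N) → N = ⊥ ∨ N = ⊤) ↔
      ∀ (L : Type u) [Field L] [Algebra K L] [FiniteDimensional K L],
        (Nontrivial (L ⊗[K] E) ∧ ∀ N : Submodule (L) (L ⊗[K] E), (∀ (d : D) (x : L ⊗[K] E), x ∈ N → (DistribSMul.toLinearMap K E d).baseChange (L) x ∈ N) → N = ⊥ ∨ N = ⊤) := by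
  classical
  constructor
  · intro h L _ _ _
    have σ : L →ₐ[K] AlgebraicClosure K := IsAlgClosed.lift
    exact irr_descend σ h
  · intro h
    have hK := h K
    have hE : Nontrivial E := exists_ne_of_nontrivial_tensor hK.1
    refine ⟨nontrivial_tensor, fun N hN => ?_⟩
    by_cases hbot : N = ⊥
    · exact Or.inl hbot
    right
    obtain ⟨x, hxN, hx0⟩ := (Submodule.ne_bot_iff N).mp hbot
    have hdesc : ∀ x : AlgebraicClosure K ⊗[K] E,
        ∃ (L : IntermediateField K (AlgebraicClosure K)), FiniteDimensional K L ∧
          ∃ xL : L ⊗[K] E, iota L.val E xL = x := by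
      intro x
      induction x using TensorProduct.induction_on with
      | zero => exact ⟨⊥, inferInstance, 0, map_zero _⟩
      | tmul c e =>
        exact ⟨IntermediateField.adjoin K {c},
          IntermediateField.adjoin.finiteDimensional (Algebra.IsIntegral.isIntegral c),
          ⟨c, IntermediateField.mem_adjoin_simple_self K c⟩ ⊗ₜ e, rfl⟩
      | add y z hy hz =>
        obtain ⟨L1, h1, y1, rfl⟩ := hy
        obtain ⟨L2, h2, z2, rfl⟩ := hz
        refine ⟨L1 ⊔ L2, inferInstance,
          iota (IntermediateField.inclusion (le_sup_left : L1 ≤ L1 ⊔ L2)) E y1 +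
            iota (IntermediateField.inclusion (le_sup_right : L2 ≤ L1 ⊔ L2)) E z2, ?_⟩
        rw [map_add, iota_comp, iota_comp]
        rfl
    obtain ⟨L, hLfin, xL, rfl⟩ := hdesc x
    obtain ⟨-, hLirr⟩ := h L
    let NL : Submodule L (L ⊗[K] E) :=
      { carrier := {y | iota L.val E y ∈ N}
        add_mem' := fun {a b} ha hb => by
          show iota L.val E (a + b) ∈ N
          rw [map_add]
          exact N.add_mem ha hb
        zero_mem' := by
          show iota L.val E 0 ∈ N
          rw [map_zero]
          exact N.zero_mem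
        smul_mem' := fun l y hy => by
          show iota L.val E (l • y) ∈ N
          rw [iota_smul]
          exact N.smul_mem _ hy }
    have hNL : NL = ⊤ := by
      rcases hLirr NL (fun d y hy => by
        show iota L.val E _ ∈ N
        rw [iota_act]
        exact hN d _ hy) with h' | h'
      · exfalso
        have : xL ∈ NL := hxN
        rw [h', Submodule.mem_bot] at this
        exact hx0 (by rw [this, map_zero])
      · exact h'
    rw [eq_top_iff]
    intro z _
    induction z using TensorProduct.induction_on with
    | zero => exact N.zero_mem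
    | tmul c e =>
      have : (1 : L) ⊗ₜ[K] e ∈ NL := by rw [hNL]; trivial
      have h1 : iota L.val E ((1 : L) ⊗ₜ[K] e) ∈ N := this
      rw [iota_tmul, map_one] at h1
      have := N.smul_mem c h1
      rwa [TensorProduct.smul_tmul', smul_eq_mul, mul_one] at this
    | add y z hy hz => exact N.add_mem (hy trivial) (hz trivial)

end Groth.Agent.S18794
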