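import Groth.Statements.S18795
import Mathlib

set_option autoImplicit false
universe u v w
open scoped TensorProduct
open DefMod

namespace Groth.Agent.S18795

/-- Let E be a left module over an associative algebra D over a field K of characteristic zero. Assume
that the D-linear endomorphisms of E form a finite-dimensional K-vector space, that E has a finite
presentation over D, and that E is absolutely irreducible: its base change K̄ ⊗_K E to an algebraic
closure K̄ of K is nonzero and its only K̄-subspaces stable under every element of D are 0 and the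
whole space. Then End_D(E) = K: every D-linear endomorphism of E is multiplication by a scalar from
K. -/
theorem result
    {K : Type u} [Field K] [CharZero K]
    {D : Type v} [Ring D] [Algebra K D]
    {E : Type w} [AddCommGroup E] [Module K E] [Module D E] [IsScalarTower K D E]
    [Module.Finite K (E →ₗ[D] E)] [Module.FinitePresentation D E]
    (habs : (Nontrivial (AlgebraicClosure K ⊗[K] E) ∧ ∀ N : Submodule (AlgebraicClosure K) (AlgebraicClosure K ⊗[K] E), (∀ (d : D) (x : AlgebraicClosure K ⊗[K] E), x ∈ N → (DistribSMul.toLinearMap K E d).baseChange (AlgebraicClosure K) x ∈ N) → N = ⊥ ∨ N = ⊤))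
    (φ : E →ₗ[D] E) : ∃ c : K, ∀ x : E, φ x = c • x := by
  classical
  obtain ⟨hnt, hirr⟩ := habs
  -- integrality of φ
  have hint : IsIntegral K φ := by
    have : Algebra.IsIntegral K (Module.End D E) :=
      Algebra.IsIntegral.of_finite K (Module.End D E)
    exact Algebra.IsIntegral.isIntegral φ
  obtain ⟨μ, hμm, hμ⟩ := hint
  let ρ : Module.End D E →ₐ[K] Module.End K E :=
    { toFun := fun f => f.restrictScalars K
      map_one' := rfl
      map_mul' := fun _ _ => rfl
      map_zero' := rfl
      map_add' := fun _ _ => rfl
      commutes' := fun c => by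
        ext x
        simp [Module.algebraMap_end_apply] }
  let β := Module.End.baseChangeHom K (AlgebraicClosure K) E
  let ψ : Module.End (AlgebraicClosure K) (AlgebraicClosure K ⊗[K] E) := β (ρ φ)
  have hψtmul : ∀ (q : AlgebraicClosure K) (x : E), ψ (q ⊗ₜ[K] x) = q ⊗ₜ[K] φ x := by
    intro q x
    rfl
  have hμψ : Polynomial.aeval ψ (μ.map (algebraMap K (AlgebraicClosure K))) = 0 := by
    rw [Polynomial.aeval_map_algebraMap]
    have h1 : Polynomial.aeval φ μ = 0 := hμ
    have h2 : Polynomial.aeval ψ μ = (β.comp ρ) (Polynomial.aeval φ μ) :=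
      Polynomial.aeval_algHom_apply (β.comp ρ) φ μ
    rw [h2, h1, map_zero]
  have hsplit := (IsAlgClosed.splits (μ.map (algebraMap K (AlgebraicClosure K)))).eq_prod_roots_of_monic
    (hμm.map _)
  -- eigenvector extraction
  have hmulti : ∀ s : Multiset (AlgebraicClosure K), ∀ x : AlgebraicClosure K ⊗[K] E, x ≠ 0 →
      Polynomial.aeval ψ ((s.map fun a => Polynomial.X - Polynomial.C a).prod) x = 0 →
      ∃ a ∈ s, ∃ y : AlgebraicClosure K ⊗[K] E, y ≠ 0 ∧ ψ y = a • y := by
    intro s
    induction s using Multiset.induction_on with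
    | empty =>
      intro x hx h
      simp at h
      exact absurd h hx
    | cons a s ih =>
      intro x hx h
      rw [Multiset.map_cons, Multiset.prod_cons, map_mul, Module.End.mul_apply] at h
      by_cases hy : Polynomial.aeval ψ ((s.map fun a => Polynomial.X - Polynomial.C a).prod) x = 0
      · obtain ⟨a', ha', y, hy0, hya⟩ := ih x hx hy
        exact ⟨a', Multiset.mem_cons_of_mem ha', y, hy0, hya⟩
      · refine ⟨a, Multiset.mem_cons_self a s, _, hy, ?_⟩
        simp only [map_sub, Polynomial.aeval_X, Polynomial.aeval_C, LinearMap.sub_apply,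
          Module.algebraMap_end_apply] at h
        exact sub_eq_zero.mp h
  obtain ⟨x0, hx0⟩ := exists_ne (0 : AlgebraicClosure K ⊗[K] E)
  obtain ⟨a, -, y, hy0, hya⟩ := hmulti _ x0 hx0 (by rw [← hsplit, hμψ]; rfl)
  -- the eigenspace is stable
  have hcommD : ∀ (d : D) (z : AlgebraicClosure K ⊗[K] E),
      ψ ((DistribSMul.toLinearMap K E d).baseChange (AlgebraicClosure K) z) =
        (DistribSMul.toLinearMap K E d).baseChange (AlgebraicClosure K) (ψ z) := by
    intro d z
    induction z using TensorProduct.induction_on with
    | zero => simp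
    | tmul q x =>
      simp only [LinearMap.baseChange_tmul, hψtmul, DistribSMul.toLinearMap_apply, map_smul]
    | add z w hz hw => simp only [map_add, hz, hw]
  have hN := hirr (Module.End.eigenspace ψ a) (by
    intro d z hz
    rw [Module.End.mem_eigenspace_iff] at hz ⊢
    rw [hcommD, hz, map_smul])
  have hNtop : Module.End.eigenspace ψ a = ⊤ := by
    rcases hN with h | h
    · exfalso
      apply hy0
      have : y ∈ Module.End.eigenspace ψ a := Module.End.mem_eigenspace_iff.mpr hya
      rw [h] at this
      simpa using this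
    · exact h
  have hψ : ∀ z, ψ z = a • z := by
    intro z
    have : z ∈ Module.End.eigenspace ψ a := by rw [hNtop]; trivial
    exact Module.End.mem_eigenspace_iff.mp this
  -- a nonzero vector of E
  have hE : ∃ e : E, e ≠ 0 := by
    by_contra h
    push Not at h
    have hall : ∀ z : AlgebraicClosure K ⊗[K] E, z = 0 := by
      intro z
      induction z using TensorProduct.induction_on with
      | zero => rfl
      | tmul q x => rw [h x, TensorProduct.tmul_zero]
      | add z w hz hw => rw [hz, hw, add_zero]
    exact hx0 (hall x0)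
  obtain ⟨e, he⟩ := hE
  obtain ⟨f, hfe, -⟩ := Submodule.exists_dual_map_eq_bot_of_notMem (R := K) (p := (⊥ : Submodule K E))
    (x := e) (by simpa using he) inferInstance
  let T : AlgebraicClosure K ⊗[K] E →ₗ[K] AlgebraicClosure K :=
    TensorProduct.lift (LinearMap.mk₂ K (fun q x => f x • q)
      (fun q q' x => by simp only [smul_add])
      (fun c q x => smul_comm _ _ _)
      (fun q x x' => by simp only [map_add, add_smul])
      (fun c q x => by simp only [map_smul, smul_eq_mul, mul_smul]))
  have hT : ∀ q x, T (q ⊗ₜ[K] x) = f x • q := fun q x => rfl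
  have ha : a = algebraMap K (AlgebraicClosure K) (f (φ e) / f e) := by
    have h1 : ψ ((1 : AlgebraicClosure K) ⊗ₜ[K] e) = a • ((1 : AlgebraicClosure K) ⊗ₜ[K] e) := hψ _
    rw [hψtmul, TensorProduct.smul_tmul', smul_eq_mul, mul_one] at h1
    have h2 := congrArg T h1
    rw [hT, hT] at h2
    rw [Algebra.algebraMap_eq_smul_one, div_eq_inv_mul, mul_smul, h2, smul_smul,
      inv_mul_cancel₀ hfe, one_smul]
  refine ⟨f (φ e) / f e, fun x => ?_⟩
  apply Module.FaithfullyFlat.tensorProduct_mk_injective (A := K) (B := AlgebraicClosure K) E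
  show (1 : AlgebraicClosure K) ⊗ₜ[K] φ x = (1 : AlgebraicClosure K) ⊗ₜ[K] ((f (φ e) / f e) • x)
  rw [← hψtmul, hψ, ha, TensorProduct.smul_tmul', Algebra.algebraMap_eq_smul_one, smul_assoc,
    one_smul, TensorProduct.smul_tmul]

end Groth.Agent.S18795
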