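import Groth.Statements.S18796
import Mathlib

set_option autoImplicit false
universe u v w w' u'
open scoped TensorProduct
open DefMod

namespace Groth.Agent.S18796

/-- Let K be a field of characteristic zero, D an associative K-algebra, E a left D-module that is
finitely presented over D, F a left D-module and P a commutative K-algebra. The canonical P-linear
map Φ : P ⊗_K Hom_D(E, F) → Hom_P(P ⊗_K E, P ⊗_K F), determined by p ⊗ f ↦ p · (1_P ⊗ f), is
injective, and its image consists exactly of the P-linear maps that commute with the action of every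
element of D; in other words Φ identifies P ⊗_K Hom_D(E, F) with the module of homomorphisms P ⊗_K E
→ P ⊗_K F over P ⊗_K D. The map Φ is pinned here by its values on pure tensors. -/
theorem result
    {K : Type u} [Field K] [CharZero K]
    {D : Type v} [Ring D] [Algebra K D]
    {E : Type w} [AddCommGroup E] [Module K E] [Module D E] [IsScalarTower K D E]
    [Module.FinitePresentation D E]
    {F : Type w'} [AddCommGroup F] [Module K F] [Module D F] [IsScalarTower K D F]
    (P : Type u') [CommRing P] [Algebra K P]
    (Φ : P ⊗[K] (E →ₗ[D] F) →ₗ[P] (P ⊗[K] E →ₗ[P] P ⊗[K] F))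
    (hΦ : ∀ (p : P) (f : E →ₗ[D] F), Φ (p ⊗ₜ[K] f) = p • (f.restrictScalars K).baseChange P) :
    Function.Injective Φ ∧
      ∀ g : P ⊗[K] E →ₗ[P] P ⊗[K] F,
        g ∈ LinearMap.range Φ ↔
          ∀ d : D, g ∘ₗ (DistribSMul.toLinearMap K E d).baseChange P =
            (DistribSMul.toLinearMap K F d).baseChange P ∘ₗ g := by
  classical
  let ι := Module.Free.ChooseBasisIndex K P
  let b : Module.Basis ι K P := Module.Free.chooseBasis K P
  let εF : P ⊗[K] F ≃ₗ[K] ι →₀ F := TensorProduct.equivFinsuppOfBasisLeft b
  let εH : P ⊗[K] (E →ₗ[D] F) ≃ₗ[K] ι →₀ (E →ₗ[D] F) :=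
    TensorProduct.equivFinsuppOfBasisLeft b
  -- key formula
  have key : ∀ (t : P ⊗[K] (E →ₗ[D] F)) (e : E) (α : ι),
      εF (Φ t ((1 : P) ⊗ₜ[K] e)) α = (εH t α) e := by
    intro t e α
    induction t using TensorProduct.induction_on with
    | zero => simp
    | tmul p f =>
      rw [hΦ]
      simp only [LinearMap.smul_apply, LinearMap.baseChange_tmul, TensorProduct.smul_tmul',
        smul_eq_mul, mul_one, εF, εH, TensorProduct.equivFinsuppOfBasisLeft_apply_tmul_apply,
        LinearMap.coe_restrictScalars, LinearMap.smul_apply]
    | add x y hx hy =>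
      simp only [map_add, LinearMap.add_apply, Finsupp.coe_add, Pi.add_apply, hx, hy]
  -- the D-action commutes with εF
  have hcomm : ∀ (d : D) (x : P ⊗[K] F) (α : ι),
      εF ((DistribSMul.toLinearMap K F d).baseChange P x) α = d • (εF x α) := by
    intro d x α
    induction x using TensorProduct.induction_on with
    | zero => simp
    | tmul p y =>
      simp only [LinearMap.baseChange_tmul, εF,
        TensorProduct.equivFinsuppOfBasisLeft_apply_tmul_apply, DistribSMul.toLinearMap_apply]
      rw [smul_comm]
    | add x y hx hy =>
      simp only [map_add, Finsupp.coe_add, Pi.add_apply, hx, hy, smul_add]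
  -- range elements commute
  have hrange : ∀ (t : P ⊗[K] (E →ₗ[D] F)) (d : D),
      Φ t ∘ₗ (DistribSMul.toLinearMap K E d).baseChange P =
        (DistribSMul.toLinearMap K F d).baseChange P ∘ₗ Φ t := by
    intro t d
    induction t using TensorProduct.induction_on with
    | zero => simp
    | tmul p f =>
      rw [hΦ]
      apply TensorProduct.AlgebraTensorModule.ext
      intro q e
      simp only [LinearMap.comp_apply, LinearMap.smul_apply, LinearMap.baseChange_tmul,
        DistribSMul.toLinearMap_apply, LinearMap.coe_restrictScalars, map_smul]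
    | add x y hx hy =>
      rw [map_add, LinearMap.add_comp, LinearMap.comp_add, hx, hy]
  refine ⟨?_, ?_⟩
  · -- injectivity
    rw [injective_iff_map_eq_zero]
    intro t ht
    apply εH.injective
    rw [map_zero]
    ext α e
    rw [← key, ht]
    simp
  · intro g
    constructor
    · rintro ⟨t, rfl⟩ d
      exact hrange t d
    · intro hg
      -- components of g
      let gα : ι → (E →ₗ[D] F) := fun α =>
        { toFun := fun e => εF (g ((1 : P) ⊗ₜ[K] e)) α
          map_add' := by
            intro x y
            simp only [TensorProduct.tmul_add, map_add, Finsupp.coe_add, Pi.add_apply]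
          map_smul' := by
            intro d e
            have h1 : g ((1 : P) ⊗ₜ[K] (d • e)) =
                (DistribSMul.toLinearMap K F d).baseChange P (g ((1 : P) ⊗ₜ[K] e)) := by
              have := LinearMap.congr_fun (hg d) ((1 : P) ⊗ₜ[K] e)
              simpa only [LinearMap.comp_apply, LinearMap.baseChange_tmul,
                DistribSMul.toLinearMap_apply] using this
            simp only [RingHom.id_apply]
            rw [h1, hcomm] }
      obtain ⟨S, hS⟩ := (Module.Finite.fg_top : (⊤ : Submodule D E).FG)
      let A : Finset ι := S.biUnion fun e => (εF (g ((1 : P) ⊗ₜ[K] e))).support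
      have hA : ∀ α, α ∉ A → gα α = 0 := by
        intro α hα
        apply LinearMap.ext_on hS
        intro e he
        have : α ∉ (εF (g ((1 : P) ⊗ₜ[K] e))).support := by
          intro h
          exact hα (Finset.mem_biUnion.mpr ⟨e, he, h⟩)
        simpa [gα, Finsupp.mem_support_iff] using this
      refine ⟨∑ α ∈ A, b α ⊗ₜ[K] gα α, ?_⟩
      apply TensorProduct.AlgebraTensorModule.ext
      intro p e
      have hp : p ⊗ₜ[K] e = p • ((1 : P) ⊗ₜ[K] e) := by
        rw [TensorProduct.smul_tmul', smul_eq_mul, mul_one]
      rw [hp, map_smul, map_smul]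
      congr 1
      apply εF.injective
      ext α
      rw [key]
      have : εH (∑ α ∈ A, b α ⊗ₜ[K] gα α) α = gα α := by
        rw [map_sum, Finsupp.finsetSum_apply]
        by_cases hα : α ∈ A
        · rw [Finset.sum_eq_single α]
          · simp [εH, TensorProduct.equivFinsuppOfBasisLeft_apply_tmul_apply]
          · intro β _ hβ
            simp [εH, TensorProduct.equivFinsuppOfBasisLeft_apply_tmul_apply,
              Finsupp.single_apply, hβ]
          · intro h; exact absurd hα h
        · rw [hA α hα]
          refine Finset.sum_eq_zero fun β hβ => ?_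
          have : β ≠ α := fun h => hα (h ▸ hβ)
          simp [εH, TensorProduct.equivFinsuppOfBasisLeft_apply_tmul_apply,
            Finsupp.single_apply, this]
      rw [this]
      rfl

end Groth.Agent.S18796
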