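import Groth.Statements.S18802
import Mathlib

set_option autoImplicit false
universe u v w w' w''
open DefMod

namespace Groth.Agent.S18802

/-- Let K be a field of characteristic zero, D an associative K-algebra and E, F left D-modules. A
K-linear map s : D → Hom_K(E, F) with s(ab)(e) = a s(b)(e) + s(a)(b e) (a derivation into the
bimodule Hom_K(E, F), i.e. a Hochschild 1-cocycle) defines the twisted sum F ⊕_s E = F × E with a ·
(f, e) = (a f + s(a) e, a e), an extension of E by F. Every extension of left D-modules 0 → F → Q →
E → 0 arises this way: there are such an s and a D-linear isomorphism Q ≅ F ⊕_s E carrying the given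
map F → Q to the inclusion f ↦ (f, 0) and compatible with the two projections onto E. (Together with
the splitting criterion this identifies derivations modulo principal derivations with Ext¹_D(E, F);
the compatibility of that identification with addition and scalars is not restated.) -/
theorem result
    {K : Type u} [Field K] [CharZero K]
    {D : Type v} [Ring D] [Algebra K D]
    {E : Type w} [AddCommGroup E] [Module K E] [Module D E] [IsScalarTower K D E]
    {F : Type w'} [AddCommGroup F] [Module K F] [Module D F] [IsScalarTower K D F]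
    {Q : Type w''} [AddCommGroup Q] [Module D Q]
    (i : F →ₗ[D] Q) (p : Q →ₗ[D] E) (hi : Function.Injective i) (hp : Function.Surjective p)
    (hex : Function.Exact i p) :
    ∃ (s : D →ₗ[K] E →ₗ[K] F) (hs : W4c6defoisocp1.IsHomDerivation s) (Φ : Q ≃ₗ[D] W4c6defoisocp1.TwistExt s hs),
      (∀ f : F, Φ (i f) = W4c6defoisocp1.TwistExt.inl f) ∧ ∀ q : Q, W4c6defoisocp1.TwistExt.snd (Φ q) = p q := by
  letI : Module K Q := Module.compHom Q (algebraMap K D)
  haveI : IsScalarTower K D Q := ⟨fun c a q => by
    rw [Algebra.smul_def, mul_smul]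
    rfl⟩
  -- `p` as a `K`-linear map and a `K`-linear section
  let pK : Q →ₗ[K] E := p.restrictScalars K
  obtain ⟨t, ht⟩ := LinearMap.exists_rightInverse_of_surjective pK
    (LinearMap.range_eq_top.mpr hp)
  have htp : ∀ e, p (t e) = e := fun e => LinearMap.congr_fun ht e
  -- preimages under `i`
  have hker : ∀ q : Q, p q = 0 → ∃ f : F, i f = q := fun q hq => (hex q).mp hq
  let iK : F →ₗ[K] Q := i.restrictScalars K
  let j : LinearMap.range iK ≃ₗ[K] F := (LinearEquiv.ofInjective iK hi).symm
  have hj : ∀ (q : Q) (hq : q ∈ LinearMap.range iK), i (j ⟨q, hq⟩) = q := by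
    intro q hq
    have := (LinearEquiv.ofInjective iK hi).apply_symm_apply ⟨q, hq⟩
    exact congrArg Subtype.val this
  have hmemS : ∀ (a : D) (e : E), a • t e - t (a • e) ∈ LinearMap.range iK := by
    intro a e
    obtain ⟨f, hf⟩ := hker (a • t e - t (a • e)) (by
      rw [map_sub, map_smul, htp, htp, sub_self])
    exact ⟨f, hf⟩
  have hmemQ : ∀ q : Q, q - t (p q) ∈ LinearMap.range iK := by
    intro q
    obtain ⟨f, hf⟩ := hker (q - t (p q)) (by rw [map_sub, htp, sub_self])
    exact ⟨f, hf⟩
  -- the cocycle
  let s₀ : D → E → F := fun a e => j ⟨a • t e - t (a • e), hmemS a e⟩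
  have hs₀ : ∀ a e, i (s₀ a e) = a • t e - t (a • e) := fun a e => hj _ _
  let s : D →ₗ[K] E →ₗ[K] F :=
    { toFun := fun a =>
        { toFun := fun e => s₀ a e
          map_add' := by
            intro e e'
            apply hi
            rw [map_add, hs₀, hs₀, hs₀, map_add, smul_add, smul_add, map_add]
            abel
          map_smul' := by
            intro c e
            apply hi
            have h1 : i (c • s₀ a e) = c • i (s₀ a e) := iK.map_smul c _
            rw [RingHom.id_apply, h1, hs₀, hs₀, map_smul, smul_sub, smul_comm a c (t e),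
              smul_comm a c e, map_smul] }
      map_add' := by
        intro a b
        ext e
        apply hi
        change i (s₀ (a + b) e) = i (s₀ a e + s₀ b e)
        rw [map_add, hs₀, hs₀, hs₀, add_smul, add_smul, map_add]
        abel
      map_smul' := by
        intro c a
        ext e
        apply hi
        change i (s₀ (c • a) e) = i (c • s₀ a e)
        have h1 : i (c • s₀ a e) = c • i (s₀ a e) := iK.map_smul c _
        rw [h1, hs₀, hs₀, smul_sub, smul_assoc, smul_assoc, map_smul] }
  have hsapp : ∀ a e, s a e = s₀ a e := fun _ _ => rfl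
  have hs : W4c6defoisocp1.IsHomDerivation s := by
    intro a b e
    apply hi
    rw [map_add, map_smul, hsapp, hsapp, hsapp, hs₀, hs₀, hs₀, smul_sub, mul_smul, mul_smul]
    abel
  -- the isomorphism
  let Φ₀ : Q → W4c6defoisocp1.TwistExt s hs := fun q =>
    W4c6defoisocp1.TwistExt.mk (j ⟨q - t (p q), hmemQ q⟩, p q)
  have hΦ₀ : ∀ q, i (W4c6defoisocp1.TwistExt.val (Φ₀ q)).1 = q - t (p q) := fun q => hj _ _
  let Φ : Q ≃ₗ[D] W4c6defoisocp1.TwistExt s hs :=
    { toFun := Φ₀
      map_add' := by
        intro q q'
        apply W4c6defoisocp1.TwistExt.ext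
        · apply hi
          rw [hΦ₀]
          have h0 : (W4c6defoisocp1.TwistExt.val (Φ₀ q + Φ₀ q')).1 =
              (W4c6defoisocp1.TwistExt.val (Φ₀ q)).1 + (W4c6defoisocp1.TwistExt.val (Φ₀ q')).1 := rfl
          rw [h0, i.map_add, hΦ₀, hΦ₀, p.map_add, t.map_add]
          abel
        · change p (q + q') = p q + p q'
          rw [map_add]
      map_smul' := by
        intro a q
        apply W4c6defoisocp1.TwistExt.ext
        · apply hi
          rw [hΦ₀, RingHom.id_apply]
          have h0 : (W4c6defoisocp1.TwistExt.val (a • Φ₀ q)).1 =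
              a • (W4c6defoisocp1.TwistExt.val (Φ₀ q)).1 + s a (p q) := rfl
          rw [h0, i.map_add, i.map_smul, hΦ₀, hsapp, hs₀, p.map_smul, smul_sub]
          abel
        · change p (a • q) = a • p q
          rw [map_smul]
      invFun := fun x => i (W4c6defoisocp1.TwistExt.val x).1 + t (W4c6defoisocp1.TwistExt.val x).2
      left_inv := by
        intro q
        change i (W4c6defoisocp1.TwistExt.val (Φ₀ q)).1 + t (p q) = q
        rw [hΦ₀]
        abel
      right_inv := by
        intro x
        have hp1 : p (i (W4c6defoisocp1.TwistExt.val x).1 + t (W4c6defoisocp1.TwistExt.val x).2) =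
            (W4c6defoisocp1.TwistExt.val x).2 := by
          rw [map_add, htp, (hex _).mpr ⟨_, rfl⟩, zero_add]
        apply W4c6defoisocp1.TwistExt.ext
        · apply hi
          rw [hΦ₀, hp1, add_sub_cancel_right]
        · exact hp1 }
  refine ⟨s, hs, Φ, ?_, ?_⟩
  · intro f
    have hpf : p (i f) = 0 := (hex _).mpr ⟨f, rfl⟩
    apply W4c6defoisocp1.TwistExt.ext
    · apply hi
      change i (W4c6defoisocp1.TwistExt.val (Φ₀ (i f))).1 = _
      rw [hΦ₀, hpf, map_zero, sub_zero]
      rfl
    · exact hpf
  · intro q
    rfl

end Groth.Agent.S18802
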