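import Groth.Statements.S18810
import Mathlib
import Groth.Agent.Lib.Helper9.Comod

set_option autoImplicit false
universe u v v' w w' x
open TensorProduct
open HopfRep

namespace Groth.Agent.S18810

/-- Let k be a field, C a k-coalgebra, V a right C-comodule and (S_j) a family of simple C-comodules
which are pairwise non-isomorphic (for j ≠ j' no k-linear isomorphism S_j ≃ S_j' commutes with the
coactions). For each j let V[j] be the isotypic component of type S_j: the sum of the images of all
comodule maps S_j → V (equivalently of all simple subcomodules of V isomorphic to S_j, a nonzero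
such map being injective). Then the family j ↦ V[j] is independent, so that the socle of V is the
direct sum of its isotypic components. (The source states this for representations of an affine
monoid scheme over k, i.e. left comodules over its coordinate bialgebra; the row is the
right-comodule form over any coalgebra.) -/
theorem result (k : Type u) [Field k]
    (C : Type v) [AddCommGroup C] [Module k C] [Coalgebra k C]
    (V : Type w) [AddCommGroup V] [Module k V] [HopfRep.Comod k C V]
    {ι : Type x} (S : ι → Type w') [∀ j, AddCommGroup (S j)] [∀ j, Module k (S j)]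
    [∀ j, HopfRep.Comod k C (S j)] (hS : ∀ j, HopfRep.IsSimpleComod k C (S j))
    (hne : ∀ j j', j ≠ j' → ∀ e : S j ≃ₗ[k] S j', ¬ Hoch.IsComodHom C (e : S j →ₗ[k] S j')) :
    iSupIndep (fun j => ⨆ f : {f : S j →ₗ[k] V // Hoch.IsComodHom C f}, LinearMap.range f.1) := by
  classical
  intro j
  rw [disjoint_iff]
  by_contra hne0
  -- the intersection is a subcomodule
  have hWsub : ∀ j, HopfRep.IsSubcomod (k := k) (A := C)
      (⨆ f : {f : S j →ₗ[k] V // Hoch.IsComodHom C f}, LinearMap.range f.1) := fun j =>
    Groth.Agent.H9.Comod.isSubcomod_iSup _ fun f => Groth.Agent.H9.Comod.isSubcomod_range f.2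
  have hZsub : HopfRep.IsSubcomod (k := k) (A := C)
      ((⨆ f : {f : S j →ₗ[k] V // Hoch.IsComodHom C f}, LinearMap.range f.1) ⊓
        ⨆ (j') (_ : j' ≠ j), ⨆ f : {f : S j' →ₗ[k] V // Hoch.IsComodHom C f},
          LinearMap.range f.1) :=
    Groth.Agent.H9.Comod.isSubcomod_inf _ _ (hWsub j)
      (Groth.Agent.H9.Comod.isSubcomod_iSup _ fun j' =>
        Groth.Agent.H9.Comod.isSubcomod_iSup _ fun _ => hWsub j')
  obtain ⟨T, hTle, hT⟩ := Groth.Agent.H9.Comod.exists_simpleSub_le _ hZsub hne0
  -- first iso
  obtain ⟨f₁, e₁, he₁⟩ := hT.exists_comodIso_of_le_iSup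
    (fun _ : {f : S j →ₗ[k] V // Hoch.IsComodHom C f} => S j) (fun _ => hS j)
    (fun f => f.1) (fun f => f.2) (hTle.trans inf_le_left)
  -- second iso
  have hle2 : T ≤ ⨆ x : (Σ j' : {j' // j' ≠ j}, {f : S j'.1 →ₗ[k] V // Hoch.IsComodHom C f}),
      LinearMap.range x.2.1 := by
    refine (hTle.trans inf_le_right).trans ?_
    apply iSup_le
    intro j'
    apply iSup_le
    intro hj'
    apply iSup_le
    intro f
    exact le_iSup (fun x : (Σ j' : {j' // j' ≠ j},
      {f : S j'.1 →ₗ[k] V // Hoch.IsComodHom C f}) => LinearMap.range x.2.1) ⟨⟨j', hj'⟩, f⟩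
  obtain ⟨x₂, e₂, he₂⟩ := hT.exists_comodIso_of_le_iSup
    (fun x : (Σ j' : {j' // j' ≠ j}, {f : S j'.1 →ₗ[k] V // Hoch.IsComodHom C f}) => S x.1.1)
    (fun x => hS x.1.1) (fun x => x.2.1) (fun x => x.2.2) hle2
  letI := ComodSub.Comod.restr (inferInstance : HopfRep.Comod k C V) T hT.1
  apply hne j x₂.1.1 (Ne.symm x₂.1.2) (e₁.symm.trans e₂)
  exact Groth.Agent.H9.Comod.isComodHom_comp he₂ (Groth.Agent.H9.Comod.isComodHom_symm e₁ he₁)

end Groth.Agent.S18810
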