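import Groth.Statements.S18813
import Mathlib
import Groth.Agent.Lib.Helper9.ComodIntegralBC

set_option autoImplicit false
universe u
open scoped TensorProduct
open HopfRep

namespace Groth.Agent.S18813

/-- Let k be a field, K a field extension of k and A a commutative Hopf algebra over k, the coordinate
ring of an affine group scheme G (no finiteness assumed). Then G is linearly reductive (every
finite-dimensional A-comodule is semisimple) if and only if the base change G_K is (every
finite-dimensional comodule over the K-Hopf algebra K ⊗_k A is semisimple). (The source phrases both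
sides as semisimplicity of all representations, which over a field is equivalent to semisimplicity
of the finite-dimensional ones since every comodule is the union of its finite-dimensional
subcomodules.) -/
theorem result (k K A : Type u) [Field k] [Field K]
    [Algebra k K] [CommRing A] [HopfAlgebra k A] :
    HopfRep.IsLinearlyReductive k A ↔ HopfRep.IsLinearlyReductive K (K ⊗[k] A) := by
  constructor
  · intro hG
    have hA : HopfRep.IsSemisimpleComod k A A :=
      Groth.Agent.H9.Comod.isSemisimpleComod_of_fd_semisimple (fun X _ _ _ hX => hG X hX)
    obtain ⟨α, hα, h1⟩ := Groth.Agent.H9.Integral.exists_integral hA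
    intro V _ _ _ _
    exact Groth.Agent.H9.Integral.isSemisimpleComod_of_integral
      (Groth.Agent.H9.Integral.isIntegral_alphaK (K := K) hα)
      (Groth.Agent.H9.Integral.alphaK_one h1)
  · intro hG
    have hA : HopfRep.IsSemisimpleComod K (K ⊗[k] A) (K ⊗[k] A) :=
      Groth.Agent.H9.Comod.isSemisimpleComod_of_fd_semisimple (fun X _ _ _ hX => hG X hX)
    obtain ⟨β, hβ, h1⟩ := Groth.Agent.H9.Integral.exists_integral hA
    obtain ⟨π, hπ⟩ := LinearMap.exists_leftInverse_of_injective (Algebra.linearMap k K)
      (LinearMap.ker_eq_bot.mpr (algebraMap k K).injective)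
    have hπ1 : π 1 = 1 := by
      have := LinearMap.congr_fun hπ 1
      simpa using this
    intro V _ _ _ _
    refine Groth.Agent.H9.Integral.isSemisimpleComod_of_integral
      (Groth.Agent.H9.Integral.isIntegral_alphaDesc hβ π) ?_
    rw [Groth.Agent.H9.Integral.alphaDesc_apply]
    rw [show (1 : K) ⊗ₜ[k] (1 : A) = (1 : K ⊗[k] A) from rfl, h1, hπ1]

end Groth.Agent.S18813
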