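import Groth.Statements.S18814
import Mathlib
import Groth.Agent.Lib.Helper9.Comod

set_option autoImplicit false
universe u v v' w w'
open TensorProduct
open HopfRep

namespace Groth.Agent.S18814

/-- Let k be a field, C and D commutative bialgebras over k (coordinate rings of affine monoid schemes M
and N) and V a k-vector space carrying a right C-comodule structure with coaction ρ_C : V → V ⊗ C
and a right D-comodule structure with coaction ρ_D : V → V ⊗ D which commute: (ρ_C ⊗ id_D) ∘ ρ_D and
(ρ_D ⊗ id_C) ∘ ρ_C agree in V ⊗ C ⊗ D after reassociating and swapping the last two factors (the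
actions of M and N on V commute). Assume V is semisimple as a D-comodule. Then for every simple
D-comodule S the isotypic component of V of type S, the sum of the images of all D-comodule maps S →
V, is a C-subcomodule of V. (The source works with left comodules; this is the right-comodule form.) -/
theorem result (k : Type u) [Field k]
    (C : Type v) [CommRing C] [Bialgebra k C] (D : Type v') [CommRing D] [Bialgebra k D]
    (V : Type w) [AddCommGroup V] [Module k V] [HopfRep.Comod k C V] [HopfRep.Comod k D V]
    (hcomm : (TensorProduct.assoc k V C D).toLinearMap ∘ₗ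
        (HopfRep.Comod.coact (k := k) (A := C) (V := V)).rTensor D ∘ₗ HopfRep.Comod.coact (k := k) (A := D) =
      (TensorProduct.comm k D C).toLinearMap.lTensor V ∘ₗ (TensorProduct.assoc k V D C).toLinearMap ∘ₗ
        (HopfRep.Comod.coact (k := k) (A := D) (V := V)).rTensor C ∘ₗ HopfRep.Comod.coact (k := k) (A := C))
    (hV : HopfRep.IsSemisimpleComod k D V)
    (S : Type w') [AddCommGroup S] [Module k S] [HopfRep.Comod k D S] (hS : HopfRep.IsSimpleComod k D S) :
    HopfRep.IsSubcomod (k := k) (A := C)
      (⨆ f : {f : S →ₗ[k] V // Hoch.IsComodHom D f}, LinearMap.range f.1) := by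
  classical
  rw [Groth.Agent.H9.Comod.isSubcomod_iff_slice]
  intro u hu φ
  -- the slice operator
  let Tφ : V →ₗ[k] V := Groth.Agent.H9.Comod.slice φ ∘ₗ HopfRep.Comod.coact (k := k) (A := C)
  let σ : V ⊗[k] (C ⊗[k] D) →ₗ[k] V ⊗[k] D :=
    LinearMap.lTensor V ((TensorProduct.lid k D).toLinearMap ∘ₗ LinearMap.rTensor D φ)
  have hσ : ∀ (v : V) (c : C) (d : D), σ (v ⊗ₜ[k] (c ⊗ₜ[k] d)) = v ⊗ₜ[k] (φ c • d) := by
    intro v c d
    simp [σ]
  have ha' : ∀ (x : V ⊗[k] C) (d : D), σ (TensorProduct.assoc k V C D (x ⊗ₜ[k] d)) =
      (Groth.Agent.H9.Comod.slice φ x) ⊗ₜ[k] d := by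
    intro x d
    induction x using TensorProduct.induction_on with
    | zero => simp
    | tmul v c =>
      rw [TensorProduct.assoc_tmul, hσ, Groth.Agent.H9.Comod.slice_tmul, TensorProduct.smul_tmul]
    | add x y hx hy => simp only [TensorProduct.add_tmul, map_add, hx, hy]
  have ha : ∀ y : V ⊗[k] D, σ (TensorProduct.assoc k V C D
      ((HopfRep.Comod.coact (k := k) (A := C) (V := V)).rTensor D y)) = Tφ.rTensor D y := by
    intro y
    induction y using TensorProduct.induction_on with
    | zero => simp
    | tmul v d =>
      rw [LinearMap.rTensor_tmul, ha', LinearMap.rTensor_tmul]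
      rfl
    | add x y hx hy => simp only [map_add, hx, hy]
  have hb' : ∀ (y : V ⊗[k] D) (c : C), σ ((TensorProduct.comm k D C).toLinearMap.lTensor V
      (TensorProduct.assoc k V D C (y ⊗ₜ[k] c))) = φ c • y := by
    intro y c
    induction y using TensorProduct.induction_on with
    | zero => simp
    | tmul v d =>
      rw [TensorProduct.assoc_tmul, LinearMap.lTensor_tmul, LinearEquiv.coe_coe,
        TensorProduct.comm_tmul, hσ, TensorProduct.tmul_smul]
    | add x y hx hy => simp only [TensorProduct.add_tmul, map_add, hx, hy, smul_add]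
  have hb : ∀ x : V ⊗[k] C, σ ((TensorProduct.comm k D C).toLinearMap.lTensor V
      (TensorProduct.assoc k V D C
        ((HopfRep.Comod.coact (k := k) (A := D) (V := V)).rTensor C x))) =
      HopfRep.Comod.coact (k := k) (A := D) (Groth.Agent.H9.Comod.slice φ x) := by
    intro x
    induction x using TensorProduct.induction_on with
    | zero => simp
    | tmul v c =>
      rw [LinearMap.rTensor_tmul, hb', Groth.Agent.H9.Comod.slice_tmul, map_smul]
    | add x y hx hy => simp only [map_add, hx, hy]
  have hT : Hoch.IsComodHom D Tφ := by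
    rw [Groth.Agent.H9.Comod.isComodHom_iff]
    intro v
    have h := LinearMap.congr_fun hcomm v
    simp only [LinearMap.comp_apply, LinearEquiv.coe_coe] at h
    have h2 := congrArg σ h
    rw [ha] at h2
    rw [h2]
    exact (hb _).symm
  -- now the induction
  show Tφ u ∈ _
  induction hu using Submodule.iSup_induction' with
  | mem f x hx =>
    obtain ⟨s, rfl⟩ := hx
    have hf' : Hoch.IsComodHom D (Tφ ∘ₗ f.1) := Groth.Agent.H9.Comod.isComodHom_comp hT f.2
    exact (le_iSup (fun f : {f : S →ₗ[k] V // Hoch.IsComodHom D f} => LinearMap.range f.1)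
      ⟨Tφ ∘ₗ f.1, hf'⟩) ⟨s, rfl⟩
  | zero => rw [map_zero]; exact zero_mem _
  | add x y _ _ hx hy => rw [map_add]; exact Submodule.add_mem _ hx hy

end Groth.Agent.S18814
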