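import Groth.Statements.S18815
import Mathlib
import Groth.Agent.Lib.Helper9.Comod

set_option autoImplicit false
universe u v w w'
open TensorProduct
open HopfRep

namespace Groth.Agent.S18815

/-- Let k be a field, C a k-coalgebra and V, W simple right C-comodules (nonzero, with no subcomodules
other than 0 and the whole space). Then every k-linear map V → W commuting with the coactions is
either zero or bijective. (The source states this for irreducible representations of an affine
monoid scheme over k, i.e. left comodules over its coordinate bialgebra.) -/
theorem result (k : Type u) [Field k]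
    (C : Type v) [AddCommGroup C] [Module k C] [Coalgebra k C]
    (V : Type w) [AddCommGroup V] [Module k V] [HopfRep.Comod k C V] (hV : HopfRep.IsSimpleComod k C V)
    (W : Type w') [AddCommGroup W] [Module k W] [HopfRep.Comod k C W] (hW : HopfRep.IsSimpleComod k C W)
    (f : V →ₗ[k] W) (hf : Hoch.IsComodHom C f) :
    f = 0 ∨ Function.Bijective f := by
  obtain ⟨hVnt, hVs⟩ := hV
  obtain ⟨hWnt, hWs⟩ := hW
  rcases hVs (LinearMap.ker f) (Groth.Agent.H9.Comod.isSubcomod_ker hf) with h | h
  · rcases hWs (LinearMap.range f) (Groth.Agent.H9.Comod.isSubcomod_range hf) with h' | h'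
    · left
      exact LinearMap.range_eq_bot.mp h'
    · right
      exact ⟨LinearMap.ker_eq_bot.mp h, LinearMap.range_eq_top.mp h'⟩
  · left
    exact LinearMap.ker_eq_top.mp h

end Groth.Agent.S18815
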