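import Groth.Statements.S18818
import Mathlib
import Groth.Agent.Lib.Helper9.Comod

set_option autoImplicit false
universe u v w
open TensorProduct
open HopfRep

namespace Groth.Agent.S18818

/-- Let k be a field, C a k-coalgebra and V a right C-comodule which is semisimple in the sense that
every subcomodule has a complementary subcomodule (equivalently every injective comodule map into V
splits). Then V is completely reducible: V is the sum of its simple subcomodules, the nonzero
subcomodules W whose only subcomodules are 0 and W. (The source states this for representations of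
an affine monoid scheme over k, i.e. left comodules over its coordinate bialgebra; the converse
implication and the stability of the class under subobjects and quotients are not part of this row.) -/
theorem result (k : Type u) [Field k]
    (C : Type v) [AddCommGroup C] [Module k C] [Coalgebra k C]
    (V : Type w) [AddCommGroup V] [Module k V] [HopfRep.Comod k C V] (hV : HopfRep.IsSemisimpleComod k C V) :
    (⨆ W : {W : Submodule k V // HopfRep.IsSubcomod (k := k) (A := C) W ∧ W ≠ ⊥ ∧
        ∀ W' : Submodule k V, HopfRep.IsSubcomod (k := k) (A := C) W' → W' ≤ W → W' = ⊥ ∨ W' = W},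
      (W.1 : Submodule k V)) = ⊤ := by
  classical
  have hc : ComplementedLattice (Groth.Agent.H9.Comod.subLat k C V) :=
    (Groth.Agent.H9.Comod.isSemisimpleComod_iff k C V).mp hV
  have h1 : sSup {a : Groth.Agent.H9.Comod.subLat k C V | IsAtom a} = ⊤ := sSup_atoms_eq_top
  have h2 := congrArg (fun a : Groth.Agent.H9.Comod.subLat k C V => (a : Submodule k V)) h1
  simp only [CompleteSublattice.coe_sSup, CompleteSublattice.coe_top] at h2
  rw [eq_top_iff, ← h2]
  apply sSup_le
  rintro _ ⟨a, ha, rfl⟩
  have hs := (Groth.Agent.H9.Comod.isAtom_iff a).mp ha
  exact le_iSup (fun W : {W : Submodule k V // HopfRep.IsSubcomod (k := k) (A := C) W ∧ W ≠ ⊥ ∧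
        ∀ W' : Submodule k V, HopfRep.IsSubcomod (k := k) (A := C) W' → W' ≤ W → W' = ⊥ ∨ W' = W} =>
      (W.1 : Submodule k V)) ⟨(a : Submodule k V), hs⟩

end Groth.Agent.S18818
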