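import Groth.Statements.S18820
import Mathlib

set_option autoImplicit false
universe u
open CategoryTheory MonoidalCategory CartesianMonoidalCategory AlgebraicGeometry
open AlgGrp

namespace Groth.Agent.S18820

/-- Let k be a field, M a k-scheme (in the source a monoid k-scheme) acting on a k-scheme X through a :
M ×_k X → X, and z : Z → X a closed immersion which is surjective (a closed subscheme defined by an
ideal all of whose sections are nilpotent, e.g. the reduction of X), stable under the action: a_Z :
M ×_k Z → Z satisfies (id_M × z) followed by a = a_Z followed by z. For an open subset U of X the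
following are equivalent: (i) U is stable, i.e. a maps M ×_k U into U; (ii) U ∩ Z is stable, i.e.
a_Z maps M ×_k (U ∩ Z) into U ∩ Z. (The monoid axioms of the source play no role and are not
assumed.) -/
theorem result (k : Type u) [Field k]
    (M X Z : Over (Spec (CommRingCat.of k))) (a : M ⊗ X ⟶ X) (aZ : M ⊗ Z ⟶ Z) (z : Z ⟶ X)
    [IsClosedImmersion z.left] [Surjective z.left] (hz : (M ◁ z) ≫ a = aZ ≫ z) (U : X.left.Opens) :
    (CartesianMonoidalCategory.snd M X).left ⁻¹ᵁ U ≤ a.left ⁻¹ᵁ U ↔
      (CartesianMonoidalCategory.snd M Z).left ⁻¹ᵁ (z.left ⁻¹ᵁ U) ≤ aZ.left ⁻¹ᵁ (z.left ⁻¹ᵁ U) := by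
  have hw₁ : (M ◁ z).left ≫ (CartesianMonoidalCategory.snd M X).left =
      (CartesianMonoidalCategory.snd M Z).left ≫ z.left := by
    rw [← Over.comp_left, ← Over.comp_left, CartesianMonoidalCategory.whiskerLeft_snd]
  have hw₂ : (M ◁ z).left ≫ a.left = aZ.left ≫ z.left := by
    rw [← Over.comp_left, ← Over.comp_left, hz]
  have hpb : IsPullback (M ◁ z).left (CartesianMonoidalCategory.snd M Z).left
      (CartesianMonoidalCategory.snd M X).left z.left := by
    have hright : IsPullback (CartesianMonoidalCategory.fst M X).left
        (CartesianMonoidalCategory.snd M X).left M.hom X.hom :=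
      IsPullback.of_hasPullback M.hom X.hom
    have houter : IsPullback ((M ◁ z).left ≫ (CartesianMonoidalCategory.fst M X).left)
        (CartesianMonoidalCategory.snd M Z).left M.hom (z.left ≫ X.hom) := by
      have h1 : (M ◁ z).left ≫ (CartesianMonoidalCategory.fst M X).left =
          (CartesianMonoidalCategory.fst M Z).left := by
        rw [← Over.comp_left, CartesianMonoidalCategory.whiskerLeft_fst]
      rw [h1, Over.w z]
      exact IsPullback.of_hasPullback M.hom Z.hom
    exact IsPullback.of_right houter hw₁ hright
  have hsurj : Surjective (M ◁ z).left :=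
    MorphismProperty.of_isPullback (P := @Surjective) hpb.flip inferInstance
  constructor
  · intro h y hy
    have hy' : (M ◁ z).left.base y ∈ (CartesianMonoidalCategory.snd M X).left ⁻¹ᵁ U := by
      change (CartesianMonoidalCategory.snd M X).left.base ((M ◁ z).left.base y) ∈ U
      rw [← Scheme.Hom.comp_apply, hw₁]
      exact hy
    have := h hy'
    change a.left.base ((M ◁ z).left.base y) ∈ U at this
    rw [← Scheme.Hom.comp_apply, hw₂] at this
    exact this
  · intro h x hx
    obtain ⟨y, rfl⟩ := hsurj.surj x
    have hy : y ∈ (CartesianMonoidalCategory.snd M Z).left ⁻¹ᵁ (z.left ⁻¹ᵁ U) := by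
      change z.left.base ((CartesianMonoidalCategory.snd M Z).left.base y) ∈ U
      rw [← Scheme.Hom.comp_apply, ← hw₁]
      exact hx
    have := h hy
    change a.left.base ((M ◁ z).left.base y) ∈ U
    rw [← Scheme.Hom.comp_apply, hw₂]
    exact this

end Groth.Agent.S18820
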