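import Groth.Statements.S18829
import Mathlib
import Groth.Agent.Lib.Helper9.ComodIntegralBC

set_option autoImplicit false
universe u
open scoped TensorProduct
open HopfRep

namespace Groth.Agent.S18829

open TensorProduct in
/-- coefficient at `1` -/
noncomputable def alpha0 (K : Type u) [Field K] (G : Type) [Monoid G] :
    MonoidAlgebra K G →ₗ[K] K :=
  Finsupp.lapply 1 ∘ₗ (MonoidAlgebra.coeffLinearEquiv K).toLinearMap

open Classical in
lemma alpha0_single (K : Type u) [Field K] (G : Type) [Monoid G] (g : G) (c : K) :
    alpha0 K G (MonoidAlgebra.single g c) = if g = 1 then c else 0 := by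
  simp [alpha0, Finsupp.single_apply]

open TensorProduct in
lemma alpha0_int (K : Type u) [Field K] (G : Type) [CommGroup G] :
    Groth.Agent.H9.Integral.IsIntegral (k := K) (A := MonoidAlgebra K G) (alpha0 K G) := by
  classical
  intro a
  have : (TensorProduct.lid K (MonoidAlgebra K G)).toLinearMap ∘ₗ
      LinearMap.rTensor (MonoidAlgebra K G) (alpha0 K G) ∘ₗ CoalgebraStruct.comul (R := K) =
      LinearMap.toSpanSingleton K (MonoidAlgebra K G) 1 ∘ₗ alpha0 K G := by
    apply MonoidAlgebra.lhom_ext'
    intro m
    apply LinearMap.ext_ring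
    simp only [LinearMap.comp_apply, MonoidAlgebra.lsingle_apply, LinearEquiv.coe_coe,
      LinearMap.toSpanSingleton_apply]
    rw [show CoalgebraStruct.comul (R := K) (MonoidAlgebra.single m (1 : K)) =
      Coalgebra.comul (R := K) (MonoidAlgebra.single m (1 : K)) from rfl,
      MonoidAlgebra.comul_single]
    rw [show Coalgebra.comul (R := K) (1 : K) = (1 : K) ⊗ₜ[K] (1 : K) from rfl]
    simp only [TensorProduct.map_tmul, MonoidAlgebra.lsingle_apply, LinearMap.rTensor_tmul,
      TensorProduct.lid_tmul, alpha0_single]
    split_ifs with h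
    · subst h; rfl
    · simp
  exact LinearMap.congr_fun this a

/-- Let k be a field and A a finitely generated commutative Hopf algebra over k, the coordinate ring of
an affine algebraic group T. Suppose T is a torus: for some algebraically closed field extension K
of k the base change K ⊗_k A is isomorphic as a K-bialgebra to the group algebra over K of a free
abelian group ℤ^n (T_K is a split torus of rank n). Then T is linearly reductive in the sense that
every finite-dimensional A-comodule is semisimple. (The source's definition of a torus asks for such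
an isomorphism over every algebraically closed extension; one suffices for the printed argument. The
source's notion of a linearly reductive algebraic group also includes smoothness of T over k, which
this row does not assert.) -/
theorem result (k K A : Type u) [Field k] [Field K]
    [Algebra k K] [IsAlgClosed K] [CommRing A] [HopfAlgebra k A] [Algebra.FiniteType k A] (n : ℕ)
    (e : (K ⊗[k] A) ≃ₐc[K] MonoidAlgebra K (Multiplicative (Fin n → ℤ))) :
    HopfRep.IsLinearlyReductive k A := by
  classical
  set G := Multiplicative (Fin n → ℤ) with hG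
  let β : K ⊗[k] A →ₗ[K] K := alpha0 K G ∘ₗ e.toLinearMap
  have hβ_apply : ∀ x, β x = alpha0 K G (e x) := fun x => rfl
  have hβ : Groth.Agent.H9.Integral.IsIntegral (k := K) (A := K ⊗[k] A) β := by
    intro x
    have h1 : ∀ t : (K ⊗[k] A) ⊗[K] (K ⊗[k] A),
        e (TensorProduct.lid K (K ⊗[k] A) (LinearMap.rTensor (K ⊗[k] A) β t)) =
        TensorProduct.lid K (MonoidAlgebra K G) (LinearMap.rTensor (MonoidAlgebra K G) (alpha0 K G)
          (TensorProduct.map (e : K ⊗[k] A →ₗ[K] MonoidAlgebra K G)
            (e : K ⊗[k] A →ₗ[K] MonoidAlgebra K G) t)) := by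
      intro t
      induction t using TensorProduct.induction_on with
      | zero => simp
      | tmul x₁ x₂ =>
        simp only [LinearMap.rTensor_tmul, TensorProduct.lid_tmul, TensorProduct.map_tmul, map_smul,
          hβ_apply]
        rfl
      | add t t' ht ht' => simp only [map_add, ht, ht']
    have h2 : TensorProduct.map (e : K ⊗[k] A →ₗ[K] MonoidAlgebra K G)
        (e : K ⊗[k] A →ₗ[K] MonoidAlgebra K G) (Coalgebra.comul (R := K) x) =
        Coalgebra.comul (R := K) (e x) := CoalgHomClass.map_comp_comul_apply e x
    have h3 : e (TensorProduct.lid K (K ⊗[k] A) (LinearMap.rTensor (K ⊗[k] A) β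
        (CoalgebraStruct.comul (R := K) x))) = e (β x • (1 : K ⊗[k] A)) := by
      rw [h1, show CoalgebraStruct.comul (R := K) x = Coalgebra.comul (R := K) x from rfl, h2,
        alpha0_int K G (e x), map_smul, map_one, hβ_apply]
    exact (EquivLike.injective e) h3
  have hβ1 : β 1 = 1 := by
    rw [hβ_apply, map_one, MonoidAlgebra.one_def, alpha0_single, if_pos rfl]
  obtain ⟨π, hπ⟩ := LinearMap.exists_leftInverse_of_injective (Algebra.linearMap k K)
    (LinearMap.ker_eq_bot.mpr (algebraMap k K).injective)
  have hπ1 : π 1 = 1 := by
    have := LinearMap.congr_fun hπ 1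
    simpa using this
  intro V _ _ _ _
  refine Groth.Agent.H9.Integral.isSemisimpleComod_of_integral
    (Groth.Agent.H9.Integral.isIntegral_alphaDesc hβ π) ?_
  rw [Groth.Agent.H9.Integral.alphaDesc_apply]
  rw [show (1 : K) ⊗ₜ[k] (1 : A) = (1 : K ⊗[k] A) from rfl, hβ1, hπ1]

end Groth.Agent.S18829
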