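import Groth.Statements.S18831
import Groth.Agent.Lib.Helper5.Curve6.SSBound

set_option autoImplicit false
universe u
open CategoryTheory CategoryTheory.Limits AlgebraicGeometry
open VBCurve

namespace Groth.Agent.S18831

open Groth.Agent.LD Groth.Agent.LD.QC Groth.Agent.H5.Curve2 Groth.Agent.H5.Curve4 Groth.Agent.H5.DegC Groth.Agent.H5.Curve6

/-- Let X be a smooth projective integral curve over an algebraically closed field k of characteristic
zero, and G a finite locally free O_X-module of rank r ≥ 1 which is slope-semistable, of slope μ =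
deg G / r (deg G = χ(G) − r χ(O_X)). Then dim_k H^0(X, G) ≤ r · max(⌊μ⌋ + 1, 0); in particular a
slope-semistable bundle of negative slope has no nonzero global section. -/
theorem result (k : Type u) [Field k] [IsAlgClosed k] [CharZero k]
    (X : Scheme.{u}) [X.Over (Spec (CommRingCat.of k))]
    [IsIntegral X] [IsProper (X ↘ Spec (CommRingCat.of k))] [Smooth (X ↘ Spec (CommRingCat.of k))]
    (hdim : topologicalKrullDim X = 1)
    (r : ℕ) (hr : 0 < r) (G : X.Modules) (hG : FlatMod.IsFinLocFreeOfRank r G)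
    (hss : ModFun.IsSlopeSemistable k X G r) :
    (Module.finrank k (Coh.HH X G 0) : ℤ) ≤
      (r : ℤ) * max (⌊(Curv2.deg k X G r : ℚ) / (r : ℚ)⌋ + 1) 0 := by
  set d := Curv2.deg k X G r with hd
  set z : ℤ := max (⌊(d : ℚ) / (r : ℚ)⌋ + 1) 0 with hz
  have hz0 : 0 ≤ z := le_max_right _ _
  have hrq : (0 : ℚ) < (r : ℚ) := by exact_mod_cast hr
  have h1 : (d : ℚ) / (r : ℚ) < (z : ℚ) := by
    have h2 : (d : ℚ) / (r : ℚ) < (⌊(d : ℚ) / (r : ℚ)⌋ : ℚ) + 1 := Int.lt_floor_add_one _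
    have h3 : (⌊(d : ℚ) / (r : ℚ)⌋ + 1 : ℤ) ≤ z := le_max_left _ _
    have h4 : ((⌊(d : ℚ) / (r : ℚ)⌋ + 1 : ℤ) : ℚ) ≤ (z : ℚ) := by exact_mod_cast h3
    push_cast at h4
    linarith only [h2, h4]
  have h5 : (d : ℚ) < (r : ℚ) * (z : ℚ) := by
    rw [div_lt_iff₀ hrq] at h1
    linarith only [h1]
  have h6 : d < (r : ℤ) * z := by exact_mod_cast h5
  have hm : ((z.toNat : ℕ) : ℤ) = z := Int.toNat_of_nonneg hz0
  have h7 := finrank_H0_le_of_ss_of_deg_lt k X hdim hr z.toNat G hG hss (by rw [hm]; exact h6)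
  have h8 : (Module.finrank k (Coh.HH X G 0) : ℤ) ≤ ((r * z.toNat : ℕ) : ℤ) := by exact_mod_cast h7
  push_cast at h8
  rw [hm] at h8
  exact h8

end Groth.Agent.S18831
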