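import Groth.Statements.S18864
import Mathlib

set_option autoImplicit false
universe u v w
open HopfRep

namespace Groth.Agent.S18864

/-- Let k be a field and G = lim G_i a pro-algebraic group scheme over k, so that G = Spec A with A the
direct limit of the Hopf algebras A_i of the affine group schemes G_i of finite type; assume
moreover that the maps A_i → A are injective, so that A is the directed union of the A_i, here given
as injective bialgebra maps A_i → A with directed, jointly covering images. Then every homomorphism
from G to an affine group scheme H = Spec B of finite type over k factors through some projection G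
→ G_i: every bialgebra map f : B → A with B finitely generated as a k-algebra is the composite of
A_i → A with a bialgebra map B → A_i for some i. (The published statement allows arbitrary
transition maps in the system; this row assumes each A_i → A injective, the case the printed
argument treats. The source also states the pro-finite variant with H finite, which is the case of
finite-dimensional A_i and B; finite generation of the A_i is not used.) -/
theorem result (k : Type u) [Field k]
    (A : Type v) [CommRing A] [HopfAlgebra k A] {ι : Type v} (Aι : ι → Type v)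
    [∀ i, CommRing (Aι i)] [∀ i, HopfAlgebra k (Aι i)] (emb : ∀ i, Aι i →ₐc[k] A)
    (hinj : ∀ i, Function.Injective (emb i))
    (hdir : ∀ i j, ∃ l, Set.range (emb i) ⊆ Set.range (emb l) ∧ Set.range (emb j) ⊆ Set.range (emb l))
    (hcov : ∀ a : A, ∃ i, a ∈ Set.range (emb i))
    (B : Type w) [CommRing B] [HopfAlgebra k B] [Algebra.FiniteType k B] (f : B →ₐc[k] A) :
    ∃ (i : ι) (g : B →ₐc[k] Aι i), (emb i).comp g = f := by
  classical
  obtain ⟨s, hs⟩ := (Algebra.FiniteType.out : (⊤ : Subalgebra k B).FG)
  -- a common index
  have hcommon : ∀ t : Finset B, ∃ l, ∀ b ∈ t, f b ∈ Set.range (emb l) := by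
    intro t
    induction t using Finset.induction_on with
    | empty =>
      obtain ⟨i, _⟩ := hcov 0
      exact ⟨i, fun b hb => absurd hb (Finset.notMem_empty b)⟩
    | insert b t _ ih =>
      obtain ⟨l₁, h₁⟩ := ih
      obtain ⟨l₂, h₂⟩ := hcov (f b)
      obtain ⟨l, hl₁, hl₂⟩ := hdir l₁ l₂
      refine ⟨l, fun b' hb' => ?_⟩
      rcases Finset.mem_insert.mp hb' with rfl | hb'
      · exact hl₂ h₂
      · exact hl₁ (h₁ b' hb')
  obtain ⟨l, hl⟩ := hcommon s
  let E : Aι l →ₐ[k] A := (emb l : Aι l →ₐ[k] A)
  have hE : ∀ x, E x = emb l x := fun x => rfl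
  let F : B →ₐ[k] A := (f : B →ₐ[k] A)
  have hF : ∀ x, F x = f x := fun x => rfl
  have hrange : ∀ b : B, F b ∈ E.range := by
    have hle : F.range ≤ E.range := by
      rw [← Algebra.map_top, ← hs, AlgHom.map_adjoin]
      apply Algebra.adjoin_le
      rintro _ ⟨b, hb, rfl⟩
      obtain ⟨x, hx⟩ := hl b hb
      exact ⟨x, hx⟩
    intro b
    exact hle ⟨b, rfl⟩
  let g : B →ₐ[k] Aι l :=
    ((AlgEquiv.ofInjective E (hinj l)).symm : E.range →ₐ[k] Aι l).comp (F.codRestrict E.range hrange)
  have hg : ∀ b : B, emb l (g b) = f b := by
    intro b
    have h0 := (AlgEquiv.ofInjective E (hinj l)).apply_symm_apply (F.codRestrict E.range hrange b)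
    have h1 := congrArg Subtype.val h0
    rw [AlgEquiv.ofInjective_apply] at h1
    exact h1
  have hinj2 : Function.Injective (TensorProduct.map (emb l : Aι l →ₗ[k] A) (emb l : Aι l →ₗ[k] A)) :=
    TensorProduct.map_injective_of_flat_flat _ _ (hinj l) (hinj l)
  refine ⟨l, BialgHom.ofAlgHom g ?_ ?_, ?_⟩
  · apply AlgHom.ext
    intro b
    simp only [AlgHom.comp_apply, Bialgebra.counitAlgHom_apply]
    have h1 : Coalgebra.counit (R := k) (emb l (g b)) = Coalgebra.counit (R := k) (g b) :=
      CoalgHomClass.counit_comp_apply (emb l) (g b)
    rw [← h1, hg]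
    exact CoalgHomClass.counit_comp_apply f b
  · apply AlgHom.ext
    intro b
    simp only [AlgHom.comp_apply, Bialgebra.comulAlgHom_apply]
    apply hinj2
    have h1 : TensorProduct.map (emb l : Aι l →ₗ[k] A) (emb l : Aι l →ₗ[k] A)
        (Coalgebra.comul (R := k) (g b)) = Coalgebra.comul (R := k) (emb l (g b)) :=
      CoalgHomClass.map_comp_comul_apply (emb l) (g b)
    rw [h1, hg]
    have h2 : TensorProduct.map (f : B →ₗ[k] A) (f : B →ₗ[k] A)
        (Coalgebra.comul (R := k) b) = Coalgebra.comul (R := k) (f b) :=
      CoalgHomClass.map_comp_comul_apply f b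
    rw [← h2]
    generalize Coalgebra.comul (R := k) b = t
    induction t using TensorProduct.induction_on with
    | zero => simp
    | tmul x y =>
      simp only [Algebra.TensorProduct.map_tmul, TensorProduct.map_tmul]
      congr 1
      · exact hg x
      · exact hg y
    | add t t' ht ht' => simp only [map_add, ht, ht']
  · apply BialgHom.ext
    intro b
    exact hg b

end Groth.Agent.S18864
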