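import Groth.Statements.S18865
import Groth.Agent.Lib.Helper6.Liai1
import Groth.Agent.Lib.Helper6.Liai2

set_option autoImplicit false
universe u
open Liaison

namespace Groth.Agent.S18865

/-- Let K be a field, R = K[x_0, …, x_n] graded by degree, c ≥ 2 an integer, 𝔠 ⊂ R a homogeneous ideal
of height c such that R/𝔠 is a Gorenstein ring, and I ⊂ R a homogeneous ideal with I ⊄ 𝔠. Then the
ideal quotient 𝔠 : I is unmixed of codimension c: it has height c and every associated prime of R/(𝔠
: I) has height c. (A Gorenstein ideal of the notes, one whose quotient is Cohen–Macaulay with last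
graded Betti number 1, is rendered as: the quotient ring is Gorenstein.) -/
theorem result (K : Type u) [Field K] (n c : ℕ) (hc : 2 ≤ c)
    (𝔠 I : Ideal (MvPolynomial (Fin (n + 1)) K))
    (h𝔠 : 𝔠.IsHomogeneous (GrSyz.stdGr K (Fin (n + 1)))) (hI : I.IsHomogeneous (GrSyz.stdGr K (Fin (n + 1))))
    [LocCoh.IsGorensteinRing (MvPolynomial (Fin (n + 1)) K ⧸ 𝔠)] (h𝔠c : 𝔠.height = c) (hI𝔠 : ¬ I ≤ 𝔠) :
    (𝔠.colon (I : Set (MvPolynomial (Fin (n + 1)) K))).height = c ∧
      ∀ p ∈ associatedPrimes (MvPolynomial (Fin (n + 1)) K) (MvPolynomial (Fin (n + 1)) K ⧸ 𝔠.colon (I : Set (MvPolynomial (Fin (n + 1)) K))), p.height = c := by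
  classical
  set J := 𝔠.colon (I : Set (MvPolynomial (Fin (n + 1)) K)) with hJdef
  -- associated primes of `R/J` are associated primes of `R/𝔠`
  have hass : ∀ p ∈ associatedPrimes (MvPolynomial (Fin (n + 1)) K)
      (MvPolynomial (Fin (n + 1)) K ⧸ J),
      p ∈ associatedPrimes (MvPolynomial (Fin (n + 1)) K) (MvPolynomial (Fin (n + 1)) K ⧸ 𝔠) := by
    intro p hp
    obtain ⟨hpp, x, hx⟩ := (isAssociatedPrime_iff (I := p)
      (M := MvPolynomial (Fin (n + 1)) K ⧸ J)).mp hp
    obtain ⟨x, rfl⟩ := Ideal.Quotient.mk_surjective x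
    obtain ⟨s, hs⟩ := (isNoetherianRing_iff_ideal_fg (MvPolynomial (Fin (n + 1)) K)).mp
      inferInstance I
    have hmem : ∀ r : MvPolynomial (Fin (n + 1)) K, r ∈ p ↔ ∀ g ∈ s, r * x * g ∈ 𝔠 := by
      intro r
      rw [hx, Submodule.mem_colon_singleton, Submodule.mem_bot]
      change Ideal.Quotient.mk J (r * x) = 0 ↔ _
      rw [Ideal.Quotient.eq_zero_iff_mem, hJdef, Submodule.mem_colon]
      constructor
      · intro h g hg
        have := h g (by rw [← hs]; exact Ideal.subset_span hg)
        rwa [smul_eq_mul] at this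
      · intro h g hg
        rw [SetLike.mem_coe, ← hs] at hg
        refine Submodule.span_induction (p := fun g _ => (r * x) • g ∈ 𝔠) ?_ ?_ ?_ ?_ hg
        · intro g hg
          have := h g hg
          rwa [smul_eq_mul]
        · simp
        · intro a b _ _ ha hb
          rw [smul_add]
          exact 𝔠.add_mem ha hb
        · intro a b _ hb
          rw [smul_comm]
          exact 𝔠.smul_mem _ hb
    have hinf : (s.inf fun g => (𝔠.colon {x * g} : Ideal (MvPolynomial (Fin (n + 1)) K))) ≤ p := by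
      intro r hr
      rw [hmem]
      intro g hg
      have h5 : (s.inf fun g => (𝔠.colon {x * g} : Ideal (MvPolynomial (Fin (n + 1)) K))) ≤
          𝔠.colon {x * g} := Finset.inf_le hg
      have := h5 hr
      rw [Submodule.mem_colon_singleton] at this
      rw [mul_assoc]
      rwa [smul_eq_mul] at this
    obtain ⟨g, hg, hgp⟩ := (Ideal.IsPrime.inf_le' hpp).mp hinf
    rw [AssociatedPrimes.mem_iff, isAssociatedPrime_iff]
    refine ⟨hpp, Ideal.Quotient.mk 𝔠 (x * g), ?_⟩
    ext r
    rw [Submodule.mem_colon_singleton, Submodule.mem_bot]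
    change _ ↔ Ideal.Quotient.mk 𝔠 (r * (x * g)) = 0
    rw [Ideal.Quotient.eq_zero_iff_mem]
    constructor
    · intro hr
      have := (hmem r).mp hr g hg
      rwa [mul_assoc] at this
    · intro hr
      apply hgp
      rw [Submodule.mem_colon_singleton, smul_eq_mul]
      exact hr
  have hht : ∀ p ∈ associatedPrimes (MvPolynomial (Fin (n + 1)) K)
      (MvPolynomial (Fin (n + 1)) K ⧸ J), p.height = c := by
    intro p hp
    rw [Groth.Agent.H6.Liai.height_eq_of_mem_associatedPrimes K n 𝔠 h𝔠 (hass p hp), h𝔠c]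
  refine ⟨?_, hht⟩
  have hJne : J ≠ ⊤ := by
    intro h
    apply hI𝔠
    intro a ha
    have h1 : (1 : MvPolynomial (Fin (n + 1)) K) ∈ J := by rw [h]; trivial
    rw [hJdef, Submodule.mem_colon] at h1
    have := h1 a ha
    rwa [smul_eq_mul, one_mul] at this
  rw [Ideal.height_eq_inf_minimalPrimes J]
  apply le_antisymm
  · obtain ⟨Q, hQ⟩ := Ideal.nonempty_minimalPrimes hJne
    refine (iInf₂_le Q hQ).trans ?_
    rw [hht Q (Groth.Agent.H6.Liai.mem_associatedPrimes_of_mem_minimalPrimes K n J hQ)]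
  · refine le_iInf₂ (fun Q hQ => ?_)
    rw [hht Q (Groth.Agent.H6.Liai.mem_associatedPrimes_of_mem_minimalPrimes K n J hQ)]

end Groth.Agent.S18865
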