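import Groth.Statements.S18866
import Groth.Agent.Lib.Helper6.Liai1
import Groth.Agent.Lib.Helper6.Liai2

set_option autoImplicit false
universe u
open Liaison

namespace Groth.Agent.S18866

/-- Let K be a field, R = K[x_0, …, x_n] graded by degree, c ≥ 2, 𝔠 ⊂ R a homogeneous ideal of height c
such that R/𝔠 is a Gorenstein ring, and I, J ⊂ R homogeneous ideals that are directly linked by 𝔠,
that is 𝔠 : I = J and 𝔠 : J = I. If R/I and R/J have no associated prime in common, then I ∩ J = 𝔠,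
so I and J are geometrically linked by 𝔠. -/
theorem result (K : Type u) [Field K] (n c : ℕ) (hc : 2 ≤ c)
    (𝔠 I J : Ideal (MvPolynomial (Fin (n + 1)) K))
    (h𝔠 : 𝔠.IsHomogeneous (GrSyz.stdGr K (Fin (n + 1)))) (hI : I.IsHomogeneous (GrSyz.stdGr K (Fin (n + 1)))) (hJ : J.IsHomogeneous (GrSyz.stdGr K (Fin (n + 1))))
    [LocCoh.IsGorensteinRing (MvPolynomial (Fin (n + 1)) K ⧸ 𝔠)] (h𝔠c : 𝔠.height = c)
    (hIJ : 𝔠.colon (I : Set (MvPolynomial (Fin (n + 1)) K)) = J) (hJI : 𝔠.colon (J : Set (MvPolynomial (Fin (n + 1)) K)) = I)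
    (hdisj : Disjoint (associatedPrimes (MvPolynomial (Fin (n + 1)) K) (MvPolynomial (Fin (n + 1)) K ⧸ I)) (associatedPrimes (MvPolynomial (Fin (n + 1)) K) (MvPolynomial (Fin (n + 1)) K ⧸ J))) :
    I ⊓ J = 𝔠 := by
  have hcI : 𝔠 ≤ I := by
    rw [← hJI]
    intro x hx
    rw [Submodule.mem_colon]
    intro j _
    exact 𝔠.mul_mem_right _ hx
  have hcJ : 𝔠 ≤ J := by
    rw [← hIJ]
    intro x hx
    rw [Submodule.mem_colon]
    intro j _
    exact 𝔠.mul_mem_right _ hx
  apply le_antisymm _ (le_inf hcI hcJ)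
  intro x hx
  by_contra hx𝔠
  have hne : (Ideal.Quotient.mk 𝔠 x) ≠ 0 := by
    rwa [Ne, Ideal.Quotient.eq_zero_iff_mem]
  obtain ⟨P, hP, hle⟩ := exists_le_isAssociatedPrime_of_isNoetherianRing
    (R := MvPolynomial (Fin (n + 1)) K) (Ideal.Quotient.mk 𝔠 x) hne
  haveI hPp : P.IsPrime := hP.1
  have hht := Groth.Agent.H6.Liai.height_eq_of_mem_associatedPrimes K n 𝔠 h𝔠 hP
  have hcol : ∀ a : MvPolynomial (Fin (n + 1)) K, a * x ∈ 𝔠 → a ∈ P := by
    intro a ha
    apply hle
    rw [Submodule.mem_colon_singleton, Submodule.mem_bot]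
    change Ideal.Quotient.mk 𝔠 (a * x) = 0
    exact Ideal.Quotient.eq_zero_iff_mem.mpr ha
  have hIP : I ≤ P := by
    intro a ha
    apply hcol
    have hxJ : x ∈ 𝔠.colon (I : Set (MvPolynomial (Fin (n + 1)) K)) := by rw [hIJ]; exact hx.2
    rw [Submodule.mem_colon] at hxJ
    have := hxJ a ha
    rwa [smul_eq_mul, mul_comm] at this
  have hJP : J ≤ P := by
    intro a ha
    apply hcol
    have hxI : x ∈ 𝔠.colon (J : Set (MvPolynomial (Fin (n + 1)) K)) := by rw [hJI]; exact hx.1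
    rw [Submodule.mem_colon] at hxI
    have := hxI a ha
    rwa [smul_eq_mul, mul_comm] at this
  have h1 : P ∈ I.minimalPrimes :=
    Ideal.mem_minimalPrimes_of_height_le hIP (by rw [hht]; exact Ideal.height_mono hcI)
  have h2 : P ∈ J.minimalPrimes :=
    Ideal.mem_minimalPrimes_of_height_le hJP (by rw [hht]; exact Ideal.height_mono hcJ)
  exact Set.disjoint_left.mp hdisj (Groth.Agent.H6.Liai.mem_associatedPrimes_of_mem_minimalPrimes K n I h1)
    (Groth.Agent.H6.Liai.mem_associatedPrimes_of_mem_minimalPrimes K n J h2)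

end Groth.Agent.S18866
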