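import Groth.Statements.S18867
import Groth.Agent.Lib.Helper6.Liai1
import Groth.Agent.Lib.Helper6.Liai2

set_option autoImplicit false
universe u
open Liaison

namespace Groth.Agent.S18867

/-- Let K be a field, R = K[x_0, …, x_n] graded by degree, c ≥ 2, 𝔠 ⊂ R a homogeneous ideal of height c
such that R/𝔠 is a Gorenstein ring, and I ⊂ R a homogeneous ideal of height c which is unmixed
(every associated prime of R/I has height c) and properly contains 𝔠. Then 𝔠 : (𝔠 : I) = I, so that
I and 𝔠 : I are directly linked by 𝔠. -/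
theorem result (K : Type u) [Field K] (n c : ℕ) (hc : 2 ≤ c)
    (𝔠 I : Ideal (MvPolynomial (Fin (n + 1)) K))
    (h𝔠 : 𝔠.IsHomogeneous (GrSyz.stdGr K (Fin (n + 1)))) (hI : I.IsHomogeneous (GrSyz.stdGr K (Fin (n + 1))))
    [LocCoh.IsGorensteinRing (MvPolynomial (Fin (n + 1)) K ⧸ 𝔠)] (h𝔠c : 𝔠.height = c) (hIc : I.height = c)
    (hIu : ∀ p ∈ associatedPrimes (MvPolynomial (Fin (n + 1)) K) (MvPolynomial (Fin (n + 1)) K ⧸ I), p.height = c) (hlt : 𝔠 < I) :
    𝔠.colon ((𝔠.colon (I : Set (MvPolynomial (Fin (n + 1)) K)) : Ideal (MvPolynomial (Fin (n + 1)) K)) : Set (MvPolynomial (Fin (n + 1)) K)) = I := by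
  classical
  have h𝔠I : 𝔠 ≤ I := hlt.le
  apply le_antisymm
  · intro x hx
    by_contra hxI
    have hne : (Ideal.Quotient.mk I x) ≠ 0 := by
      rwa [Ne, Ideal.Quotient.eq_zero_iff_mem]
    obtain ⟨P, hP, hle⟩ := exists_le_isAssociatedPrime_of_isNoetherianRing
      (R := MvPolynomial (Fin (n + 1)) K) (Ideal.Quotient.mk I x) hne
    haveI hPp : P.IsPrime := hP.1
    have hIP : I ≤ P := (Groth.Agent.H6.Liai.map_mem_associatedPrimes I hP).2.2
    have h𝔠P : 𝔠 ≤ P := h𝔠I.trans hIP
    have hPmin : P ∈ 𝔠.minimalPrimes :=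
      Ideal.mem_minimalPrimes_of_height_le h𝔠P (by rw [hIu P hP, h𝔠c])
    rw [Ideal.minimalPrimes_eq_comap] at hPmin
    obtain ⟨q, hq, hqP⟩ := hPmin
    haveI hqp : q.IsPrime := hq.1.1
    haveI := LocCoh.IsGorensteinRing.isGorensteinLocalRing_localization q
    have hcol : ∀ s : MvPolynomial (Fin (n + 1)) K, s * x ∈ I → s ∈ P := by
      intro s hs
      apply hle
      rw [Submodule.mem_colon_singleton, Submodule.mem_bot]
      change Ideal.Quotient.mk I (s * x) = 0
      exact Ideal.Quotient.eq_zero_iff_mem.mpr hs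
    obtain ⟨s, hsq, hsx⟩ := Groth.Agent.H6.Liai.exists_mul_mem_of_minimal q hq
      (I.map (Ideal.Quotient.mk 𝔠)) (Ideal.Quotient.mk 𝔠 x) (by
        intro y hy
        obtain ⟨y, rfl⟩ := Ideal.Quotient.mk_surjective y
        rw [← map_mul, Ideal.Quotient.eq_zero_iff_mem]
        rw [Submodule.mem_colon] at hx
        have hy2 : y ∈ 𝔠.colon (I : Set (MvPolynomial (Fin (n + 1)) K)) := by
          rw [Submodule.mem_colon]
          intro a ha
          have := hy _ (Ideal.mem_map_of_mem (Ideal.Quotient.mk 𝔠) ha)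
          rw [← map_mul, Ideal.Quotient.eq_zero_iff_mem] at this
          rwa [smul_eq_mul, mul_comm]
        have := hx y hy2
        rwa [smul_eq_mul] at this)
    obtain ⟨s, rfl⟩ := Ideal.Quotient.mk_surjective s
    rw [← map_mul, ← Ideal.mem_comap, Ideal.comap_map_of_surjective _ Ideal.Quotient.mk_surjective,
      ← RingHom.ker_eq_comap_bot, Ideal.mk_ker, sup_eq_left.mpr h𝔠I] at hsx
    apply hsq
    have := hcol s hsx
    rw [← hqP] at this
    exact this
  · intro a ha
    rw [Submodule.mem_colon]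
    intro y hy
    rw [SetLike.mem_coe, Submodule.mem_colon] at hy
    have := hy a ha
    rw [smul_eq_mul] at this ⊢
    rwa [mul_comm]

end Groth.Agent.S18867
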