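import Groth.Statements.S18868
import Groth.Agent.Lib.Helper6.LinkE
import Groth.Agent.Lib.Helper6.PolyBasic
import Groth.Agent.Lib.Helper6.Liai1
import Groth.Agent.S18865
import Groth.Agent.S18867

set_option autoImplicit false
universe u
open Liaison

namespace Groth.Agent.S18868

/-- Let K be a field, R = K[x_0, …, x_n] graded by degree, c ≥ 2, 𝔠 ⊂ R a homogeneous complete
intersection of codimension c, that is a homogeneous ideal of height c generated by c elements g_1,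
…, g_c, and I ⊂ R a homogeneous ideal of height c with R/I Cohen–Macaulay which properly contains 𝔠
and has the form I = 𝔠 + fR for some f (so I is an almost complete intersection). Then the linked
ideal J = 𝔠 : I has height c and R/J is a Gorenstein ring. (A Gorenstein ideal of the notes, one
whose quotient is Cohen–Macaulay with last graded Betti number 1, is rendered as: the quotient ring
is Gorenstein.) -/
theorem result (K : Type u) [Field K] (n c : ℕ) (hc : 2 ≤ c)
    (g : Fin c → MvPolynomial (Fin (n + 1)) K) (f : MvPolynomial (Fin (n + 1)) K) (𝔠 I : Ideal (MvPolynomial (Fin (n + 1)) K)) (h𝔠g : Ideal.span (Set.range g) = 𝔠)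
    (h𝔠 : 𝔠.IsHomogeneous (GrSyz.stdGr K (Fin (n + 1)))) (hI : I.IsHomogeneous (GrSyz.stdGr K (Fin (n + 1))))
    (h𝔠c : 𝔠.height = c) (hIc : I.height = c) [LocCoh.IsCohenMacaulayRing (MvPolynomial (Fin (n + 1)) K ⧸ I)]
    (hlt : 𝔠 < I) (hIf : I = 𝔠 ⊔ Ideal.span {f}) :
    (𝔠.colon (I : Set (MvPolynomial (Fin (n + 1)) K))).height = c ∧
      LocCoh.IsGorensteinRing (MvPolynomial (Fin (n + 1)) K ⧸ 𝔠.colon (I : Set (MvPolynomial (Fin (n + 1)) K))) := by
  classical
  have h𝔠I : 𝔠 ≤ I := hlt.le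
  have hofl : Ideal.ofList (List.ofFn g) = 𝔠 := by
    rw [← h𝔠g]
    show Ideal.span {a | a ∈ List.ofFn g} = Ideal.span (Set.range g)
    congr 1
    ext a
    simp [List.mem_ofFn]
  haveI hGR : LocCoh.IsGorensteinRing (MvPolynomial (Fin (n + 1)) K) :=
    Groth.Agent.H6.PolyGr.instGor K (n + 1)
  haveI hG : LocCoh.IsGorensteinRing (MvPolynomial (Fin (n + 1)) K ⧸ 𝔠) := by
    have h1 := Groth.Agent.H6.Link.gor_of_ci (R := MvPolynomial (Fin (n + 1)) K) (List.ofFn g) (by
      rw [hofl, h𝔠c, List.length_ofFn])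
    rw [hofl] at h1
    exact h1
  have hnot : ¬ I ≤ 𝔠 := fun h => (lt_irrefl _ (lt_of_lt_of_le hlt h))
  obtain ⟨hJh, -⟩ := Groth.Agent.S18865.result K n c hc 𝔠 I h𝔠 hI h𝔠c hnot
  refine ⟨hJh, ?_⟩
  set J := 𝔠.colon (I : Set (MvPolynomial (Fin (n + 1)) K)) with hJdef
  have hIu : ∀ p ∈ associatedPrimes (MvPolynomial (Fin (n + 1)) K)
      (MvPolynomial (Fin (n + 1)) K ⧸ I), p.height = c := by
    intro p hp
    rw [Groth.Agent.H6.Liai.height_eq_of_mem_associatedPrimes K n I hI hp, hIc]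
  have hJI : 𝔠.colon (J : Set (MvPolynomial (Fin (n + 1)) K)) = I :=
    Groth.Agent.S18867.result K n c hc 𝔠 I h𝔠 hI h𝔠c hIc hIu hlt
  have h𝔠J : 𝔠 ≤ J := Ideal.le_colon
  haveI hCMJ : LocCoh.IsCohenMacaulayRing (MvPolynomial (Fin (n + 1)) K ⧸ J) :=
    Groth.Agent.H6.Link.cm_of_linked_quot 𝔠 I J rfl hJI
  haveI : LocCoh.IsCohenMacaulayRing ((MvPolynomial (Fin (n + 1)) K ⧸ 𝔠) ⧸
      J.map (Ideal.Quotient.mk 𝔠)) :=
    Groth.Agent.H6.Liai.cm_of_ringEquiv (DoubleQuot.quotQuotEquivQuotOfLE h𝔠J).symm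
  have hJ' : ∀ x : MvPolynomial (Fin (n + 1)) K ⧸ 𝔠,
      x ∈ J.map (Ideal.Quotient.mk 𝔠) ↔ x * Ideal.Quotient.mk 𝔠 f = 0 := by
    intro x
    obtain ⟨r, rfl⟩ := Ideal.Quotient.mk_surjective x
    rw [Ideal.mem_quotient_iff_mem h𝔠J, ← map_mul, Ideal.Quotient.eq_zero_iff_mem, hJdef,
      Submodule.mem_colon]
    constructor
    · intro h
      have := h f (by rw [hIf]; exact Ideal.mem_sup_right (Ideal.mem_span_singleton_self f))
      exact this
    · intro h i hi
      rw [hIf] at hi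
      obtain ⟨a, ha, b, hb, rfl⟩ := Submodule.mem_sup.mp hi
      obtain ⟨t, rfl⟩ := Ideal.mem_span_singleton'.mp hb
      rw [smul_eq_mul, mul_add]
      apply Ideal.add_mem
      · exact Ideal.mul_mem_left _ _ ha
      · have : r * (t * f) = t * (r * f) := by ring
        rw [this]
        exact Ideal.mul_mem_left _ _ h
  have hJ2 : Submodule.annihilator (J.map (Ideal.Quotient.mk 𝔠)) =
      Ideal.span {Ideal.Quotient.mk 𝔠 f} := by
    rw [Groth.Agent.H6.Link.annihilator_map_mk 𝔠 J I hJI, hIf, Ideal.map_sup,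
      Ideal.map_quotient_self, bot_sup_eq, Ideal.map_span, Set.image_singleton]
  haveI := Groth.Agent.H6.Link.gor_of_linked_principal (Ideal.Quotient.mk 𝔠 f)
    (J.map (Ideal.Quotient.mk 𝔠)) hJ' hJ2
  exact Groth.Agent.H6.Link.gor_of_ringEquiv (DoubleQuot.quotQuotEquivQuotOfLE h𝔠J)

end Groth.Agent.S18868
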