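import Groth.Statements.S18871
import Groth.Agent.Lib.Helper6.Liai4

set_option autoImplicit false
universe u
open Liaison

namespace Groth.Agent.S18871

/-- Let K be a field, R = K[x_0, …, x_n] graded by degree, and J ⊆ I ⊂ R homogeneous ideals with J ≠ 0,
height I = height J + 1 = h + 1 and R/J Cohen–Macaulay; let f ∈ R be homogeneous of degree d with J
: f = J, and put Ĩ = J + fI (the basic double link). Then I is unmixed, meaning that every
associated prime of R/I has height h + 1, if and only if Ĩ is unmixed in the same sense. -/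
theorem result (K : Type u) [Field K] (n h : ℕ)
    (J I : Ideal (MvPolynomial (Fin (n + 1)) K))
    (hJ : J.IsHomogeneous (GrSyz.stdGr K (Fin (n + 1)))) (hI : I.IsHomogeneous (GrSyz.stdGr K (Fin (n + 1))))
    (hJ0 : J ≠ ⊥) (hJI : J ≤ I) (hJh : J.height = h) (hIh : I.height = h + 1)
    [LocCoh.IsCohenMacaulayRing (MvPolynomial (Fin (n + 1)) K ⧸ J)]
    (f : MvPolynomial (Fin (n + 1)) K) (d : ℕ) (hf : f ∈ GrSyz.stdGr K (Fin (n + 1)) (d : ℤ)) (hJf : J.colon {f} = J) :
    (∀ p ∈ associatedPrimes (MvPolynomial (Fin (n + 1)) K) (MvPolynomial (Fin (n + 1)) K ⧸ I), p.height = h + 1) ↔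
      ∀ p ∈ associatedPrimes (MvPolynomial (Fin (n + 1)) K) (MvPolynomial (Fin (n + 1)) K ⧸ (J ⊔ Ideal.span {f} * I)), p.height = h + 1 := by
  constructor
  · intro hu p hp
    rcases associatedPrimes.subset_union_of_exact
      (Groth.Agent.H6.Liai.bdlφ_injective J I f hJI hJf)
      (Groth.Agent.H6.Liai.bdl_exact J I f) hp with h1 | h1
    · exact hu p h1
    · haveI := Groth.Agent.H6.Liai.cm_quot_sup J f hJf
      have h2 := Groth.Agent.H6.Liai.mem_minimalPrimes_of_mem_associatedPrimes_quot _ h1
      have h3 := Groth.Agent.H6.Liai.height_eq_succ_of_mem_minimalPrimes_sup K n J f hJf h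
        (fun q hq => by
          rw [Groth.Agent.H6.Liai.height_eq_of_mem_associatedPrimes K n J hJ
            (Groth.Agent.H6.Liai.mem_associatedPrimes_of_mem_minimalPrimes K n J hq), hJh]) h2
      rw [h3]
  · intro hu p hp
    exact hu p (associatedPrimes.subset_of_injective
      (Groth.Agent.H6.Liai.bdlφ_injective J I f hJI hJf) hp)

end Groth.Agent.S18871
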