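import Groth.Statements.S18874
import Groth.Agent.Lib.Helper5.PropNhd.PnB

set_option autoImplicit false
universe u
open Lim

namespace Groth.Agent.S18874

open CategoryTheory AlgebraicGeometry MorphismProperty

open CategoryTheory AlgebraicGeometry in
/-- Let S be a quasi-compact scheme whose affine opens have excellent coordinate rings, let X → S and Y
→ S be quasi-compact, quasi-separated and locally of finite presentation, let f : X → Y be a
morphism over S, let s be a closed point of S and R the completion of the local ring of S at s. If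
the base change X ×_S Spec R → Y ×_S Spec R of f is proper, then s has an open neighbourhood W in S
such that X ×_S W → Y ×_S W is proper. (The published statement assumes X and Y only locally of
finite presentation over S; for S the affine line over a field, s the origin, Y = S and X the
disjoint union of S with one reduced point over each closed point other than s, the base change to
Spec R is an isomorphism while X ×_S W → W is not quasi-compact for any open W ∋ s, so X and Y are
taken of finite presentation over S here, which is what the limit argument of the published proof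
uses.) -/
theorem result
    (S : Scheme.{u}) [CompactSpace S] (hS : ∀ U : S.affineOpens, EGA4.IsExcellent Γ(S, U.1))
    {X Y : Scheme.{u}} (f : X ⟶ Y) (g : Y ⟶ S)
    [QuasiCompact g] [QuasiSeparated g] [LocallyOfFinitePresentation g]
    [QuasiCompact (f ≫ g)] [QuasiSeparated (f ≫ g)] [LocallyOfFinitePresentation (f ≫ g)]
    (s : S) (hs : IsClosed ({s} : Set S))
    (hR : IsProper (Limits.pullback.snd f (Limits.pullback.fst g
      (Spec.map (CommRingCat.ofHom (algebraMap (S.presheaf.stalk s) (EGA4.Cpl (S.presheaf.stalk s)))) ≫
        S.fromSpecStalk s)))) :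
    ∃ W : S.Opens, s ∈ W ∧ IsProper (f ∣_ (g ⁻¹ᵁ W)) := by
  classical
  obtain ⟨_, ⟨U', hU', rfl⟩, hsU, -⟩ :=
    S.isBasis_affineOpens.exists_subset_of_mem_open (Set.mem_univ s) isOpen_univ
  let U : S.Opens := U'
  have hU : IsAffineOpen U := hU'
  have hsU' : s ∈ U := hsU
  haveI hN : IsNoetherianRing Γ(S, U) := (hS ⟨U, hU⟩).1
  letI : Algebra Γ(S, U) (S.presheaf.stalk s) :=
    TopCat.Presheaf.algebra_section_stalk S.presheaf ⟨s, hsU'⟩
  haveI hloc : IsLocalization.AtPrime (S.presheaf.stalk s)
      (hU.primeIdealOf ⟨s, hsU'⟩).asIdeal := hU.isLocalization_stalk ⟨s, hsU'⟩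
  haveI : IsNoetherianRing (S.presheaf.stalk s) :=
    IsLocalization.isNoetherianRing (hU.primeIdealOf ⟨s, hsU'⟩).asIdeal.primeCompl _ inferInstance
  have hfg : (IsLocalRing.maximalIdeal (S.presheaf.stalk s)).FG := IsNoetherian.noetherian _
  letI := AdicCompletion.isLocalRing_of_fg (R := S.presheaf.stalk s) hfg
  haveI := AdicCompletion.algebraMap_isLocalHom_of_fg (R := S.presheaf.stalk s) hfg
  haveI : Module.FaithfullyFlat (S.presheaf.stalk s) (EGA4.Cpl (S.presheaf.stalk s)) :=
    Module.FaithfullyFlat.of_flat_of_isLocalHom
  have hρ : (@Surjective ⊓ @Flat ⊓ @QuasiCompact : MorphismProperty Scheme.{u})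
      (Spec.map (CommRingCat.ofHom
        (algebraMap (S.presheaf.stalk s) (EGA4.Cpl (S.presheaf.stalk s))))) := by
    refine ⟨⟨⟨PrimeSpectrum.comap_surjective_of_faithfullyFlat (A := S.presheaf.stalk s)
      (B := EGA4.Cpl (S.presheaf.stalk s))⟩, ?_⟩, inferInstance⟩
    rw [HasRingHomProperty.Spec_iff (P := @Flat)]
    exact RingHom.flat_algebraMap_iff.mpr inferInstance
  haveI : LocallyOfFiniteType (f ≫ g) := inferInstance
  haveI : LocallyOfFiniteType f := locallyOfFiniteType_of_comp f g
  have h1 : IsProper (Limits.pullback.snd f (Limits.pullback.fst g (S.fromSpecStalk s))) :=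
    Groth.Agent.H5.PropNhd.bcS_descends (P := @IsProper) f g (S.fromSpecStalk s) _ hρ hR
  exact Groth.Agent.H5.PropNhd.exists_nhd_isProper f g U hU ⟨s, hsU'⟩ h1

end Groth.Agent.S18874
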