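import Groth.Statements.S18879
import Groth.Agent.Lib.Helper1.DimLocC
import Groth.Agent.Lib.Helper1.GenPts

set_option autoImplicit false
universe u
open CategoryTheory AlgebraicGeometry
open Resolve

namespace Groth.Agent.S18879

/-- Let f : Y ⟶ X be a morphism locally of finite type between Noetherian separated schemes which is
birational: it maps the maximal points of Y bijectively onto the maximal points of X, and over every
maximal point of X its fibre is one point with the same residue field. Then for every point y of Y,
the Krull dimension of the local ring of Y at y is at most the Krull dimension of the local ring of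
X at f y (the codimension of a point does not increase along f). -/
theorem result {X Y : Scheme.{u}} (f : Y ⟶ X)
    [IsNoetherian X] [X.IsSeparated] [IsNoetherian Y] [Y.IsSeparated] [LocallyOfFiniteType f]
    (hf : RadPt.IsBirational f) (y : Y) :
    ringKrullDim (Y.presheaf.stalk y) ≤ ringKrullDim (X.presheaf.stalk (f.base y)) := by
  have hN : IsNoetherianRing (X.presheaf.stalk (f y)) := inferInstance
  have hE : ∀ ξ : Y, ξ ⤳ y → ringKrullDim (Y.presheaf.stalk ξ) = 0 → Dual3.resTrdeg f ξ ≤ 0 := by
    intro ξ _ h0
    have hξ : ξ ∈ genericPoints Y :=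
      Groth.Agent.H1.GenPts.closure_mem_irreducibleComponents_of_stalk_dim_eq_zero ξ h0
    have hfξ : f ξ ∈ genericPoints X := hf.1.mapsTo hξ
    have hbij := (hf.2 (f ξ) hfξ).2 ξ rfl
    unfold Dual3.resTrdeg
    let _ := (f.residueFieldMap ξ).hom.toAlgebra
    have : Algebra.IsAlgebraic (X.residueField (f ξ)) (Y.residueField ξ) :=
      ⟨fun x => by
        obtain ⟨r, rfl⟩ := hbij.2 x
        exact isAlgebraic_algebraMap r⟩
    rw [trdeg_eq_zero]
  have key := Groth.Agent.H1.DimLoc.stalk_dim_add_resTrdeg_le' f y hN 0 hE
  simp only [map_zero, WithBot.coe_zero, add_zero] at key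
  refine le_trans ?_ key
  generalize ringKrullDim (Y.presheaf.stalk y) = a
  generalize (Cardinal.toENat (Dual3.resTrdeg f y) : ℕ∞) = b
  induction a using WithBot.recBotCoe with
  | bot => exact bot_le
  | coe a =>
    rw [← WithBot.coe_add]
    exact WithBot.coe_le_coe.mpr le_self_add

end Groth.Agent.S18879
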