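import Groth.Statements.S18884
import Mathlib

set_option autoImplicit false
universe v u w
open CategoryTheory CategoryTheory.Limits
open Desc

namespace Groth.Agent.S18884

open CategoryTheory Limits

section Aux

variable {C : Type u} [Category.{v} C] [HasPullbacks C] (W : MorphismProperty C)
  [W.IsStableUnderBaseChange] [W.IsStableUnderComposition]
  (D : ObjectProperty C) (hD : ∀ X : C, ∃ (Y : C) (π : Y ⟶ X), W π ∧ D Y)

/-- the cosheaf property -/
def IsCosh (F : C ⥤ AddCommGrpCat.{w}) : Prop :=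
  ∀ ⦃Y X : C⦄ (π : Y ⟶ X), W π → Function.Surjective (F.map π).hom ∧
    (F.map π).hom.ker = ((F.map (pullback.fst π π)).hom - (F.map (pullback.snd π π)).hom).range

variable {W D} {F G : C ⥤ AddCommGrpCat.{w}}

lemma map_comp_apply' (F : C ⥤ AddCommGrpCat.{w}) {X Y Z : C} (f : X ⟶ Y) (g : Y ⟶ Z)
    (x : F.obj X) : (F.map (f ≫ g)).hom x = (F.map g).hom ((F.map f).hom x) := by
  rw [F.map_comp]; rfl

lemma nat_D (γ : D.ι ⋙ F ⟶ D.ι ⋙ G) {Y Z : C} (hY : D Y) (hZ : D Z) (a : Z ⟶ Y)
    (z : F.obj Z) :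
    (γ.app ⟨Y, hY⟩).hom ((F.map a).hom z) = (G.map a).hom ((γ.app ⟨Z, hZ⟩).hom z) := by
  have := γ.naturality (D.homMk a : (⟨Z, hZ⟩ : D.FullSubcategory) ⟶ ⟨Y, hY⟩)
  exact congrArg (fun φ => φ.hom z) this

include hD in
lemma faithful_aux (hF : IsCosh W F) (α β : F ⟶ G)
    (h : ∀ (Y : C) (_ : D Y), α.app Y = β.app Y) : α = β := by
  ext X x
  obtain ⟨Y, π, hπ, hY⟩ := hD X
  obtain ⟨y, rfl⟩ := (hF π hπ).1 x
  have h1 := congrArg (fun φ => φ.hom y) (α.naturality π)
  have h2 := congrArg (fun φ => φ.hom y) (β.naturality π)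
  simp only [AddCommGrpCat.hom_comp, AddMonoidHom.coe_comp, Function.comp_apply] at h1 h2
  rw [h1, h2, h Y hY]

include hD in
lemma full_aux (hF : IsCosh W F) (hG : IsCosh W G) (γ : D.ι ⋙ F ⟶ D.ι ⋙ G) :
    ∃ α : F ⟶ G, ∀ (Y : C) (hY : D Y), α.app Y = γ.app ⟨Y, hY⟩ := by
  classical
  choose Y π hW hDY using hD
  -- well-definedness
  have ker_le : ∀ X : C, (F.map (π X)).hom.ker ≤
      ((G.map (π X)).hom.comp (γ.app ⟨Y X, hDY X⟩).hom).ker := by
    intro X x hx
    rw [(hF (π X) (hW X)).2] at hx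
    obtain ⟨z, rfl⟩ := hx
    obtain ⟨z', rfl⟩ := (hF _ (hW (pullback (π X) (π X)))).1 z
    rw [AddMonoidHom.mem_ker]
    simp only [AddMonoidHom.sub_apply, map_sub, AddMonoidHom.coe_comp, Function.comp_apply]
    rw [← map_comp_apply', ← map_comp_apply', nat_D γ (hDY X) (hDY _), nat_D γ (hDY X) (hDY _),
      ← map_comp_apply', ← map_comp_apply', Category.assoc, Category.assoc, pullback.condition,
      sub_self]
  let α : ∀ X : C, F.obj X →+ G.obj X := fun X =>
    (F.map (π X)).hom.liftOfSurjective (hF (π X) (hW X)).1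
      ⟨(G.map (π X)).hom.comp (γ.app ⟨Y X, hDY X⟩).hom, ker_le X⟩
  have hα : ∀ (X : C) (y : F.obj (Y X)), α X ((F.map (π X)).hom y) =
      (G.map (π X)).hom ((γ.app ⟨Y X, hDY X⟩).hom y) := by
    intro X y
    exact AddMonoidHom.liftOfRightInverse_comp_apply _ _ _ _ y
  -- the key compatibility
  have key : ∀ (X' : C) (Y₀ : C) (hY₀ : D Y₀) (g : Y₀ ⟶ X') (y : F.obj Y₀),
      α X' ((F.map g).hom y) = (G.map g).hom ((γ.app ⟨Y₀, hY₀⟩).hom y) := by
    intro X' Y₀ hY₀ g y
    -- pullback of π X' along g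
    have hq₁ : W (pullback.fst g (π X')) :=
      MorphismProperty.pullback_fst _ _ (hW X')
    have hcov : W (π (pullback g (π X')) ≫ pullback.fst g (π X')) :=
      W.comp_mem _ _ (hW _) hq₁
    obtain ⟨z, rfl⟩ := (hF _ hcov).1 y
    rw [← map_comp_apply', Category.assoc, pullback.condition, ← Category.assoc,
      map_comp_apply', hα, nat_D γ (hDY X') (hDY _), ← map_comp_apply', Category.assoc,
      ← pullback.condition, ← Category.assoc, map_comp_apply' G, ← nat_D γ hY₀ (hDY _)]
  refine ⟨{ app := fun X => AddCommGrpCat.ofHom (α X), naturality := ?_ }, ?_⟩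
  · intro X X' f
    ext x
    obtain ⟨y, rfl⟩ := (hF (π X) (hW X)).1 x
    simp only [AddCommGrpCat.hom_comp, AddMonoidHom.coe_comp, Function.comp_apply,
      AddCommGrpCat.hom_ofHom]
    rw [← map_comp_apply', key X' (Y X) (hDY X), hα, ← map_comp_apply']
  · intro Y₀ hY₀
    ext y
    have := key Y₀ Y₀ hY₀ (𝟙 Y₀) y
    simpa using this

end Aux

/-- Let C be a category with pullbacks equipped with a class W of morphisms, the covers, stable under
base change and under composition. An abelian cosheaf is a functor F : C ⥤ Ab such that for every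
cover π : Y ⟶ X the map F(π) is surjective and its kernel is the image of F(p₁) − F(p₂), where p₁,
p₂ : Y ×_X Y ⟶ Y are the two projections. If D is a full subcategory of C such that every object of
C is the target of a cover whose source lies in D, then the restriction functor from the full
subcategory of abelian cosheaves in C ⥤ Ab to D ⥤ Ab is full and faithful. -/
theorem result {C : Type u} [Category.{v} C]
    [HasPullbacks C] (W : MorphismProperty C) [W.IsStableUnderBaseChange] [W.IsStableUnderComposition]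
    (D : ObjectProperty C) (hD : ∀ X : C, ∃ (Y : C) (π : Y ⟶ X), W π ∧ D Y) :
    (ObjectProperty.ι (fun F : C ⥤ AddCommGrpCat.{w} =>
        ∀ ⦃Y X : C⦄ (π : Y ⟶ X), W π → Function.Surjective (F.map π).hom ∧
          (F.map π).hom.ker = ((F.map (pullback.fst π π)).hom - (F.map (pullback.snd π π)).hom).range) ⋙
      (Functor.whiskeringLeft D.FullSubcategory C AddCommGrpCat.{w}).obj D.ι).Full ∧
    (ObjectProperty.ι (fun F : C ⥤ AddCommGrpCat.{w} =>
        ∀ ⦃Y X : C⦄ (π : Y ⟶ X), W π → Function.Surjective (F.map π).hom ∧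
          (F.map π).hom.ker = ((F.map (pullback.fst π π)).hom - (F.map (pullback.snd π π)).hom).range) ⋙
      (Functor.whiskeringLeft D.FullSubcategory C AddCommGrpCat.{w}).obj D.ι).Faithful := by
  constructor
  · refine ⟨fun {F G} γ => ?_⟩
    obtain ⟨α, hα⟩ := full_aux hD (W := W) F.property G.property γ
    refine ⟨ObjectProperty.homMk α, ?_⟩
    refine NatTrans.ext (funext fun Yd => ?_)
    exact hα Yd.obj Yd.property
  · refine ⟨fun {F G} a b hab => ?_⟩
    apply ObjectProperty.hom_ext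
    apply faithful_aux hD (W := W) F.property
    intro Y₀ hY₀
    exact congrArg (fun φ => φ.app ⟨Y₀, hY₀⟩) hab

end Groth.Agent.S18884
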