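import Groth.Statements.S18887
import Mathlib

set_option autoImplicit false
universe u v
open DblCov

namespace Groth.Agent.S18887

/-- Let A be a commutative ring in which 2 is invertible and B a commutative A-algebra which is free of
rank 2 as an A-module and whose trace form tr : B → A has kernel free of rank 1 over A. Then σ(b) =
tr(b) − b defines an A-algebra endomorphism σ of B with σ ≠ id and σ ∘ σ = id, and the elements
fixed by σ are exactly the image of A in B. -/
theorem result {A : Type u} {B : Type v} [CommRing A] [CommRing B]
    [Algebra A B] (h2 : IsUnit (2 : A)) [Module.Free A B] [Module.Finite A B]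
    (hrk : Module.finrank A B = 2)
    [Module.Free A (LinearMap.ker (Algebra.trace A B))]
    (hker : Module.finrank A (LinearMap.ker (Algebra.trace A B)) = 1) :
    ∃ σ : B →ₐ[A] B, (∀ b : B, σ b = algebraMap A B (Algebra.trace A B b) - b) ∧
      σ ≠ AlgHom.id A B ∧ σ.comp σ = AlgHom.id A B ∧
      ∀ b : B, σ b = b ↔ b ∈ Set.range (algebraMap A B) := by
  classical
  -- nontriviality of A
  have hnt : Nontrivial A := by
    by_contra h
    rw [not_nontrivial_iff_subsingleton] at h
    have : Module.finrank A B = 1 := Module.finrank_subsingleton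
    omega
  haveI := hnt
  let bas : Module.Basis (Fin 2) A B := Module.finBasisOfFinrankEq A B hrk
  set tr := Algebra.trace A B with htr
  obtain ⟨i2, hi2⟩ := h2.exists_left_inv
  -- Cayley–Hamilton in rank two
  have hCH : ∀ b : B, b ^ 2 - algebraMap A B (tr b) * b +
      algebraMap A B ((Algebra.leftMulMatrix bas b).det) = 0 := by
    intro b
    apply Algebra.leftMulMatrix_injective bas
    have h1 := Matrix.aeval_self_charpoly (Algebra.leftMulMatrix bas b)
    rw [Matrix.charpoly_fin_two] at h1
    simp only [map_add, map_sub, map_pow, map_mul, Polynomial.aeval_X, Polynomial.aeval_C] at h1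
    rw [map_add, map_sub, map_pow, map_mul, map_zero, AlgHom.commutes, AlgHom.commutes,
      Algebra.trace_eq_matrix_trace bas b]
    exact h1
  have htr1 : tr 1 = 2 := by
    rw [htr, ← map_one (algebraMap A B), Algebra.trace_algebraMap_of_basis bas]
    simp
  have htrA : ∀ a : A, tr (algebraMap A B a) = 2 * a := by
    intro a
    rw [htr, Algebra.trace_algebraMap_of_basis bas]
    simp [two_mul]
  -- the norm form
  let Nm : B → A := fun b => (Algebra.leftMulMatrix bas b).det
  have hN : ∀ b : B, b ^ 2 = algebraMap A B (tr b) * b - algebraMap A B (Nm b) := by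
    intro b
    have := hCH b
    linear_combination this
  -- polarisation: 2xy = tr(x) y + tr(y) x - (tr x tr y - tr (xy))
  have hpol : ∀ x y : B, 2 * (x * y) = algebraMap A B (tr x) * y + algebraMap A B (tr y) * x -
      algebraMap A B (tr x * tr y - tr (x * y)) := by
    intro x y
    have hxy := hN (x + y)
    have hx := hN x
    have hy := hN y
    -- c := N(x+y) - N x - N y
    have h1 : 2 * (x * y) = algebraMap A B (tr x) * y + algebraMap A B (tr y) * x -
        algebraMap A B (Nm (x + y) - Nm x - Nm y) := by
      rw [map_add, map_add] at hxy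
      rw [map_sub, map_sub]
      linear_combination hxy - hx - hy
    have h2 := congrArg tr h1
    have e1 : tr (2 * (x * y)) = 2 * tr (x * y) := by
      have : (2 : B) * (x * y) = (2 : A) • (x * y) := by
        rw [Algebra.smul_def, map_ofNat]
      rw [this, map_smul, smul_eq_mul]
    have e2 : ∀ (a : A) (z : B), tr (algebraMap A B a * z) = a * tr z := by
      intro a z
      rw [← Algebra.smul_def, map_smul, smul_eq_mul]
    rw [e1, map_sub, map_add, e2, e2, htrA] at h2
    have h3 : 2 * (Nm (x + y) - Nm x - Nm y) = 2 * (tr x * tr y - tr (x * y)) := by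
      linear_combination h2
    have h4 : Nm (x + y) - Nm x - Nm y = tr x * tr y - tr (x * y) := by
      have := congrArg (fun t => i2 * t) h3
      simp only [← mul_assoc, hi2, one_mul] at this
      exact this
    rw [h1, h4]
  have h2B : IsUnit (2 : B) := by
    have := h2.map (algebraMap A B)
    rwa [map_ofNat] at this
  -- σ is multiplicative
  have hmul : ∀ x y : B, algebraMap A B (tr (x * y)) - x * y =
      (algebraMap A B (tr x) - x) * (algebraMap A B (tr y) - y) := by
    intro x y
    have h := hpol x y
    rw [map_sub, map_mul] at h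
    linear_combination (-1 : B) * h
  let σ : B →ₐ[A] B := AlgHom.ofLinearMap
    ((Algebra.linearMap A B) ∘ₗ tr - LinearMap.id)
    (by
      change algebraMap A B (tr 1) - 1 = 1
      rw [htr1, map_ofNat]
      ring)
    (by
      intro x y
      exact hmul x y)
  have hσ : ∀ b : B, σ b = algebraMap A B (tr b) - b := fun b => rfl
  have hfix : ∀ b : B, σ b = b ↔ b ∈ Set.range (algebraMap A B) := by
    intro b
    constructor
    · intro h
      rw [hσ] at h
      refine ⟨i2 * tr b, ?_⟩
      have h5 : (2 : B) * b = algebraMap A B (tr b) := by linear_combination -h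
      have h6 : algebraMap A B i2 * 2 = 1 := by
        rw [← map_ofNat (algebraMap A B) 2, ← map_mul, hi2, map_one]
      rw [map_mul, ← h5, ← mul_assoc, h6, one_mul]
    · rintro ⟨a, rfl⟩
      rw [hσ, htrA, map_mul, map_ofNat]
      ring
  refine ⟨σ, hσ, ?_, ?_, hfix⟩
  · -- σ ≠ id
    intro hid
    haveI : Nontrivial (LinearMap.ker tr) := by
      apply Module.nontrivial_of_finrank_pos (R := A)
      rw [hker]
      exact one_pos
    obtain ⟨⟨b, hb⟩, hb0⟩ := exists_ne (0 : LinearMap.ker tr)
    have hb0' : b ≠ 0 := fun h => hb0 (Subtype.ext h)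
    have h1 : σ b = b := by rw [hid]; rfl
    rw [hσ, LinearMap.mem_ker.mp hb, map_zero, zero_sub] at h1
    have h2' : (2 : B) * b = 0 := by linear_combination -h1
    exact hb0' ((h2B.mul_right_eq_zero).mp h2')
  · ext b
    change σ (σ b) = b
    rw [hσ, hσ, map_sub, htrA]
    rw [map_sub, map_mul, map_ofNat]
    ring

end Groth.Agent.S18887
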