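import Groth.Statements.S18888
import Mathlib

set_option autoImplicit false
universe u v w
open CAlg

namespace Groth.Agent.S18888

/-- Let A be a unique factorisation domain in which 2 is invertible, with fraction field K, and let L ⊇
K be a quadratic extension field (of degree 2 over K) containing an element y ∉ K whose square is a
squarefree element d of A. Then the integral closure of A in L equals the A-subalgebra A[y]
generated by y. -/
theorem result {A : Type u} {K : Type v} {L : Type w}
    [CommRing A] [IsDomain A] [UniqueFactorizationMonoid A] [Field K] [Algebra A K] [IsFractionRing A K]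
    [Field L] [Algebra K L] [Algebra A L] [IsScalarTower A K L]
    (h2 : IsUnit (2 : A)) (hL : Module.finrank K L = 2)
    (d : A) (hd : Squarefree d) (y : L) (hy : y * y = algebraMap A L d)
    (hyK : y ∉ Set.range (algebraMap K L)) :
    integralClosure A L = Algebra.adjoin A {y} := by
  classical
  have : FiniteDimensional K L := Module.finite_of_finrank_pos (by rw [hL]; norm_num)
  have hAL : ∀ a : A, algebraMap A L a = algebraMap K L (algebraMap A K a) :=
    fun a => IsScalarTower.algebraMap_apply A K L a
  -- y is integral
  have hyint : IsIntegral A y := by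
    refine ⟨Polynomial.X ^ 2 - Polynomial.C d, Polynomial.monic_X_pow_sub_C d (by norm_num), ?_⟩
    simp [Polynomial.eval₂_sub, pow_two, hy]
  apply le_antisymm
  swap
  · exact Algebra.adjoin_le (Set.singleton_subset_iff.mpr hyint)
  -- the basis 1, y
  have hli : LinearIndependent K ![(1 : L), y] := by
    rw [LinearIndependent.pair_iff]
    intro s t hst
    have ht : t = 0 := by
      by_contra ht
      apply hyK
      refine ⟨-s / t, ?_⟩
      rw [Algebra.algebraMap_eq_smul_one]
      have : t • y = (-s) • (1 : L) := by
        rw [neg_smul]; exact eq_neg_of_add_eq_zero_right hst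
      calc (-s / t) • (1 : L) = t⁻¹ • ((-s) • (1 : L)) := by
            rw [smul_smul]; congr 1; field_simp
        _ = t⁻¹ • (t • y) := by rw [this]
        _ = y := by rw [smul_smul, inv_mul_cancel₀ ht, one_smul]
    subst ht
    rw [zero_smul, add_zero] at hst
    rcases smul_eq_zero.mp hst with h | h
    · exact ⟨h, rfl⟩
    · exact absurd h one_ne_zero
  let b : Module.Basis (Fin 2) K L :=
    basisOfLinearIndependentOfCardEqFinrank hli (by simp [hL])
  have hb : ∀ i, b i = ![(1 : L), y] i := fun i => by
    simp only [b, coe_basisOfLinearIndependentOfCardEqFinrank]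
  have hb0 : b 0 = 1 := hb 0
  have hb1 : b 1 = y := hb 1
  have hrepr : ∀ z : L, z = algebraMap K L (b.repr z 0) + algebraMap K L (b.repr z 1) * y := by
    intro z
    conv_lhs => rw [← b.sum_repr z]
    rw [Fin.sum_univ_two, hb0, hb1, Algebra.algebraMap_eq_smul_one, Algebra.smul_def,
      Algebra.smul_def, mul_one, Algebra.algebraMap_eq_smul_one, Algebra.smul_def, mul_one]
  -- traces
  have htr1 : Algebra.trace K L (1 : L) = 2 := by
    have := Algebra.trace_algebraMap (S := L) (1 : K)
    rw [map_one, hL] at this
    rw [this]; simp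
  have htry : Algebra.trace K L y = 0 := by
    rw [Algebra.trace_eq_matrix_trace b, Matrix.trace_fin_two,
      Algebra.leftMulMatrix_eq_repr_mul, Algebra.leftMulMatrix_eq_repr_mul, hb0, hb1, mul_one, hy]
    have h1 : b.repr y 0 = 0 := by
      rw [← hb1, b.repr_self_apply]; simp
    have h2 : b.repr (algebraMap A L d) 1 = 0 := by
      rw [hAL, Algebra.algebraMap_eq_smul_one, ← hb0, map_smul, Finsupp.smul_apply,
        b.repr_self_apply]
      simp
    rw [h1, h2, add_zero]
  intro z hz
  have hz' : IsIntegral A z := hz
  obtain ⟨u, hu⟩ := h2.exists_right_inv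
  -- alpha in A
  have htrz : Algebra.trace K L z = 2 * b.repr z 0 := by
    conv_lhs => rw [hrepr z]
    rw [map_add, Algebra.algebraMap_eq_smul_one, map_smul, htr1, ← Algebra.smul_def, map_smul,
      htry, smul_zero, add_zero, smul_eq_mul, mul_comm]
  obtain ⟨a1, ha1⟩ := IsIntegrallyClosed.isIntegral_iff.mp (Algebra.isIntegral_trace (L := K) hz')
  have hα : b.repr z 0 = algebraMap A K (u * a1) := by
    rw [map_mul, ha1, htrz, ← mul_assoc]
    have : algebraMap A K u * 2 = 1 := by
      rw [← map_ofNat (algebraMap A K) 2, ← map_mul, mul_comm, hu, map_one]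
    rw [this, one_mul]
  -- w = β y integral
  have hw : IsIntegral A (algebraMap K L (b.repr z 1) * y) := by
    have : algebraMap K L (b.repr z 1) * y = z - algebraMap A L (u * a1) := by
      rw [hAL, ← hα]; rw [eq_sub_iff_add_eq, add_comm]; exact (hrepr z).symm
    rw [this]
    exact hz'.sub isIntegral_algebraMap
  set β := b.repr z 1 with hβ
  have hw2 : IsIntegral A (algebraMap K L (β * β * algebraMap A K d)) := by
    have : algebraMap K L (β * β * algebraMap A K d) =
        (algebraMap K L β * y) * (algebraMap K L β * y) := by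
      rw [map_mul, map_mul, ← hAL, ← hy]; ring
    rw [this]; exact hw.mul hw
  have hw3 : IsIntegral A (β * β * algebraMap A K d) :=
    (isIntegral_algHom_iff (IsScalarTower.toAlgHom A K L) (algebraMap K L).injective).mp hw2
  obtain ⟨c, hc⟩ := IsIntegrallyClosed.isIntegral_iff.mp hw3
  -- β ∈ A
  have hβA : ∃ e : A, algebraMap A K e = β := by
    set n := IsFractionRing.num A β with hn
    set m := IsFractionRing.den A β with hm
    have hm0 : algebraMap A K (m : A) ≠ 0 :=
      IsFractionRing.to_map_ne_zero_of_mem_nonZeroDivisors m.2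
    have hβeq : β = algebraMap A K n / algebraMap A K (m : A) :=
      (IsFractionRing.mk'_num_den' A β).symm
    have hrel : IsRelPrime n (m : A) := IsFractionRing.num_den_reduced A β
    have heq : n * n * d = c * ((m : A) * (m : A)) := by
      apply IsFractionRing.injective A K
      rw [map_mul, map_mul, map_mul, map_mul, hc, hβeq]
      field_simp
    have hdvd : (m : A) * (m : A) ∣ d := by
      have h1 : IsRelPrime ((m : A) * (m : A)) (n * n) :=
        IsRelPrime.mul_left (IsRelPrime.mul_right hrel.symm hrel.symm)
          (IsRelPrime.mul_right hrel.symm hrel.symm)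
      exact h1.dvd_of_dvd_mul_left ⟨c, by rw [heq]; ring⟩
    have hmu : IsUnit (m : A) := hd _ hdvd
    obtain ⟨mi, hmi⟩ := hmu.exists_right_inv
    refine ⟨n * mi, ?_⟩
    rw [hβeq, map_mul, eq_div_iff hm0, mul_assoc, ← map_mul, mul_comm mi, hmi, map_one, mul_one]
  obtain ⟨e, he⟩ := hβA
  rw [hrepr z, hα, ← hβ, ← he, ← hAL, ← hAL]
  exact Subalgebra.add_mem _ (Subalgebra.algebraMap_mem _ _)
    (Subalgebra.mul_mem _ (Subalgebra.algebraMap_mem _ _) (Algebra.subset_adjoin rfl))

end Groth.Agent.S18888
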