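import Groth.Statements.S18889
import Mathlib

set_option autoImplicit false
universe u v w
open CAlg

namespace Groth.Agent.S18889

/-- Let R be a commutative ring, A a commutative R-algebra of finite presentation, and G a finite group
acting on A by R-algebra automorphisms such that the order of G is invertible in R. Then the ring of
invariants A^G is an R-algebra of finite presentation. (The source takes G to be a group of
automorphisms of A; here G acts through a possibly non-faithful action, which changes nothing since
the invariants and the invertibility of the order only depend on the image of G.) -/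
theorem result {R : Type u} {A : Type v} [CommRing R] [CommRing A]
    [Algebra R A] [Algebra.FinitePresentation R A]
    {G : Type w} [Group G] [Finite G] [MulSemiringAction G A] [SMulCommClass G R A]
    (hG : IsUnit ((Nat.card G : ℕ) : R)) :
    Algebra.FinitePresentation R (FixedPoints.subalgebra R A G) := by
  classical
  have : Fintype G := Fintype.ofFinite G
  have : Algebra.IsInvariant (FixedPoints.subalgebra R A G) A G :=
    ⟨fun b hb => ⟨⟨b, hb⟩, rfl⟩⟩
  have : Algebra.IsIntegral (FixedPoints.subalgebra R A G) A :=
    Algebra.IsInvariant.isIntegral (FixedPoints.subalgebra R A G) A G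
  have : Algebra.FiniteType R A := inferInstance
  have : Algebra.FiniteType (FixedPoints.subalgebra R A G) A :=
    Algebra.FiniteType.of_restrictScalars_finiteType R (FixedPoints.subalgebra R A G) A
  have hfin : Module.Finite (FixedPoints.subalgebra R A G) A := Algebra.IsIntegral.finite
  obtain ⟨u, hu⟩ := hG.exists_left_inv
  -- Reynolds operator
  have hinv : ∀ a : A, (u • ∑ g : G, g • a) ∈ FixedPoints.subalgebra R A G := by
    intro a h
    rw [smul_comm h u, Finset.smul_sum]
    congr 1
    simp only [smul_smul]
    exact Equiv.sum_comp (Equiv.mulLeft h) (fun g => g • a)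
  let ρ : A →ₗ[FixedPoints.subalgebra R A G] (FixedPoints.subalgebra R A G) :=
    { toFun := fun a => ⟨u • ∑ g : G, g • a, hinv a⟩
      map_add' := fun a b => by
        apply Subtype.ext
        simp only [smul_add, Finset.sum_add_distrib, Subalgebra.coe_add]
      map_smul' := fun c a => by
        apply Subtype.ext
        have hc : ∀ g : G, g • (c : A) = c := c.2
        simp only [RingHom.id_apply, Subalgebra.smul_def, smul_eq_mul, smul_mul', hc,
          Subalgebra.coe_mul]
        rw [← Finset.mul_sum, mul_smul_comm] }
  have hρ : ∀ c : FixedPoints.subalgebra R A G, ρ (c : A) = c := by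
    intro c
    apply Subtype.ext
    have hc : ∀ g : G, g • (c : A) = c := c.2
    show u • ∑ g : G, g • (c : A) = c
    simp only [hc, Finset.sum_const, Finset.card_univ]
    rw [← Nat.cast_smul_eq_nsmul R, smul_smul, ← Nat.card_eq_fintype_card, hu, one_smul]
  have hsurj : Function.Surjective ρ := fun c => ⟨c, hρ c⟩
  -- finite type
  obtain ⟨B₀, hB₀fg, hB₀A⟩ := exists_subalgebra_of_fg R (FixedPoints.subalgebra R A G) A
    Algebra.FiniteType.out hfin.fg_top
  have : Module.Finite B₀ A := ⟨hB₀A⟩
  have hfinC : Module.Finite B₀ (FixedPoints.subalgebra R A G) :=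
    Module.Finite.of_surjective (ρ.restrictScalars B₀) hsurj
  have : Algebra.FiniteType R B₀ := ⟨(Subalgebra.fg_top B₀).2 hB₀fg⟩
  have hCft : Algebra.FiniteType R (FixedPoints.subalgebra R A G) :=
    Algebra.FiniteType.trans (S := B₀) inferInstance inferInstance
  -- finite presentation
  obtain ⟨n, f, hf⟩ := Algebra.FiniteType.iff_quotient_mvPolynomial''.mp hCft
  let _ : Algebra (MvPolynomial (Fin n) R) (FixedPoints.subalgebra R A G) := f.toRingHom.toAlgebra
  let _ : Algebra (MvPolynomial (Fin n) R) A :=
    ((algebraMap (FixedPoints.subalgebra R A G) A).comp f.toRingHom).toAlgebra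
  have : IsScalarTower R (MvPolynomial (Fin n) R) (FixedPoints.subalgebra R A G) :=
    IsScalarTower.of_algebraMap_eq' f.comp_algebraMap.symm
  have : IsScalarTower (MvPolynomial (Fin n) R) (FixedPoints.subalgebra R A G) A :=
    IsScalarTower.of_algebraMap_eq' rfl
  have : IsScalarTower R (MvPolynomial (Fin n) R) A := by
    refine IsScalarTower.of_algebraMap_eq' ?_
    ext r
    show algebraMap R A r = algebraMap (FixedPoints.subalgebra R A G) A (f (algebraMap R _ r))
    rw [f.commutes]
    rfl
  have : Algebra.FinitePresentation (MvPolynomial (Fin n) R) A :=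
    Algebra.FinitePresentation.of_restrict_scalars_finitePresentation R (MvPolynomial (Fin n) R) A
  have : Module.Finite (MvPolynomial (Fin n) R) (FixedPoints.subalgebra R A G) :=
    Module.Finite.of_surjective (Algebra.linearMap (MvPolynomial (Fin n) R) _) hf
  have : Module.Finite (MvPolynomial (Fin n) R) A :=
    Module.Finite.trans (FixedPoints.subalgebra R A G) A
  have : Module.FinitePresentation (MvPolynomial (Fin n) R) A :=
    Module.FinitePresentation.of_finite_of_finitePresentation (MvPolynomial (Fin n) R) A
  let ρP : A →ₗ[MvPolynomial (Fin n) R] (FixedPoints.subalgebra R A G) :=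
    ρ.restrictScalars (MvPolynomial (Fin n) R)
  let ι : (FixedPoints.subalgebra R A G) →ₗ[MvPolynomial (Fin n) R] A :=
    (Algebra.linearMap (FixedPoints.subalgebra R A G) A).restrictScalars (MvPolynomial (Fin n) R)
  have hρι : ρP ∘ₗ ι = LinearMap.id := by
    ext c
    exact congrArg Subtype.val (hρ c)
  have : Module.FinitePresentation (MvPolynomial (Fin n) R) (FixedPoints.subalgebra R A G) := by
    refine Module.finitePresentation_of_surjective ρP hsurj ?_
    rw [LinearMap.ker_eq_range_of_comp_eq_id hρι]
    exact Module.Finite.iff_fg.mp inferInstance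
  have : Algebra.FinitePresentation (MvPolynomial (Fin n) R) (FixedPoints.subalgebra R A G) :=
    inferInstance
  exact Algebra.FinitePresentation.trans R (MvPolynomial (Fin n) R) _

end Groth.Agent.S18889
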