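import Groth.Statements.S18890
import Mathlib

set_option autoImplicit false
universe u v w w'
open CAlg

namespace Groth.Agent.S18890

/-- Let R be a commutative ring, G a finite group whose order is invertible in R, M an R-module with an
R-linear action ρ of G and N an arbitrary R-module. Then the natural map M^G ⊗_R N → M ⊗_R N induced
by the inclusion of the invariants is injective, and its image is the submodule of invariants of M
⊗_R N under the action ρ ⊗ 1 (G acting on the first factor). (The source lets G be a group of
R-automorphisms of M; a possibly non-faithful linear action changes nothing.) -/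
theorem result {R : Type u} [CommRing R]
    {G : Type v} [Group G] [Finite G] (hG : IsUnit ((Nat.card G : ℕ) : R))
    {M : Type w} {N : Type w'} [AddCommGroup M] [Module R M] [AddCommGroup N] [Module R N]
    (ρ : Representation R G M) :
    Function.Injective (LinearMap.rTensor N ρ.invariants.subtype) ∧
      LinearMap.range (LinearMap.rTensor N ρ.invariants.subtype) =
        (ρ.tprod (Representation.trivial R G N)).invariants := by
  classical
  letI : Fintype G := Fintype.ofFinite G
  obtain ⟨u, hu⟩ := hG
  set c : R := (↑u⁻¹ : R) with hc
  have hcu : c * (Nat.card G : R) = 1 := by rw [hc, ← hu]; exact Units.inv_mul u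
  -- the averaging operator
  let P : M →ₗ[R] M := c • ∑ g : G, ρ g
  have hPinv : ∀ m, P m ∈ ρ.invariants := by
    intro m
    rw [Representation.mem_invariants]
    intro g
    simp only [P, LinearMap.smul_apply, LinearMap.sum_apply, map_smul, map_sum]
    congr 1
    rw [← Equiv.sum_comp (Equiv.mulLeft g⁻¹)]
    refine Finset.sum_congr rfl fun h _ => ?_
    rw [Equiv.coe_mulLeft, ← Module.End.mul_apply, ← map_mul, mul_inv_cancel_left]
  have hPid : ∀ m ∈ ρ.invariants, P m = m := by
    intro m hm
    rw [Representation.mem_invariants] at hm
    simp only [P, LinearMap.smul_apply, LinearMap.sum_apply, hm, Finset.sum_const,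
      Finset.card_univ]
    rw [← Nat.card_eq_fintype_card, ← Nat.cast_smul_eq_nsmul R, smul_smul, hcu, one_smul]
  let r : M →ₗ[R] ρ.invariants := P.codRestrict ρ.invariants hPinv
  have hr : r ∘ₗ ρ.invariants.subtype = LinearMap.id := by
    ext m
    exact hPid m m.2
  have hsr : ρ.invariants.subtype ∘ₗ r = P := by
    ext m
    rfl
  constructor
  · have h1 : LinearMap.rTensor N r ∘ₗ LinearMap.rTensor N ρ.invariants.subtype = LinearMap.id := by
      rw [← LinearMap.rTensor_comp, hr, LinearMap.rTensor_id]
    exact Function.LeftInverse.injective (g := LinearMap.rTensor N r)
      (fun x => LinearMap.congr_fun h1 x)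
  · apply le_antisymm
    · rintro _ ⟨x, rfl⟩
      rw [Representation.mem_invariants]
      intro g
      rw [Representation.tprod_apply]
      induction x using TensorProduct.induction_on with
      | zero => simp
      | tmul m n =>
        rw [LinearMap.rTensor_tmul, TensorProduct.map_tmul, Submodule.subtype_apply,
          (Representation.mem_invariants ρ _).mp m.2 g]
        rfl
      | add x y hx hy => rw [map_add, map_add, hx, hy]
    · intro z hz
      rw [Representation.mem_invariants] at hz
      have h1 : LinearMap.rTensor N P z = z := by
        have h2 : LinearMap.rTensor N P = c • ∑ g : G, TensorProduct.map (ρ g) LinearMap.id := by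
          have h4 : LinearMap.rTensor N P = LinearMap.rTensorHom N P := rfl
          rw [h4]
          simp only [P, map_smul, map_sum]
          rfl
        rw [h2, LinearMap.smul_apply, LinearMap.sum_apply]
        have h3 : ∀ g : G, TensorProduct.map (ρ g) LinearMap.id z = z := by
          intro g
          have := hz g
          rw [Representation.tprod_apply] at this
          exact this
        simp only [h3, Finset.sum_const, Finset.card_univ]
        rw [← Nat.card_eq_fintype_card, ← Nat.cast_smul_eq_nsmul R, smul_smul, hcu, one_smul]
      rw [← h1, ← hsr, LinearMap.rTensor_comp]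
      exact ⟨_, rfl⟩

end Groth.Agent.S18890
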