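import Groth.Statements.S1890
import Mathlib

set_option autoImplicit false
universe u
open CategoryTheory CategoryTheory.Limits AlgebraicGeometry
open Grpd

namespace Groth.Agent.S1890

/-- for a quasi-affine scheme, an affine basic open of a global section `r` is all of `D(r)`. -/
theorem mem_range_toSpecΓ_of_isAffineOpen_basicOpen (V : Scheme.{u}) [CompactSpace V]
    [QuasiSeparatedSpace V] (r : Γ(V, ⊤)) (hr : IsAffineOpen (V.basicOpen r))
    (p : PrimeSpectrum Γ(V, ⊤)) (hp : p ∈ PrimeSpectrum.basicOpen r) :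
    p ∈ Set.range V.toSpecΓ := by
  have h1 := hr.fromSpec_toSpecΓ
  have hloc := isLocalization_basicOpen_of_qcqs (X := V) (U := ⊤) isCompact_univ
    isQuasiSeparated_univ r
  have hrange := PrimeSpectrum.localization_away_comap_range (Γ(V, V.basicOpen r)) r
  have hp' : p ∈ Set.range (PrimeSpectrum.comap (algebraMap Γ(V, ⊤) Γ(V, V.basicOpen r))) := by
    rw [hrange]; exact hp
  obtain ⟨q, hq⟩ := hp'
  refine ⟨hr.fromSpec q, ?_⟩
  have := congr($(h1) q)
  rw [Scheme.Hom.comp_apply] at this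
  rw [this]
  exact hq

/-- Take a quasi-compact immersion j : V → Spec A and an element f ∈ A such that j⁻¹(D(f)) is affine and
j(V) ∩ V(f) is closed in Spec A. Then V is affine. -/
theorem result (A : Type u) [CommRing A] (V : Scheme.{u}) (j : V ⟶ Spec (CommRingCat.of A)) [IsImmersion j] [QuasiCompact j] (f : A) (haff : IsAffineOpen (j ⁻¹ᵁ PrimeSpectrum.basicOpen f)) (hcl : IsClosed (Set.range ⇑j ∩ PrimeSpectrum.zeroLocus {f})) : IsAffine V := by
  haveI : CompactSpace V := QuasiCompact.compactSpace_of_compactSpace j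
  haveI : V.IsQuasiAffine := Scheme.IsQuasiAffine.of_isImmersion j
  let φ : CommRingCat.of A ⟶ Γ(V, ⊤) := (Scheme.ΓSpecIso (CommRingCat.of A)).inv ≫ j.appTop
  have hj : V.toSpecΓ ≫ Spec.map φ = j := by
    simp only [φ, Spec.map_comp]
    rw [← Scheme.toSpecΓ_naturality_assoc, toSpecΓ_SpecMap_ΓSpecIso_inv, Category.comp_id]
  have hbasic : ∀ a : A, V.basicOpen (φ a) = j ⁻¹ᵁ PrimeSpectrum.basicOpen a := by
    intro a
    rw [← Scheme.toSpecΓ_preimage_basicOpen, ← hj, Scheme.Hom.comp_preimage]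
    congr 1
  suffices hsurj : Function.Surjective V.toSpecΓ by
    haveI : Surjective V.toSpecΓ := ⟨hsurj⟩
    haveI : IsIso V.toSpecΓ :=
      (isIso_iff_isOpenImmersion_and_surjective _).mpr ⟨inferInstance, inferInstance⟩
    exact ⟨inferInstance⟩
  intro p
  change p ∈ Set.range V.toSpecΓ
  let pA : PrimeSpectrum A := Spec.map φ p
  have hjv : ∀ v : V, Spec.map φ (V.toSpecΓ v) = j v := fun v => by
    rw [← Scheme.Hom.comp_apply, hj]
  by_cases hp : pA ∈ Set.range ⇑j ∩ PrimeSpectrum.zeroLocus {f}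
  · -- the closed set `T` = boundary of `j(V)`
    haveI : IsOpenImmersion j.toImage := inferInstance
    let T : Set (PrimeSpectrum A) := j.imageι '' (Set.range j.toImage)ᶜ
    have hTcl : IsClosed T :=
      j.imageι.isClosedEmbedding.isClosedMap _ j.toImage.isOpenEmbedding.isOpen_range.isClosed_compl
    have hjim : ∀ v : V, j.imageι (j.toImage v) = j v := fun v => by
      rw [← Scheme.Hom.comp_apply, Scheme.Hom.toImage_imageι]
    have hdisj : (Set.range ⇑j ∩ PrimeSpectrum.zeroLocus {f}) ∩ T = ∅ := by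
      ext z
      simp only [Set.mem_inter_iff, Set.mem_empty_iff_false, iff_false, not_and]
      rintro ⟨⟨v, rfl⟩, -⟩ ⟨w, hw, hwz⟩
      rw [← hjim] at hwz
      have := j.imageι.isClosedEmbedding.injective hwz
      exact hw ⟨v, this.symm⟩
    -- separate
    obtain ⟨I₁, hI₁⟩ := (PrimeSpectrum.isClosed_iff_zeroLocus_ideal _).mp hcl
    obtain ⟨I₂, hI₂⟩ := (PrimeSpectrum.isClosed_iff_zeroLocus_ideal _).mp hTcl
    have hsup : I₁ ⊔ I₂ = ⊤ := by
      rw [← PrimeSpectrum.zeroLocus_empty_iff_eq_top, PrimeSpectrum.zeroLocus_sup, ← hI₁, ← hI₂]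
      exact hdisj
    obtain ⟨x, hx, y, hy, hxy⟩ := Submodule.mem_sup.mp (hsup ▸ Submodule.mem_top : (1 : A) ∈ I₁ ⊔ I₂)
    -- `y` is `1` on `Z` and `0` on `T`
    have hZy : ∀ z ∈ Set.range ⇑j ∩ PrimeSpectrum.zeroLocus {f}, z ∈ PrimeSpectrum.basicOpen y := by
      intro z hz
      rw [hI₁] at hz
      have hxz : x ∈ z.asIdeal := hz hx
      intro hyz
      have : (1 : A) ∈ z.asIdeal := hxy ▸ z.asIdeal.add_mem hxz hyz
      exact z.isPrime.ne_top ((Ideal.eq_top_iff_one _).mpr this)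
    have hTy : ∀ z ∈ T, z ∉ PrimeSpectrum.basicOpen y := by
      intro z hz
      rw [hI₂] at hz
      exact fun h => h (hz hy)
    -- `j⁻¹ D(y)` is affine
    have haffy : IsAffineOpen (j ⁻¹ᵁ PrimeSpectrum.basicOpen y) := by
      have hW : IsAffineOpen (j.imageι ⁻¹ᵁ PrimeSpectrum.basicOpen y) :=
        (IsAffineOpen.Spec_basicOpen y).preimage j.imageι
      have hle : j.imageι ⁻¹ᵁ PrimeSpectrum.basicOpen y ≤ j.toImage.opensRange := by
        intro w hw
        by_contra hw'
        exact hTy _ ⟨w, hw', rfl⟩ hw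
      have := hW.preimage_of_isOpenImmersion j.toImage hle
      rwa [← Scheme.Hom.comp_preimage, Scheme.Hom.toImage_imageι] at this
    rw [← hbasic] at haffy
    exact mem_range_toSpecΓ_of_isAffineOpen_basicOpen V _ haffy p (hZy _ hp)
  · -- `pA ∉ Z`
    have hopen : IsOpen (Set.range ⇑j ∩ PrimeSpectrum.zeroLocus {f})ᶜ := hcl.isOpen_compl
    obtain ⟨_, ⟨_, ⟨g, rfl⟩, rfl⟩, hpg, hgsub⟩ :=
      PrimeSpectrum.isBasis_basic_opens.exists_subset_of_mem_open hp hopen
    -- `V_g ⊆ V_f`
    have hle : V.basicOpen (φ g) ≤ V.basicOpen (φ f) := by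
      rw [hbasic, hbasic]
      intro v hv
      have h1 : j v ∈ (Set.range ⇑j ∩ PrimeSpectrum.zeroLocus {f})ᶜ := hgsub hv
      by_contra hvf
      apply h1
      refine ⟨⟨v, rfl⟩, ?_⟩
      change ({f} : Set A) ⊆ (show PrimeSpectrum A from j v).asIdeal
      rw [Set.singleton_subset_iff]
      by_contra h2
      exact hvf h2
    have haffg : IsAffineOpen (V.basicOpen (φ g)) := by
      have h1 : IsAffineOpen (V.basicOpen (φ f)) := by rw [hbasic]; exact haff
      have h2 := h1.basicOpen (V.presheaf.map (homOfLE le_top).op (φ g))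
      rwa [Scheme.basicOpen_res, inf_eq_right.mpr hle] at h2
    exact mem_range_toSpecΓ_of_isAffineOpen_basicOpen V _ haffg p hpg

end Groth.Agent.S1890
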