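import Groth.Statements.S18912
import Mathlib

set_option autoImplicit false
universe u
open CategoryTheory CategoryTheory.Limits AlgebraicGeometry
open TFNodal

namespace Groth.Agent.S18912

theorem root_in_base {k K : Type*} [Field k] [IsAlgClosed k] [CharZero k] [CommRing K]
    (hK : IsField K) (ι : k →+* K) (e : ℕ) (c : K) (hc : c ^ (e + 1) = 1) :
    ∃ ζ : k, ζ ^ (e + 1) = 1 ∧ ι ζ = c := by
  haveI : IsDomain K := hK.isDomain
  haveI : NeZero (((e + 1 : ℕ)) : k) := ⟨by exact_mod_cast Nat.succ_ne_zero e⟩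
  obtain ⟨ζ₀, hζ₀⟩ := HasEnoughRootsOfUnity.exists_primitiveRoot k (e + 1)
  have hinj : Function.Injective ι := ι.injective
  have h1 : IsPrimitiveRoot (ι ζ₀) (e + 1) := hζ₀.map_of_injective hinj
  obtain ⟨i, -, hi⟩ := h1.eq_pow_of_pow_eq_one hc
  refine ⟨ζ₀ ^ i, ?_, ?_⟩
  · rw [← pow_mul, mul_comm, pow_mul, hζ₀.pow_eq_one, one_pow]
  · rw [map_pow, hi]

theorem germ_nat {X : Scheme.{u}} (F : X.Modules) (τ : F ⟶ Coh.structureModule X)
    (η : X) {U V : X.Opens} (i : V ⟶ U) (hV : η ∈ V) (a : Γ(F, U)) :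
    (X.presheaf.germ V η hV (τ.app V (F.presheaf.map i.op a) : Γ(X, V)) : X.presheaf.stalk η) =
      X.presheaf.germ U η (i.le hV) (τ.app U a : Γ(X, U)) := by
  have h1 := congrArg (fun φ => φ a) (τ.mapPresheaf.naturality i.op)
  simp only [Scheme.Modules.mapPresheaf_app] at h1
  have h2 : (τ.app V (F.presheaf.map i.op a) : Γ(X, V)) =
      X.presheaf.map i.op (τ.app U a : Γ(X, U)) := h1
  rw [h2]
  exact X.presheaf.germ_res_apply i η hV _

/-- Let k be an algebraically closed field of characteristic zero, X a reduced scheme locally of finite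
type over k, F an O_X-module, d ≥ 1 an integer and τ, τ' : F → O_X two O_X-linear maps whose d-th
symmetric powers agree, in the sense that for every open U and all sections a_1, …, a_d of F over U
the products τ(a_1)⋯τ(a_d) and τ'(a_1)⋯τ'(a_d) coincide in Γ(U, O_X). Then for every point η of X
whose local ring is a field (a generic point of an irreducible component) there is a d-th root of
unity ξ in k such that, for every section a of F over an open containing η, the germ of τ'(a) at η
is ξ times the germ of τ(a). The published statement is for a coherent module on a projective nodal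
curve and concludes that τ' = ξ τ with one root of unity ξ on each connected component; that form
fails for the union of two lines meeting at a node, F the ideal of the node, τ the inclusion and τ'
equal to τ on one line and to −τ on the other (d = 2), so the conclusion is stated here at each
generic point, i.e. per irreducible component, which is what the stalkwise argument yields. -/
theorem result
    (k : Type u) [Field k] [IsAlgClosed k] [CharZero k]
    (X : Scheme.{u}) [X.Over (Spec (CommRingCat.of k))]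
    [LocallyOfFiniteType (X ↘ Spec (CommRingCat.of k))] [AlgebraicGeometry.IsReduced X]
    (F : X.Modules) (τ τ' : F ⟶ Coh.structureModule X) (d : ℕ) (hd : 1 ≤ d)
    (hS : ∀ (U : X.Opens) (a : Fin d → Γ(F, U)),
      (∏ i, (τ.app U (a i) : Γ(X, U)) : Γ(X, U)) = (∏ i, (τ'.app U (a i) : Γ(X, U)) : Γ(X, U)))
    (η : X) (hη : IsField (X.presheaf.stalk η)) :
    ∃ ξ : k, ξ ^ d = 1 ∧ ∀ (U : X.Opens) (hU : η ∈ U) (a : Γ(F, U)),
      (X.presheaf.germ U η hU (τ'.app U a : Γ(X, U)) : X.presheaf.stalk η) =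
        Curv2.stalkMap k X η ξ * X.presheaf.germ U η hU (τ.app U a : Γ(X, U)) := by
  classical
  obtain ⟨e, rfl⟩ : ∃ e, d = e + 1 := Nat.exists_eq_succ_of_ne_zero (by omega)
  have hdom : IsDomain (X.presheaf.stalk η) := hη.isDomain
  -- the germ maps
  set t : ∀ (U : X.Opens) (_ : η ∈ U), Γ(F, U) → X.presheaf.stalk η :=
    fun U hU a => X.presheaf.germ U η hU (τ.app U a : Γ(X, U)) with ht
  set t' : ∀ (U : X.Opens) (_ : η ∈ U), Γ(F, U) → X.presheaf.stalk η :=
    fun U hU a => X.presheaf.germ U η hU (τ'.app U a : Γ(X, U)) with ht'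
  -- product formula
  have hprod : ∀ (U : X.Opens) (hU : η ∈ U) (a : Fin (e + 1) → Γ(F, U)),
      ∏ i, t U hU (a i) = ∏ i, t' U hU (a i) := by
    intro U hU a
    have := congrArg (fun x => (X.presheaf.germ U η hU x : X.presheaf.stalk η)) (hS U a)
    simp only [map_prod] at this
    exact this
  by_cases hall : ∀ (U : X.Opens) (hU : η ∈ U) (a : Γ(F, U)), t U hU a = 0
  · refine ⟨1, one_pow _, fun U hU a => ?_⟩
    have h1 := hprod U hU (fun _ => a)
    simp only [Finset.prod_const, Finset.card_univ, Fintype.card_fin] at h1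
    rw [hall U hU a, zero_pow (Nat.succ_ne_zero e)] at h1
    have h2 : t' U hU a = 0 := pow_eq_zero_iff (Nat.succ_ne_zero e) |>.mp h1.symm
    show t' U hU a = _ * t U hU a
    rw [h2, hall U hU a, mul_zero]
  · push_neg at hall
    obtain ⟨U₀, hU₀, a₀, ht₀⟩ := hall
    obtain ⟨b, hb⟩ := hη.mul_inv_cancel ht₀
    have h0 := hprod U₀ hU₀ (fun _ => a₀)
    simp only [Finset.prod_const, Finset.card_univ, Fintype.card_fin] at h0
    set c := t' U₀ hU₀ a₀ * b with hc
    have hcd : c ^ (e + 1) = 1 := by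
      rw [hc, mul_pow, ← h0, ← mul_pow, hb, one_pow]
    have hct : c * t U₀ hU₀ a₀ = t' U₀ hU₀ a₀ := by
      rw [hc, mul_assoc, mul_comm b, hb, mul_one]
    obtain ⟨ζ, hζ, hζc⟩ := root_in_base hη (Curv2.stalkMap k X η) e c hcd
    refine ⟨ζ, hζ, fun U hU a => ?_⟩
    show t' U hU a = _ * t U hU a
    rw [hζc]
    -- restrict to U ⊓ U₀
    have hW : η ∈ U ⊓ U₀ := ⟨hU, hU₀⟩
    let i₁ : U ⊓ U₀ ⟶ U := homOfLE inf_le_left
    let i₂ : U ⊓ U₀ ⟶ U₀ := homOfLE inf_le_right
    have e1 : t (U ⊓ U₀) hW (F.presheaf.map i₁.op a) = t U hU a := germ_nat F τ η i₁ hW a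
    have e1' : t' (U ⊓ U₀) hW (F.presheaf.map i₁.op a) = t' U hU a := germ_nat F τ' η i₁ hW a
    have e2 : t (U ⊓ U₀) hW (F.presheaf.map i₂.op a₀) = t U₀ hU₀ a₀ := germ_nat F τ η i₂ hW a₀
    have e2' : t' (U ⊓ U₀) hW (F.presheaf.map i₂.op a₀) = t' U₀ hU₀ a₀ :=
      germ_nat F τ' η i₂ hW a₀
    have h3 := hprod (U ⊓ U₀) hW
      (Fin.cons (F.presheaf.map i₁.op a) (fun _ => F.presheaf.map i₂.op a₀))
    rw [Fin.prod_univ_succ, Fin.prod_univ_succ] at h3
    simp only [Fin.cons_zero, Fin.cons_succ, Finset.prod_const, Finset.card_univ,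
      Fintype.card_fin] at h3
    rw [e1, e1', e2, e2', ← hct, mul_pow] at h3
    have hne : t U₀ hU₀ a₀ ^ e ≠ 0 := pow_ne_zero _ ht₀
    have h4 : t U hU a = t' U hU a * c ^ e := by
      apply mul_right_cancel₀ hne
      rw [h3]; ring
    rw [h4]
    calc t' U hU a = t' U hU a * c ^ (e + 1) := by rw [hcd, mul_one]
      _ = c * (t' U hU a * c ^ e) := by ring

end Groth.Agent.S18912
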