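import Groth.Statements.S18929
import Mathlib
import Groth.Agent.S18928

set_option autoImplicit false
universe u
open DPow

namespace Groth.Agent.S18929

/-- Let p be a prime, n a natural number, B a commutative ring in which p^n = 0, and I an ideal of B
equipped with divided powers. There is a ring homomorphism θ from the truncated Witt vectors
W_n(B/I) to B such that, for every Witt vector x over B, θ applied to the truncation of the image of
x in W_n(B/I) equals Σ_{i<n} p^i x_i^(p^(n−i)); in particular this sum depends only on the residues
of x_0, …, x_{n−1} modulo I. (The source works with a divided power thickening of an algebra over a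
perfect field and also checks linearity over the Witt vectors of that field; only the ring
homomorphism is asserted here. θ is unique, the truncation-of-reduction map being surjective.) -/
theorem result (p : ℕ) [Fact p.Prime] (n : ℕ)
    {B : Type u} [CommRing B] (hp : (p : B) ^ n = 0) {I : Ideal B} (hI : DividedPowers I) :
    ∃ θ : TruncatedWittVector p n (B ⧸ I) →+* B, ∀ x : WittVector p B, θ (WittVector.truncate n (WittVector.map (Ideal.Quotient.mk I) x)) =
        ∑ i : Fin n, (p : B) ^ (i : ℕ) * (x.coeff i) ^ (p ^ (n - i)) := by
  classical
  -- ghost component formula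
  have hghost : ∀ x : WittVector p B, WittVector.ghostComponent n x =
      ∑ i : Fin n, (p : B) ^ (i : ℕ) * (x.coeff i) ^ (p ^ (n - i)) := by
    intro x
    rw [WittVector.ghostComponent_apply, aeval_wittPolynomial, Finset.sum_range_succ, hp,
      zero_mul, add_zero, Finset.sum_range]
  let f : WittVector p B →+* TruncatedWittVector p n (B ⧸ I) :=
    (WittVector.truncate n).comp (WittVector.map (Ideal.Quotient.mk I))
  have hf : Function.Surjective f :=
    (WittVector.truncate_surjective p n _).comp
      (WittVector.map_surjective _ Ideal.Quotient.mk_surjective)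
  have hker : RingHom.ker f ≤ RingHom.ker (WittVector.ghostComponent n : WittVector p B →+* B) := by
    intro x hx
    rw [RingHom.mem_ker] at hx ⊢
    rw [hghost]
    have hxi : ∀ i : Fin n, x.coeff i ∈ I := by
      intro i
      have := congrArg (fun y => TruncatedWittVector.coeff i y) hx
      simp only [f, RingHom.comp_apply, WittVector.coeff_truncate, WittVector.map_coeff,
        TruncatedWittVector.coeff_zero] at this
      exact Ideal.Quotient.eq_zero_iff_mem.mp this
    refine Finset.sum_eq_zero (fun i _ => ?_)
    have h1 := Groth.Agent.S18928.result hI p (n - i) 0 (x.coeff i) (hxi i)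
    rw [zero_add, zero_pow (pow_pos (Fact.out : p.Prime).pos _).ne', sub_zero] at h1
    -- x_i^(p^(n-i)) ∈ (p^(n-i)) I
    have h2 : (p : B) ^ (i : ℕ) * (x.coeff i) ^ (p ^ (n - i)) ∈
        Ideal.span {((p : B) ^ (i : ℕ))} * (Ideal.span {((p : B) ^ (n - i))} * I) :=
      Ideal.mul_mem_mul (Ideal.mem_span_singleton_self _) h1
    rw [← mul_assoc, Ideal.span_singleton_mul_span_singleton, ← pow_add,
      Nat.add_sub_cancel' (le_of_lt i.2), hp] at h2
    have h3 : Ideal.span {(0 : B)} * I = ⊥ := by
      rw [Ideal.span_singleton_eq_bot.mpr rfl, Ideal.bot_mul]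
    rw [h3] at h2
    exact h2
  refine ⟨f.liftOfSurjective hf ⟨WittVector.ghostComponent n, hker⟩, fun x => ?_⟩
  rw [← hghost]
  exact RingHom.liftOfSurjective_comp_apply f hf ⟨WittVector.ghostComponent n, hker⟩ x

end Groth.Agent.S18929
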