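import Groth.Statements.S18930
import Mathlib

set_option autoImplicit false
universe u
open DPow

namespace Groth.Agent.S18930

/-- Let p be a prime, n ≥ 1, B a commutative ring with p^n = 0 and A = B/pB. Let θ : W_n(A) → B be the
ring homomorphism which sends the reduction of a Witt vector (x_0, …, x_{n−1}) over B to Σ_{i<n} p^i
x_i^(p^(n−i)), let J_n be its kernel and let I_n be the set of a in W_n(A) whose zeroth component
satisfies a_0^(p^n) = 0. Then J_n + (p) ⊆ I_n. (In the source B is the ring of global sections of a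
scheme over the Witt vectors of length n of a perfect field.) -/
theorem result (p : ℕ) [Fact p.Prime] (n : ℕ) (hn : 0 < n)
    {B : Type u} [CommRing B] (hp : (p : B) ^ n = 0)
    (θ : TruncatedWittVector p n (B ⧸ (Ideal.span {(p : B)})) →+* B)
    (hθ : ∀ x : WittVector p B, θ (WittVector.truncate n (WittVector.map (Ideal.Quotient.mk (Ideal.span {(p : B)})) x)) =
        ∑ i : Fin n, (p : B) ^ (i : ℕ) * (x.coeff i) ^ (p ^ (n - i)))
    (a : TruncatedWittVector p n (B ⧸ (Ideal.span {(p : B)})))
    (ha : a ∈ RingHom.ker θ ⊔ Ideal.span {(p : TruncatedWittVector p n (B ⧸ (Ideal.span {(p : B)})))}) :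
    (TruncatedWittVector.coeff ⟨0, hn⟩ a) ^ (p ^ n) = 0 := by
  classical
  set A := B ⧸ (Ideal.span {(p : B)}) with hA
  have hpA : (p : A) = 0 := by
    have : (p : A) = Ideal.Quotient.mk (Ideal.span {(p : B)}) (p : B) := by simp
    rw [this, Ideal.Quotient.eq_zero_iff_mem]
    exact Ideal.mem_span_singleton_self _
  obtain ⟨u, hu, w, hw, rfl⟩ := Submodule.mem_sup.mp ha
  obtain ⟨v, rfl⟩ := Ideal.mem_span_singleton'.mp hw
  -- lift u to a Witt vector over B, v to a Witt vector over A
  obtain ⟨x, hx⟩ : ∃ x : WittVector p B,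
      WittVector.truncate n (WittVector.map (Ideal.Quotient.mk (Ideal.span {(p : B)})) x) = u := by
    obtain ⟨y, hy⟩ := WittVector.truncate_surjective p n A u
    obtain ⟨x, hx⟩ := WittVector.map_surjective _ Ideal.Quotient.mk_surjective y
    exact ⟨x, by rw [hx, hy]⟩
  obtain ⟨y, hy⟩ := WittVector.truncate_surjective p n A v
  set x' := WittVector.map (Ideal.Quotient.mk (Ideal.span {(p : B)})) x with hx'
  have h0 : TruncatedWittVector.coeff ⟨0, hn⟩ (u + v * (p : TruncatedWittVector p n A)) =
      Ideal.Quotient.mk (Ideal.span {(p : B)}) (x.coeff 0) := by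
    have e1 : u + v * (p : TruncatedWittVector p n A) =
        WittVector.truncate n (x' + y * (p : WittVector p A)) := by
      rw [map_add, map_mul, map_natCast, hx, hy]
    rw [e1, WittVector.coeff_truncate]
    show WittVector.constantCoeff (x' + y * (p : WittVector p A)) = _
    rw [map_add, map_mul, map_natCast, hpA, mul_zero, add_zero]
    rfl
  rw [h0, ← map_pow, Ideal.Quotient.eq_zero_iff_mem, Ideal.mem_span_singleton]
  -- θ u = 0 gives the sum formula
  have hθu : ∑ i : Fin n, (p : B) ^ (i : ℕ) * (x.coeff i) ^ (p ^ (n - i)) = 0 := by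
    rw [← hθ x, hx]; exact hu
  obtain ⟨n', rfl⟩ : ∃ n', n = n' + 1 := Nat.exists_eq_succ_of_ne_zero hn.ne'
  rw [Fin.sum_univ_succ] at hθu
  simp only [Fin.val_zero, pow_zero, one_mul, Nat.sub_zero, Fin.val_succ] at hθu
  have : x.coeff 0 ^ p ^ (n' + 1) =
      - ∑ i : Fin n', (p : B) ^ ((i : ℕ) + 1) * x.coeff ((i : ℕ) + 1) ^ p ^ (n' + 1 - ((i : ℕ) + 1)) :=
    eq_neg_of_add_eq_zero_left hθu
  rw [this, dvd_neg]
  refine Finset.dvd_sum (fun i _ => ?_)
  rw [pow_succ', mul_assoc]
  exact dvd_mul_right _ _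

end Groth.Agent.S18930
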