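import Groth.Statements.S18931
import Mathlib

set_option autoImplicit false
universe u
open DPow

namespace Groth.Agent.S18931

/-- Let p be a prime, n ≥ 1, B a commutative ring with p^n = 0 and A = B/pB, and assume that the p-th
power map of A is surjective. Let θ : W_n(A) → B be the ring homomorphism which sends the reduction
of a Witt vector (x_0, …, x_{n−1}) over B to Σ_{i<n} p^i x_i^(p^(n−i)). Then every a in W_n(A) with
a_0^(p^n) = 0 lies in ker θ + (p); together with the reverse inclusion, ker θ + (p) is exactly the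
set of such a. (In the source B is the ring of global sections of a scheme over the Witt vectors of
length n of a perfect field. The printed argument subtracts a single correction term, which suffices
for n ≤ 2; in general one corrects the components one at a time.) -/
theorem result (p : ℕ) [Fact p.Prime]
    (n : ℕ) (hn : 0 < n) {B : Type u} [CommRing B] (hp : (p : B) ^ n = 0)
    (hF : Function.Surjective (fun y : B ⧸ (Ideal.span {(p : B)}) => y ^ p))
    (θ : TruncatedWittVector p n (B ⧸ (Ideal.span {(p : B)})) →+* B)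
    (hθ : ∀ x : WittVector p B, θ (WittVector.truncate n (WittVector.map (Ideal.Quotient.mk (Ideal.span {(p : B)})) x)) =
        ∑ i : Fin n, (p : B) ^ (i : ℕ) * (x.coeff i) ^ (p ^ (n - i)))
    (a : TruncatedWittVector p n (B ⧸ (Ideal.span {(p : B)}))) (ha : (TruncatedWittVector.coeff ⟨0, hn⟩ a) ^ (p ^ n) = 0) :
    a ∈ RingHom.ker θ ⊔ Ideal.span {(p : TruncatedWittVector p n (B ⧸ (Ideal.span {(p : B)})))} := by
  classical
  have hpA : (p : (B ⧸ Ideal.span {(p : B)})) = 0 := by
    have : (p : (B ⧸ Ideal.span {(p : B)})) = Ideal.Quotient.mk (Ideal.span {(p : B)}) (p : B) := by simp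
    rw [this, Ideal.Quotient.eq_zero_iff_mem]
    exact Ideal.mem_span_singleton_self _
  rcases subsingleton_or_nontrivial (B ⧸ Ideal.span {(p : B)}) with hsub | hnt
  · have : a = 0 := TruncatedWittVector.ext (fun i => Subsingleton.elim _ _)
    rw [this]; exact zero_mem _
  haveI : CharP (B ⧸ Ideal.span {(p : B)}) p := (CharP.charP_iff_prime_eq_zero (Fact.out : p.Prime)).mpr hpA
  -- iterated Frobenius is surjective
  have hFm : ∀ (m : ℕ) (y : (B ⧸ Ideal.span {(p : B)})), ∃ z : (B ⧸ Ideal.span {(p : B)}), z ^ (p ^ m) = y := by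
    intro m
    induction m with
    | zero => intro y; exact ⟨y, by simp⟩
    | succ m ih =>
      intro y
      obtain ⟨z1, hz1⟩ := ih y
      obtain ⟨z2, hz2⟩ := hF z1
      refine ⟨z2, ?_⟩
      simp only at hz2
      rw [pow_succ', pow_mul, hz2, hz1]
  set α := TruncatedWittVector.coeff ⟨0, hn⟩ a with hα
  obtain ⟨b, hb⟩ := Ideal.Quotient.mk_surjective α
  have hbp : ∃ c, b ^ (p ^ n) = (p : B) * c := by
    have : b ^ (p ^ n) ∈ Ideal.span {(p : B)} := by
      rw [← Ideal.Quotient.eq_zero_iff_mem, map_pow, hb]; exact ha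
    obtain ⟨c, hc⟩ := Ideal.mem_span_singleton'.mp this
    exact ⟨c, by rw [← hc, mul_comm]⟩
  -- construct the components
  have hconstr : ∀ j, 1 ≤ j → j ≤ n → ∃ x : ℕ → B, x 0 = b ∧
      ∃ c, ∑ i ∈ Finset.range j, (p : B) ^ i * (x i) ^ (p ^ (n - i)) = (p : B) ^ j * c := by
    intro j hj
    induction j, hj using Nat.le_induction with
    | base =>
      intro _
      obtain ⟨c, hc⟩ := hbp
      exact ⟨fun _ => b, rfl, c, by simp [hc]⟩
    | succ j hj ih =>
      intro hjn
      obtain ⟨x, hx0, c, hc⟩ := ih (by omega)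
      obtain ⟨z, hz⟩ := hFm (n - j) (- Ideal.Quotient.mk (Ideal.span {(p : B)}) c)
      obtain ⟨w, hw⟩ := Ideal.Quotient.mk_surjective z
      have hwc : ∃ c', w ^ (p ^ (n - j)) + c = (p : B) * c' := by
        have : w ^ (p ^ (n - j)) + c ∈ Ideal.span {(p : B)} := by
          rw [← Ideal.Quotient.eq_zero_iff_mem, map_add, map_pow, hw, hz, neg_add_cancel]
        obtain ⟨c', hc'⟩ := Ideal.mem_span_singleton'.mp this
        exact ⟨c', by rw [← hc', mul_comm]⟩
      obtain ⟨c', hc'⟩ := hwc
      refine ⟨Function.update x j w, ?_, c', ?_⟩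
      · rw [Function.update_of_ne (by omega), hx0]
      · rw [Finset.sum_range_succ, Function.update_self]
        have : ∑ i ∈ Finset.range j, (p : B) ^ i * (Function.update x j w i) ^ (p ^ (n - i)) =
            ∑ i ∈ Finset.range j, (p : B) ^ i * (x i) ^ (p ^ (n - i)) := by
          refine Finset.sum_congr rfl (fun i hi => ?_)
          rw [Function.update_of_ne (Finset.mem_range.mp hi).ne]
        rw [this, hc, ← mul_add, add_comm, hc', pow_succ, mul_assoc]
  obtain ⟨x, hx0, c, hc⟩ := hconstr n hn le_rfl
  rw [hp, zero_mul] at hc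
  set xw : WittVector p B := WittVector.mk p x with hxw
  set ũ : WittVector p (B ⧸ Ideal.span {(p : B)}) := WittVector.map (Ideal.Quotient.mk (Ideal.span {(p : B)})) xw with hũ
  set u := WittVector.truncate n ũ with hu
  have hθu : θ u = 0 := by
    rw [hu, hũ, hθ xw, ← hc, Finset.sum_range]
    rfl
  obtain ⟨ã, hã⟩ := WittVector.truncate_surjective p n (B ⧸ Ideal.span {(p : B)}) a
  -- z̃ = ã - ũ has zeroth coefficient zero
  have hz0 : (ã - ũ).coeff 0 = 0 := by
    show WittVector.constantCoeff (ã - ũ) = 0
    rw [map_sub]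
    show ã.coeff 0 - ũ.coeff 0 = 0
    have h1 : ã.coeff 0 = α := by
      rw [hα, ← hã, WittVector.coeff_truncate]
    have h2 : ũ.coeff 0 = α := by
      rw [hũ, WittVector.map_coeff, hxw, WittVector.coeff_mk, hx0, hb]
    rw [h1, h2, sub_self]
  have hV : ã - ũ = WittVector.verschiebung ((ã - ũ).shift 1) := by
    have := WittVector.eq_iterate_verschiebung (x := ã - ũ) (n := 1)
      (fun i hi => by rw [Nat.lt_one_iff.mp hi]; exact hz0)
    simpa using this
  have hFsurj : Function.Surjective (WittVector.frobenius : WittVector p (B ⧸ Ideal.span {(p : B)}) → WittVector p (B ⧸ Ideal.span {(p : B)})) := by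
    rw [WittVector.frobenius_eq_map_frobenius]
    exact WittVector.map_surjective _ hF
  obtain ⟨w, hw⟩ := hFsurj ((ã - ũ).shift 1)
  rw [← hw, WittVector.verschiebung_frobenius] at hV
  have ha' : a = u + WittVector.truncate n w * (p : TruncatedWittVector p n (B ⧸ Ideal.span {(p : B)})) := by
    rw [← hã, hu, ← map_natCast (WittVector.truncate n), ← map_mul, ← map_add, ← hV]
    congr 1; ring
  rw [ha']
  exact Submodule.add_mem_sup (RingHom.mem_ker.mpr hθu)
    (Ideal.mem_span_singleton'.mpr ⟨_, rfl⟩)

end Groth.Agent.S18931
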