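import Groth.Statements.S18932
import Mathlib

set_option autoImplicit false
universe u
open DPow

namespace Groth.Agent.S18932

/-- Let p be a prime, k a perfect field of characteristic p, n a natural number and A a commutative
W_n(k)-algebra, W_n(k) the truncated Witt vectors, which is flat over W_n(k) and whose reduction
A/pA has surjective p-th power map. Let θ : W_n(A/pA) → A be the ring homomorphism which sends the
reduction of a Witt vector (x_0, …, x_{n−1}) over A to Σ_{i<n} p^i x_i^(p^(n−i)). Then θ is
surjective, so A is the quotient of W_n(A/pA) by the kernel of θ. (This is the step of the source's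
proposition establishing that Spec of the divided power envelope of that kernel is a thickening of
Spec A; the assertion that it is a final object of the crystalline site is not stated here.) -/
theorem result (p : ℕ) [Fact p.Prime]
    (k : Type u) [Field k] [CharP k p] [PerfectRing k p] (n : ℕ)
    (A : Type u) [CommRing A] [Algebra (TruncatedWittVector p n k) A] [Module.Flat (TruncatedWittVector p n k) A]
    (hF : Function.Surjective (fun y : A ⧸ (Ideal.span {(p : A)}) => y ^ p))
    (θ : TruncatedWittVector p n (A ⧸ (Ideal.span {(p : A)})) →+* A)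
    (hθ : ∀ x : WittVector p A, θ (WittVector.truncate n (WittVector.map (Ideal.Quotient.mk (Ideal.span {(p : A)})) x)) =
        ∑ i : Fin n, (p : A) ^ (i : ℕ) * (x.coeff i) ^ (p ^ (n - i))) :
    Function.Surjective θ := by
  classical
  -- p^n = 0 in A
  have hpW : ((p : TruncatedWittVector p n k)) ^ n = 0 := by
    have h1 : ((p : WittVector p k) ^ n) ∈ RingHom.ker (WittVector.truncate (p := p) (R := k) n) := by
      rw [WittVector.mem_ker_truncate]
      intro i hi
      exact WittVector.coeff_p_pow_eq_zero (p := p) (R := k) hi.ne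
    rw [RingHom.mem_ker, map_pow, map_natCast] at h1
    exact h1
  have hp : (p : A) ^ n = 0 := by
    have := congrArg (algebraMap (TruncatedWittVector p n k) A) hpW
    rwa [map_pow, map_natCast, map_zero] at this
  -- iterated Frobenius is surjective
  have hFm : ∀ (m : ℕ) (y : A ⧸ Ideal.span {(p : A)}),
      ∃ z : A ⧸ Ideal.span {(p : A)}, z ^ (p ^ m) = y := by
    intro m
    induction m with
    | zero => intro y; exact ⟨y, by simp⟩
    | succ m ih =>
      intro y
      obtain ⟨z1, hz1⟩ := ih y
      obtain ⟨z2, hz2⟩ := hF z1
      refine ⟨z2, ?_⟩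
      simp only at hz2
      rw [pow_succ', pow_mul, hz2, hz1]
  intro y
  have hconstr : ∀ j, j ≤ n → ∃ x : ℕ → A, ∃ c,
      y = ∑ i ∈ Finset.range j, (p : A) ^ i * (x i) ^ (p ^ (n - i)) + (p : A) ^ j * c := by
    intro j
    induction j with
    | zero => intro _; exact ⟨fun _ => 0, y, by simp⟩
    | succ j ih =>
      intro hjn
      obtain ⟨x, c, hc⟩ := ih (by omega)
      obtain ⟨z, hz⟩ := hFm (n - j) (Ideal.Quotient.mk (Ideal.span {(p : A)}) c)
      obtain ⟨w, hw⟩ := Ideal.Quotient.mk_surjective z
      have hwc : ∃ c', c = w ^ (p ^ (n - j)) + (p : A) * c' := by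
        have : c - w ^ (p ^ (n - j)) ∈ Ideal.span {(p : A)} := by
          rw [← Ideal.Quotient.eq_zero_iff_mem, map_sub, map_pow, hw, hz, sub_self]
        obtain ⟨c', hc'⟩ := Ideal.mem_span_singleton'.mp this
        exact ⟨c', by rw [mul_comm, hc']; ring⟩
      obtain ⟨c', hc'⟩ := hwc
      refine ⟨Function.update x j w, c', ?_⟩
      rw [Finset.sum_range_succ, Function.update_self]
      have : ∑ i ∈ Finset.range j, (p : A) ^ i * (Function.update x j w i) ^ (p ^ (n - i)) =
          ∑ i ∈ Finset.range j, (p : A) ^ i * (x i) ^ (p ^ (n - i)) := by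
        refine Finset.sum_congr rfl (fun i hi => ?_)
        rw [Function.update_of_ne (Finset.mem_range.mp hi).ne]
      rw [this, hc, hc']
      ring
  obtain ⟨x, c, hc⟩ := hconstr n le_rfl
  rw [hp, zero_mul, add_zero] at hc
  refine ⟨WittVector.truncate n (WittVector.map (Ideal.Quotient.mk (Ideal.span {(p : A)}))
    (WittVector.mk p x)), ?_⟩
  rw [hθ, hc, Finset.sum_range]
  rfl

end Groth.Agent.S18932
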