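import Groth.Statements.S18936
import Mathlib

set_option autoImplicit false
universe u
open CAlg

namespace Groth.Agent.S18936

/-- Let A be a Noetherian commutative ring, q a prime ideal of A and f an element of A whose image in
the localization A_q is a non-zero-divisor. Then there is an element b of A not in q such that the
image of f in A[1/b] is a non-zero-divisor. -/
theorem result {A : Type u} [CommRing A] [IsNoetherianRing A]
    (q : Ideal A) [q.IsPrime] (f : A)
    (hf : algebraMap A (Localization.AtPrime q) f ∈ nonZeroDivisors (Localization.AtPrime q)) :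
    ∃ b : A, b ∉ q ∧ algebraMap A (Localization.Away b) f ∈ nonZeroDivisors (Localization.Away b) := by
  classical
  let K : Ideal A := LinearMap.ker (LinearMap.mul A A f)
  have hK : ∀ k : A, k ∈ K ↔ f * k = 0 := fun k => by
    simp only [K, LinearMap.mem_ker, LinearMap.mul_apply_apply]
  have hloc : ∀ k ∈ K, ∃ s : A, s ∉ q ∧ s * k = 0 := by
    intro k hk
    have h1 : algebraMap A (Localization.AtPrime q) k * algebraMap A (Localization.AtPrime q) f = 0 := by
      rw [← map_mul, mul_comm, (hK k).mp hk, map_zero]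
    have h2 := (mem_nonZeroDivisors_iff_right.mp hf) _ h1
    obtain ⟨s, hs⟩ := (IsLocalization.map_eq_zero_iff q.primeCompl (Localization.AtPrime q) k).mp h2
    exact ⟨s, s.2, hs⟩
  obtain ⟨S, hS⟩ : K.FG := IsNoetherian.noetherian K
  let s' : A → A := fun k => if h : k ∈ K then (hloc k h).choose else 1
  have hs'q : ∀ k, s' k ∉ q := by
    intro k
    by_cases h : k ∈ K
    · simp only [s', dif_pos h]; exact (hloc k h).choose_spec.1
    · simp only [s', dif_neg h]; exact fun h1 => (Ideal.ne_top_iff_one q).mp (Ideal.IsPrime.ne_top ‹_›) h1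
  have hs'k : ∀ k ∈ K, s' k * k = 0 := by
    intro k h
    simp only [s', dif_pos h]; exact (hloc k h).choose_spec.2
  let b : A := ∏ k ∈ S, s' k
  have hbq : b ∉ q := by
    intro hb
    obtain ⟨k, -, hk⟩ := (Ideal.IsPrime.prod_mem_iff (hp := ‹q.IsPrime›)).mp hb
    exact hs'q k hk
  have hbK : ∀ k ∈ K, b * k = 0 := by
    have : K ≤ LinearMap.ker (LinearMap.mul A A b) := by
      rw [← hS, Submodule.span_le]
      intro k hk
      have hkK : k ∈ K := by rw [← hS]; exact Submodule.subset_span hk
      rw [SetLike.mem_coe, LinearMap.mem_ker, LinearMap.mul_apply_apply]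
      obtain ⟨c, hc⟩ := Finset.dvd_prod_of_mem s' hk
      show b * k = 0
      rw [show b = s' k * c from hc, mul_comm (s' k) c, mul_assoc, hs'k k hkK, mul_zero]
    intro k hk
    have := this hk
    rwa [LinearMap.mem_ker, LinearMap.mul_apply_apply] at this
  refine ⟨b, hbq, ?_⟩
  rw [mem_nonZeroDivisors_iff_right]
  intro x hx
  obtain ⟨a, m, rfl⟩ := IsLocalization.exists_mk'_eq (Submonoid.powers b) x
  rw [← IsLocalization.mk'_one (M := Submonoid.powers b) (Localization.Away b) f,
    ← IsLocalization.mk'_mul, IsLocalization.mk'_eq_zero_iff] at hx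
  obtain ⟨c, hc⟩ := hx
  rw [IsLocalization.mk'_eq_zero_iff]
  have h1 : (c : A) * a ∈ K := by
    rw [hK]
    rw [← hc]; ring
  have h2 := hbK _ h1
  refine ⟨⟨b, Submonoid.mem_powers b⟩ * c, ?_⟩
  rw [Submonoid.coe_mul, mul_assoc]
  exact h2

end Groth.Agent.S18936
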