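import Groth.Statements.S18940
import Mathlib

set_option autoImplicit false
universe w v u
open CategoryTheory
open ShfCat

namespace Groth.Agent.S18940

/-- Let (C, J) be a site and f : F → G a morphism of sheaves of sets on it which is locally surjective
(every section of G is, after passing to a covering, in the image of f). Then for every morphism of
sheaves g : H → G the base change F ×_G H → H of f is again locally surjective. -/
theorem result {C : Type u} [Category.{v} C]
    (J : GrothendieckTopology C) {F G H : Sheaf J (Type w)} (f : F ⟶ G) (g : H ⟶ G)
    [Sheaf.IsLocallySurjective f] :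
    Sheaf.IsLocallySurjective (Limits.pullback.snd f g) := by
  constructor
  intro U h
  have hmem := Presheaf.imageSieve_mem J f.hom (U := Opposite.op U) (g.hom.app (Opposite.op U) h)
  refine J.superset_covering ?_ hmem
  intro V i hi
  obtain ⟨a, ha⟩ := hi
  have hpb := (IsPullback.of_hasPullback f g).map
    (sheafToPresheaf J (Type w) ⋙ (evaluation _ _).obj (Opposite.op V))
  have hcompat : (f.hom.app (Opposite.op V)) a = (g.hom.app (Opposite.op V)) (H.obj.map i.op h) := by
    rw [ha]
    exact (NatTrans.naturality_apply g.hom i.op h).symm
  obtain ⟨z, hz1, hz2⟩ := Limits.Types.exists_of_isPullback hpb a (H.obj.map i.op h) hcompat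
  exact ⟨z, hz2⟩

end Groth.Agent.S18940
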