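import Groth.Statements.S18942
import Mathlib

set_option autoImplicit false
universe u
open DPow

namespace Groth.Agent.S18942

/-- Let p be a prime, k a perfect field of characteristic p, n a natural number and x an element of
W_n(k), written here as the truncation of a Witt vector x over k. For any Witt vectors y_0, …,
y_{n−1} over k lifting the components of x under the map y ↦ (y_0)^(p^n) (that is, (y_i)_0^(p^n) =
x_i), one has x = Σ_{i<n} p^i y_i^(p^(n−i)) in W_n(k). -/
theorem result (p : ℕ) [Fact p.Prime]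
    (k : Type u) [Field k] [CharP k p] [PerfectRing k p] (n : ℕ) (x : WittVector p k)
    (y : Fin n → WittVector p k) (hy : ∀ i : Fin n, ((y i).coeff 0) ^ (p ^ n) = x.coeff i) :
    WittVector.truncate n x =
      WittVector.truncate n (∑ i : Fin n, (p : WittVector p k) ^ (i : ℕ) * (y i) ^ (p ^ (n - i))) := by
  classical
  -- reduce to divisibility by p^n
  suffices hdvd : (p : WittVector p k) ^ n ∣
      x - ∑ i : Fin n, (p : WittVector p k) ^ (i : ℕ) * (y i) ^ (p ^ (n - i)) by
    rw [← sub_eq_zero, ← map_sub, ← RingHom.mem_ker, WittVector.mem_ker_truncate]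
    rw [← Ideal.mem_span_singleton, WittVector.mem_span_p_pow_iff_le_coeff_eq_zero] at hdvd
    exact hdvd
  rcases Nat.eq_zero_or_pos n with rfl | hn
  · simp
  obtain ⟨n', rfl⟩ : ∃ n', n = n' + 1 := Nat.exists_eq_succ_of_ne_zero hn.ne'
  -- inverse Frobenius computation
  have hfrob : ∀ (i : ℕ) (c : k), ((_root_.frobeniusEquiv k p).symm ^ i) (c ^ p ^ i) = c := by
    intro i
    induction i with
    | zero => intro c; simp
    | succ i ih =>
      intro c
      rw [pow_succ, RingAut.mul_apply, pow_succ, pow_mul]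
      have : (_root_.frobeniusEquiv k p).symm ((c ^ p ^ i) ^ p) = c ^ p ^ i := by
        rw [← frobeniusEquiv_def (R := k) (p := p), RingEquiv.symm_apply_apply]
      rw [this, ih]
  have hT := WittVector.dvd_sub_sum_teichmuller_iterateFrobeniusEquiv_coeff x n'
  -- each term
  have hterm : ∀ i : Fin (n' + 1), (p : WittVector p k) ^ (n' + 1) ∣
      WittVector.teichmuller p (((_root_.frobeniusEquiv k p).symm ^ (i : ℕ)) (x.coeff i)) *
        (p : WittVector p k) ^ (i : ℕ) -
      (p : WittVector p k) ^ (i : ℕ) * (y i) ^ (p ^ (n' + 1 - i)) := by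
    intro i
    have hi : (i : ℕ) ≤ n' := Nat.lt_succ_iff.mp i.2
    set c := (y i).coeff 0 with hc
    have hxi : x.coeff i = (c ^ p ^ (n' + 1 - i)) ^ p ^ (i : ℕ) := by
      rw [← hy i, ← pow_mul, ← pow_add, Nat.sub_add_cancel (by omega)]
    rw [hxi, hfrob]
    -- p ∣ y - [c]
    have h1 : (p : WittVector p k) ∣ y i - WittVector.teichmuller p c := by
      rw [← Ideal.mem_span_singleton, WittVector.mem_span_p_iff_coeff_zero_eq_zero]
      show WittVector.constantCoeff (y i - WittVector.teichmuller p c) = 0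
      rw [map_sub]
      show (y i).coeff 0 - (WittVector.teichmuller p c).coeff 0 = 0
      rw [WittVector.teichmuller_coeff_zero, sub_self]
    have h2 := dvd_sub_pow_of_dvd_sub h1 (n' + 1 - i)
    rw [← map_pow] at h2
    obtain ⟨w, hw⟩ := h2
    refine ⟨-(p : WittVector p k) * w, ?_⟩
    have hpow : (p : WittVector p k) ^ (n' + 1) =
        (p : WittVector p k) ^ (i : ℕ) * (p : WittVector p k) ^ (n' + 1 - i) := by
      rw [← pow_add, Nat.add_sub_cancel' (by omega)]
    rw [hpow]
    have : (y i) ^ p ^ (n' + 1 - i) = WittVector.teichmuller p (c ^ p ^ (n' + 1 - i)) +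
        (p : WittVector p k) ^ (n' + 1 - i + 1) * w := by rw [← hw]; ring
    rw [this]; ring
  have hsum : (p : WittVector p k) ^ (n' + 1) ∣
      ∑ i : Fin (n' + 1), (WittVector.teichmuller p
        (((_root_.frobeniusEquiv k p).symm ^ (i : ℕ)) (x.coeff i)) * (p : WittVector p k) ^ (i : ℕ) -
      (p : WittVector p k) ^ (i : ℕ) * (y i) ^ (p ^ (n' + 1 - i))) :=
    Finset.dvd_sum (fun i _ => hterm i)
  have hIic : ∑ i ∈ Finset.Iic n', (WittVector.teichmuller p
        (((_root_.frobeniusEquiv k p).symm ^ i) (x.coeff i)) * (p : WittVector p k) ^ i) =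
      ∑ i : Fin (n' + 1), (WittVector.teichmuller p
        (((_root_.frobeniusEquiv k p).symm ^ (i : ℕ)) (x.coeff i)) * (p : WittVector p k) ^ (i : ℕ)) := by
    rw [← Finset.sum_range (fun i => WittVector.teichmuller p
        (((_root_.frobeniusEquiv k p).symm ^ i) (x.coeff i)) * (p : WittVector p k) ^ i)]
    refine Finset.sum_congr ?_ (fun _ _ => rfl)
    ext i; simp [Nat.lt_succ_iff, Finset.mem_Iic]
  rw [hIic] at hT
  have := dvd_add hT hsum
  rw [Finset.sum_sub_distrib] at this
  convert this using 1
  ring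

end Groth.Agent.S18942
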