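import Groth.Statements.S18946
import Mathlib

set_option autoImplicit false
universe u
open scoped BigOperators
open InvQ

namespace Groth.Agent.S18946

open MvPolynomial in
theorem aeval_scale_monomial {k : Type*} [Field k] {ι : Type*} [Fintype ι] [DecidableEq ι]
    (σ : ι → k) (u : ι →₀ ℕ) (c : k) :
    MvPolynomial.aeval (fun i => MvPolynomial.C (σ i) * MvPolynomial.X i)
      (MvPolynomial.monomial u c) = MvPolynomial.monomial u (c * ∏ i, σ i ^ u i) := by
  rw [MvPolynomial.aeval_monomial]
  have h1 : (u.prod fun i e => (MvPolynomial.C (σ i) * MvPolynomial.X i : MvPolynomial ι k) ^ e) =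
      MvPolynomial.C (∏ i, σ i ^ u i) * (u.prod fun i e => (MvPolynomial.X i : MvPolynomial ι k) ^ e) := by
    rw [Finsupp.prod_fintype _ _ (fun i => pow_zero _), Finsupp.prod_fintype _ _ (fun i => pow_zero _),
      map_prod, ← Finset.prod_mul_distrib]
    refine Finset.prod_congr rfl (fun i _ => ?_)
    rw [mul_pow, map_pow]
  rw [h1, MvPolynomial.algebraMap_eq, ← mul_assoc, ← map_mul, ← MvPolynomial.monomial_eq]

theorem coeff_aeval_scale {k : Type*} [Field k] {ι : Type*} [Fintype ι] [DecidableEq ι]
    (σ : ι → k) (m : ι →₀ ℕ) (f : MvPolynomial ι k) :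
    MvPolynomial.coeff m (MvPolynomial.aeval (fun i => MvPolynomial.C (σ i) * MvPolynomial.X i) f) =
      (∏ i, σ i ^ m i) * MvPolynomial.coeff m f := by
  induction f using MvPolynomial.induction_on' with
  | monomial u c =>
    rw [aeval_scale_monomial, MvPolynomial.coeff_monomial, MvPolynomial.coeff_monomial]
    split_ifs with h
    · subst h; ring
    · simp
  | add p q hp hq =>
    rw [map_add, MvPolynomial.coeff_add, MvPolynomial.coeff_add, hp, hq, mul_add]

/-- Let k be an algebraically closed field of characteristic zero and n a natural number, and let the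
torus of (n+1)-tuples of units of k with product 1 act on the polynomial ring k[t_0, ..., t_n] by
rescaling each variable t_i by the i-th unit. A polynomial is fixed by every such rescaling if and
only if it lies in the k-subalgebra generated by the product t_0 t_1 ... t_n. (This is the
computation of the ring of functions on affine (n+1)-space invariant under the maximal diagonal
torus of the special linear group, identified with the polynomial ring in the single coordinate t =
t_0 ... t_n of the line it maps to by the product map; invariance is tested on k-valued points of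
the torus, which over an infinite field is the same as invariance under the group scheme.) -/
theorem result
    (k : Type u) [Field k] [IsAlgClosed k] [CharZero k] (n : ℕ)
    (f : MvPolynomial (Fin (n + 1)) k) :
    (∀ σ : Fin (n + 1) → kˣ, ∏ i, (σ i : k) = 1 →
        MvPolynomial.aeval (fun i => MvPolynomial.C (σ i : k) * MvPolynomial.X i) f = f) ↔
      f ∈ Algebra.adjoin k ({∏ i : Fin (n + 1), MvPolynomial.X i} : Set (MvPolynomial (Fin (n + 1)) k)) := by
  classical
  constructor
  · intro hinv
    -- every monomial in the support is constant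
    have hconst : ∀ m ∈ f.support, ∀ i j : Fin (n + 1), m i ≤ m j := by
      intro m hm i j
      by_contra hlt
      push_neg at hlt
      have hij : i ≠ j := fun h => by subst h; exact lt_irrefl _ hlt
      let u : kˣ := Units.mk0 (2 : k) two_ne_zero
      let σ : Fin (n + 1) → kˣ := fun l => if l = i then u else if l = j then u⁻¹ else 1
      have hσi : σ i = u := by simp [σ]
      have hσj : σ j = u⁻¹ := by simp [σ, hij.symm]
      have hσo : ∀ c, c ≠ i ∧ c ≠ j → σ c = 1 := fun c hc => by simp [σ, hc.1, hc.2]
      have hprod : ∏ l, (σ l : k) = 1 := by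
        rw [Finset.prod_eq_mul i j hij (fun c _ hc => by rw [hσo c hc]; rfl)
          (fun h => absurd (Finset.mem_univ _) h) (fun h => absurd (Finset.mem_univ _) h),
          hσi, hσj]
        simp [u]
      have h1 := congrArg (MvPolynomial.coeff m) (hinv σ hprod)
      rw [coeff_aeval_scale] at h1
      have hcm : MvPolynomial.coeff m f ≠ 0 := MvPolynomial.mem_support_iff.mp hm
      have h2 : ∏ l, (σ l : k) ^ m l = 1 := by
        have : (∏ l, (σ l : k) ^ m l - 1) * MvPolynomial.coeff m f = 0 := by
          rw [sub_mul, h1, one_mul, sub_self]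
        rcases mul_eq_zero.mp this with h | h
        · exact sub_eq_zero.mp h
        · exact absurd h hcm
      rw [Finset.prod_eq_mul i j hij (fun c _ hc => by rw [hσo c hc]; simp)
        (fun h => absurd (Finset.mem_univ _) h) (fun h => absurd (Finset.mem_univ _) h),
        hσi, hσj] at h2
      have h3 : (2 : k) ^ m i = (2 : k) ^ m j := by
        have : ((u : k)) ^ m i * ((u⁻¹ : kˣ) : k) ^ m j * (u : k) ^ m j = (u : k) ^ m j := by
          rw [h2, one_mul]
        rw [mul_assoc, ← mul_pow, Units.inv_mul, one_pow, mul_one] at this
        exact this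
      have h4 : ((2 ^ m i : ℕ) : k) = ((2 ^ m j : ℕ) : k) := by push_cast; exact h3
      have h5 := Nat.pow_right_injective (le_refl 2) (Nat.cast_injective h4)
      omega
    have hmono : ∀ m ∈ f.support, MvPolynomial.monomial m (MvPolynomial.coeff m f) ∈
        Algebra.adjoin k ({∏ i : Fin (n + 1), MvPolynomial.X i} :
          Set (MvPolynomial (Fin (n + 1)) k)) := by
      intro m hm
      have hm0 : ∀ i, m i = m 0 := fun i => le_antisymm (hconst m hm i 0) (hconst m hm 0 i)
      rw [MvPolynomial.monomial_eq, Finsupp.prod_fintype _ _ (fun i => pow_zero _)]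
      have : ∏ i, (MvPolynomial.X i : MvPolynomial (Fin (n + 1)) k) ^ m i =
          (∏ i, MvPolynomial.X i) ^ m 0 := by
        rw [← Finset.prod_pow]
        exact Finset.prod_congr rfl (fun i _ => by rw [hm0 i])
      rw [this, ← MvPolynomial.algebraMap_eq]
      exact Subalgebra.mul_mem _ (Subalgebra.algebraMap_mem _ _)
        (Subalgebra.pow_mem _ (Algebra.subset_adjoin (Set.mem_singleton _)) _)
    rw [← MvPolynomial.support_sum_monomial_coeff f]
    exact Subalgebra.sum_mem _ hmono
  · intro hf σ hσ
    rw [Algebra.adjoin_singleton_eq_range_aeval] at hf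
    obtain ⟨q, rfl⟩ := hf
    show MvPolynomial.aeval (fun i => MvPolynomial.C (σ i : k) * MvPolynomial.X i)
      (Polynomial.aeval (∏ i, MvPolynomial.X i) q) = Polynomial.aeval (∏ i, MvPolynomial.X i) q
    rw [← Polynomial.aeval_algHom_apply]
    congr 1
    rw [map_prod]
    simp only [MvPolynomial.aeval_X]
    rw [Finset.prod_mul_distrib, ← map_prod, hσ, map_one, one_mul]

end Groth.Agent.S18946
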