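import Groth.Statements.S18948
import Mathlib

set_option autoImplicit false
universe u v
open CExt

namespace Groth.Agent.S18948

theorem horb {H : Type*} [Group H] (a y : H) :
    y ∈ MulAction.orbit (ConjAct H) a ↔ ∃ c : H, c * a * c⁻¹ = y := by
  rw [MulAction.mem_orbit_iff]
  constructor
  · rintro ⟨c, rfl⟩
    exact ⟨ConjAct.ofConjAct c, (ConjAct.smul_def c a).symm⟩
  · rintro ⟨c, rfl⟩
    exact ⟨ConjAct.toConjAct c, ConjAct.toConjAct_smul c a⟩

/-- Let f : E → G be a surjective homomorphism of groups whose kernel is central in E, and let x ∈ E.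
Then f maps the conjugacy class of x bijectively onto the conjugacy class of f(x) if and only if
every element of G commuting with f(x) is the image of some element of E commuting with x. (In the
source E → G is the central extension, with kernel the roots of unity, attached to a Brauer class of
the classifying stack of a finite tame étale group scheme, and a conjugacy class of E mapping
bijectively onto a given class of G is a marking; the equivalence is stated here for an arbitrary
central extension of abstract groups.) -/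
theorem result {E : Type u} {G : Type v} [Group E] [Group G]
    (f : E →* G) (hf : Function.Surjective f) (hker : f.ker ≤ Subgroup.center E) (x : E) :
    Set.BijOn f (MulAction.orbit (ConjAct E) x) (MulAction.orbit (ConjAct G) (f x)) ↔
      ∀ g : G, g * f x = f x * g → ∃ e : E, f e = g ∧ e * x = x * e := by
  have hmaps : Set.MapsTo f (MulAction.orbit (ConjAct E) x) (MulAction.orbit (ConjAct G) (f x)) := by
    intro y hy
    obtain ⟨c, rfl⟩ := (horb x y).mp hy
    exact (horb (f x) _).mpr ⟨f c, by simp⟩
  have hsurj : Set.SurjOn f (MulAction.orbit (ConjAct E) x) (MulAction.orbit (ConjAct G) (f x)) := by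
    intro y hy
    obtain ⟨c, rfl⟩ := (horb (f x) y).mp hy
    obtain ⟨d, rfl⟩ := hf c
    exact ⟨d * x * d⁻¹, (horb x _).mpr ⟨d, rfl⟩, by simp⟩
  constructor
  · rintro ⟨-, hinj, -⟩ g hg
    obtain ⟨d, rfl⟩ := hf g
    have h1 : d * x * d⁻¹ ∈ MulAction.orbit (ConjAct E) x := (horb x _).mpr ⟨d, rfl⟩
    have h2 : x ∈ MulAction.orbit (ConjAct E) x := (horb x _).mpr ⟨1, by simp⟩
    have h3 : f (d * x * d⁻¹) = f x := by
      rw [map_mul, map_mul, map_inv, hg, mul_inv_cancel_right]
    have h4 := hinj h1 h2 h3
    refine ⟨d, rfl, ?_⟩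
    calc d * x = (d * x * d⁻¹) * d := by group
      _ = x * d := by rw [h4]
  · intro hcond
    refine ⟨hmaps, ?_, hsurj⟩
    intro y hy y' hy' hyy'
    obtain ⟨e, rfl⟩ := (horb x y).mp hy
    obtain ⟨e', rfl⟩ := (horb x y').mp hy'
    -- d = e'⁻¹ e
    have hg : f (e'⁻¹ * e) * f x = f x * f (e'⁻¹ * e) := by
      have := hyy'
      simp only [map_mul, map_inv] at this ⊢
      calc (f e')⁻¹ * f e * f x = (f e')⁻¹ * (f e * f x * (f e)⁻¹) * f e := by group
        _ = (f e')⁻¹ * (f e' * f x * (f e')⁻¹) * f e := by rw [this]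
        _ = f x * ((f e')⁻¹ * f e) := by group
    obtain ⟨c, hc, hcx⟩ := hcond _ hg
    have hk : c⁻¹ * (e'⁻¹ * e) ∈ f.ker := by
      rw [MonoidHom.mem_ker, map_mul, map_inv, hc, inv_mul_cancel]
    have hcen := Subgroup.mem_center_iff.mp (hker hk)
    -- e'⁻¹ e = c * a
    set a := c⁻¹ * (e'⁻¹ * e) with ha
    have hd : e = e' * c * a := by rw [ha]; group
    have hax : a * x * a⁻¹ = x := by rw [← hcen x]; group
    have hcx' : c * x * c⁻¹ = x := by rw [hcx]; group
    rw [hd]
    calc e' * c * a * x * (e' * c * a)⁻¹ = e' * (c * (a * x * a⁻¹) * c⁻¹) * e'⁻¹ := by group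
      _ = e' * x * e'⁻¹ := by rw [hax, hcx']

end Groth.Agent.S18948
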