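import Groth.Statements.S18949
import Mathlib

set_option autoImplicit false
universe u v
open CExt

namespace Groth.Agent.S18949

/-- Automorphisms over the base: let f : E → G be a surjective homomorphism of groups with central
kernel A. For every homomorphism χ : G → A the map e ↦ χ(f(e)) · e is an endomorphism of E over G
which is the identity on A; and every endomorphism α of E with f ∘ α = f and α equal to the identity
on A is of this form for exactly one χ. (In the source this identifies the automorphisms of a
central extension fixing its kernel with Hom(G, A), for extensions of profinite étale group schemes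
over a field; stated here for abstract groups.) -/
theorem result {E : Type u} {G : Type v} [Group E] [Group G]
    (f : E →* G) (hf : Function.Surjective f) (hker : f.ker ≤ Subgroup.center E) :
    (∀ χ : G →* f.ker, ∃ α : E →* E, f.comp α = f ∧ (∀ a ∈ f.ker, α a = a) ∧
        ∀ e : E, α e = (χ (f e) : E) * e) ∧
      ∀ α : E →* E, f.comp α = f → (∀ a ∈ f.ker, α a = a) →
        ∃! χ : G →* f.ker, ∀ e : E, α e = (χ (f e) : E) * e := by
  constructor
  · intro χ
    have hcen : ∀ (g : G) (e : E), e * (χ g : E) = (χ g : E) * e := fun g e =>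
      Subgroup.mem_center_iff.mp (hker (χ g).2) e
    refine ⟨MonoidHom.mk' (fun e => (χ (f e) : E) * e) ?_, ?_, ?_, fun e => rfl⟩
    · intro a b
      simp only [map_mul, Subgroup.coe_mul]
      rw [mul_assoc, mul_assoc, ← mul_assoc (χ (f b) : E) a b, ← hcen (f b) a]
      simp only [mul_assoc]
    · ext e
      simp only [MonoidHom.comp_apply, MonoidHom.mk'_apply, map_mul]
      rw [MonoidHom.mem_ker.mp (χ (f e)).2, one_mul]
    · intro a ha
      simp only [MonoidHom.mk'_apply]
      rw [MonoidHom.mem_ker.mp ha, map_one, Subgroup.coe_one, one_mul]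
  · intro α hα hαA
    have hfα : ∀ e, f (α e) = f e := fun e => congrArg (fun φ => φ e) hα
    -- c e = α e * e⁻¹
    have hc_ker : ∀ e : E, α e * e⁻¹ ∈ f.ker := by
      intro e
      rw [MonoidHom.mem_ker, map_mul, hfα, map_inv, mul_inv_cancel]
    have hc_cen : ∀ e e' : E, e' * (α e * e⁻¹) = (α e * e⁻¹) * e' := fun e e' =>
      Subgroup.mem_center_iff.mp (hker (hc_ker e)) e'
    have hc_mul : ∀ e e' : E, α (e * e') * (e * e')⁻¹ = (α e * e⁻¹) * (α e' * e'⁻¹) := by
      intro e e'
      rw [map_mul, mul_inv_rev, mul_assoc (α e) e⁻¹, hc_cen e' e⁻¹]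
      simp only [mul_assoc]
    have hc_eq : ∀ e e' : E, f e = f e' → α e * e⁻¹ = α e' * e'⁻¹ := by
      intro e e' hee'
      have hk : e⁻¹ * e' ∈ f.ker := by
        rw [MonoidHom.mem_ker, map_mul, map_inv, hee', inv_mul_cancel]
      have h1 : e' = e * (e⁻¹ * e') := by group
      have h2 : α e' = α e * (e⁻¹ * e') := by
        conv_lhs => rw [h1]
        rw [map_mul, hαA _ hk]
      rw [h2]; group
    let s : G → E := Function.surjInv hf
    have hs : ∀ g, f (s g) = g := Function.surjInv_eq hf
    let χ : G →* f.ker := MonoidHom.mk' (fun g => ⟨α (s g) * (s g)⁻¹, hc_ker (s g)⟩) (by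
      intro a b
      apply Subtype.ext
      simp only [Subgroup.coe_mul]
      rw [← hc_mul]
      apply hc_eq
      rw [hs, map_mul, hs, hs])
    have hχ : ∀ e : E, (χ (f e) : E) = α e * e⁻¹ := fun e => hc_eq _ _ (hs (f e))
    refine ⟨χ, fun e => ?_, fun χ' hχ' => ?_⟩
    · rw [hχ]; group
    · ext g
      obtain ⟨e, rfl⟩ := hf g
      rw [hχ, hχ' e]; group

end Groth.Agent.S18949
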