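import Groth.Statements.S18951
import Mathlib

set_option autoImplicit false
universe u
open OrbPic

namespace Groth.Agent.S18951

theorem hom_eq_of_eqOn {G : Type*} [Group G] {Q : Type*} [AddCommGroup Q] (C : Set G)
    (hC : Subgroup.closure C = ⊤) (χ χ' : Additive G →+ Q)
    (h : ∀ g ∈ C, χ (Additive.ofMul g) = χ' (Additive.ofMul g)) : χ = χ' := by
  ext a
  have ha : Additive.toMul a ∈ Subgroup.closure C := by rw [hC]; trivial
  have key : ∀ g ∈ Subgroup.closure C, χ (Additive.ofMul g) = χ' (Additive.ofMul g) := by
    intro g hg
    induction hg using Subgroup.closure_induction with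
    | mem x hx => exact h x hx
    | one => rw [ofMul_one, map_zero, map_zero]
    | mul x y _ _ hx hy => rw [ofMul_mul, map_add, map_add, hx, hy]
    | inv x _ hx => rw [ofMul_inv, map_neg, map_neg, hx]
  exact key _ ha

/-- Let G be a group and C ⊆ G a subset that generates G. Then the projection (χ, w) ↦ w from the group
of geometric partial orbifold line bundles with respect to C to functions G → ℚ is injective, its
image contains every conjugation-invariant integer-valued function vanishing at 1 and outside C, and
the group is torsion-free. (The source works with the geometric points of a tame finite étale group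
scheme, characters with values in roots of unity and weights on conjugacy classes of the Tate twist;
here these are identified with a group, homomorphisms to ℚ/ℤ and class functions as the source does
after choosing roots of unity. The case C = G ∖ {1} is the statement for full orbifold line
bundles.) -/
theorem result (G : Type u) [Group G] (C : Set G)
    (hC : Subgroup.closure C = ⊤) :
    Set.InjOn (fun p : (Additive G →+ W4c6brauerbgmalle.QmodZ) × (G → ℚ) => p.2) (W4c6brauerbgmalle.picOrb G C) ∧
      (∀ w ∈ W4c6brauerbgmalle.intWeights G C, ((0 : Additive G →+ W4c6brauerbgmalle.QmodZ), w) ∈ W4c6brauerbgmalle.picOrb G C) ∧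
      ∀ (n : ℕ) (p : (Additive G →+ W4c6brauerbgmalle.QmodZ) × (G → ℚ)), p ∈ W4c6brauerbgmalle.picOrb G C → n ≠ 0 →
        n • p = 0 → p = 0 := by
  refine ⟨?_, ?_, ?_⟩
  · rintro ⟨χ, w⟩ hp ⟨χ', w'⟩ hq (hw : w = w')
    subst hw
    have : χ = χ' := by
      apply hom_eq_of_eqOn C hC
      intro g hg
      rw [← hp.2.2.2 g hg, ← hq.2.2.2 g hg]
    rw [this]
  · rintro w ⟨h1, h2, h3, h4⟩
    refine ⟨h1, h2, h3, fun g _ => ?_⟩
    obtain ⟨n, hn⟩ := h4 g
    show W4c6brauerbgmalle.toQmodZ (w g) = (0 : Additive G →+ W4c6brauerbgmalle.QmodZ) (Additive.ofMul g)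
    rw [AddMonoidHom.zero_apply, hn]
    show ((QuotientAddGroup.mk' (AddSubgroup.zmultiples (1 : ℚ))) (n : ℚ)) = 0
    rw [QuotientAddGroup.mk'_apply, QuotientAddGroup.eq_zero_iff]
    exact ⟨n, by simp⟩
  · rintro n ⟨χ, w⟩ hp hn hnp
    have hw : w = 0 := by
      have h2 : n • w = 0 := congrArg Prod.snd hnp
      ext g
      have := congrFun h2 g
      simp only [Pi.smul_apply, Pi.zero_apply, nsmul_eq_mul] at this
      rcases mul_eq_zero.mp this with h | h
      · exact absurd (by exact_mod_cast h) hn
      · exact h
    subst hw
    have hχ : χ = 0 := by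
      apply hom_eq_of_eqOn C hC
      intro g hg
      rw [← hp.2.2.2 g hg]
      simp
    subst hχ
    rfl

end Groth.Agent.S18951
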