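import Groth.Statements.S18952
import Mathlib

set_option autoImplicit false
universe u
open OrbPic

namespace Groth.Agent.S18952

/-- Let G be a group and C ⊆ G a subset stable under conjugation. Then (χ, w) ↦ χ maps the group of
geometric partial orbifold line bundles with respect to C onto all characters G → ℚ/ℤ, and a pair in
its kernel (χ trivial) has w a conjugation-invariant integer-valued function vanishing at 1 and
outside C: with the inclusion of such functions this is the exact sequence 0 → Hom(C/conj, ℤ) → Pic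
→ Hom(G, ℚ/ℤ) → 0 over a separably closed field. (As in the source after a choice of roots of unity,
the group G stands for the geometric points of a tame finite étale group scheme, characters are
homomorphisms to ℚ/ℤ and weights are class functions on G.) -/
theorem result (G : Type u) [Group G] (C : Set G)
    (hC : ∀ g h : G, g ∈ C → h * g * h⁻¹ ∈ C) :
    (∀ χ : Additive G →+ W4c6brauerbgmalle.QmodZ, ∃ w : G → ℚ, (χ, w) ∈ W4c6brauerbgmalle.picOrb G C) ∧
      (∀ p : (Additive G →+ W4c6brauerbgmalle.QmodZ) × (G → ℚ), p ∈ W4c6brauerbgmalle.picOrb G C → p.1 = 0 →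
        p.2 ∈ W4c6brauerbgmalle.intWeights G C) := by
  classical
  have hC' : ∀ g h : G, h * g * h⁻¹ ∈ C ↔ g ∈ C := by
    intro g h
    refine ⟨fun hh => ?_, fun hg => hC g h hg⟩
    have := hC _ h⁻¹ hh
    simpa [mul_assoc] using this
  have hone : ∀ g h : G, h * g * h⁻¹ = 1 ↔ g = 1 := by
    intro g h
    constructor
    · intro hh
      have : g = h⁻¹ * (h * g * h⁻¹) * h := by group
      rw [this, hh]; group
    · rintro rfl; group
  refine ⟨fun χ => ?_, ?_⟩
  · let r : W4c6brauerbgmalle.QmodZ → ℚ := Function.surjInv (QuotientAddGroup.mk'_surjective _)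
    have hr : ∀ q, W4c6brauerbgmalle.toQmodZ (r q) = q :=
      Function.surjInv_eq (QuotientAddGroup.mk'_surjective _)
    refine ⟨fun g => if g ∈ C ∧ g ≠ 1 then r (χ (Additive.ofMul g)) else 0, ?_, ?_, ?_, ?_⟩
    · simp
    · intro g hg
      show (if g ∈ C ∧ g ≠ 1 then r (χ (Additive.ofMul g)) else 0) = 0
      rw [if_neg (fun h => hg h.1)]
    · intro g h
      show (if h * g * h⁻¹ ∈ C ∧ h * g * h⁻¹ ≠ 1 then r (χ (Additive.ofMul (h * g * h⁻¹))) else 0) =
        (if g ∈ C ∧ g ≠ 1 then r (χ (Additive.ofMul g)) else 0)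
      have hχ : χ (Additive.ofMul (h * g * h⁻¹)) = χ (Additive.ofMul g) := by
        rw [ofMul_mul, ofMul_mul, ofMul_inv, map_add, map_add, map_neg]
        abel
      rw [hχ]
      by_cases hg : g ∈ C ∧ g ≠ 1
      · rw [if_pos hg, if_pos ⟨(hC' g h).mpr hg.1, fun hh => hg.2 ((hone g h).mp hh)⟩]
      · rw [if_neg hg, if_neg (fun hh => hg ⟨(hC' g h).mp hh.1, fun h1 => hh.2 ((hone g h).mpr h1)⟩)]
    · intro g hg
      show W4c6brauerbgmalle.toQmodZ (if g ∈ C ∧ g ≠ 1 then r (χ (Additive.ofMul g)) else 0) = _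
      by_cases h1 : g = 1
      · subst h1
        rw [if_neg (fun h => h.2 rfl), map_zero, ofMul_one, map_zero]
      · rw [if_pos ⟨hg, h1⟩, hr]
  · rintro ⟨χ, w⟩ ⟨h1, h2, h3, h4⟩ (hχ : χ = 0)
    subst hχ
    refine ⟨h1, h2, h3, fun g => ?_⟩
    by_cases hg : g ∈ C
    · have := h4 g hg
      rw [AddMonoidHom.zero_apply] at this
      have h5 : w g ∈ AddSubgroup.zmultiples (1 : ℚ) := by
        rw [← QuotientAddGroup.eq_zero_iff]; exact this
      obtain ⟨n, hn⟩ := h5
      exact ⟨n, by show w g = n; rw [← hn]; simp⟩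
    · exact ⟨0, by show w g = _; rw [show w g = 0 from h2 g hg]; simp⟩

end Groth.Agent.S18952
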