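import Groth.Statements.S18953
import Mathlib

set_option autoImplicit false
universe u v
open OrbPic

namespace Groth.Agent.S18953

/-- Let G₁ and G₂ be groups with subsets C₁ ⊆ G₁ and C₂ ⊆ G₂, and let C ⊆ G₁ × G₂ be the union of C₁ ×
{1} and {1} × C₂. Restricting the character and the weight along the two inclusions G₁ → G₁ × G₂ and
G₂ → G₁ × G₂ is a bijection from the geometric partial orbifold line bundles of G₁ × G₂ with respect
to C onto pairs of geometric partial orbifold line bundles of G₁ with respect to C₁ and of G₂ with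
respect to C₂. (As in the source after a choice of roots of unity, each group stands for the
geometric points of a tame finite étale group scheme, characters are homomorphisms to ℚ/ℤ and
weights are class functions; the source states the Galois-equivariant version, which follows by
taking invariants.) -/
theorem result (G₁ : Type u) (G₂ : Type v) [Group G₁] [Group G₂] (C₁ : Set G₁) (C₂ : Set G₂) :
    Set.BijOn
      (fun p : (Additive (G₁ × G₂) →+ W4c6brauerbgmalle.QmodZ) × (G₁ × G₂ → ℚ) =>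
        ((p.1.comp (MonoidHom.toAdditive (MonoidHom.inl G₁ G₂)), fun g => p.2 (g, 1)),
          (p.1.comp (MonoidHom.toAdditive (MonoidHom.inr G₁ G₂)), fun g => p.2 (1, g))))
      (W4c6brauerbgmalle.picOrb (G₁ × G₂) ((fun g => (g, (1 : G₂))) '' C₁ ∪ (fun g => ((1 : G₁), g)) '' C₂))
      ((W4c6brauerbgmalle.picOrb G₁ C₁ : Set _) ×ˢ (W4c6brauerbgmalle.picOrb G₂ C₂ : Set _)) := by
  classical
  have hCmem : ∀ a b, ((a, b) : G₁ × G₂) ∈ ((fun g => (g, (1 : G₂))) '' C₁ ∪ (fun g => ((1 : G₁), g)) '' C₂) ↔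
      (a ∈ C₁ ∧ b = 1) ∨ (a = 1 ∧ b ∈ C₂) := by
    intro a b
    simp only [Set.mem_union, Set.mem_image, Prod.mk.injEq]
    constructor
    · rintro (⟨g, hg, rfl, rfl⟩ | ⟨g, hg, rfl, rfl⟩)
      · exact Or.inl ⟨hg, rfl⟩
      · exact Or.inr ⟨rfl, hg⟩
    · rintro (⟨ha, rfl⟩ | ⟨rfl, hb⟩)
      · exact Or.inl ⟨a, ha, rfl, rfl⟩
      · exact Or.inr ⟨b, hb, rfl, rfl⟩
  refine ⟨?_, ?_, ?_⟩
  · -- MapsTo
    rintro ⟨χ, w⟩ ⟨h1, h2, h3, h4⟩
    refine ⟨⟨h1, ?_, ?_, ?_⟩, ⟨h1, ?_, ?_, ?_⟩⟩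
    · intro g hg
      show w (g, 1) = 0
      by_cases hm : ((g, 1) : G₁ × G₂) ∈ ((fun g => (g, (1 : G₂))) '' C₁ ∪ (fun g => ((1 : G₁), g)) '' C₂)
      · rcases (hCmem g 1).mp hm with h | h
        · exact absurd h.1 hg
        · rw [h.1]; exact h1
      · exact h2 _ hm
    · intro g h
      have := h3 (g, 1) (h, 1)
      simpa using this
    · intro g hg
      exact h4 (g, 1) ((hCmem g 1).mpr (Or.inl ⟨hg, rfl⟩))
    · intro g hg
      show w (1, g) = 0
      by_cases hm : ((1, g) : G₁ × G₂) ∈ ((fun g => (g, (1 : G₂))) '' C₁ ∪ (fun g => ((1 : G₁), g)) '' C₂)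
      · rcases (hCmem 1 g).mp hm with h | h
        · rw [h.2]; exact h1
        · exact absurd h.2 hg
      · exact h2 _ hm
    · intro g h
      have := h3 (1, g) (1, h)
      simpa using this
    · intro g hg
      exact h4 (1, g) ((hCmem 1 g).mpr (Or.inr ⟨rfl, hg⟩))
  · -- InjOn
    rintro ⟨χ, w⟩ ⟨h1, h2, h3, h4⟩ ⟨χ', w'⟩ ⟨h1', h2', h3', h4'⟩ heq
    simp only [Prod.mk.injEq] at heq
    obtain ⟨⟨e1, e2⟩, ⟨e3, e4⟩⟩ := heq
    have hχ : χ = χ' := by
      refine AddMonoidHom.ext fun a => ?_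
      obtain ⟨⟨g₁, g₂⟩, rfl⟩ : ∃ g : G₁ × G₂, Additive.ofMul g = a := ⟨Additive.toMul a, rfl⟩
      have hsplit : ((g₁, g₂) : G₁ × G₂) = (g₁, 1) * (1, g₂) := by simp
      rw [hsplit, ofMul_mul, map_add, map_add]
      have a1 := DFunLike.congr_fun e1 (Additive.ofMul g₁)
      have a2 := DFunLike.congr_fun e3 (Additive.ofMul g₂)
      simp only [AddMonoidHom.comp_apply] at a1 a2
      exact congrArg₂ (· + ·) a1 a2
    have hw : w = w' := by
      ext ⟨g₁, g₂⟩
      by_cases hm : ((g₁, g₂) : G₁ × G₂) ∈ ((fun g => (g, (1 : G₂))) '' C₁ ∪ (fun g => ((1 : G₁), g)) '' C₂)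
      · rcases (hCmem g₁ g₂).mp hm with h | h
        · rw [h.2]; exact congrFun e2 g₁
        · rw [h.1]; exact congrFun e4 g₂
      · rw [show w (g₁, g₂) = 0 from h2 _ hm, show w' (g₁, g₂) = 0 from h2' _ hm]
    rw [hχ, hw]
  · -- SurjOn
    rintro ⟨⟨χ₁, w₁⟩, ⟨χ₂, w₂⟩⟩ ⟨⟨a1, a2, a3, a4⟩, ⟨b1, b2, b3, b4⟩⟩
    simp only at a1 a2 a3 a4 b1 b2 b3 b4
    let χ : Additive (G₁ × G₂) →+ W4c6brauerbgmalle.QmodZ :=
      AddMonoidHom.mk' (fun a => χ₁ (Additive.ofMul (Additive.toMul a).1) +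
        χ₂ (Additive.ofMul (Additive.toMul a).2)) (by
        intro a b
        simp only [toMul_add, Prod.fst_mul, Prod.snd_mul, ofMul_mul, map_add]
        abel)
    let w : G₁ × G₂ → ℚ := fun g => if g.2 = 1 then w₁ g.1 else if g.1 = 1 then w₂ g.2 else 0
    have hχ : ∀ g₁ g₂, χ (Additive.ofMul (g₁, g₂)) = χ₁ (Additive.ofMul g₁) + χ₂ (Additive.ofMul g₂) :=
      fun _ _ => rfl
    have hw : ∀ g₁ g₂, w (g₁, g₂) = if g₂ = 1 then w₁ g₁ else if g₁ = 1 then w₂ g₂ else 0 :=
      fun _ _ => rfl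
    refine ⟨(χ, w), ⟨?_, ?_, ?_, ?_⟩, ?_⟩
    · show w (1, 1) = 0
      rw [hw, if_pos rfl, a1]
    · rintro ⟨g₁, g₂⟩ hg
      show w (g₁, g₂) = 0
      rw [hCmem] at hg
      push_neg at hg
      rw [hw]
      split_ifs with h h'
      · exact a2 g₁ (fun hh => hg.1 hh h)
      · exact b2 g₂ (fun hh => hg.2 h' hh)
      · rfl
    · rintro ⟨g₁, g₂⟩ ⟨h₁, h₂⟩
      show w (h₁ * g₁ * h₁⁻¹, h₂ * g₂ * h₂⁻¹) = w (g₁, g₂)
      have e1 : ∀ (g h : G₁), h * g * h⁻¹ = 1 ↔ g = 1 := by
        intro g h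
        constructor
        · intro hh
          have : g = h⁻¹ * (h * g * h⁻¹) * h := by group
          rw [this, hh]; group
        · rintro rfl; group
      have e2 : ∀ (g h : G₂), h * g * h⁻¹ = 1 ↔ g = 1 := by
        intro g h
        constructor
        · intro hh
          have : g = h⁻¹ * (h * g * h⁻¹) * h := by group
          rw [this, hh]; group
        · rintro rfl; group
      rw [hw, hw]
      simp only [e1, e2, a3, b3]
    · rintro ⟨g₁, g₂⟩ hg
      show W4c6brauerbgmalle.toQmodZ (w (g₁, g₂)) = χ (Additive.ofMul (g₁, g₂))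
      rw [hCmem] at hg
      rw [hχ, hw]
      rcases hg with ⟨hg1, rfl⟩ | ⟨rfl, hg2⟩
      · rw [if_pos rfl, a4 g₁ hg1]
        simp only [ofMul_one, map_zero, add_zero]
      · by_cases h : g₂ = 1
        · subst h
          rw [if_pos rfl, a1]
          simp only [ofMul_one, map_zero, add_zero]
        · rw [if_neg h, if_pos rfl, b4 g₂ hg2]
          simp only [ofMul_one, map_zero, zero_add]
    · show ((χ.comp _, fun g => w (g, 1)), (χ.comp _, fun g => w (1, g))) = _
      refine Prod.ext (Prod.ext ?_ ?_) (Prod.ext ?_ ?_)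
      · refine AddMonoidHom.ext fun a => ?_
        show χ (Additive.ofMul (Additive.toMul a, 1)) = χ₁ a
        rw [hχ]
        simp only [ofMul_one, map_zero, add_zero]; rfl
      · funext g
        show w (g, 1) = w₁ g
        rw [hw, if_pos rfl]
      · refine AddMonoidHom.ext fun a => ?_
        show χ (Additive.ofMul (1, Additive.toMul a)) = χ₂ a
        rw [hχ]
        simp only [ofMul_one, map_zero, zero_add]; rfl
      · funext g
        show w (1, g) = w₂ g
        rw [hw]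
        by_cases h : g = 1
        · subst h; rw [if_pos rfl, a1, b1]
        · rw [if_neg h, if_pos rfl]

end Groth.Agent.S18953
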