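import Groth.Statements.S18954
import Mathlib

set_option autoImplicit false
universe u v w
open Classical
open BGCount

namespace Groth.Agent.S18954

/-- Let a finite group G act on a finite set X, let W be a finite set of orbits and f a function on
orbits with values in a field of characteristic zero. Then Σ_{O ∈ W} f(O)/|Stab(x_O)|, with x_O any
point of O, equals |G|⁻¹ · Σ f(orbit(x)) over the points x of X whose orbit lies in W. (In the
source X is the set of 1-cocycles of the absolute Galois group of a field in a finite étale group
scheme G, acted on by the geometric points of G, the orbits are the isomorphism classes of G-torsors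
and the stabilisers their automorphism groups; stated here for an arbitrary action of a finite group
on a finite set, the representative x_O being chosen by Quotient.out.) -/
theorem result {G : Type u} {X : Type v} (𝕜 : Type w)
    [Group G] [Fintype G] [MulAction G X] [Fintype X] [Field 𝕜] [CharZero 𝕜]
    (W : Finset (MulAction.orbitRel.Quotient G X)) (f : MulAction.orbitRel.Quotient G X → 𝕜) :
    (∑ O ∈ W, f O / (Nat.card (MulAction.stabilizer G O.out) : 𝕜)) =
      (Fintype.card G : 𝕜)⁻¹ *
        ∑ x ∈ Finset.univ.filter (fun x : X => (Quotient.mk (MulAction.orbitRel G X) x) ∈ W),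
          f (Quotient.mk (MulAction.orbitRel G X) x) := by
  classical
  have hGne : (Fintype.card G : 𝕜) ≠ 0 := by
    exact_mod_cast Fintype.card_ne_zero
  -- size of each fibre
  have key : ∀ O : MulAction.orbitRel.Quotient G X,
      ((Finset.univ.filter (fun x : X => (Quotient.mk (MulAction.orbitRel G X) x) = O)).card : 𝕜) *
        (Nat.card (MulAction.stabilizer G O.out) : 𝕜) = (Fintype.card G : 𝕜) := by
    intro O
    have h1 : (Finset.univ.filter (fun x : X => (Quotient.mk (MulAction.orbitRel G X) x) = O)).card =
        Nat.card (MulAction.orbit G O.out) := by
      rw [← Nat.card_eq_finsetCard]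
      apply Nat.card_congr
      refine Equiv.subtypeEquivRight (fun x => ?_)
      rw [Finset.mem_filter]
      simp only [Finset.mem_univ, true_and]
      constructor
      · intro hx
        have : Quotient.mk (MulAction.orbitRel G X) x = Quotient.mk (MulAction.orbitRel G X) O.out := by
          rw [hx, Quotient.out_eq]
        exact (MulAction.orbitRel_apply).mp (Quotient.exact this)
      · intro hx
        have : Quotient.mk (MulAction.orbitRel G X) x = Quotient.mk (MulAction.orbitRel G X) O.out :=
          Quotient.sound ((MulAction.orbitRel_apply).mpr hx)
        rw [this, Quotient.out_eq]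
    have h2 : Nat.card (MulAction.orbit G O.out) * Nat.card (MulAction.stabilizer G O.out) =
        Fintype.card G := by
      rw [← Nat.card_prod, Nat.card_congr (MulAction.orbitProdStabilizerEquivGroup G O.out),
        Nat.card_eq_fintype_card]
    rw [h1]
    exact_mod_cast h2
  have hstab : ∀ O : MulAction.orbitRel.Quotient G X,
      (Nat.card (MulAction.stabilizer G O.out) : 𝕜) ≠ 0 := by
    intro O h
    have := key O
    rw [h, mul_zero] at this
    exact hGne this.symm
  rw [← Finset.sum_fiberwise_of_maps_to (s := Finset.univ.filter (fun x : X =>
      (Quotient.mk (MulAction.orbitRel G X) x) ∈ W)) (t := W)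
      (g := fun x => Quotient.mk (MulAction.orbitRel G X) x)
      (fun x hx => (Finset.mem_filter.mp hx).2), Finset.mul_sum]
  refine Finset.sum_congr rfl (fun O hO => ?_)
  have hfilter : (Finset.univ.filter (fun x : X => (Quotient.mk (MulAction.orbitRel G X) x) ∈ W)).filter
      (fun x => Quotient.mk (MulAction.orbitRel G X) x = O) =
      Finset.univ.filter (fun x : X => (Quotient.mk (MulAction.orbitRel G X) x) = O) := by
    ext x
    simp only [Finset.mem_filter, Finset.mem_univ, true_and]
    constructor
    · exact fun h => h.2
    · exact fun h => ⟨h ▸ hO, h⟩
  rw [hfilter, Finset.sum_congr rfl (fun x hx => by rw [(Finset.mem_filter.mp hx).2]),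
    Finset.sum_const, nsmul_eq_mul]
  have hk := key O
  have hs := hstab O
  have hn : ((Finset.univ.filter (fun x : X => (Quotient.mk (MulAction.orbitRel G X) x) = O)).card : 𝕜) ≠ 0 := by
    intro h
    rw [h, zero_mul] at hk
    exact hGne hk.symm
  rw [← hk]
  field_simp

end Groth.Agent.S18954
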