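import Groth.Statements.S1896
import Mathlib
import Groth.Agent.Lib.Helper1.CohLen

set_option autoImplicit false
universe u
open CategoryTheory AlgebraicGeometry
open Cyc

namespace Groth.Agent.S1896

/-- For a short exact sequence 0 → F → G → H → 0 of coherent O_X-modules (X locally Noetherian with
dimension function δ) whose supports have δ-dimension at most k, one has [G]_k = [F]_k + [H]_k
coefficientwise. Here (X, δ) satisfies Cyc.IsSetup (X locally Noetherian with universally catenary
local rings, δ a dimension function). -/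
theorem result (X : Scheme.{u}) (δ : X → ℤ) (hX : Cyc.IsSetup X δ) (k : ℤ) (T : ShortComplex X.Modules) (hT : T.ShortExact) (h₁ : Coh.IsCoh T.X₁) (h₂ : Coh.IsCoh T.X₂) (h₃ : Coh.IsCoh T.X₃) (hdim : ∀ x : X, Nontrivial (T.X₂.presheaf.stalk x) → δ x ≤ k) : Cyc.sheafFun δ k T.X₂ = Cyc.sheafFun δ k T.X₁ + Cyc.sheafFun δ k T.X₃ := by
  funext x
  simp only [Cyc.sheafFun, Pi.add_apply]
  split_ifs with h
  · haveI := hX.1
    haveI : T.X₂.IsQuasicoherent := h₂.1
    have hadd := Groth.Agent.H1.CohLen.length_stalk_add T hT x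
    have hfin : Module.length (X.presheaf.stalk x) (T.X₂.presheaf.stalk x) < ⊤ := by
      apply Groth.Agent.H1.CohLen.length_stalk_lt_top T.X₂ h₂.2 x
      intro y hy hsp
      by_contra hne
      have h1 := (hX.2.2 y x hsp hne).1
      have h2 := hdim y hy
      omega
    have e : ∀ (a b c : ℕ∞), a = b + c → a < ⊤ → (a.toNat : ℤ) = b.toNat + c.toNat := by
      intro a b c h1 h2
      subst h1
      have ha : b ≠ ⊤ := by
        intro h0; rw [h0, top_add] at h2; exact lt_irrefl _ h2
      have hb : c ≠ ⊤ := by
        intro h0; rw [h0, add_top] at h2; exact lt_irrefl _ h2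
      rw [ENat.toNat_add ha hb]
      push_cast
      rfl
    exact e _ _ _ hadd hfin
  · simp

end Groth.Agent.S1896
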