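import Groth.Statements.S18960
import Mathlib

set_option autoImplicit false
universe w' w v u
open CategoryTheory Limits
open CatLim

namespace Groth.Agent.S18960

section Aux

variable {C : Type u} [Category.{v} C] (T : C ⥤ C) {J : Type w} [Category.{w'} J]

/-- the property "structure map is an isomorphism" -/
abbrev PIso : ObjectProperty (Endofunctor.Algebra T) := fun A => IsIso A.str

/-- the forgetful functor from algebras with invertible structure map -/
abbrev piF : (PIso T).FullSubcategory ⥤ C := (PIso T).ι ⋙ Endofunctor.Algebra.forget T

instance : (piF T).ReflectsIsomorphisms := by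
  unfold piF
  infer_instance

variable {T}
variable (K : J ⥤ (PIso T).FullSubcategory) (c : Cocone (K ⋙ piF T)) (t : IsColimit c)
  [PreservesColimitsOfShape J T]

/-- the structure map at `j`, typed via the composite functor -/
def strAt (j : J) : T.obj ((K ⋙ piF T).obj j) ⟶ (K ⋙ piF T).obj j := (K.obj j).obj.str

instance isIso_strAt (j : J) : IsIso (strAt K j) := (K.obj j).property

lemma map_h {j j' : J} (f : j ⟶ j') :
    T.map ((K ⋙ piF T).map f) ≫ strAt K j' = strAt K j ≫ (K ⋙ piF T).map f :=
  (K.map f).hom.h

/-- cocone used to define the structure map -/
def strCocone : Cocone ((K ⋙ piF T) ⋙ T) where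
  pt := c.pt
  ι :=
    { app := fun j => strAt K j ≫ c.ι.app j
      naturality := by
        intro j j' f
        simp only [Functor.const_obj_obj, Functor.const_obj_map, Category.comp_id]
        show T.map ((K ⋙ piF T).map f) ≫ strAt K j' ≫ c.ι.app j' = _
        rw [← Category.assoc, map_h K f, Category.assoc, c.w f] }

/-- the structure map on the colimit -/
noncomputable def colimStr : T.obj c.pt ⟶ c.pt :=
  (isColimitOfPreserves T t).desc (strCocone K c)

omit [PreservesColimitsOfShape J T] in
lemma dummy : True := trivial

lemma colimStr_fac (j : J) :
    T.map (c.ι.app j) ≫ colimStr K c t = strAt K j ≫ c.ι.app j :=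
  (isColimitOfPreserves T t).fac (strCocone K c) j

/-- cocone used to define the inverse of the structure map -/
noncomputable def invCocone : Cocone (K ⋙ piF T) where
  pt := T.obj c.pt
  ι :=
    { app := fun j => inv (strAt K j) ≫ T.map (c.ι.app j)
      naturality := by
        intro j j' f
        simp only [Functor.const_obj_obj, Functor.const_obj_map, Category.comp_id]
        have h1 : (K ⋙ piF T).map f ≫ inv (strAt K j') =
            inv (strAt K j) ≫ T.map ((K ⋙ piF T).map f) := by
          rw [IsIso.eq_inv_comp, ← Category.assoc, ← map_h K f, Category.assoc, IsIso.hom_inv_id,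
            Category.comp_id]
        rw [← Category.assoc, h1, Category.assoc, ← T.map_comp, c.w f] }

noncomputable def colimStrInv : c.pt ⟶ T.obj c.pt := t.desc (invCocone K c)

lemma colimStrInv_fac (j : J) :
    c.ι.app j ≫ colimStrInv K c t = inv (strAt K j) ≫ T.map (c.ι.app j) :=
  t.fac (invCocone K c) j

lemma colimStr_inv : colimStr K c t ≫ colimStrInv K c t = 𝟙 _ := by
  apply (isColimitOfPreserves T t).hom_ext
  intro j
  show T.map (c.ι.app j) ≫ _ = T.map (c.ι.app j) ≫ _
  rw [← Category.assoc, colimStr_fac, Category.assoc, colimStrInv_fac, IsIso.hom_inv_id_assoc]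
  exact (Category.comp_id _).symm

lemma colimStrInv_str : colimStrInv K c t ≫ colimStr K c t = 𝟙 _ := by
  apply t.hom_ext
  intro j
  rw [← Category.assoc, colimStrInv_fac, Category.assoc, colimStr_fac, IsIso.inv_hom_id_assoc]
  exact (Category.comp_id _).symm

/-- the lifted object -/
noncomputable def liftObj : (PIso T).FullSubcategory :=
  ⟨⟨c.pt, colimStr K c t⟩, ⟨⟨colimStrInv K c t, colimStr_inv K c t, colimStrInv_str K c t⟩⟩⟩

/-- the lifted cocone -/
noncomputable def liftCocone : Cocone K where
  pt := liftObj K c t
  ι :=
    { app := fun j => ObjectProperty.homMk ⟨c.ι.app j, colimStr_fac K c t j⟩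
      naturality := by
        intro j j' f
        apply ObjectProperty.hom_ext
        apply Endofunctor.Algebra.Hom.ext
        simp only [Functor.const_obj_obj, Functor.const_obj_map, Category.comp_id]
        exact c.w f }

noncomputable def liftIsColimit : IsColimit (liftCocone K c t) where
  desc s := ObjectProperty.homMk
    ⟨t.desc ((piF T).mapCocone s), by
      apply (isColimitOfPreserves T t).hom_ext
      intro j
      show T.map (c.ι.app j) ≫ T.map (t.desc ((piF T).mapCocone s)) ≫ s.pt.obj.str =
        T.map (c.ι.app j) ≫ colimStr K c t ≫ t.desc ((piF T).mapCocone s)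
      rw [← Category.assoc, ← T.map_comp, t.fac, ← Category.assoc, colimStr_fac, Category.assoc,
        t.fac]
      exact (s.ι.app j).hom.h⟩
  fac s j := by
    apply ObjectProperty.hom_ext
    apply Endofunctor.Algebra.Hom.ext
    exact t.fac ((piF T).mapCocone s) j
  uniq s m hm := by
    apply ObjectProperty.hom_ext
    apply Endofunctor.Algebra.Hom.ext
    apply t.hom_ext
    intro j
    refine Eq.trans ?_ (t.fac ((piF T).mapCocone s) j).symm
    exact congrArg (fun φ => (piF T).map φ) (hm j)

noncomputable def liftsToColimit : LiftsToColimit K (piF T) c t where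
  liftedCocone := liftCocone K c t
  validLift := Cocone.ext (Iso.refl _) (fun j => Category.comp_id _)
  makesColimit := liftIsColimit K c t

end Aux

/-- Let C be a category and T an endofunctor of C; let C(T) be the category whose objects are pairs (X,
u) with u : T X → X an isomorphism and whose morphisms (X, u) → (Y, w) are the morphisms X → Y
compatible with u and w — the full subcategory of T-algebras with invertible structure map — and let
π : C(T) → C be the forgetful functor. If T preserves colimits of shape J then π creates colimits of
shape J. (The source assumes T preserves all small colimits and concludes for all small shapes; the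
argument is shape by shape.) -/
theorem result {C : Type u} [Category.{v} C] (T : C ⥤ C)
    (J : Type w) [Category.{w'} J] [PreservesColimitsOfShape J T] :
    Nonempty (CreatesColimitsOfShape J
      ((ObjectProperty.ι (fun A : Endofunctor.Algebra T => IsIso A.str)) ⋙ Endofunctor.Algebra.forget T)) := by
  exact ⟨⟨fun {K} => createsColimitOfReflectsIso (F := piF T) (fun c t => liftsToColimit K c t)⟩⟩

end Groth.Agent.S18960
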