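import Groth.Statements.S6477
import Mathlib
import Groth.Agent.Lib.Helper1.CohPull

set_option autoImplicit false
universe u
open CategoryTheory AlgebraicGeometry
open CategoryTheory.Limits
open Cyc

namespace Groth.Agent.S6477

/-- Let F be a coherent O_X-module with dim_δ Supp(F) ≤ k and F' = p^*F its base change to X'. Then
dim_{δ'} Supp(F') ≤ k + c and g^*[F]_k = [F']_{k+c} in Z_{k+c}(X') (coefficientwise; support bounds
through nontrivial stalks). Setting: p : X' → X is flat (not necessarily of finite type), (X, δ) and
(X', δ') satisfy Cyc.IsSetup, and δ'(x') = δ(p x') + c whenever x' is maximal under generalization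
inside its fibre p⁻¹(p x'); g^* : Z_k(X) → Z_{k+c}(X') is the coefficientwise flat pullback
Cyc.pullFun p δ' δ c. (The published statement takes X′ = X ×_S S′ for a flat S′ → S and X locally
of finite type over S; this row allows any flat p : X′ → X with the shift condition. The published
statement also has a part for closed subschemes, which follows with [Z]_k = [O_Z]_k; this row does
not restate it.) -/
theorem result (X X' : Scheme.{u}) (p : X' ⟶ X) [Flat p] (δ : X → ℤ) (δ' : X' → ℤ) (hX : Cyc.IsSetup X δ) (hX' : Cyc.IsSetup X' δ') (c : ℤ) (hc : ∀ x' : X', (∀ y, p y = p x' → y ⤳ x' → y = x') → δ' x' = δ (p x') + c) (k : ℤ) (F : X.Modules) (hF : Coh.IsCoh F) (hdim : ∀ x : X, Nontrivial (F.presheaf.stalk x) → δ x ≤ k) : (∀ x' : X', Nontrivial (((Scheme.Modules.pullback p).obj F).presheaf.stalk x') → δ' x' ≤ k + c) ∧ Cyc.pullFun p δ' δ c (Cyc.sheafFun δ k F) = Cyc.sheafFun δ' (k + c) ((Scheme.Modules.pullback p).obj F) := by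
  haveI : F.IsQuasicoherent := hF.1
  -- `δ' x' ≤ δ (p x') + c` always
  have hle : ∀ x' : X', δ' x' ≤ δ (p x') + c := by
    intro x'
    obtain ⟨y, hy1, hy2, hy3⟩ := Groth.Agent.H1.CohLen.exists_fibre_generic_specializes p x'
    have h1 := hc y hy3
    rw [hy1] at h1
    by_cases hyx : y = x'
    · rw [← hyx] at h1 ⊢; rw [h1, hyx]
    · have := (hX'.2.2 y x' hy2 hyx).1
      omega
  have hlen := fun x' => Groth.Agent.H1.CohLen.length_stalk_pullback p F x'
  have key0 : ∀ a b d : ℕ∞, d = a * b → a = 0 → d = 0 := by
    intro a b d h1 h2; rw [h1, h2, zero_mul]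
  -- nontriviality of the pulled-back stalk forces nontriviality downstairs
  have hnt : ∀ x' : X', Nontrivial (((Scheme.Modules.pullback p).obj F).presheaf.stalk x') →
      Nontrivial (F.presheaf.stalk (p x')) := by
    intro x' h
    by_contra hn
    rw [not_nontrivial_iff_subsingleton] at hn
    exact not_nontrivial_iff_subsingleton.2
      (Module.length_eq_zero_iff.1 (key0 _ _ _ (hlen x') Module.length_eq_zero)) h
  refine ⟨fun x' h => ?_, ?_⟩
  · have := hdim _ (hnt x' h)
    have := hle x'
    omega
  · funext x'
    rw [Groth.Agent.H1.PullComp.pullFun_apply]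
    simp only [Cyc.sheafFun]
    by_cases hA : δ' x' = k + c
    · rw [if_pos hA]
      by_cases hk : δ (p x') = k
      · rw [if_pos (by rw [hk]; exact hA), if_pos hk]
        unfold Groth.Agent.H1.PullComp.lenFac
        have e : ∀ a b d : ℕ∞, d = a * b → (a.toNat : ℤ) * (b.toNat : ℤ) = d.toNat := by
          intro a b d h; rw [h, ENat.toNat_mul]; push_cast; rfl
        exact e _ _ _ (hlen x')
      · simp only [if_neg hk, zero_mul, ite_self]
        by_cases hn : Nontrivial (((Scheme.Modules.pullback p).obj F).presheaf.stalk x')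
        · exfalso
          have h1 := hdim _ (hnt x' hn)
          have h2 := hle x'
          omega
        · rw [not_nontrivial_iff_subsingleton] at hn
          have e : ∀ a : ℕ∞, a = 0 → (0 : ℤ) = a.toNat := fun a h => by rw [h]; rfl
          exact e _ Module.length_eq_zero
    · rw [if_neg hA]
      by_cases h1 : δ' x' = δ (p x') + c
      · rw [if_pos h1, if_neg (by intro hk; apply hA; rw [h1, hk]), zero_mul]
      · rw [if_neg h1]

end Groth.Agent.S6477
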