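import Groth.Statements.S18974
import Mathlib

set_option autoImplicit false
universe u
open CAlg

namespace Groth.Agent.S18974

open Polynomial

section
variable {A : Type u} [CommRing A] [Algebra ℚ A] (D : Derivation ℚ A A)

/-- coefficientwise derivation on `A[X]` -/
noncomputable def Dt : Derivation ℚ A[X] A[X] :=
  PolynomialModule.equivPolynomialSelf.compDer D.mapCoeffs

theorem coeff_Dt (p : A[X]) (i : ℕ) : coeff (Dt D p) i = D (coeff p i) := rfl

theorem Dpow_succ (n : ℕ) (x : A) :
    ((D : A →ₗ[ℚ] A) ^ (n + 1)) x = D (((D : A →ₗ[ℚ] A) ^ n) x) := by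
  rw [pow_succ', Module.End.mul_apply]; rfl

theorem Dpow_succ' (n : ℕ) (x : A) :
    ((D : A →ₗ[ℚ] A) ^ (n + 1)) x = ((D : A →ₗ[ℚ] A) ^ n) (D x) := by
  rw [pow_succ, Module.End.mul_apply]; rfl

theorem Dpow_eq_zero_of_le {x : A} {N M : ℕ} (h : ((D : A →ₗ[ℚ] A) ^ N) x = 0) (hNM : N ≤ M) :
    ((D : A →ₗ[ℚ] A) ^ M) x = 0 := by
  obtain ⟨k, rfl⟩ := Nat.exists_eq_add_of_le hNM
  rw [add_comm, pow_add, Module.End.mul_apply, h, map_zero]

theorem mul_natCast_eq_smul (y : A) (n : ℕ) : y * ((n : ℕ) : A) = ((n : ℕ) : ℚ) • y := by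
  rw [Algebra.smul_def, map_natCast, mul_comm]

/-- uniqueness for the ODE `F' = D̃ F` -/
theorem coeff_of_ode (F : A[X]) (h : derivative F = Dt D F) (n : ℕ) :
    coeff F n = ((n.factorial : ℕ) : ℚ)⁻¹ • ((D : A →ₗ[ℚ] A) ^ n) (coeff F 0) := by
  induction n with
  | zero => simp
  | succ n ih =>
    have h1 : coeff (derivative F) n = coeff (Dt D F) n := by rw [h]
    rw [coeff_derivative, coeff_Dt, ih, Derivation.map_smul] at h1
    rw [Dpow_succ]
    have h2 : coeff F (n + 1) * (((n + 1 : ℕ)) : A) =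
        (((n.factorial : ℕ) : ℚ))⁻¹ • D (((D : A →ₗ[ℚ] A) ^ n) (coeff F 0)) := by
      rw [← h1]; push_cast; rfl
    rw [mul_natCast_eq_smul] at h2
    have h3 : coeff F (n + 1) = (((n + 1 : ℕ)) : ℚ)⁻¹ • ((((n + 1 : ℕ)) : ℚ) • coeff F (n + 1)) := by
      rw [smul_smul, inv_mul_cancel₀ (by positivity), one_smul]
    rw [h3, h2, smul_smul]
    congr 1
    rw [Nat.factorial_succ]; push_cast; rw [mul_inv]

variable (hnil : ∀ x : A, ∃ n : ℕ, ((D : A →ₗ[ℚ] A) ^ n) x = 0)

open Classical in
/-- the exponential `x ↦ ∑ (1/n!) Dⁿ x Yⁿ` -/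
noncomputable def E (x : A) : A[X] :=
  ∑ n ∈ Finset.range (Nat.find (hnil x)),
    monomial n ((((n.factorial : ℕ) : ℚ))⁻¹ • ((D : A →ₗ[ℚ] A) ^ n) x)

open Classical in
theorem coeff_E (x : A) (n : ℕ) :
    coeff (E D hnil x) n = (((n.factorial : ℕ) : ℚ))⁻¹ • ((D : A →ₗ[ℚ] A) ^ n) x := by
  simp only [E, finsetSum_coeff, coeff_monomial]
  rw [Finset.sum_ite_eq']
  split_ifs with h
  · rfl
  · have h' : Nat.find (hnil x) ≤ n := by simpa using h
    rw [Dpow_eq_zero_of_le D (Nat.find_spec (hnil x)) h', smul_zero]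

theorem E_eq_sum (x : A) (N : ℕ) (h : ((D : A →ₗ[ℚ] A) ^ N) x = 0) :
    E D hnil x = ∑ n ∈ Finset.range N,
      monomial n ((((n.factorial : ℕ) : ℚ))⁻¹ • ((D : A →ₗ[ℚ] A) ^ n) x) := by
  ext k
  rw [coeff_E]
  simp only [finsetSum_coeff, coeff_monomial]
  rw [Finset.sum_ite_eq']
  split_ifs with h'
  · rfl
  · have h'' : N ≤ k := by simpa using h'
    rw [Dpow_eq_zero_of_le D h h'', smul_zero]

theorem E_ode (x : A) : derivative (E D hnil x) = Dt D (E D hnil x) := by
  ext n
  rw [coeff_derivative, coeff_Dt, coeff_E, coeff_E, Derivation.map_smul, ← Dpow_succ]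
  have : ((n : A) + 1) = (((n + 1 : ℕ)) : A) := by push_cast; rfl
  rw [this, mul_natCast_eq_smul, smul_smul]
  congr 1
  rw [Nat.factorial_succ]; push_cast
  field_simp

theorem ode_unique (F : A[X]) (h : derivative F = Dt D F) : F = E D hnil (coeff F 0) := by
  ext n
  rw [coeff_of_ode D F h, coeff_E]

theorem E_coeff_zero (x : A) : coeff (E D hnil x) 0 = x := by
  rw [coeff_E]; simp

theorem E_mul (x y : A) : E D hnil (x * y) = E D hnil x * E D hnil y := by
  have h : derivative (E D hnil x * E D hnil y) = Dt D (E D hnil x * E D hnil y) := by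
    rw [derivative_mul, E_ode, E_ode, Derivation.leibniz]
    simp only [smul_eq_mul]
    ring
  have := ode_unique D hnil _ h
  rw [this, mul_coeff_zero, E_coeff_zero, E_coeff_zero]

theorem E_add (x y : A) : E D hnil (x + y) = E D hnil x + E D hnil y := by
  ext n
  rw [coeff_add, coeff_E, coeff_E, coeff_E, map_add, smul_add]

theorem E_of_D_eq_zero (x : A) (h : D x = 0) : E D hnil x = C x := by
  have h' : derivative (C x) = Dt D (C x) := by
    ext n
    rw [derivative_C, coeff_Dt, coeff_C]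
    split_ifs <;> simp [h]
  have := ode_unique D hnil _ h'
  rw [coeff_C_zero] at this
  exact this.symm

theorem E_one : E D hnil 1 = 1 := by
  rw [E_of_D_eq_zero D hnil 1 (by simp)]; simp

theorem E_zero : E D hnil 0 = 0 := by
  rw [E_of_D_eq_zero D hnil 0 (by simp)]; simp

/-- the exponential as a ring hom -/
noncomputable def Eh : A →+* A[X] where
  toFun := E D hnil
  map_one' := E_one D hnil
  map_mul' := E_mul D hnil
  map_zero' := E_zero D hnil
  map_add' := E_add D hnil

theorem Eh_apply (x : A) : Eh D hnil x = E D hnil x := rfl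

theorem E_D (x : A) : E D hnil (D x) = Dt D (E D hnil x) := by
  ext n
  rw [coeff_E, coeff_Dt, coeff_E, Derivation.map_smul, ← Dpow_succ, Dpow_succ']

theorem chain (c : A) (P : A[X]) :
    D (eval c P) = eval c (Dt D P) + eval c (derivative P) * D c := by
  induction P using Polynomial.induction_on' with
  | add p q hp hq =>
    rw [eval_add, map_add, hp, hq, map_add, eval_add, map_add, eval_add]; ring
  | monomial n r =>
    have h1 : Dt D (monomial n r) = monomial n (D r) := by
      ext k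
      rw [coeff_Dt, coeff_monomial, coeff_monomial]
      split_ifs <;> simp
    rw [h1, derivative_monomial, eval_monomial, eval_monomial, eval_monomial, Derivation.leibniz,
      Derivation.leibniz_pow]
    simp only [smul_eq_mul, nsmul_eq_mul]
    ring

end

/-- Let A be a commutative algebra over the rationals, D a locally nilpotent derivation of A and a an
element with D a = 1; write A' for the quotient of A by the ideal generated by a. Then there is a
ring isomorphism from A onto the polynomial ring A'[Y] which sends every x to the (finite) sum over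
n of (1/n!) (class of D^n x) Y^n; its inverse sends Y to a and the constant polynomial on the class
of x to the sum over n of ((-1)^n/n!) (D^n x) a^n, and under it D corresponds to the derivative
d/dY. (The source says only that A is a ring, in a setting over a field of characteristic zero; the
rational coefficients 1/n! require an algebra over the rationals, which is the hypothesis taken
here. Both sums are written over any range beyond which the iterates of D vanish at x.) -/
theorem result
    (A : Type u) [CommRing A] [Algebra ℚ A] (D : Derivation ℚ A A)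
    (hnil : ∀ x : A, ∃ n : ℕ, ((D : A →ₗ[ℚ] A) ^ n) x = 0) (a : A) (ha : D a = 1) :
    ∃ χ : A ≃+* Polynomial (A ⧸ Ideal.span ({a} : Set A)),
      (∀ (x : A) (N : ℕ), ((D : A →ₗ[ℚ] A) ^ N) x = 0 →
        χ x = ∑ n ∈ Finset.range N,
          ((n.factorial : ℚ)⁻¹ • Polynomial.C (Ideal.Quotient.mk (Ideal.span ({a} : Set A)) (((D : A →ₗ[ℚ] A) ^ n) x))) *
            Polynomial.X ^ n) ∧
      χ.symm Polynomial.X = a ∧
      (∀ (x : A) (N : ℕ), ((D : A →ₗ[ℚ] A) ^ N) x = 0 →
        χ.symm (Polynomial.C (Ideal.Quotient.mk (Ideal.span ({a} : Set A)) x)) =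
          ∑ n ∈ Finset.range N, (((-1 : ℚ) ^ n * (n.factorial : ℚ)⁻¹) • ((((D : A →ₗ[ℚ] A) ^ n) x) * a ^ n))) ∧
      ∀ p : Polynomial (A ⧸ Ideal.span ({a} : Set A)), χ (D (χ.symm p)) = Polynomial.derivative p := by
  classical
  set I : Ideal A := Ideal.span ({a} : Set A) with hI
  set π : A →+* A ⧸ I := Ideal.Quotient.mk I with hπ
  have hπa : π a = 0 := Ideal.Quotient.eq_zero_iff_mem.mpr (Ideal.mem_span_singleton_self a)
  have hπsmul : ∀ (q : ℚ) (y : A), π (q • y) = q • π y := fun q y => rfl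
  -- E a = C a + X
  have hEa : E D hnil a = C a + X := by
    have h' : derivative (C a + X : A[X]) = Dt D (C a + X) := by
      ext n
      rw [derivative_add, derivative_C, derivative_X, zero_add, coeff_Dt, coeff_add, map_add,
        coeff_C, coeff_X, coeff_one]
      by_cases hn : n = 0
      · subst hn; simp [ha]
      · have : ¬ (1 = n) ∨ True := Or.inr trivial
        by_cases h1 : 1 = n
        · subst h1; simp
        · simp [hn, h1]
    have := ode_unique D hnil _ h'
    rw [coeff_add, coeff_C_zero, coeff_X_zero, add_zero] at this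
    exact this.symm
  -- ρ
  let ρ : A →+* A := (evalRingHom (-a)).comp (Eh D hnil)
  have hρ : ∀ x, ρ x = eval (-a) (E D hnil x) := fun x => rfl
  have hρa : ρ a = 0 := by rw [hρ, hEa]; simp
  have hDρ : ∀ x, D (ρ x) = 0 := by
    intro x
    rw [hρ, chain, ← E_ode, map_neg, ha]; ring
  have hπρ : ∀ x, π (ρ x) = π x := by
    intro x
    rw [hρ, ← eval₂_at_apply, ← eval_map, map_neg, hπa, neg_zero, ← coeff_zero_eq_eval_zero,
      coeff_map, E_coeff_zero]
  have hρker : ∀ x ∈ I, ρ x = 0 := by
    intro x hx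
    obtain ⟨y, rfl⟩ := Ideal.mem_span_singleton'.mp hx
    rw [map_mul, hρa, mul_zero]
  let ψ₀ : A ⧸ I →+* A := Ideal.Quotient.lift I ρ hρker
  have hψ₀ : ∀ x, ψ₀ (π x) = ρ x := fun x => Ideal.Quotient.lift_mk I ρ hρker
  let ψ : (A ⧸ I)[X] →+* A := eval₂RingHom ψ₀ a
  let χ₀ : A →+* (A ⧸ I)[X] := (mapRingHom π).comp (Eh D hnil)
  have hχ₀ : ∀ x, χ₀ x = map π (E D hnil x) := fun x => rfl
  have hχ₀ρ : ∀ x, χ₀ (ρ x) = C (π x) := by
    intro x
    rw [hχ₀, E_of_D_eq_zero D hnil _ (hDρ x), map_C, hπρ]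
  have hχ₀a : χ₀ a = X := by
    rw [hχ₀, hEa, Polynomial.map_add, map_C, map_X, hπa, map_zero, zero_add]
  have hcomp1 : χ₀.comp ψ = RingHom.id _ := by
    apply Polynomial.ringHom_ext
    · intro c
      obtain ⟨x, rfl⟩ := Ideal.Quotient.mk_surjective c
      show χ₀ (eval₂ ψ₀ a (C (π x))) = C (π x)
      rw [eval₂_C, hψ₀, hχ₀ρ]
    · show χ₀ (eval₂ ψ₀ a X) = X
      rw [eval₂_X, hχ₀a]
  -- injectivity of χ₀
  have hinj : ∀ (m : ℕ) (x : A), ((D : A →ₗ[ℚ] A) ^ m) x = 0 → χ₀ x = 0 → x = 0 := by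
    intro m
    induction m with
    | zero => intro x hx _; simpa using hx
    | succ m ih =>
      intro x hx h0
      have hDx : D x = 0 := by
        apply ih (D x)
        · rw [← Dpow_succ']; exact hx
        · rw [hχ₀, E_D]
          ext n
          have h1 : coeff (χ₀ x) (n + 1) = 0 := by rw [h0]; simp
          rw [hχ₀, coeff_map, coeff_E, hπsmul] at h1
          rw [coeff_map, coeff_Dt, coeff_E, Derivation.map_smul, ← Dpow_succ, hπsmul, coeff_zero]
          have h2 : (((n.factorial : ℕ) : ℚ))⁻¹ = (((n + 1 : ℕ)) : ℚ) * (((( n + 1).factorial : ℕ) : ℚ))⁻¹ := by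
            rw [Nat.factorial_succ]; push_cast; field_simp
          rw [h2, mul_smul, h1, smul_zero]
      have h1 : χ₀ x = C (π x) := by rw [hχ₀, E_of_D_eq_zero D hnil _ hDx, map_C]
      have h2 : π x = 0 := by
        have := h0; rw [h1] at this
        exact C_eq_zero.mp this
      have h3 : ρ x = x := by rw [hρ, E_of_D_eq_zero D hnil _ hDx, eval_C]
      rw [← h3, ← hψ₀, h2, map_zero]
  have hcomp2 : ψ.comp χ₀ = RingHom.id _ := by
    ext x
    show ψ (χ₀ x) = x
    obtain ⟨m, hm⟩ := hnil (ψ (χ₀ x) - x)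
    have := hinj m _ hm (by
      rw [map_sub]
      have := congrArg (fun f => f (χ₀ x)) hcomp1
      simp only [RingHom.comp_apply, RingHom.id_apply] at this
      rw [this, sub_self])
    exact sub_eq_zero.mp this
  refine ⟨RingEquiv.ofRingHom χ₀ ψ hcomp1 hcomp2, ?_, ?_, ?_, ?_⟩
  · intro x N hN
    show χ₀ x = _
    rw [hχ₀, E_eq_sum D hnil x N hN, Polynomial.map_sum]
    apply Finset.sum_congr rfl
    intro n _
    rw [map_monomial, hπsmul, smul_C, C_mul_X_pow_eq_monomial]
  · show ψ X = a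
    exact eval₂_X _ _
  · intro x N hN
    show ψ (C (π x)) = _
    show eval₂ ψ₀ a (C (π x)) = _
    rw [eval₂_C, hψ₀, hρ, E_eq_sum D hnil x N hN, eval_finsetSum]
    apply Finset.sum_congr rfl
    intro n _
    rw [eval_monomial, neg_pow]
    simp only [Algebra.smul_def, map_mul, map_pow, map_neg, map_one]
    ring
  · intro p
    show χ₀ (D (ψ p)) = derivative p
    have hD : ∀ y, χ₀ (D y) = derivative (χ₀ y) := by
      intro y
      rw [hχ₀, hχ₀, E_D, ← E_ode, derivative_map]
    rw [hD]
    have := congrArg (fun f => f p) hcomp1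
    simp only [RingHom.comp_apply, RingHom.id_apply] at this
    rw [this]

end Groth.Agent.S18974
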