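import Groth.Statements.S1899
import Mathlib
import Groth.Agent.Lib.Helper1.CohPush

set_option autoImplicit false
universe u
open CategoryTheory AlgebraicGeometry
open Cyc

namespace Groth.Agent.S1899

/-- For a closed immersion i : Z → X with Z of δ-dimension ≤ k, [Z]_k = [O_Z]_k, i.e. the multiplicities
computed from lengths of the local rings O_{Z,z} agree with those computed from the stalks of i_*O_Z
as O_X-modules. A pair (X, δ) with Cyc.IsSetup plays the role of a scheme locally of finite type
over a fixed base with a dimension function (X locally Noetherian with universally catenary local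
rings, δ a dimension function), and Cyc.DeltaCompat records that the dimension function upstairs is
the induced one. -/
theorem result (X Z : Scheme.{u}) (δ : X → ℤ) (hX : Cyc.IsSetup X δ) (i : Z ⟶ X) [IsClosedImmersion i] (k : ℤ) (hdim : ∀ z : Z, δ (i z) ≤ k) : Cyc.subschemeFun δ k i = Cyc.sheafFun δ k ((Coh.push i).obj (Coh.structureModule Z)) := by
  funext x
  simp only [Cyc.subschemeFun, Cyc.sheafFun]
  split_ifs with h
  · by_cases hx : x ∈ Set.range i
    · obtain ⟨z, rfl⟩ := hx
      have hset : {z' : Z | i z' = i z} = {z} := by
        ext z'
        simp only [Set.mem_ofPred_eq, Set.mem_singleton_iff]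
        exact ⟨fun h => i.isClosedEmbedding.injective h, fun h => h ▸ rfl⟩
      rw [hset, finsum_mem_singleton]
      have e := (Groth.Agent.H1.CohLen.length_stalk_push_closedImmersion i
        (Groth.Agent.LD.QC.unitMod Z) z).trans (Groth.Agent.H1.CohLen.length_unit_stalk z)
      have e2 : ∀ a b : ℕ∞, a = b → ((b.toNat : ℤ)) = a.toNat := fun a b h => by rw [h]
      exact e2 _ _ e
    · have hempty : {z' : Z | i z' = x} = ∅ := by
        ext z'
        simp only [Set.mem_ofPred_eq, Set.mem_empty_iff_false, iff_false]
        exact fun h => hx ⟨z', h⟩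
      rw [hempty, finsum_mem_empty]
      have hx' : x ∉ closure (Set.range i) := by
        rwa [i.isClosedEmbedding.isClosed_range.closure_eq]
      haveI := Groth.Agent.H1.CohLen.subsingleton_stalk_push_of_notMem_closure i
        (Groth.Agent.LD.QC.unitMod Z) x hx'
      have e2 : ∀ a : ℕ∞, a = 0 → (0 : ℤ) = a.toNat := fun a h => by rw [h]; rfl
      exact e2 _ Module.length_eq_zero
  · rfl

end Groth.Agent.S1899
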