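import Groth.Statements.S18994
import Mathlib

set_option autoImplicit false
universe u
open TernForm

namespace Groth.Agent.S18994

open MvPolynomial

theorem eq_single_of_degree {s : Fin 3 →₀ ℕ} {j : Fin 3} (hdeg : s.degree = 2) (hj : 2 ≤ s j) :
    s = Finsupp.single j 2 := by
  rw [Finsupp.degree_eq_sum, Fin.sum_univ_three] at hdeg
  ext i
  rw [Finsupp.single_apply]
  fin_cases j <;> fin_cases i <;> simp at hj ⊢ <;> omega

theorem key (R : Type u) [CommRing R] (j : Fin 3) (q : MvPolynomial (Fin 3) R)
    (hq : q.IsHomogeneous 2) (hqj : IsUnit (q.coeff (Finsupp.single j 2)))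
    (g : MvPolynomial (Fin 3) R) (h : ∀ m : Fin 3 →₀ ℕ, 2 ≤ m j → (q * g).coeff m = 0) : g = 0 := by
  classical
  by_contra hg
  have hne : g.support.Nonempty := by
    rwa [Finset.nonempty_iff_ne_empty, Ne, MvPolynomial.support_eq_empty]
  obtain ⟨m', hm', hmax⟩ := Finset.exists_max_image g.support (fun m => m j) hne
  have h1 := h (Finsupp.single j 2 + m') (by simp)
  rw [MvPolynomial.coeff_mul, Finset.sum_eq_single (Finsupp.single j 2, m')] at h1
  · have h2 : g.coeff m' = 0 := hqj.mul_right_eq_zero.mp h1
    exact (MvPolynomial.mem_support_iff.mp hm') h2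
  · rintro ⟨s, t⟩ hst hne'
    rw [Finset.HasAntidiagonal.mem_antidiagonal] at hst
    by_contra hnz
    have hs : q.coeff s ≠ 0 := left_ne_zero_of_mul hnz
    have ht : g.coeff t ≠ 0 := right_ne_zero_of_mul hnz
    have hdeg : s.degree = 2 := by
      by_contra hd
      exact hs (hq.coeff_eq_zero hd)
    have htj : t j ≤ m' j := hmax t (MvPolynomial.mem_support_iff.mpr ht)
    have hj : s j + t j = 2 + m' j := by
      have := congrArg (fun f => f j) hst
      simpa using this
    have hsj : 2 ≤ s j := by omega
    have hs_eq : s = Finsupp.single j 2 := eq_single_of_degree hdeg hsj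
    apply hne'
    dsimp only at hst
    rw [hs_eq] at hst
    rw [hs_eq, add_left_cancel hst]
  · intro hnot
    exfalso
    apply hnot
    rw [Finset.HasAntidiagonal.mem_antidiagonal]

theorem span_part (R : Type u) [CommRing R] (j : Fin 3) (q : MvPolynomial (Fin 3) R)
    (hq : q.IsHomogeneous 2) (hqj : IsUnit (q.coeff (Finsupp.single j 2))) (n : ℕ)
    (S : Submodule R (MvPolynomial (Fin 3) R))
    (h1 : ∀ m : Fin 3 →₀ ℕ, m.degree = n → m j < 2 → monomial m (1 : R) ∈ S)
    (h2 : ∀ m : Fin 3 →₀ ℕ, m.degree + 2 = n → q * monomial m (1 : R) ∈ S) :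
    ∀ (e : ℕ) (m : Fin 3 →₀ ℕ), m j = e → m.degree = n → monomial m (1 : R) ∈ S := by
  classical
  rcases subsingleton_or_nontrivial R with hR | hR
  · intro e m _ _
    have : monomial m (1 : R) = 0 := Subsingleton.elim _ _
    rw [this]; exact S.zero_mem
  intro e
  induction e using Nat.strong_induction_on with
  | _ e ih =>
    intro m hme hmn
    by_cases hlt : m j < 2
    · exact h1 m hmn hlt
    · push Not at hlt
      set m' : Fin 3 →₀ ℕ := m - Finsupp.single j 2 with hm'
      have hle : Finsupp.single j 2 ≤ m := by
        intro i
        rw [Finsupp.single_apply]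
        split_ifs with hij
        · subst hij; exact hlt
        · exact Nat.zero_le _
      have hmm' : Finsupp.single j 2 + m' = m := add_tsub_cancel_of_le hle
      have hdeg' : m'.degree + 2 = n := by
        rw [← hmn, ← hmm', map_add, Finsupp.degree_single, add_comm]
      have hqm := h2 m' hdeg'
      have hsum : q * monomial m' (1 : R) = ∑ s ∈ q.support, monomial (s + m') (q.coeff s) := by
        conv_lhs => rw [q.as_sum, Finset.sum_mul]
        apply Finset.sum_congr rfl
        intro s _
        rw [monomial_mul, mul_one]
      have hmem : Finsupp.single j 2 ∈ q.support :=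
        MvPolynomial.mem_support_iff.mpr hqj.ne_zero
      rw [← Finset.add_sum_erase _ _ hmem, hmm'] at hsum
      have hrest : ∑ s ∈ q.support.erase (Finsupp.single j 2), monomial (s + m') (q.coeff s) ∈ S := by
        apply S.sum_mem
        intro s hs
        rw [Finset.mem_erase] at hs
        have hsdeg : s.degree = 2 := by
          by_contra hd
          exact (MvPolynomial.mem_support_iff.mp hs.2) (hq.coeff_eq_zero hd)
        have hsj : s j < 2 := by
          by_contra hge
          push Not at hge
          exact hs.1 (eq_single_of_degree hsdeg hge)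
        have hmj : m' j + 2 = m j := by
          have := congrArg (fun f => f j) hmm'
          simp at this
          omega
        have hmem' : monomial (s + m') (1 : R) ∈ S := by
          apply ih ((s + m') j) _ (s + m') rfl
          · rw [map_add, hsdeg, ← hdeg', add_comm]
          · rw [← hme, Finsupp.add_apply]; omega
        have : monomial (s + m') (q.coeff s) = q.coeff s • monomial (s + m') (1 : R) := by
          rw [smul_monomial, smul_eq_mul, mul_one]
        rw [this]
        exact S.smul_mem _ hmem'
      have hu : monomial m (q.coeff (Finsupp.single j 2)) ∈ S := by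
        have : monomial m (q.coeff (Finsupp.single j 2)) =
            q * monomial m' (1 : R) -
              ∑ s ∈ q.support.erase (Finsupp.single j 2), monomial (s + m') (q.coeff s) := by
          rw [hsum]; ring
        rw [this]
        exact S.sub_mem hqm hrest
      obtain ⟨u, hu'⟩ := hqj
      have : monomial m (1 : R) = (↑u⁻¹ : R) • monomial m (q.coeff (Finsupp.single j 2)) := by
        rw [smul_monomial, smul_eq_mul, ← hu', Units.inv_mul]
      rw [this]
      exact S.smul_mem _ hu

/-- Let R be a commutative ring, j ∈ {0, 1, 2}, q a homogeneous polynomial of degree 2 in R[X_0, X_1,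
X_2] whose coefficient of X_j^2 is a unit, and n a natural number. Then the family consisting of the
monomials of degree n not divisible by X_j^2 (exponent of X_j at most 1) together with the products
q · m, m running over the monomials of degree n − 2 (indexed by exponents m with |m| + 2 = n), is
linearly independent over R and spans exactly the homogeneous polynomials of degree n; in particular
it is a basis of that module and the two parts are disjoint. (The published lemma is stated over a
field with the coefficient nonzero, the special case of a field R here; the version over a ring with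
the coefficient invertible is what its change-of-basis argument gives — ordering monomials by
decreasing exponent of X_j makes the matrix triangular with diagonal entries 1 and that coefficient
— and is the form used to trivialise the bundle of degree-n forms modulo multiples of q over the
locus where the coefficient is invertible. The published lemma also allows an arbitrary monomial of
degree 2 in place of X_j^2; for the mixed monomial X_1X_2, the form q = X_1^2 + X_1X_2 + X_2^2 and n
= 3 give the linear relation q·X_1 − q·X_2 = X_1^3 − X_2^3 among members of the family, so the claim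
fails there and is stated here for the square of a variable.) -/
theorem result
    (R : Type u) [CommRing R] (j : Fin 3) (q : MvPolynomial (Fin 3) R)
    (hq : q.IsHomogeneous 2) (hqj : IsUnit (q.coeff (Finsupp.single j 2))) (n : ℕ) :
    LinearIndependent R (Sum.elim (fun m : {m : Fin 3 →₀ ℕ // m.degree = n ∧ m j < 2} => MvPolynomial.monomial m.1 (1 : R)) (fun m : {m : Fin 3 →₀ ℕ // m.degree + 2 = n} => q * MvPolynomial.monomial m.1 (1 : R))) ∧
      Submodule.span R (Set.range (Sum.elim (fun m : {m : Fin 3 →₀ ℕ // m.degree = n ∧ m j < 2} => MvPolynomial.monomial m.1 (1 : R)) (fun m : {m : Fin 3 →₀ ℕ // m.degree + 2 = n} => q * MvPolynomial.monomial m.1 (1 : R)))) = MvPolynomial.homogeneousSubmodule (Fin 3) R n := by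
  classical
  set v₁ : {m : Fin 3 →₀ ℕ // m.degree = n ∧ m j < 2} → MvPolynomial (Fin 3) R :=
    fun m => MvPolynomial.monomial m.1 (1 : R) with hv₁
  set v₂ : {m : Fin 3 →₀ ℕ // m.degree + 2 = n} → MvPolynomial (Fin 3) R :=
    fun m => q * MvPolynomial.monomial m.1 (1 : R) with hv₂
  -- M₁: polynomials with no monomial of `j`-exponent ≥ 2
  let M₁ : Submodule R (MvPolynomial (Fin 3) R) :=
    { carrier := {p | ∀ m : Fin 3 →₀ ℕ, 2 ≤ m j → p.coeff m = 0}
      zero_mem' := by intro m _; simp
      add_mem' := by
        intro p p' hp hp' m hm
        rw [MvPolynomial.coeff_add, hp m hm, hp' m hm, add_zero]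
      smul_mem' := by
        intro c p hp m hm
        rw [MvPolynomial.coeff_smul, hp m hm, smul_zero] }
  have hM₁ : ∀ p, p ∈ M₁ ↔ ∀ m : Fin 3 →₀ ℕ, 2 ≤ m j → p.coeff m = 0 := fun p => Iff.rfl
  have hv₁M : Submodule.span R (Set.range v₁) ≤ M₁ := by
    rw [Submodule.span_le]
    rintro _ ⟨m, rfl⟩
    rw [SetLike.mem_coe, hM₁]
    intro m' hm'
    rw [hv₁]
    dsimp only
    rw [MvPolynomial.coeff_monomial, if_neg]
    intro h
    rw [← h] at hm'
    have := m.2.2
    omega
  have hv₂M : Submodule.span R (Set.range v₂) ≤ LinearMap.range (LinearMap.mulLeft R q) := by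
    rw [Submodule.span_le]
    rintro _ ⟨m, rfl⟩
    exact ⟨MvPolynomial.monomial m.1 (1 : R), rfl⟩
  have hker : LinearMap.ker (LinearMap.mulLeft R q) = ⊥ := by
    rw [LinearMap.ker_eq_bot']
    intro g hg
    apply key R j q hq hqj g
    intro m _
    rw [LinearMap.mulLeft_apply] at hg
    rw [hg, MvPolynomial.coeff_zero]
  have hbasis : LinearIndependent R (fun m : Fin 3 →₀ ℕ => MvPolynomial.monomial m (1 : R)) := by
    have := (MvPolynomial.basisMonomials (Fin 3) R).linearIndependent
    rwa [MvPolynomial.coe_basisMonomials] at this
  refine ⟨?_, ?_⟩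
  · apply LinearIndependent.sum_type
    · exact hbasis.comp (fun m : {m : Fin 3 →₀ ℕ // m.degree = n ∧ m j < 2} => m.1)
        Subtype.val_injective
    · have h2 := (hbasis.comp (fun m : {m : Fin 3 →₀ ℕ // m.degree + 2 = n} => m.1)
        Subtype.val_injective).map' (LinearMap.mulLeft R q) hker
      exact h2
    · rw [Submodule.disjoint_def]
      intro x hx1 hx2
      obtain ⟨g, rfl⟩ := hv₂M hx2
      have hx1' := hv₁M hx1
      rw [hM₁] at hx1'
      have : g = 0 := key R j q hq hqj g hx1'
      rw [this, map_zero]
  · apply le_antisymm
    · rw [Submodule.span_le]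
      rintro _ ⟨m | m, rfl⟩
      · exact MvPolynomial.isHomogeneous_monomial _ m.2.1
      · have h1 : (MvPolynomial.monomial m.1 (1 : R)).IsHomogeneous m.1.degree :=
          MvPolynomial.isHomogeneous_monomial _ rfl
        have h2 := hq.mul h1
        rw [add_comm, m.2] at h2
        exact h2
    · intro p hp
      rw [MvPolynomial.mem_homogeneousSubmodule] at hp
      rw [p.as_sum]
      apply Submodule.sum_mem
      intro m hm
      have hmdeg : m.degree = n := by
        by_contra hd
        exact (MvPolynomial.mem_support_iff.mp hm) (hp.coeff_eq_zero hd)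
      have h1 := span_part R j q hq hqj n
        (Submodule.span R (Set.range (Sum.elim v₁ v₂)))
        (fun m hm1 hm2 => Submodule.subset_span ⟨Sum.inl ⟨m, hm1, hm2⟩, rfl⟩)
        (fun m hm1 => Submodule.subset_span ⟨Sum.inr ⟨m, hm1⟩, rfl⟩) (m j) m rfl hmdeg
      have : MvPolynomial.monomial m (p.coeff m) = p.coeff m • MvPolynomial.monomial m (1 : R) := by
        rw [MvPolynomial.smul_monomial, smul_eq_mul, mul_one]
      rw [this]
      exact Submodule.smul_mem _ _ h1

end Groth.Agent.S18994
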