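import Groth.Statements.S18999
import Groth.Agent.Lib.Lead.RR.SurfDual
import Groth.Agent.Lib.Lead.QC.TensorPow
import Groth.Agent.Lib.Lead.QC.FreeData
import Groth.Agent.Lib.Helper6.GorSch
import Groth.Agent.Lib.Helper6.LDLoc4
import Groth.Agent.Lib.Helper7.GorEt
import Groth.Agent.Lib.Helper9.Misc.WeilCohC

set_option autoImplicit false
universe u
open CategoryTheory CategoryTheory.Limits AlgebraicGeometry
open Surf

namespace Groth.Agent.S18999

/-- Let k be a field and X an integral scheme of dimension two admitting a closed immersion into some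
P^n_k over k, such that X → Spec k is a local complete intersection morphism. Let (ω, t) be a
dualizing sheaf for X — ω coherent, t a k-linear form on H^2(X, ω), such that for every coherent F
and every k-linear form ψ on H^2(X, F) there is exactly one φ : F → ω with ψ = t ∘ H^2(φ) — and
assume ω invertible (as it is, X being Gorenstein). Then for every invertible O_X-module L one has
2χ(L) = (L·L) − (L·ω) + 2χ(O_X), where (A·B) = χ(O_X) − χ(A) − χ(B) + χ(A ⊗ B) is the intersection
number (packaged as FGA.intNum) and all dimensions are over k. (The published statement is for a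
proper two-dimensional variety of local complete intersection over k, with Euler characteristics
over the field of global functions; this row assumes X projective over k and counts dimensions over
k, which multiplies both sides by the same degree.) -/
theorem result (k : Type u) [Field k] (X : Scheme.{u}) [X.Over (Spec (CommRingCat.of k))]
    [IsIntegral X] (hdim : topologicalKrullDim X = 2)
    (hproj : ∃ (n : ℕ) (ι : X ⟶ CohB1.ProjSpace n k), IsClosedImmersion ι ∧ ι ≫ CohB1.ProjSpace.toSpec n k = (X ↘ (Spec (CommRingCat.of k))))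
    (hlci : Dual3.IsLCIMor (X ↘ (Spec (CommRingCat.of k))))
    (ω : X.Modules) (hωcoh : Coh.IsCoh ω) (hωinv : PicF.IsInvertible ω) (t : Coh.HH X ω 2 →ₗ[k] k)
    (hdual : ∀ F : X.Modules, Coh.IsCoh F → ∀ ψ : Coh.HH X F 2 →ₗ[k] k,
        ∃! φ : F ⟶ ω, ∀ x : Coh.HH X F 2,
          ψ x = t (Sheaf.H.map ((SheafOfModules.toSheaf X.ringCatSheaf).map φ) 2 x))
    (L : X.Modules) (hL : PicF.IsInvertible L) :
    2 * Curv2.euler k X L = FGA.intNum k X 2 ![L, L] (Coh.structureModule X) - FGA.intNum k X 2 ![L, ω] (Coh.structureModule X) + 2 * Curv2.euler k X (Coh.structureModule X) := by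
  classical
  have hGk : Dual3.IsGorenstein (Spec (CommRingCat.of k)) :=
    ⟨inferInstance, fun y => Groth.Agent.H7.GorEt.gor_of_isField
      (Groth.Agent.H9.WeilC.isField_stalk_spec k y)⟩
  have hGX : Dual3.IsGorenstein X :=
    Groth.Agent.H6.GorSch.main3623 X _ (X ↘ (Spec (CommRingCat.of k))) hlci hGk
  have hCM : ∀ x : X, LocCoh.IsCohenMacaulayLocalRing (X.presheaf.stalk x) := fun x => by
    haveI := hGX.2 x
    exact { supportDim_eq_depth := Groth.Agent.H6.LDL.gor_cm }
  obtain ⟨N, ι, hcl, hι⟩ := hproj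
  let ι' : X ⟶ Proj (CohB1.polyGrading N k) := ι
  haveI : IsClosedImmersion ι' := hcl
  haveI : IsProper (X ↘ Spec (CommRingCat.of k)) := by
    rw [← hι]
    let q : Proj (CohB1.polyGrading N k) ⟶ Spec (CommRingCat.of k) := CohB1.ProjSpace.toSpec N k
    haveI : IsProper q := Groth.Agent.H5.AG.isProper_toSpec N k
    exact (inferInstance : IsProper (ι' ≫ q))
  have hd2 : topologicalKrullDim X = ((2 : ℕ) : WithBot ℕ∞) := by
    rw [hdim]
    norm_cast
  have heq : ∀ Z : Set X, Z ∈ irreducibleComponents X →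
      topologicalKrullDim Z = ((2 : ℕ) : WithBot ℕ∞) := by
    intro Z hZ
    rw [irreducibleComponents_eq_singleton, Set.mem_singleton_iff] at hZ
    subst hZ
    rw [← hd2]
    exact (Homeomorph.Set.univ X).isHomeomorph.topologicalKrullDim_eq _
  obtain ⟨L', hL', ⟨e⟩⟩ := Groth.Agent.H5.Glue.exists_inverse L hL
  have e' : CohB1.tensorMod L' L ≅ Groth.Agent.LD.QC.unitMod X :=
    Groth.Agent.LD.QC.tensorCommAll L' L ≪≫ e
  have eO : CohB1.tensorMod (Groth.Agent.LD.QC.unitMod X) (Groth.Agent.LD.QC.unitMod X) ≅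
      Groth.Agent.LD.QC.unitMod X := SecTwist.unitorR _
  have hOinv : PicF.IsInvertible (Groth.Agent.LD.QC.unitMod X) :=
    Groth.Agent.LD.QC.isInvertible_unit X
  have D := fun (A A' : X.Modules) (hA' : PicF.IsInvertible A')
      (eA : CohB1.tensorMod A' A ≅ Groth.Agent.LD.QC.unitMod X) (j q : ℕ) (hjq : j + q = 2) =>
    Groth.Agent.LD.RRS.finrank_HH_eq N k ι' hι 2 hCM heq ω hωcoh t (fun F hF => hdual F hF)
      A A' hA' eA j q hjq
  have hw : FGA.eulerCharLE k X (CohB1.tensorMod ω (Coh.structureModule X)) 2 =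
      FGA.eulerCharLE k X (Coh.structureModule X) 2 :=
    (Groth.Agent.LD.RRS.eulerCharLE_two_eq k _ _ (D _ _ hOinv eO 0 2 rfl) (D _ _ hOinv eO 1 1 rfl)
      (D _ _ hOinv eO 2 0 rfl)).symm
  have hv : FGA.eulerCharLE k X (CohB1.tensorMod ω L) 2 = FGA.eulerCharLE k X L' 2 :=
    (Groth.Agent.LD.RRS.eulerCharLE_two_eq k _ _ (D L L' hL' e' 0 2 rfl) (D L L' hL' e' 1 1 rfl)
      (D L L' hL' e' 2 0 rfl)).symm
  exact Groth.Agent.LD.RRS.rr_num k hd2.le ω L L' hωcoh hL hL' e hw hv

end Groth.Agent.S18999
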