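import Groth.Statements.S19006
-- import your own Groth.Agent.* helpers here

set_option autoImplicit false
universe u v w x
open RootD

namespace Groth.Agent.S19006

/-- For a root pairing over an integral domain of characteristic zero, a quadratic form Q on the
coweight module N with polar form B, and a root α with coroot α^∨, the form Q is invariant under the
reflection attached to α acting on N if and only if B(y, α^∨) = ⟨α, y⟩ Q(α^∨) for all y in N. (The
source states this for integer-valued forms on the cocharacter lattice of a split reductive group;
here the form takes values in the base ring of the pairing.) -/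
theorem result {ι : Type u} {R : Type v} {M : Type w} {N : Type x} [CommRing R] [IsDomain R] [CharZero R]
    [AddCommGroup M] [Module R M] [AddCommGroup N] [Module R N] (P : RootPairing ι R M N)
    (Q : QuadraticMap R N R) (j : ι) :
    (∀ y : N, Q (P.coreflection j y) = Q y) ↔
      ∀ y : N, QuadraticMap.polar Q y (P.coroot j) = P.root' j y * Q (P.coroot j) := by
  have key : ∀ y : N, Q (P.coreflection j y) =
      Q y + P.root' j y * P.root' j y * Q (P.coroot j) - P.root' j y * QuadraticMap.polar Q y (P.coroot j) := by
    intro y
    rw [P.coreflection_apply]
    have h1 : y - P.root' j y • P.coroot j = y + (-(P.root' j y)) • P.coroot j := by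
      rw [neg_smul, sub_eq_add_neg]
    rw [h1]
    have h2 := QuadraticMap.polar_smul_right Q (-(P.root' j y)) y (P.coroot j)
    rw [QuadraticMap.polar] at h2
    rw [QuadraticMap.map_smul] at h2
    simp only [smul_eq_mul] at h2
    linear_combination h2
  constructor
  · intro h y
    have hself : QuadraticMap.polar Q (P.coroot j) (P.coroot j) = 2 * Q (P.coroot j) := by
      rw [QuadraticMap.polar_self]; simp [two_smul, two_mul]
    by_cases hc : P.root' j y = 0
    · -- use y + coroot
      have h' := h (y + P.coroot j)
      rw [key] at h'
      have hr : P.root' j (y + P.coroot j) = 2 := by
        rw [map_add, hc, zero_add]; exact P.root_coroot_two j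
      rw [hr, QuadraticMap.polar_add_left, hself] at h'
      have h2 : (2 : R) * QuadraticMap.polar Q y (P.coroot j) = 0 := by linear_combination -h'
      have := (mul_eq_zero.mp h2).resolve_left two_ne_zero
      rw [this, hc, zero_mul]
    · have h' := h y
      rw [key] at h'
      have h2 : P.root' j y * (P.root' j y * Q (P.coroot j) - QuadraticMap.polar Q y (P.coroot j)) = 0 := by
        linear_combination h'
      have := (mul_eq_zero.mp h2).resolve_left hc
      linear_combination -this
  · intro h y
    rw [key, h y]; ring

end Groth.Agent.S19006
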