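import Groth.Statements.S19007
-- import your own Groth.Agent.* helpers here

set_option autoImplicit false
universe u v w x
open RootD

namespace Groth.Agent.S19007

/-- Let P be a finite reduced crystallographic root pairing over an integral domain of characteristic
zero, b a base of P (a system of simple roots) and Q a quadratic form on the coweight module with
polar form B. Then Q is invariant under all root reflections (equivalently under the Weyl group) on
the span of the coroots if and only if for all pairs of distinct simple roots α_i ≠ α_j one has
B(α_i^∨, α_j^∨) = ⟨α_j, α_i^∨⟩ Q(α_j^∨). (In the source the form is integer-valued on the lattice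
spanned by the coroots and the condition says that the bilinear form lies in the kernel of the last
map of a three-term complex built from the Bruhat cells of codimension at most two; here the form
takes values in the base ring.) -/
theorem result {ι : Type u} {R : Type v} {M : Type w} {N : Type x} [CommRing R] [IsDomain R] [CharZero R]
    [AddCommGroup M] [Module R M] [AddCommGroup N] [Module R N] (P : RootPairing ι R M N)
    [Finite ι] [P.IsCrystallographic] [P.IsReduced] (b : P.Base) (Q : QuadraticMap R N R) :
    (∀ i : ι, ∀ y ∈ Submodule.span R (Set.range P.coroot), Q (P.coreflection i y) = Q y) ↔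
      ∀ i ∈ b.support, ∀ j ∈ b.support, i ≠ j →
        QuadraticMap.polar Q (P.coroot i) (P.coroot j) = P.pairing j i * Q (P.coroot j) := by
  set D : Submodule R N := Submodule.span R (Set.range P.coroot) with hD
  have hcD : ∀ i, P.coroot i ∈ D := fun i => Submodule.subset_span (Set.mem_range_self i)
  have hsD : ∀ (i : ι) (y : N), y ∈ D → P.coreflection i y ∈ D := by
    intro i y hy
    rw [P.coreflection_apply]
    exact sub_mem hy (Submodule.smul_mem _ _ (hcD i))
  have key : ∀ (j : ι) (y : N), Q (P.coreflection j y) =
      Q y + P.root' j y * P.root' j y * Q (P.coroot j) - P.root' j y * QuadraticMap.polar Q y (P.coroot j) := by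
    intro j y
    rw [P.coreflection_apply]
    have h1 : y - P.root' j y • P.coroot j = y + (-(P.root' j y)) • P.coroot j := by
      rw [neg_smul, sub_eq_add_neg]
    rw [h1]
    have h2 := QuadraticMap.polar_smul_right Q (-(P.root' j y)) y (P.coroot j)
    rw [QuadraticMap.polar] at h2
    rw [QuadraticMap.map_smul] at h2
    simp only [smul_eq_mul] at h2
    linear_combination h2
  have hself : ∀ j, QuadraticMap.polar Q (P.coroot j) (P.coroot j) = 2 * Q (P.coroot j) := by
    intro j
    rw [QuadraticMap.polar_self]; simp [two_smul, two_mul]
  -- local equivalence for a single reflection
  have hloc : ∀ j : ι, (∀ y ∈ D, Q (P.coreflection j y) = Q y) ↔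
      ∀ y ∈ D, QuadraticMap.polar Q y (P.coroot j) = P.root' j y * Q (P.coroot j) := by
    intro j
    constructor
    · intro h y hy
      by_cases hc : P.root' j y = 0
      · have h' := h (y + P.coroot j) (add_mem hy (hcD j))
        rw [key] at h'
        have hr : P.root' j (y + P.coroot j) = 2 := by
          rw [map_add, hc, zero_add]; exact P.root_coroot_two j
        rw [hr, QuadraticMap.polar_add_left, hself] at h'
        have h2 : (2 : R) * QuadraticMap.polar Q y (P.coroot j) = 0 := by linear_combination -h'
        have := (mul_eq_zero.mp h2).resolve_left two_ne_zero
        rw [this, hc, zero_mul]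
      · have h' := h y hy
        rw [key] at h'
        have h2 : P.root' j y * (P.root' j y * Q (P.coroot j) - QuadraticMap.polar Q y (P.coroot j)) = 0 := by
          linear_combination h'
        have := (mul_eq_zero.mp h2).resolve_left hc
        linear_combination -this
    · intro h y hy
      rw [key, h y hy]; ring
  constructor
  · intro h i hi j hj hij
    have := (hloc j).1 (h j) (P.coroot i) (hcD i)
    rw [this]; rfl
  · intro h
    -- simple reflections
    have hsimple : ∀ j ∈ b.support, ∀ y ∈ D, Q (P.coreflection j y) = Q y := by
      intro j hj
      rw [hloc j]
      intro y hy
      have hD' : D = Submodule.span R (P.coroot '' b.support) := by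
        rw [hD, b.span_coroot_support]
      rw [hD'] at hy
      induction hy using Submodule.span_induction with
      | mem y hy =>
        obtain ⟨i, hi, rfl⟩ := hy
        by_cases hij : i = j
        · subst hij
          rw [hself]
          have : P.root' i (P.coroot i) = 2 := P.root_coroot_two i
          rw [this]
        · rw [h i hi j hj hij]; rfl
      | zero => simp [QuadraticMap.polar]
      | add x y _ _ hx hy => rw [QuadraticMap.polar_add_left, hx, hy, map_add]; ring
      | smul c x _ hx => rw [QuadraticMap.polar_smul_left, hx, map_smul]; simp only [smul_eq_mul]; ring
    intro i
    refine b.induction_reflect i (p := fun i => ∀ y ∈ D, Q (P.coreflection i y) = Q y) ?_ hsimple ?_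
    · intro i hi y hy
      have : P.coreflection (P.reflectionPerm i i) y = P.coreflection i y := by
        rw [P.coreflection_apply, P.coreflection_apply]
        have h1 : P.coroot (P.reflectionPerm i i) = -P.coroot i := by
          rw [P.coroot_reflectionPerm, P.coreflection_apply_self]
        have h2 : P.root' (P.reflectionPerm i i) y = -(P.root' i y) := by
          have : P.root (P.reflectionPerm i i) = -P.root i := by
            rw [P.root_reflectionPerm, P.reflection_apply_self]
          simp [RootPairing.root', this]
        rw [h1, h2]; simp
      rw [this]; exact hi y hy
    · intro i j hi hj y hy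
      have : P.coreflection (P.reflectionPerm j i) = P.coreflection j * P.coreflection i * P.coreflection j :=
        P.flip.reflection_reflectionPerm
      rw [this]
      show Q (P.coreflection j (P.coreflection i (P.coreflection j y))) = Q y
      rw [hsimple j hj _ (hsD i _ (hsD j _ hy)), hi _ (hsD j _ hy), hsimple j hj _ hy]

end Groth.Agent.S19007
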