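import Groth.Statements.S19009
import Groth.Agent.S19006

set_option autoImplicit false
universe u v w x
open RootD

namespace Groth.Agent.S19009

/-- Let P be a root pairing over an integral domain R of characteristic zero (roots α acting on the
coweight module N through reflections y ↦ y − ⟨α, y⟩ α^∨), D ⊆ N a submodule containing every coroot
and such that every element of D has a positive integer multiple in the span of the coroots (the
derived part), and Y₀ a complement of D in N. Let Q_d be a quadratic form on N whose restriction to
D is invariant under all root reflections. Then there is a quadratic form on N, invariant under all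
root reflections and agreeing with Q_d on D, if and only if there is an R-bilinear form Φ on N with
Φ(y₀, α^∨) = ⟨α, y₀⟩ Q_d(α^∨) for all y₀ in Y₀ and all roots α. (In the source R = ℤ, N = Y₀ ⊕ Y_der
is the cocharacter lattice of a split reductive group, and the condition is phrased as integrality
on Y₀ × Y_der of the pairing y₀, y ↦ B(q(y₀), y) deduced from the polar form B of Q_d; that pairing
is characterised by the displayed values on coroots, only the values of Φ on Y₀ × D matter, and
forms take values in R here.) -/
theorem result {ι : Type u} {R : Type v} {M : Type w} {N : Type x} [CommRing R] [IsDomain R] [CharZero R]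
    [AddCommGroup M] [Module R M] [AddCommGroup N] [Module R N] (P : RootPairing ι R M N)
    (D Y₀ : Submodule R N) (hD : ∀ i : ι, P.coroot i ∈ D)
    (hDsat : ∀ y ∈ D, ∃ n : ℕ, 0 < n ∧ n • y ∈ Submodule.span R (Set.range P.coroot))
    (hc : IsCompl Y₀ D)
    (Qd : QuadraticMap R N R) (hQd : ∀ i : ι, ∀ y ∈ D, Qd (P.coreflection i y) = Qd y) :
    (∃ Q : QuadraticMap R N R, (∀ (i : ι) (y : N), Q (P.coreflection i y) = Q y) ∧ ∀ y ∈ D, Q y = Qd y) ↔
      ∃ Φ : N →ₗ[R] N →ₗ[R] R, ∀ y₀ ∈ Y₀, ∀ i : ι,
        Φ y₀ (P.coroot i) = P.root' i y₀ * Qd (P.coroot i) := by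
  have key : ∀ (Q : QuadraticMap R N R) (j : ι) (y : N), Q (P.coreflection j y) =
      Q y + P.root' j y * P.root' j y * Q (P.coroot j) - P.root' j y * QuadraticMap.polar Q y (P.coroot j) := by
    intro Q j y
    rw [P.coreflection_apply]
    have h1 : y - P.root' j y • P.coroot j = y + (-(P.root' j y)) • P.coroot j := by
      rw [neg_smul, sub_eq_add_neg]
    rw [h1]
    have h2 := QuadraticMap.polar_smul_right Q (-(P.root' j y)) y (P.coroot j)
    rw [QuadraticMap.polar] at h2
    rw [QuadraticMap.map_smul] at h2
    simp only [smul_eq_mul] at h2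
    linear_combination h2
  have hself : ∀ (Q : QuadraticMap R N R) j, QuadraticMap.polar Q (P.coroot j) (P.coroot j) = 2 * Q (P.coroot j) := by
    intro Q j
    rw [QuadraticMap.polar_self]; simp [two_smul, two_mul]
  have hlocD : ∀ (j : ι) (y : N), y ∈ D →
      QuadraticMap.polar Qd y (P.coroot j) = P.root' j y * Qd (P.coroot j) := by
    intro j y hy
    by_cases hcz : P.root' j y = 0
    · have h' := hQd j (y + P.coroot j) (add_mem hy (hD j))
      rw [key] at h'
      have hr : P.root' j (y + P.coroot j) = 2 := by
        rw [map_add, hcz, zero_add]; exact P.root_coroot_two j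
      rw [hr, QuadraticMap.polar_add_left, hself] at h'
      have h2 : (2 : R) * QuadraticMap.polar Qd y (P.coroot j) = 0 := by linear_combination -h'
      have := (mul_eq_zero.mp h2).resolve_left two_ne_zero
      rw [this, hcz, zero_mul]
    · have h' := hQd j y hy
      rw [key] at h'
      have h2 : P.root' j y * (P.root' j y * Qd (P.coroot j) - QuadraticMap.polar Qd y (P.coroot j)) = 0 := by
        linear_combination h'
      have := (mul_eq_zero.mp h2).resolve_left hcz
      linear_combination -this
  constructor
  · rintro ⟨Q, hQ, hQD⟩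
    refine ⟨QuadraticMap.polarBilin Q, fun y₀ _ i => ?_⟩
    rw [QuadraticMap.polarBilin_apply_apply, (Groth.Agent.S19006.result P Q i).1 (hQ i), hQD _ (hD i)]
  · rintro ⟨Φ, hΦ⟩
    let π₀ : N →ₗ[R] N := Y₀.projection D hc
    let πD : N →ₗ[R] N := D.projection Y₀ hc.symm
    have hπ₀mem : ∀ y, π₀ y ∈ Y₀ := fun y => by
      show ((Y₀.projectionOnto D hc y : Y₀) : N) ∈ Y₀
      exact Submodule.coe_mem _
    have hπDmem : ∀ y, πD y ∈ D := fun y => by
      show ((D.projectionOnto Y₀ hc.symm y : D) : N) ∈ D
      exact Submodule.coe_mem _
    have hsum : ∀ y, π₀ y + πD y = y := fun y => by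
      have := Submodule.projection_add_projection_eq_self hc y
      exact this
    have hπ₀D : ∀ d ∈ D, π₀ d = 0 := fun d hd => by
      show ((Y₀.projectionOnto D hc d : Y₀) : N) = 0
      rw [(Submodule.projectionOnto_apply_eq_zero_iff hc).2 hd]; rfl
    have hπDD : ∀ d ∈ D, πD d = d := fun d hd => by
      have := hsum d
      rw [hπ₀D d hd, zero_add] at this
      exact this
    let Bil : LinearMap.BilinMap R N R := Φ.compl₁₂ π₀ πD
    refine ⟨Qd.comp πD + Bil.toQuadraticMap, ?_, ?_⟩
    · intro i y
      have hπ₀s : π₀ (P.coreflection i y) = π₀ y := by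
        rw [P.coreflection_apply, map_sub, map_smul, hπ₀D _ (hD i), smul_zero, sub_zero]
      have hπDs : πD (P.coreflection i y) = P.coreflection i (πD y) + (P.root' i (πD y) - P.root' i y) • P.coroot i := by
        rw [P.coreflection_apply, map_sub, map_smul, hπDD _ (hD i), P.coreflection_apply]
        module
      have hc' : P.root' i y = P.root' i (π₀ y) + P.root' i (πD y) := by
        rw [← map_add, hsum]
      simp only [add_apply, QuadraticMap.comp_apply, LinearMap.BilinMap.toQuadraticMap_apply, Bil,
        LinearMap.compl₁₂_apply, hπ₀s]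
      have e1 : πD (P.coreflection i y) = πD y + (-(P.root' i y)) • P.coroot i := by
        rw [P.coreflection_apply, map_sub, map_smul, hπDD _ (hD i)]; module
      rw [e1]
      have h2 := QuadraticMap.polar_smul_right Qd (-(P.root' i y)) (πD y) (P.coroot i)
      rw [QuadraticMap.polar, QuadraticMap.map_smul, hlocD i _ (hπDmem y)] at h2
      simp only [smul_eq_mul] at h2
      have e3 : Φ (π₀ y) (πD y + (-(P.root' i y)) • P.coroot i) =
          Φ (π₀ y) (πD y) - P.root' i y * (P.root' i (π₀ y) * Qd (P.coroot i)) := by
        rw [LinearMap.map_add, LinearMap.map_smul, hΦ _ (hπ₀mem y) i, smul_eq_mul]; ring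
      rw [e3]
      rw [hc'] at h2 ⊢
      linear_combination h2
    · intro y hy
      simp only [add_apply, QuadraticMap.comp_apply, LinearMap.BilinMap.toQuadraticMap_apply, Bil,
        LinearMap.compl₁₂_apply, hπ₀D y hy, hπDD y hy]
      simp

end Groth.Agent.S19009
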