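import Groth.Statements.S19010
import Groth.Agent.S19006

set_option autoImplicit false
universe u v w x
open RootD

namespace Groth.Agent.S19010

/-- Let P be a root pairing over an integral domain R of characteristic zero (roots α acting on the
coweight module N through reflections y ↦ y − ⟨α, y⟩ α^∨), D ⊆ N a submodule containing every coroot
and such that every element of D has a positive integer multiple in the span of the coroots (the
derived part), and Y₀ a complement of D in N. Let Q' be a quadratic form on N invariant under all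
root reflections. Then restriction to Y₀ is a bijection from the set of quadratic forms on N that
are invariant under all root reflections and agree with Q' on D onto the set of all quadratic forms
on Y₀. (In the source R = ℤ and N = Y₀ ⊕ Y_der is the cocharacter lattice of a split reductive
group; forms take values in R here.) -/
theorem result {ι : Type u} {R : Type v} {M : Type w} {N : Type x} [CommRing R] [IsDomain R] [CharZero R]
    [AddCommGroup M] [Module R M] [AddCommGroup N] [Module R N] (P : RootPairing ι R M N)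
    (D Y₀ : Submodule R N) (hD : ∀ i : ι, P.coroot i ∈ D)
    (hDsat : ∀ y ∈ D, ∃ n : ℕ, 0 < n ∧ n • y ∈ Submodule.span R (Set.range P.coroot))
    (hc : IsCompl Y₀ D)
    (Q' : QuadraticMap R N R) (hQ' : ∀ (i : ι) (y : N), Q' (P.coreflection i y) = Q' y) :
    Set.BijOn (fun Q : QuadraticMap R N R => Q.comp Y₀.subtype)
      {Q | (∀ (i : ι) (y : N), Q (P.coreflection i y) = Q y) ∧ ∀ y ∈ D, Q y = Q' y} Set.univ := by
  have hpol : ∀ (Q : QuadraticMap R N R), (∀ (i : ι) (y : N), Q (P.coreflection i y) = Q y) →
      ∀ (j : ι) (y : N), QuadraticMap.polar Q y (P.coroot j) = P.root' j y * Q (P.coroot j) :=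
    fun Q hQ j => (Groth.Agent.S19006.result P Q j).1 (hQ j)
  let π : N →ₗ[R] Y₀ := Submodule.projectionOnto Y₀ D hc
  have hπD : ∀ d ∈ D, π d = 0 := fun d hd =>
    (Submodule.projectionOnto_apply_eq_zero_iff hc).2 hd
  have hπY : ∀ y : Y₀, π (y : N) = y := fun y => Submodule.projectionOnto_apply_left hc y
  refine ⟨fun _ _ => Set.mem_univ _, ?_, ?_⟩
  · -- injectivity
    rintro Q₁ ⟨hQ₁, hQ₁D⟩ Q₂ ⟨hQ₂, hQ₂D⟩ heq
    have heqY : ∀ y ∈ Y₀, Q₁ y = Q₂ y := by
      intro y hy
      have := congrArg (fun Q : QuadraticMap R Y₀ R => Q ⟨y, hy⟩) heq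
      simpa using this
    -- polar forms agree on Y₀ × D
    have hpolD : ∀ (y : N) (d : N), d ∈ D → QuadraticMap.polar Q₁ y d = QuadraticMap.polar Q₂ y d := by
      intro y d hd
      obtain ⟨n, hn, hnd⟩ := hDsat d hd
      have hspan : ∀ z ∈ Submodule.span R (Set.range P.coroot),
          QuadraticMap.polar Q₁ y z = QuadraticMap.polar Q₂ y z := by
        intro z hz
        induction hz using Submodule.span_induction with
        | mem z hz =>
          obtain ⟨i, rfl⟩ := hz
          rw [hpol Q₁ hQ₁, hpol Q₂ hQ₂, hQ₁D _ (hD i), hQ₂D _ (hD i)]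
        | zero => simp [QuadraticMap.polar]
        | add a b _ _ ha hb => rw [QuadraticMap.polar_add_right, QuadraticMap.polar_add_right, ha, hb]
        | smul c a _ ha => rw [QuadraticMap.polar_smul_right, QuadraticMap.polar_smul_right, ha]
      have h1 := hspan _ hnd
      have e : (n • d : N) = (n : R) • d := (Nat.cast_smul_eq_nsmul R n d).symm
      rw [e, QuadraticMap.polar_smul_right, QuadraticMap.polar_smul_right] at h1
      have hn0 : (n : R) ≠ 0 := Nat.cast_ne_zero.mpr hn.ne'
      exact mul_left_cancel₀ hn0 (by simpa using h1)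
    ext y
    obtain ⟨y₀, hy₀, d, hd, rfl⟩ : ∃ y₀ ∈ Y₀, ∃ d ∈ D, y₀ + d = y := by
      have : y ∈ Y₀ ⊔ D := by rw [hc.sup_eq_top]; exact Submodule.mem_top
      obtain ⟨y₀, hy₀, d, hd, h⟩ := Submodule.mem_sup.1 this
      exact ⟨y₀, hy₀, d, hd, h⟩
    have e1 : Q₁ (y₀ + d) = Q₁ y₀ + Q₁ d + QuadraticMap.polar Q₁ y₀ d := by simp [QuadraticMap.polar]
    have e2 : Q₂ (y₀ + d) = Q₂ y₀ + Q₂ d + QuadraticMap.polar Q₂ y₀ d := by simp [QuadraticMap.polar]
    rw [e1, e2, heqY y₀ hy₀, hQ₁D d hd, hQ₂D d hd, hpolD y₀ d hd]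
  · -- surjectivity
    intro q₀ _
    refine ⟨Q' + (q₀ - Q'.comp Y₀.subtype).comp π, ⟨?_, ?_⟩, ?_⟩
    · intro i y
      have hπ : π (P.coreflection i y) = π y := by
        rw [P.coreflection_apply, map_sub, map_smul, hπD _ (hD i), smul_zero, sub_zero]
      simp only [QuadraticMap.add_apply, QuadraticMap.comp_apply, hπ, hQ' i y]
    · intro y hy
      simp only [QuadraticMap.add_apply, QuadraticMap.comp_apply, hπD y hy]
      simp
    · ext y
      simp only [QuadraticMap.comp_apply, QuadraticMap.add_apply, QuadraticMap.sub_apply,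
        Submodule.subtype_apply, hπY]
      ring

end Groth.Agent.S19010
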