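import Groth.Statements.S19012
import Groth.Agent.S19006
import Mathlib.LinearAlgebra.RootSystem.CartanMatrix

set_option autoImplicit false
universe u v w x
open RootD

namespace Groth.Agent.S19012

/-- Let P be a finite reduced crystallographic root pairing over a field of characteristic zero which is
irreducible, and b a base. A quadratic form on the coweight module that is invariant under all root
reflections and vanishes on some simple coroot is zero; in other words an invariant form is
determined by its value on a single simple coroot. (The source proves, component by component of the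
Dynkin diagram, that an invariant integer-valued form on the coroot lattice with prescribed value on
the first simple coroot of each component is unique; here the system is irreducible, the coroots
span the coweight module, and forms take values in the base field.) -/
theorem result {ι : Type u} {K : Type v} {M : Type w} {N : Type x} [Field K] [CharZero K]
    [AddCommGroup M] [Module K M] [AddCommGroup N] [Module K N] (P : RootPairing ι K M N)
    [Finite ι] [P.IsCrystallographic] [P.IsReduced] [P.IsIrreducible] (b : P.Base)
    (Q : QuadraticMap K N K) (hQ : ∀ (i : ι) (y : N), Q (P.coreflection i y) = Q y)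
    (i₀ : ι) (hi₀ : i₀ ∈ b.support) (h0 : Q (P.coroot i₀) = 0) : Q = 0 := by
  have _ : Nonempty ι := ⟨i₀⟩
  have hrs : P.IsRootSystem := inferInstance
  -- polar identity from invariance
  have hpol : ∀ (j : ι) (y : N), QuadraticMap.polar Q y (P.coroot j) = P.root' j y * Q (P.coroot j) :=
    fun j => (Groth.Agent.S19006.result P Q j).1 (hQ j)
  -- relation between simple coroots
  have hrel : ∀ i j : ι, P.pairing j i * Q (P.coroot j) = P.pairing i j * Q (P.coroot i) := by
    intro i j
    have h1 := hpol j (P.coroot i)
    have h2 := hpol i (P.coroot j)
    rw [QuadraticMap.polar_comm] at h2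
    have e1 : P.root' j (P.coroot i) = P.pairing j i := rfl
    have e2 : P.root' i (P.coroot j) = P.pairing i j := rfl
    rw [e1] at h1; rw [e2] at h2
    rw [← h1, ← h2]
  have hall : ∀ j : b.support, Q (P.coroot j) = 0 := by
    intro j
    refine b.induction_on_cartanMatrix (fun j : b.support => Q (P.coroot j) = 0)
      (i := ⟨i₀, hi₀⟩) (j := j) h0 ?_
    intro i j hi hne
    have hne' : P.pairing (j : ι) (i : ι) ≠ 0 := by
      intro h
      apply hne
      show P.pairingIn ℤ (j : ι) (i : ι) = 0
      have := P.algebraMap_pairingIn ℤ (j : ι) (i : ι)
      rw [h] at this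
      have h2 : ((P.pairingIn ℤ (j : ι) (i : ι) : ℤ) : K) = 0 := by
        rw [← this]; simp
      exact_mod_cast h2
    have := hrel i j
    rw [hi, mul_zero] at this
    exact (mul_eq_zero.mp this).resolve_left hne'
  -- the submodule where Q and polar vanish
  let S : Submodule K N :=
    { carrier := {y | Q y = 0 ∧ ∀ z, QuadraticMap.polar Q z y = 0}
      zero_mem' := by
        refine ⟨QuadraticMap.map_zero Q, fun z => ?_⟩
        simp [QuadraticMap.polar]
      add_mem' := by
        rintro x y ⟨hx, hx'⟩ ⟨hy, hy'⟩
        refine ⟨?_, fun z => ?_⟩
        · have := hx' y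
          rw [QuadraticMap.polar_comm] at this
          have h2 : Q (x + y) = Q x + Q y + QuadraticMap.polar Q x y := by
            simp [QuadraticMap.polar]
          rw [h2, hx, hy, this]; simp
        · rw [QuadraticMap.polar_add_right, hx', hy', add_zero]
      smul_mem' := by
        rintro c x ⟨hx, hx'⟩
        refine ⟨?_, fun z => ?_⟩
        · rw [QuadraticMap.map_smul, hx, smul_zero]
        · rw [QuadraticMap.polar_smul_right, hx', smul_zero] }
  have hS : S = ⊤ := by
    rw [eq_top_iff, ← RootPairing.IsRootSystem.span_coroot_eq_top (P := P)]
    have h1 : Submodule.span K (Set.range P.coroot) = Submodule.span K (P.coroot '' b.support) := by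
      rw [b.span_coroot_support]
    rw [h1, Submodule.span_le]
    rintro _ ⟨j, hj, rfl⟩
    have hj0 := hall ⟨j, hj⟩
    refine ⟨hj0, fun z => ?_⟩
    rw [hpol j z, hj0, mul_zero]
  ext y
  have : y ∈ S := hS ▸ Submodule.mem_top
  exact this.1

end Groth.Agent.S19012
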