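import Groth.Statements.S19013
import Groth.Agent.Lib.Helper6.MilKPsi

set_option autoImplicit false
universe u v
open MilnorK

namespace Groth.Agent.S19013

/-- Let A ⊆ B be discrete valuation rings, the inclusion being a local homomorphism, with fraction
fields E ⊆ F compatibly, with the induced homomorphism of residue fields κ(A) → κ(B), and with
ramification index e, the natural number such that the maximal ideal of A generates the e-th power
of the maximal ideal of B. Let ∂_A : K_{n+1}(E) → K_n(κ(A)) and ∂_B : K_{n+1}(F) → K_n(κ(B)) be the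
residue maps (tame symbols) on Milnor K-groups. Then for every x in K_{n+1}(E) one has ∂_B(x_F) = e
· (∂_A x)_{κ(B)}, where the subscripts denote the change-of-fields maps along E → F and κ(A) → κ(B).
(The published statement concerns discrete valuations of geometric type on fields finitely generated
over a base field; it is stated here for an arbitrary pair of discrete valuation rings, which is all
the printed computation uses.) -/
theorem result
    (A B : Type u) [CommRing A] [IsDomain A] [IsDiscreteValuationRing A]
    [CommRing B] [IsDomain B] [IsDiscreteValuationRing B] [Algebra A B] [IsLocalHom (algebraMap A B)]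
    (E F : Type v) [Field E] [Field F] [Algebra A E] [IsFractionRing A E] [Algebra B F] [IsFractionRing B F]
    [Algebra E F] [Algebra A F] [IsScalarTower A E F] [IsScalarTower A B F]
    (e : ℕ) (he : Ideal.map (algebraMap A B) (IsLocalRing.maximalIdeal A) = IsLocalRing.maximalIdeal B ^ e)
    (n : ℕ) (dA : MilK.K E (n + 1) →+ MilK.K (IsLocalRing.ResidueField A) n) (hdA : MilK.IsTameSymbol A E n dA)
    (dB : MilK.K F (n + 1) →+ MilK.K (IsLocalRing.ResidueField B) n) (hdB : MilK.IsTameSymbol B F n dB)
    (x : MilK.K E (n + 1)) :
    dB (MilK.map (algebraMap E F) (n + 1) x) =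
      e • MilK.map (IsLocalRing.ResidueField.map (algebraMap A B)) n (dA x) := by
  obtain ⟨ϖA, hϖA⟩ := IsDiscreteValuationRing.exists_irreducible A
  obtain ⟨ϖB, hϖB⟩ := IsDiscreteValuationRing.exists_irreducible B
  -- the uniformizer of `A` is a unit times the `e`-th power of the uniformizer of `B`
  obtain ⟨w, hw⟩ : ∃ w : Bˣ, algebraMap A B ϖA = ϖB ^ e * w := by
    rw [hϖA.maximalIdeal_eq, hϖB.maximalIdeal_eq, Ideal.map_span, Set.image_singleton,
      Ideal.span_singleton_pow, Ideal.span_singleton_eq_span_singleton] at he
    obtain ⟨w, hw⟩ := he.symm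
    exact ⟨w, hw.symm⟩
  set φ : E →+* F := algebraMap E F with hφ
  have hunit : ∀ a : Aˣ, Units.map (φ : E →* F) (MilK.unitToFrac A E a) =
      MilK.unitToFrac B F (Units.map ((algebraMap A B : A →+* B) : A →* B) a) := by
    intro a
    ext
    simp only [Units.coe_map, MonoidHom.coe_coe, Groth.Agent.H6.coe_unitToFrac, hφ]
    rw [← IsScalarTower.algebraMap_apply A E F, IsScalarTower.algebraMap_apply A B F]
  have hP : Units.map (φ : E →* F) (MilK.unitFrac A E ϖA hϖA.ne_zero) =
      MilK.unitFrac B F ϖB hϖB.ne_zero ^ e * MilK.unitToFrac B F w := by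
    ext
    simp only [Units.coe_map, MonoidHom.coe_coe, MilK.coe_unitFrac, Units.val_mul,
      Units.val_pow_eq_pow_val, Groth.Agent.H6.coe_unitToFrac, hφ]
    rw [← IsScalarTower.algebraMap_apply A E F, IsScalarTower.algebraMap_apply A B F, hw, map_mul,
      map_pow]
  have hres : ∀ a : Aˣ, Units.map ((IsLocalRing.ResidueField.map (algebraMap A B) :
      IsLocalRing.ResidueField A →+* IsLocalRing.ResidueField B) :
      IsLocalRing.ResidueField A →* IsLocalRing.ResidueField B) (MilK.unitResidue A a) =
      MilK.unitResidue B (Units.map ((algebraMap A B : A →+* B) : A →* B) a) := by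
    intro a
    ext
    rfl
  set f : MilK.K E (n + 1) →+ MilK.K (IsLocalRing.ResidueField B) n :=
    dB.comp (MilK.map φ (n + 1)) with hf
  set g : MilK.K E (n + 1) →+ MilK.K (IsLocalRing.ResidueField B) n :=
    e • ((MilK.map (IsLocalRing.ResidueField.map (algebraMap A B)) n).comp dA) with hg
  have hfg : f = g := by
    apply Groth.Agent.H6.tame_hom_ext hϖA
    · intro u
      set v : Fin n → Bˣ := fun i => Units.map ((algebraMap A B : A →+* B) : A →* B) (u i) with hv
      have h1 : f (MilK.symbol (Fin.cons (MilK.unitFrac A E ϖA hϖA.ne_zero)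
          (fun i => MilK.unitToFrac A E (u i)))) =
          dB (MilK.map φ (n + 1) (MilK.symbol (Fin.cons (MilK.unitFrac A E ϖA hϖA.ne_zero)
          (fun i => MilK.unitToFrac A E (u i))))) := rfl
      have h2 : g (MilK.symbol (Fin.cons (MilK.unitFrac A E ϖA hϖA.ne_zero)
          (fun i => MilK.unitToFrac A E (u i)))) =
          e • MilK.map (IsLocalRing.ResidueField.map (algebraMap A B)) n
            (dA (MilK.symbol (Fin.cons (MilK.unitFrac A E ϖA hϖA.ne_zero)
          (fun i => MilK.unitToFrac A E (u i))))) := rfl
      rw [h1, h2, hdA ϖA hϖA u, MilK.map_symbol, MilK.map_symbol]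
      have e1 : (fun i => Units.map (φ : E →* F)
          ((Fin.cons (MilK.unitFrac A E ϖA hϖA.ne_zero) (fun i => MilK.unitToFrac A E (u i)) :
            Fin (n + 1) → Eˣ) i)) =
          Function.update (Fin.cons (MilK.unitToFrac B F w) (fun i => MilK.unitToFrac B F (v i)) :
            Fin (n + 1) → Fˣ) 0
            (MilK.unitFrac B F ϖB hϖB.ne_zero ^ e * MilK.unitToFrac B F w) := by
        funext i
        cases i using Fin.cases with
        | zero => simp [hP]
        | succ i => simp [hunit, hv]
      have e2 : (fun i => Units.map ((IsLocalRing.ResidueField.map (algebraMap A B) :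
          IsLocalRing.ResidueField A →+* IsLocalRing.ResidueField B) :
          IsLocalRing.ResidueField A →* IsLocalRing.ResidueField B) (MilK.unitResidue A (u i))) =
          fun i => MilK.unitResidue B (v i) := by
        funext i
        exact hres (u i)
      rw [e1, e2, Groth.Agent.H6.symbol_update_mul, Groth.Agent.H6.symbol_update_pow, map_add,
        map_nsmul, Fin.update_cons_zero, Fin.update_cons_zero, hdB ϖB hϖB v]
      have e3 : (Fin.cons (MilK.unitToFrac B F w) (fun i => MilK.unitToFrac B F (v i)) :
          Fin (n + 1) → Fˣ) = fun i => MilK.unitToFrac B F ((Fin.cons w v : Fin (n + 1) → Bˣ) i) := by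
        funext i
        cases i using Fin.cases <;> simp
      rw [e3, Groth.Agent.H6.IsTameSymbol.unit_symbol hdB, add_zero]
    · intro u
      have h1 : f (MilK.symbol (fun i => MilK.unitToFrac A E (u i))) =
          dB (MilK.map φ (n + 1) (MilK.symbol (fun i => MilK.unitToFrac A E (u i)))) := rfl
      have h2 : g (MilK.symbol (fun i => MilK.unitToFrac A E (u i))) =
          e • MilK.map (IsLocalRing.ResidueField.map (algebraMap A B)) n
            (dA (MilK.symbol (fun i => MilK.unitToFrac A E (u i)))) := rfl
      rw [h1, h2, Groth.Agent.H6.IsTameSymbol.unit_symbol hdA, map_zero, smul_zero, MilK.map_symbol]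
      have e1 : (fun i => Units.map (φ : E →* F) (MilK.unitToFrac A E (u i))) =
          fun i => MilK.unitToFrac B F (Units.map ((algebraMap A B : A →+* B) : A →* B) (u i)) := by
        funext i
        exact hunit (u i)
      rw [e1, Groth.Agent.H6.IsTameSymbol.unit_symbol hdB]
  exact DFunLike.congr_fun hfg x

end Groth.Agent.S19013
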