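import Groth.Statements.S19015
import Groth.Agent.Lib.Helper6.MilKPsi

set_option autoImplicit false
universe u v
open MilnorK

namespace Groth.Agent.S19015

/-- Let B be a discrete valuation ring with fraction field F, residue field κ and uniformizer π, and let
E be a field with a ring homomorphism into B, hence into F and into κ. Let ∂ : K_{n+1}(F) → K_n(κ)
be the residue map (tame symbol) on Milnor K-groups and s^π(ρ) = ∂({−π} · ρ) the specialization map
attached to π. Then s^π(x_F) = x_κ for every x in K_n(E): the product {−π} · x_F in K_{1+n}(F),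
regarded in K_{n+1}(F), has residue the image of x in K_n(κ). (The published statement concerns
discrete valuations of geometric type on fields finitely generated over a base field; it is stated
here for an arbitrary discrete valuation ring, which is all the printed computation uses.) -/
theorem result
    (B : Type u) [CommRing B] [IsDomain B] [IsDiscreteValuationRing B]
    (E F : Type v) [Field E] [Field F] [Algebra B F] [IsFractionRing B F]
    [Algebra E B] [Algebra E F] [IsScalarTower E B F]
    (n : ℕ) (d : MilK.K F (n + 1) →+ MilK.K (IsLocalRing.ResidueField B) n) (hd : MilK.IsTameSymbol B F n d)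
    (ϖ : B) (hϖ : Irreducible ϖ) (x : MilK.K E n) :
    d (MilK.cast F (Nat.add_comm 1 n)
        (MilK.mul F 1 n (MilK.symbol ![-MilK.unitFrac B F ϖ hϖ.ne_zero]) (MilK.map (algebraMap E F) n x))) =
      MilK.map ((IsLocalRing.residue B).comp (algebraMap E B)) n x := by
  set P := MilK.unitFrac B F ϖ hϖ.ne_zero with hP
  refine Groth.Agent.H6.milk_induction (P := fun x => d (MilK.cast F (Nat.add_comm 1 n)
        (MilK.mul F 1 n (MilK.symbol ![-P]) (MilK.map (algebraMap E F) n x))) =
      MilK.map ((IsLocalRing.residue B).comp (algebraMap E B)) n x) x ?_ (by simp) ?_ ?_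
  · intro a
    rw [MilK.map_symbol, MilK.map_symbol]
    set v : Fin n → Bˣ := fun i => Units.map ((algebraMap E B : E →+* B) : E →* B) (a i) with hv
    have e1 : (fun i => Units.map ((algebraMap E F : E →+* F) : E →* F) (a i)) =
        fun i => MilK.unitToFrac B F (v i) := by
      funext i
      ext
      simp [MilK.unitToFrac, IsScalarTower.algebraMap_apply E B F, hv]
    have e2 : (fun i => Units.map (((IsLocalRing.residue B).comp (algebraMap E B) :
        E →+* IsLocalRing.ResidueField B) : E →* IsLocalRing.ResidueField B) (a i)) =
        fun i => MilK.unitResidue B (v i) := by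
      funext i
      ext
      simp [MilK.unitResidue, hv]
    rw [e1, e2, MilK.mul_symbol_symbol, MilK.cast_symbol, Fin.append_left_eq_cons]
    have e3 : (Fin.cons ((![-P] : Fin 1 → Fˣ) 0) (fun i => MilK.unitToFrac B F (v i)) ∘
        Fin.cast (Nat.add_comm 1 n)) ∘ Fin.cast (Nat.add_comm 1 n).symm =
        (Fin.cons (-P) (fun i => MilK.unitToFrac B F (v i)) : Fin (n + 1) → Fˣ) := by
      funext k; simp
    rw [e3]
    have hirr : Irreducible (-ϖ) := by
      have := Groth.Agent.H6.irreducible_mul_unit hϖ (-1)
      simpa using this
    have hneg : -P = MilK.unitFrac B F (-ϖ) hirr.ne_zero := by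
      rw [hP]; exact (Groth.Agent.H6.unitFrac_neg B F ϖ hϖ.ne_zero).symm
    rw [hneg]
    exact hd (-ϖ) hirr v
  · intro a b ha hb
    simp only [map_add, ha, hb]
  · intro a ha
    simp only [map_neg, ha]

end Groth.Agent.S19015
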