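import Groth.Statements.S19016
import Groth.Agent.Lib.Helper6.MilKPsi

set_option autoImplicit false
universe u v
open MilnorK

namespace Groth.Agent.S19016

/-- Let B be a discrete valuation ring with fraction field F and residue field κ, let u be a unit of B
with residue class ū, and let ∂ denote the residue maps (tame symbols) K_{n+1}(F) → K_n(κ) and
K_{n+2}(F) → K_{n+1}(κ) on Milnor K-groups. Then ∂({u} · ρ) = −{ū} · ∂(ρ) for every ρ in K_{n+1}(F),
the products {u} · ρ in K_{1+(n+1)}(F) and {ū} · ∂ρ in K_{1+n}(κ) being regarded in K_{n+2}(F) and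
K_{n+1}(κ). (The published statement concerns discrete valuations of geometric type on fields
finitely generated over a base field; it is stated here for an arbitrary discrete valuation ring,
which is all the printed computation uses.) -/
theorem result
    (B : Type u) [CommRing B] [IsDomain B] [IsDiscreteValuationRing B]
    (F : Type v) [Field F] [Algebra B F] [IsFractionRing B F] (n : ℕ)
    (d : MilK.K F (n + 1) →+ MilK.K (IsLocalRing.ResidueField B) n) (hd : MilK.IsTameSymbol B F n d)
    (d' : MilK.K F (n + 1 + 1) →+ MilK.K (IsLocalRing.ResidueField B) (n + 1))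
    (hd' : MilK.IsTameSymbol B F (n + 1) d')
    (u : Bˣ) (ρ : MilK.K F (n + 1)) :
    d' (MilK.cast F (Nat.add_comm 1 (n + 1)) (MilK.mul F 1 (n + 1) (MilK.symbol ![MilK.unitToFrac B F u]) ρ)) =
      -(MilK.cast (IsLocalRing.ResidueField B) (Nat.add_comm 1 n)
          (MilK.mul (IsLocalRing.ResidueField B) 1 n (MilK.symbol ![MilK.unitResidue B u]) (d ρ))) := by
  obtain ⟨ϖ, hϖ⟩ := IsDiscreteValuationRing.exists_irreducible B
  set κ := IsLocalRing.ResidueField B with hκ
  set f : MilK.K F (n + 1) →+ MilK.K κ (n + 1) :=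
    d'.comp ((MilK.cast F (Nat.add_comm 1 (n + 1))).toAddMonoidHom.comp
      (MilK.mul F 1 (n + 1) (MilK.symbol ![MilK.unitToFrac B F u]))) with hf
  set g : MilK.K F (n + 1) →+ MilK.K κ (n + 1) :=
    -(((MilK.cast κ (Nat.add_comm 1 n)).toAddMonoidHom.comp
      (MilK.mul κ 1 n (MilK.symbol ![MilK.unitResidue B u]))).comp d) with hg
  have hfg : f = g := by
    apply Groth.Agent.H6.tame_hom_ext hϖ
    · intro v
      have h1 : f (MilK.symbol (Fin.cons (MilK.unitFrac B F ϖ hϖ.ne_zero)
          (fun i => MilK.unitToFrac B F (v i)))) =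
          d' (MilK.cast F (Nat.add_comm 1 (n + 1)) (MilK.mul F 1 (n + 1)
            (MilK.symbol ![MilK.unitToFrac B F u]) (MilK.symbol (Fin.cons (MilK.unitFrac B F ϖ hϖ.ne_zero)
          (fun i => MilK.unitToFrac B F (v i)))))) := rfl
      have h2 : g (MilK.symbol (Fin.cons (MilK.unitFrac B F ϖ hϖ.ne_zero)
          (fun i => MilK.unitToFrac B F (v i)))) =
          -(MilK.cast κ (Nat.add_comm 1 n) (MilK.mul κ 1 n (MilK.symbol ![MilK.unitResidue B u])
            (d (MilK.symbol (Fin.cons (MilK.unitFrac B F ϖ hϖ.ne_zero)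
          (fun i => MilK.unitToFrac B F (v i))))))) := rfl
      rw [h1, h2, Groth.Agent.H6.cast_mul_symbol_one, hd ϖ hϖ v, Groth.Agent.H6.cast_mul_symbol_one,
        Groth.Agent.H6.symbol_cons_cons_swap, map_neg]
      have e1 : (Fin.cons (MilK.unitToFrac B F u) (fun i => MilK.unitToFrac B F (v i)) : Fin (n + 1) → Fˣ) =
          fun i => MilK.unitToFrac B F ((Fin.cons u v : Fin (n + 1) → Bˣ) i) := by
        funext i
        cases i using Fin.cases <;> simp
      have e2 : (Fin.cons (MilK.unitResidue B u) (fun i => MilK.unitResidue B (v i)) : Fin (n + 1) → κˣ) =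
          fun i => MilK.unitResidue B ((Fin.cons u v : Fin (n + 1) → Bˣ) i) := by
        funext i
        cases i using Fin.cases <;> simp
      rw [e1, e2, hd' ϖ hϖ (Fin.cons u v)]
    · intro v
      have h1 : f (MilK.symbol (fun i => MilK.unitToFrac B F (v i))) =
          d' (MilK.cast F (Nat.add_comm 1 (n + 1)) (MilK.mul F 1 (n + 1)
            (MilK.symbol ![MilK.unitToFrac B F u]) (MilK.symbol (fun i => MilK.unitToFrac B F (v i))))) := rfl
      have h2 : g (MilK.symbol (fun i => MilK.unitToFrac B F (v i))) =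
          -(MilK.cast κ (Nat.add_comm 1 n) (MilK.mul κ 1 n (MilK.symbol ![MilK.unitResidue B u])
            (d (MilK.symbol (fun i => MilK.unitToFrac B F (v i)))))) := rfl
      rw [h1, h2, Groth.Agent.H6.cast_mul_symbol_one, Groth.Agent.H6.IsTameSymbol.unit_symbol hd v]
      have e1 : (Fin.cons (MilK.unitToFrac B F u) (fun i => MilK.unitToFrac B F (v i)) : Fin (n + 1 + 1) → Fˣ) =
          fun i => MilK.unitToFrac B F ((Fin.cons u v : Fin (n + 1 + 1) → Bˣ) i) := by
        funext i
        cases i using Fin.cases <;> simp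
      rw [e1, Groth.Agent.H6.IsTameSymbol.unit_symbol hd']
      simp
  exact DFunLike.congr_fun hfg ρ

end Groth.Agent.S19016
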