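import Groth.Statements.S19042
import Mathlib
import Groth.Agent.Lib.Helper9.Dieu

set_option autoImplicit false
universe u
open Dieu

namespace Groth.Agent.S19042

/-- Let `k` be a perfect field of characteristic `2` and `c` a natural number, and consider the explicit
`2c`-dimensional `k`-space on `X_1, …, X_c, Y_1, …, Y_c` with its operators `F` and `V` (`F Y_j =
0`; `F X_j = X_{j/2}` for `j` even and `Y_{c-(j-1)/2}` for `j` odd; `V Y_j = Y_{2j}` when `2j ≤ c`,
else `0`; `V X_j = Y_{2c-2j+1}` when `2j > c`, else `0`). The vectors `X_j` with `c < 2j ≤ 2c`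
generate it as a module over `k[F, V]`: a `k`-subspace stable under `F` and `V` containing them is
everything. (Stated over any perfect field of characteristic `2`; the source works over an
algebraically closed one.) -/
theorem result (c : ℕ) (k : Type u) [Field k] [CharP k 2] [PerfectRing k 2]
    (N : Submodule k (W4c6eohyperellchar2.GcMod c k))
    (hF : ∀ v ∈ N, W4c6eohyperellchar2.F c k v ∈ N) (hV : ∀ v ∈ N, W4c6eohyperellchar2.V c k v ∈ N)
    (hX : ∀ j : ℕ, c < 2 * j → j ≤ c → W4c6eohyperellchar2.X c k j ∈ N) : N = ⊤ := by
  open Groth.Agent.H9.Dieu in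
  -- all X_j in N
  have hXall : ∀ (t j : ℕ), c - j = t → 1 ≤ j → j ≤ c → W4c6eohyperellchar2.X c k j ∈ N := by
    intro t
    induction t using Nat.strong_induction_on with
    | _ t ih =>
      intro j ht hj1 hjc
      by_cases h : c < 2 * j
      · exact hX j h hjc
      · have h2 : 2 * j ≤ c := by omega
        have := ih (c - 2 * j) (by omega) (2 * j) rfl (by omega) h2
        have hF' := hF _ this
        rw [F_X_even c k (2 * j) (by omega) h2, Nat.mul_div_cancel_left _ (by norm_num : 0 < 2)] at hF'
        exact hF'
  have hYall : ∀ (m : ℕ), 1 ≤ m → m ≤ c → W4c6eohyperellchar2.Y c k m ∈ N := by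
    intro m
    induction m using Nat.strong_induction_on with
    | _ m ih =>
      intro hm1 hmc
      by_cases hpar : m % 2 = 0
      · have := ih (m / 2) (by omega) (by omega) (by omega)
        have hV' := hV _ this
        rw [V_Y c k, Nat.mul_div_cancel' (Nat.dvd_of_mod_eq_zero hpar)] at hV'
        exact hV'
      · have hj : 1 ≤ c - (m - 1) / 2 ∧ c - (m - 1) / 2 ≤ c := by omega
        have := hXall _ _ rfl hj.1 hj.2
        have hV' := hV _ this
        rw [V_X c k _ hj.1 hj.2] at hV'
        have : 2 * c - 2 * (c - (m - 1) / 2) + 1 = m := by omega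
        rw [this] at hV'
        exact hV'
  rw [eq_top_iff]
  intro v _
  rw [eq_sum c k v]
  apply N.add_mem
  · apply N.sum_mem
    intro i _
    exact N.smul_mem _ (hXall _ _ rfl (by omega) (by have := i.2; omega))
  · apply N.sum_mem
    intro i _
    exact N.smul_mem _ (hYall _ (by omega) (by have := i.2; omega))

end Groth.Agent.S19042
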