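import Groth.Statements.S19043
import Mathlib
import Groth.Agent.Lib.Helper9.Dieu

set_option autoImplicit false
universe u
open Dieu

namespace Groth.Agent.S19043

/-- Let `k` be a perfect field of characteristic `2` and `c` a natural number, and let `M` be the
explicit `2c`-dimensional `k`-space on `X_1, …, X_c, Y_1, …, Y_c` with its operators `F` and `V` (`F
Y_j = 0`; `F X_j = X_{j/2}` for `j` even and `Y_{c-(j-1)/2}` for `j` odd; `V Y_j = Y_{2j}` when `2j
≤ c`, else `0`; `V X_j = Y_{2c-2j+1}` when `2j > c`, else `0`). The classes of the `X_j` with `c <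
2j ≤ 2c` in the quotient of `M` by the `k`-span of `F(M) ∪ V(M)` are linearly independent and span
that quotient. (Stated over any perfect field of characteristic `2`; the source works over an
algebraically closed one.) -/
theorem result (c : ℕ) (k : Type u) [Field k] [CharP k 2] [PerfectRing k 2] :
    LinearIndependent k (fun j : {j : ℕ // c < 2 * j ∧ j ≤ c} =>
        Submodule.mkQ (Submodule.span k (Set.range (W4c6eohyperellchar2.F c k) ∪ Set.range (W4c6eohyperellchar2.V c k))) (W4c6eohyperellchar2.X c k j.1)) ∧
      Submodule.span k (Set.range (fun j : {j : ℕ // c < 2 * j ∧ j ≤ c} =>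
        Submodule.mkQ (Submodule.span k (Set.range (W4c6eohyperellchar2.F c k) ∪ Set.range (W4c6eohyperellchar2.V c k))) (W4c6eohyperellchar2.X c k j.1))) = ⊤ := by
  open Groth.Agent.H9.Dieu in
  classical
  set S : Submodule k (W4c6eohyperellchar2.GcMod c k) :=
    Submodule.span k (Set.range (W4c6eohyperellchar2.F c k) ∪ Set.range (W4c6eohyperellchar2.V c k)) with hS
  -- S' : vanishing X-coordinates in the upper half
  let S' : Submodule k (W4c6eohyperellchar2.GcMod c k) :=
    { carrier := {v | ∀ i : Fin c, c < 2 * (i.val + 1) → v.1 i = 0}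
      zero_mem' := by intro i _; rfl
      add_mem' := by
        intro v w hv hw i hi
        show v.1 i + w.1 i = 0
        rw [hv i hi, hw i hi, add_zero]
      smul_mem' := by
        intro a v hv i hi
        show a * v.1 i = 0
        rw [hv i hi, mul_zero] }
  have hSS' : S ≤ S' := by
    rw [hS, Submodule.span_le]
    rintro _ (⟨v, rfl⟩ | ⟨v, rfl⟩)
    · intro i hi
      show (W4c6eohyperellchar2.coefX v (2 * (i.val + 1))) ^ 2 = 0
      rw [coefX_of_gt c k v _ hi, zero_pow (by norm_num)]
    · intro i _
      rfl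
  have hXS : ∀ j : ℕ, 1 ≤ j → 2 * j ≤ c → W4c6eohyperellchar2.X c k j ∈ S := by
    intro j hj1 hj2
    apply Submodule.subset_span
    left
    refine ⟨W4c6eohyperellchar2.X c k (2 * j), ?_⟩
    rw [F_X_even c k (2 * j) (by omega) hj2, Nat.mul_div_cancel_left _ (by norm_num : 0 < 2)]
  have hYS : ∀ m : ℕ, 1 ≤ m → m ≤ c → W4c6eohyperellchar2.Y c k m ∈ S := by
    intro m hm1 hmc
    apply Submodule.subset_span
    right
    by_cases hpar : m % 2 = 0
    · refine ⟨W4c6eohyperellchar2.Y c k (m / 2), ?_⟩
      rw [V_Y c k, Nat.mul_div_cancel' (Nat.dvd_of_mod_eq_zero hpar)]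
    · have hj : 1 ≤ c - (m - 1) / 2 ∧ c - (m - 1) / 2 ≤ c := by omega
      refine ⟨W4c6eohyperellchar2.X c k (c - (m - 1) / 2), ?_⟩
      rw [V_X c k _ hj.1 hj.2]
      congr 1
      omega
  refine ⟨?_, ?_⟩
  · rw [linearIndependent_iff']
    intro s g hg j₀ hj₀
    have h1 : (∑ j ∈ s, g j • W4c6eohyperellchar2.X c k j.1) ∈ S := by
      rw [← Submodule.Quotient.mk_eq_zero, ← Submodule.mkQ_apply, map_sum]
      rw [← hg]
      apply Finset.sum_congr rfl
      intro j _
      rw [map_smul]
    have h2 := hSS' h1 ⟨j₀.1 - 1, by have := j₀.2; omega⟩ (by have := j₀.2; dsimp only; omega)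
    rw [Prod.fst_sum, Finset.sum_apply, Finset.sum_eq_single j₀] at h2
    · have h3 : (g j₀ • W4c6eohyperellchar2.X c k j₀.1).1 ⟨j₀.1 - 1, by have := j₀.2; omega⟩ = g j₀ := by
        show g j₀ * (if (j₀.1 - 1) + 1 = j₀.1 then 1 else 0) = g j₀
        rw [if_pos (by have := j₀.2; omega), mul_one]
      rw [h3] at h2
      exact h2
    · intro b _ hb
      show g b * (if (j₀.1 - 1) + 1 = b.1 then 1 else 0) = 0
      rw [if_neg, mul_zero]
      intro h
      apply hb
      apply Subtype.ext
      have := j₀.2
      omega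
    · intro h; exact absurd hj₀ h
  · rw [eq_top_iff]
    rintro x -
    obtain ⟨v, rfl⟩ := Submodule.mkQ_surjective S x
    rw [eq_sum c k v, map_add, map_sum, map_sum]
    apply Submodule.add_mem
    · apply Submodule.sum_mem
      intro i _
      rw [map_smul]
      apply Submodule.smul_mem
      by_cases h : c < 2 * (i.val + 1)
      · exact Submodule.subset_span ⟨⟨i.val + 1, h, by have := i.2; omega⟩, rfl⟩
      · have := hXS (i.val + 1) (by omega) (by omega)
        rw [Submodule.mkQ_apply, (Submodule.Quotient.mk_eq_zero S).mpr this]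
        exact Submodule.zero_mem _
    · apply Submodule.sum_mem
      intro i _
      rw [map_smul]
      apply Submodule.smul_mem
      have := hYS (i.val + 1) (by omega) (by have := i.2; omega)
      rw [Submodule.mkQ_apply, (Submodule.Quotient.mk_eq_zero S).mpr this]
      exact Submodule.zero_mem _

end Groth.Agent.S19043
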