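import Groth.Statements.S19045
import Groth.Agent.Lib.Helper7.AE1
-- import your own Groth.Agent.* helpers here

set_option autoImplicit false
universe u v
open FunFld

namespace Groth.Agent.S19045

/-- Let `k` be algebraically closed of characteristic `2` and `K = k(x, y)` with `y² + y = f(x)`, `K`
separable of degree `2` over `k(x)`; let `B ⊆ k` be a finite set containing `0` such that `f` has a
pole of odd order `d_β` at `x = β` for every `β ∈ B` and is integral at all other places of `k(x)`.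
Then `y` is integral at the places of `K` above `x = ∞` and has order `0` at one of them, and for `α
∈ B` and `j ∈ ℤ` the divisor of poles of `y (x - α)^j` consists of: order `max(d_α - 2j, 0)` at the
place above `α`, order exactly `d_β` above every other `β ∈ B`, order `max(j - ord_P y, 0)` at each
place `P` above `∞`, and nothing elsewhere. -/
theorem result (k : Type u) (K : Type v)
    [Field k] [IsAlgClosed k] [CharP k 2] [Field K] [Algebra k K] [Algebra (RatFunc k) K] [IsScalarTower k (RatFunc k) K]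
    (hK : FunFld.IsFunctionField k K) (hdeg : Module.finrank (RatFunc k) K = 2) [Algebra.IsSeparable (RatFunc k) K]
    (y : K) (hy : y ∉ Set.range (algebraMap (RatFunc k) K)) (f : RatFunc k)
    (heq : y ^ 2 + y = algebraMap (RatFunc k) K f)
    (B : Finset k) (h0 : (0 : k) ∈ B) (d : k → ℕ) (hd : ∀ β ∈ B, Odd (d β))
    (hpole : ∀ (p : FunFld.Place k (RatFunc k)) (β : k), β ∈ B →
      p.1 ((RatFunc.X : RatFunc k) - RatFunc.C β) < 1 → p.ord f = -(d β : ℤ))
    (hint : ∀ p : FunFld.Place k (RatFunc k), (∀ β ∈ B, 1 ≤ p.1 ((RatFunc.X : RatFunc k) - RatFunc.C β)) → p.1 f ≤ 1) :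
    (∀ P : FunFld.Place k K, 1 < P.1 (algebraMap (RatFunc k) K RatFunc.X) → 0 ≤ P.ord y) ∧
    (∃ P : FunFld.Place k K, 1 < P.1 (algebraMap (RatFunc k) K RatFunc.X) ∧ P.ord y = 0) ∧
    ∀ (α : k), α ∈ B → ∀ (j : ℤ) (P : FunFld.Place k K),
      (P.1 ((algebraMap (RatFunc k) K RatFunc.X) - (algebraMap k K α)) < 1 →
        max (-(P.ord (y * ((algebraMap (RatFunc k) K RatFunc.X) - (algebraMap k K α)) ^ j))) 0 = max ((d α : ℤ) - 2 * j) 0) ∧
      (∀ β : k, β ∈ B → β ≠ α → P.1 ((algebraMap (RatFunc k) K RatFunc.X) - (algebraMap k K β)) < 1 →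
        P.ord (y * ((algebraMap (RatFunc k) K RatFunc.X) - (algebraMap k K α)) ^ j) = -(d β : ℤ)) ∧
      (1 < P.1 (algebraMap (RatFunc k) K RatFunc.X) → max (-(P.ord (y * ((algebraMap (RatFunc k) K RatFunc.X) - (algebraMap k K α)) ^ j))) 0 = max (j - P.ord y) 0) ∧
      (P.1 (algebraMap (RatFunc k) K RatFunc.X) ≤ 1 → (∀ β : k, β ∈ B → 1 ≤ P.1 ((algebraMap (RatFunc k) K RatFunc.X) - (algebraMap k K β))) → 0 ≤ P.ord (y * ((algebraMap (RatFunc k) K RatFunc.X) - (algebraMap k K α)) ^ j)) := by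
  classical
  haveI := Groth.Agent.H7.QL.finiteDimensional_of_finrank hdeg
  have hF := Groth.Agent.H7.RF.isFunctionField (k := k)
  have hy0 : y ≠ 0 := fun h => hy ⟨0, by rw [map_zero, h]⟩
  refine ⟨?_, ?_, ?_⟩
  · intro P hP
    obtain ⟨p₀, e, he⟩ := FunFld.exists_isOverWith hF.isFF1 P
    have hX : 1 < p₀.1 RatFunc.X := by
      rw [← not_le, ← he.v_le_one_iff]; exact not_le.2 hP
    obtain ⟨-, hyle, -⟩ := Groth.Agent.H7.AE.data_infty hdeg hy heq hint he hX
    exact (P.v_le_one_iff hy0).1 hyle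
  · obtain ⟨Pinf, hinf⟩ := Groth.Agent.H7.RF.exists_pole (k := k)
    obtain ⟨Q, e, he⟩ := Groth.Agent.H7.QL.exists_isOver (K := K) hF Pinf
    have hQX : 1 < Q.1 (algebraMap (RatFunc k) K RatFunc.X) := by
      rw [← not_le, he.v_le_one_iff]; exact not_le.2 hinf
    obtain ⟨-, hyle, -⟩ := Groth.Agent.H7.AE.data_infty hdeg hy heq hint he hinf
    rcases hyle.lt_or_eq with hlt | heq1
    · obtain ⟨σ, hσ⟩ := Groth.Agent.H7.AS.exists_involution_as hdeg hy heq
      refine ⟨Q.conj σ, ?_, ?_⟩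
      · rw [FunFld.Place.conj_apply, σ.commutes]; exact hQX
      · rw [FunFld.Place.ord_conj, hσ]
        have h1 : Q.1 (-1 - y) = 1 := by
          rw [← Valuation.map_neg, neg_sub, sub_neg_eq_add,
            Valuation.map_add_eq_of_lt_right _ (by rw [map_one]; exact hlt), map_one]
        have hne : (-1 - y : K) ≠ 0 := by
          intro h0
          rw [h0, map_zero] at h1
          exact zero_ne_one h1
        exact (Q.v_eq_one_iff hne).1 h1
    · exact ⟨Q, hQX, (Q.v_eq_one_iff hy0).1 heq1⟩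
  · intro α hα j P
    obtain ⟨p₀, e, he⟩ := FunFld.exists_isOverWith hF.isFF1 P
    have hord : P.ord (y * ((algebraMap (RatFunc k) K RatFunc.X) - (algebraMap k K α)) ^ j) =
        P.ord y + j * P.ord (algebraMap (RatFunc k) K ((RatFunc.X : RatFunc k) - RatFunc.C α)) := by
      rw [Groth.Agent.H7.AE.ι_sub, P.ord_mul hy0 (zpow_ne_zero _
        (Groth.Agent.H7.AE.ι_ne_zero (Groth.Agent.H7.AE.sub_C_ne_zero α))), P.ord_zpow]
    refine ⟨?_, ?_, ?_, ?_⟩
    · intro hlt
      rw [Groth.Agent.H7.AE.ι_sub, he.v_lt_one_iff] at hlt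
      obtain ⟨-, -, hyo, ht, -⟩ := Groth.Agent.H7.AE.data_above hdeg heq hd hpole he hα hlt
      rw [hord, hyo, ht]
      congr 1
      ring
    · intro β hβ hne hlt
      rw [Groth.Agent.H7.AE.ι_sub, he.v_lt_one_iff] at hlt
      obtain ⟨-, -, hyo, -, ht⟩ := Groth.Agent.H7.AE.data_above hdeg heq hd hpole he hβ hlt
      rw [hord, hyo, ht α hne.symm]
      ring
    · intro hP
      have hX : 1 < p₀.1 RatFunc.X := by
        rw [← not_le, ← he.v_le_one_iff]; exact not_le.2 hP
      obtain ⟨-, -, ht⟩ := Groth.Agent.H7.AE.data_infty hdeg hy heq hint he hX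
      rw [hord, ht α]
      congr 1
      ring
    · intro hP hB
      have hX : p₀.1 RatFunc.X ≤ 1 := (he.v_le_one_iff _).1 hP
      have hB' : ∀ β ∈ B, 1 ≤ p₀.1 ((RatFunc.X : RatFunc k) - RatFunc.C β) := by
        intro β hβ
        have h1 := hB β hβ
        rw [Groth.Agent.H7.AE.ι_sub] at h1
        by_contra hlt
        rw [not_le, ← he.v_lt_one_iff] at hlt
        exact absurd h1 (not_le.2 hlt)
      obtain ⟨-, hyle, ht⟩ := Groth.Agent.H7.AE.data_other hdeg hy heq hint he hX hB'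
      rw [hord, ht α hα, mul_zero, add_zero]
      exact (P.v_le_one_iff hy0).1 hyle

end Groth.Agent.S19045
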