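import Groth.Statements.S19047
import Groth.Agent.Lib.Helper7.AF1
-- import your own Groth.Agent.* helpers here

set_option autoImplicit false
universe u v
open Classical
open FunFld

namespace Groth.Agent.S19047

/-- Let `k` be algebraically closed of characteristic `2`, `K = k(x, y)` with `y² + y = f(x)` separable
of degree `2` over `k(x)`, `B ⊆ k` a finite set containing `0` with `f` having a pole of odd order
`d_β` at `x = β` for `β ∈ B` and integral elsewhere, `c_β = (d_β - 1)/2`, and `P_β` a place of `K`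
above `x = β`. With `H¹(X, O)` of the smooth projective model written as repartitions modulo `W =
A(0) + K` (everywhere-integral repartitions plus constants) and its Frobenius induced by
componentwise squaring, for `α ∈ B` and `j ≥ 0`: the Frobenius of the class of the repartition
supported at `P_α` with value `y (x - α)^j` is the class of the one with value `y (x - α)^{2j}` when
`2j ≤ c_α`, and is `0` when `2j > c_α`. -/
theorem result (k : Type u) (K : Type v)
    [Field k] [IsAlgClosed k] [CharP k 2] [Field K] [Algebra k K] [Algebra (RatFunc k) K] [IsScalarTower k (RatFunc k) K]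
    (hK : FunFld.IsFunctionField k K) (hdeg : Module.finrank (RatFunc k) K = 2) [Algebra.IsSeparable (RatFunc k) K]
    (y : K) (hy : y ∉ Set.range (algebraMap (RatFunc k) K)) (f : RatFunc k)
    (heq : y ^ 2 + y = algebraMap (RatFunc k) K f)
    (B : Finset k) (h0 : (0 : k) ∈ B) (d : k → ℕ) (hd : ∀ β ∈ B, Odd (d β))
    (hpole : ∀ (p : FunFld.Place k (RatFunc k)) (β : k), β ∈ B →
      p.1 ((RatFunc.X : RatFunc k) - RatFunc.C β) < 1 → p.ord f = -(d β : ℤ))
    (hint : ∀ p : FunFld.Place k (RatFunc k), (∀ β ∈ B, 1 ≤ p.1 ((RatFunc.X : RatFunc k) - RatFunc.C β)) → p.1 f ≤ 1)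
    (Pl : k → FunFld.Place k K) (hPl : ∀ β ∈ B, (Pl β).1 ((algebraMap (RatFunc k) K RatFunc.X) - (algebraMap k K β)) < 1)
    (α : k) (hα : α ∈ B) (j : ℕ) :
    (4 * j + 1 ≤ d α → (Pi.single (Pl α) ((y * ((algebraMap (RatFunc k) K RatFunc.X) - (algebraMap k K α)) ^ j) ^ 2) : FunFld.Place k K → K) - (Pi.single (Pl α) (y * ((algebraMap (RatFunc k) K RatFunc.X) - (algebraMap k K α)) ^ (2 * j)) : FunFld.Place k K → K) ∈ (FunFld.AD (0 : FunFld.Divisor k K) ⊔ LinearMap.range (FunFld.diag k K))) ∧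
    (d α < 4 * j + 1 → (Pi.single (Pl α) ((y * ((algebraMap (RatFunc k) K RatFunc.X) - (algebraMap k K α)) ^ j) ^ 2) : FunFld.Place k K → K) ∈ (FunFld.AD (0 : FunFld.Divisor k K) ⊔ LinearMap.range (FunFld.diag k K))) := by
  haveI := Groth.Agent.H7.QL.finiteDimensional_of_finrank hdeg
  haveI : CharP K 2 := charP_of_injective_algebraMap (algebraMap k K).injective 2
  have hF := Groth.Agent.H7.RF.isFunctionField (k := k)
  obtain ⟨p₀, e, he⟩ := FunFld.exists_isOverWith hF.isFF1 (Pl α)
  have hlt : p₀.1 ((RatFunc.X : RatFunc k) - RatFunc.C α) < 1 := by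
    have h1 := hPl α hα
    rwa [Groth.Agent.H7.AE.ι_sub, he.v_lt_one_iff] at h1
  obtain ⟨he2, hy0, hyo, ht, -⟩ := Groth.Agent.H7.AE.data_above hdeg heq hd hpole he hα hlt
  subst he2
  have huniq : ∀ Q : FunFld.Place k K, FunFld.IsOver Q p₀ → Q = Pl α :=
    (Groth.Agent.H7.QL.unique_of_ramIdx_eq hF ⟨2, he⟩ (by rw [he.ramIdx_eq, hdeg])).2
  have hW : ∀ h : RatFunc k, (Pi.single (Pl α) (algebraMap (RatFunc k) K h) : FunFld.Place k K → K) ∈
      (FunFld.AD (0 : FunFld.Divisor k K) ⊔ LinearMap.range (FunFld.diag k K)) :=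
    fun h => Groth.Agent.H7.AF.single_ι_mem_W ⟨2, he⟩ huniq h
  have hy2 : y ^ 2 = algebraMap (RatFunc k) K f + y := by
    have h1 : y ^ 2 = algebraMap (RatFunc k) K f - y := by rw [← heq]; ring
    rw [h1, sub_eq_add_neg, CharTwo.neg_eq]
  have hkey : (y * ((algebraMap (RatFunc k) K RatFunc.X) - (algebraMap k K α)) ^ j) ^ 2 =
      y * ((algebraMap (RatFunc k) K RatFunc.X) - (algebraMap k K α)) ^ (2 * j) +
      algebraMap (RatFunc k) K (f * ((RatFunc.X : RatFunc k) - RatFunc.C α) ^ (2 * j)) := by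
    rw [mul_pow, hy2, ← pow_mul, mul_comm j 2, map_mul, map_pow, ← Groth.Agent.H7.AE.ι_sub]
    ring
  constructor
  · intro _
    rw [← Pi.single_sub, hkey, add_sub_cancel_left]
    exact hW _
  · intro hdj
    rw [hkey, Pi.single_add]
    refine Submodule.add_mem _ (Submodule.mem_sup_left ?_) (hW _)
    intro Q
    rw [Finsupp.zero_apply, WithZero.exp_zero, Pi.single_apply]
    split_ifs with hQ
    · subst hQ
      have hne : y * ((algebraMap (RatFunc k) K RatFunc.X) - (algebraMap k K α)) ^ (2 * j) ≠ 0 := by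
        rw [Groth.Agent.H7.AE.ι_sub]
        exact mul_ne_zero hy0 (pow_ne_zero _
          (Groth.Agent.H7.AE.ι_ne_zero (Groth.Agent.H7.AE.sub_C_ne_zero α)))
      rw [(Pl α).v_le_one_iff hne, Groth.Agent.H7.AE.ι_sub, (Pl α).ord_mul hy0 (pow_ne_zero _
        (Groth.Agent.H7.AE.ι_ne_zero (Groth.Agent.H7.AE.sub_C_ne_zero α))), (Pl α).ord_pow, hyo, ht]
      push_cast
      have : (d α : ℤ) < 4 * j + 1 := by exact_mod_cast hdj
      linarith
    · rw [map_zero]
      exact zero_le_one

end Groth.Agent.S19047
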