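import Groth.Statements.S19130
import Groth.Agent.Lib.Helper2.NormConstA
import Groth.Agent.Lib.Helper2.NormConstB
import Groth.Agent.Lib.Helper2.GeoPushC

set_option autoImplicit false
universe u
open CategoryTheory CategoryTheory.Limits AlgebraicGeometry Opposite
open EtCoh

namespace Groth.Agent.S19130

/-- Let p be a prime and Y an integral scheme which is normal (every local ring is integrally closed in
its fraction field) and whose function field is algebraically closed. Then the étale cohomology of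
the constant sheaf Z/p on Y is Z/p in degree 0 and vanishes in positive degrees: H^0(Y_et, Z/p) has
exactly p elements and H^i(Y_et, Z/p) = 0 for i > 0. Moreover, for every nonempty open subscheme j :
U → Y, the unit morphism from the constant sheaf Z/p on Y_et to j_* of its restriction to U is an
isomorphism. -/
theorem result
    (p : ℕ) [Fact p.Prime] (Y : Scheme.{u}) [IsIntegral Y]
    (hnorm : ∀ y : Y, IsIntegrallyClosed (Y.presheaf.stalk y)) [IsAlgClosed Y.functionField] :
    Nat.card (EtCoh.H Y (EtCoh.const Y (ZMod p)) 0) = p ∧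
      (∀ i : ℕ, 0 < i → Subsingleton (EtCoh.H Y (EtCoh.const Y (ZMod p)) i)) ∧
      ∀ U : Y.Opens, (U : Set Y).Nonempty →
        IsIso ((EtCoh.pullPushAdj U.ι).unit.app (EtCoh.const Y (ZMod p))) := by
  have hX : ∀ y : Y, IsDomain (Y.presheaf.stalk y) ∧ IsIntegrallyClosed (Y.presheaf.stalk y) :=
    fun y => ⟨inferInstance, hnorm y⟩
  have hG : Groth.Agent.H2.GeoPush.Pointlike (Spec (Y.presheaf.stalk (genericPoint Y))) :=
    Groth.Agent.H2.GeoPush.pointlike_spec Y.functionField
  have hiso : IsIso ((EtCoh.pullPushAdj (Y.fromSpecStalk (genericPoint Y))).unit.app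
      (EtCoh.const Y (ZMod p))) := by
    refine Groth.Agent.H2.NormConst.isIso_unit_generic hX
      (Y.fromSpecStalk (genericPoint Y)) ?_ (AddCommGrpCat.of (ULift.{u + 1} (ZMod p)))
    rw [Scheme.range_fromSpecStalk]
    ext y
    simp only [Set.mem_setOf_eq, Set.mem_singleton_iff]
    constructor
    · intro hy
      exact (hy.antisymm (genericPoint_specializes y)).eq
    · rintro rfl
      exact specializes_rfl
  refine ⟨?_, ?_, ?_⟩
  · have e0 := Sheaf.H.equiv₀ (EtCoh.const Y (ZMod p)) (EtCore.topIsTerminal Y)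
    have hfn := (Groth.Agent.H2.LCModel.lcAb (Groth.Agent.H2.LCModel.etReal Y)
      (AddCommGrpCat.of (ULift.{u + 1} (ZMod p)))).fn_bijective (EtCoh.top Y)
    have hc : Function.Bijective
        (LocallyConstant.const (↥Y) : ULift.{u + 1} (ZMod p) → LocallyConstant (↥Y) (ULift.{u + 1} (ZMod p))) := by
      constructor
      · intro a b hab
        have := congrArg (fun f : LocallyConstant (↥Y) (ULift.{u + 1} (ZMod p)) => f (genericPoint Y)) hab
        exact this
      · intro f
        obtain ⟨y, hy⟩ := LocallyConstant.exists_eq_const f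
        exact ⟨y, hy.symm⟩
    have e1 : LocallyConstant (↥Y) (ULift.{u + 1} (ZMod p)) ≃ ULift.{u + 1} (ZMod p) :=
      (Equiv.ofBijective _ hc).symm
    have e2 : ↑((EtCoh.const Y (ZMod p)).obj.obj (op (EtCoh.top Y))) ≃
        LocallyConstant (↥Y) (ULift.{u + 1} (ZMod p)) := Equiv.ofBijective _ hfn
    rw [Nat.card_congr e0.toEquiv, Nat.card_congr e2, Nat.card_congr e1,
      Nat.card_congr Equiv.ulift, Nat.card_zmod]
  · intro i hi
    obtain ⟨n, rfl⟩ : ∃ n, i = n + 1 := ⟨i - 1, by omega⟩
    have hsub := Groth.Agent.H2.GeoPush.subsingleton_H_push_succ hG (Y.fromSpecStalk (genericPoint Y))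
      ((EtCoh.pull (Y.fromSpecStalk (genericPoint Y))).obj (EtCoh.const Y (ZMod p))) n
    exact Groth.Agent.H2.GeoPush.subsingleton_H_of_iso
      (F' := (EtCoh.push (Y.fromSpecStalk (genericPoint Y))).obj
        ((EtCoh.pull (Y.fromSpecStalk (genericPoint Y))).obj (EtCoh.const Y (ZMod p))))
      (asIso ((EtCoh.pullPushAdj (Y.fromSpecStalk (genericPoint Y))).unit.app
        (EtCoh.const Y (ZMod p)))) (n + 1) (h := hsub)
  · intro U hU
    apply Groth.Agent.H2.NormConst.isIso_unit_of_normal hX U.ι _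
      (AddCommGrpCat.of (ULift.{u + 1} (ZMod p)))
    intro x
    obtain ⟨_, ⟨W, hW : IsAffineOpen W, rfl⟩, hxW, -⟩ :=
      Y.isBasis_affineOpens.exists_subset_of_mem_open (Set.mem_univ x) isOpen_univ
    have hne : ((W : Set Y) ∩ (U : Set Y)).Nonempty :=
      nonempty_preirreducible_inter W.isOpen U.isOpen ⟨x, hxW⟩ hU
    obtain ⟨z, hzW, hzU⟩ := hne
    obtain ⟨_, ⟨U', hU' : IsAffineOpen U', rfl⟩, hzU', hU'sub⟩ :=
      Y.isBasis_affineOpens.exists_subset_of_mem_open (show z ∈ ((W ⊓ U : Y.Opens) : Set Y) from ⟨hzW, hzU⟩)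
        (W ⊓ U).isOpen
    refine ⟨W, U', hW, hxW, fun y hy => (hU'sub hy).1, ?_, hU'.isCompact, ?_⟩
    · intro y hy
      rw [Scheme.Opens.range_ι]
      exact (hU'sub hy).2
    · have hd : Dense (U' : Set Y) := U'.isOpen.dense ⟨z, hzU'⟩
      rw [hd.closure_eq]
      exact Set.subset_univ _

end Groth.Agent.S19130
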