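import Groth.Statements.S19154
import Mathlib
import Groth.Agent.Lib.Helper9.FiltSplit2

set_option autoImplicit false
open scoped TensorProduct
universe u v w
open FiltMod

open Groth.Agent.H9.FiltSplit

namespace Groth.Agent.S19154

/-- (1) ⇔ (4): in affine form, let Γ be a non-trivial totally ordered commutative group, R a commutative
ring, M a finitely generated projective R-module (a finite locally free sheaf on X = Spec R) and F a
non-increasing Γ-indexed family of submodules of M; write F^γ_+ for the sum of the F^η with η > γ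
and Gr^γ = F^γ/F^γ_+. Then the following are equivalent: (1) there is a Γ-grading M = ⊕_γ G_γ by
submodules (internal direct sum) with F^γ = Σ_{η ≥ γ} G_η for every γ; (4) every Gr^γ is finitely
generated projective over R and, for every prime p of R, dim_{κ(p)} (κ(p) ⊗ M) = Σ_γ dim_{κ(p)} Gr^γ
of the image filtration on κ(p) ⊗ M (whose γ-th term F_x^γ is the image of κ(p) ⊗ F^γ; dim Gr^γ is
written as dim F_x^γ − dim F_x^γ_+, and the sum has finitely many non-zero terms). (The source's
conditions (2), (3) are the Zariski- and fpqc-local forms of (1) on a general scheme; its further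
assertions on F^γ ⊗ κ(x) are not stated.) -/
theorem result
    {Γ : Type w} [AddCommGroup Γ] [LinearOrder Γ] [IsOrderedAddMonoid Γ] [Nontrivial Γ]
    {R : Type u} [CommRing R] {M : Type v} [AddCommGroup M] [Module R M] [Module.Finite R M] [Module.Projective R M]
    (F : Γ → Submodule R M) (hF : Antitone F)
    (Fp : Γ → Submodule R M) (hFp : ∀ γ, Fp γ = ⨆ η ∈ Set.Ioi γ, F η) :
    (∃ G : Γ → Submodule R M, DirectSum.IsInternal G ∧ ∀ γ, F γ = ⨆ η ∈ Set.Ici γ, G η) ↔
    ((∀ γ, Module.Finite R (↥(F γ) ⧸ Submodule.comap (F γ).subtype (Fp γ)) ∧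
        Module.Projective R (↥(F γ) ⧸ Submodule.comap (F γ).subtype (Fp γ))) ∧
      ∀ (p : PrimeSpectrum R) (Fx : Γ → Submodule p.asIdeal.ResidueField (p.asIdeal.ResidueField ⊗[R] M)),
        (∀ γ, Fx γ = LinearMap.range ((F γ).subtype.baseChange p.asIdeal.ResidueField)) →
        Module.finrank p.asIdeal.ResidueField (p.asIdeal.ResidueField ⊗[R] M) =
          ∑ᶠ γ, (Module.finrank p.asIdeal.ResidueField ↥(Fx γ) -
            Module.finrank p.asIdeal.ResidueField ↥(⨆ η ∈ Set.Ioi γ, Fx η))) := by
  classical
  have hFp' : ∀ γ, (⨆ η ∈ Set.Ioi γ, F η) = Fp γ := fun γ => (hFp γ).symm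
  constructor
  · -- (1) ⇒ (4)
    rintro ⟨G, hG, hFG⟩
    have hGF : ∀ γ, G γ ≤ F γ := fun γ => by
      rw [hFG γ]
      exact le_iSup₂ (f := fun η (_ : η ∈ Set.Ici γ) => G η) γ (Set.mem_Ici.mpr le_rfl)
    have hFpG : ∀ γ, Fp γ = ⨆ η ∈ Set.Ioi γ, G η := by
      intro γ
      rw [hFp γ]
      apply le_antisymm
      · refine iSup₂_le fun η hη => ?_
        rw [hFG η]
        exact biSup_mono (fun η' hη' => lt_of_lt_of_le hη hη')
      · exact iSup₂_le fun η hη => le_iSup₂_of_le η hη (hGF η)
    have hFsup : ∀ γ, F γ ≤ G γ ⊔ Fp γ := by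
      intro γ
      rw [hFG γ, hFpG γ]
      refine iSup₂_le fun η hη => ?_
      rcases eq_or_lt_of_le (Set.mem_Ici.mp hη) with rfl | h
      · exact le_sup_left
      · exact le_sup_of_le_right (le_iSup₂ (f := fun η (_ : η ∈ Set.Ioi γ) => G η) η h)
    have hcompl : ∀ γ, IsCompl (G γ) (⨆ η, ⨆ (_ : η ≠ γ), G η) := by
      intro γ
      refine ⟨hG.submodule_iSupIndep γ, ?_⟩
      rw [codisjoint_iff, eq_top_iff, ← hG.submodule_iSup_eq_top]
      refine iSup_le fun η => ?_
      by_cases h : η = γ
      · subst h; exact le_sup_left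
      · exact le_sup_of_le_right (le_iSup₂ (f := fun η (_ : η ≠ γ) => G η) η h)
    have hFpne : ∀ γ, Fp γ ≤ ⨆ η, ⨆ (_ : η ≠ γ), G η := by
      intro γ
      rw [hFpG γ]
      exact biSup_mono (fun η hη => ne_of_gt hη)
    let proj : ∀ γ, M →ₗ[R] G γ := fun γ => Submodule.projectionOnto _ _ (hcompl γ)
    have hproj1 : ∀ γ (x : M) (hx : x ∈ G γ), proj γ x = ⟨x, hx⟩ := fun γ x hx =>
      Submodule.projectionOnto_apply_left (hcompl γ) ⟨x, hx⟩
    have hproj2 : ∀ γ (x : M), x ∈ Fp γ → proj γ x = 0 := fun γ x hx =>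
      Submodule.projectionOnto_apply_of_mem_right (hcompl γ) (hFpne γ hx)
    have hGfin : ∀ γ, Module.Finite R (G γ) := fun γ =>
      Module.Finite.of_surjective (proj γ) (fun y => ⟨y, by rw [hproj1 γ y y.2]⟩)
    have hGproj : ∀ γ, Module.Projective R (G γ) := fun γ =>
      Module.Projective.of_split (G γ).subtype (proj γ) (by
        ext y
        simp [hproj1 γ y y.2])
    refine ⟨fun γ => ?_, ?_⟩
    · -- Gr^γ ≃ G γ
      let φ : F γ →ₗ[R] G γ := proj γ ∘ₗ (F γ).subtype
      have hker : LinearMap.ker φ = Submodule.comap (F γ).subtype (Fp γ) := by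
        ext x
        rw [LinearMap.mem_ker, Submodule.mem_comap]
        constructor
        · intro hx
          obtain ⟨g, hg, y, hy, hxy⟩ := Submodule.mem_sup.mp (hFsup γ x.2)
          have : φ x = ⟨g, hg⟩ := by
            show proj γ (x : M) = _
            rw [← hxy, map_add, hproj1 γ g hg, hproj2 γ y hy, add_zero]
          rw [this] at hx
          have hg0 : g = 0 := congrArg Subtype.val hx
          rw [Submodule.subtype_apply, ← hxy, hg0, zero_add]
          exact hy
        · intro hx
          exact hproj2 γ _ hx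
      have hsurj : Function.Surjective φ := by
        intro y
        refine ⟨⟨y, hGF γ y.2⟩, ?_⟩
        show proj γ (y : M) = y
        rw [hproj1 γ y y.2]
      let e : (↥(F γ) ⧸ Submodule.comap (F γ).subtype (Fp γ)) ≃ₗ[R] G γ :=
        (Submodule.quotEquivOfEq _ _ hker.symm).trans (φ.quotKerEquivOfSurjective hsurj)
      have := hGfin γ
      have := hGproj γ
      exact ⟨Module.Finite.equiv e.symm, Module.Projective.of_equiv e.symm⟩
    · intro p Fx hFx
      have hFx' : Fx = fun γ => (F γ).baseChange p.asIdeal.ResidueField := funext hFx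
      subst hFx'
      have hdisj : ∀ γ, (G γ).baseChange p.asIdeal.ResidueField ⊓
          ⨆ η ∈ Set.Ioi γ, (F η).baseChange p.asIdeal.ResidueField = ⊥ := by
        intro γ
        have h1 : (⨆ η ∈ Set.Ioi γ, (F η).baseChange p.asIdeal.ResidueField) =
            (Fp γ).baseChange p.asIdeal.ResidueField := by
          rw [hFp γ, baseChange_iSup]
          congr 1
          funext η
          rw [baseChange_iSup]
        rw [h1, eq_bot_iff]
        rintro x ⟨hx1, hx2⟩
        let r : M →ₗ[R] M := (G γ).subtype ∘ₗ proj γ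
        have e1 := baseChange_eqOn p.asIdeal.ResidueField (G γ) r LinearMap.id
          (fun x hx => by simp [r, hproj1 γ x hx]) hx1
        have e2 := baseChange_eqOn p.asIdeal.ResidueField (Fp γ) r 0
          (fun x hx => by simp [r, hproj2 γ x hx]) hx2
        rw [LinearMap.baseChange_id, LinearMap.id_apply] at e1
        rw [LinearMap.baseChange_zero, LinearMap.zero_apply] at e2
        rw [Submodule.mem_bot, ← e1, e2]
      have hsup : ∀ γ, (F γ).baseChange p.asIdeal.ResidueField ≤
          (G γ).baseChange p.asIdeal.ResidueField ⊔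
          ⨆ η ∈ Set.Ioi γ, (F η).baseChange p.asIdeal.ResidueField := by
        intro γ
        have h1 : (⨆ η ∈ Set.Ioi γ, (F η).baseChange p.asIdeal.ResidueField) =
            (Fp γ).baseChange p.asIdeal.ResidueField := by
          rw [hFp γ, baseChange_iSup]
          congr 1
          funext η
          rw [baseChange_iSup]
        rw [h1, ← baseChange_sup]
        exact Submodule.baseChange_mono _ (hFsup γ)
      have key := finsum_jumps (fun γ => (F γ).baseChange p.asIdeal.ResidueField)
        (fun γ => (G γ).baseChange p.asIdeal.ResidueField)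
        (fun a b hab => Submodule.baseChange_mono _ (hF hab))
        (fun γ => Submodule.baseChange_mono _ (hGF γ)) hdisj hsup
      rw [key, ← baseChange_iSup, hG.submodule_iSup_eq_top, Submodule.baseChange_top, finrank_top]
  · -- (4) ⇒ (1)
    rintro ⟨hfp, hdim⟩
    have hsec : ∀ γ, ∃ σ : (↥(F γ) ⧸ Submodule.comap (F γ).subtype (Fp γ)) →ₗ[R] F γ,
        (Submodule.mkQ _) ∘ₗ σ = LinearMap.id := by
      intro γ
      have := (hfp γ).2
      exact Module.projective_lifting_property _ _ (Submodule.mkQ_surjective _)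
    choose σ hσ using hsec
    let G : Γ → Submodule R M := fun γ => LinearMap.range ((F γ).subtype ∘ₗ σ γ)
    have hGF : ∀ γ, G γ ≤ F γ := by
      rintro γ _ ⟨q, rfl⟩
      exact (σ γ q).2
    have hσ' : ∀ γ q, Submodule.Quotient.mk (σ γ q) = q := fun γ q =>
      LinearMap.congr_fun (hσ γ) q
    have hdisjM : ∀ γ, G γ ⊓ ⨆ η ∈ Set.Ioi γ, F η = ⊥ := by
      intro γ
      rw [hFp' γ, eq_bot_iff]
      rintro _ ⟨⟨q, rfl⟩, hx2⟩
      have : q = 0 := by
        rw [← hσ' γ q, Submodule.Quotient.mk_eq_zero, Submodule.mem_comap]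
        exact hx2
      simp [this]
    have hsupM : ∀ γ, F γ ≤ G γ ⊔ ⨆ η ∈ Set.Ioi γ, F η := by
      intro γ x hx
      rw [hFp' γ]
      let x' : F γ := ⟨x, hx⟩
      have h1 : (x' - σ γ (Submodule.Quotient.mk x') : F γ) ∈
          Submodule.comap (F γ).subtype (Fp γ) := by
        rw [← Submodule.Quotient.mk_eq_zero, Submodule.Quotient.mk_sub, hσ', sub_self]
      rw [Submodule.mem_comap] at h1
      have h2 : x = ((σ γ (Submodule.Quotient.mk x') : F γ) : M) +
          ((x' - σ γ (Submodule.Quotient.mk x') : F γ) : M) := by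
        simp [x']
      rw [h2]
      exact Submodule.add_mem _ (Submodule.mem_sup_left ⟨_, rfl⟩) (Submodule.mem_sup_right h1)
    have hind : iSupIndep G := iSupIndep_of_disjoint_Ioi G F hGF hdisjM
    have htop : ⨆ γ, G γ = ⊤ := by
      rw [← Submodule.Quotient.subsingleton_iff, ← Module.support_eq_empty_iff (R := R),
        Set.eq_empty_iff_forall_notMem]
      intro p
      rw [Module.mem_support_iff_nontrivial_residueField_tensorProduct,
        not_nontrivial_iff_subsingleton]
      -- local computation
      have hW : Antitone fun γ => (F γ).baseChange p.asIdeal.ResidueField :=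
        fun a b hab => Submodule.baseChange_mono _ (hF hab)
      have hex : ∀ γ, ∃ C : Submodule p.asIdeal.ResidueField (p.asIdeal.ResidueField ⊗[R] M),
          C ≤ (G γ).baseChange p.asIdeal.ResidueField ∧
          C ⊓ (⨆ η ∈ Set.Ioi γ, (F η).baseChange p.asIdeal.ResidueField) = ⊥ ∧
          (G γ).baseChange p.asIdeal.ResidueField ≤
            C ⊔ ⨆ η ∈ Set.Ioi γ, (F η).baseChange p.asIdeal.ResidueField :=
        fun γ => exists_compl_le _ _
      choose C hC1 hC2 hC3 using hex
      have h1 : ∀ γ, (⨆ η ∈ Set.Ioi γ, (F η).baseChange p.asIdeal.ResidueField) =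
          (⨆ η ∈ Set.Ioi γ, F η).baseChange p.asIdeal.ResidueField := by
        intro γ
        rw [baseChange_iSup]
        congr 1
        funext η
        rw [baseChange_iSup]
      have hsup : ∀ γ, (F γ).baseChange p.asIdeal.ResidueField ≤
          C γ ⊔ ⨆ η ∈ Set.Ioi γ, (F η).baseChange p.asIdeal.ResidueField := by
        intro γ
        have := Submodule.baseChange_mono p.asIdeal.ResidueField (hsupM γ)
        rw [baseChange_sup, ← h1] at this
        exact this.trans (sup_le (hC3 γ) le_sup_right)
      have key := finsum_jumps (fun γ => (F γ).baseChange p.asIdeal.ResidueField) C hW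
        (fun γ => (hC1 γ).trans (Submodule.baseChange_mono _ (hGF γ))) hC2 hsup
      have hd := hdim p (fun γ => (F γ).baseChange p.asIdeal.ResidueField) (fun γ => rfl)
      rw [key] at hd
      have hCtop : ⨆ γ, C γ = ⊤ := Submodule.eq_top_of_finrank_eq hd.symm
      have hNtop : (⨆ γ, G γ).baseChange p.asIdeal.ResidueField = ⊤ := by
        rw [eq_top_iff, ← hCtop, baseChange_iSup]
        exact iSup_mono hC1
      constructor
      intro a b
      have hz : ∀ z : p.asIdeal.ResidueField ⊗[R] (M ⧸ ⨆ γ, G γ), z = 0 := by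
        intro z
        obtain ⟨y, rfl⟩ := LinearMap.lTensor_surjective p.asIdeal.ResidueField
          (Submodule.mkQ_surjective (⨆ γ, G γ)) z
        have hy : y ∈ (⨆ γ, G γ).baseChange p.asIdeal.ResidueField := by rw [hNtop]; trivial
        have e2 := baseChange_eqOn p.asIdeal.ResidueField (⨆ γ, G γ) (Submodule.mkQ (⨆ γ, G γ)) 0
          (fun x hx => by simpa using hx) hy
        rw [LinearMap.baseChange_zero, LinearMap.zero_apply] at e2
        rw [← e2]
        rfl
      rw [hz a, hz b]
    refine ⟨G, DirectSum.isInternal_submodule_of_iSupIndep_of_iSup_eq_top hind htop, ?_⟩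
    exact fun γ => eq_biSup_Ici F G hF hGF hdisjM htop γ

end Groth.Agent.S19154
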