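import Groth.Statements.S19158
import Mathlib
import Groth.Agent.Lib.Helper9.FiltSplit

set_option autoImplicit false
universe u v w
open FiltMod

namespace Groth.Agent.S19158

namespace H9Prod

open Groth.Agent.H9.FiltSplit

variable {Γ : Type w} [LinearOrder Γ]
    {R : Type u} [CommRing R] {A : Type v} [Fintype A] (M : A → Type v) [∀ a, AddCommGroup (M a)] [∀ a, Module R (M a)]

theorem single_mem_pi [DecidableEq A] (P : ∀ a, Submodule R (M a)) (a : A) (y : M a) (hy : y ∈ P a) :
    (Pi.single a y : ∀ a, M a) ∈ Submodule.pi Set.univ P := by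
  rw [Submodule.mem_pi]
  intro b _
  by_cases hb : b = a
  · subst hb; simpa using hy
  · rw [Pi.single_eq_of_ne hb]; exact zero_mem _

theorem map_proj_pi [DecidableEq A] (P : ∀ a, Submodule R (M a)) (a : A) :
    Submodule.map (LinearMap.proj a) (Submodule.pi Set.univ P) = P a := by
  apply le_antisymm
  · rw [Submodule.map_le_iff_le_comap]
    intro x hx
    exact (Submodule.mem_pi.mp hx) a (Set.mem_univ a)
  · intro y hy
    exact ⟨Pi.single a y, single_mem_pi M P a y hy, by simp⟩

/-- membership in a submodule of the product, checked on the `single` components -/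
theorem mem_of_single_mem [DecidableEq A] (Q : Submodule R (∀ a, M a)) (x : ∀ a, M a)
    (h : ∀ a, (Pi.single a (x a) : ∀ a, M a) ∈ Q) : x ∈ Q := by
  rw [← Finset.univ_sum_single x]
  exact Submodule.sum_mem _ (fun a _ => h a)

theorem forward [Module.Finite R (∀ a, M a)] (F : ∀ a, Γ → Submodule R (M a)) (hF : ∀ a, Antitone (F a))
    (G : Γ → Submodule R (∀ a, M a)) (hG : DirectSum.IsInternal G)
    (hFG : ∀ γ, Submodule.pi Set.univ (fun a => F a γ) = ⨆ η ∈ Set.Ici γ, G η) (a : A) :
    ∃ K : Γ → Submodule R (M a), DirectSum.IsInternal K ∧ ∀ γ, F a γ = ⨆ η ∈ Set.Ici γ, K η := by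
  classical
  obtain ⟨s, hs, hs0⟩ := finite_support_of_isInternal G hG
  -- the product filtration
  set Fp : Γ → Submodule R (∀ a, M a) := fun γ => Submodule.pi Set.univ (fun a => F a γ) with hFp
  have hGle : ∀ η, G η ≤ Fp η := fun η => by
    rw [hFp]; simp only; rw [hFG η]
    exact le_iSup₂ (f := fun η' (_ : η' ∈ Set.Ici η) => G η') η (Set.mem_Ici.mpr le_rfl)
  have hmap : ∀ γ, Submodule.map (LinearMap.proj a) (Fp γ) = F a γ := fun γ =>
    map_proj_pi M (fun a => F a γ) a
  -- retractions
  have hr : ∀ γ, ∃ r : (∀ a, M a) →ₗ[R] (∀ a, M a), (∀ x, r x ∈ ⨆ η ∈ Set.Ioi γ, G η) ∧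
      ∀ x ∈ ⨆ η ∈ Set.Ioi γ, G η, r x = x := fun γ => exists_retraction G hG γ
  choose r hr1 hr2 using hr
  have hplus : ∀ γ, (⨆ η ∈ Set.Ioi γ, G η) = ⨆ η ∈ Set.Ioi γ, Fp η := by
    intro γ
    apply le_antisymm
    · exact iSup₂_mono fun η _ => hGle η
    · refine iSup₂_le fun η hη => ?_
      rw [hFp]; simp only; rw [hFG η]
      exact biSup_mono fun η' hη' => lt_of_lt_of_le (Set.mem_Ioi.mp hη) (Set.mem_Ici.mp hη')
  let e : Γ → M a →ₗ[R] M a := fun γ => (LinearMap.proj a) ∘ₗ (r γ) ∘ₗ (LinearMap.single R M a)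
  have he1 : ∀ γ y, e γ y ∈ ⨆ η ∈ Set.Ioi γ, F a η := by
    intro γ y
    have h1 : r γ (Pi.single a y) ∈ ⨆ η ∈ Set.Ioi γ, Fp η := by
      rw [← hplus]; exact hr1 γ _
    have h2 : e γ y ∈ Submodule.map (LinearMap.proj a) (⨆ η ∈ Set.Ioi γ, Fp η) :=
      ⟨_, h1, rfl⟩
    rw [Submodule.map_iSup] at h2
    simp only [Submodule.map_iSup, hmap] at h2
    exact h2
  have he2 : ∀ γ y, y ∈ (⨆ η ∈ Set.Ioi γ, F a η) → e γ y = y := by
    intro γ y hy
    have h1 : (Pi.single a y : ∀ a, M a) ∈ ⨆ η ∈ Set.Ioi γ, Fp η := by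
      have : (⨆ η ∈ Set.Ioi γ, F a η) ≤
          Submodule.comap (LinearMap.single R M a) (⨆ η ∈ Set.Ioi γ, Fp η) := by
        refine iSup₂_le fun η hη => ?_
        intro z hz
        rw [Submodule.mem_comap]
        refine (le_iSup₂ (f := fun η (_ : η ∈ Set.Ioi γ) => Fp η) η hη) ?_
        exact single_mem_pi M (fun a => F a η) a z hz
      exact this hy
    rw [← hplus] at h1
    show (r γ (Pi.single a y)) a = y
    rw [hr2 γ _ h1]
    simp
  -- complements
  let K : Γ → Submodule R (M a) := fun γ => F a γ ⊓ LinearMap.ker (e γ)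
  have hplusle : ∀ γ, (⨆ η ∈ Set.Ioi γ, F a η) ≤ F a γ := fun γ =>
    iSup₂_le fun η hη => hF a (le_of_lt (Set.mem_Ioi.mp hη))
  have key := split_of_compl (F a) K (hF a) s ?_ ?_ (fun γ => inf_le_left) ?_ ?_
  · exact ⟨K, key⟩
  · -- h1
    intro γ
    have hP : Fp γ ≤ ⨆ t ∈ s, ⨆ (_ : γ ≤ t), Fp t := by
      rw [hFp]; simp only; rw [hFG γ]
      refine iSup₂_le fun η hη => ?_
      by_cases hηs : η ∈ s
      · refine (hGle η).trans ?_
        exact le_iSup₂_of_le η hηs (le_iSup_of_le (Set.mem_Ici.mp hη) le_rfl)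
      · rw [hs0 η hηs]; exact bot_le
    have := Submodule.map_mono (f := (LinearMap.proj a : (∀ a, M a) →ₗ[R] M a)) hP
    rw [hmap] at this
    simpa only [Submodule.map_iSup, hmap] using this
  · -- h3
    have hP : (⊤ : Submodule R (∀ a, M a)) ≤ ⨆ t ∈ s, Fp t :=
      hs.trans (iSup₂_mono fun t _ => hGle t)
    have := Submodule.map_mono (f := (LinearMap.proj a : (∀ a, M a) →ₗ[R] M a)) hP
    rw [Submodule.map_top, LinearMap.range_eq_top.mpr (LinearMap.proj_surjective a)] at this
    simpa only [Submodule.map_iSup, hmap] using this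
  · -- disjoint
    intro γ
    rw [eq_bot_iff]
    rintro x ⟨⟨_, hx2⟩, hx3⟩
    rw [Submodule.mem_bot]
    have := he2 γ x hx3
    rw [LinearMap.mem_ker.mp hx2] at this
    exact this.symm
  · -- sup
    intro γ x hx
    have hex : e γ x ∈ ⨆ η ∈ Set.Ioi γ, F a η := he1 γ x
    have : x = (x - e γ x) + e γ x := by abel
    rw [this]
    refine Submodule.add_mem_sup ⟨?_, ?_⟩ hex
    · exact Submodule.sub_mem _ hx (hplusle γ hex)
    · rw [SetLike.mem_coe, LinearMap.mem_ker, map_sub, he2 γ _ hex, sub_self]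


theorem backward (F : ∀ a, Γ → Submodule R (M a))
    (h : ∀ a, ∃ G : Γ → Submodule R (M a), DirectSum.IsInternal G ∧ ∀ γ, F a γ = ⨆ η ∈ Set.Ici γ, G η) :
    ∃ G : Γ → Submodule R (∀ a, M a), DirectSum.IsInternal G ∧
        ∀ γ, Submodule.pi Set.univ (fun a => F a γ) = ⨆ η ∈ Set.Ici γ, G η := by
  classical
  choose Ga hGa hFa using h
  refine ⟨fun γ => Submodule.pi Set.univ (fun a => Ga a γ), ?_, ?_⟩
  · apply DirectSum.isInternal_submodule_of_iSupIndep_of_iSup_eq_top
    · rw [iSupIndep_iff_finsetSum_eq_zero_imp_eq_zero]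
      intro s v hv hsum i hi
      funext a
      have hind := (hGa a).submodule_iSupIndep
      rw [iSupIndep_iff_finsetSum_eq_zero_imp_eq_zero] at hind
      refine hind s (fun i => v i a) (fun j hj => ?_) ?_ i hi
      · exact (Submodule.mem_pi.mp (hv j hj)) a (Set.mem_univ a)
      · have := congrFun hsum a
        rwa [Finset.sum_apply] at this
    · rw [eq_top_iff]
      intro x _
      apply mem_of_single_mem
      intro a
      have hle : (⊤ : Submodule R (M a)) ≤ Submodule.comap (LinearMap.single R M a)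
          (⨆ γ, Submodule.pi Set.univ (fun a => Ga a γ)) := by
        rw [← (hGa a).submodule_iSup_eq_top]
        refine iSup_le fun γ => ?_
        intro z hz
        rw [Submodule.mem_comap]
        exact (le_iSup (fun γ => Submodule.pi Set.univ (fun a => Ga a γ)) γ)
          (single_mem_pi M (fun a => Ga a γ) a z hz)
      exact hle (Submodule.mem_top (x := x a))
  · intro γ
    apply le_antisymm
    · intro x hx
      apply mem_of_single_mem
      intro a
      have hxa : x a ∈ F a γ := (Submodule.mem_pi.mp hx) a (Set.mem_univ a)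
      have hle : F a γ ≤ Submodule.comap (LinearMap.single R M a)
          (⨆ η ∈ Set.Ici γ, Submodule.pi Set.univ (fun a => Ga a η)) := by
        rw [hFa a γ]
        refine iSup₂_le fun η hη => ?_
        intro z hz
        rw [Submodule.mem_comap]
        exact (le_iSup₂ (f := fun η (_ : η ∈ Set.Ici γ) => Submodule.pi Set.univ (fun a => Ga a η)) η hη)
          (single_mem_pi M (fun a => Ga a η) a z hz)
      exact hle hxa
    · refine iSup₂_le fun η hη => ?_
      intro x hx
      rw [Submodule.mem_pi] at hx ⊢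
      intro a ha
      rw [hFa a γ]
      exact (le_iSup₂ (f := fun η (_ : η ∈ Set.Ici γ) => Ga a η) η hη) (hx a ha)

end H9Prod

/-- In affine form, let Γ be a non-trivial totally ordered commutative group, R a commutative ring and
(M_a) a finite family of finitely generated projective R-modules, each carrying a non-increasing
Γ-indexed family of submodules F_a; give M = Π_a M_a the family F^γ = Π_a F_a^γ. Then F is split by
a Γ-grading of M (an internal direct sum decomposition M = ⊕_γ G_γ with F^γ = Σ_{η ≥ γ} G_η for all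
γ) if and only if each F_a is split by a Γ-grading of M_a. (The published statement is for finite
locally free sheaves on a scheme, where a filtration counts as split when it is split by a grading
locally on the scheme; this row is the affine case, in which that is the same as being split by one
global grading.) -/
theorem result
    {Γ : Type w} [AddCommGroup Γ] [LinearOrder Γ] [IsOrderedAddMonoid Γ] [Nontrivial Γ]
    {R : Type u} [CommRing R] {A : Type v} [Fintype A] (M : A → Type v) [∀ a, AddCommGroup (M a)] [∀ a, Module R (M a)]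
    [∀ a, Module.Finite R (M a)] [∀ a, Module.Projective R (M a)]
    (F : ∀ a, Γ → Submodule R (M a)) (hF : ∀ a, Antitone (F a)) :
    (∃ G : Γ → Submodule R (∀ a, M a), DirectSum.IsInternal G ∧
        ∀ γ, Submodule.pi Set.univ (fun a => F a γ) = ⨆ η ∈ Set.Ici γ, G η) ↔
    ∀ a, ∃ G : Γ → Submodule R (M a), DirectSum.IsInternal G ∧ ∀ γ, F a γ = ⨆ η ∈ Set.Ici γ, G η := by
  constructor
  · rintro ⟨G, hG, hFG⟩ a
    exact H9Prod.forward M F hF G hG hFG a
  · intro h
    exact H9Prod.backward M F h

end Groth.Agent.S19158
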