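import Groth.Statements.S19169
import Mathlib
import Groth.Agent.Lib.Helper9.VanDantzig
import Groth.Agent.S19170

set_option autoImplicit false
universe u
open ProCompl

namespace Groth.Agent.S19169

/-- Let B be a Hausdorff, locally compact, totally disconnected topological abelian group which is
compactly generated, i.e. generated as a group by a compact subset. Then the open subgroups of
finite index of B have trivial intersection: every nonzero b lies outside some open subgroup of
finite index. Equivalently, the natural map from B to its completion with respect to open subgroups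
of finite index is injective. -/
theorem result
    {B : Type u} [AddCommGroup B] [TopologicalSpace B] [IsTopologicalAddGroup B]
    [T2Space B] [LocallyCompactSpace B] [TotallyDisconnectedSpace B]
    (hcg : ∃ K : Set B, IsCompact K ∧ AddSubgroup.closure K = ⊤) (b : B) (hb : b ≠ 0) :
    ∃ B' : AddSubgroup B, IsOpen (B' : Set B) ∧ B'.FiniteIndex ∧ b ∉ B' := by
  obtain ⟨U, hUo, hUV⟩ := Groth.Agent.H9.VD.exists_open_subgroup_subset
    (isOpen_compl_singleton (x := b)) (show (0 : B) ∈ ({b} : Set B)ᶜ from fun h => hb h.symm)
  have hbU : b ∉ U := fun h => hUV h rfl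
  have hq : (QuotientAddGroup.mk' U b) ≠ 0 := by
    rw [Ne, QuotientAddGroup.mk'_apply, QuotientAddGroup.eq_zero_iff]
    exact hbU
  obtain ⟨c, hc⟩ := CharacterModule.exists_character_apply_ne_zero_of_ne_zero hq
  let c' : B ⧸ U →+ ℚ ⧸ AddSubgroup.zmultiples (1 : ℚ) := c
  let ψ : B →+ ℚ ⧸ AddSubgroup.zmultiples (1 : ℚ) := c'.comp (QuotientAddGroup.mk' U)
  have hψo : IsOpen (ψ.ker : Set B) := by
    refine AddSubgroup.isOpen_mono (H₁ := U) ?_ hUo
    intro u hu
    rw [AddMonoidHom.mem_ker]
    show c' (QuotientAddGroup.mk' U u) = 0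
    rw [QuotientAddGroup.mk'_apply, (QuotientAddGroup.eq_zero_iff u).mpr hu, map_zero]
  exact ⟨ψ.ker, hψo, Groth.Agent.S19170.result hcg ψ hψo, fun h => hc h⟩

end Groth.Agent.S19169
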