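import Groth.Statements.S19171
import Mathlib
import Groth.Agent.Lib.Helper9.VanDantzig
import Groth.Agent.Lib.Helper9.QmodZ

set_option autoImplicit false
universe u v
open ProCompl

namespace Groth.Agent.S19171

open Topology in
/-- Let B be a Hausdorff, locally compact, totally disconnected topological abelian group generated as a
group by a compact subset, and let i : A → B be an injective continuous homomorphism inducing the
topology of A from that of B (a strict injection) whose image is closed. Then every character χ : A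
→ ℚ/ℤ with open kernel extends along i to a character ψ : B → ℚ/ℤ with open kernel; with ℚ/ℤ
discrete this says that restriction B^D → A^D of continuous characters is surjective, i.e. the dual
of a topological exact sequence 0 → A → B → C → 0 with such B, strict closed i and open p is a short
exact sequence 0 → C^D → B^D → A^D → 0. -/
theorem result
    {A : Type u} {B : Type v} [AddCommGroup A] [TopologicalSpace A] [IsTopologicalAddGroup A]
    [AddCommGroup B] [TopologicalSpace B] [IsTopologicalAddGroup B]
    [T2Space B] [LocallyCompactSpace B] [TotallyDisconnectedSpace B]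
    (hcg : ∃ K : Set B, IsCompact K ∧ AddSubgroup.closure K = ⊤)
    (i : A →+ B) (hi : Continuous i) (hinj : Function.Injective i) (hind : IsInducing i)
    (hcl : IsClosed (Set.range i))
    (χ : A →+ ℚ ⧸ AddSubgroup.zmultiples (1 : ℚ)) (hχ : IsOpen (χ.ker : Set A)) :
    ∃ ψ : B →+ ℚ ⧸ AddSubgroup.zmultiples (1 : ℚ), IsOpen (ψ.ker : Set B) ∧ ψ.comp i = χ := by
  -- ker χ = i ⁻¹' V for an open V
  obtain ⟨V, hVo, hVeq⟩ := hind.isOpen_iff.mp hχ
  have h0V : (0 : B) ∈ V := by
    have : (0 : A) ∈ i ⁻¹' V := by rw [hVeq]; exact χ.ker.zero_mem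
    simpa using this
  obtain ⟨U, hUo, hUV⟩ := Groth.Agent.H9.VD.exists_open_subgroup_subset hVo h0V
  let π : B →+ B ⧸ U := QuotientAddGroup.mk' U
  let f : A →+ B ⧸ U := π.comp i
  have hker : f.rangeRestrict.ker ≤ χ.ker := by
    intro a ha
    have h1 : f a = 0 := by
      have := congrArg Subtype.val (AddMonoidHom.mem_ker.mp ha)
      simpa using this
    have h2 : i a ∈ U := by
      have : (QuotientAddGroup.mk' U (i a)) = 0 := h1
      rwa [QuotientAddGroup.mk'_apply, QuotientAddGroup.eq_zero_iff] at this
    have h3 : a ∈ i ⁻¹' V := hUV h2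
    rw [hVeq] at h3
    exact h3
  have hsurj : Function.Surjective f.rangeRestrict := f.rangeRestrict_surjective
  let φ : f.range →+ ℚ ⧸ AddSubgroup.zmultiples (1 : ℚ) :=
    f.rangeRestrict.liftOfRightInverse (Function.surjInv hsurj) (Function.rightInverse_surjInv hsurj)
      ⟨χ, hker⟩
  have hφ : φ.comp f.rangeRestrict = χ :=
    f.rangeRestrict.liftOfRightInverse_comp (Function.surjInv hsurj)
      (Function.rightInverse_surjInv hsurj) ⟨χ, hker⟩
  obtain ⟨ψb, hψb⟩ := Groth.Agent.H9.QmodZ.exists_extension
    f.range.subtype Subtype.val_injective φ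
  refine ⟨ψb.comp π, ?_, ?_⟩
  · refine AddSubgroup.isOpen_mono (H₁ := U) ?_ hUo
    intro u hu
    rw [AddMonoidHom.mem_ker]
    show ψb (QuotientAddGroup.mk' U u) = 0
    rw [QuotientAddGroup.mk'_apply, (QuotientAddGroup.eq_zero_iff u).mpr hu, map_zero]
  · ext a
    have h1 : ψb (f.range.subtype (f.rangeRestrict a)) = φ (f.rangeRestrict a) := by
      rw [← AddMonoidHom.comp_apply, hψb]
    have h2 : φ (f.rangeRestrict a) = χ a := by
      rw [← AddMonoidHom.comp_apply, hφ]
    show ψb (π (i a)) = χ a
    rw [← h2, ← h1]
    rfl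

end Groth.Agent.S19171
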