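import Groth.Statements.S19172
import Mathlib
import Groth.Agent.Lib.Helper9.InvLim

set_option autoImplicit false
universe u v w
open ProCompl

namespace Groth.Agent.S19172

open W4c61motalbduality

section Aux

variable {A : Type*} [AddCommGroup A] [TopologicalSpace A]

/-- `OpenFI A` ordered by reverse inclusion (finer is bigger) -/
instance instPreorderOpenFI : Preorder (OpenFI A) :=
  Preorder.lift (fun U : OpenFI A => OrderDual.toDual U.toAddSubgroup)

theorem fine_le_iff {U V : OpenFI A} : U ≤ V ↔ V.toAddSubgroup ≤ U.toAddSubgroup := Iff.rfl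

/-- intersection of two open finite-index subgroups -/
def OpenFI.inf (U V : OpenFI A) : OpenFI A where
  toAddSubgroup := U.toAddSubgroup ⊓ V.toAddSubgroup
  isOpen' := by
    rw [AddSubgroup.coe_inf]
    exact U.isOpen'.inter V.isOpen'
  finiteIndex' := by
    haveI := U.finiteIndex'
    haveI := V.finiteIndex'
    infer_instance

instance instDirectedOpenFI : IsDirectedOrder (OpenFI A) :=
  ⟨fun U V => ⟨OpenFI.inf U V, fine_le_iff.mpr inf_le_left, fine_le_iff.mpr inf_le_right⟩⟩

/-- the whole group -/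
def OpenFI.top (A : Type*) [AddCommGroup A] [TopologicalSpace A] : OpenFI A where
  toAddSubgroup := ⊤
  isOpen' := by simp
  finiteIndex' := inferInstance

instance instFiniteQuot (U : OpenFI A) : Finite (A ⧸ U.toAddSubgroup) := by
  haveI := U.finiteIndex'
  infer_instance

end Aux

section Part1

variable {B : Type*} {C : Type*}
  [AddCommGroup B] [TopologicalSpace B]
  [AddCommGroup C] [TopologicalSpace C]

theorem surj_part (p : B →+ C) (hp : Continuous p)
    (hpo : IsOpenMap p) (hps : Function.Surjective p) :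
    Function.Surjective (FICompl.map p hp) := by
  classical
  have hpU : ∀ U : OpenFI B, ∃ V : OpenFI C, V.toAddSubgroup = U.toAddSubgroup.map p := by
    intro U
    refine ⟨⟨U.toAddSubgroup.map p, ?_, ?_⟩, rfl⟩
    · rw [AddSubgroup.coe_map]; exact hpo _ U.isOpen'
    · haveI := U.finiteIndex'
      refine ⟨fun h0 => AddSubgroup.FiniteIndex.index_ne_zero (H := U.toAddSubgroup) ?_⟩
      have := AddSubgroup.index_map_dvd U.toAddSubgroup hps
      rw [h0] at this
      exact Nat.eq_zero_of_zero_dvd this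
  intro z
  have t_refl : ∀ (U : OpenFI B) (x : B ⧸ U.toAddSubgroup),
      QuotientAddGroup.map _ _ (AddMonoidHom.id B) (fine_le_iff.mp (le_refl U)) x = x := by
    intro U x
    obtain ⟨b, rfl⟩ := QuotientAddGroup.mk_surjective x
    rfl
  have t_trans : ∀ {U U' U'' : OpenFI B} (h : U ≤ U') (h' : U' ≤ U'') (x : B ⧸ U''.toAddSubgroup),
      QuotientAddGroup.map _ _ (AddMonoidHom.id B) (fine_le_iff.mp h)
        (QuotientAddGroup.map _ _ (AddMonoidHom.id B) (fine_le_iff.mp h') x) =
      QuotientAddGroup.map _ _ (AddMonoidHom.id B) (fine_le_iff.mp (h.trans h')) x := by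
    intro U U' U'' h h' x
    obtain ⟨b, rfl⟩ := QuotientAddGroup.mk_surjective x
    rfl
  let Y : ∀ U : OpenFI B, Set (B ⧸ U.toAddSubgroup) := fun U =>
    {y | ∀ (V' : OpenFI C) (h : U.toAddSubgroup ≤ V'.toAddSubgroup.comap p),
      QuotientAddGroup.map _ _ p h y = z.1 V'}
  have hne : ∀ U, (Y U).Nonempty := by
    intro U
    obtain ⟨V₀, hV₀⟩ := hpU U
    obtain ⟨c, hc⟩ := QuotientAddGroup.mk_surjective (z.1 V₀)
    obtain ⟨b, rfl⟩ := hps c
    refine ⟨QuotientAddGroup.mk b, ?_⟩
    intro V' h
    have hle : V₀.toAddSubgroup ≤ V'.toAddSubgroup := by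
      rw [hV₀, AddSubgroup.map_le_iff_le_comap]; exact h
    have h1 := z.2 V₀ V' hle
    rw [← hc] at h1
    rw [← h1]
    rfl
  have hY : ∀ {U U' : OpenFI B} (h : U ≤ U') (x : B ⧸ U'.toAddSubgroup), x ∈ Y U' →
      QuotientAddGroup.map _ _ (AddMonoidHom.id B) (fine_le_iff.mp h) x ∈ Y U := by
    intro U U' h x hx V' hV'
    obtain ⟨b, rfl⟩ := QuotientAddGroup.mk_surjective x
    have := hx V' ((fine_le_iff.mp h).trans hV')
    rw [← this]
    rfl
  obtain ⟨y, hyY, hyc⟩ := Groth.Agent.H9.InvLim.exists_compatible (J := OpenFI B)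
    (fun U => B ⧸ U.toAddSubgroup)
    (fun {U U'} h => QuotientAddGroup.map _ _ (AddMonoidHom.id B) (fine_le_iff.mp h))
    t_refl t_trans Y hne hY
  refine ⟨⟨y, ?_⟩, ?_⟩
  · intro U V h
    exact hyc (fine_le_iff.mpr h)
  · apply Subtype.ext
    funext V'
    exact hyY (V'.comap p hp) V' le_rfl

end Part1

section Part2

variable {A : Type*} {B : Type*} {C : Type*}
  [AddCommGroup A] [TopologicalSpace A]
  [AddCommGroup B] [TopologicalSpace B]
  [AddCommGroup C] [TopologicalSpace C]

/-- index type for the second inverse limit: pairs `(W, U)` with `W ≤ i⁻¹ U` -/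
def Pairs (i : A →+ B) : Type _ :=
  {j : OpenFI A × OpenFI B // j.1.toAddSubgroup ≤ j.2.toAddSubgroup.comap i}

instance (i : A →+ B) : Preorder (Pairs i) := inferInstanceAs (Preorder (Subtype _))

theorem pairs_le_iff {i : A →+ B} {j j' : Pairs i} : j ≤ j' ↔
    j'.1.1.toAddSubgroup ≤ j.1.1.toAddSubgroup ∧ j'.1.2.toAddSubgroup ≤ j.1.2.toAddSubgroup :=
  Iff.rfl

instance (i : A →+ B) : IsDirectedOrder (Pairs i) :=
  ⟨fun j j' => ⟨⟨(OpenFI.inf j.1.1 j'.1.1, OpenFI.inf j.1.2 j'.1.2), by
      intro a ha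
      exact ⟨j.2 ha.1, j'.2 ha.2⟩⟩,
    pairs_le_iff.mpr ⟨inf_le_left, inf_le_left⟩, pairs_le_iff.mpr ⟨inf_le_right, inf_le_right⟩⟩⟩

theorem ker_part (i : A →+ B) (hi : Continuous i) (p : B →+ C) (hp : Continuous p)
    (hpo : IsOpenMap p) (hps : Function.Surjective p) (hex : p.ker = i.range) :
    (FICompl.map p hp).ker = (FICompl.map i hi).range := by
  classical
  have hpU : ∀ U : OpenFI B, ∃ V : OpenFI C, V.toAddSubgroup = U.toAddSubgroup.map p := by
    intro U
    refine ⟨⟨U.toAddSubgroup.map p, ?_, ?_⟩, rfl⟩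
    · rw [AddSubgroup.coe_map]; exact hpo _ U.isOpen'
    · haveI := U.finiteIndex'
      refine ⟨fun h0 => AddSubgroup.FiniteIndex.index_ne_zero (H := U.toAddSubgroup) ?_⟩
      have := AddSubgroup.index_map_dvd U.toAddSubgroup hps
      rw [h0] at this
      exact Nat.eq_zero_of_zero_dvd this
  have hpi : ∀ a : A, p (i a) = 0 := by
    intro a
    have : i a ∈ p.ker := by rw [hex]; exact ⟨a, rfl⟩
    exact this
  apply le_antisymm
  · -- ker ≤ range
    intro y hy
    rw [AddMonoidHom.mem_ker] at hy
    have t_refl : ∀ (j : Pairs i) (x : A ⧸ j.1.1.toAddSubgroup),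
        QuotientAddGroup.map _ _ (AddMonoidHom.id A) (pairs_le_iff.mp (le_refl j)).1 x = x := by
      intro j x
      obtain ⟨b, rfl⟩ := QuotientAddGroup.mk_surjective x
      rfl
    have t_trans : ∀ {j j' j'' : Pairs i} (h : j ≤ j') (h' : j' ≤ j'') (x : A ⧸ j''.1.1.toAddSubgroup),
        QuotientAddGroup.map _ _ (AddMonoidHom.id A) (pairs_le_iff.mp h).1
          (QuotientAddGroup.map _ _ (AddMonoidHom.id A) (pairs_le_iff.mp h').1 x) =
        QuotientAddGroup.map _ _ (AddMonoidHom.id A) (pairs_le_iff.mp (h.trans h')).1 x := by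
      intro j j' j'' h h' x
      obtain ⟨b, rfl⟩ := QuotientAddGroup.mk_surjective x
      rfl
    let Y : ∀ j : Pairs i, Set (A ⧸ j.1.1.toAddSubgroup) := fun j =>
      {x | QuotientAddGroup.map _ _ i j.2 x = y.1 j.1.2}
    have hne : ∀ j, (Y j).Nonempty := by
      rintro ⟨⟨W, U⟩, hWU⟩
      obtain ⟨b, hb⟩ := QuotientAddGroup.mk_surjective (y.1 U)
      obtain ⟨V', hV'⟩ := hpU U
      have hle : U.toAddSubgroup ≤ (V'.comap p hp).toAddSubgroup := by
        show U.toAddSubgroup ≤ V'.toAddSubgroup.comap p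
        rw [hV']; exact AddSubgroup.le_comap_map _ _
      have h1 := y.2 U (V'.comap p hp) hle
      rw [← hb] at h1
      have h2 : (FICompl.map p hp y).1 V' = 0 := by rw [hy]; rfl
      have h3 : (FICompl.map p hp y).1 V' =
          QuotientAddGroup.map (V'.comap p hp).toAddSubgroup V'.toAddSubgroup p (V'.comap_le p)
            (y.1 (V'.comap p hp)) := rfl
      rw [h3, ← h1] at h2
      have h4 : p b ∈ V'.toAddSubgroup := by
        rw [← QuotientAddGroup.eq_zero_iff]
        exact h2
      rw [hV'] at h4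
      obtain ⟨u, hu, hpu⟩ := h4
      have h5 : b - u ∈ p.ker := by
        rw [AddMonoidHom.mem_ker, map_sub, hpu, sub_self]
      rw [hex] at h5
      obtain ⟨a, ha⟩ := h5
      refine ⟨QuotientAddGroup.mk a, ?_⟩
      show QuotientAddGroup.map _ _ i hWU (QuotientAddGroup.mk a) = y.1 U
      rw [QuotientAddGroup.map_mk, ← hb, ha]
      rw [QuotientAddGroup.eq]
      have : -(b - u) + b = u := by abel
      rw [this]
      exact hu
    have hY : ∀ {j j' : Pairs i} (h : j ≤ j') (x : A ⧸ j'.1.1.toAddSubgroup), x ∈ Y j' →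
        QuotientAddGroup.map _ _ (AddMonoidHom.id A) (pairs_le_iff.mp h).1 x ∈ Y j := by
      intro j j' h x hx
      obtain ⟨a, rfl⟩ := QuotientAddGroup.mk_surjective x
      have h1 : (QuotientAddGroup.mk (i a) : B ⧸ j'.1.2.toAddSubgroup) = y.1 j'.1.2 := hx
      have h2 := y.2 j'.1.2 j.1.2 (pairs_le_iff.mp h).2
      rw [← h1] at h2
      show QuotientAddGroup.map _ _ i j.2 (QuotientAddGroup.mk a) = y.1 j.1.2
      rw [← h2]
      rfl
    obtain ⟨xx, hxY, hxc⟩ := Groth.Agent.H9.InvLim.exists_compatible (J := Pairs i)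
      (fun j => A ⧸ j.1.1.toAddSubgroup)
      (fun {j j'} h => QuotientAddGroup.map _ _ (AddMonoidHom.id A) (pairs_le_iff.mp h).1)
      t_refl t_trans Y hne hY
    have htop : ∀ W : OpenFI A, W.toAddSubgroup ≤ (OpenFI.top B).toAddSubgroup.comap i :=
      fun W a _ => AddSubgroup.mem_top _
    let x : (W : OpenFI A) → A ⧸ W.toAddSubgroup := fun W => xx ⟨(W, OpenFI.top B), htop W⟩
    refine ⟨⟨x, ?_⟩, ?_⟩
    · intro W W' h
      exact hxc (j := ⟨(W', OpenFI.top B), htop W'⟩) (j' := ⟨(W, OpenFI.top B), htop W⟩)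
        (pairs_le_iff.mpr ⟨h, le_rfl⟩)
    · apply Subtype.ext
      funext U
      show QuotientAddGroup.map _ _ i (U.comap_le i) (x (U.comap i hi)) = y.1 U
      have h1 := hxc (j := ⟨(U.comap i hi, OpenFI.top B), htop _⟩)
        (j' := ⟨(U.comap i hi, U), le_refl _⟩) (pairs_le_iff.mpr ⟨le_rfl, le_top⟩)
      have h2 : xx ⟨(U.comap i hi, U), le_refl _⟩ = x (U.comap i hi) := by
        show _ = xx ⟨(U.comap i hi, OpenFI.top B), htop _⟩
        rw [← h1]
        obtain ⟨a, ha⟩ := QuotientAddGroup.mk_surjective (xx ⟨(U.comap i hi, U), le_refl _⟩)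
        rw [← ha]
        rfl
      rw [← h2]
      exact hxY ⟨(U.comap i hi, U), le_refl _⟩
  · -- range ≤ ker
    rintro _ ⟨x, rfl⟩
    rw [AddMonoidHom.mem_ker]
    apply Subtype.ext
    funext V'
    show QuotientAddGroup.map (V'.comap p hp).toAddSubgroup V'.toAddSubgroup p (V'.comap_le p)
      (QuotientAddGroup.map ((V'.comap p hp).comap i hi).toAddSubgroup (V'.comap p hp).toAddSubgroup i
        ((V'.comap p hp).comap_le i) (x.1 ((V'.comap p hp).comap i hi))) = 0
    obtain ⟨a, ha⟩ := QuotientAddGroup.mk_surjective (x.1 ((V'.comap p hp).comap i hi))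
    rw [← ha, QuotientAddGroup.map_mk, QuotientAddGroup.map_mk, hpi]
    rfl

end Part2

open W4c61motalbduality in
/-- Let i : A → B and p : B → C be continuous homomorphisms of topological abelian groups with p
surjective and open and with the kernel of p equal to the image of i. Then the induced sequence of
completions with respect to open subgroups of finite index, A^∧ → B^∧ → C^∧ → 0, is exact: the map
B^∧ → C^∧ is surjective and its kernel is the image of A^∧. The completion is the group of
compatible families of residues modulo all open subgroups of finite index. (The published statement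
takes i injective, as the first map of an exact sequence 0 → A → B → C → 0 of topological abelian
groups; here it is only assumed that the image of i is the kernel of p, which is all the proof
uses.) -/
theorem result
    {A : Type u} {B : Type v} {C : Type w}
    [AddCommGroup A] [TopologicalSpace A] [IsTopologicalAddGroup A]
    [AddCommGroup B] [TopologicalSpace B] [IsTopologicalAddGroup B]
    [AddCommGroup C] [TopologicalSpace C] [IsTopologicalAddGroup C]
    (i : A →+ B) (hi : Continuous i) (p : B →+ C) (hp : Continuous p)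
    (hpo : IsOpenMap p) (hps : Function.Surjective p) (hex : p.ker = i.range) :
    Function.Surjective (FICompl.map p hp) ∧ (FICompl.map p hp).ker = (FICompl.map i hi).range := by
  exact ⟨surj_part p hp hpo hps, ker_part i hi p hp hpo hps hex⟩

end Groth.Agent.S19172
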