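import Groth.Statements.S19173
import Mathlib
import Groth.Agent.Lib.Helper9.QmodZ
import Groth.Agent.S19170
import Groth.Agent.S19171

set_option autoImplicit false
universe u v
open ProCompl

namespace Groth.Agent.S19173

open W4c61motalbduality Topology in
/-- Let B be a Hausdorff, locally compact, totally disconnected topological abelian group generated as a
group by a compact subset, and let i : A → B be an injective continuous homomorphism inducing the
topology of A from that of B (a strict injection) with closed image. Then the map induced by i on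
completions with respect to open subgroups of finite index is injective; together with right
exactness for open surjections this makes 0 → A^∧ → B^∧ → C^∧ → 0 exact for a topological exact
sequence 0 → A → B → C → 0 with such B, strict closed i and open p. -/
theorem result
    {A : Type u} {B : Type v} [AddCommGroup A] [TopologicalSpace A] [IsTopologicalAddGroup A]
    [AddCommGroup B] [TopologicalSpace B] [IsTopologicalAddGroup B]
    [T2Space B] [LocallyCompactSpace B] [TotallyDisconnectedSpace B]
    (hcg : ∃ K : Set B, IsCompact K ∧ AddSubgroup.closure K = ⊤)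
    (i : A →+ B) (hi : Continuous i) (hinj : Function.Injective i) (hind : IsInducing i)
    (hcl : IsClosed (Set.range i)) :
    Function.Injective (FICompl.map i hi) := by
  open W4c61motalbduality in
  classical
  -- Step A
  have stepA : ∀ W : OpenFI A, ∃ V : OpenFI B, (V.comap i hi).toAddSubgroup ≤ W.toAddSubgroup := by
    intro W
    haveI := W.finiteIndex'
    haveI : Finite (A ⧸ W.toAddSubgroup) := AddSubgroup.finite_quotient_of_finiteIndex
    have h : ∀ q : {q : A ⧸ W.toAddSubgroup // q ≠ 0},
        ∃ ψ : B →+ ℚ ⧸ AddSubgroup.zmultiples (1 : ℚ), IsOpen (ψ.ker : Set B) ∧ ψ.ker.FiniteIndex ∧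
          ∀ a : A, (QuotientAddGroup.mk a : A ⧸ W.toAddSubgroup) = q.1 → ψ (i a) ≠ 0 := by
      intro q
      obtain ⟨c, hc⟩ := Groth.Agent.H9.QmodZ.exists_character_ne_zero q.2
      let χ : A →+ ℚ ⧸ AddSubgroup.zmultiples (1 : ℚ) := c.comp (QuotientAddGroup.mk' W.toAddSubgroup)
      have hχo : IsOpen (χ.ker : Set A) := by
        refine AddSubgroup.isOpen_mono (H₁ := W.toAddSubgroup) ?_ W.isOpen'
        intro u hu
        rw [AddMonoidHom.mem_ker]
        show c (QuotientAddGroup.mk' W.toAddSubgroup u) = 0
        rw [QuotientAddGroup.mk'_apply, (QuotientAddGroup.eq_zero_iff u).mpr hu, map_zero]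
      obtain ⟨ψ, hψo, hψ⟩ := Groth.Agent.S19171.result hcg i hi hinj hind hcl χ hχo
      refine ⟨ψ, hψo, Groth.Agent.S19170.result hcg ψ hψo, ?_⟩
      intro a ha
      have : ψ (i a) = χ a := by rw [← hψ]; rfl
      rw [this]
      show c (QuotientAddGroup.mk' W.toAddSubgroup a) ≠ 0
      rw [QuotientAddGroup.mk'_apply, ha]
      exact hc
    choose ψ hψo hψf hψq using h
    refine ⟨⟨⨅ q, (ψ q).ker, ?_, ?_⟩, ?_⟩
    · rw [AddSubgroup.coe_iInf]
      exact isOpen_iInter_of_finite hψo
    · exact AddSubgroup.finiteIndex_iInf hψf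
    · intro a ha
      by_contra haW
      have hq : (QuotientAddGroup.mk a : A ⧸ W.toAddSubgroup) ≠ 0 := by
        rwa [Ne, QuotientAddGroup.eq_zero_iff]
      have h1 : i a ∈ ⨅ q, (ψ q).ker := ha
      rw [AddSubgroup.mem_iInf] at h1
      exact hψq ⟨_, hq⟩ a rfl (AddMonoidHom.mem_ker.mp (h1 ⟨_, hq⟩))
  rw [injective_iff_map_eq_zero]
  intro x hx
  apply Subtype.ext
  funext W
  show x.1 W = 0
  obtain ⟨V, hV⟩ := stepA W
  -- Step B
  have hB : x.1 (V.comap i hi) = 0 := by
    have h1 : (FICompl.map i hi x).1 V = 0 := by rw [hx]; rfl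
    obtain ⟨a, ha⟩ := QuotientAddGroup.mk_surjective (x.1 (V.comap i hi))
    have h2 : (FICompl.map i hi x).1 V =
        QuotientAddGroup.map (V.comap i hi).toAddSubgroup V.toAddSubgroup i (V.comap_le i)
          (x.1 (V.comap i hi)) := rfl
    rw [h2, ← ha, QuotientAddGroup.map_mk, QuotientAddGroup.eq_zero_iff] at h1
    rw [← ha, QuotientAddGroup.eq_zero_iff]
    exact h1
  have hC := x.2 (V.comap i hi) W hV
  rw [hB, map_zero] at hC
  exact hC.symm

end Groth.Agent.S19173
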