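import Groth.Statements.S19177
import Mathlib

set_option autoImplicit false
universe u
open CAlg

namespace Groth.Agent.S19177

/-- Let S → R be a homomorphism of commutative rings making R a finitely generated projective S-module
of rank 2 at every prime of S (the affine form of a finite locally free morphism of degree 2). Then
the cokernel of the (injective) structure map S → R, the S-module R/S, is a projective S-module of
rank 1 at every prime of S (locally free of rank 1). -/
theorem result
    (S R : Type u) [CommRing S] [CommRing R] [Algebra S R] [Module.Finite S R] [Module.Projective S R]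
    (h2 : ∀ p : PrimeSpectrum S, Module.rankAtStalk (R := S) R p = 2) :
    Module.Projective S (R ⧸ LinearMap.range (Algebra.linearMap S R)) ∧
      ∀ p : PrimeSpectrum S,
        Module.rankAtStalk (R := S) (R ⧸ LinearMap.range (Algebra.linearMap S R)) p = 1 := by
  classical
  have hinj : Function.Injective (algebraMap S R) :=
    Module.rankAtStalk_pos_iff_algebraMap_injective.1 (fun p => by rw [h2 p]; norm_num)
  -- the evaluation-at-1 ideal
  let ev : (R →ₗ[S] S) →ₗ[S] S := LinearMap.applyₗ (1 : R)
  have hJ : LinearMap.range ev = ⊤ := by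
    by_contra hne
    obtain ⟨m, hm, hJm⟩ := Ideal.exists_le_maximal (LinearMap.range ev : Ideal S) hne
    -- dual basis
    obtain ⟨n, f, hf⟩ := Module.Finite.exists_fin' S R
    obtain ⟨g, hg⟩ := Module.projective_lifting_property f LinearMap.id hf
    have h1 : (1 : R) = ∑ i, (g 1) i • f (Pi.single i 1) := by
      have : (1 : R) = f (g 1) := (LinearMap.congr_fun hg 1).symm
      conv_lhs => rw [this, ← Finset.univ_sum_single (g 1)]
      rw [map_sum]
      apply Finset.sum_congr rfl
      intro i _
      rw [← map_smul]
      congr 1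
      ext j
      simp [Pi.single_apply]
    have h1m : (1 : R) ∈ Ideal.map (algebraMap S R) m := by
      rw [h1]
      apply Ideal.sum_mem
      intro i _
      rw [Algebra.smul_def]
      apply Ideal.mul_mem_right
      apply Ideal.mem_map_of_mem
      apply hJm
      exact ⟨(LinearMap.proj i) ∘ₗ g, rfl⟩
    have : Algebra.IsIntegral S R := inferInstance
    obtain ⟨P, -, hP, hPm⟩ := Ideal.exists_ideal_over_prime_of_isIntegral m (⊥ : Ideal R)
      (by rw [Ideal.comap_bot_of_injective _ hinj]; exact bot_le)
    have : Ideal.map (algebraMap S R) m ≤ P := by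
      rw [Ideal.map_le_iff_le_comap, hPm]
    exact hP.ne_top ((Ideal.eq_top_iff_one _).2 (this h1m))
  obtain ⟨φ, hφ⟩ : ∃ φ : R →ₗ[S] S, φ 1 = 1 := by
    have : (1 : S) ∈ LinearMap.range ev := by rw [hJ]; trivial
    exact this
  set Q := R ⧸ LinearMap.range (Algebra.linearMap S R) with hQ
  let π : R →ₗ[S] Q := (LinearMap.range (Algebra.linearMap S R)).mkQ
  let τ : R →ₗ[S] R := LinearMap.id - (Algebra.linearMap S R) ∘ₗ φ
  have hτ : ∀ x, τ x = x - algebraMap S R (φ x) := fun x => rfl
  let σ : Q →ₗ[S] R := (LinearMap.range (Algebra.linearMap S R)).liftQ τ (by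
    rintro _ ⟨s, rfl⟩
    rw [LinearMap.mem_ker, hτ]
    simp only [Algebra.linearMap_apply]
    rw [Algebra.algebraMap_eq_smul_one s, map_smul, hφ, smul_eq_mul, mul_one,
      Algebra.algebraMap_eq_smul_one, sub_self])
  have hσ : ∀ x, σ (π x) = x - algebraMap S R (φ x) := fun x => rfl
  have hπ : ∀ s : S, π (algebraMap S R s) = 0 := by
    intro s
    exact (Submodule.Quotient.mk_eq_zero _).2 ⟨s, rfl⟩
  have hπσ : π ∘ₗ σ = LinearMap.id := by
    apply LinearMap.ext
    intro q
    obtain ⟨x, rfl⟩ := (LinearMap.range (Algebra.linearMap S R)).mkQ_surjective q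
    show π (σ (π x)) = π x
    rw [hσ, map_sub, hπ, sub_zero]
  have hproj : Module.Projective S Q := Module.Projective.of_split σ π hπσ
  refine ⟨hproj, fun p => ?_⟩
  have : Nontrivial S := p.isPrime.ne_top |> fun h => by
    by_contra hnt
    rw [not_nontrivial_iff_subsingleton] at hnt
    exact h (Subsingleton.elim _ _)
  let e : R ≃ₗ[S] S × Q := LinearEquiv.ofLinearMap (φ.prod π)
    ((Algebra.linearMap S R).coprod σ)
    (by
      apply LinearMap.ext
      rintro ⟨s, q⟩
      obtain ⟨x, rfl⟩ := (LinearMap.range (Algebra.linearMap S R)).mkQ_surjective q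
      have : σ (π x) = x - algebraMap S R (φ x) := hσ x
      simp only [LinearMap.comp_apply, LinearMap.coprod_apply, LinearMap.prod_apply,
        Algebra.linearMap_apply, LinearMap.id_apply]
      change (φ (algebraMap S R s + σ (π x)), π (algebraMap S R s + σ (π x))) = (s, π x)
      rw [this, map_add, map_add, map_sub, map_sub, hπ, hπ,
        Algebra.algebraMap_eq_smul_one, map_smul, hφ,
        Algebra.algebraMap_eq_smul_one, map_smul, hφ]
      simp)
    (by
      apply LinearMap.ext
      intro x
      simp only [LinearMap.comp_apply, LinearMap.coprod_apply, LinearMap.prod_apply,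
        Algebra.linearMap_apply, LinearMap.id_apply]
      change algebraMap S R (φ x) + σ (π x) = x
      rw [hσ]; ring)
  have h3 := Module.rankAtStalk_eq_of_equiv e
  have h4 := Module.rankAtStalk_prod (R := S) S Q
  have h5 := congrFun h3 p
  rw [h4, h2 p] at h5
  simp only [Pi.add_apply, Module.rankAtStalk_self, Pi.one_apply] at h5
  change 2 = 1 + Module.rankAtStalk Q p at h5
  change Module.rankAtStalk Q p = 1
  omega

end Groth.Agent.S19177
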