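import Groth.Statements.S19178
import Groth.Agent.Lib.Helper7.WeierIrr
-- import your own Groth.Agent.* helpers here

set_option autoImplicit false
universe u
open Curves

namespace Groth.Agent.S19178

/-- For every field k and every choice of coefficients a₁, a₂, a₃, a₄, a₆ in k, the homogeneous
Weierstrass cubic Y²Z + a₁XYZ + a₃YZ² − (X³ + a₂X²Z + a₄XZ² + a₆Z³) is an irreducible polynomial in
k[X, Y, Z]. Applied to all fields, this says every fibre of the Weierstrass family over the affine
space of coefficients is geometrically integral. -/
theorem result (k : Type u) [Field k]
    (W : WeierstrassCurve k) :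
    Irreducible (WeierstrassCurve.Projective.polynomial W) := by
  exact Groth.Agent.H7.WeierIrr.irreducible W

end Groth.Agent.S19178
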