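import Groth.Statements.S19193
import Mathlib

set_option autoImplicit false
universe u
open CategoryTheory Opposite TopologicalSpace
open CohTop

namespace Groth.Agent.S19193

open W4c6blochformula0cyc
namespace H9Cech

variable {X : Type u} [TopologicalSpace X]

theorem res_res (F : (Opens X)ᵒᵖ ⥤ AddCommGrpCat.{u}) {V W Z : Opens X} (h₁ : W ≤ V) (h₂ : Z ≤ W)
    (x : F.obj (op V)) : res F h₂ (res F h₁ x) = res F (h₂.trans h₁) x := by
  have : F.map (homOfLE (h₂.trans h₁)).op = F.map (homOfLE h₁).op ≫ F.map (homOfLE h₂).op := by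
    rw [← F.map_comp]; rfl
  show (F.map (homOfLE h₂).op).hom ((F.map (homOfLE h₁).op).hom x) = (F.map (homOfLE (h₂.trans h₁)).op).hom x
  rw [this]; rfl

theorem res_self (F : (Opens X)ᵒᵖ ⥤ AddCommGrpCat.{u}) {V : Opens X} (h : V ≤ V)
    (x : F.obj (op V)) : res F h x = x := by
  have : F.map (homOfLE h).op = 𝟙 _ := by
    rw [← F.map_id]; rfl
  show (F.map (homOfLE h).op).hom x = x
  rw [this]; rfl

theorem transportE (F : (Opens X)ᵒᵖ ⥤ AddCommGrpCat.{u}) {ι : Type u} (U : ι → Opens X)
    (E : ∀ (V : Opens X) (α : ι), F.obj (op (V ⊓ U α)) →+ F.obj (op V))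
    (V V' : Opens X) (h : V = V') (α : ι) (g : F.obj (op (V' ⊓ U α))) :
    res F (le_of_eq h) (E V' α g) = E V α (res F (inf_le_inf_right _ (le_of_eq h)) g) := by
  subst h
  rw [res_self, res_self]

theorem transportf (F : (Opens X)ᵒᵖ ⥤ AddCommGrpCat.{u}) {ι : Type u} (U : ι → Opens X) {n : ℕ}
    (f : Cochain F U n) (s s' : Fin n → ι) (h : s = s') (W : Opens X)
    (hW : W ≤ cechOpen U s) (hW' : W ≤ cechOpen U s') :
    res F hW (f s) = res F hW' (f s') := by
  subst h; rfl

theorem cechOpen_eq {ι : Type u} (U : ι → Opens X) {n : ℕ} (t : Fin (n + 1) → ι) (i : Fin (n + 1)) :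
    cechOpen U t = cechOpen U (t ∘ i.succAbove) ⊓ U (t i) := by
  apply le_antisymm
  · exact le_inf (cechOpen_le_comp U t i) (iInf_le (fun j => U (t j)) i)
  · refine le_iInf fun j => ?_
    rcases eq_or_ne j i with rfl | hne
    · exact inf_le_right
    · obtain ⟨k, rfl⟩ := Fin.exists_succAbove_eq hne
      exact inf_le_left.trans (iInf_le (fun k => U ((t ∘ i.succAbove) k)) k)

theorem cons_comp_succAbove_succ {ι : Type u} {n : ℕ} (α : ι) (t : Fin (n + 1) → ι) (i : Fin (n + 1)) :
    (Fin.cons α t : Fin (n + 2) → ι) ∘ (Fin.succ i).succAbove = Fin.cons α (t ∘ i.succAbove) := by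
  funext k
  refine Fin.cases ?_ (fun k' => ?_) k
  · simp
  · simp

theorem cons_comp_succAbove_zero {ι : Type u} {n : ℕ} (α : ι) (t : Fin n → ι) :
    (Fin.cons α t : Fin (n + 1) → ι) ∘ (0 : Fin (n + 1)).succAbove = t := by
  funext k
  simp

/-- the key commutation of restriction with the extension maps -/
theorem key (F : (Opens X)ᵒᵖ ⥤ AddCommGrpCat.{u}) {ι : Type u} (U : ι → Opens X)
    (E : ∀ (V : Opens X) (α : ι), F.obj (op (V ⊓ U α)) →+ F.obj (op V))
    (h3 : ∀ (m : ℕ) (t : Fin (m + 1) → ι) (α β : ι) (g : F.obj (op (cechOpen U t ⊓ U α))),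
      res F inf_le_left (E (cechOpen U t) α g) =
        E (cechOpen U t ⊓ U β) α (res F (inf_le_inf_right (U α) inf_le_left) g))
    (n : ℕ) (t : Fin (n + 2) → ι) (i : Fin (n + 2)) (α : ι)
    (g : F.obj (op (cechOpen U (t ∘ i.succAbove) ⊓ U α))) :
    res F (cechOpen_le_comp U t i) (E (cechOpen U (t ∘ i.succAbove)) α g) =
      E (cechOpen U t) α (res F (inf_le_inf_right (U α) (cechOpen_le_comp U t i)) g) := by
  have hV := cechOpen_eq U t i
  have e1 : res F (cechOpen_le_comp U t i) (E (cechOpen U (t ∘ i.succAbove)) α g)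
      = res F (le_of_eq hV) (res F inf_le_left (E (cechOpen U (t ∘ i.succAbove)) α g)) := by
    rw [res_res]
  rw [e1, h3 n (t ∘ i.succAbove) α (t i) g, transportE F U E _ _ hV, res_res]

theorem main (F : (Opens X)ᵒᵖ ⥤ AddCommGrpCat.{u}) {ι : Type u} [Fintype ι] (U : ι → Opens X)
    (E : ∀ (V : Opens X) (α : ι), F.obj (op (V ⊓ U α)) →+ F.obj (op V))
    (h2 : ∀ (m : ℕ) (t : Fin (m + 1) → ι) (f : F.obj (op (cechOpen U t))),
      ∑ α, E (cechOpen U t) α (res F inf_le_left f) = f)
    (h3 : ∀ (m : ℕ) (t : Fin (m + 1) → ι) (α β : ι) (g : F.obj (op (cechOpen U t ⊓ U α))),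
      res F inf_le_left (E (cechOpen U t) α g) =
        E (cechOpen U t ⊓ U β) α (res F (inf_le_inf_right (U α) inf_le_left) g))
    (n : ℕ) (f : Cochain F U (n + 2)) :
    homotopy F U E (n + 2) (delta F U (n + 2) f) + delta F U (n + 1) (homotopy F U E (n + 1) f) = f := by
  funext t
  -- the common terms
  let C : ι → Fin (n + 2) → F.obj (op (cechOpen U t)) := fun α i =>
    E (cechOpen U t) α (res F ((inf_le_inf_right (U α) (cechOpen_le_comp U t i)).trans
      (inf_le_cechOpen_cons U (t ∘ i.succAbove) α)) (f (Fin.cons α (t ∘ i.succAbove))))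
  have hA : (homotopy F U E (n + 2) (delta F U (n + 2) f)) t
      = f t + ∑ α, ∑ i : Fin (n + 2), ((-1 : ℤ) ^ ((i : ℕ) + 1)) • C α i := by
    have h0 : (homotopy F U E (n + 2) (delta F U (n + 2) f)) t
        = ∑ α : ι, E (cechOpen U t) α (res F (inf_le_cechOpen_cons U t α)
            ((delta F U (n + 2) f) (Fin.cons α t))) := rfl
    have h1 : ∀ α : ι, (delta F U (n + 2) f) (Fin.cons α t)
        = ∑ j : Fin (n + 3), ((-1 : ℤ) ^ (j : ℕ)) •
            res F (cechOpen_le_comp U (Fin.cons α t : Fin (n + 3) → ι) j)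
              (f ((Fin.cons α t : Fin (n + 3) → ι) ∘ j.succAbove)) := fun α => rfl
    rw [h0]
    have h4 : ∀ α : ι, E (cechOpen U t) α (res F (inf_le_cechOpen_cons U t α)
            ((delta F U (n + 2) f) (Fin.cons α t)))
        = E (cechOpen U t) α (res F inf_le_left (f t))
          + ∑ i : Fin (n + 2), ((-1 : ℤ) ^ ((i : ℕ) + 1)) • C α i := by
      intro α
      rw [h1 α, Fin.sum_univ_succ, map_add, map_add, map_sum, map_sum]
      congr 1
      · simp only [Fin.val_zero, pow_zero, one_smul]
        rw [res_res]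
        congr 1
      · refine Finset.sum_congr rfl fun i _ => ?_
        rw [map_zsmul, map_zsmul, res_res]
        simp only [Fin.val_succ]
        congr 2
        exact transportf F U f _ _ (cons_comp_succAbove_succ α t i) _ _ _
    rw [Finset.sum_congr rfl (fun α _ => h4 α), Finset.sum_add_distrib, h2 (n + 1) t (f t)]
  have hB : (delta F U (n + 1) (homotopy F U E (n + 1) f)) t
      = ∑ i : Fin (n + 2), ((-1 : ℤ) ^ (i : ℕ)) • ∑ α, C α i := by
    have h0 : (delta F U (n + 1) (homotopy F U E (n + 1) f)) t
        = ∑ i : Fin (n + 2), ((-1 : ℤ) ^ (i : ℕ)) • res F (cechOpen_le_comp U t i)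
            ((homotopy F U E (n + 1) f) (t ∘ i.succAbove)) := rfl
    have h1 : ∀ i : Fin (n + 2), (homotopy F U E (n + 1) f) (t ∘ i.succAbove)
        = ∑ α : ι, E (cechOpen U (t ∘ i.succAbove)) α
            (res F (inf_le_cechOpen_cons U (t ∘ i.succAbove) α) (f (Fin.cons α (t ∘ i.succAbove)))) :=
      fun i => rfl
    rw [h0]
    refine Finset.sum_congr rfl fun i _ => ?_
    rw [h1 i, map_sum]
    congr 1
    refine Finset.sum_congr rfl fun α _ => ?_
    rw [key F U E h3 n t i α, res_res]
  show (homotopy F U E (n + 2) (delta F U (n + 2) f)) t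
    + (delta F U (n + 1) (homotopy F U E (n + 1) f)) t = f t
  rw [hA, hB, Finset.sum_comm]
  simp only [Finset.smul_sum, pow_succ, mul_neg, mul_one, neg_smul, Finset.sum_neg_distrib]
  abel

end H9Cech

open W4c6blochformula0cyc in
/-- Let `F` be a presheaf of abelian groups on a topological space `X`, `U` a family of opens of `X`
indexed by a finite type, and suppose given, for every open `V` and every index `α`, an additive map
`E V α : F(V ∩ U_α) → F(V)` such that for every nonempty tuple of indices `t`, with `V = U_{t_0} ∩ ⋯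
∩ U_{t_m}`: (i) `∑_α E V α (f|_{V ∩ U_α}) = f` for all `f ∈ F(V)`, and (ii) `(E V α g)|_{V ∩ U_β} =
E (V ∩ U_β) α (g|_{V ∩ U_β ∩ U_α})` for all indices `α, β` and all `g ∈ F(V ∩ U_α)`. Then the
operator `H` on ordered Čech cochains, `(H f)_t = ∑_α E (U_t) α (f_{(α, t)})`, satisfies `H (δ f) +
δ (H f) = f` for every Čech cochain `f` on tuples of length at least `2`, i.e. in every Čech degree
`≥ 1`. (The published statement takes a flasque sheaf on an open cover and extension maps attached
to pairs of finite intersections; this row takes any presheaf, any finite family of opens, and maps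
that may depend on the index, none of which the printed argument needs. The published statement also
asserts the identity in every degree of the Čech complex without augmentation term, and allows an
infinite index set with finitely supported sums; in Čech degree `0`, where that complex has no term
below and the identity reads `H (δ f) = f`, it fails in general — for the one-member cover of a
point and the constant presheaf `ℤ` with `E` the identity, `δ f` vanishes on the pair while `f` need
not — so it is stated here from degree `1` on, i.e. for cochains on tuples of length at least `2`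
(the whole-space term on the empty tuple carried by the cochain groups used here plays no role), and
for a finite index type.) -/
theorem result {X : Type u} [TopologicalSpace X]
    {ι : Type u} [Fintype ι] (F : (Opens X)ᵒᵖ ⥤ AddCommGrpCat.{u}) (U : ι → Opens X)
    (E : ∀ (V : Opens X) (α : ι), F.obj (op (V ⊓ U α)) →+ F.obj (op V))
    (h2 : ∀ (m : ℕ) (t : Fin (m + 1) → ι) (f : F.obj (op (cechOpen U t))),
      ∑ α, E (cechOpen U t) α (res F inf_le_left f) = f)
    (h3 : ∀ (m : ℕ) (t : Fin (m + 1) → ι) (α β : ι) (g : F.obj (op (cechOpen U t ⊓ U α))),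
      res F inf_le_left (E (cechOpen U t) α g) =
        E (cechOpen U t ⊓ U β) α (res F (inf_le_inf_right (U α) inf_le_left) g))
    (n : ℕ) (f : Cochain F U (n + 2)) :
    homotopy F U E (n + 2) (delta F U (n + 2) f) + delta F U (n + 1) (homotopy F U E (n + 1) f) = f := by
  exact H9Cech.main F U E h2 h3 n f

end Groth.Agent.S19193
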