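import Groth.Statements.S19196
import Mathlib

set_option autoImplicit false
universe u
open RelS1

namespace Groth.Agent.S19196

/-- Let R be a Noetherian commutative ring and N a finitely generated R-module which fails Serre's
condition (S_1), in the sense that some associated prime of N is not a minimal prime of the
annihilator of N. Then there exist an element a of R lying in no minimal prime of the annihilator of
N and a nonzero element b of N with a • b = 0; thus the basic open set D(a) meets the support of N
densely while restriction to it is not injective on N. -/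
theorem result (R N : Type u) [CommRing R] [IsNoetherianRing R]
    [AddCommGroup N] [Module R N] [Module.Finite R N]
    (h : ¬ associatedPrimes R N ⊆ (Module.annihilator R N).minimalPrimes) :
    ∃ (a : R) (b : N), (∀ P ∈ (Module.annihilator R N).minimalPrimes, a ∉ P) ∧ b ≠ 0 ∧ a • b = 0 := by
  classical
  rw [Set.not_subset] at h
  obtain ⟨p, hp, hpmin⟩ := h
  haveI hpp : p.IsPrime := hp.isPrime
  obtain ⟨-, b, hb⟩ := (isAssociatedPrime_iff (M := N)).mp hp
  have hb0 : b ≠ 0 := by
    intro h0
    apply hpp.ne_top
    rw [hb, h0, Ideal.eq_top_iff_one, Submodule.mem_colon_singleton, smul_zero]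
    exact Submodule.zero_mem _
  have hann : Module.annihilator R N ≤ p := by
    intro r hr
    rw [hb, Submodule.mem_colon_singleton, Submodule.mem_bot]
    exact Module.mem_annihilator.mp hr b
  have hfin := (Module.annihilator R N).finite_minimalPrimes_of_isNoetherianRing R
  have hnot : ¬ ((p : Set R) ⊆ ⋃ P ∈ (↑hfin.toFinset : Set (Ideal R)), (P : Set R)) := by
    rw [Ideal.subset_union_prime (f := fun P : Ideal R => P) ⊥ ⊥ (fun P hP _ _ =>
      ((Set.Finite.mem_toFinset hfin).mp hP).1.1)]
    rintro ⟨P, hP, hle⟩
    have hPmin := (Set.Finite.mem_toFinset hfin).mp hP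
    apply hpmin
    have : p = P := le_antisymm hle (hPmin.2 ⟨hpp, hann⟩ hle)
    rw [this]
    exact hPmin
  rw [Set.not_subset] at hnot
  obtain ⟨a, hap, ha⟩ := hnot
  refine ⟨a, b, ?_, hb0, ?_⟩
  · intro P hP haP
    apply ha
    simp only [Set.mem_iUnion]
    exact ⟨P, (Set.Finite.mem_toFinset hfin).mpr hP, haP⟩
  · have : a ∈ p := hap
    rw [hb, Submodule.mem_colon_singleton, Submodule.mem_bot] at this
    exact this

end Groth.Agent.S19196
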