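import Groth.Statements.S19205
import Groth.Agent.Lib.Helper5.Curve6.Cliff

set_option autoImplicit false
universe u
open CategoryTheory AlgebraicGeometry
open Curves

namespace Groth.Agent.S19205

/-- Let C be a smooth projective curve of genus g over an algebraically closed field k (an integral
scheme, proper over k, of dimension one, all local rings regular) and d an integer with d ≥ 2g. For
every invertible O_C-module M of degree d' ≤ d having at least m + 1 linearly independent global
sections with m ≥ 1, one has d·m ≤ d'·(d − g). Linear semi-stability of C mapped to P^{d−g} by all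
sections of a line bundle of degree d ≥ 2g, which is what the published statement asserts, follows
from this inequality (reduced degrees d'/m of projections of that image are at least d/(d − g));
linear semi-stability itself is not formalized here. -/
theorem result (k : Type u) [Field k] [IsAlgClosed k] (X : Scheme.{u})
    [X.Over (Spec (CommRingCat.of k))] [IsIntegral X] [IsProper (X ↘ (Spec (CommRingCat.of k)))]
    (hdim : topologicalKrullDim X = 1) (hreg : ∀ x : X, IsRegularLocalRing (X.presheaf.stalk x))
    (d : ℤ) (hd : 2 * (Curv2.genus k X : ℤ) ≤ d)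
    (M : X.Modules) (hM : PicF.IsInvertible M) (m : ℕ) (hm : 1 ≤ m)
    (hsec : m + 1 ≤ Module.finrank k (Coh.HH X M 0)) (hdeg : Curv2.deg k X M 1 ≤ d) :
    d * (m : ℤ) ≤ Curv2.deg k X M 1 * (d - Curv2.genus k X) := by
  haveI : M.IsQuasicoherent := Groth.Agent.LD.QC.qc_of_isInvertible M hM
  have hMc := Groth.Agent.H5.Curve2.isCoh_of_isInvertible hM
  have hd' := Groth.Agent.H5.Curve6.deg_eq_h0_sub_h1 k X hdim M
  have hmz : (1 : ℤ) ≤ m := by exact_mod_cast hm
  have hsecz : (m : ℤ) + 1 ≤ Module.finrank k (Coh.HH X M 0) := by exact_mod_cast hsec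
  have hg0 : (0 : ℤ) ≤ Curv2.genus k X := Int.natCast_nonneg _
  have hd0 : (0 : ℤ) ≤ d := by linarith
  by_cases h1 : Module.finrank k (Coh.HH X M 1) = 0
  · -- nonspecial
    rw [h1] at hd'
    push_cast at hd'
    have hm' : (m : ℤ) ≤ Curv2.deg k X M 1 - Curv2.genus k X := by linarith
    have h2 : d * (m : ℤ) ≤ d * (Curv2.deg k X M 1 - Curv2.genus k X) :=
      mul_le_mul_of_nonneg_left hm' hd0
    have h3 : Curv2.deg k X M 1 * (Curv2.genus k X : ℤ) ≤ d * (Curv2.genus k X : ℤ) :=
      mul_le_mul_of_nonneg_right hdeg hg0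
    nlinarith
  · -- special: Clifford
    have h1' : 1 ≤ Module.finrank k (Coh.HH X M 1) := Nat.one_le_iff_ne_zero.mpr h1
    have h0' : 1 ≤ Module.finrank k (Coh.HH X M 0) := by omega
    have hcl := Groth.Agent.H5.Curve6.two_mul_h0_le_deg_add_two k X hdim hreg M hM h0' h1'
    have hm2 : 2 * (m : ℤ) ≤ Curv2.deg k X M 1 := by linarith
    have hdp : (0 : ℤ) ≤ Curv2.deg k X M 1 := by linarith
    have h2 : d * (2 * (m : ℤ)) ≤ d * Curv2.deg k X M 1 := mul_le_mul_of_nonneg_left hm2 hd0
    have h3 : Curv2.deg k X M 1 * (2 * (Curv2.genus k X : ℤ)) ≤ Curv2.deg k X M 1 * d :=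
      mul_le_mul_of_nonneg_left hd hdp
    nlinarith

end Groth.Agent.S19205
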