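import Groth.Statements.S19208
import Mathlib
import Groth.Agent.Lib.Helper1.HS7

set_option autoImplicit false
universe u
open Filter
open LocAlg

namespace Groth.Agent.S19208

open Groth.Agent.Lib.Helper1.HS Polynomial

theorem finite_maxSpec (O : Type u) [CommRing O] [IsLocalRing O] : Finite (MaximalSpectrum O) := by
  have : Subsingleton (MaximalSpectrum O) := by
    constructor
    intro a b
    ext1
    rw [IsLocalRing.eq_maximalIdeal a.isMaximal, IsLocalRing.eq_maximalIdeal b.isMaximal]
  infer_instance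

theorem length_ring_quot (O : Type u) [CommRing O] (J : Ideal O) :
    Module.length O (O ⧸ J) = Module.length O (O ⧸ (J • ⊤ : Submodule O O)) := by
  have h : (J • ⊤ : Submodule O O) = J := by
    show J • (⊤ : Ideal O) = J
    rw [smul_eq_mul, Ideal.mul_top]
  exact (Submodule.quotEquivOfEq _ _ h).length_eq.symm

theorem aux (O : Type u) [CommRing O] [IsNoetherianRing O]
    [IsLocalRing O] (r : ℕ) (hr : ringKrullDim O = r) (ε : ℝ) (hε : 0 < ε) :
    ∃ (I : Ideal O) (e : ℝ), I ≤ IsLocalRing.maximalIdeal O ∧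
      (∃ N : ℕ, IsLocalRing.maximalIdeal O ^ N ≤ I) ∧
      Tendsto (fun n : ℕ => (r.factorial : ℝ) * ((Module.length O (O ⧸ I ^ n)).toNat : ℝ) / (n : ℝ) ^ r)
        atTop (nhds e) ∧
      (1 - ε) * ((r.factorial : ℝ) * ((Module.length O (O ⧸ I)).toNat : ℝ)) ≤ e := by
  set m := IsLocalRing.maximalIdeal O with hm
  have hfinspec := finite_maxSpec O
  have hAI : IsFiniteLength O (O ⧸ m) := isFiniteLength_quotient_of_pow_le m ⟨1, by rw [pow_one]⟩
  have hM := isFiniteLength_quotient_smul_top hAI O
  set P := hsPoly m O with hPdef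
  have hP : IsHSPoly m O P := isHSPoly_hsPoly hM
  have hjac : Ring.jacobson O = m := by
    rw [← Ideal.jacobson_bot]
    exact IsLocalRing.jacobson_eq_maximalIdeal ⊥ bot_ne_top
  have hdeg : P.natDegree = r := by
    have h1 := natDegree_hsPoly_jacobson (A := O) O
    rw [hjac, Module.supportDim_self_eq_ringKrullDim, hr] at h1
    exact_mod_cast h1
  obtain ⟨n₁, h₁⟩ := hP
  -- chi versus the ring quotient
  have hchi : ∀ (J : Ideal O) (k : ℕ), (Module.length O (O ⧸ J ^ k)).toNat = chi J O k := by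
    intro J k
    rw [chi, length_ring_quot]
  -- positivity
  have hchipos : ∀ n : ℕ, 1 ≤ n → 1 ≤ chi m O n := by
    intro n hn
    have hne : m ^ n ≠ ⊤ := by
      intro h
      have : m = ⊤ := by
        rw [Ideal.eq_top_iff_one] at h ⊢
        exact Ideal.pow_le_self (by omega) h
      exact (IsLocalRing.maximalIdeal.isMaximal O).ne_top this
    have hnt : Nontrivial (O ⧸ m ^ n) := Ideal.Quotient.nontrivial_iff.mpr hne
    have hpos : 0 < Module.length O (O ⧸ m ^ n) := Module.length_pos
    have hfin : Module.length O (O ⧸ m ^ n) ≠ ⊤ := by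
      rw [length_ring_quot]
      exact Module.length_ne_top_iff.mpr (isFiniteLength_quotient_pow hM n)
    rw [← hchi]
    obtain ⟨k, hk⟩ := ENat.ne_top_iff_exists.mp hfin
    rw [← hk] at hpos ⊢
    rw [ENat.toNat_natCast]
    have : 0 < k := by exact_mod_cast hpos
    omega
  -- leading coefficient
  have hlc : 0 < P.leadingCoeff := by
    refine leadingCoeff_pos_of_eventually_one_le P ⟨max n₁ 1, fun n hn => ?_⟩
    rw [← h₁ n (le_trans (le_max_left _ _) hn)]
    exact_mod_cast hchipos n (le_trans (le_max_right _ _) hn)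
  set a : ℝ := ((P.coeff r : ℚ) : ℝ) with ha
  have hapos : 0 < a := by
    rw [ha, ← hdeg]
    exact_mod_cast hlc
  -- choice of `n`
  have hlim : Tendsto (fun t : ℕ => (1 - ε) * (((P.eval (t : ℚ) : ℚ) : ℝ) / (t : ℝ) ^ r)) atTop
      (nhds ((1 - ε) * a)) := (tendsto_eval_div_pow P r hdeg.le).const_mul (1 - ε)
  have hlt : (1 - ε) * a < a := by nlinarith
  obtain ⟨n, hn⟩ := ((hlim.eventually (eventually_lt_nhds hlt)).and
    (eventually_ge_atTop (max n₁ 1))).exists
  obtain ⟨hn1, hn2⟩ := hn
  have hnn₁ : n₁ ≤ n := le_trans (le_max_left _ _) hn2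
  have hn1' : 1 ≤ n := le_trans (le_max_right _ _) hn2
  have hnpos : (0 : ℝ) < (n : ℝ) := by exact_mod_cast hn1'
  refine ⟨m ^ n, (r.factorial : ℝ) * (a * (n : ℝ) ^ r), Ideal.pow_le_self (by omega), ⟨n, le_rfl⟩,
    ?_, ?_⟩
  · -- the limit
    have hQ : IsHSPoly (m ^ n) O (P.comp (C (n : ℚ) * X)) := by
      refine ⟨n₁, fun k hk => ?_⟩
      rw [chi_pow, eval_comp, eval_mul, eval_C, eval_X]
      have hk' : n₁ ≤ n * k := by
        calc n₁ ≤ k := hk
          _ = 1 * k := (one_mul k).symm
          _ ≤ n * k := Nat.mul_le_mul_right k hn1'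
      have := h₁ (n * k) hk'
      rw [Nat.cast_mul] at this
      exact this
    have hQdeg : (P.comp (C (n : ℚ) * X)).natDegree ≤ r := by
      refine natDegree_comp_le.trans ?_
      have : (C (n : ℚ) * X).natDegree ≤ 1 := (natDegree_C_mul_le _ _).trans natDegree_X_le
      calc P.natDegree * (C (n : ℚ) * X).natDegree ≤ P.natDegree * 1 := Nat.mul_le_mul_left _ this
        _ = r := by rw [mul_one, hdeg]
    have := tendsto_chi hQ r hQdeg
    rw [comp_C_mul_X_coeff] at this
    simp_rw [hchi]
    convert this using 2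
    rw [ha]; push_cast; ring
  · -- the inequality
    have e1 : (Module.length O (O ⧸ m ^ n)).toNat = chi m O n := by
      have := hchi (m ^ n) 1
      rw [pow_one, chi_pow, mul_one] at this
      exact this
    rw [e1]
    have e2 : ((chi m O n : ℕ) : ℝ) = ((P.eval (n : ℚ) : ℚ) : ℝ) := by
      have := h₁ n hnn₁
      exact_mod_cast congrArg (fun q : ℚ => (q : ℝ)) this
    rw [e2]
    have hpow : (0 : ℝ) < (n : ℝ) ^ r := by positivity
    have h3 : (1 - ε) * (((P.eval (n : ℚ) : ℚ) : ℝ)) < a * (n : ℝ) ^ r := by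
      have := mul_lt_mul_of_pos_right hn1 hpow
      rwa [mul_assoc, div_mul_cancel₀ _ hpow.ne'] at this
    have hfac : (0 : ℝ) < (r.factorial : ℝ) := by positivity
    nlinarith

/-- Let O be a Noetherian local ring of Krull dimension r containing a field, with maximal ideal m. The
zeroth flat multiplicity e_0(O), the supremum over m-primary ideals I of e(I)/(r!·length(O/I)) with
e(I) the Samuel multiplicity, is at least 1: for every ε > 0 there is an m-primary ideal I (I ⊆ m,
m^N ⊆ I for some N) whose multiplicity e(I), the limit of r!·length(O/I^n)/n^r, satisfies e(I) ≥ (1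
− ε)·r!·length(O/I). (The same statement for the power-series rings O[[t_1, …, t_k]] is the bound
e_k(O) ≥ 1 for the k-th flat multiplicity.) -/
theorem result (O : Type u) [CommRing O] [IsNoetherianRing O]
    [IsLocalRing O] (K : Type u) [Field K] [Algebra K O] (r : ℕ) (hr : ringKrullDim O = r)
    (ε : ℝ) (hε : 0 < ε) :
    ∃ (I : Ideal O) (e : ℝ), I ≤ IsLocalRing.maximalIdeal O ∧
      (∃ N : ℕ, IsLocalRing.maximalIdeal O ^ N ≤ I) ∧
      Tendsto (fun n : ℕ => (r.factorial : ℝ) * ((Module.length O (O ⧸ I ^ n)).toNat : ℝ) / (n : ℝ) ^ r)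
        atTop (nhds e) ∧
      (1 - ε) * ((r.factorial : ℝ) * ((Module.length O (O ⧸ I)).toNat : ℝ)) ≤ e := by
  exact aux O r hr ε hε

end Groth.Agent.S19208
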