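import Groth.Statements.S19210
import Groth.Agent.Lib.Helper2.BetaSum

set_option autoImplicit false
universe u
open LocAlg

namespace Groth.Agent.S19210

/-- For natural numbers j ≤ r, the sums Σ_{i=0}^{n−1} (n − i)^{r−j} i^j equal n^{r+1}·(r − j)!·j!/(r +
1)! up to O(n^r): there is a real constant C with |Σ_{i<n} (n − i)^{r−j} i^j − ((r − j)!·j!/(r +
1)!)·n^{r+1}| ≤ C·n^r for all n ≥ 1. -/
theorem result (r j : ℕ) (hj : j ≤ r) :
    ∃ C : ℝ, ∀ n : ℕ, 1 ≤ n →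
      |(∑ i ∈ Finset.range n, ((n : ℝ) - (i : ℝ)) ^ (r - j) * (i : ℝ) ^ j) -
          ((r - j).factorial : ℝ) * (j.factorial : ℝ) / ((r + 1).factorial : ℝ) * (n : ℝ) ^ (r + 1)| ≤
        C * (n : ℝ) ^ r := by
  obtain ⟨C, hC⟩ := Groth.Agent.H2.BetaSum.main (r - j) j
  refine ⟨C, fun n hn => ?_⟩
  have h := hC n hn
  unfold Groth.Agent.H2.BetaSum.F Groth.Agent.H2.BetaSum.c at h
  have e1 : r - j + j = r := Nat.sub_add_cancel hj
  rw [e1] at h
  exact h

end Groth.Agent.S19210
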