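import Groth.Statements.S19216
import Mathlib

set_option autoImplicit false
universe u
open SymRep

namespace Groth.Agent.S19216

/-- Let k be a field of characteristic zero and r, s ≥ 1. Realise the standard representation of the
symmetric group on a finite set T as the hyperplane of functions T → k with sum zero, the group
acting by precomposition with the inverse. Then the standard representation of the symmetric group
of Fin r ⊕ Fin s, restricted to the subgroup S_r × S_s, is isomorphic to the direct sum of the
standard representations of S_r and of S_s and of a one-dimensional trivial representation: there is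
a k-linear map E from functions on Fin r ⊕ Fin s to triples (function on Fin r, function on Fin s,
scalar), compatible with the actions of S_r × S_s (trivial on the scalar), which maps the sum-zero
hyperplane bijectively onto the product of the two sum-zero hyperplanes and k. (The published
statement is over the complex numbers; a field of characteristic zero is used here. The published
statement also gives the analogous decomposition for any number of blocks, which follows by
induction; only the two-block case is stated here.) -/
theorem result (k : Type u) [Field k] [CharZero k]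
    (r s : ℕ) (hr : 1 ≤ r) (hs : 1 ≤ s) :
    ∃ E : (Fin r ⊕ Fin s → k) →ₗ[k] (Fin r → k) × (Fin s → k) × k,
      (∀ (σ : Equiv.Perm (Fin r)) (τ : Equiv.Perm (Fin s)) (f : Fin r ⊕ Fin s → k),
        E (f ∘ ⇑(Equiv.sumCongr σ τ).symm) = ((E f).1 ∘ ⇑σ.symm, (E f).2.1 ∘ ⇑τ.symm, (E f).2.2)) ∧
      Set.BijOn E {f | ∑ i, f i = 0}
        ({g : Fin r → k | ∑ i, g i = 0} ×ˢ ({h : Fin s → k | ∑ i, h i = 0} ×ˢ Set.univ)) := by
  classical
  have hr0 : (r : k) ≠ 0 := by
    have : r ≠ 0 := by omega
    exact_mod_cast this
  have hs0 : (s : k) ≠ 0 := by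
    have : s ≠ 0 := by omega
    exact_mod_cast this
  -- the averaging functionals
  let avgR : (Fin r ⊕ Fin s → k) →ₗ[k] k :=
    { toFun := fun f => (r : k)⁻¹ * ∑ i, f (Sum.inl i)
      map_add' := by
        intro f g
        simp only [Pi.add_apply, Finset.sum_add_distrib, mul_add]
      map_smul' := by
        intro c f
        simp only [Pi.smul_apply, smul_eq_mul, ← Finset.mul_sum, RingHom.id_apply]
        ring }
  let avgS : (Fin r ⊕ Fin s → k) →ₗ[k] k :=
    { toFun := fun f => (s : k)⁻¹ * ∑ j, f (Sum.inr j)
      map_add' := by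
        intro f g
        simp only [Pi.add_apply, Finset.sum_add_distrib, mul_add]
      map_smul' := by
        intro c f
        simp only [Pi.smul_apply, smul_eq_mul, ← Finset.mul_sum, RingHom.id_apply]
        ring }
  let E : (Fin r ⊕ Fin s → k) →ₗ[k] (Fin r → k) × (Fin s → k) × k :=
    { toFun := fun f => (fun i => f (Sum.inl i) - avgR f, fun j => f (Sum.inr j) - avgS f, avgR f)
      map_add' := by
        intro f g
        ext <;> simp [map_add] <;> ring
      map_smul' := by
        intro c f
        ext <;> simp [map_smul, mul_sub] }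
  have hE : ∀ f, E f = (fun i => f (Sum.inl i) - avgR f, fun j => f (Sum.inr j) - avgS f, avgR f) :=
    fun f => rfl
  have havgR : ∀ f, avgR f = (r : k)⁻¹ * ∑ i, f (Sum.inl i) := fun f => rfl
  have havgS : ∀ f, avgS f = (s : k)⁻¹ * ∑ j, f (Sum.inr j) := fun f => rfl
  have hsum : ∀ f : Fin r ⊕ Fin s → k, ∑ x, f x = ∑ i, f (Sum.inl i) + ∑ j, f (Sum.inr j) :=
    fun f => Fintype.sum_sum_type f
  refine ⟨E, ?_, ?_, ?_, ?_⟩
  · intro σ τ f
    have h1 : avgR (f ∘ ⇑(Equiv.sumCongr σ τ).symm) = avgR f := by
      rw [havgR, havgR]
      congr 1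
      exact Equiv.sum_comp σ.symm (fun i => f (Sum.inl i))
    have h2 : avgS (f ∘ ⇑(Equiv.sumCongr σ τ).symm) = avgS f := by
      rw [havgS, havgS]
      congr 1
      exact Equiv.sum_comp τ.symm (fun j => f (Sum.inr j))
    rw [hE, hE, h1, h2]
    rfl
  · -- maps to
    intro f _
    refine ⟨?_, ?_, trivial⟩
    · change ∑ i, (f (Sum.inl i) - avgR f) = 0
      rw [Finset.sum_sub_distrib, Finset.sum_const, Finset.card_univ, Fintype.card_fin, havgR,
        nsmul_eq_mul, ← mul_assoc, mul_inv_cancel₀ hr0, one_mul, sub_self]
    · change ∑ j, (f (Sum.inr j) - avgS f) = 0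
      rw [Finset.sum_sub_distrib, Finset.sum_const, Finset.card_univ, Fintype.card_fin, havgS,
        nsmul_eq_mul, ← mul_assoc, mul_inv_cancel₀ hs0, one_mul, sub_self]
  · -- injective on
    intro f hf g hg hfg
    have hf' : ∑ x, f x = 0 := hf
    have hg' : ∑ x, g x = 0 := hg
    have hd : E (f - g) = 0 := by rw [map_sub, hfg, sub_self]
    rw [hE] at hd
    have hd1 : ∀ i, (f - g) (Sum.inl i) - avgR (f - g) = 0 := fun i => congrFun (congrArg Prod.fst hd) i
    have hd2 : ∀ j, (f - g) (Sum.inr j) - avgS (f - g) = 0 :=
      fun j => congrFun (congrArg (fun t => t.2.1) hd) j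
    have hd3 : avgR (f - g) = 0 := congrArg (fun t => t.2.2) hd
    have hsum0 : ∑ x, (f - g) x = 0 := by
      simp only [Pi.sub_apply, Finset.sum_sub_distrib, hf', hg', sub_self]
    have hl : ∀ i, (f - g) (Sum.inl i) = 0 := by
      intro i
      have := hd1 i
      rw [hd3, sub_zero] at this
      exact this
    have hS0 : avgS (f - g) = 0 := by
      rw [hsum] at hsum0
      rw [havgS]
      have : ∑ i, (f - g) (Sum.inl i) = 0 := Finset.sum_eq_zero (fun i _ => hl i)
      rw [this, zero_add] at hsum0
      rw [hsum0, mul_zero]
    have hrr : ∀ j, (f - g) (Sum.inr j) = 0 := by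
      intro j
      have := hd2 j
      rw [hS0, sub_zero] at this
      exact this
    have : f - g = 0 := by
      funext x
      rcases x with i | j
      · exact hl i
      · exact hrr j
    exact sub_eq_zero.1 this
  · -- surjective on
    rintro ⟨g, h, c⟩ ⟨hg, hh, -⟩
    have hg' : ∑ i, g i = 0 := hg
    have hh' : ∑ j, h j = 0 := hh
    let f : Fin r ⊕ Fin s → k := Sum.elim (fun i => g i + c) (fun j => h j - (r : k) * c * (s : k)⁻¹)
    have hfl : ∑ i, f (Sum.inl i) = (r : k) * c := by
      change ∑ i, (g i + c) = _
      rw [Finset.sum_add_distrib, hg', Finset.sum_const, Finset.card_univ, Fintype.card_fin,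
        nsmul_eq_mul, zero_add]
    have hfr : ∑ j, f (Sum.inr j) = - ((r : k) * c) := by
      change ∑ j, (h j - (r : k) * c * (s : k)⁻¹) = _
      rw [Finset.sum_sub_distrib, hh', Finset.sum_const, Finset.card_univ, Fintype.card_fin,
        nsmul_eq_mul, zero_sub]
      field_simp
    have hR : avgR f = c := by
      rw [havgR, hfl, ← mul_assoc, inv_mul_cancel₀ hr0, one_mul]
    have hS : avgS f = - ((r : k) * c * (s : k)⁻¹) := by
      rw [havgS, hfr]
      ring
    refine ⟨f, ?_, ?_⟩
    · change ∑ x, f x = 0
      rw [hsum, hfl, hfr, add_neg_cancel]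
    · rw [hE, hR, hS]
      refine Prod.ext ?_ (Prod.ext ?_ rfl)
      · funext i
        change g i + c - c = g i
        ring
      · funext j
        change h j - (r : k) * c * (s : k)⁻¹ - -((r : k) * c * (s : k)⁻¹) = h j
        ring

end Groth.Agent.S19216
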