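import Groth.Statements.S19238
import Groth.Agent.Lib.Helper7.SigLinWitt2
-- import your own Groth.Agent.* helpers here

set_option autoImplicit false
universe u v
open SigmaLin

namespace Groth.Agent.S19238

/-- Let k be an algebraically closed field of characteristic p > 0 and n a natural number; let M be a
finitely generated module over the ring W_n(k) of truncated Witt vectors and T : M → M an additive
map with T (c • m) = σ(c) • T m, where σ is either the Frobenius endomorphism of W_n(k) or its
inverse. Then the set of T-fixed elements of M is finite. (The printed statement says that the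
T-fixed elements form a finitely generated module over the σ-fixed subring of W_n(k), which is the
finite ring of integers modulo p^n.) -/
theorem result
    (p : ℕ) [Fact p.Prime] (k : Type u) [Field k] [CharP k p] [IsAlgClosed k] (n : ℕ)
    (σ : TruncatedWittVector p n k →+* TruncatedWittVector p n k)
    (hσ : σ = WittGrp.truncMap p n (frobenius k p) ∨
      σ = WittGrp.truncMap p n (frobeniusEquiv k p).symm.toRingHom)
    (M : Type v) [AddCommGroup M] [Module (TruncatedWittVector p n k) M] [Module.Finite (TruncatedWittVector p n k) M]
    (T : M →ₛₗ[σ] M) :
    {m : M | T m = m}.Finite := by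
  cases n with
  | zero =>
    haveI : Subsingleton (TruncatedWittVector p 0 k) :=
      ⟨fun a b => TruncatedWittVector.ext (fun i => i.elim0)⟩
    haveI : Subsingleton M := Module.subsingleton (TruncatedWittVector p 0 k) M
    exact Set.toFinite _
  | succ n =>
    rcases hσ with rfl | rfl
    · exact Groth.Agent.H7.SigLin.fixed_finite_witt p k n (frobenius k p)
        (Groth.Agent.H7.SigLin.frobenius_surjective' p k) (Groth.Agent.H7.SigLin.H2_frobenius p k)
        (Groth.Agent.H7.SigLin.H3_frobenius p k)
        (Groth.Agent.H7.SigLin.finite_frobenius_fixed p k) T
    · exact Groth.Agent.H7.SigLin.fixed_finite_witt p k n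
        ((frobeniusEquiv k p).symm.toRingHom)
        (Groth.Agent.H7.SigLin.frobInv_surjective p k) (Groth.Agent.H7.SigLin.H2_frobInv p k)
        (Groth.Agent.H7.SigLin.H3_frobInv p k)
        (Groth.Agent.H7.SigLin.finite_frobInv_fixed p k) T

end Groth.Agent.S19238
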