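import Groth.Statements.S19245
import Mathlib
import Groth.Agent.Lib.Helper9.FlasqueTower

set_option autoImplicit false
universe u
open LocCohZ

namespace Groth.Agent.S19245

open CategoryTheory CategoryTheory.Limits TopologicalSpace Opposite
open CohTop

namespace H9Supp
open Groth.Agent.H9.Tower

variable {X : TopCat.{u}}

theorem hf (U : Opens X) : Topology.IsOpenEmbedding (CohCx.incl U) := U.2.isOpenEmbedding_subtypeVal

/-- the adjunction between naive restriction and pushforward -/
noncomputable def adj' (U : Opens X) :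
    (hf U).sheafPullback AddCommGrpCat.{u} ⊣ TopCat.Sheaf.pushforward AddCommGrpCat.{u} (CohCx.incl U) :=
  (TopCat.Sheaf.pullbackPushforwardAdjunction AddCommGrpCat.{u} (CohCx.incl U)).ofNatIsoLeft
    ((hf U).sheafPullbackIso AddCommGrpCat.{u})

/-- the unit of the transported adjunction -/
noncomputable abbrev θ (U : Opens X) (A : CohTop.Ab X) := (adj' U).unit.app A

noncomputable abbrev η (U : Opens X) (A : CohTop.Ab X) :=
  (TopCat.Sheaf.pullbackPushforwardAdjunction AddCommGrpCat.{u} (CohCx.incl U)).unit.app A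

theorem θ_eq (U : Opens X) (A : CohTop.Ab X) :
    θ U A = η U A ≫ (TopCat.Sheaf.pushforward AddCommGrpCat.{u} (CohCx.incl U)).map
      (((hf U).sheafPullbackIso AddCommGrpCat.{u}).hom.app A) := by
  simp only [θ, adj', η, Adjunction.ofNatIsoLeft_unit]
  rfl


/-- restriction along an equality of opens is injective -/
theorem map_injective_of_eq (A : CohTop.Ab X) {P Q : Opens X} (h : P ≤ Q) (h' : Q ≤ P) :
    Function.Injective (A.obj.map (homOfLE h).op) := by
  intro x y hxy
  have key : ∀ z : A.obj.obj (op Q), A.obj.map (homOfLE h').op (A.obj.map (homOfLE h).op z) = z := by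
    intro z
    have : (homOfLE h).op ≫ (homOfLE h').op = 𝟙 (op Q) := Subsingleton.elim _ _
    have h2 : A.obj.map ((homOfLE h).op ≫ (homOfLE h').op) z = z := by
      rw [this, A.obj.map_id]; rfl
    rw [A.obj.map_comp] at h2
    exact h2
  rw [← key x, ← key y, hxy]

/-- (I1): the unit is injective on sections over opens contained in `U` -/
theorem θ_injective (U : Opens X) (A : CohTop.Ab X) (W : Opens (TopCat.of U)) :
    Function.Injective ((θ U A).hom.app (op ((hf U).isOpenMap.functor.obj W))) := by
  have tri := (adj' U).left_triangle_components A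
  intro x y hxy
  have h1 : ∀ z : A.obj.obj (op ((hf U).isOpenMap.functor.obj W)),
      ((adj' U).counit.app (((hf U).sheafPullback AddCommGrpCat.{u}).obj A)).hom.app (op W)
        ((θ U A).hom.app (op ((hf U).isOpenMap.functor.obj W)) z) = z := by
    intro z
    have h2 : ((((hf U).sheafPullback AddCommGrpCat.{u}).map ((adj' U).unit.app A) ≫
        (adj' U).counit.app (((hf U).sheafPullback AddCommGrpCat.{u}).obj A)).hom.app (op W)) z = z := by
      rw [tri]; rfl
    exact h2
  rw [← h1 x, ← h1 y, hxy]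


theorem map_map (A : CohTop.Ab X) {P Q T : Opens X} (h₁ : P ≤ Q) (h₂ : Q ≤ T) (x : A.obj.obj (op T)) :
    A.obj.map (homOfLE h₁).op (A.obj.map (homOfLE h₂).op x) = A.obj.map (homOfLE (h₁.trans h₂)).op x := by
  have : (homOfLE h₂).op ≫ (homOfLE h₁).op = (homOfLE (h₁.trans h₂)).op := rfl
  rw [← this, A.obj.map_comp]
  rfl

theorem θ_eq_zero_iff (U : Opens X) (A : CohTop.Ab X) (V : Opens X) (s : A.obj.obj (op V)) :
    (θ U A).hom.app (op V) s = 0 ↔ A.obj.map (homOfLE (inf_le_left : V ⊓ U ≤ V)).op s = 0 := by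
  have hjW : (hf U).isOpenMap.functor.obj ((Opens.map (CohCx.incl U)).obj V) = V ⊓ U :=
    Opens.functor_map_eq_inf U V
  have hle : (hf U).isOpenMap.functor.obj ((Opens.map (CohCx.incl U)).obj V) ≤ V := by
    rw [hjW]; exact inf_le_left
  have hle1 : (hf U).isOpenMap.functor.obj ((Opens.map (CohCx.incl U)).obj V) ≤ V ⊓ U := le_of_eq hjW
  have hle2 : V ⊓ U ≤ (hf U).isOpenMap.functor.obj ((Opens.map (CohCx.incl U)).obj V) := le_of_eq hjW.symm
  have hnat : (θ U A).hom.app (op ((hf U).isOpenMap.functor.obj ((Opens.map (CohCx.incl U)).obj V)))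
      (A.obj.map (homOfLE hle).op s) =
      ((TopCat.Sheaf.pushforward AddCommGrpCat.{u} (CohCx.incl U)).obj
      (((hf U).sheafPullback AddCommGrpCat.{u}).obj A)).obj.map (homOfLE hle).op
        ((θ U A).hom.app (op V) s) := nat_apply (θ U A) (homOfLE hle).op s
  -- the restriction map of `j_* j^* A` from `V` to `jW` is injective
  have hGinj : Function.Injective (((TopCat.Sheaf.pushforward AddCommGrpCat.{u} (CohCx.incl U)).obj
      (((hf U).sheafPullback AddCommGrpCat.{u}).obj A)).obj.map (homOfLE hle).op) := by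
    have h1 : (hf U).isOpenMap.functor.obj ((Opens.map (CohCx.incl U)).obj
        ((hf U).isOpenMap.functor.obj ((Opens.map (CohCx.incl U)).obj V))) ≤
        (hf U).isOpenMap.functor.obj ((Opens.map (CohCx.incl U)).obj V) := by
      rw [Opens.map_functor_eq' _ (hf U)]
    have h2 : (hf U).isOpenMap.functor.obj ((Opens.map (CohCx.incl U)).obj V) ≤
        (hf U).isOpenMap.functor.obj ((Opens.map (CohCx.incl U)).obj
        ((hf U).isOpenMap.functor.obj ((Opens.map (CohCx.incl U)).obj V))) := by
      rw [Opens.map_functor_eq' _ (hf U)]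
    exact map_injective_of_eq A h1 h2
  constructor
  · intro h
    have h3 : (θ U A).hom.app (op ((hf U).isOpenMap.functor.obj ((Opens.map (CohCx.incl U)).obj V)))
        (A.obj.map (homOfLE hle).op s) = 0 := by rw [hnat, h, map_zero]
    have h4 : A.obj.map (homOfLE hle).op s = 0 :=
      θ_injective U A _ (h3.trans (map_zero _).symm)
    have h5 := map_map A hle2 hle s
    rw [h4, map_zero] at h5
    exact h5.symm
  · intro h
    apply hGinj
    rw [← hnat, map_zero]
    have h5 := map_map A hle1 (inf_le_left : V ⊓ U ≤ V) s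
    rw [h, map_zero] at h5
    rw [← h5, map_zero]

theorem η_eq_zero_iff (U : Opens X) (A : CohTop.Ab X) (V : Opens X) (s : A.obj.obj (op V)) :
    (η U A).hom.app (op V) s = 0 ↔ A.obj.map (homOfLE (inf_le_left : V ⊓ U ≤ V)).op s = 0 := by
  rw [← θ_eq_zero_iff]
  have h1 : (θ U A).hom.app (op V) s = ((TopCat.Sheaf.pushforward AddCommGrpCat.{u} (CohCx.incl U)).map
      (((hf U).sheafPullbackIso AddCommGrpCat.{u}).hom.app A)).hom.app (op V) ((η U A).hom.app (op V) s) := by
    rw [θ_eq]; rfl
  rw [h1]
  constructor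
  · intro h; rw [h, map_zero]
  · intro h
    -- the map is an isomorphism, hence injective
    let ι := (TopCat.Sheaf.pushforward AddCommGrpCat.{u} (CohCx.incl U)).mapIso
      (((hf U).sheafPullbackIso AddCommGrpCat.{u}).app A)
    have hinv : ∀ z, (ι.inv.hom.app (op V)) (ι.hom.hom.app (op V) z) = z := by
      intro z
      have h2 : ((ι.hom ≫ ι.inv).hom.app (op V)) z = z := by
        rw [Iso.hom_inv_id]; rfl
      exact h2
    have h3 := hinv ((η U A).hom.app (op V) s)
    rw [← h3]
    have h4 : ι.hom.hom.app (op V) ((η U A).hom.app (op V) s) = 0 := h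
    rw [h4, map_zero]


/-- the left exact sequence attached to a kernel -/
theorem shortExact_kernel_left {F G : CohTop.Ab X} (f : F ⟶ G) :
    (ShortComplex.mk (kernel.ι f) f (kernel.condition f)).Exact ∧
      Mono (ShortComplex.mk (kernel.ι f) f (kernel.condition f)).f := by
  refine ⟨?_, ?_⟩
  · apply ShortComplex.exact_of_f_is_kernel
    exact kernelIsKernel f
  · dsimp; infer_instance

theorem ι_injective (U : Opens X) (A : CohTop.Ab X) (Q : (Opens X)ᵒᵖ) :
    Function.Injective ((kernel.ι (η U A)).hom.app Q) := by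
  have hp : (secF X Q).PreservesMonomorphisms := preservesMonomorphisms_of_preservesLimitsOfShape _
  have hm : Mono (kernel.ι (η U A)) := (shortExact_kernel_left (η U A)).2
  have h1 : Mono ((secF X Q).map (kernel.ι (η U A))) := @Functor.map_mono _ _ _ _ (secF X Q) hp _ _ (kernel.ι (η U A)) hm
  exact (AddCommGrpCat.mono_iff_injective _).mp h1

theorem sectSupp_flasque (U : Opens X) (A : CohTop.Ab X) [TopCat.Sheaf.IsFlasque A] :
    TopCat.Sheaf.IsFlasque (kernel (η U A) : CohTop.Ab X) := by
  constructor
  intro P Q i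
  refine (AddCommGrpCat.epi_iff_surjective _).mpr (fun k => ?_)
  have hWW' : Q.unop ≤ P.unop := leOfHom i.unop
  have hi : i = (homOfLE hWW').op := by
    apply Quiver.Hom.unop_inj
    exact Subsingleton.elim _ _
  subst hi
  -- the section of A underlying k
  set s : A.obj.obj Q := (kernel.ι (η U A)).hom.app Q k with hs
  have hηs : (η U A).hom.app (op Q.unop) s = 0 := by
    have h := kernel.condition (η U A)
    have h2 : ((kernel.ι (η U A) ≫ η U A).hom.app Q) k = 0 := by rw [h]; rfl
    exact h2
  have hs0 : A.obj.map (homOfLE (inf_le_left : Q.unop ⊓ U ≤ Q.unop)).op s = 0 :=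
    (η_eq_zero_iff U A Q.unop s).mp hηs
  -- gluing
  let f : Fin 2 → Opens X := ![Q.unop, P.unop ⊓ U]
  let sf : (i : Fin 2) → A.obj.obj (op (f i))
    | 0 => s
    | 1 => 0
  have hcompat : A.obj.map (homOfLE (inf_le_left : Q.unop ⊓ (P.unop ⊓ U) ≤ Q.unop)).op s = 0 := by
    have h1 : Q.unop ⊓ (P.unop ⊓ U) ≤ Q.unop ⊓ U := inf_le_inf_left _ inf_le_right
    have := map_map A h1 (inf_le_left : Q.unop ⊓ U ≤ Q.unop) s
    rw [hs0, map_zero] at this
    exact this.symm
  have hcompat' : A.obj.map (homOfLE (inf_le_right : (P.unop ⊓ U) ⊓ Q.unop ≤ Q.unop)).op s = 0 := by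
    have h1 : (P.unop ⊓ U) ⊓ Q.unop ≤ Q.unop ⊓ U := le_inf inf_le_right (inf_le_left.trans inf_le_right)
    have := map_map A h1 (inf_le_left : Q.unop ⊓ U ≤ Q.unop) s
    rw [hs0, map_zero] at this
    exact this.symm
  obtain ⟨t, ht, _⟩ : ∃! t, TopCat.Presheaf.IsGluing A.obj f sf t := by
    apply TopCat.Sheaf.existsUnique_gluing
    simp only [TopCat.Presheaf.IsCompatible, Fin.forall_fin_two]
    refine ⟨⟨rfl, ?_⟩, ?_, rfl⟩
    · show A.obj.map _ s = A.obj.map _ 0
      rw [map_zero]
      exact hcompat
    · show A.obj.map _ 0 = A.obj.map _ s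
      rw [map_zero]
      exact hcompat'.symm
  have hle : iSup f ≤ P.unop := by
    refine iSup_le ?_
    rw [Fin.forall_fin_two]
    exact ⟨hWW', inf_le_left⟩
  have hfl : Epi (A.obj.map (homOfLE hle).op) := TopCat.Presheaf.IsFlasque.epi _
  obtain ⟨t', ht'⟩ := (AddCommGrpCat.epi_iff_surjective _).mp hfl t
  have ht0 : A.obj.map (homOfLE (le_iSup f 0)).op t = s := ht 0
  have ht1 : A.obj.map (homOfLE (le_iSup f 1)).op t = 0 := ht 1
  -- t' restricted to P ⊓ U vanishes
  have ht'U : A.obj.map (homOfLE (inf_le_left : P.unop ⊓ U ≤ P.unop)).op t' = 0 := by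
    have := map_map A (le_iSup f 1) hle t'
    rw [ht', ht1] at this
    exact this.symm
  have hηt' : (η U A).hom.app (op P.unop) t' = 0 := (η_eq_zero_iff U A P.unop t').mpr ht'U
  -- lift t' to the kernel
  have hS := shortExact_kernel_left (η U A)
  obtain ⟨k', hk'⟩ := TopCat.Sheaf.sections_exact_of_left_exact hS.1 hS.2 (U := P.unop) t' hηt'
  refine ⟨k', ?_⟩
  apply ι_injective U A Q
  have e1 : (kernel.ι (η U A)).hom.app Q ((kernel (η U A) : CohTop.Ab X).obj.map (homOfLE hWW').op k')
      = A.obj.map (homOfLE hWW').op ((kernel.ι (η U A)).hom.app P k') :=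
    nat_apply (kernel.ι (η U A)) (homOfLE hWW').op k'
  rw [e1]
  have hk'' : (kernel.ι (η U A)).hom.app P k' = t' := hk'
  rw [hk'']
  have := map_map A (le_iSup f 0) hle t'
  rw [ht', ht0] at this
  exact this.symm

end H9Supp

open CategoryTheory TopologicalSpace in
/-- Let A be a flasque abelian sheaf on a topological space X and Z = X ∖ U the closed complement of an
open U. Then the sheaf Γ_Z(A) of sections of A supported in Z is flasque. (The source states the
lemma for every family of supports Φ on a Noetherian topological space, where Γ_Φ(A) is the filtered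
union of the Γ_Z(A), Z ∈ Φ; for a single closed Z no Noetherian hypothesis is needed.) -/
theorem result {X : TopCat.{u}} (A : CohTop.Ab X) [TopCat.Sheaf.IsFlasque A]
    (U : Opens X) : TopCat.Sheaf.IsFlasque ((LocCohZ.sectSuppF U).obj A) := by
  exact H9Supp.sectSupp_flasque U A

end Groth.Agent.S19245
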