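import Groth.Statements.S19247
import Mathlib
import Groth.Agent.Lib.Helper9.FlasqueTower

set_option autoImplicit false
universe u
open CohTop

namespace Groth.Agent.S19247

open CategoryTheory CategoryTheory.Limits TopologicalSpace Opposite
open CohTop

namespace H9Tower2
open Groth.Agent.H9.Tower

variable {X : TopCat.{u}}

theorem epi_of_surj_sections {F G : CohTop.Ab X} (φ : F ⟶ G)
    (h : ∀ (U : (Opens X)ᵒᵖ) (y : G.obj.obj U), ∃ x : F.obj.obj U, φ.hom.app U x = y) : Epi φ := by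
  refine (TopCat.Sheaf.isLocallySurjective_iff_epi (F := F) (G := G) φ).mp ?_
  rw [TopCat.Presheaf.isLocallySurjective_iff]
  intro U t x hx
  obtain ⟨s, hs⟩ := h (op U) t
  refine ⟨U, le_rfl, ⟨s, ?_⟩, hx⟩
  rw [hs]
  exact (TopCat.Presheaf.restrict_self _).symm

theorem epi_limMap (S : ShortComplex (ℕᵒᵖ ⥤ CohTop.Ab X)) (hS : S.ShortExact)
    (h0 : ∀ n : ℕ, TopCat.Sheaf.IsFlasque (S.X₁.obj (op n)))
    (h1 : ∀ n : ℕ, Epi (tr S.X₁ n))
    (h2 : ∀ n : ℕ, TopCat.Sheaf.IsFlasque (kernel (tr S.X₁ n) : CohTop.Ab X)) :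
    Epi (limMap S.g) := by
  apply epi_of_surj_sections
  intro U y
  -- levelwise short exact sequences
  have hSn : ∀ n : ℕ, (S.map ((evaluation ℕᵒᵖ (CohTop.Ab X)).obj (op n))).ShortExact := fun n =>
    hS.map_of_exact _
  have hgsurj : ∀ (n : ℕ) (z : (S.X₃.obj (op n)).obj.obj U), ∃ w : (S.X₂.obj (op n)).obj.obj U,
      (S.g.app (op n)).hom.app U w = z := by
    intro n z
    have := h0 n
    have hfl : TopCat.Sheaf.IsFlasque (S.map ((evaluation ℕᵒᵖ (CohTop.Ab X)).obj (op n))).X₁ := h0 n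
    have := TopCat.Sheaf.IsFlasque.epi_of_shortExact (hSn n) (U := U.unop)
    exact (AddCommGrpCat.epi_iff_surjective _).mp this z
  have hexact : ∀ (n : ℕ) (w : (S.X₂.obj (op n)).obj.obj U), (S.g.app (op n)).hom.app U w = 0 →
      ∃ z : (S.X₁.obj (op n)).obj.obj U, (S.f.app (op n)).hom.app U z = w := by
    intro n w hw
    have hm : Mono (S.map ((evaluation ℕᵒᵖ (CohTop.Ab X)).obj (op n))).f := (hSn n).mono_f
    exact TopCat.Sheaf.sections_exact_of_left_exact (hSn n).1 hm (U := U.unop) w hw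
  let yn : ∀ n : ℕ, (S.X₃.obj (op n)).obj.obj U := fun n => (limit.π S.X₃ (op n)).hom.app U y
  have hyn : ∀ n, (tr S.X₃ n).hom.app U (yn (n + 1)) = yn n := by
    intro n
    have : limit.π S.X₃ (op (n + 1)) ≫ tr S.X₃ n = limit.π S.X₃ (op n) := limit.w S.X₃ _
    show ((limit.π S.X₃ (op (n + 1)) ≫ tr S.X₃ n).hom.app U) y = _
    rw [this]
  -- naturality of f and g with respect to the transition maps, on sections
  have hgnat : ∀ (n : ℕ) (w : (S.X₂.obj (op (n + 1))).obj.obj U),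
      (S.g.app (op n)).hom.app U ((tr S.X₂ n).hom.app U w) = (tr S.X₃ n).hom.app U ((S.g.app (op (n + 1))).hom.app U w) := by
    intro n w
    have := S.g.naturality (homOfLE (Nat.le_succ n)).op
    have h2 : (tr S.X₂ n ≫ S.g.app (op n)).hom.app U w = (S.g.app (op (n + 1)) ≫ tr S.X₃ n).hom.app U w := by
      rw [this]
    exact h2
  have hfnat : ∀ (n : ℕ) (z : (S.X₁.obj (op (n + 1))).obj.obj U),
      (S.f.app (op n)).hom.app U ((tr S.X₁ n).hom.app U z) = (tr S.X₂ n).hom.app U ((S.f.app (op (n + 1))).hom.app U z) := by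
    intro n z
    have := S.f.naturality (homOfLE (Nat.le_succ n)).op
    have h2 : (tr S.X₁ n ≫ S.f.app (op n)).hom.app U z = (S.f.app (op (n + 1)) ≫ tr S.X₂ n).hom.app U z := by
      rw [this]
    exact h2
  have hgf : ∀ (n : ℕ) (z : (S.X₁.obj (op n)).obj.obj U),
      (S.g.app (op n)).hom.app U ((S.f.app (op n)).hom.app U z) = 0 := by
    intro n z
    have h := S.zero
    have h2 : ((S.f ≫ S.g).app (op n)).hom.app U z = 0 := by rw [h]; rfl
    exact h2
  have hstep : ∀ (n : ℕ) (t : {t : (S.X₂.obj (op n)).obj.obj U // (S.g.app (op n)).hom.app U t = yn n}),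
      ∃ t' : {t : (S.X₂.obj (op (n + 1))).obj.obj U // (S.g.app (op (n + 1))).hom.app U t = yn (n + 1)},
        (tr S.X₂ n).hom.app U t'.1 = t.1 := by
    intro n t
    obtain ⟨x', hx'⟩ := hgsurj (n + 1) (yn (n + 1))
    have hd : (S.g.app (op n)).hom.app U ((tr S.X₂ n).hom.app U x' - t.1) = 0 := by
      rw [map_sub, hgnat, hx', hyn n, t.2, sub_self]
    obtain ⟨z, hz⟩ := hexact n _ hd
    have := h1 n
    have := h2 n
    obtain ⟨z', hz'⟩ := surj_sections (tr S.X₁ n) U z
    refine ⟨⟨x' - (S.f.app (op (n + 1))).hom.app U z', ?_⟩, ?_⟩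
    · rw [map_sub, hx', hgf, sub_zero]
    · show (tr S.X₂ n).hom.app U (x' - (S.f.app (op (n + 1))).hom.app U z') = t.1
      rw [map_sub, ← hfnat, hz', hz]
      abel
  obtain ⟨t0, ht0⟩ := hgsurj 0 (yn 0)
  let a : ∀ n : ℕ, {t : (S.X₂.obj (op n)).obj.obj U // (S.g.app (op n)).hom.app U t = yn n} :=
    fun n => Nat.rec ⟨t0, ht0⟩ (fun n t => Classical.choose (hstep n t)) n
  have ha : ∀ n, (tr S.X₂ n).hom.app U (a (n + 1)).1 = (a n).1 := fun n =>
    Classical.choose_spec (hstep n (a n))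
  obtain ⟨x, hx⟩ := limit_exists S.X₂ U (fun n => (a n).1) ha
  refine ⟨x, ?_⟩
  apply limit_ext S.X₃ U
  intro n
  have e1 : (limit.π S.X₃ (op n)).hom.app U ((limMap S.g).hom.app U x)
      = (S.g.app (op n)).hom.app U ((limit.π S.X₂ (op n)).hom.app U x) := by
    have := limMap_π S.g (op n)
    have h2 : (limMap S.g ≫ limit.π S.X₃ (op n)).hom.app U x = (limit.π S.X₂ (op n) ≫ S.g.app (op n)).hom.app U x := by
      rw [this]
    exact h2
  show (limit.π S.X₃ (op n)).hom.app U ((limMap S.g).hom.app U x) = yn n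
  rw [e1, hx n, (a n).2]

end H9Tower2

open CategoryTheory CategoryTheory.Limits TopologicalSpace Opposite in
/-- Let X be a topological space and S : 0 ⟶ M' ⟶ M ⟶ M'' ⟶ 0 a short exact sequence of ℕ-indexed
inverse systems of abelian sheaves on X (short exact in the abelian category of such systems, i.e.
levelwise), such that each of M', M, M'' is a flasque tower: every term is flasque and every
transition map is an epimorphism of sheaves with flasque kernel. Then the induced map lim M ⟶ lim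
M'' is an epimorphism of sheaves, so that, lim being left exact, the sequence 0 ⟶ lim M' ⟶ lim M ⟶
lim M'' ⟶ 0 is exact. (The source's statement is the exactness of lim on flasque de Rham–Witt
systems on a scheme; the de Rham–Witt structure plays no role, so the row is stated for towers of
abelian sheaves on any space.) -/
theorem result {X : TopCat.{u}}
    (S : ShortComplex (ℕᵒᵖ ⥤ CohTop.Ab X)) (hS : S.ShortExact) :
    (∀ n : ℕ, TopCat.Sheaf.IsFlasque (S.X₁.obj (op n))) →
      (∀ n : ℕ, Epi (S.X₁.map (homOfLE (Nat.le_succ n)).op)) →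
      (∀ n : ℕ, TopCat.Sheaf.IsFlasque (kernel (S.X₁.map (homOfLE (Nat.le_succ n)).op) : CohTop.Ab X)) →
    (∀ n : ℕ, TopCat.Sheaf.IsFlasque (S.X₂.obj (op n))) →
      (∀ n : ℕ, Epi (S.X₂.map (homOfLE (Nat.le_succ n)).op)) →
      (∀ n : ℕ, TopCat.Sheaf.IsFlasque (kernel (S.X₂.map (homOfLE (Nat.le_succ n)).op) : CohTop.Ab X)) →
    (∀ n : ℕ, TopCat.Sheaf.IsFlasque (S.X₃.obj (op n))) →
      (∀ n : ℕ, Epi (S.X₃.map (homOfLE (Nat.le_succ n)).op)) →
      (∀ n : ℕ, TopCat.Sheaf.IsFlasque (kernel (S.X₃.map (homOfLE (Nat.le_succ n)).op) : CohTop.Ab X)) →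
      Epi (limMap S.g) := by
  intro h0 h1 h2 _ _ _ _ _ _
  exact H9Tower2.epi_limMap S hS h0 h1 h2

end Groth.Agent.S19247
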