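import Groth.Statements.S19258
import Groth.Agent.Lib.Helper7.QZChar
-- import your own Groth.Agent.* helpers here

set_option autoImplicit false
universe u
open PontDual

namespace Groth.Agent.S19258

/-- Let G and G' be abelian groups such that every element of G' has finite order, and let β : G' →
Hom(G, ℚ/ℤ) be an injective homomorphism (equivalently a pairing G' × G → ℚ/ℤ with no left kernel).
Endow G with the weak topology defined by G': the coarsest topology for which every character β(f),
f ∈ G', is continuous when ℚ/ℤ carries the discrete topology. Then every homomorphism χ : G → ℚ/ℤ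
that is continuous for this topology on G and the discrete topology on ℚ/ℤ equals β(f) for some f ∈
G', so that β is a bijection from G' onto the group of continuous characters of G. -/
theorem result
    (G : Type u) (G' : Type u) [AddCommGroup G] [AddCommGroup G'] (hG' : IsAddTorsion G')
    (β : G' →+ (G →+ AddCircle (1 : ℚ))) (hβ : Function.Injective β)
    (χ : G →+ AddCircle (1 : ℚ))
    (hχ : @Continuous G (AddCircle (1 : ℚ)) (⨅ f' : G', TopologicalSpace.induced (fun x : G => β f' x) ⊥) ⊥ χ) :
    ∃ f' : G', β f' = χ := by
  classical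
  have h0 := (@Continuous.tendsto G (AddCircle (1 : ℚ))
    (⨅ f' : G', TopologicalSpace.induced (fun x : G => β f' x) ⊥) ⊥ χ hχ) 0
  have hb : @nhds (AddCircle (1 : ℚ)) ⊥ = pure := @nhds_discrete (AddCircle (1 : ℚ)) ⊥ (@DiscreteTopology.mk (AddCircle (1 : ℚ)) ⊥ rfl)
  rw [hb, Filter.tendsto_pure, nhds_iInf] at h0
  have h1 : ∀ f' : G', @nhds G (TopologicalSpace.induced (fun x : G => β f' x) ⊥) 0
      = Filter.principal ((fun x : G => β f' x) ⁻¹' {0}) := by
    intro f'
    rw [@nhds_induced _ _ ⊥ (fun x : G => β f' x) 0, hb, Filter.comap_pure, map_zero]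
  simp_rw [h1] at h0
  rw [Filter.Eventually, Filter.mem_iInf_finite] at h0
  obtain ⟨T, hT⟩ := h0
  rw [Filter.iInf_principal_finset, Filter.mem_principal] at hT
  apply Groth.Agent.H7.QZChar.exists_of_vanishing hG' β T χ
  intro x hx
  have : x ∈ {x | χ x = χ 0} := by
    apply hT
    simp only [Set.mem_iInter]
    intro f hf
    exact hx f hf
  rw [Set.mem_ofPred_eq, map_zero] at this
  exact this

end Groth.Agent.S19258
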