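import Groth.Statements.S19264
import Mathlib
import Groth.Agent.Lib.Helper9.WittFilFloor

set_option autoImplicit false
universe u
open WittFil

namespace Groth.Agent.S19264

/-- Let A be a unique factorisation domain of characteristic p, x_1, …, x_r pairwise non-associate prime
elements of A, B = A[1/(x_1⋯x_r)] with u_i the unit of B defined by x_i, n ∈ ℤ^r and m ≥ 0. The
restriction map from truncated p-typical Witt vectors of length m+1 to those of length m over B
(forgetting the last coordinate) maps the filtered piece cut out by ∏ u_i ^ n_i onto the filtered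
piece cut out by ∏ u_i ^ ⌊n_i / p⌋; that is, the image is exactly that piece. (The other parts of
the exact sequence, injectivity of the (m-fold) Verschiebung from the fractional ideal generated by
(∏ u_i ^ n_i)⁻¹ and exactness in the middle, are immediate from the definition and are not restated.
The published setting is a regular local ring; only unique factorisation is used.) -/
theorem result (p : ℕ) [Fact p.Prime] {A B : Type u} [CommRing A] [IsDomain A]
    [UniqueFactorizationMonoid A] [CharP A p] [CommRing B] [Algebra A B] {r : ℕ} (x : Fin r → A)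
    (hx : ∀ i, Prime (x i)) (hxa : ∀ i j, Associated (x i) (x j) → i = j)
    [IsLocalization.Away (∏ i, x i) B] (u : Fin r → Bˣ)
    (hu : ∀ i, (u i : B) = algebraMap A B (x i)) (n : Fin r → ℤ) (m : ℕ) :
    (TruncatedWittVector.truncate (Nat.le_succ m)) '' WittFil.fil p (m + 1) (A := A) (WittFil.zmon u n) =
      WittFil.fil p m (A := A) (WittFil.zmon u (fun i => n i / (p : ℤ))) := by
  have hppos : ∀ k : ℕ, 0 < p ^ k := fun k => pow_pos (Fact.out : p.Prime).pos k
  -- the coordinatewise criterion
  have hcrit : ∀ (y : B) (j : ℕ), j < m →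
      (y ^ (p ^ (m + 1 - 1 - j)) * WittFil.zmon u n ∈ (algebraMap A B).range ↔
        y ^ (p ^ (m - 1 - j)) * WittFil.zmon u (fun i => n i / (p : ℤ)) ∈ (algebraMap A B).range) := by
    intro y j hj
    rw [Groth.Agent.H9.WFil.pow_mul_zmon_mem_iff x hx hxa u hu _ (hppos _),
      Groth.Agent.H9.WFil.pow_mul_zmon_mem_iff x hx hxa u hu _ (hppos _)]
    have hfun : (fun i => n i / ((p ^ (m + 1 - 1 - j) : ℕ) : ℤ)) =
        (fun i => n i / (p : ℤ) / ((p ^ (m - 1 - j) : ℕ) : ℤ)) := by
      funext i
      rw [Int.ediv_ediv_of_nonneg (by positivity)]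
      congr 1
      have : m + 1 - 1 - j = (m - 1 - j) + 1 := by omega
      rw [this, pow_succ]
      push_cast
      ring
    rw [hfun]
  ext b
  constructor
  · rintro ⟨a, ha, rfl⟩ j
    rw [TruncatedWittVector.coeff_truncate]
    have h1 := ha (Fin.castLE (Nat.le_succ m) j)
    rw [Fin.val_castLE] at h1
    exact (hcrit _ j j.2).mp h1
  · intro hb
    refine ⟨TruncatedWittVector.mk p (fun j : Fin (m + 1) =>
      if h : (j : ℕ) < m then TruncatedWittVector.coeff ⟨j, h⟩ b else 0), ?_, ?_⟩
    · intro j
      rw [TruncatedWittVector.coeff_mk]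
      by_cases h : (j : ℕ) < m
      · rw [dif_pos h]
        exact (hcrit _ j h).mpr (hb ⟨j, h⟩)
      · rw [dif_neg h, zero_pow (hppos _).ne', zero_mul]
        exact Subring.zero_mem _
    · ext j
      rw [TruncatedWittVector.coeff_truncate, TruncatedWittVector.coeff_mk]
      simp only [Fin.val_castLE, j.2, dif_pos, Fin.eta]

end Groth.Agent.S19264
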