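import Groth.Statements.S19267
import Mathlib
import Groth.Agent.Lib.Helper9.WittTeich

set_option autoImplicit false
universe u
open WittFil

namespace Groth.Agent.S19267

namespace H9WF
open Groth.Agent.H9.WittTeich

variable (p : ℕ) [Fact p.Prime]

/-- coefficients of the product of a truncated Teichmüller representative with a truncated Witt vector -/
theorem trunc_teich_mul_coeff {B : Type*} [CommRing B] (m : ℕ) (v : B) (a : TruncatedWittVector p m B) (j : Fin m) :
    TruncatedWittVector.coeff j (WittVector.truncate m (WittVector.teichmuller p v) * a) =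
      v ^ p ^ (j : ℕ) * TruncatedWittVector.coeff j a := by
  obtain ⟨a', rfl⟩ := WittVector.truncate_surjective p m B a
  rw [← map_mul, WittVector.coeff_truncate, WittVector.coeff_truncate, teich_mul_coeff]

theorem main {A B : Type u} [CommRing A] [CommRing B] [Algebra A B] (m : ℕ) (u : Bˣ) (n l : ℤ) :
    WittFil.fil p m (A := A) ((u ^ (n - (p : ℤ) ^ (m - 1) * l) : Bˣ) : B) =
      (fun a => WittVector.truncate m (WittVector.teichmuller p ((u ^ l : Bˣ) : B)) * a) ''
        WittFil.fil p m (A := A) ((u ^ n : Bˣ) : B) := by
  -- the key equivalence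
  have key : ∀ a : TruncatedWittVector p m B,
      (WittVector.truncate m (WittVector.teichmuller p ((u ^ l : Bˣ) : B)) * a ∈
        WittFil.fil p m (A := A) ((u ^ (n - (p : ℤ) ^ (m - 1) * l) : Bˣ) : B)) ↔
      a ∈ WittFil.fil p m (A := A) ((u ^ n : Bˣ) : B) := by
    intro a
    have hj : ∀ j : Fin m,
        (TruncatedWittVector.coeff j (WittVector.truncate m (WittVector.teichmuller p ((u ^ l : Bˣ) : B)) * a))
          ^ (p ^ (m - 1 - (j : ℕ))) * ((u ^ (n - (p : ℤ) ^ (m - 1) * l) : Bˣ) : B)
        = (TruncatedWittVector.coeff j a) ^ (p ^ (m - 1 - (j : ℕ))) * ((u ^ n : Bˣ) : B) := by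
      intro j
      have hN : p ^ (j : ℕ) * p ^ (m - 1 - (j : ℕ)) = p ^ (m - 1) := by
        rw [← pow_add]
        congr 1
        have := j.2
        omega
      have hu : (((u ^ l : Bˣ) : B)) ^ (p ^ (m - 1)) * ((u ^ (n - (p : ℤ) ^ (m - 1) * l) : Bˣ) : B)
          = ((u ^ n : Bˣ) : B) := by
        rw [← Units.val_pow_eq_pow_val, ← Units.val_mul, ← zpow_natCast, ← zpow_mul, ← zpow_add]
        congr 2
        push_cast
        ring
      rw [trunc_teich_mul_coeff, mul_pow, ← pow_mul, hN, ← hu]
      ring
    constructor
    · intro h j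
      rw [← hj j]; exact h j
    · intro h j
      rw [hj j]; exact h j
  -- the inverse Teichmüller element
  have hinv : WittVector.truncate m (WittVector.teichmuller p ((u ^ l : Bˣ) : B)) *
      WittVector.truncate m (WittVector.teichmuller p ((u ^ (-l) : Bˣ) : B)) = 1 := by
    rw [← map_mul, ← map_mul, ← Units.val_mul, ← zpow_add, add_neg_cancel, zpow_zero, Units.val_one,
      map_one, map_one]
  ext x
  constructor
  · intro hx
    refine ⟨WittVector.truncate m (WittVector.teichmuller p ((u ^ (-l) : Bˣ) : B)) * x, ?_, ?_⟩
    · rw [← key]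
      rw [← mul_assoc, hinv, one_mul]
      exact hx
    · show WittVector.truncate m (WittVector.teichmuller p ((u ^ l : Bˣ) : B)) *
        (WittVector.truncate m (WittVector.teichmuller p ((u ^ (-l) : Bˣ) : B)) * x) = x
      rw [← mul_assoc, hinv, one_mul]
  · rintro ⟨a, ha, rfl⟩
    exact (key a).mpr ha

end H9WF

/-- Let A → B be a homomorphism of commutative rings, u a unit of B, m ≥ 0 and n, l integers. For an
element c of B call the filtered piece cut out by c the set of truncated p-typical Witt vectors of
length m over B whose j-th coordinate y_j satisfies: y_j ^ (p ^ (m-1-j)) · c lies in the image of A,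
for every j < m. Then the piece cut out by u ^ (n − p^(m−1)·l) is exactly the image of the piece cut
out by u ^ n under multiplication by the truncated Teichmüller representative [u ^ l]. (The
published case is B = S[[π]][1/π] over A = S[[π]] with u = π; the computation is the same in
general.) -/
theorem result (p : ℕ) [Fact p.Prime] {A B : Type u}
    [CommRing A] [CommRing B] [Algebra A B] (m : ℕ) (u : Bˣ) (n l : ℤ) :
    WittFil.fil p m (A := A) ((u ^ (n - (p : ℤ) ^ (m - 1) * l) : Bˣ) : B) =
      (fun a => WittVector.truncate m (WittVector.teichmuller p ((u ^ l : Bˣ) : B)) * a) ''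
        WittFil.fil p m (A := A) ((u ^ n : Bˣ) : B) := by
  exact H9WF.main p m u n l

end Groth.Agent.S19267
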