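import Groth.Statements.S19269
import Mathlib

set_option autoImplicit false
universe u
open CAlg

namespace Groth.Agent.S19269

open IsLocalRing

theorem aux {R : Type u} [CommRing R]
    [IsNoetherianRing R] [IsLocalRing R] (I : Ideal R) (hItop : I ≠ ⊤)
    {M : Type u} [AddCommGroup M] [Module R M]
    [Module.Finite R M] (N : Submodule R M)
    (N' : Submodule (AdicCompletion I R) (AdicCompletion I M))
    (hle : ∀ x ∈ N, AdicCompletion.of I M x ∈ N')
    (hdense : ∀ y ∈ N', ∀ k : ℕ, ∃ x ∈ N,
      AdicCompletion.eval I M k y = Submodule.Quotient.mk x) :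
    (N'.restrictScalars R =
        (LinearMap.range (AdicCompletion.map I N.subtype)).restrictScalars R) ∧
      (∀ x : M, x ∈ N ↔ AdicCompletion.of I M x ∈ N') := by
  classical
  haveI : IsNoetherian R M := isNoetherian_of_isNoetherianRing_of_finite R M
  -- differences of approximations
  have hdiff : ∀ (y : AdicCompletion I M) (k l : ℕ) (hkl : k ≤ l) (a b : M),
      AdicCompletion.eval I M k y = Submodule.Quotient.mk a →
      AdicCompletion.eval I M l y = Submodule.Quotient.mk b →
      a - b ∈ (I ^ k • ⊤ : Submodule R M) := by
    intro y k l hkl a b ha hb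
    have h1 : AdicCompletion.transitionMap I M hkl (y.val l) = y.val k :=
      AdicCompletion.transitionMap_comp_eval_apply I M hkl y
    rw [AdicCompletion.eval_apply] at ha hb
    rw [ha, hb] at h1
    have h2 : (Submodule.Quotient.mk b : M ⧸ (I ^ k • ⊤ : Submodule R M)) =
        Submodule.Quotient.mk a := h1
    exact (Submodule.Quotient.eq _).mp h2.symm
  constructor
  · -- first part
    ext y
    simp only [Submodule.restrictScalars_mem, LinearMap.mem_range]
    constructor
    · intro hy
      choose xs hxN hxs using hdense y hy
      obtain ⟨c, hc⟩ := Ideal.exists_pow_inf_eq_pow_smul I N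
      let a : ℕ → N := fun k => ⟨xs (k + c), hxN _⟩
      have hcauchy : ∀ k, a k ≡ a (k + 1) [SMOD (I ^ k • ⊤ : Submodule R N)] := by
        intro k
        rw [SModEq.sub_mem]
        have h1 : xs (k + c) - xs (k + 1 + c) ∈ (I ^ (k + c) • ⊤ : Submodule R M) :=
          hdiff y (k + c) (k + 1 + c) (by omega) _ _ (hxs _) (hxs _)
        have h2 : xs (k + c) - xs (k + 1 + c) ∈ (I ^ (k + c) • ⊤ ⊓ N : Submodule R M) :=
          ⟨h1, N.sub_mem (hxN _) (hxN _)⟩
        rw [hc (k + c) (by omega), Nat.add_sub_cancel] at h2
        have h3 : (I ^ k • (I ^ c • ⊤ ⊓ N) : Submodule R M) ≤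
            Submodule.map N.subtype (I ^ k • ⊤ : Submodule R N) := by
          rw [Submodule.map_smul'', Submodule.map_top, Submodule.range_subtype]
          exact Submodule.smul_mono le_rfl inf_le_right
        obtain ⟨d, hd, hd'⟩ := h3 h2
        have : d = a k - a (k + 1) := by
          apply Subtype.ext
          rw [← Submodule.subtype_apply, hd']
          rfl
        rw [← this]
        exact hd
      refine ⟨AdicCompletion.mk I N (AdicCompletion.AdicCauchySequence.mk I N a hcauchy), ?_⟩
      apply AdicCompletion.ext
      intro k
      rw [AdicCompletion.map_mk]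
      have h1 : AdicCompletion.transitionMap I M (Nat.le_add_right k c) (y.val (k + c)) = y.val k :=
        AdicCompletion.transitionMap_comp_eval_apply I M _ y
      have h2 := hxs (k + c)
      rw [AdicCompletion.eval_apply] at h2
      rw [← h1, h2]
      rfl
    · rintro ⟨z, rfl⟩
      obtain ⟨t, rfl⟩ := AdicCompletion.ofTensorProduct_surjective_of_finite I N z
      induction t using TensorProduct.induction_on with
      | zero => simp
      | tmul r n =>
        rw [AdicCompletion.ofTensorProduct_tmul, map_smul, AdicCompletion.map_of]
        exact N'.smul_mem r (hle _ n.2)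
      | add t₁ t₂ h₁ h₂ =>
        rw [map_add, map_add]
        exact N'.add_mem h₁ h₂
  · -- second part
    intro x
    refine ⟨hle x, fun hx => ?_⟩
    have hq : N.mkQ x ∈ (⨅ k : ℕ, I ^ k • ⊤ : Submodule R (M ⧸ N)) := by
      rw [Submodule.mem_iInf]
      intro k
      obtain ⟨n, hn, hnk⟩ := hdense _ hx k
      rw [AdicCompletion.eval_of] at hnk
      have h1 : x - n ∈ (I ^ k • ⊤ : Submodule R M) := (Submodule.Quotient.eq _).mp hnk
      have h2 : N.mkQ x = N.mkQ (x - n) := by
        rw [map_sub, Submodule.mkQ_apply, Submodule.mkQ_apply,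
          (Submodule.Quotient.mk_eq_zero N).mpr hn, sub_zero]
      rw [h2]
      have h3 : Submodule.map N.mkQ (I ^ k • ⊤ : Submodule R M) ≤ I ^ k • ⊤ := by
        rw [Submodule.map_smul'']
        exact Submodule.smul_mono le_rfl le_top
      exact h3 ⟨_, h1, rfl⟩
    rw [Ideal.iInf_pow_smul_eq_bot_of_isLocalRing I hItop, Submodule.mem_bot] at hq
    exact (Submodule.Quotient.mk_eq_zero N).mp hq

open IsLocalRing in
/-- Let R be a Noetherian local ring with maximal ideal 𝔪, M a finitely generated R-module and M^ its
𝔪-adic completion, a module over the 𝔪-adic completion R^ of R. Let N' be an R^-submodule of M^ and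
N an R-submodule of M whose image in M^ is contained in N' and is dense in N' for the 𝔪-adic
topology, in the sense that for every y in N' and every k there is x in N with y ≡ x modulo the
kernel of M^ → M/𝔪^k M. Then N' equals the image of the completion of N under the map induced by the
inclusion N → M (so N' is the completion of N), and N is the set of elements of M whose image in M^
lies in N'. -/
theorem result {R : Type u} [CommRing R]
    [IsNoetherianRing R] [IsLocalRing R] {M : Type u} [AddCommGroup M] [Module R M]
    [Module.Finite R M] (N : Submodule R M)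
    (N' : Submodule (AdicCompletion (maximalIdeal R) R) (AdicCompletion (maximalIdeal R) M))
    (hle : ∀ x ∈ N, AdicCompletion.of (maximalIdeal R) M x ∈ N')
    (hdense : ∀ y ∈ N', ∀ k : ℕ, ∃ x ∈ N,
      AdicCompletion.eval (maximalIdeal R) M k y = Submodule.Quotient.mk x) :
    (N'.restrictScalars R =
        (LinearMap.range (AdicCompletion.map (maximalIdeal R) N.subtype)).restrictScalars R) ∧
      (∀ x : M, x ∈ N ↔ AdicCompletion.of (maximalIdeal R) M x ∈ N') := by
  exact aux (maximalIdeal R) (maximalIdeal.isMaximal R).ne_top N N' hle hdense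

end Groth.Agent.S19269
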