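import Groth.Statements.S19273
import Mathlib

set_option autoImplicit false
universe u
open CAlg

namespace Groth.Agent.S19273

open KaehlerDifferential

open KaehlerDifferential in
/-- Let A be an integral domain of prime characteristic p, x_1, …, x_N elements of A, r ≤ N, B =
A[1/(x_1⋯x_r)] with u_i the unit of B defined by x_i for i ≤ r, and suppose that the module Ω_A of
absolute Kähler differentials of A is free with a basis b indexed by {1, …, N} ⊔ ι whose i-th vector
is d(x_i) for i ≤ N. Then the module of logarithmic 1-forms — the A-submodule of Ω_B spanned by the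
image of Ω_A and the forms u_i⁻¹ · d(x_i), i ≤ r — is a free A-module: it has a basis indexed by {1,
…, N} ⊔ ι whose vector at i ≤ r is u_i⁻¹ · d(x_i), at r < i ≤ N is d(x_i), and at k ∈ ι is the image
of b_k. (In the published statement A is a regular local F-finite algebra over the prime field with
maximal ideal (x_1, …, x_N), the basis of Ω_A comes from the preceding lemma, and the assertion
covers the logarithmic q-forms for all q together with their identification with the log de Rham
complex of the log ring; only the degree-one freeness is stated here, from the properties of A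
actually used.) -/
theorem result (p : ℕ) [Fact p.Prime]
    {A B : Type u} [CommRing A] [IsDomain A] [CharP A p] [CommRing B] [Algebra A B] {r N : ℕ}
    (hr : r ≤ N) (x : Fin N → A) [IsLocalization.Away (∏ i : Fin r, x (Fin.castLE hr i)) B]
    (u : Fin r → Bˣ) (hu : ∀ i, (u i : B) = algebraMap A B (x (Fin.castLE hr i)))
    {ι : Type u} (b : Module.Basis (Fin N ⊕ ι) A (Ω[A⁄ℤ])) (hb : ∀ i, b (Sum.inl i) = D ℤ A (x i)) :
    ∃ e : Module.Basis (Fin N ⊕ ι) A
        (W4c6katofilta.logForms1 (fun i : Fin r => x (Fin.castLE hr i)) u),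
      (∀ i : Fin r, (e (Sum.inl (Fin.castLE hr i)) : Ω[B⁄ℤ]) =
          ((u i)⁻¹ : Bˣ) • KaehlerDifferential.map ℤ ℤ A B (D ℤ A (x (Fin.castLE hr i)))) ∧
      (∀ i : Fin N, r ≤ (i : ℕ) →
          (e (Sum.inl i) : Ω[B⁄ℤ]) = KaehlerDifferential.map ℤ ℤ A B (D ℤ A (x i))) ∧
      (∀ k : ι, (e (Sum.inr k) : Ω[B⁄ℤ]) = KaehlerDifferential.map ℤ ℤ A B (b (Sum.inr k))) := by
  classical
  set π : A := ∏ i : Fin r, x (Fin.castLE hr i) with hπdef
  -- the `x i` are nonzero
  have hx0 : ∀ i : Fin N, x i ≠ 0 := by
    intro i h0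
    have h1 := b.ne_zero (Sum.inl i)
    rw [hb i, h0] at h1
    exact h1 (map_zero _)
  have hπ : π ≠ 0 := Finset.prod_ne_zero_iff.mpr fun i _ => hx0 _
  have hinjAB : Function.Injective (algebraMap A B) :=
    IsLocalization.injective B (powers_le_nonZeroDivisors_of_noZeroDivisors hπ)
  let f : Ω[A⁄ℤ] →ₗ[A] Ω[B⁄ℤ] := KaehlerDifferential.map ℤ ℤ A B
  haveI hloc : IsLocalizedModule (Submonoid.powers π) f :=
    KaehlerDifferential.isLocalizedModule_map (R := ℤ) (S := A) (T := B) (Submonoid.powers π)
  let bB : Module.Basis (Fin N ⊕ ι) B (Ω[B⁄ℤ]) := b.ofIsLocalizedModule B (Submonoid.powers π) f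
  have hbB : ∀ j, bB j = f (b j) := fun j => b.ofIsLocalizedModule_apply B (Submonoid.powers π) f j
  -- the unit multipliers
  let w : Fin N ⊕ ι → B := fun j =>
    Sum.elim (fun i : Fin N => if h : (i : ℕ) < r then (((u ⟨i, h⟩)⁻¹ : Bˣ) : B) else 1) (fun _ => 1) j
  have hw : ∀ j, IsUnit (w j) := by
    rintro (i | k)
    · by_cases h : (i : ℕ) < r
      · simp only [w, Sum.elim_inl, dif_pos h]
        exact Units.isUnit _
      · simp only [w, Sum.elim_inl, dif_neg h]
        exact isUnit_one
    · exact isUnit_one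
  let bB' : Module.Basis (Fin N ⊕ ι) B (Ω[B⁄ℤ]) := bB.isUnitSMul hw
  have hbB' : ∀ j, bB' j = w j • f (b j) := by
    intro j
    rw [Module.Basis.isUnitSMul_apply, hbB]
  have hli : LinearIndependent A (fun j => bB' j) := by
    refine bB'.linearIndependent.restrict_scalars (R := A) ?_
    intro a a' h
    apply hinjAB
    simpa [Algebra.smul_def] using h
  -- values of the family
  have hv_lt : ∀ i : Fin r, bB' (Sum.inl (Fin.castLE hr i)) =
      ((u i)⁻¹ : Bˣ) • f (D ℤ A (x (Fin.castLE hr i))) := by
    intro i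
    rw [hbB', hb]
    have h : ((Fin.castLE hr i : Fin N) : ℕ) < r := by simp
    simp only [w, Sum.elim_inl, dif_pos h]
    rw [Units.smul_def]
    congr 3
  have hv_ge : ∀ i : Fin N, r ≤ (i : ℕ) → bB' (Sum.inl i) = f (D ℤ A (x i)) := by
    intro i hi
    rw [hbB', hb]
    have h : ¬ (i : ℕ) < r := by omega
    simp only [w, Sum.elim_inl, dif_neg h, one_smul]
  have hv_inr : ∀ k : ι, bB' (Sum.inr k) = f (b (Sum.inr k)) := by
    intro k
    rw [hbB']
    simp only [w, Sum.elim_inr, one_smul]
  -- the span
  have hspan : Submodule.span A (Set.range fun j => bB' j) =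
      W4c6katofilta.logForms1 (fun i : Fin r => x (Fin.castLE hr i)) u := by
    unfold W4c6katofilta.logForms1
    apply le_antisymm
    · rw [Submodule.span_le]
      rintro _ ⟨j, rfl⟩
      apply Submodule.subset_span
      rcases j with i | k
      · by_cases h : (i : ℕ) < r
        · right
          refine ⟨⟨i, h⟩, ?_⟩
          have := hv_lt ⟨i, h⟩
          simp only [Fin.castLE_mk, Fin.eta] at this
          exact this.symm
        · left
          exact ⟨_, (hv_ge i (by omega)).symm⟩
      · left
        exact ⟨_, (hv_inr k).symm⟩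
    · rw [Submodule.span_le]
      rintro y (⟨ω, rfl⟩ | ⟨i, rfl⟩)
      · -- `f ω` for `ω ∈ Ω_A`
        have hω : ω ∈ Submodule.span A (Set.range b) := by rw [b.span_eq]; trivial
        have h1 : f ω ∈ Submodule.map f (Submodule.span A (Set.range b)) := ⟨ω, hω, rfl⟩
        rw [Submodule.map_span] at h1
        refine Submodule.span_le.mpr ?_ h1
        rintro _ ⟨_, ⟨j, rfl⟩, rfl⟩
        rcases j with i | k
        · by_cases h : (i : ℕ) < r
          · have h2 := hv_lt ⟨i, h⟩
            simp only [Fin.castLE_mk, Fin.eta] at h2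
            have h3 : f (b (Sum.inl i)) = x i • bB' (Sum.inl i) := by
              rw [h2, hb, Units.smul_def, ← algebraMap_smul B (x i), smul_smul]
              have h4 := hu ⟨i, h⟩
              simp only [Fin.castLE_mk, Fin.eta] at h4
              rw [← h4, Units.mul_inv, one_smul]
            rw [h3]
            exact Submodule.smul_mem _ _ (Submodule.subset_span ⟨_, rfl⟩)
          · rw [hb, ← hv_ge i (by omega)]
            exact Submodule.subset_span ⟨_, rfl⟩
        · rw [← hv_inr k]
          exact Submodule.subset_span ⟨_, rfl⟩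
      · show ((u i)⁻¹ : Bˣ) • f (D ℤ A (x (Fin.castLE hr i))) ∈ _
        rw [← hv_lt i]
        exact Submodule.subset_span ⟨_, rfl⟩
  let e0 : Module.Basis (Fin N ⊕ ι) A (Submodule.span A (Set.range fun j => bB' j)) :=
    Module.Basis.span hli
  let e : Module.Basis (Fin N ⊕ ι) A
      (W4c6katofilta.logForms1 (fun i : Fin r => x (Fin.castLE hr i)) u) :=
    e0.map (LinearEquiv.ofEq _ _ hspan)
  have he : ∀ j, ((e j : W4c6katofilta.logForms1 (fun i : Fin r => x (Fin.castLE hr i)) u) :
      Ω[B⁄ℤ]) = bB' j := by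
    intro j
    simp only [e, e0, Module.Basis.map_apply, LinearEquiv.coe_ofEq_apply]
    exact Module.Basis.coe_span_apply hli j
  refine ⟨e, ?_, ?_, ?_⟩
  · intro i
    rw [he, hv_lt]
  · intro i hi
    rw [he, hv_ge i hi]
  · intro k
    rw [he, hv_inr]

end Groth.Agent.S19273
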