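import Groth.Statements.S19274
import Mathlib
import Groth.Agent.Lib.Helper9.WittFilFloor

set_option autoImplicit false
universe u
open WittFil

namespace Groth.Agent.S19274

/-- Let A be a unique factorisation domain of characteristic p, x a prime element of A, B = A[1/x] with
u the unit of B defined by x, m ≥ 1, and n an integer NOT divisible by p^m. For e in B and k ≥ 0
write fil_k(e) for the set of truncated p-typical Witt vectors of length k over B whose j-th
coordinate y_j satisfies y_j ^ (p ^ (k−1−j)) · e ∈ A for all j < k (the filtered piece; fil_k(u^n)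
is the piece of index n). Then fil_{m+1}(u^n) is contained in fil_{m+1}(u^(n−1)) + V(fil_m(u^n))
(the reverse inclusion is immediate): every a in fil_{m+1}(u^n) can be written a = b + V(y) with b
in fil_{m+1}(u^(n−1)) and y a Witt vector over B whose length-m truncation lies in fil_m(u^n), V(y)
being truncated to length m+1. (In the source A is a henselian discrete valuation ring, n = p^r·l >
1 with p not dividing l, and the condition reads m ≥ r + 1.) -/
theorem result (p : ℕ) [Fact p.Prime]
    {A B : Type u} [CommRing A] [IsDomain A] [UniqueFactorizationMonoid A] [CharP A p]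
    [CommRing B] [Algebra A B] (x : A) (hx : Prime x) [IsLocalization.Away x B] (u : Bˣ)
    (hu : (u : B) = algebraMap A B x) (m : ℕ) (hm : 0 < m) (n : ℤ) (hn : ¬ ((p : ℤ) ^ m ∣ n)) :
    ∀ a ∈ WittFil.fil p (m + 1) (A := A) ((u ^ n : Bˣ) : B),
      ∃ b ∈ WittFil.fil p (m + 1) (A := A) ((u ^ (n - 1) : Bˣ) : B),
        ∃ y : WittVector p B,
          WittVector.truncate m y ∈ WittFil.fil p m (A := A) ((u ^ n : Bˣ) : B) ∧
            a = b + WittVector.truncate (m + 1) (WittVector.verschiebung y) := by
  have hx0 : x ≠ 0 := hx.ne_zero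
  have hchar : CharP B p := Groth.Agent.H9.WFil.charP_of_away p x hx0
  have hroot : Groth.Agent.H9.WFil.RootClosed A B := Groth.Agent.H9.WFil.rootClosed_of_ufd x hx0
  have hppos : ∀ k : ℕ, 0 < p ^ k := fun k => pow_pos (Fact.out : p.Prime).pos k
  intro a ha
  obtain ⟨a', rfl⟩ := WittVector.truncate_surjective p (m + 1) B a
  set b' : WittVector p B := WittVector.teichmuller p (a'.coeff 0) with hb'
  -- the zeroth condition
  have h0 := ha ⟨0, Nat.succ_pos m⟩
  rw [WittVector.coeff_truncate] at h0
  simp only [Nat.add_sub_cancel, Nat.sub_zero] at h0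
  -- `b` lies in the piece of index `n`
  have hbn : WittVector.truncate (m + 1) b' ∈ WittFil.fil p (m + 1) (A := A) ((u ^ n : Bˣ) : B) := by
    intro j
    rw [WittVector.coeff_truncate]
    by_cases hj : (j : ℕ) = 0
    · rw [hj, hb', WittVector.teichmuller_coeff_zero]
      simpa using h0
    · rw [hb', WittVector.teichmuller_coeff_pos p _ _ (Nat.pos_of_ne_zero hj),
        zero_pow (hppos _).ne', zero_mul]
      exact Subring.zero_mem _
  -- `b` lies in the piece of index `n - 1`
  have hdiv : (n - 1) / ((p ^ m : ℕ) : ℤ) = n / ((p ^ m : ℕ) : ℤ) := by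
    have hq : (0 : ℤ) < ((p ^ m : ℕ) : ℤ) := by exact_mod_cast hppos m
    have hnd : ¬ (((p ^ m : ℕ) : ℤ) ∣ n) := by
      push_cast
      exact hn
    have hmod : 0 < n % ((p ^ m : ℕ) : ℤ) := by
      rcases (Int.emod_nonneg n hq.ne').lt_or_eq with h | h
      · exact h
      · exact absurd (Int.dvd_of_emod_eq_zero h.symm) hnd
    have h1 : n - 1 = (n % ((p ^ m : ℕ) : ℤ) - 1) + ((p ^ m : ℕ) : ℤ) * (n / ((p ^ m : ℕ) : ℤ)) := by
      have := Int.emod_add_mul_ediv n ((p ^ m : ℕ) : ℤ)
      omega
    rw [h1, Int.add_mul_ediv_left _ _ hq.ne', Int.ediv_eq_zero_of_lt (by omega)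
      (by have := Int.emod_lt_of_pos n hq; omega), zero_add]
  have hbn1 : WittVector.truncate (m + 1) b' ∈
      WittFil.fil p (m + 1) (A := A) ((u ^ (n - 1) : Bˣ) : B) := by
    intro j
    rw [WittVector.coeff_truncate]
    by_cases hj : (j : ℕ) = 0
    · rw [hj, hb', WittVector.teichmuller_coeff_zero]
      simp only [Nat.add_sub_cancel, Nat.sub_zero]
      rw [Groth.Agent.H9.WFil.pow_mul_zpow_mem_iff x hx u hu _ (hppos m), hdiv,
        ← Groth.Agent.H9.WFil.pow_mul_zpow_mem_iff x hx u hu _ (hppos m)]
      exact h0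
    · rw [hb', WittVector.teichmuller_coeff_pos p _ _ (Nat.pos_of_ne_zero hj),
        zero_pow (hppos _).ne', zero_mul]
      exact Subring.zero_mem _
  -- the difference
  set c : WittVector p B := a' - b' with hc
  have hcfil : WittVector.truncate (m + 1) c ∈ WittFil.fil p (m + 1) (A := A) ((u ^ n : Bˣ) : B) := by
    rw [hc, map_sub]
    exact Groth.Agent.H9.WFil.sub_mem_fil p hroot _ _ _ _ ha hbn
  have hc0 : c.coeff 0 = 0 := by
    have h1 : a' = c + b' := by rw [hc]; ring
    have h2 : a'.coeff 0 = c.coeff 0 + b'.coeff 0 := by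
      conv_lhs => rw [h1]
      exact WittVector.add_coeff_zero _ _
    rw [hb', WittVector.teichmuller_coeff_zero] at h2
    have h3 : c.coeff 0 + a'.coeff 0 = 0 + a'.coeff 0 := by rw [zero_add]; exact h2.symm
    exact add_right_cancel h3
  have hcV : c = WittVector.verschiebung (c.shift 1) := by
    have := WittVector.eq_iterate_verschiebung (x := c) (n := 1)
      (fun i hi => by
        have : i = 0 := by omega
        rw [this, hc0])
    simpa using this
  refine ⟨WittVector.truncate (m + 1) b', hbn1, c.shift 1, ?_, ?_⟩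
  · intro j
    rw [WittVector.coeff_truncate, WittVector.shift_coeff]
    have h1 := hcfil ⟨1 + (j : ℕ), by have := j.2; omega⟩
    rw [WittVector.coeff_truncate] at h1
    have h2 : m + 1 - 1 - (1 + (j : ℕ)) = m - 1 - (j : ℕ) := by omega
    simp only [h2] at h1
    exact h1
  · rw [← hcV, ← map_add, hc]
    congr 1
    ring

end Groth.Agent.S19274
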