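import Groth.Statements.S19276
import Mathlib
import Groth.Agent.Lib.Helper9.GrpAlgMain

set_option autoImplicit false
universe u v
open GrpAlg

namespace Groth.Agent.S19276

/-- Let `A` be a finite commutative group and `Λ` a commutative ring in which the order of `A` is
invertible. Then the ring homomorphism from the group ring `Λ[A]` to the product, over the subgroups
`B` of `A` with cyclic quotient, of the cyclotomic quotients `Λ[A ⧸ B]/(Φ_{|A/B|})`, each component
induced by `A → A/B`, is bijective. (In terms of group schemes: `Λ[A]` is the representation ring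
with coefficients in `Λ` of the finite diagonalizable group with character group `A`, the factors
are indexed by its dual cyclic subgroups, i.e. those isomorphic to some `μ_n`, and the components
are restriction followed by the cyclotomic quotient. The published statement takes `Λ = ℤ[1/|A|]`;
here `Λ` is any commutative ring in which `|A|` is invertible.) -/
theorem result (Λ : Type u) [CommRing Λ] (A : Type v)
    [AddCommGroup A] [Finite A] (hA : IsUnit ((Nat.card A : ℕ) : Λ)) :
    Function.Bijective (RingHom.pi fun B : {B : AddSubgroup A // IsAddCyclic (A ⧸ B)} =>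
      W4c6equivkfinstab.cycQuotMap Λ A B.1) := by
  have hfi : ∀ B : AddSubgroup A, B.FiniteIndex := fun B => inferInstance
  have hidx : ∀ B : AddSubgroup A, IsUnit ((B.index : ℕ) : Λ) := by
    intro B
    obtain ⟨c, hc⟩ := AddSubgroup.index_dvd_card B
    rw [hc, Nat.cast_mul] at hA
    exact isUnit_of_mul_isUnit_left hA
  constructor
  · rw [injective_iff_map_eq_zero]
    intro x hx
    have h1 : ∀ B : AddSubgroup A, (⊥ : AddSubgroup A) ≤ B → IsAddCyclic (A ⧸ B) →
        W4c6equivkfinstab.cycQuotMap Λ A B x = 0 := by
      intro B _ hB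
      exact congrFun hx ⟨B, hB⟩
    have h2 := Groth.Agent.H9.GrpAlg.quotMap_eq_zero (Λ := Λ) (⊥ : AddSubgroup A) (hidx ⊥) x h1
    have h3 : x ∈ Groth.Agent.H9.GrpAlg.augIdeal Λ (⊥ : AddSubgroup A) := by
      rw [← Groth.Agent.H9.GrpAlg.ker_quotMap]; exact h2
    rw [Groth.Agent.H9.GrpAlg.augIdeal_bot] at h3
    exact h3
  · intro f
    have hsurj : ∀ B : {B : AddSubgroup A // IsAddCyclic (A ⧸ B)},
        ∃ x, W4c6equivkfinstab.cycQuotMap Λ A B.1 x = f B :=
      fun B => Groth.Agent.H9.GrpAlg.cycQuotMap_surjective B.1 (f B)
    choose x hx using hsurj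
    have hcop : Pairwise (Function.onFun IsCoprime
        (fun B : {B : AddSubgroup A // IsAddCyclic (A ⧸ B)} =>
          RingHom.ker (W4c6equivkfinstab.cycQuotMap Λ A B.1))) := by
      intro B B' hne
      haveI := B.2
      haveI := B'.2
      exact Groth.Agent.H9.GrpAlg.isCoprime_ker_cycQuotMap
        (fun h => hne (Subtype.ext h)) (hidx B.1) (hidx B'.1)
    obtain ⟨r, hr⟩ := Ideal.exists_forall_sub_mem_ideal hcop x
    refine ⟨r, ?_⟩
    funext B
    have := hr B
    rw [RingHom.mem_ker, map_sub, sub_eq_zero] at this
    rw [← hx B]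
    exact this

end Groth.Agent.S19276
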