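import Groth.Statements.S19279
import Mathlib
import Groth.Agent.Lib.Helper9.GrpAlgMain

set_option autoImplicit false
universe u v
open GrpAlg

namespace Groth.Agent.S19279

/-- Let `M` be a commutative group, `B₀` a subgroup of finite index and `Λ` a commutative ring in which
the index of `B₀` is invertible. Then the `Λ[M]`-linear map from `Λ[M ⧸ B₀]` to the product, over
the subgroups `B ⊇ B₀` with `M ⧸ B` cyclic, of the localizations of `Λ[M ⧸ B₀]` at the
multiplicative subsets of `Λ[M]` of elements with image `1` in `Λ[M ⧸ B]/(Φ_{|M/B|})`, with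
components the localization maps, is bijective. (In terms of group schemes: for a finite closed
subgroup T' = D(M/B₀) of the diagonalizable group with character group `M`, the representation ring
of T' with coefficients in `Λ` is the product of its localizations at the dual cyclic subgroups of
T'. The published statement has a split torus and `Λ = ℤ[1/|T'|]`; here `M` is any commutative group
and `Λ` any commutative ring in which the order of T' is invertible.) -/
theorem result (Λ : Type u) [CommRing Λ]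
    (M : Type v) [AddCommGroup M] (B₀ : AddSubgroup M) [B₀.FiniteIndex]
    (hu : IsUnit ((B₀.index : ℕ) : Λ)) :
    Function.Bijective (LinearMap.pi (R := AddMonoidAlgebra Λ M)
      fun B : {B : AddSubgroup M // B₀ ≤ B ∧ IsAddCyclic (M ⧸ B)} =>
        LocalizedModule.mkLinearMap (W4c6equivkfinstab.locSubmonoid Λ M B.1)
          (AddMonoidAlgebra Λ (M ⧸ B₀))) := by
  have hfin0 : Finite (M ⧸ B₀) := AddSubgroup.finite_quotient_of_finiteIndex
  have hfinι : Finite {B : AddSubgroup M // B₀ ≤ B ∧ IsAddCyclic (M ⧸ B)} := by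
    have h1 : Finite {H : AddSubgroup M // B₀ ≤ H} :=
      Finite.of_equiv _ (QuotientAddGroup.comapMk'OrderIso B₀).toEquiv
    exact Finite.of_injective
      (fun B : {B : AddSubgroup M // B₀ ≤ B ∧ IsAddCyclic (M ⧸ B)} =>
        (⟨B.1, B.2.1⟩ : {H : AddSubgroup M // B₀ ≤ H}))
      (fun B B' h => Subtype.ext (Subtype.mk.inj h))
  have hfi : ∀ B : AddSubgroup M, B₀ ≤ B → B.FiniteIndex :=
    fun B h => AddSubgroup.finiteIndex_of_le h
  have hidx : ∀ B : AddSubgroup M, B₀ ≤ B → IsUnit ((B.index : ℕ) : Λ) := by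
    intro B h
    obtain ⟨c, hc⟩ := AddSubgroup.index_dvd_of_le h
    rw [hc, Nat.cast_mul] at hu
    exact isUnit_of_mul_isUnit_left hu
  refine Groth.Agent.H9.GrpAlg.bijective_pi_mkLinearMap
    (T := AddMonoidAlgebra Λ M) (P := AddMonoidAlgebra Λ (M ⧸ B₀))
    (fun B : {B : AddSubgroup M // B₀ ≤ B ∧ IsAddCyclic (M ⧸ B)} =>
      RingHom.ker (W4c6equivkfinstab.cycQuotMap Λ M B.1))
    (fun B => W4c6equivkfinstab.locSubmonoid Λ M B.1) ?_ ?_ ?_
  · intro B s
    change W4c6equivkfinstab.cycQuotMap Λ M B.1 s = 1 ↔ _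
    rw [RingHom.mem_ker, map_sub, map_one, sub_eq_zero]
  · intro B B' hne
    have := B.2.2
    have := B'.2.2
    have := hfi B.1 B.2.1
    have := hfi B'.1 B'.2.1
    exact Groth.Agent.H9.GrpAlg.isCoprime_ker_cycQuotMap
      (fun h => hne (Subtype.ext h)) (hidx B.1 B.2.1) (hidx B'.1 B'.2.1)
  · intro t ht p
    have h1 : W4c6equivkfinstab.quotMap Λ M B₀ t = 0 :=
      Groth.Agent.H9.GrpAlg.quotMap_eq_zero (Λ := Λ) B₀ hu t
        (fun B hB hcyc => ht ⟨B, hB, hcyc⟩)
    have h2 : t • p = W4c6equivkfinstab.quotMap Λ M B₀ t * p := rfl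
    rw [h2, h1, zero_mul]

end Groth.Agent.S19279
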