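import Groth.Statements.S19288
import Groth.Agent.Lib.Helper8.FCon.EtRigid
-- import your own Groth.Agent.* helpers here

set_option autoImplicit false
universe u
open CategoryTheory CategoryTheory.Limits MonoidalCategory CartesianMonoidalCategory MonObj AlgebraicGeometry
open AbSch

namespace Groth.Agent.S19288

/-- Let S be a scheme, X a commutative S-group scheme which is etale and separated over S (hence locally
of finite presentation), and P a commutative S-group scheme of finite presentation over S all of
whose fibres are connected. Then every homomorphism of S-group schemes from P to X is trivial (it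
factors through the unit section). -/
theorem result {S : Scheme.{u}} (P X : Over S)
    [GrpObj P] [IsCommMonObj P] [GrpObj X] [IsCommMonObj X]
    [Etale X.hom] [IsSeparated X.hom]
    [QuasiCompact P.hom] [QuasiSeparated P.hom] [LocallyOfFinitePresentation P.hom]
    (hP : ∀ s : S, ConnectedSpace ↥(P.hom.fiber s))
    (f : P ⟶ X) [IsMonHom f] : f = 1 := by
  apply Over.OverMorphism.ext
  refine Groth.Agent.H8.FCon.eq_of_connected_fibres P.hom X.hom
    ((η[P] : 𝟙_ (Over S) ⟶ P).left) (Over.w η[P]) hP f.left (1 : P ⟶ X).left (Over.w f)
    (Over.w (1 : P ⟶ X)) ?_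
  have h1 : (η[P] : 𝟙_ (Over S) ⟶ P) ≫ f = η[P] ≫ (1 : P ⟶ X) := by
    rw [IsMonHom.one_hom, Hom.one_def, ← Category.assoc,
      toUnit_unique (η[P] ≫ toUnit P) (𝟙 _), Category.id_comp]
  exact congrArg (fun m => m.left) h1

end Groth.Agent.S19288
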