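import Groth.Statements.S19326
import Mathlib
import Groth.Agent.Lib.Helper9.ComodDiag

set_option autoImplicit false
universe u
open TensorProduct
open GLin

namespace Groth.Agent.S19326

/-- Let k be a field, M a finite abelian group and D = Spec k[M] the finite diagonalizable group scheme
it defines, acting on an affine k-scheme U = Spec R through a multiplicative coaction R → R ⊗ k[M];
write R_a for the weight space of a ∈ M (elements with coaction f ⊗ a). For an ideal J of R the
induced action of D on the closed subscheme V(J) is trivial, meaning that the coaction followed by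
reduction modulo J equals f ↦ (f mod J) ⊗ 1, exactly when J contains the ideal generated by the
weight spaces R_a for a ≠ 0; in other words that ideal defines the largest closed subscheme of U on
which D acts trivially. (The printed setting has U smooth, which plays no role here and is not
assumed; the further assertion that the construction commutes with flat base change on U/D is not
part of this statement.) -/
theorem result
    {k : Type u} [Field k] {M : Type u} [AddCommGroup M] [Finite M]
    {R : Type u} [CommRing R] [Algebra k R] [HopfRep.Comod k (AddMonoidAlgebra k M) R]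
    [GLin.IsCoactAlg k (AddMonoidAlgebra k M) R] (J : Ideal R) :
    (∀ f : R, LinearMap.rTensor (AddMonoidAlgebra k M) (Ideal.Quotient.mkₐ k J).toLinearMap
        (HopfRep.Comod.coact (k := k) (A := AddMonoidAlgebra k M) f) =
        (Ideal.Quotient.mk J f) ⊗ₜ[k] (1 : AddMonoidAlgebra k M)) ↔
      Ideal.span (⋃ (a : M) (_ : a ≠ 0),
        (HopfRep.eigenspace k (AddMonoidAlgebra k M) R (AddMonoidAlgebra.single a 1) : Set R)) ≤ J := by
  classical
  constructor
  · intro H
    rw [Ideal.span_le]
    intro f hf
    simp only [Set.mem_iUnion] at hf
    obtain ⟨a, ha, hfa⟩ := hf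
    have h1 : HopfRep.Comod.coact (k := k) (A := AddMonoidAlgebra k M) f =
        f ⊗ₜ[k] (AddMonoidAlgebra.single a 1) := hfa
    have h2 := H f
    rw [h1, LinearMap.rTensor_tmul] at h2
    let φ : AddMonoidAlgebra k M →ₗ[k] k :=
      Finsupp.lapply a ∘ₗ (AddMonoidAlgebra.coeffLinearEquiv k).toLinearMap
    have h3 := congrArg (fun z => TensorProduct.rid k (R ⧸ J) (LinearMap.lTensor (R ⧸ J) φ z)) h2
    simp only [LinearMap.lTensor_tmul, TensorProduct.rid_tmul] at h3
    have e1 : φ (AddMonoidAlgebra.single a 1) = 1 := by
      simp [φ]
    have e2 : φ (1 : AddMonoidAlgebra k M) = 0 := by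
      simp [φ, AddMonoidAlgebra.one_def, Finsupp.single_eq_of_ne ha]
    rw [e1, e2, one_smul, zero_smul] at h3
    have : (Ideal.Quotient.mk J) f = 0 := h3
    exact Ideal.Quotient.eq_zero_iff_mem.mp this
  · intro H f
    have hf := Groth.Agent.H9.Comod.mem_span_eigen_of_span_groupLike (k := k)
      (A := AddMonoidAlgebra k M) (V := R) AddMonoidAlgebra.span_isGroupLikeElem f
    induction hf using Submodule.span_induction with
    | mem x hx =>
      obtain ⟨g, hg, hxg⟩ := hx
      obtain ⟨a, rfl⟩ := AddMonoidAlgebra.isGroupLikeElem_iff_mem_range_single_one.mp hg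
      rw [hxg, LinearMap.rTensor_tmul]
      by_cases ha : a = 0
      · rw [ha]
        rfl
      · have hxJ : x ∈ J := by
          apply H
          apply Ideal.subset_span
          simp only [Set.mem_iUnion]
          exact ⟨a, ha, hxg⟩
        have : (Ideal.Quotient.mkₐ k J).toLinearMap x = 0 :=
          Ideal.Quotient.eq_zero_iff_mem.mpr hxJ
        rw [this, TensorProduct.zero_tmul]
        have : (Ideal.Quotient.mk J) x = 0 := Ideal.Quotient.eq_zero_iff_mem.mpr hxJ
        rw [this, TensorProduct.zero_tmul]
    | zero => simp
    | add x y _ _ hx hy => rw [map_add, map_add, hx, hy, map_add, TensorProduct.add_tmul]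
    | smul c x _ hx =>
      rw [map_smul, map_smul, hx]
      have : (Ideal.Quotient.mk J) (c • x) = c • (Ideal.Quotient.mk J) x :=
        map_smul (Ideal.Quotient.mkₐ k J) c x
      rw [this, TensorProduct.smul_tmul']

end Groth.Agent.S19326
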