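import Groth.Statements.S19341
import Groth.Agent.Lib.Lead.QC.CartierDense
import Groth.Agent.Lib.Lead.QC.CartierLe

set_option autoImplicit false
universe u
open CategoryTheory CategoryTheory.Limits AlgebraicGeometry TopologicalSpace
open ModPair

namespace Groth.Agent.S19341

/-- Let (S, I_S), (X, I_X), (T, I_T) be modulus pairs, i.e. schemes with quasi-coherent ideal sheaves of
effective Cartier divisors, and f : X ⟶ S, g : T ⟶ S morphisms satisfying the modulus conditions I_X
≤ I_S.comap f and I_T ≤ I_S.comap g. Suppose that the pulled-back ideals I_X.comap pr₁ and I_T.comap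
pr₂ on X ×_S T are again ideal sheaves of effective Cartier divisors. Then the pulled-back base
modulus I_S.comap (pr₁ ≫ f) is also the ideal sheaf of an effective Cartier divisor, and the
scheme-theoretic closure of pr₁⁻¹(X°) ∩ pr₂⁻¹(T°) is all of X ×_S T: its closed immersion into X ×_S
T is an isomorphism. Consequently the box product of (X, I_X) and (T, I_T) over (S, I_S) has total
space X ×_S T with modulus D_X + D_T − D_S. -/
theorem result {X T S : Scheme.{u}}
    (IS : S.IdealSheafData) (IX : X.IdealSheafData) (IT : T.IdealSheafData)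
    (hS : BlowUp.IsEffCartierIdeal IS) (hX : BlowUp.IsEffCartierIdeal IX)
    (hT : BlowUp.IsEffCartierIdeal IT) (f : X ⟶ S) (g : T ⟶ S)
    (hf : ModPair.IsAmbient IX IS f) (hg : ModPair.IsAmbient IT IS g)
    (h₁ : BlowUp.IsEffCartierIdeal (IX.comap (pullback.fst f g)))
    (h₂ : BlowUp.IsEffCartierIdeal (IT.comap (pullback.snd f g))) :
    BlowUp.IsEffCartierIdeal (IS.comap (pullback.fst f g ≫ f)) ∧
      IsIso (ModPair.mprodι f g IX IT) := by
  have ha : BlowUp.IsEffCartierIdeal (IS.comap (pullback.fst f g ≫ f)) := by
    apply Groth.Agent.LD.QC.isEffCartierIdeal_comap_of_le (IX.comap (pullback.fst f g)) IS h₁ hS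
    rw [Scheme.IdealSheafData.comap_comp]
    exact Scheme.IdealSheafData.comap_mono _ hf
  refine ⟨ha, ?_⟩
  have h3 : BlowUp.IsEffCartierIdeal
      (IX.comap (pullback.fst f g) * IT.comap (pullback.snd f g)) :=
    Groth.Agent.LD.QC.isEffCartierIdeal_mul _ _ h₁ h₂
  have hprod : ModPair.prodInterior f g IX IT =
      (IX.comap (pullback.fst f g) * IT.comap (pullback.snd f g)).support.compl := by
    ext z
    change ((pullback.fst f g) z ∉ IX.support ∧ (pullback.snd f g) z ∉ IT.support) ↔
      z ∉ (IX.comap (pullback.fst f g) * IT.comap (pullback.snd f g)).support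
    rw [Scheme.IdealSheafData.support_mul, Scheme.IdealSheafData.support_comap,
      Scheme.IdealSheafData.support_comap]
    change _ ↔ ¬ ((pullback.fst f g) z ∈ IX.support ∨ (pullback.snd f g) z ∈ IT.support)
    tauto
  have h1 : IsSchemeTheoreticallyDominant (ModPair.prodInterior f g IX IT).ι := by
    rw [hprod]
    exact Groth.Agent.LD.QC.isSchemeTheoreticallyDominant_compl_of_effCartier _ h3
  change IsIso (Scheme.IdealSheafData.subschemeι _)
  rw [Scheme.isIso_subschemeι_iff_eq_bot]
  exact h1.ker_eq_bot

end Groth.Agent.S19341
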