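import Groth.Statements.S19348
import Mathlib

set_option autoImplicit false
universe u
open RigCh

namespace Groth.Agent.S19348

/-- Let p be a prime and m a natural number, P a commutative ring complete and separated for the p-adic
topology, and I an ideal of P with a divided power structure of level m, that is a sub-ideal J of I
endowed with divided powers such that x ^ (p ^ m) and p * x lie in J for all x in I. Then an element
of P whose class in P / I is invertible is invertible in P. (The source states this for a lift of a
unit to the p-adically completed level-m divided power envelope of a closed immersion; the statement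
here keeps exactly what its argument uses: completeness for p and the level-m divided powers on the
kernel.) -/
theorem result (p : ℕ) [Fact p.Prime] (m : ℕ)
    (P : Type u) [CommRing P] [IsAdicComplete (Ideal.span {(p : P)}) P]
    (I J : Ideal P) (hJ : DividedPowers J) (hJI : J ≤ I)
    (hpow : ∀ x ∈ I, x ^ (p ^ m) ∈ J) (hmul : ∀ x ∈ I, (p : P) * x ∈ J)
    (u : P) (hu : IsUnit (Ideal.Quotient.mk I u)) : IsUnit u := by
  obtain ⟨v', hv'⟩ := hu.exists_right_inv
  obtain ⟨v, rfl⟩ := Ideal.Quotient.mk_surjective v'
  have hyI : u * v - 1 ∈ I := by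
    rw [← Ideal.Quotient.eq, map_mul, hv', map_one]
  set y := u * v - 1 with hy
  have hz : y ^ (p ^ m) ∈ J := hpow y hyI
  have hzp : (y ^ (p ^ m)) ^ p ∈ Ideal.span {(p : P)} := by
    rw [← hJ.factorial_mul_dpow_eq_pow hz]
    have hp : p ∣ p.factorial := Nat.dvd_factorial (Fact.out : p.Prime).pos le_rfl
    obtain ⟨c, hc⟩ := hp
    rw [hc, Nat.cast_mul, mul_assoc]
    exact Ideal.mul_mem_right _ _ (Ideal.subset_span rfl)
  have hnil : IsNilpotent (Ideal.Quotient.mk (Ideal.span {(p : P)}) y) := by
    refine ⟨p ^ m * p, ?_⟩
    rw [← map_pow, Ideal.Quotient.eq_zero_iff_mem, pow_mul]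
    exact hzp
  have hunit : IsUnit (Ideal.Quotient.mk (Ideal.span {(p : P)}) (1 + y)) := by
    rw [map_add, map_one]
    exact hnil.isUnit_one_add
  obtain ⟨w', hw'⟩ := hunit.exists_right_inv
  obtain ⟨w, rfl⟩ := Ideal.Quotient.mk_surjective w'
  have hmem : (1 + y) * w - 1 ∈ Ideal.span {(p : P)} := by
    rw [← Ideal.Quotient.eq, map_mul, hw', map_one]
  have hjac := IsAdicComplete.le_jacobson_bot (Ideal.span {(p : P)}) hmem
  have h1 := Ideal.mem_jacobson_bot.1 hjac 1
  have h2 : IsUnit ((1 + y) * w) := by
    have : ((1 + y) * w - 1) * 1 + 1 = (1 + y) * w := by ring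
    rwa [this] at h1
  have h3 : IsUnit (1 + y) := isUnit_of_mul_isUnit_left h2
  have h4 : 1 + y = u * v := by rw [hy]; ring
  rw [h4] at h3
  exact isUnit_of_mul_isUnit_left h3

end Groth.Agent.S19348
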