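import Groth.Statements.S19383
import Mathlib

set_option autoImplicit false
universe u
open CAlg

namespace Groth.Agent.S19383


/-- Over a discrete valuation ring, let V be a henselian discrete valuation ring with maximal ideal 𝔪
and B a Noetherian V-algebra, B̂ its 𝔪B-adic completion. Then B is flat over V if and only if B̂ is
flat over V. (The published lemma takes V an excellent normal ring with an ideal I such that (V,
V/I) is a henselian pair and B of finite type; in that generality it fails: for V = ℤ_p[[x]], I =
(p) and B = V[y]/(x, py − 1) ≅ ℚ_p one has IB = B, so B̂ = 0 is flat while B is not flat over V.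
Over a discrete valuation ring flatness is torsion-freeness and the statement holds for every
Noetherian B.) -/
theorem result
    (V : Type u) [CommRing V] [IsDomain V] [IsDiscreteValuationRing V] [HenselianLocalRing V]
    (B : Type u) [CommRing B] [Algebra V B] [IsNoetherianRing B] :
    Module.Flat V B ↔
      Module.Flat V (AdicCompletion ((IsLocalRing.maximalIdeal V).map (algebraMap V B)) B) := by
  set I := (IsLocalRing.maximalIdeal V).map (algebraMap V B) with hI
  constructor
  · intro h
    exact Module.Flat.trans V B (AdicCompletion I B)
  · intro h
    haveI : Module.IsTorsionFree V B := by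
      refine ⟨fun r hr => ?_⟩
      have hr0 : r ≠ 0 := hr.ne_zero
      rw [isSMulRegular_iff_right_eq_zero_of_smul]
      intro b hb
      -- the image of `b` in the completion vanishes
      have h1 : algebraMap B (AdicCompletion I B) b = 0 := by
        have hreg : IsSMulRegular (AdicCompletion I B) r := hr.isSMulRegular
        apply hreg
        change r • algebraMap B (AdicCompletion I B) b = r • (0 : AdicCompletion I B)
        rw [smul_zero, ← algebraMap_smul B r (algebraMap B (AdicCompletion I B) b),
          Algebra.smul_def, ← map_mul, ← Algebra.smul_def, hb, map_zero]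
      have h2 : b ∈ (⨅ n : ℕ, I ^ n • ⊤ : Submodule B B) := by
        rw [Submodule.mem_iInf]
        intro n
        have h3 := congrArg (AdicCompletion.evalₐ I n) h1
        rw [AdicCompletion.algebraMap_apply, AdicCompletion.evalₐ_of, map_zero,
          Ideal.Quotient.eq_zero_iff_mem] at h3
        rw [smul_eq_mul, Ideal.mul_top]
        exact h3
      obtain ⟨⟨i, hiI⟩, hi⟩ := (Ideal.mem_iInf_smul_pow_eq_bot_iff I b).mp h2
      change i • b = b at hi
      have hpow : ∀ k : ℕ, (i : B) ^ k * b = b := by
        intro k
        induction k with
        | zero => rw [pow_zero, one_mul]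
        | succ k ih =>
          rw [pow_succ, mul_assoc]
          rw [smul_eq_mul] at hi
          rw [hi, ih]
      obtain ⟨ϖ, hϖ⟩ := IsDiscreteValuationRing.exists_irreducible V
      obtain ⟨k, hk⟩ := IsDiscreteValuationRing.ideal_eq_span_pow_irreducible
        (s := Ideal.span {r}) (by rw [Ne, Ideal.span_singleton_eq_bot]; exact hr0) hϖ
      have hmem : (i : B) ^ k ∈ Ideal.span {algebraMap V B r} := by
        have h4 : (i : B) ^ k ∈ I ^ k := Ideal.pow_mem_pow hiI k
        rw [hI, ← Ideal.map_pow, hϖ.maximalIdeal_eq, Ideal.span_singleton_pow, ← hk,
          Ideal.map_span, Set.image_singleton] at h4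
        exact h4
      obtain ⟨c, hc⟩ := Ideal.mem_span_singleton'.mp hmem
      rw [← hpow k, ← hc, mul_assoc, ← Algebra.smul_def, hb, mul_zero]
    infer_instance

end Groth.Agent.S19383
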