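import Groth.Statements.S1939
import Mathlib
import Groth.Agent.Lib.Helper1.PullGen
import Groth.Agent.Lib.Helper1.FibDimBC
import Groth.Agent.Lib.Helper1.DimFormula2

set_option autoImplicit false
universe u
open CategoryTheory AlgebraicGeometry
open CategoryTheory.Limits
open Cyc

namespace Groth.Agent.S1939

/-- Let (S, δS) and (S', δS') be two pairs satisfying Cyc.IsSetup, g : S' → S flat with δS'(s') = δS(g
s') + c for every s' generic in an irreducible component of its fibre g⁻¹(g s'), a : X → S locally
of finite type with X integral of δ-dimension k (δX induced from δS), and X' = X ×_S S' with δX'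
induced from δS'. Then every generic point x' of an irreducible component of X' has δX'(x') = k + c.
A pair (X, δ) with Cyc.IsSetup plays the role of a scheme locally of finite type over a fixed base
with a dimension function (X locally Noetherian with universally catenary local rings, δ a dimension
function), and Cyc.DeltaCompat records that the dimension function upstairs is the induced one. -/
theorem result (S S' X : Scheme.{u}) (δS : S → ℤ) (δS' : S' → ℤ) (hS : Cyc.IsSetup S δS) (hS' : Cyc.IsSetup S' δS') (g : S' ⟶ S) [Flat g] (c : ℤ) (hc : ∀ s' : S', (∀ y, g y = g s' → y ⤳ s' → y = s') → δS' s' = δS (g s') + c) (a : X ⟶ S) [LocallyOfFiniteType a] [IsIntegral X] (δX : X → ℤ) (hX : Cyc.DeltaCompat a δX δS) (δX' : ↥(pullback a g) → ℤ) (hX' : Cyc.DeltaCompat (pullback.snd a g) δX' δS') (k : ℤ) (hk : δX (genericPoint X) = k) (x' : ↥(pullback a g)) (hx' : ∀ y : ↥(pullback a g), y ⤳ x' → y = x') : δX' x' = k + c := by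
  have h1 : pullback.fst a g x' = genericPoint X := by
    have hgen := Flat.generalizingMap (pullback.fst a g)
    obtain ⟨z, hz1, hz2⟩ :=
      hgen ((genericPoint_spec X).specializes (Set.mem_univ (pullback.fst a g x')))
    rw [← hz2, hx' z hz1]
  have h2 : ∀ y, g y = g (pullback.snd a g x') → y ⤳ pullback.snd a g x' →
      y = pullback.snd a g x' := by
    intro y hgy hy
    obtain ⟨z, hz1, hz2, -⟩ := Groth.Agent.H1.PullGen.exists_generization_pullback a g x' y hy hgy
    rw [← hz2, hx' z hz1]
  have h3 := hc (pullback.snd a g x') h2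
  have hsq : a (pullback.fst a g x') = g (pullback.snd a g x') := by
    have := congrArg (fun φ : pullback a g ⟶ S => φ x') (pullback.condition (f := a) (g := g))
    exact this
  obtain ⟨t₁, ht₁, hd₁⟩ := Groth.Agent.H1.DimFormula.fibreDimAt_eq_trdeg_of_generic a
    (genericPoint X)
    (fun z _ hz => (hz.antisymm ((genericPoint_spec X).specializes trivial)).eq)
  obtain ⟨t₂, ht₂, hd₂⟩ := Groth.Agent.H1.DimFormula.fibreDimAt_eq_trdeg_of_generic
    (pullback.snd a g) x' (fun z _ hz => hx' z hz)
  have hbc := Groth.Agent.H1.FibDimBC.fibreDimAt_eq_of_isPullback a g (pullback.fst a g)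
    (pullback.snd a g) (IsPullback.of_hasPullback a g) x'
  rw [h1, hd₁, hd₂] at hbc
  have ht : t₂ = t₁ := by exact_mod_cast hbc
  obtain ⟨n₁, hn₁, e₁⟩ := hX (genericPoint X)
  obtain ⟨n₂, hn₂, e₂⟩ := hX' x'
  have hn₁' : n₁ = t₁ := by
    have : (n₁ : Cardinal.{u}) = t₁ := hn₁.symm.trans ht₁
    exact_mod_cast this
  have hn₂' : n₂ = t₂ := by
    have : (n₂ : Cardinal.{u}) = t₂ := hn₂.symm.trans ht₂
    exact_mod_cast this
  rw [e₂, h3, ← hsq, h1, ← hk, e₁, hn₁', hn₂', ht]
  ring

end Groth.Agent.S1939
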