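import Groth.Statements.S19391
import Mathlib

set_option autoImplicit false
universe u
open InvQ

namespace Groth.Agent.S19391

/-- For a binary quartic written as a product of four linear forms μ_i X₀ − λ_i X₁, with coefficients
a_0, …, a_4, the discriminant D = ∏_{i<j} (λ_j μ_i − λ_i μ_j)² is a constant multiple of P³ − 6Q²
for the two basic invariants P, Q. With the integral normalisation I = 6P = 12a₀a₄ − 3a₁a₃ + a₂², J
= 72Q = 72a₀a₂a₄ + 9a₁a₂a₃ − 27a₀a₃² − 27a₁²a₄ − 2a₂³ used here, the identity reads 27 D = 4 I³ − J²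
(so the constant is 32: D = 32 (P³ − 6Q²)); it is stated over an arbitrary commutative ring. -/
theorem result (R : Type u) [CommRing R] (la mu : Fin 4 → R) :
    27 * W4c6intromoduli.disc la mu =
      4 * W4c6intromoduli.invI (W4c6intromoduli.coef la mu) ^ 3
        - W4c6intromoduli.invJ (W4c6intromoduli.coef la mu) ^ 2 := by
  set l0 := la 0 with hl0
  set l1 := la 1 with hl1
  set l2 := la 2 with hl2
  set l3 := la 3 with hl3
  set m0 := mu 0 with hm0
  set m1 := mu 1 with hm1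
  set m2 := mu 2 with hm2
  set m3 := mu 3 with hm3
  have key : ∀ (a0 a1 a2 a3 a4 : R) (i : ℕ),
      (Polynomial.C a0 + Polynomial.C a1 * Polynomial.X + Polynomial.C a2 * Polynomial.X ^ 2 +
        Polynomial.C a3 * Polynomial.X ^ 3 + Polynomial.C a4 * Polynomial.X ^ 4).coeff i =
      (if i = 0 then a0 else 0) + (if i = 1 then a1 else 0) + (if i = 2 then a2 else 0) +
        (if i = 3 then a3 else 0) + (if i = 4 then a4 else 0) := by
    intro a0 a1 a2 a3 a4 i
    simp only [Polynomial.coeff_add, Polynomial.coeff_C_mul, Polynomial.coeff_X_pow,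
      Polynomial.coeff_X, Polynomial.coeff_C, mul_ite, mul_one, mul_zero]
    congr 2
    congr 2
    split_ifs <;> first | rfl | omega
  have hpoly : W4c6intromoduli.rootPoly la mu =
      Polynomial.C (m0 * m1 * m2 * m3) +
      Polynomial.C (-(l0 * m1 * m2 * m3 + m0 * l1 * m2 * m3 + m0 * m1 * l2 * m3 + m0 * m1 * m2 * l3)) * Polynomial.X +
      Polynomial.C (l0 * l1 * m2 * m3 + l0 * m1 * l2 * m3 + l0 * m1 * m2 * l3 + m0 * l1 * l2 * m3 + m0 * l1 * m2 * l3 + m0 * m1 * l2 * l3) * Polynomial.X ^ 2 +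
      Polynomial.C (-(l0 * l1 * l2 * m3 + l0 * l1 * m2 * l3 + l0 * m1 * l2 * l3 + m0 * l1 * l2 * l3)) * Polynomial.X ^ 3 +
      Polynomial.C (l0 * l1 * l2 * l3) * Polynomial.X ^ 4 := by
    rw [W4c6intromoduli.rootPoly, Fin.prod_univ_four]
    simp only [map_add, map_mul, map_neg]
    ring
  have h0 : W4c6intromoduli.coef la mu 0 = m0 * m1 * m2 * m3 := by
    rw [W4c6intromoduli.coef, hpoly, key]
    norm_num
  have h1 : W4c6intromoduli.coef la mu 1 =
      -(l0 * m1 * m2 * m3 + m0 * l1 * m2 * m3 + m0 * m1 * l2 * m3 + m0 * m1 * m2 * l3) := by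
    rw [W4c6intromoduli.coef, hpoly, key]
    norm_num
  have h2 : W4c6intromoduli.coef la mu 2 =
      l0 * l1 * m2 * m3 + l0 * m1 * l2 * m3 + l0 * m1 * m2 * l3 + m0 * l1 * l2 * m3 + m0 * l1 * m2 * l3 + m0 * m1 * l2 * l3 := by
    rw [W4c6intromoduli.coef, hpoly, key]
    norm_num
  have h3 : W4c6intromoduli.coef la mu 3 =
      -(l0 * l1 * l2 * m3 + l0 * l1 * m2 * l3 + l0 * m1 * l2 * l3 + m0 * l1 * l2 * l3) := by
    rw [W4c6intromoduli.coef, hpoly, key]
    norm_num
  have h4 : W4c6intromoduli.coef la mu 4 = l0 * l1 * l2 * l3 := by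
    rw [W4c6intromoduli.coef, hpoly, key]
    norm_num
  have hdisc : W4c6intromoduli.disc la mu =
      (l1 * m0 - l0 * m1) ^ 2 * (l2 * m0 - l0 * m2) ^ 2 * (l3 * m0 - l0 * m3) ^ 2 *
      (l2 * m1 - l1 * m2) ^ 2 * (l3 * m1 - l1 * m3) ^ 2 * (l3 * m2 - l2 * m3) ^ 2 := by
    rw [W4c6intromoduli.disc]
    have : (Finset.univ.filter fun p : Fin 4 × Fin 4 => p.1 < p.2) =
        {(0, 1), (0, 2), (0, 3), (1, 2), (1, 3), (2, 3)} := by decide
    rw [this]
    simp [Finset.prod_insert, hl0, hl1, hl2, hl3, hm0, hm1, hm2, hm3, mul_assoc]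
  rw [W4c6intromoduli.invI, W4c6intromoduli.invJ, h0, h1, h2, h3, h4, hdisc]
  ring

end Groth.Agent.S19391
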