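import Groth.Statements.S19392
import Mathlib
import Groth.Agent.Lib.Helper9.Quartic

set_option autoImplicit false
universe u
open InvQ

namespace Groth.Agent.S19392

/-- Over a field of characteristic different from 2 and 3, a nonzero binary quartic f has P(f) = Q(f) =
0 for the two basic invariants P, Q if and only if f has a triple zero. Stated for f = ∏_i (μ_i X₀ −
λ_i X₁) given by four root points (λ_i, μ_i) ≠ (0, 0) (over an algebraically closed field every
nonzero quartic form is of this shape), with the integral invariants I = 6P and J = 72Q of the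
coefficients of f; a triple zero means that three of the four root points are pairwise proportional. -/
theorem result (k : Type u) [Field k]
    (h2 : (2 : k) ≠ 0) (h3 : (3 : k) ≠ 0) (la mu : Fin 4 → k) (hne : ∀ i, la i ≠ 0 ∨ mu i ≠ 0) :
    (W4c6intromoduli.invI (W4c6intromoduli.coef la mu) = 0 ∧
        W4c6intromoduli.invJ (W4c6intromoduli.coef la mu) = 0) ↔
      ∃ i j l : Fin 4, i ≠ j ∧ j ≠ l ∧ i ≠ l ∧
        la i * mu j = la j * mu i ∧ la j * mu l = la l * mu j := by
  have hsum := Groth.Agent.H9.Quartic.cA_add_cB_add_cC la mu
  have hI := Groth.Agent.H9.Quartic.two_mul_invI la mu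
  have hJ := Groth.Agent.H9.Quartic.invJ_eq la mu
  set A := Groth.Agent.H9.Quartic.cA la mu with hA
  set B := Groth.Agent.H9.Quartic.cB la mu with hB
  set C := Groth.Agent.H9.Quartic.cC la mu with hC
  have h6 : (6 : k) ≠ 0 := by
    have : (6 : k) = 2 * 3 := by norm_num
    rw [this]
    exact mul_ne_zero h2 h3
  constructor
  · rintro ⟨hI0, hJ0⟩
    rw [hI0, mul_zero] at hI
    rw [hJ0] at hJ
    have hABC : A = 0 ∧ B = 0 := by
      have hCe : C = -A - B := by linear_combination hsum
      rcases mul_eq_zero.mp hJ.symm with h | h
      · rcases mul_eq_zero.mp h with h | h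
        · -- A = B
          have hAB : A = B := sub_eq_zero.mp h
          have : 6 * A ^ 2 = 0 := by
            rw [hCe, ← hAB] at hI
            linear_combination -hI
          have hA0 : A = 0 := by
            rcases mul_eq_zero.mp this with h' | h'
            · exact absurd h' h6
            · exact pow_eq_zero_iff (two_ne_zero) |>.mp h'
          exact ⟨hA0, hAB ▸ hA0⟩
        · -- B = C
          have hBC : B = C := sub_eq_zero.mp h
          have hA2 : A = -2 * B := by rw [hCe] at hBC; linear_combination hBC
          have : 6 * B ^ 2 = 0 := by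
            rw [← hBC, hA2] at hI
            linear_combination -hI
          have hB0 : B = 0 := by
            rcases mul_eq_zero.mp this with h' | h'
            · exact absurd h' h6
            · exact pow_eq_zero_iff (two_ne_zero) |>.mp h'
          exact ⟨by rw [hA2, hB0, mul_zero], hB0⟩
      · -- C = A
        have hCA : C = A := sub_eq_zero.mp h
        have hB2 : B = -2 * A := by rw [hCe] at hCA; linear_combination -hCA
        have : 6 * A ^ 2 = 0 := by
          rw [hCA, hB2] at hI
          linear_combination -hI
        have hA0 : A = 0 := by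
          rcases mul_eq_zero.mp this with h' | h'
          · exact absurd h' h6
          · exact pow_eq_zero_iff (two_ne_zero) |>.mp h'
        exact ⟨hA0, by rw [hB2, hA0, mul_zero]⟩
    obtain ⟨hA0, hB0⟩ := hABC
    rw [hA, Groth.Agent.H9.Quartic.cA] at hA0
    rw [hB, Groth.Agent.H9.Quartic.cB] at hB0
    simp only [Groth.Agent.H9.Quartic.mn] at hA0 hB0
    rcases mul_eq_zero.mp hA0 with h01 | h23 <;> rcases mul_eq_zero.mp hB0 with h02 | h31
    · exact ⟨1, 0, 2, by decide, by decide, by decide, by linear_combination h01,
        by linear_combination -h02⟩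
    · exact ⟨0, 1, 3, by decide, by decide, by decide, by linear_combination -h01,
        by linear_combination h31⟩
    · exact ⟨3, 2, 0, by decide, by decide, by decide, by linear_combination h23,
        by linear_combination h02⟩
    · exact ⟨2, 3, 1, by decide, by decide, by decide, by linear_combination -h23,
        by linear_combination -h31⟩
  · rintro ⟨i, j, l, hij, hjl, hil, h1, h2'⟩
    have hmij : Groth.Agent.H9.Quartic.mn la mu i j = 0 := by
      rw [Groth.Agent.H9.Quartic.mn]; linear_combination -h1
    have hmjl : Groth.Agent.H9.Quartic.mn la mu j l = 0 := by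
      rw [Groth.Agent.H9.Quartic.mn]; linear_combination -h2'
    have hmil : Groth.Agent.H9.Quartic.mn la mu i l = 0 := by
      rw [Groth.Agent.H9.Quartic.mn]
      rcases hne j with hl | hm
      · apply mul_left_cancel₀ hl
        linear_combination -(la l) * h1 - (la i) * h2'
      · apply mul_left_cancel₀ hm
        linear_combination -(mu i) * h2' - (mu l) * h1
    have hanti : ∀ a b, Groth.Agent.H9.Quartic.mn la mu a b = 0 →
        Groth.Agent.H9.Quartic.mn la mu b a = 0 := by
      intro a b h
      rw [Groth.Agent.H9.Quartic.mn] at h ⊢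
      linear_combination -h
    have hself : ∀ a, Groth.Agent.H9.Quartic.mn la mu a a = 0 := by
      intro a; rw [Groth.Agent.H9.Quartic.mn]; ring
    have hz : ∀ a b : Fin 4, (a = i ∨ a = j ∨ a = l) → (b = i ∨ b = j ∨ b = l) →
        Groth.Agent.H9.Quartic.mn la mu a b = 0 := by
      rintro a b (rfl | rfl | rfl) (rfl | rfl | rfl)
      · exact hself _
      · exact hmij
      · exact hmil
      · exact hanti _ _ hmij
      · exact hself _
      · exact hmjl
      · exact hanti _ _ hmil
      · exact hanti _ _ hmjl
      · exact hself _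
    have hcomb : ∀ i j l : Fin 4, i ≠ j → j ≠ l → i ≠ l → ∀ a b c d : Fin 4,
        a ≠ b → a ≠ c → a ≠ d → b ≠ c → b ≠ d → c ≠ d →
        ((a = i ∨ a = j ∨ a = l) ∧ (b = i ∨ b = j ∨ b = l)) ∨
        ((c = i ∨ c = j ∨ c = l) ∧ (d = i ∨ d = j ∨ d = l)) := by decide
    have hA0 : A = 0 := by
      rw [hA, Groth.Agent.H9.Quartic.cA]
      rcases hcomb i j l hij hjl hil 0 1 2 3 (by decide) (by decide) (by decide) (by decide)
        (by decide) (by decide) with ⟨ha, hb⟩ | ⟨ha, hb⟩
      · rw [hz _ _ ha hb, zero_mul]
      · rw [hz _ _ ha hb, mul_zero]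
    have hB0 : B = 0 := by
      rw [hB, Groth.Agent.H9.Quartic.cB]
      rcases hcomb i j l hij hjl hil 0 2 3 1 (by decide) (by decide) (by decide) (by decide)
        (by decide) (by decide) with ⟨ha, hb⟩ | ⟨ha, hb⟩
      · rw [hz _ _ ha hb, zero_mul]
      · rw [hz _ _ ha hb, mul_zero]
    have hC0 : C = 0 := by
      rw [hC, Groth.Agent.H9.Quartic.cC]
      rcases hcomb i j l hij hjl hil 0 3 1 2 (by decide) (by decide) (by decide) (by decide)
        (by decide) (by decide) with ⟨ha, hb⟩ | ⟨ha, hb⟩
      · rw [hz _ _ ha hb, zero_mul]
      · rw [hz _ _ ha hb, mul_zero]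
    rw [hA0, hB0, hC0] at hI hJ
    constructor
    · have : 2 * W4c6intromoduli.invI (W4c6intromoduli.coef la mu) = 0 := by
        rw [hI]; ring
      rcases mul_eq_zero.mp this with h | h
      · exact absurd h h2
      · exact h
    · rw [hJ]; ring

end Groth.Agent.S19392
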