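import Groth.Statements.S19396
import Groth.Agent.Lib.Helper7.FFX1
-- import your own Groth.Agent.* helpers here

set_option autoImplicit false
universe u v
open FunFld

namespace Groth.Agent.S19396

/-- On an elliptic curve with base point 0, if f has a double pole at 0 and no other pole and g a triple
pole at 0 and no other pole, then for n ≥ 2 the functions 1, f, …, f^[n/2], g, fg, …, f^[(n−3)/2] g
form a basis of the space of functions with at most an n-fold pole at 0. Stated for a function field
K/k of one variable of genus 1 with a place P of degree 1 in the role of the curve and its base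
point: the family indexed by Fin (n/2 + 1) ⊕ Fin ((n − 1)/2), sending i on the left to f^i and i on
the right to f^i g, is linearly independent over k and spans L(nP). -/
theorem result (k : Type u) (K : Type v) [Field k] [Field K]
    [Algebra k K] (hK : FunFld.IsFunctionField k K) (hgen : FunFld.genus k K = 1)
    (P : FunFld.Place k K) (hP : P.deg = 1) (f g : K)
    (hf : f ∈ FunFld.L (Finsupp.single P 2)) (hf2 : P.ord f = -2)
    (hg : g ∈ FunFld.L (Finsupp.single P 3)) (hg3 : P.ord g = -3) (n : ℕ) (hn : 2 ≤ n) :
    LinearIndependent k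
        (Sum.elim (fun i : Fin (n / 2 + 1) => f ^ (i : ℕ)) (fun i : Fin ((n - 1) / 2) => f ^ (i : ℕ) * g)) ∧
      Submodule.span k (Set.range
        (Sum.elim (fun i : Fin (n / 2 + 1) => f ^ (i : ℕ)) (fun i : Fin ((n - 1) / 2) => f ^ (i : ℕ) * g))) =
        FunFld.L (Finsupp.single P (n : ℤ)) := by
  classical
  have hf0 : f ≠ 0 := by rintro rfl; simp at hf2
  have hg0 : g ≠ 0 := by rintro rfl; simp at hg3
  set x : Fin (n / 2 + 1) ⊕ Fin ((n - 1) / 2) → K :=
    Sum.elim (fun i : Fin (n / 2 + 1) => f ^ (i : ℕ)) (fun i : Fin ((n - 1) / 2) => f ^ (i : ℕ) * g)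
    with hx
  have hx0 : ∀ i, x i ≠ 0 := by
    rintro (i | i)
    · simp [hx, hf0]
    · simp [hx, hf0, hg0]
  have hord : ∀ i, P.ord (x i) =
      Sum.elim (fun i : Fin (n / 2 + 1) => -2 * ((i : ℕ) : ℤ))
        (fun i : Fin ((n - 1) / 2) => -2 * ((i : ℕ) : ℤ) - 3) i := by
    rintro (i | i)
    · simp only [hx, Sum.elim_inl]
      rw [FunFld.Place.ord_pow, hf2]; ring
    · simp only [hx, Sum.elim_inr]
      rw [FunFld.Place.ord_mul _ (pow_ne_zero _ hf0) hg0, FunFld.Place.ord_pow, hf2, hg3]; ring
  have hinj : Function.Injective (fun i => P.ord (x i)) := by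
    rintro (i | i) (j | j) h <;> simp only [hord, Sum.elim_inl, Sum.elim_inr] at h
    · congr 1; exact Fin.ext (by omega)
    · omega
    · omega
    · congr 1; exact Fin.ext (by omega)
  have hli := Groth.Agent.H7.FFX.linearIndependent_of_ord_injective P x hx0 hinj
  refine ⟨hli, ?_⟩
  have hmem : ∀ i, x i ∈ FunFld.L (Finsupp.single P (n : ℤ)) := by
    intro i Q
    by_cases hQ : Q = P
    · subst hQ
      rw [Finsupp.single_eq_same, FunFld.Place.v_eq_exp_neg_ord _ (hx0 i), WithZero.exp_le_exp, hord]
      rcases i with i | i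
      · simp only [Sum.elim_inl]
        have := i.2; omega
      · simp only [Sum.elim_inr]
        have := i.2; omega
    · rw [Finsupp.single_eq_of_ne hQ, WithZero.exp_zero]
      have hfQ : Q.1 f ≤ 1 := by
        have := hf Q
        rwa [Finsupp.single_eq_of_ne hQ, WithZero.exp_zero] at this
      have hgQ : Q.1 g ≤ 1 := by
        have := hg Q
        rwa [Finsupp.single_eq_of_ne hQ, WithZero.exp_zero] at this
      rcases i with i | i
      · simp only [hx, Sum.elim_inl, map_pow]
        exact pow_le_one' hfQ _
      · simp only [hx, Sum.elim_inr, map_mul, map_pow]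
        exact mul_le_one' (pow_le_one' hfQ _) hgQ
  have hle : Submodule.span k (Set.range x) ≤ FunFld.L (Finsupp.single P (n : ℤ)) :=
    Submodule.span_le.2 (by rintro _ ⟨i, rfl⟩; exact hmem i)
  have := FunFld.finiteDimensional_L hK (Finsupp.single P (n : ℤ))
  apply Submodule.eq_of_le_of_finrank_eq hle
  rw [finrank_span_eq_card hli]
  have hell := FunFld.ell_eq_of_large_deg hK (D := Finsupp.single P (n : ℤ))
    (by rw [hgen, FunFld.Divisor.deg_single, hP]; push_cast; omega)
  rw [hgen, FunFld.Divisor.deg_single, hP] at hell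
  have hell' : FunFld.ell (Finsupp.single P (n : ℤ)) = n := by
    have : ((FunFld.ell (Finsupp.single P (n : ℤ)) : ℕ) : ℤ) = n := by rw [hell]; push_cast; ring
    exact_mod_cast this
  unfold FunFld.ell at hell'
  rw [hell']
  simp only [Fintype.card_sum, Fintype.card_fin]
  omega

end Groth.Agent.S19396
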