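import Groth.Statements.S19414
import Mathlib
import Groth.Agent.Lib.Helper9.Misc.WeilCohH

set_option autoImplicit false
universe u v
open CategoryTheory AlgebraicGeometry
open WeilCoh

namespace Groth.Agent.S19414

open Groth.Agent.H9.WeilA Groth.Agent.H9.WeilB Groth.Agent.H9.WeilC Groth.Agent.H9.WeilD
  Groth.Agent.H9.WeilE Groth.Agent.H9.WeilF Groth.Agent.H9.WeilH

/-- Let H be a Weil cohomology theory with coefficients in a field K of characteristic zero on
nonsingular connected projective varieties over an algebraically closed field k, X such a variety, P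
= X × X with its projections p and q, and d : X → P the diagonal (the section of p and of q). For a
closed irreducible subset Z ⊆ X with generic point η and a class α ∈ H^i(X), the cohomological
correspondence given by the class of the diagonal image d(Z) ⊆ P acts on α as cup product with the
class of Z: q_*(p^*(α) · cl_P(d(Z))) = α · cl_X(Z) in the total cohomology ring of X. The
push-forward q_* (Gysin map, defined through Poincaré duality) is taken on the homogeneous component
of degree i + 2 codim_P(d(Z)) that contains p^*(α) · cl_P(d(Z)). The published statement takes Z to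
be a smooth hyperplane section, in which case cup product with cl_X(Z) is the Lefschetz operator L
and the identity says that L is given by an algebraic correspondence; it is stated here for every
closed irreducible Z, which is what the argument establishes. -/
theorem result (k : Type u) [Field k] [IsAlgClosed k]
    (K : Type v) [Field K] [CharZero K] (T : WeilCoh.Theory k K) (X P : WeilCoh.Var k)
    (p q : P ⟶ X) (hP : WeilCoh.IsProd p q) (d : X ⟶ P) (hdp : d ≫ p = 𝟙 X) (hdq : d ≫ q = 𝟙 X)
    (η : ↥X.obj.left) (i : ℤ) (a : ↥(T.gr X i)) :
    (T.push q (i + 2 * (WeilCoh.codim P.obj.left (WeilCoh.sm d η) : ℤ))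
        ⟨T.pull p (a : T.H X) * T.cl P (WeilCoh.sm d η),
          SetLike.mul_mem_graded (T.pull_mem p i a a.2) (T.cl_mem P (WeilCoh.sm d η))⟩ : T.H X) =
      (a : T.H X) * T.cl X η := by
  have hdimP := dim_prod T p q hP
  have hcl := isClosedImmersion_of_section d p hdp
  have hpd : pdim P.obj.left (sm d η) = pdim X.obj.left η := pdim_of_isClosedImmersion (sm d) η
  have hc1 := codim_add_pdim P (sm d η)
  have hc2 := codim_add_pdim X η
  rw [hpd] at hc1
  have hres : (sm d).residueDegree η = 1 := by
    have h' : sm d ≫ sm p = 𝟙 X.obj.left := by rw [← sm_comp, hdp, sm_id]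
    exact residueDegree_section (sm d) (sm p) h' η
  refine eq_of_forall_tr' T (i + 2 * (codim X.obj.left η : ℤ)) ?_ rfl (push_mem T q _ _)
    (mul_mem T a.2 (T.cl_mem X η)) ?_
  · omega
  · intro b hb
    rw [tr_push_mul' T q _ _ b (by omega) hb]
    have hab : T.pull p (a : T.H X) * T.pull q b ∈ T.gr P (2 * (pdim X.obj.left η : ℤ)) :=
      mem_of_eq T (by omega) (mul_mem T (T.pull_mem p i a a.2) (T.pull_mem q _ b hb))
    have h1 := T.cl_push d η _ hab
    rw [hres, Nat.cast_one, one_mul] at h1
    show T.tr P (T.pull p (a : T.H X) * T.cl P (sm d η) * T.pull q b) = _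
    rw [← cl_comm T (sm d η), mul_assoc, ← h1, map_mul (T.pull d), pull_pull, pull_pull, hdp, hdq,
      pull_id_apply, pull_id_apply, ← cl_comm T η, mul_assoc]

end Groth.Agent.S19414
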