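import Groth.Statements.S19422
import Mathlib
import Groth.Agent.Lib.Helper9.GmDiag

set_option autoImplicit false
universe u
open TensorProduct LaurentPolynomial
open GIT

namespace Groth.Agent.S19422

open Groth.Agent.H9.GmDiag

theorem zpow_aux {k : Type u} [Field k] (t : k) (ht : t ≠ 0) (n : ℤ) (hn : 0 ≤ n) :
    (((Units.mk0 t ht) ^ n : kˣ) : k) = t ^ n.toNat := by
  obtain ⟨m, rfl⟩ := Int.eq_ofNat_of_zero_le hn
  rw [zpow_natCast, Units.val_pow_eq_pow_val, Units.val_mk0, Int.toNat_natCast]

theorem monomial_mem {k : Type u} [Field k] {ι : Type u} [Fintype ι]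
    [HopfRep.Comod k k[T;T⁻¹] (MvPolynomial ι k)] [GLin.IsCoactAlg k k[T;T⁻¹] (MvPolynomial ι k)]
    (r : ι → ℤ)
    (hr : ∀ i : ι, HopfRep.Comod.coact (k := k) (A := k[T;T⁻¹]) (MvPolynomial.X i : MvPolynomial ι k) =
      (MvPolynomial.X i : MvPolynomial ι k) ⊗ₜ[k] (T (r i) : k[T;T⁻¹]))
    (i j : ι) (a b : ℕ) (hab : (a : ℤ) * r i + (b : ℤ) * r j = 0) :
    (MvPolynomial.X i ^ a * MvPolynomial.X j ^ b : MvPolynomial ι k) ∈
      GLin.invariants k k[T;T⁻¹] (MvPolynomial ι k) := by
  rw [GLin.mem_invariants_iff, ← GLin.coactAlgHom_apply, map_mul, map_pow, map_pow,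
    GLin.coactAlgHom_apply, GLin.coactAlgHom_apply, hr, hr, Algebra.TensorProduct.tmul_pow,
    Algebra.TensorProduct.tmul_pow, Algebra.TensorProduct.tmul_mul_tmul, T_pow, T_pow, ← T_add,
    hab, T_zero]

/-- Over an algebraically closed field k, let the multiplicative group, whose coordinate Hopf algebra is
the Laurent polynomial ring, act diagonally on affine ι-space, ι finite: the coaction on the
polynomial ring is multiplicative and sends the coordinate function X_i to X_i ⊗ T^(r_i) for
integers r_i. Then a vector v is semistable (some invariant homogeneous polynomial of positive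
degree does not vanish at v) if and only if there are indices i and j, possibly equal, with v_i ≠ 0,
v_j ≠ 0 and r_i ≤ 0 ≤ r_j, i.e. the origin lies in the convex hull of the weights of v. (Stated for
the ambient projective space on its affine cone; the published statement is for a point of a closed
invariant subvariety, whose semistability is that of the point in the ambient space.) -/
theorem result (k : Type u) [Field k] [IsAlgClosed k]
    (ι : Type u) [Fintype ι] [HopfRep.Comod k k[T;T⁻¹] (MvPolynomial ι k)] [GLin.IsCoactAlg k k[T;T⁻¹] (MvPolynomial ι k)]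
    (r : ι → ℤ)
    (hr : ∀ i : ι, HopfRep.Comod.coact (k := k) (A := k[T;T⁻¹]) (MvPolynomial.X i : MvPolynomial ι k) =
      (MvPolynomial.X i : MvPolynomial ι k) ⊗ₜ[k] (T (r i) : k[T;T⁻¹]))
    (v : ι → k) :
    GLin.IsSemistableVec k k[T;T⁻¹] v ↔ ∃ i j : ι, v i ≠ 0 ∧ v j ≠ 0 ∧ r i ≤ 0 ∧ 0 ≤ r j := by
  classical
  unfold GLin.IsSemistableVec GLin.IsNullform
  constructor
  · intro hss
    by_contra hcon
    push_neg at hcon
    apply hss
    intro F hF d hd hhom
    by_cases hneg : ∃ i, v i ≠ 0 ∧ r i ≤ 0
    · obtain ⟨i₀, hi₀, hri₀⟩ := hneg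
      have hall : ∀ j, v j ≠ 0 → r j < 0 := fun j hj => hcon i₀ j hi₀ hj hri₀
      refine eval_eq_zero_of_degenerate v (fun i => (-(r i)).toNat) ?_ F d hd hhom ?_
      · intro i hvi
        have := hall i hvi
        omega
      · intro t ht
        have h1 := eval_gm_of_mem_invariants r hr (Units.mk0 t ht)⁻¹ v F hF
        rw [← h1]
        congr 2
        funext i
        by_cases hvi : v i = 0
        · simp [hvi]
        · congr 1
          rw [inv_zpow', zpow_aux t ht _ (by have := hall i hvi; omega)]
    · push_neg at hneg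
      refine eval_eq_zero_of_degenerate v (fun i => (r i).toNat) ?_ F d hd hhom ?_
      · intro i hvi
        have := hneg i hvi
        omega
      · intro t ht
        have h1 := eval_gm_of_mem_invariants r hr (Units.mk0 t ht) v F hF
        rw [← h1]
        congr 2
        funext i
        by_cases hvi : v i = 0
        · simp [hvi]
        · congr 1
          rw [zpow_aux t ht _ (by have := hneg i hvi; omega)]
  · rintro ⟨i, j, hvi, hvj, hri, hrj⟩ hnull
    rcases hri.eq_or_lt with h0 | hlt
    · have hmem := monomial_mem r hr i i 1 0 (by rw [h0]; simp)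
      have h1 := hnull _ hmem 1 one_pos
        (by simpa using (MvPolynomial.isHomogeneous_X k i))
      simp at h1
      exact hvi h1
    · rcases hrj.eq_or_lt with h0' | hlt'
      · have hmem := monomial_mem r hr j j 1 0 (by rw [← h0']; simp)
        have h1 := hnull _ hmem 1 one_pos
          (by simpa using (MvPolynomial.isHomogeneous_X k j))
        simp at h1
        exact hvj h1
      · have hmem := monomial_mem r hr i j (r j).toNat (-(r i)).toNat (by
          rw [Int.toNat_of_nonneg hlt'.le, Int.toNat_of_nonneg (by omega)]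
          ring)
        have hhom : (MvPolynomial.X i ^ (r j).toNat * MvPolynomial.X j ^ (-(r i)).toNat :
            MvPolynomial ι k).IsHomogeneous ((r j).toNat + (-(r i)).toNat) := by
          apply MvPolynomial.IsHomogeneous.mul
          · simpa using (MvPolynomial.isHomogeneous_X k i).pow (r j).toNat
          · simpa using (MvPolynomial.isHomogeneous_X k j).pow (-(r i)).toNat
        have h1 := hnull _ hmem _ (by omega) hhom
        simp only [map_mul, map_pow, MvPolynomial.eval_X] at h1
        rcases mul_eq_zero.mp h1 with h2 | h2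
        · exact hvi (pow_eq_zero_iff (by omega) |>.mp h2)
        · exact hvj (pow_eq_zero_iff (by omega) |>.mp h2)

end Groth.Agent.S19422
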