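import Groth.Statements.S19423
import Mathlib
import Groth.Agent.Lib.Helper9.GmDiagStable

set_option autoImplicit false
universe u
open TensorProduct LaurentPolynomial
open GIT

namespace Groth.Agent.S19423

open Groth.Agent.H9.GmDiag

theorem zpow_aux {k : Type u} [Field k] (t : k) (ht : t ≠ 0) (n : ℤ) (hn : 0 ≤ n) :
    (((Units.mk0 t ht) ^ n : kˣ) : k) = t ^ n.toNat := by
  obtain ⟨m, rfl⟩ := Int.eq_ofNat_of_zero_le hn
  rw [zpow_natCast, Units.val_pow_eq_pow_val, Units.val_mk0, Int.toNat_natCast]

/-- Over an algebraically closed field k, let the multiplicative group, whose coordinate Hopf algebra is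
the Laurent polynomial ring, act diagonally on affine ι-space, ι finite: the coaction on the
polynomial ring is multiplicative and sends the coordinate function X_i to X_i ⊗ T^(r_i) for
integers r_i. Then a vector v is stable (the orbit of the point v of affine space is closed and its
stabiliser is a finite group scheme) if and only if there are indices i and j with v_i ≠ 0, v_j ≠ 0
and r_i < 0 < r_j, i.e. the origin is an interior point of the convex hull of the weights of v.
(Stated for the ambient projective space on its affine cone, where stability means a closed orbit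
with finite stabiliser in the cone.) -/
theorem result (k : Type u) [Field k] [IsAlgClosed k]
    (ι : Type u) [Fintype ι] [HopfRep.Comod k k[T;T⁻¹] (MvPolynomial ι k)] [GLin.IsCoactAlg k k[T;T⁻¹] (MvPolynomial ι k)]
    (r : ι → ℤ)
    (hr : ∀ i : ι, HopfRep.Comod.coact (k := k) (A := k[T;T⁻¹]) (MvPolynomial.X i : MvPolynomial ι k) =
      (MvPolynomial.X i : MvPolynomial ι k) ⊗ₜ[k] (T (r i) : k[T;T⁻¹]))
    (v : ι → k) :
    GLin.IsStableVec k k[T;T⁻¹] v ↔ ∃ i j : ι, v i ≠ 0 ∧ v j ≠ 0 ∧ r i < 0 ∧ 0 < r j := by
  classical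
  unfold GLin.IsStableVec GLin.IsStablePt
  constructor
  · rintro ⟨hcl, hfin⟩
    by_contra hcon
    push Not at hcon
    by_cases hA : ∃ i₀, v i₀ ≠ 0 ∧ r i₀ < 0
    · obtain ⟨i₀, hi₀, hri₀⟩ := hA
      have hall : ∀ j, v j ≠ 0 → r j ≤ 0 := fun j hj => hcon i₀ j hi₀ hj hri₀
      refine not_isClosedOrbit_of_degenerate r hr v (fun i => (-(r i)).toNat) ?_ i₀ hi₀
        (by show 0 < (-(r i₀)).toNat; omega) hcl
      intro t ht
      refine ⟨(Units.mk0 t ht)⁻¹, fun i => ?_⟩
      by_cases hvi : v i = 0
      · simp [hvi]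
      · congr 1
        rw [inv_zpow', zpow_aux t ht _ (by have := hall i hvi; omega)]
    · push Not at hA
      by_cases hB : ∃ j₀, v j₀ ≠ 0 ∧ 0 < r j₀
      · obtain ⟨j₀, hj₀, hrj₀⟩ := hB
        refine not_isClosedOrbit_of_degenerate r hr v (fun i => (r i).toNat) ?_ j₀ hj₀
          (by show 0 < (r j₀).toNat; omega) hcl
        intro t ht
        refine ⟨Units.mk0 t ht, fun i => ?_⟩
        by_cases hvi : v i = 0
        · simp [hvi]
        · congr 1
          rw [zpow_aux t ht _ (hA i hvi)]
      · push Not at hB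
        exact not_hasFiniteStab_of_zero r hr v
          (fun i hvi => le_antisymm (hB i hvi) (hA i hvi)) hfin
  · rintro ⟨i, j, hvi, hvj, hri, hrj⟩
    exact ⟨isClosedOrbit_of_signs r hr v i j hvi hvj hri hrj, hasFiniteStab_of_pos r hr v j hvj hrj⟩

end Groth.Agent.S19423
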