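import Groth.Statements.S19425
import Mathlib
import Groth.Agent.H4.GqA
import Groth.Agent.H4.UoA

set_option autoImplicit false
universe u
open CategoryTheory MonoidalCategory CartesianMonoidalCategory MonObj AlgebraicGeometry Topology
open NRQuot

namespace Groth.Agent.S19425

/-- Let k be an algebraically closed field, G an affine group scheme of finite type over k acting on a
k-scheme X locally of finite type, φ : X → Y a good quotient (affine and invariant, functions on
every open of Y are exactly the invariant functions on its preimage, invariant closed subsets have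
closed images, and images commute with intersections of families of invariant closed subsets), and U
an open subset of Y. Equip the open subscheme φ⁻¹(U) of X with the restricted action, given here as
an action compatible with the inclusion into X, and let φ_U : φ⁻¹(U) → U be the restriction of φ.
Then φ_U is a good quotient for the restricted action. -/
theorem result
    (k : Type u) [Field k] [IsAlgClosed k]
    (G X Y : Over (Spec (CommRingCat.of k))) [GrpObj G] [IsAffine G.left] [LocallyOfFiniteType G.hom]
    [LocallyOfFiniteType X.hom]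
    (a : AlgGrp.Action G X) (φ : X ⟶ Y) (h : NRQuot.IsGoodQuot a φ)
    (U : Y.left.Opens)
    (aU : AlgGrp.Action G (Over.mk ((φ.left ⁻¹ᵁ U).ι ≫ X.hom)))
    (jU : Over.mk ((φ.left ⁻¹ᵁ U).ι ≫ X.hom) ⟶ X) (hjU : jU.left = (φ.left ⁻¹ᵁ U).ι)
    (haU : aU.act ≫ jU = (G ◁ jU) ≫ a.act)
    (φU : Over.mk ((φ.left ⁻¹ᵁ U).ι ≫ X.hom) ⟶ Over.mk (U.ι ≫ Y.hom))
    (hφU : φU.left ≫ U.ι = (φ.left ⁻¹ᵁ U).ι ≫ φ.left) :
    NRQuot.IsGoodQuot aU φU := by
  haveI : UniversallyOpen G.hom := Groth.Agent.H4.UoA.universallyOpen_over_field k G.hom
  have hopen : IsOpenMap (snd G X).left.base := by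
    haveI : UniversallyOpen (snd G X).left := by
      show UniversallyOpen (Limits.pullback.snd G.hom X.hom)
      infer_instance
    exact (snd G X).left.isOpenMap
  have e : φU.left = φ.left ∣_ U :=
    (cancel_mono U.ι).1 (hφU.trans (morphismRestrict_ι φ.left U).symm)
  haveI : IsOpenImmersion jU.left := by rw [hjU]; infer_instance
  haveI : IsOpenImmersion (Over.homMk U.ι rfl : Over.mk (U.ι ≫ Y.hom) ⟶ Y).left := by
    show IsOpenImmersion U.ι
    infer_instance
  have H : IsPullback φU.left jU.left
      (Over.homMk U.ι rfl : Over.mk (U.ι ≫ Y.hom) ⟶ Y).left φ.left := by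
    rw [e, hjU]
    exact isPullback_morphismRestrict φ.left U
  exact Groth.Agent.H4.GqA.goodQuot_restrict a φ aU jU (Over.homMk U.ι rfl) φU haU H hopen h

end Groth.Agent.S19425
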