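import Groth.Statements.S19461
import Groth.Agent.Lib.Helper1.FlatSource

set_option autoImplicit false
universe u
open CAlg

namespace Groth.Agent.S19461


/-- The implication from isomorphic completions to flat and unramified. Let A → B be a local
homomorphism of Noetherian local rings and ψ a ring map from the completion of A at its maximal
ideal to that of B whose composite with A → A^ is A → B → B^. If ψ is bijective, then A → B is flat
and the maximal ideal of A generates the maximal ideal of B. (The published statement is the
implication, for a morphism of algebraic varieties over an algebraically closed field, from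
isomorphic induced maps of completed local rings at every point to flat and unramified; its proof is
this local-ring argument, valid for any Noetherian local rings. The converse implication is a
separate result.) -/
theorem result (A B : Type u) [CommRing A]
    [CommRing B] [IsLocalRing A] [IsLocalRing B] [IsNoetherianRing A] [IsNoetherianRing B]
    [Algebra A B] [IsLocalHom (algebraMap A B)]
    (ψ : AdicCompletion (IsLocalRing.maximalIdeal A) A →+* AdicCompletion (IsLocalRing.maximalIdeal B) B)
    (hψ : ψ.comp (algebraMap A (AdicCompletion (IsLocalRing.maximalIdeal A) A)) =
      (algebraMap B (AdicCompletion (IsLocalRing.maximalIdeal B) B)).comp (algebraMap A B))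
    (hbij : Function.Bijective ψ) :
    Module.Flat A B ∧
      Ideal.map (algebraMap A B) (IsLocalRing.maximalIdeal A) = IsLocalRing.maximalIdeal B := by
  haveI : Module.FaithfullyFlat B (AdicCompletion (IsLocalRing.maximalIdeal B) B) :=
    Module.FaithfullyFlat.of_flat_of_isLocalHom
  have hψa : ∀ a : A, ψ (algebraMap A _ a) = algebraMap B _ (algebraMap A B a) :=
    fun a => RingHom.congr_fun hψ a
  have htower : ∀ a : A, algebraMap A (AdicCompletion (IsLocalRing.maximalIdeal B) B) a =
      algebraMap B _ (algebraMap A B a) := fun a => rfl
  let e : AdicCompletion (IsLocalRing.maximalIdeal A) A ≃ₗ[A]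
      AdicCompletion (IsLocalRing.maximalIdeal B) B :=
    LinearEquiv.ofBijective
      { toFun := ψ
        map_add' := map_add ψ
        map_smul' := fun a x => by
          rw [Algebra.smul_def, map_mul, hψa, RingHom.id_apply, Algebra.smul_def, htower] }
      hbij
  haveI : Module.Flat A (AdicCompletion (IsLocalRing.maximalIdeal B) B) :=
    Module.Flat.of_linearEquiv e.symm
  refine ⟨Groth.Agent.H1.flat_of_flat_of_faithfullyFlat A B
    (AdicCompletion (IsLocalRing.maximalIdeal B) B), ?_⟩
  apply Ideal.map_injective_of_faithfullyFlat (B := AdicCompletion (IsLocalRing.maximalIdeal B) B)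
  rw [Ideal.map_map, ← AdicCompletion.maximalIdeal_eq_map, ← hψ, ← Ideal.map_map,
    ← AdicCompletion.maximalIdeal_eq_map]
  exact IsLocalRing.map_maximalIdeal_of_surjective ψ hbij.2

end Groth.Agent.S19461
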