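import Groth.Statements.S3042
import Mathlib
import Groth.Agent.Lib.Helper1.UnrFib
import Groth.Agent.S2759

set_option autoImplicit false
universe u
open CategoryTheory MonoidalCategory CartesianMonoidalCategory MonObj GrpObj AlgebraicGeometry TensorProduct
open SGA3

namespace Groth.Agent.S3042

/-- Let f : X → Y be a morphism of schemes locally of finite type. Then f is a monomorphism if and only
if, for every point y of Y, the fibre X_y → Spec κ(y) is a monomorphism. -/
theorem result (X Y : Scheme.{u}) (f : X ⟶ Y) [LocallyOfFiniteType f] :
    Mono f ↔ ∀ y : Y, Mono (f.fiberToSpecResidueField y) := by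
  constructor
  · intro hf y
    exact inferInstanceAs (Mono (Limits.pullback.snd _ _))
  · intro H
    haveI : UniversallyInjective f := by
      apply Groth.Agent.S2759.Aux.universallyInjective_of_fiberToSpecResidueField
      intro y
      haveI := H y
      infer_instance
    haveI : FormallyUnramified f := by
      apply Groth.Agent.H1.UnrFib.formallyUnramified_of_fiberToSpecResidueField
      intro y
      haveI := H y
      haveI : IsIso (Limits.pullback.diagonal (f.fiberToSpecResidueField y)) :=
        (Limits.pullback.isIso_diagonal_iff _).mpr inferInstance
      infer_instance
    haveI : Surjective (Limits.pullback.diagonal f) :=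
      (UniversallyInjective.iff_diagonal f).mp inferInstance
    haveI : IsIso (Limits.pullback.diagonal f) :=
      (isIso_iff_isOpenImmersion_and_surjective _).mpr ⟨inferInstance, inferInstance⟩
    exact (Limits.pullback.isIso_diagonal_iff f).mp inferInstance

end Groth.Agent.S3042
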