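import Groth.Statements.S19471
import Groth.Agent.Lib.Helper2.GrSyzHilbert

set_option autoImplicit false
universe u
open GrSyz

namespace Groth.Agent.S19471

/-- Let k be an algebraically closed field, S = k[x_0, …, x_n] with its standard grading, and M a
finitely generated ℤ-graded S-module. Then M has a graded free resolution of length at most n + 1:
an exact sequence 0 → F_{n+1} → … → F_1 → F_0 → M → 0 in which every F_i is a finite direct sum of
twists S(−j) (a finite-rank free module with a homogeneous basis) and all maps respect the grading. -/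
theorem result (k : Type u) [Field k] [IsAlgClosed k] (n : ℕ)
    (M : Type u) [AddCommGroup M] [Module k M] [Module (MvPolynomial (Fin (n + 1)) k) M]
    [IsScalarTower k (MvPolynomial (Fin (n + 1)) k) M] [Module.Finite (MvPolynomial (Fin (n + 1)) k) M]
    (ℳ : ℤ → Submodule k M) [DirectSum.Decomposition ℳ]
    [SetLike.GradedSMul (GrSyz.stdGr k (Fin (n + 1))) ℳ] :
    ∃ F : GrSyz.FreeRes (GrSyz.stdGr k (Fin (n + 1))) ℳ, F.HasLengthLE (n + 1) := by
  obtain ⟨F, h0, hS⟩ := Groth.Agent.H2.GrSyzExist.exists_freeRes_irredundant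
    (GrSyz.stdGr k (Fin (n + 1))) ℳ
  have hF : F.IsMinimal (GrSyz.irrel (GrSyz.stdGr k (Fin (n + 1)))).toIdeal :=
    Groth.Agent.H2.GrSyzMin.isMinimal_of_irredundant F _
      (fun n x hx hx' => Groth.Agent.H2.GrSyzMin.isUnit_of_mem_stdGr_of_notMem_irrel n x hx hx')
      h0 hS
  refine ⟨F, ?_⟩
  intro i hi
  let G : Groth.Agent.H2.MatRes (MvPolynomial (Fin (n + 1)) k) M :=
    { rk := F.rk
      d := F.d
      aug := F.aug
      aug_surjective := F.aug_surjective
      exact_zero := F.exact_zero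
      exact_succ := F.exact_succ }
  have hne : (GrSyz.irrel (GrSyz.stdGr k (Fin (n + 1)))).toIdeal ≠ ⊤ := by
    intro h
    exact Groth.Agent.H2.GrSyzBasic.one_notMem_irrel ((Ideal.eq_top_iff_one _).1 h)
  have hreg := Groth.Agent.H2.GrSyzHilbert.isWeaklyRegular_X k (n + 1)
  have hz := (Groth.Agent.H2.TorBal.tor_regular _ hreg
    (ModuleCat.of (MvPolynomial (Fin (n + 1)) k) M)).2 i (by
      rw [List.length_ofFn]; exact hi)
  rw [← Groth.Agent.H2.GrSyzHilbert.irrel_eq_ofList] at hz
  have hz' : CategoryTheory.Limits.IsZero (ModuleCat.of (MvPolynomial (Fin (n + 1)) k)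
      (Fin (G.rk i) → MvPolynomial (Fin (n + 1)) k ⧸
        (GrSyz.irrel (GrSyz.stdGr k (Fin (n + 1)))).toIdeal)) :=
    hz.of_iso (G.torIso _ hF i).symm
  rw [ModuleCat.isZero_iff_subsingleton] at hz'
  have : Nontrivial (MvPolynomial (Fin (n + 1)) k ⧸
      (GrSyz.irrel (GrSyz.stdGr k (Fin (n + 1)))).toIdeal) := Ideal.Quotient.nontrivial_iff.2 hne
  by_contra h0'
  have hpos : 0 < F.rk i := Nat.pos_of_ne_zero h0'
  obtain ⟨a, b, hab⟩ := exists_pair_ne (MvPolynomial (Fin (n + 1)) k ⧸
      (GrSyz.irrel (GrSyz.stdGr k (Fin (n + 1)))).toIdeal)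
  have h1 : (fun _ : Fin (F.rk i) => a) = fun _ => b := @Subsingleton.elim _ hz' _ _
  exact hab (congrFun h1 ⟨0, hpos⟩)

end Groth.Agent.S19471
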