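import Groth.Statements.S19475
import Groth.Agent.Lib.Helper1.ComplQuot
import Mathlib

set_option autoImplicit false
universe u
open CAlg

namespace Groth.Agent.S19475

open IsLocalRing in
/-- Let A be a Noetherian ring, B an A-algebra, q a prime ideal of B and p its preimage in A; let A_p
and B_q be the local rings at p and q and Â_p the completion of A_p at its maximal ideal pA_p. Then
the ideal generated by qB_q in B_q ⊗ Â_p is maximal. (The tensor product is formed over A; since A_p
is a localization of A it agrees with the tensor product over A_p used in the published statement.) -/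
theorem result (A B : Type u) [CommRing A] [CommRing B]
    [Algebra A B] [IsNoetherianRing A] (q : Ideal B) [q.IsPrime] :
    ((maximalIdeal (Localization.AtPrime q)).map
      (Algebra.TensorProduct.includeLeftRingHom :
        Localization.AtPrime q →+* TensorProduct A (Localization.AtPrime q)
          (AdicCompletion (maximalIdeal (Localization.AtPrime (q.under A)))
            (Localization.AtPrime (q.under A))))).IsMaximal := by
  classical
  set p := q.under A with hp
  let φ : Localization.AtPrime p →+* Localization.AtPrime q :=
    Localization.localRingHom p q (algebraMap A B) rfl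
  haveI hloc : IsLocalHom φ := Localization.isLocalHom_localRingHom p q (algebraMap A B) rfl
  letI : Algebra (Localization.AtPrime p) (Localization.AtPrime q) := φ.toAlgebra
  haveI : IsScalarTower A (Localization.AtPrime p) (Localization.AtPrime q) :=
    IsScalarTower.of_algebraMap_eq fun a => by
      change _ = φ _
      rw [Localization.localRingHom_to_map, ← IsScalarTower.algebraMap_apply]
  set 𝔪p := maximalIdeal (Localization.AtPrime p) with h𝔪p
  haveI : IsScalarTower A (Localization.AtPrime p) (AdicCompletion 𝔪p (Localization.AtPrime p)) :=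
    IsScalarTower.of_algebraMap_eq fun a => rfl
  haveI : TensorProduct.CompatibleSMul A (Localization.AtPrime p) (Localization.AtPrime q)
      (AdicCompletion 𝔪p (Localization.AtPrime p)) :=
    IsLocalization.tensorProduct_compatibleSMul p.primeCompl _ _ _
  set ι : Localization.AtPrime q →+* TensorProduct A (Localization.AtPrime q)
          (AdicCompletion 𝔪p (Localization.AtPrime p)) :=
    Algebra.TensorProduct.includeLeftRingHom with hι
  set J := (maximalIdeal (Localization.AtPrime q)).map ι with hJ
  -- F1
  have F1 : ∀ (x : Localization.AtPrime p) (b : Localization.AtPrime q)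
      (y : AdicCompletion 𝔪p (Localization.AtPrime p)),
      b ⊗ₜ[A] (x • y) = (x • b) ⊗ₜ[A] y := fun x b y => (TensorProduct.smul_tmul x b y).symm
  -- F2
  have hfg : 𝔪p.FG := IsNoetherian.noetherian 𝔪p
  have F2 : ∀ y : AdicCompletion 𝔪p (Localization.AtPrime p), ∃ x : Localization.AtPrime p,
      y - algebraMap _ _ x ∈ 𝔪p.map (algebraMap (Localization.AtPrime p)
        (AdicCompletion 𝔪p (Localization.AtPrime p))) := by
    intro y
    obtain ⟨x, hx⟩ := Ideal.Quotient.mk_surjective (AdicCompletion.evalₐ 𝔪p 1 y)
    refine ⟨x, ?_⟩
    have h1 := Groth.Agent.H1.ComplQuot.ker_evalₐ_le (A := Localization.AtPrime p) 𝔪p hfg 1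
    have h1' : Ideal.map (algebraMap (Localization.AtPrime p)
        (AdicCompletion 𝔪p (Localization.AtPrime p))) (𝔪p ^ 1) = Ideal.map (algebraMap _ _) 𝔪p := by
      rw [pow_one]
    rw [← h1']
    apply h1
    rw [RingHom.mem_ker, map_sub, AdicCompletion.algebraMap_apply]
    change AdicCompletion.evalₐ 𝔪p 1 y - AdicCompletion.evalₐ 𝔪p 1 (AdicCompletion.of 𝔪p _ x) = 0
    rw [AdicCompletion.evalₐ_of, hx, sub_self]
  -- tensors with elements of 𝔪p Â are in J
  have F3 : ∀ m ∈ 𝔪p.map (algebraMap (Localization.AtPrime p)
        (AdicCompletion 𝔪p (Localization.AtPrime p))),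
      ∀ b : Localization.AtPrime q, b ⊗ₜ[A] m ∈ J := by
    intro m hm
    refine Submodule.span_induction ?_ ?_ ?_ ?_ hm
    · rintro _ ⟨x, hx, rfl⟩ b
      have h1 : (algebraMap (Localization.AtPrime p) (AdicCompletion 𝔪p (Localization.AtPrime p))) x
          = x • (1 : AdicCompletion 𝔪p (Localization.AtPrime p)) := by
        rw [Algebra.smul_def, mul_one]
      rw [h1, F1]
      have h2 : x • b ∈ maximalIdeal (Localization.AtPrime q) := by
        rw [Algebra.smul_def]
        refine Ideal.mul_mem_right _ _ ?_
        change φ x ∈ _
        exact (map_mem_nonunits_iff φ x).mpr hx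
      exact Ideal.mem_map_of_mem ι h2
    · intro b
      rw [TensorProduct.tmul_zero]; exact J.zero_mem
    · intro x y _ _ hx hy b
      rw [TensorProduct.tmul_add]; exact J.add_mem (hx b) (hy b)
    · intro a x _ hx b
      have : b ⊗ₜ[A] (a • x) = ((1 : Localization.AtPrime q) ⊗ₜ[A] a) * (b ⊗ₜ[A] x) := by
        rw [Algebra.TensorProduct.tmul_mul_tmul, one_mul, smul_eq_mul]
      rw [this]
      exact J.mul_mem_left _ (hx b)
  -- every element is congruent to an element of B_q
  have claim : ∀ t : TensorProduct A (Localization.AtPrime q)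
          (AdicCompletion 𝔪p (Localization.AtPrime p)), ∃ b : Localization.AtPrime q,
      t - ι b ∈ J := by
    intro t
    induction t using TensorProduct.induction_on with
    | zero => exact ⟨0, by simp⟩
    | add x y hx hy =>
      obtain ⟨b1, h1⟩ := hx
      obtain ⟨b2, h2⟩ := hy
      refine ⟨b1 + b2, ?_⟩
      have : x + y - ι (b1 + b2) = (x - ι b1) + (y - ι b2) := by rw [map_add]; ring
      rw [this]
      exact J.add_mem h1 h2
    | tmul b y =>
      obtain ⟨x, hx⟩ := F2 y
      refine ⟨x • b, ?_⟩
      have h1 : ι (x • b) = b ⊗ₜ[A] (algebraMap (Localization.AtPrime p)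
          (AdicCompletion 𝔪p (Localization.AtPrime p)) x) := by
        have : (algebraMap (Localization.AtPrime p) (AdicCompletion 𝔪p (Localization.AtPrime p))) x
            = x • (1 : AdicCompletion 𝔪p (Localization.AtPrime p)) := by
          rw [Algebra.smul_def, mul_one]
        rw [this, F1]
        rfl
      rw [h1, ← TensorProduct.tmul_sub]
      exact F3 _ hx b
  -- the map to the residue field
  let f : Localization.AtPrime q →ₐ[A] ResidueField (Localization.AtPrime q) :=
    IsScalarTower.toAlgHom A _ _
  let g0 : AdicCompletion 𝔪p (Localization.AtPrime p) →+* ResidueField (Localization.AtPrime q) :=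
    (IsLocalRing.ResidueField.map φ).comp (AdicCompletion.evalOneₐ 𝔪p).toRingHom
  let g : AdicCompletion 𝔪p (Localization.AtPrime p) →ₐ[A]
      ResidueField (Localization.AtPrime q) :=
    { g0 with
      commutes' := fun a => by
        change (IsLocalRing.ResidueField.map φ) (AdicCompletion.evalOneₐ 𝔪p
          (AdicCompletion.of 𝔪p _ (algebraMap A (Localization.AtPrime p) a))) = _
        rw [AdicCompletion.evalOneₐ_of]
        change (IsLocalRing.ResidueField.map φ) (IsLocalRing.residue _ _) = _
        rw [IsLocalRing.ResidueField.map_residue, Localization.localRingHom_to_map,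
          ← IsScalarTower.algebraMap_apply]
        rfl }
  let Φ := Algebra.TensorProduct.productMap f g
  have hΦ : ∀ b, Φ (ι b) = IsLocalRing.residue _ b := by
    intro b
    change Φ (b ⊗ₜ[A] 1) = _
    rw [Algebra.TensorProduct.productMap_apply_tmul, map_one, mul_one]
    rfl
  have hJle : J ≤ RingHom.ker Φ.toRingHom := by
    rw [hJ, Ideal.map_le_iff_le_comap]
    intro b hb
    rw [Ideal.mem_comap, RingHom.mem_ker]
    change Φ (ι b) = 0
    rw [hΦ]
    exact (IsLocalRing.residue_eq_zero_iff b).mpr hb
  have h1 : (1 : TensorProduct A (Localization.AtPrime q)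
          (AdicCompletion 𝔪p (Localization.AtPrime p))) ∉ J := by
    intro h
    have := hJle h
    rw [RingHom.mem_ker, map_one] at this
    exact one_ne_zero this
  rw [Ideal.isMaximal_iff]
  refine ⟨h1, fun J' x hJJ' hxJ hxJ' => ?_⟩
  obtain ⟨b, hb⟩ := claim x
  have hb' : b ∉ maximalIdeal (Localization.AtPrime q) := by
    intro h
    apply hxJ
    have := J.add_mem hb (Ideal.mem_map_of_mem ι h)
    simpa using this
  have hunit : IsUnit b := by
    rwa [mem_maximalIdeal, mem_nonunits_iff, not_not] at hb'
  have hmem : ι b ∈ J' := by
    have := J'.sub_mem hxJ' (hJJ' hb)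
    simpa using this
  have := Ideal.eq_top_of_isUnit_mem _ hmem (hunit.map ι)
  rw [this]
  trivial

end Groth.Agent.S19475
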