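import Groth.Statements.S19479
import Mathlib
import Groth.Agent.Lib.Helper9.Comod

set_option autoImplicit false
universe u v w
open HopfRep

namespace Groth.Agent.S19479

open TensorProduct in
/-- Let K be a field, C a K-coalgebra and V a right C-comodule. The following are equivalent: (i) V is
the internal direct sum of a family of simple subcomodules, i.e. there is an independent family of
subcomodules W_i with sum V, each W_i nonzero and having no subcomodules inside it other than 0 and
W_i; (ii) every subcomodule of V has a complementary subcomodule. A subcomodule is a subspace W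
whose coaction lands in the image of W ⊗ C. (The source states this for left comodules; a left
comodule over C is a right comodule over the co-opposite coalgebra, so the statement is the same.) -/
theorem result {K : Type u} {C : Type v} [Field K]
    [AddCommGroup C] [Module K C] [Coalgebra K C] (V : Type w) [AddCommGroup V] [Module K V] [HopfRep.Comod K C V] :
    (∃ (ι : Type w) (W : ι → Submodule K V), iSupIndep W ∧ iSup W = ⊤ ∧ ∀ i,
        HopfRep.IsSubcomod (k := K) (A := C) (W i) ∧ W i ≠ ⊥ ∧
          ∀ W' : Submodule K V, HopfRep.IsSubcomod (k := K) (A := C) W' → W' ≤ W i → W' = ⊥ ∨ W' = W i) ↔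
      HopfRep.IsSemisimpleComod K C V := by
  classical
  constructor
  · rintro ⟨ι, W, -, hsum, hW⟩ U hU
    obtain ⟨J, -, hc⟩ := Groth.Agent.H9.Comod.exists_set_iSupIndep_isCompl_subcomod (A := C) W
      (fun i => hW i) hsum U hU
    exact ⟨⨆ j : J, W j, Groth.Agent.H9.Comod.isSubcomod_iSup _ fun j : J => (hW j).1, hc⟩
  · intro hV
    have hc : ComplementedLattice (Groth.Agent.H9.Comod.subLat K C V) :=
      (Groth.Agent.H9.Comod.isSemisimpleComod_iff K C V).mp hV
    have h1 : sSup {a : Groth.Agent.H9.Comod.subLat K C V | IsAtom a} = ⊤ := sSup_atoms_eq_top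
    have h2 := congrArg (fun a : Groth.Agent.H9.Comod.subLat K C V => (a : Submodule K V)) h1
    simp only [CompleteSublattice.coe_sSup, CompleteSublattice.coe_top] at h2
    have hsum : (⨆ S : {S : Submodule K V // Groth.Agent.H9.Comod.IsSimpleSub C S},
        (S.1 : Submodule K V)) = ⊤ := by
      rw [eq_top_iff, ← h2]
      apply sSup_le
      rintro _ ⟨a, ha, rfl⟩
      exact le_iSup (fun S : {S : Submodule K V // Groth.Agent.H9.Comod.IsSimpleSub C S} =>
        (S.1 : Submodule K V)) ⟨_, (Groth.Agent.H9.Comod.isAtom_iff a).mp ha⟩
    obtain ⟨J, hind, hcompl⟩ := Groth.Agent.H9.Comod.exists_set_iSupIndep_isCompl_subcomod (A := C)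
      (fun S : {S : Submodule K V // Groth.Agent.H9.Comod.IsSimpleSub C S} =>
        (S.1 : Submodule K V)) (fun S => S.2) hsum ⊥ Groth.Agent.H9.Comod.isSubcomod_bot
    refine ⟨J, fun j => (j.1.1 : Submodule K V), hind, ?_, fun j => j.1.2⟩
    have := hcompl.sup_eq_top
    rwa [bot_sup_eq] at this

end Groth.Agent.S19479
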