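import Groth.Statements.S19502
import Mathlib

set_option autoImplicit false
universe u
open W4c3ghconstell

namespace Groth.Agent.S19502

/-- Let ι index the irreducible representations, θ : ι → ℚ a weight which is negative exactly on the
finite set D₋, h h' : ι → ℕ with h' ≤ h pointwise (the isotypic dimensions of an object and of a
sub-object) and Σ_i θ_i h_i summable. For a finite set D of indices put S_D = Σ_{i ∉ D} θ_i h_i, d =
#(D ∖ D₋) and θ̃_D = Σ_{i ∈ D} θ_i h'_i + (S_D / d) · Σ_{i ∈ D ∖ D₋} h'_i / h_i, the modified weight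
attached to the parameters chosen for D (a quotient by zero is read as zero). Then for finite sets
D₋ ⊆ D ⊆ D̃ contained in the locus θ ≠ 0: (first error term) θ̃_{D̃} − θ̃_D = Σ_{τ ∈ D̃ ∖ D} (θ_τ
h_τ + S_{D̃}/d̃) · (h'_τ/h_τ − (1/d) Σ_{σ ∈ D ∖ D₋} h'_σ/h_σ); (second error term) Σ_i θ_i h'_i −
θ̃_D = Σ_{τ ∉ D} θ_τ h_τ · (h'_τ/h_τ − (1/d) Σ_{σ ∈ D ∖ D₋} h'_σ/h_σ). -/
theorem result {ι : Type u} [DecidableEq ι]
    (θ : ι → ℚ) (h h' : ι → ℕ) (hle : ∀ i, h' i ≤ h i) (hfin : {i | θ i < 0}.Finite)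
    (hsum : Summable (fun i => (θ i : ℝ) * (h i : ℝ))) (D D' : Finset ι)
    (hDm : hfin.toFinset ⊆ D) (hDD' : D ⊆ D') (hsupp : ∀ i ∈ D', θ i ≠ 0) :
    (((∑ i ∈ D', (θ i : ℝ) * (h' i : ℝ)) + ((∑' i, if i ∈ D' then (0 : ℝ) else (θ i : ℝ) * (h i : ℝ)) / ((D' \ hfin.toFinset).card : ℝ)) * (∑ σ ∈ D' \ hfin.toFinset, ((h' σ : ℝ) / (h σ : ℝ)))) - ((∑ i ∈ D, (θ i : ℝ) * (h' i : ℝ)) + ((∑' i, if i ∈ D then (0 : ℝ) else (θ i : ℝ) * (h i : ℝ)) / ((D \ hfin.toFinset).card : ℝ)) * (∑ σ ∈ D \ hfin.toFinset, ((h' σ : ℝ) / (h σ : ℝ)))) =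
      ∑ τ ∈ D' \ D, ((θ τ : ℝ) * (h τ : ℝ) + (∑' i, if i ∈ D' then (0 : ℝ) else (θ i : ℝ) * (h i : ℝ)) / ((D' \ hfin.toFinset).card : ℝ)) *
        (((h' τ : ℝ) / (h τ : ℝ)) - (1 / ((D \ hfin.toFinset).card : ℝ)) * (∑ σ ∈ D \ hfin.toFinset, ((h' σ : ℝ) / (h σ : ℝ))))) ∧
    ((∑' i, (θ i : ℝ) * (h' i : ℝ)) - ((∑ i ∈ D, (θ i : ℝ) * (h' i : ℝ)) + ((∑' i, if i ∈ D then (0 : ℝ) else (θ i : ℝ) * (h i : ℝ)) / ((D \ hfin.toFinset).card : ℝ)) * (∑ σ ∈ D \ hfin.toFinset, ((h' σ : ℝ) / (h σ : ℝ)))) =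
      ∑' τ, if τ ∈ D then (0 : ℝ) else (θ τ : ℝ) * (h τ : ℝ) *
        (((h' τ : ℝ) / (h τ : ℝ)) - (1 / ((D \ hfin.toFinset).card : ℝ)) * (∑ σ ∈ D \ hfin.toFinset, ((h' σ : ℝ) / (h σ : ℝ))))) := by
  classical
  set Dm := hfin.toFinset with hDm_def
  set a : ι → ℝ := fun i => (θ i : ℝ) * (h i : ℝ) with ha
  set q : ι → ℝ := fun i => (h' i : ℝ) / (h i : ℝ) with hq
  have hb : ∀ i, (θ i : ℝ) * (h' i : ℝ) = a i * q i := by
    intro i
    by_cases h0 : h i = 0
    · have : h' i = 0 := Nat.le_zero.1 (h0 ▸ hle i)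
      simp [ha, hq, h0, this]
    · have h0' : (h i : ℝ) ≠ 0 := by exact_mod_cast h0
      simp only [ha, hq]
      field_simp
  have hq1 : ∀ i, |q i| ≤ 1 := by
    intro i
    simp only [hq]
    rw [abs_div, Nat.abs_cast, Nat.abs_cast]
    by_cases h0 : h i = 0
    · simp [h0]
    · have h0' : (0 : ℝ) < (h i : ℝ) := by exact_mod_cast Nat.pos_of_ne_zero h0
      rw [div_le_one h0']
      exact_mod_cast hle i
  have hsumD : ∀ D : Finset ι, Summable (fun i => if i ∈ D then (0 : ℝ) else a i) := by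
    intro D
    refine Summable.of_norm_bounded (g := fun i => |a i|) hsum.abs (fun i => ?_)
    split_ifs <;> simp
  have hsumb : Summable (fun i => a i * q i) := by
    refine Summable.of_norm_bounded (g := fun i => |a i|) hsum.abs (fun i => ?_)
    rw [Real.norm_eq_abs, abs_mul]
    calc |a i| * |q i| ≤ |a i| * 1 := mul_le_mul_of_nonneg_left (hq1 i) (abs_nonneg _)
      _ = |a i| := mul_one _
  have hsumbD : ∀ D : Finset ι, Summable (fun i => if i ∈ D then (0 : ℝ) else a i * q i) := by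
    intro D
    refine Summable.of_norm_bounded (g := fun i => |a i * q i|) hsumb.abs (fun i => ?_)
    split_ifs
    · simp only [norm_zero]; exact abs_nonneg _
    · simp
  -- F4
  have hF4 : (∑' i, if i ∈ D then (0 : ℝ) else a i) =
      (∑' i, if i ∈ D' then (0 : ℝ) else a i) + ∑ τ ∈ D' \ D, a τ := by
    have e : (fun i => if i ∈ D then (0 : ℝ) else a i) =
        fun i => (if i ∈ D' then (0 : ℝ) else a i) + (if i ∈ D' \ D then a i else 0) := by
      funext i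
      by_cases h1 : i ∈ D
      · have h2 : i ∈ D' := hDD' h1
        simp [h1, h2]
      · by_cases h2 : i ∈ D'
        · simp [h1, h2]
        · simp [h1, h2]
    have hs2 : Summable (fun i => if i ∈ D' \ D then a i else 0) :=
      summable_of_ne_finset_zero (s := D' \ D) (fun i hi => by simp [hi])
    rw [e, (hsumD D').tsum_add hs2]
    congr 1
    rw [tsum_eq_sum (s := D' \ D) (fun i hi => by simp [hi])]
    exact Finset.sum_congr rfl (fun i hi => by simp [hi])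
  have hF1 : ∑ i ∈ D', a i * q i = ∑ i ∈ D, a i * q i + ∑ τ ∈ D' \ D, a τ * q τ := by
    rw [← Finset.sum_sdiff hDD']; ring
  have hEE : (D' \ Dm) \ (D \ Dm) = D' \ D := by
    ext i
    simp only [Finset.mem_sdiff]
    constructor
    · rintro ⟨⟨h1, h2⟩, h3⟩
      exact ⟨h1, fun h4 => h3 ⟨h4, h2⟩⟩
    · rintro ⟨h1, h2⟩
      exact ⟨⟨h1, fun h4 => h2 (hDm h4)⟩, fun h4 => h2 h4.1⟩
  have hEsub : D \ Dm ⊆ D' \ Dm := Finset.sdiff_subset_sdiff hDD' (le_refl _)
  have hF2 : ∑ σ ∈ D' \ Dm, q σ = ∑ σ ∈ D \ Dm, q σ + ∑ τ ∈ D' \ D, q τ := by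
    rw [← Finset.sum_sdiff hEsub, hEE]; ring
  have hF3 : ((D' \ Dm).card : ℝ) = ((D \ Dm).card : ℝ) + ((D' \ D).card : ℝ) := by
    rw [← hEE, ← Nat.cast_add, add_comm, Finset.card_sdiff_add_card_eq_card hEsub]
  simp only [hb]
  constructor
  · rw [hF4, hF1, hF2, hF3]
    set S' := ∑' i, if i ∈ D' then (0 : ℝ) else a i
    set Q := ∑ σ ∈ D \ Dm, q σ with hQ
    set d := ((D \ Dm).card : ℝ) with hd
    set c := ((D' \ D).card : ℝ) with hc
    have hRHS : ∑ τ ∈ D' \ D, (a τ + S' / (d + c)) * (q τ - 1 / d * Q) =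
        ∑ τ ∈ D' \ D, a τ * q τ - (1 / d * Q) * ∑ τ ∈ D' \ D, a τ +
          S' / (d + c) * ∑ τ ∈ D' \ D, q τ - S' / (d + c) * (1 / d * Q) * c := by
      simp only [add_mul, mul_sub, Finset.sum_add_distrib, Finset.sum_sub_distrib,
        Finset.mul_sum, Finset.sum_const, nsmul_eq_mul, hc]
      have : ∀ τ, a τ * (1 / d * Q) = 1 / d * Q * a τ := fun τ => by ring
      simp only [this]
      ring
    rw [hRHS]
    by_cases hd0 : d = 0
    · have hE : D \ Dm = ∅ := by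
        rw [← Finset.card_eq_zero]
        have : ((D \ Dm).card : ℝ) = 0 := hd0
        exact_mod_cast this
      have hQ0 : Q = 0 := by rw [hQ, hE, Finset.sum_empty]
      rw [hQ0, hd0]
      ring
    · have hc0 : (0 : ℝ) ≤ c := by rw [hc]; positivity
      have hdpos : 0 < d := lt_of_le_of_ne (by rw [hd]; positivity) (Ne.symm hd0)
      have hdc : d + c ≠ 0 := by positivity
      field_simp
      ring
  · set Q := ∑ σ ∈ D \ Dm, q σ with hQ
    set d := ((D \ Dm).card : ℝ) with hd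
    have e1 : (∑' i, a i * q i) = ∑ i ∈ D, a i * q i + ∑' i, if i ∈ D then (0 : ℝ) else a i * q i := by
      have e : (fun i => a i * q i) =
          fun i => (if i ∈ D then a i * q i else 0) + (if i ∈ D then (0 : ℝ) else a i * q i) := by
        funext i
        by_cases h1 : i ∈ D <;> simp [h1]
      have hs2 : Summable (fun i => if i ∈ D then a i * q i else 0) :=
        summable_of_ne_finset_zero (s := D) (fun i hi => by simp [hi])
      conv_lhs => rw [e]
      rw [hs2.tsum_add (hsumbD D)]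
      congr 1
      rw [tsum_eq_sum (s := D) (fun i hi => by simp [hi])]
      exact Finset.sum_congr rfl (fun i hi => by simp [hi])
    have e2 : (∑' τ, if τ ∈ D then (0 : ℝ) else a τ * (q τ - 1 / d * Q)) =
        (∑' i, if i ∈ D then (0 : ℝ) else a i * q i) -
          (∑' i, if i ∈ D then (0 : ℝ) else a i) * (1 / d * Q) := by
      rw [← tsum_mul_right, ← (hsumbD D).tsum_sub ((hsumD D).mul_right _)]
      congr 1
      funext τ
      by_cases h1 : τ ∈ D <;> simp [h1]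
      ring
    rw [e1, e2]
    ring

end Groth.Agent.S19502
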