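import Groth.Statements.S19506
import Groth.Agent.Lib.Helper5.AL.AL3
import Groth.Agent.Lib.Helper5.CA.FSField

set_option autoImplicit false
universe u
open CAlg

namespace Groth.Agent.S19506

/-- (i) ⇔ (iii): let k be a field and A a complete local Noetherian k-algebra with residue field k (a
k-algebra map π : A → k with kernel the maximal ideal; A complete for the adic topology of its
maximal ideal). Then A is regular if and only if A satisfies the infinitesimal lifting criterion:
for every Artinian local k-algebra R and every ideal J of R of square zero, every local k-algebra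
homomorphism A → R/J (one carrying non-units to non-units) lifts to a k-algebra homomorphism A → R.
(The test algebras R range over one universe, that of A. The published criterion is worded for
arbitrary k-algebra homomorphisms A → R/J; it is stated here for local ones, the case the argument
establishes and the form in which the text itself restates the criterion afterwards. The published
statement lists a third equivalent condition, A ≅ k[[x_1, …, x_d]].) -/
theorem result (k A : Type u) [Field k]
    [CommRing A] [Algebra k A] [IsLocalRing A] [IsNoetherianRing A]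
    [IsAdicComplete (IsLocalRing.maximalIdeal A) A]
    (π : A →ₐ[k] k) (hπ : RingHom.ker π = IsLocalRing.maximalIdeal A) :
    IsRegularLocalRing A ↔
      ∀ (R : Type u) [CommRing R] [Algebra k R] [IsArtinianRing R] [IsLocalRing R] (J : Ideal R),
        J ^ 2 = ⊥ → ∀ f : A →ₐ[k] R ⧸ J, IsLocalHom (f : A →+* R ⧸ J) →
          ∃ g : A →ₐ[k] R, (Ideal.Quotient.mkₐ k J).comp g = f := by
  classical
  -- the residue field of `A` is `k`
  have hπs : Function.Surjective π := fun c => ⟨algebraMap k A c, by simp⟩
  have hbij : Function.Bijective (algebraMap k (IsLocalRing.ResidueField A)) := by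
    refine ⟨RingHom.injective _, fun y => ?_⟩
    obtain ⟨a, rfl⟩ := IsLocalRing.residue_surjective y
    refine ⟨π a, ?_⟩
    have h1 : a - algebraMap k A (π a) ∈ IsLocalRing.maximalIdeal A := by
      rw [← hπ, RingHom.mem_ker, map_sub, AlgHom.commutes, Algebra.algebraMap_self_apply, sub_self]
    have h2 : IsLocalRing.residue A (a - algebraMap k A (π a)) = 0 :=
      (IsLocalRing.residue_eq_zero_iff _).2 h1
    rw [map_sub, sub_eq_zero] at h2
    rw [h2]
    rfl
  haveI : Algebra.IsGeometricallyReduced k (IsLocalRing.ResidueField A) := by
    let e : k ≃ₐ[k] IsLocalRing.ResidueField A :=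
      AlgEquiv.ofBijective (Algebra.ofId k (IsLocalRing.ResidueField A)) hbij
    haveI : Algebra.IsGeometricallyReduced k k := by
      rw [Algebra.isGeometricallyReduced_field_iff]
      exact isReduced_of_injective (Algebra.TensorProduct.rid k k (AlgebraicClosure k)).toAlgHom
        (Algebra.TensorProduct.rid k k (AlgebraicClosure k)).injective
    exact Algebra.IsGeometricallyReduced.of_injective e.symm.toAlgHom e.symm.injective
  have h30 := (Groth.Agent.H5.FSField.tfae k A).out 3 0
  rw [h30, H5.AL.main9316]
  constructor
  · intro H R _ _ _ _ J hJ f hf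
    have hJtop : J ≠ ⊤ := by
      rintro rfl
      have h1 : (1 : R) ∈ (⊤ : Ideal R) ^ 2 := by rw [Ideal.top_pow]; trivial
      rw [hJ] at h1
      exact one_ne_zero h1
    haveI : Nontrivial (R ⧸ J) := Ideal.Quotient.nontrivial_iff.2 hJtop
    haveI : IsLocalRing (R ⧸ J) :=
      IsLocalRing.of_surjective' (Ideal.Quotient.mk J) Ideal.Quotient.mk_surjective
    haveI : IsLocalHom (algebraMap k R) := ⟨fun a ha => by
      have : a ≠ 0 := by
        rintro rfl
        rw [map_zero] at ha
        exact not_isUnit_zero ha
      exact isUnit_iff_ne_zero.2 this⟩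
    haveI : IsLocalHom f.toRingHom := ⟨fun a ha => hf.map_nonunit a ha⟩
    obtain ⟨n, hn⟩ := H5.AL.exists_pow_map_eq_zero f.toRingHom
    have hfs : CAlgX.IsAdicFormallySmooth k A (IsLocalRing.maximalIdeal A) := H5.AL.main9316.2 H
    exact hfs R J hJ f ⟨n, hn⟩
  · intro H R _ _ _ _ _ J hJ _ _ ψ hψ _
    exact H R J hJ ψ ⟨fun a ha => hψ.map_nonunit a ha⟩

end Groth.Agent.S19506
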