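import Groth.Statements.S19522
import Mathlib

set_option autoImplicit false
universe u
open TensorProduct
open GLin

namespace Groth.Agent.S19522

/-- Let k be a field, A a commutative k-bialgebra coacting multiplicatively on a commutative k-algebra
R, and χ ∈ A a group-like element with an inverse χ' (χχ' = 1). Suppose the polynomial ring R[t]
carries a multiplicative coaction which restricts to the given one on constants and sends t to t ⊗
χ'. Then g ∈ R[t] is coinvariant if and only if, for every r, its r-th coefficient has coaction g_r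
↦ g_r ⊗ χ^r; that is, the ring of invariants of R[t] is the sum over r ≥ 0 of the weight-χ^r
semi-invariants of R times t^r. (The published statement is phrased for an affine variety with an
action of a linear algebraic group over an algebraically closed field of characteristic zero and
identifies the invariants of X × A¹ with the graded ring of invariant sections of the powers of the
linearised trivial bundle; this is its coordinate-ring content, valid over any field.) -/
theorem result (k : Type u) [Field k]
    (A : Type u) [CommRing A] [Bialgebra k A]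
    (R : Type u) [CommRing R] [Algebra k R] [HopfRep.Comod k A R] [GLin.IsCoactAlg k A R]
    [HopfRep.Comod k A (Polynomial R)] [GLin.IsCoactAlg k A (Polynomial R)]
    (χ χ' : A) (hχ : CoalgebraStruct.comul (R := k) (A := A) χ = χ ⊗ₜ[k] χ)
    (hχε : CoalgebraStruct.counit (R := k) (A := A) χ = 1) (hχχ' : χ * χ' = 1)
    (hC : ∀ r : R, HopfRep.Comod.coact (k := k) (A := A) (Polynomial.C r) =
      Algebra.TensorProduct.map (Polynomial.CAlgHom : R →ₐ[k] Polynomial R) (AlgHom.id k A)
        (HopfRep.Comod.coact (k := k) (A := A) r))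
    (hX : HopfRep.Comod.coact (k := k) (A := A) (Polynomial.X : Polynomial R) = Polynomial.X ⊗ₜ[k] χ')
    (g : Polynomial R) :
    g ∈ GLin.invariants k A (Polynomial R) ↔
      ∀ r : ℕ, g.coeff r ∈ HopfRep.eigenspace k A R (χ ^ r) := by
  classical
  -- the coaction of `g` expanded along its coefficients
  have hXpow : ∀ s : ℕ, HopfRep.Comod.coact (k := k) (A := A) ((Polynomial.X : Polynomial R) ^ s) =
      (Polynomial.X ^ s) ⊗ₜ[k] (χ' ^ s) := by
    intro s
    have := map_pow (GLin.coactAlgHom k A (Polynomial R)) (Polynomial.X : Polynomial R) s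
    simp only [GLin.coactAlgHom_apply] at this
    rw [this, hX, Algebra.TensorProduct.tmul_pow]
  have hterm : ∀ (a : R) (s : ℕ), HopfRep.Comod.coact (k := k) (A := A)
      (Polynomial.C a * (Polynomial.X : Polynomial R) ^ s) =
      Algebra.TensorProduct.map (Polynomial.CAlgHom : R →ₐ[k] Polynomial R) (AlgHom.id k A)
        (HopfRep.Comod.coact (k := k) (A := A) a) * ((Polynomial.X ^ s) ⊗ₜ[k] (χ' ^ s)) := by
    intro a s
    rw [GLin.IsCoactAlg.coact_mul, hC, hXpow]
  have hexp : HopfRep.Comod.coact (k := k) (A := A) g = ∑ s ∈ g.support,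
      Algebra.TensorProduct.map (Polynomial.CAlgHom : R →ₐ[k] Polynomial R) (AlgHom.id k A)
        (HopfRep.Comod.coact (k := k) (A := A) (g.coeff s)) * ((Polynomial.X ^ s) ⊗ₜ[k] (χ' ^ s)) := by
    conv_lhs => rw [Polynomial.as_sum_support_C_mul_X_pow g]
    rw [map_sum]
    exact Finset.sum_congr rfl fun s _ => hterm _ s
  -- coefficient extraction
  let cr : ℕ → Polynomial R ⊗[k] A →ₗ[k] R ⊗[k] A := fun r =>
    LinearMap.rTensor A ((Polynomial.lcoeff R r).restrictScalars k)
  have hcr : ∀ (r s : ℕ) (y : R ⊗[k] A) (b : A),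
      cr r (Algebra.TensorProduct.map (Polynomial.CAlgHom : R →ₐ[k] Polynomial R) (AlgHom.id k A) y *
        ((Polynomial.X ^ s) ⊗ₜ[k] b)) = if r = s then y * ((1 : R) ⊗ₜ[k] b) else 0 := by
    intro r s y b
    induction y using TensorProduct.induction_on with
    | zero => simp
    | tmul a a' =>
      simp only [cr, Algebra.TensorProduct.map_tmul, Polynomial.CAlgHom_apply, AlgHom.id_apply,
        Algebra.TensorProduct.tmul_mul_tmul, LinearMap.rTensor_tmul, LinearMap.restrictScalars_apply,
        Polynomial.lcoeff_apply, Polynomial.coeff_C_mul_X_pow, mul_one]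
      split_ifs with h
      · rfl
      · rw [TensorProduct.zero_tmul]
    | add y y' hy hy' =>
      rw [map_add, add_mul, map_add, hy, hy']
      split_ifs
      · rw [add_mul]
      · rw [add_zero]
  have hcrρ : ∀ r, cr r (HopfRep.Comod.coact (k := k) (A := A) g) =
      HopfRep.Comod.coact (k := k) (A := A) (g.coeff r) * ((1 : R) ⊗ₜ[k] (χ' ^ r)) := by
    intro r
    rw [hexp, map_sum]
    simp only [hcr]
    rw [Finset.sum_ite_eq]
    split_ifs with h
    · rfl
    · rw [Polynomial.notMem_support_iff.mp h, map_zero, zero_mul]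
  have hχpow : ∀ r : ℕ, χ ^ r * χ' ^ r = 1 := by
    intro r
    rw [← mul_pow, hχχ', one_pow]
  constructor
  · intro hg r
    have h1 : HopfRep.Comod.coact (k := k) (A := A) g = g ⊗ₜ[k] (1 : A) := hg
    have h2 := hcrρ r
    rw [h1] at h2
    have h3 : cr r (g ⊗ₜ[k] (1 : A)) = g.coeff r ⊗ₜ[k] (1 : A) := by
      simp [cr]
    rw [h3] at h2
    show HopfRep.Comod.coact (k := k) (A := A) (g.coeff r) = g.coeff r ⊗ₜ[k] (χ ^ r)
    have h4 := congrArg (fun z => z * ((1 : R) ⊗ₜ[k] (χ ^ r))) h2
    simp only [Algebra.TensorProduct.tmul_mul_tmul, mul_one, one_mul, mul_assoc] at h4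
    rw [mul_comm (χ' ^ r), hχpow, ← Algebra.TensorProduct.one_def, mul_one] at h4
    exact h4.symm
  · intro h
    show HopfRep.Comod.coact (k := k) (A := A) g = g ⊗ₜ[k] (1 : A)
    rw [hexp]
    conv_rhs => rw [Polynomial.as_sum_support_C_mul_X_pow g, TensorProduct.sum_tmul]
    apply Finset.sum_congr rfl
    intro s _
    have hs : HopfRep.Comod.coact (k := k) (A := A) (g.coeff s) = g.coeff s ⊗ₜ[k] (χ ^ s) := h s
    rw [hs, Algebra.TensorProduct.map_tmul, Algebra.TensorProduct.tmul_mul_tmul, AlgHom.id_apply,
      hχpow]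
    rfl

end Groth.Agent.S19522
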