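import Groth.Statements.S19533
import Groth.Agent.Lib.Helper3.AntiAff.FibreComp
import Groth.Agent.Lib.Helper3.AntiAff.AutDecomp

set_option autoImplicit false
universe u
open CategoryTheory CategoryTheory.Limits MonoidalCategory CartesianMonoidalCategory MonObj GrpObj AlgebraicGeometry
open AbVar

namespace Groth.Agent.S19533

/-- Let k be an algebraically closed field, A an abelian variety over k (a k-group scheme whose
structure morphism is proper, smooth and geometrically connected) with unit point e, Y a scheme
separated over k and f : A → Y a morphism over k. Write F₀ for the connected component of e in the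
fibre f⁻¹(f(e)). Then the k-rational points of F₀ are stable under the group law: if k-points x and
y of A lie in F₀ then so do the product point x·y and the inverse point x⁻¹. (The published
statement is for Y a k-variety and concludes that F₀ with its reduced structure is an abelian
subvariety, together with the translation formula F_a = a + F₀; this row records the closure of
F₀(k) under multiplication and inversion, for Y merely separated over k.) -/
theorem result (k : Type u) [Field k] [IsAlgClosed k]
    (A : Over (Spec (CommRingCat.of k))) [GrpObj A] [IsProper A.hom] [Smooth A.hom] [GeometricallyConnected A.hom]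
    {Y : Scheme.{u}} (q : Y ⟶ Spec (CommRingCat.of k)) [IsSeparated q] (f : A.left ⟶ Y) (hf : f ≫ q = A.hom)
    (x y : 𝟙_ (Over (Spec (CommRingCat.of k))) ⟶ A)
    (hx : x.left (IsLocalRing.closedPoint k) ∈
      connectedComponentIn (f ⁻¹' {f (η[A].left (IsLocalRing.closedPoint k))}) (η[A].left (IsLocalRing.closedPoint k)))
    (hy : y.left (IsLocalRing.closedPoint k) ∈
      connectedComponentIn (f ⁻¹' {f (η[A].left (IsLocalRing.closedPoint k))}) (η[A].left (IsLocalRing.closedPoint k))) :
    (lift x y ≫ μ[A]).left (IsLocalRing.closedPoint k) ∈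
        connectedComponentIn (f ⁻¹' {f (η[A].left (IsLocalRing.closedPoint k))}) (η[A].left (IsLocalRing.closedPoint k)) ∧
      (x ≫ ι[A]).left (IsLocalRing.closedPoint k) ∈
        connectedComponentIn (f ⁻¹' {f (η[A].left (IsLocalRing.closedPoint k))}) (η[A].left (IsLocalRing.closedPoint k)) := by
  have hconn : ConnectedSpace A.left :=
    GeometricallyConnected.connectedSpace_of_subsingleton A.hom
  have hint : IsIntegral A.left := Groth.Agent.H3.AntiAff.isIntegral_of_smooth_connected_grp A
  have hpt : IsLocalRing.closedPoint k = Groth.Agent.H3.AntiAff.pt0 k :=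
    Subsingleton.elim (α := ↥(Spec (CommRingCat.of k))) _ _
  rw [hpt] at hx hy ⊢
  obtain ⟨p, hp⟩ : ∃ p, p = Groth.Agent.H3.AntiAff.pt0 k := ⟨_, rfl⟩
  rw [← hp] at hx hy ⊢
  obtain ⟨F, hF⟩ : ∃ F, F = f ⁻¹' {f (η[A].left p)} := ⟨_, rfl⟩
  rw [← hF] at hx hy ⊢
  have heF : η[A].left p ∈ F := by rw [hF]; rfl
  -- translation by `x` preserves `F₀`
  have hxF : x.left p ∈ F := connectedComponentIn_subset _ _ hx
  have hfx : f (x.left p) = f (η[A].left p) := by rw [hF] at hxF; exact hxF
  have key : (Groth.Agent.H3.AntiAff.ltrans A x).left '' connectedComponentIn F (η[A].left p) =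
      connectedComponentIn F (η[A].left p) := by
    have h := Groth.Agent.H3.AntiAff.ltrans_image_component_eq A q f hf x
    rw [← hp, hfx, ← hF] at h
    rw [h]
    exact (connectedComponentIn_eq hx).symm
  have hpt2 : ∀ (z : 𝟙_ (Over (Spec (CommRingCat.of k))) ⟶ A)
      (b : 𝟙_ (Over (Spec (CommRingCat.of k))) ⟶ A),
      (Groth.Agent.H3.AntiAff.ltrans A b).left (z.left p) = (b * z).left p := by
    intro z b
    have h := Groth.Agent.H3.AntiAff.comp_ltrans A z b
    have h2 : toUnit (𝟙_ (Over (Spec (CommRingCat.of k)))) = 𝟙 _ := toUnit_unique _ _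
    rw [h2, Category.id_comp] at h
    rw [← h]
    rfl
  constructor
  · have h1 : (Groth.Agent.H3.AntiAff.ltrans A x).left (y.left p) ∈
        connectedComponentIn F (η[A].left p) := by
      rw [← key]
      exact ⟨_, hy, rfl⟩
    rw [hpt2] at h1
    rw [Hom.mul_def] at h1
    exact h1
  · have he0 : η[A].left p ∈ connectedComponentIn F (η[A].left p) :=
      mem_connectedComponentIn heF
    rw [← key] at he0
    obtain ⟨z, hz, hze⟩ := he0
    have h3 : z = (x⁻¹).left p := by
      have h4 := Groth.Agent.H3.AntiAff.ltrans_inv_comp A x⁻¹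
      rw [_root_.inv_inv] at h4
      have h5 : (Groth.Agent.H3.AntiAff.ltrans A x⁻¹).left
          ((Groth.Agent.H3.AntiAff.ltrans A x).left z) = z := by
        have := congrArg (fun g => g.left z) h4
        exact this
      rw [hze, hpt2, one_eq_one, _root_.mul_one] at h5
      exact h5.symm
    rw [h3] at hz
    rw [Hom.inv_def] at hz
    exact hz

end Groth.Agent.S19533
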