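import Groth.Statements.S19540
import Mathlib

set_option autoImplicit false
open CategoryTheory CategoryTheory.Limits Opposite
universe w v u
open CohSite

namespace Groth.Agent.S19540

/-- Let (C, J) be a site and B a class of objects of C, each weakly contractible (every epimorphism of
sheaves of sets, valued in a fixed universe, is surjective on sections over it), such that every
object V of C has a covering sieve all of whose arrows factor through some object of B. Then a
three-term complex F ⟶ G ⟶ H of abelian sheaves on (C, J) is exact if and only if for every U in B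
the sequence of section groups F(U) ⟶ G(U) ⟶ H(U) is exact. (The published statement is for sheaves
of modules over a sheaf of rings O; this row is the case of the constant sheaf of rings ℤ, i.e.
abelian sheaves, to which exactness questions for O-modules reduce. The universe set-up assumes that
abelian sheafification exists and inverts exactly the locally bijective maps, as on any small site.) -/
theorem result
    {C : Type u} [Category.{v} C] (J : GrothendieckTopology C) [HasSheafify J AddCommGrpCat.{w}]
    [J.WEqualsLocallyBijective AddCommGrpCat.{w}]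
    (B : C → Prop)
    (hB : ∀ U : C, B U → ∀ (P Q : Sheaf J (Type w)) (ψ : P ⟶ Q), Epi ψ → Function.Surjective (ψ.hom.app (op U)))
    (hcov : ∀ V : C, ∃ S : Sieve V, S ∈ J V ∧ ∀ ⦃W : C⦄ (f : W ⟶ V), S.arrows f →
      ∃ (U : C) (g : W ⟶ U) (h : U ⟶ V), B U ∧ g ≫ h = f)
    (S : ShortComplex (Sheaf J AddCommGrpCat.{w})) :
    S.Exact ↔ ∀ U : C, B U →
      (S.map (sheafToPresheaf J AddCommGrpCat.{w} ⋙ (evaluation Cᵒᵖ AddCommGrpCat.{w}).obj (op U))).Exact := by
  classical
  haveI : J.HasSheafCompose (forget AddCommGrpCat.{w}) := inferInstance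
  -- evaluation functor
  let ev : ∀ U : C, Sheaf J AddCommGrpCat.{w} ⥤ AddCommGrpCat.{w} := fun U =>
    sheafToPresheaf J AddCommGrpCat.{w} ⋙ (evaluation Cᵒᵖ AddCommGrpCat.{w}).obj (op U)
  -- the cycles complex
  let T : ShortComplex (Sheaf J AddCommGrpCat.{w}) := ShortComplex.mk S.iCycles S.g S.iCycles_g
  have hT : T.Exact := ShortComplex.exact_of_f_is_kernel T S.cyclesIsKernel
  haveI : Mono T.f := by dsimp [T]; infer_instance
  have hTU : ∀ U : C, (T.map (ev U)).Exact := fun U =>
    hT.map_of_mono_of_preservesKernel (ev U) inferInstance inferInstance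
  -- injectivity of iCycles on sections
  have hinj : ∀ U : C, Function.Injective (S.iCycles.hom.app (op U)) := by
    intro U
    have : Mono ((ev U).map S.iCycles) := inferInstance
    exact (AddCommGrpCat.mono_iff_injective _).1 this
  -- lifting of cycles on sections
  have hlift : ∀ (U : C) (x₂ : S.X₂.obj.obj (op U)), S.g.hom.app (op U) x₂ = 0 →
      ∃ k : S.cycles.obj.obj (op U), S.iCycles.hom.app (op U) k = x₂ := by
    intro U x₂ hx₂
    exact ((ShortComplex.ab_exact_iff _).1 (hTU U)) x₂ hx₂
  have hfac : ∀ (U : C) (x₁ : S.X₁.obj.obj (op U)),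
      S.iCycles.hom.app (op U) (S.toCycles.hom.app (op U) x₁) = S.f.hom.app (op U) x₁ := by
    intro U x₁
    have := S.toCycles_i
    rw [← this]
    rfl
  rw [ShortComplex.exact_iff_epi_toCycles]
  constructor
  · intro hepi U hU
    rw [ShortComplex.ab_exact_iff]
    intro x₂ hx₂
    obtain ⟨k, hk⟩ := hlift U x₂ hx₂
    haveI : Sheaf.IsLocallySurjective S.toCycles := (Sheaf.isLocallySurjective_iff_epi' (A := AddCommGrpCat.{w}) S.toCycles).2 hepi
    haveI : Sheaf.IsLocallySurjective ((sheafCompose J (forget AddCommGrpCat.{w})).map S.toCycles) :=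
      inferInstance
    have hsurj := hB U hU _ _ ((sheafCompose J (forget AddCommGrpCat.{w})).map S.toCycles)
      inferInstance
    obtain ⟨x₁, hx₁⟩ := hsurj k
    refine ⟨x₁, ?_⟩
    have h1 : S.toCycles.hom.app (op U) x₁ = k := hx₁
    have := hfac U x₁
    rw [h1, hk] at this
    exact this.symm
  · intro hex
    rw [← Sheaf.isLocallySurjective_iff_epi' (A := AddCommGrpCat.{w})]
    refine ⟨fun {V} k => ?_⟩
    obtain ⟨R, hR, hfacR⟩ := hcov V
    refine J.superset_covering ?_ hR
    intro W a ha
    obtain ⟨U, g, h, hU, rfl⟩ := hfacR a ha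
    -- restrict k to U
    let kU : S.cycles.obj.obj (op U) := S.cycles.obj.map h.op k
    have hz : S.g.hom.app (op U) (S.iCycles.hom.app (op U) kU) = 0 := by
      have := S.iCycles_g
      have h2 : (S.iCycles ≫ S.g).hom.app (op U) kU = 0 := by rw [this]; rfl
      exact h2
    obtain ⟨x₁, hx₁⟩ := ((ShortComplex.ab_exact_iff _).1 (hex U hU)) _ hz
    have hx₁' : S.toCycles.hom.app (op U) x₁ = kU := by
      apply hinj U
      rw [hfac]
      exact hx₁
    refine ⟨S.X₁.obj.map g.op x₁, ?_⟩
    have nat := NatTrans.naturality_apply S.toCycles.hom g.op x₁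
    rw [hx₁'] at nat
    rw [nat]
    change _ = S.cycles.obj.map (g ≫ h).op k
    rw [op_comp, Functor.map_comp]
    rfl

end Groth.Agent.S19540
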