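import Groth.Statements.S19547
import Mathlib

set_option autoImplicit false
universe u
open TensorProduct
open Desc

namespace Groth.Agent.S19547

/-- Let A → A' be a faithfully flat homomorphism of commutative rings, M' an A'-module and φ : M' ⊗_A A'
→ A' ⊗_A M' an isomorphism of (A' ⊗_A A')-modules for the diagonal actions (x ⊗ y)(u ⊗ z) = xu ⊗ yz
and (x ⊗ y)(z ⊗ u) = xz ⊗ yu, satisfying the cocycle condition φ_13 = φ_23 ∘ φ_12 between the three
pullbacks to A' ⊗_A A' ⊗_A A'. Here linearity over A' ⊗_A A' is stated on the generators x ⊗ 1 and 1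
⊗ y, and the cocycle condition on pure tensors u ⊗ a ⊗ b: writing φ(u ⊗ a) = Σ a_i ⊗ u_i, it says Σ
a_i ⊗ φ(u_i ⊗ b) = Σ b_j ⊗ a ⊗ u'_j where φ(u ⊗ b) = Σ b_j ⊗ u'_j. Let M = {u ∈ M' : φ(u ⊗ 1) = 1 ⊗
u}, an A-submodule of M'. Then the canonical map λ : A' ⊗_A M → M', x ⊗ u ↦ xu, is an isomorphism. -/
theorem result (A A' : Type u) [CommRing A] [CommRing A']
    [Algebra A A'] [Module.FaithfullyFlat A A'] (M' : Type u) [AddCommGroup M'] [Module A M']
    [Module A' M'] [IsScalarTower A A' M']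
    (φ : M' ⊗[A] A' →ₗ[A] A' ⊗[A] M') (hφ : Function.Bijective φ)
    (h1 : ∀ (x : A') (u : M') (z : A'),
      φ ((x • u) ⊗ₜ[A] z) = LinearMap.rTensor M' (LinearMap.mulLeft A x) (φ (u ⊗ₜ[A] z)))
    (h2 : ∀ (y : A') (u : M') (z : A'),
      φ (u ⊗ₜ[A] (y * z)) = LinearMap.lTensor A' (Algebra.lsmul A A M' y) (φ (u ⊗ₜ[A] z)))
    (hcoc : ∀ (u : M') (a b : A'),
      LinearMap.lTensor A' φ (TensorProduct.assoc A A' M' A' (LinearMap.rTensor A' φ ((u ⊗ₜ[A] a) ⊗ₜ[A] b))) =
        LinearMap.lTensor A' (TensorProduct.mk A A' M' a) (φ (u ⊗ₜ[A] b)))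
    (M : Submodule A M') (hM : ∀ u : M', u ∈ M ↔ φ (u ⊗ₜ[A] (1 : A')) = (1 : A') ⊗ₜ[A] u) :
    Function.Bijective
      ((TensorProduct.lift (Algebra.lsmul A A M').toLinearMap) ∘ₗ (LinearMap.lTensor A' M.subtype)) := by
  -- the coaction
  let α : M' →ₗ[A] A' ⊗[A] M' := φ ∘ₗ (TensorProduct.mk A M' A').flip 1
  let β : M' →ₗ[A] A' ⊗[A] M' := TensorProduct.mk A A' M' 1
  let μ : A' ⊗[A] M' →ₗ[A] M' := TensorProduct.lift (Algebra.lsmul A A M').toLinearMap
  let ι : A' ⊗[A] M →ₗ[A] A' ⊗[A] M' := LinearMap.lTensor A' M.subtype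
  have hα : ∀ u, α u = φ (u ⊗ₜ[A] (1 : A')) := fun u => rfl
  have hβ : ∀ u, β u = (1 : A') ⊗ₜ[A] u := fun u => rfl
  have hμ : ∀ (x : A') (u : M'), μ (x ⊗ₜ[A] u) = x • u := fun x u => by
    simp [μ]
  have F1 : ∀ (x : A') (u : M'), α (x • u) = LinearMap.rTensor M' (LinearMap.mulLeft A x) (α u) :=
    fun x u => h1 x u 1
  -- exactness
  have hex : Function.Exact M.subtype (α - β) := by
    intro u
    constructor
    · intro h
      have : u ∈ M := by
        rw [hM]
        have : α u - β u = 0 := h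
        rw [← hα, ← hβ]
        exact sub_eq_zero.mp this
      exact ⟨⟨u, this⟩, rfl⟩
    · rintro ⟨m, rfl⟩
      have := (hM m.1).mp m.2
      show α m.1 - β m.1 = 0
      rw [hα, hβ, this, sub_self]
  have hex' := Module.Flat.lTensor_exact A' hex
  -- cocycle consequence
  have F2a : ∀ z : A' ⊗[A] M', LinearMap.lTensor A' α z
      = LinearMap.lTensor A' φ (TensorProduct.assoc A A' M' A' (z ⊗ₜ[A] (1 : A'))) := by
    intro z
    induction z using TensorProduct.induction_on with
    | zero => simp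
    | tmul a v => simp [α]
    | add x y hx hy => simp only [map_add, TensorProduct.add_tmul, hx, hy]
  have F2 : ∀ u, LinearMap.lTensor A' α (α u) = LinearMap.lTensor A' β (α u) := by
    intro u
    have := hcoc u 1 1
    rw [LinearMap.rTensor_tmul, ← hα] at this
    rw [F2a, this]
  have hαinj : Function.Injective α := by
    have h1 : Function.Injective ((TensorProduct.mk A M' A').flip 1) := by
      have := Module.FaithfullyFlat.tensorProduct_mk_injective (A := A) (B := A') M'
      have h2 : ((TensorProduct.mk A M' A').flip 1) = (TensorProduct.comm A A' M').toLinearMap ∘ₗ (TensorProduct.mk A A' M' 1) := by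
        ext u; simp
      rw [h2]
      exact (TensorProduct.comm A A' M').injective.comp this
    exact hφ.1.comp h1
  -- ν
  let ν : A' ⊗[A] (A' ⊗[A] M') →ₗ[A] A' ⊗[A] M' :=
    TensorProduct.lift ((LinearMap.rTensorHom M') ∘ₗ (LinearMap.mul A A'))
  have hν : ∀ (a : A') (z : A' ⊗[A] M'), ν (a ⊗ₜ[A] z) = LinearMap.rTensor M' (LinearMap.mulLeft A a) z :=
    fun a z => by simp [ν]; rfl
  have hν1 : ν ∘ₗ LinearMap.lTensor A' α = α ∘ₗ μ := by
    apply TensorProduct.ext'
    intro a u
    simp only [LinearMap.comp_apply, LinearMap.lTensor_tmul, hν, hμ, F1]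
  have hν2 : ν ∘ₗ LinearMap.lTensor A' β = LinearMap.id := by
    apply TensorProduct.ext'
    intro a u
    simp only [LinearMap.comp_apply, LinearMap.lTensor_tmul, hν, hβ, LinearMap.id_apply,
      LinearMap.rTensor_tmul, LinearMap.mulLeft_apply, mul_one]
  have F4 : ∀ u, μ (α u) = u := by
    intro u
    apply hαinj
    have e1 := LinearMap.congr_fun hν1 (α u)
    have e2 := LinearMap.congr_fun hν2 (α u)
    simp only [LinearMap.comp_apply, LinearMap.id_apply] at e1 e2
    rw [← e1, F2, e2]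
  have F5 : ∀ w : A' ⊗[A] M, α (μ (ι w)) = ι w := by
    intro w
    induction w using TensorProduct.induction_on with
    | zero => simp
    | tmul x m =>
      have hm := (hM m.1).mp m.2
      simp only [ι, LinearMap.lTensor_tmul, Submodule.subtype_apply, hμ, F1, hα, hm,
        LinearMap.rTensor_tmul, LinearMap.mulLeft_apply, mul_one]
    | add x y hx hy => simp only [map_add, hx, hy]
  have hιinj : Function.Injective ι := Module.Flat.lTensor_preserves_injective_linearMap _ M.injective_subtype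
  show Function.Bijective (μ ∘ₗ ι)
  constructor
  · intro w₁ w₂ h
    apply hιinj
    have h' : μ (ι w₁) = μ (ι w₂) := h
    rw [← F5 w₁, ← F5 w₂, h']
  · intro u
    have hz : (LinearMap.lTensor A' (α - β)) (α u) = 0 := by
      rw [LinearMap.lTensor_sub, LinearMap.sub_apply, F2, sub_self]
    obtain ⟨w, hw⟩ := (hex' (α u)).mp hz
    refine ⟨w, ?_⟩
    show μ (ι w) = u
    have : ι w = α u := hw
    rw [this, F4]

end Groth.Agent.S19547
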