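import Groth.Statements.S19556
import Mathlib

set_option autoImplicit false
universe u
open CategoryTheory AlgebraicGeometry
open Mor

namespace Groth.Agent.S19556

/-- Let S be a scheme, p : X → S and q : Y → S schemes over S, and π : X → Y a finite surjective
morphism over S (π ≫ q = p). If X is separated over S then Y is separated over S. (The published
statement is about the quotient map X → X/G of a scheme by an action of a finite group scheme,
assumed to exist and then finite and surjective; this row keeps of it only a finite surjective
S-morphism π, which is all the argument uses.) -/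
theorem result {S X Y : Scheme.{u}} (p : X ⟶ S) (q : Y ⟶ S)
    (π : X ⟶ Y) (hπ : π ≫ q = p) [IsFinite π] [Surjective π] [IsSeparated p] :
    IsSeparated q := by
  have hF : IsFinite (Limits.pullback.map p p q q π π (𝟙 S) ((Category.comp_id _).trans hπ.symm)
      ((Category.comp_id _).trans hπ.symm)) :=
    MorphismProperty.pullbackMap (P := @IsFinite) ‹_› ‹_› hπ.symm hπ.symm
  set F := Limits.pullback.map p p q q π π (𝟙 S) ((Category.comp_id _).trans hπ.symm)
      ((Category.comp_id _).trans hπ.symm) with hFdef
  have hcomm : Limits.pullback.diagonal p ≫ F = π ≫ Limits.pullback.diagonal q := by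
    apply Limits.pullback.hom_ext
    · simp only [F, Category.assoc]
      rw [Limits.pullback.lift_fst, Limits.pullback.diagonal_fst_assoc, Limits.pullback.diagonal_fst, Category.comp_id]
    · simp only [F, Category.assoc]
      rw [Limits.pullback.lift_snd, Limits.pullback.diagonal_snd_assoc, Limits.pullback.diagonal_snd, Category.comp_id]
  have hrange : Set.range (Limits.pullback.diagonal q) = F '' (Set.range (Limits.pullback.diagonal p)) := by
    have h1 : Set.range (π ≫ Limits.pullback.diagonal q) = Set.range (Limits.pullback.diagonal q) := by
      rw [Scheme.Hom.comp_base, TopCat.coe_comp, Set.range_comp, Set.range_eq_univ.mpr π.surjective,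
        Set.image_univ]
    rw [← h1, ← hcomm, Scheme.Hom.comp_base, TopCat.coe_comp, Set.range_comp]
  have hclosed : IsClosed (Set.range (Limits.pullback.diagonal q)) := by
    rw [hrange]
    exact F.isClosedMap _ (Limits.pullback.diagonal p).isClosedEmbedding.isClosed_range
  have : IsClosedImmersion (Limits.pullback.diagonal q) := IsClosedImmersion.of_isPreimmersion _ hclosed
  exact ⟨this⟩

end Groth.Agent.S19556
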