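import Groth.Statements.S1959
import Mathlib.RingTheory.IntegralClosure.Algebra.Ideal

set_option autoImplicit false
universe u
open Polynomial
open EtAlg

namespace Groth.Agent.S1959

/-- Let I be an ideal of a ring A, A -> B an integral ring map and b an element of B whose image in B/IB
is idempotent. Then there are d ≥ 1 and a monic polynomial f over A with f(b) = 0 whose reduction
modulo I is x^d (x - 1)^d. -/
theorem result (A B : Type u) [CommRing A] [CommRing B] [Algebra A B]
    [Algebra.IsIntegral A B] (I : Ideal A) (b : B)
    (hb : IsIdempotentElem (Ideal.Quotient.mk (I.map (algebraMap A B)) b)) :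
    ∃ (f : A[X]) (d : ℕ), f.Monic ∧ 1 ≤ d ∧ aeval b f = 0 ∧
      f.map (Ideal.Quotient.mk I) = X ^ d * (X - 1) ^ d := by
  have hz : b ^ 2 - b ∈ I.map (algebraMap A B) := by
    rw [← Ideal.Quotient.eq_zero_iff_mem, map_sub, map_pow, pow_two, hb.eq, sub_self]
  obtain ⟨p, hp, hpz, hcoef⟩ := exists_monic_aeval_eq_zero_forall_mem_of_mem_map hz
  cases subsingleton_or_nontrivial A with
  | inl hA =>
    have : Subsingleton B := Module.subsingleton A B
    have : Subsingleton (A ⧸ I) := Function.Surjective.subsingleton Ideal.Quotient.mk_surjective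
    exact ⟨1, 1, monic_one, le_rfl, Subsingleton.elim _ _, Subsingleton.elim _ _⟩
  | inr hA =>
  by_cases hd : p.natDegree = 0
  · have hp1 : p = 1 := by
      rw [Polynomial.eq_C_of_natDegree_eq_zero hd]
      have := hp.coeff_natDegree
      rw [hd] at this
      rw [this, map_one]
    rw [hp1, map_one] at hpz
    have : Subsingleton B := subsingleton_of_zero_eq_one hpz.symm
    refine ⟨X * (X - 1), 1, ?_, le_rfl, Subsingleton.elim _ _, ?_⟩
    · exact (monic_X).mul (monic_X_sub_C (1 : A))  |> fun h => by simpa using h
    · simp
  · let q : A[X] := X ^ 2 - X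
    have hq : q.Monic := by
      apply Polynomial.monic_X_pow_sub
      exact degree_X_le.trans_lt (by norm_num)
    have hqd : q.natDegree = 2 := by
      have h1 : (X : A[X]).natDegree < ((X : A[X]) ^ 2).natDegree := by
        rw [natDegree_X_pow, natDegree_X]; norm_num
      rw [show q = X ^ 2 - X from rfl, natDegree_sub_eq_left_of_natDegree_lt h1, natDegree_X_pow]
    refine ⟨p.comp q, p.natDegree, hp.comp hq (by rw [hqd]; norm_num), Nat.one_le_iff_ne_zero.mpr hd, ?_, ?_⟩
    · rw [aeval_comp]
      simpa [q] using hpz
    · have hpm : p.map (Ideal.Quotient.mk I) = X ^ p.natDegree := by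
        ext i
        rw [coeff_map, coeff_X_pow]
        split_ifs with h
        · rw [h, hp.coeff_natDegree, map_one]
        · exact Ideal.Quotient.eq_zero_iff_mem.mpr (hcoef i h)
      rw [Polynomial.map_comp, hpm]
      simp only [q, X_pow_comp, Polynomial.map_sub, Polynomial.map_pow, map_X]
      rw [← mul_pow]
      congr 1
      ring


end Groth.Agent.S1959
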