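import Mathlib
import Groth.Statements.S19590

set_option autoImplicit false
open BddFin

namespace Groth.Agent.S19590

open Matrix

variable {n : ℕ}

/-- `(1 + X)^k = 1 + k • X + X^2 * C` in any ring. -/
private lemma one_add_pow_expand {S : Type*} [Ring S] (X : S) (k : ℕ) :
    ∃ C : S, (1 + X) ^ k = 1 + k • X + X * X * C := by
  induction k with
  | zero => exact ⟨0, by simp⟩
  | succ k ih =>
    obtain ⟨C, hC⟩ := ih
    refine ⟨k • (1 : S) + C + C * X, ?_⟩
    rw [pow_succ, hC]
    simp only [mul_add, add_mul, mul_one, one_mul, mul_smul_comm, smul_mul_assoc, succ_nsmul]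
    noncomm_ring

/-- one step of the descent: `k` prime to 3. -/
private lemma step_coprime (g A : Matrix (Fin n) (Fin n) ℤ) (e k : ℕ) (he : 1 ≤ e)
    (hk : ¬ 3 ∣ k) (hg : g = 1 + (3 : ℤ) ^ e • A) (hgk : g ^ k = 1) :
    ∃ A' : Matrix (Fin n) (Fin n) ℤ, g = 1 + (3 : ℤ) ^ (e + 1) • A' := by
  obtain ⟨C, hC⟩ := one_add_pow_expand ((3 : ℤ) ^ e • A) k
  rw [← hg, hgk] at hC
  -- 0 = k * 3^e A + 3^(2e) A A C
  have h0 : (3 : ℤ) ^ e • ((k : ℤ) • A + (3 : ℤ) ^ e • (A * A * C)) = 0 := by
    have : k • ((3 : ℤ) ^ e • A) + (3 : ℤ) ^ e • A * ((3 : ℤ) ^ e • A) * C = 0 := by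
      have h1 : (1 : Matrix (Fin n) (Fin n) ℤ) = 1 + (k • ((3 : ℤ) ^ e • A) + (3 : ℤ) ^ e • A * ((3 : ℤ) ^ e • A) * C) := by
        rw [← add_assoc]; exact hC
      simpa using h1.symm
    rw [← Nat.cast_smul_eq_nsmul ℤ k] at this
    rw [← this]
    ext i j
    simp only [smul_add, Matrix.smul_mul, Matrix.mul_smul, smul_smul, Matrix.add_apply, Matrix.smul_apply, smul_eq_mul, nsmul_eq_mul]
    ring
  have h1 : (k : ℤ) • A + (3 : ℤ) ^ e • (A * A * C) = 0 := by
    ext i j
    have := congrFun (congrFun h0 i) j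
    simp only [Matrix.smul_apply, Matrix.zero_apply, smul_eq_mul] at this
    rcases mul_eq_zero.1 this with h | h
    · exact absurd h (by positivity)
    · simpa using h
  -- entries of A divisible by 3
  have hdiv : ∀ i j, (3 : ℤ) ∣ A i j := by
    intro i j
    have := congrFun (congrFun h1 i) j
    simp only [Matrix.add_apply, Matrix.smul_apply, Matrix.zero_apply, smul_eq_mul] at this
    have h3 : (3 : ℤ) ∣ (k : ℤ) * A i j := by
      have : (k : ℤ) * A i j = - ((3 : ℤ) ^ e * (A * A * C) i j) := by linarith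
      rw [this]
      exact Dvd.dvd.neg_right (Dvd.dvd.mul_right (dvd_pow_self 3 (by omega)) _)
    have hp : Prime (3 : ℤ) := Int.prime_three
    rcases hp.dvd_or_dvd h3 with h | h
    · exfalso; apply hk; exact_mod_cast h
    · exact h
  refine ⟨Matrix.of fun i j => A i j / 3, ?_⟩
  rw [hg]
  ext i j
  simp only [Matrix.add_apply, Matrix.smul_apply, smul_eq_mul, Matrix.of_apply]
  obtain ⟨c, hc⟩ := hdiv i j
  rw [hc, pow_succ]
  have : (3 * c) / 3 = c := by omega
  rw [this]; ring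

/-- one step of the descent: `k = 3`. -/
private lemma step_three (g A : Matrix (Fin n) (Fin n) ℤ) (e : ℕ) (he : 1 ≤ e)
    (hg : g = 1 + (3 : ℤ) ^ e • A) (hgk : g ^ 3 = 1) :
    ∃ A' : Matrix (Fin n) (Fin n) ℤ, g = 1 + (3 : ℤ) ^ (e + 1) • A' := by
  have hexp : g ^ 3 = 1 + (3 : ℤ) ^ (e + 1) • (A + (3 : ℤ) • ((3 : ℤ) ^ (e - 1) • (A * A) + (3 : ℤ) ^ (2 * e - 2) • (A * A * A))) := by
    rw [hg]
    obtain ⟨e', rfl⟩ : ∃ e', e = e' + 1 := ⟨e - 1, by omega⟩
    have h2 : 2 * (e' + 1) - 2 = 2 * e' := by omega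
    simp only [Nat.add_sub_cancel, h2]
    ext i j
    simp only [pow_succ, pow_zero, one_mul, Matrix.add_mul, Matrix.mul_add, Matrix.one_mul, Matrix.mul_one,
      Matrix.smul_mul, Matrix.mul_smul, smul_smul, smul_add, Matrix.add_apply, Matrix.smul_apply, smul_eq_mul]
    ring
  rw [hgk] at hexp
  have h0 : (3 : ℤ) ^ (e + 1) • (A + (3 : ℤ) • ((3 : ℤ) ^ (e - 1) • (A * A) + (3 : ℤ) ^ (2 * e - 2) • (A * A * A))) = 0 := by
    simpa using hexp.symm
  have hdiv : ∀ i j, (3 : ℤ) ∣ A i j := by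
    intro i j
    have := congrFun (congrFun h0 i) j
    simp only [Matrix.smul_apply, Matrix.zero_apply, smul_eq_mul, Matrix.add_apply] at this
    rcases mul_eq_zero.1 this with h | h
    · exact absurd h (by positivity)
    · have : A i j = - (3 * ((3 : ℤ) ^ (e - 1) * (A * A) i j + (3 : ℤ) ^ (2 * e - 2) * (A * A * A) i j)) := by linarith
      rw [this]
      exact Dvd.dvd.neg_right (dvd_mul_right _ _)
  refine ⟨Matrix.of fun i j => A i j / 3, ?_⟩
  rw [hg]
  ext i j
  simp only [Matrix.add_apply, Matrix.smul_apply, smul_eq_mul, Matrix.of_apply]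
  obtain ⟨c, hc⟩ := hdiv i j
  rw [hc, pow_succ]
  have : (3 * c) / 3 = c := by omega
  rw [this]; ring

/-- if every step can be done then `g = 1`. -/
private lemma eq_one_of_forall (g : Matrix (Fin n) (Fin n) ℤ)
    (h : ∀ e : ℕ, 1 ≤ e → ∃ A : Matrix (Fin n) (Fin n) ℤ, g = 1 + (3 : ℤ) ^ e • A) : g = 1 := by
  ext i j
  have hd : ∀ e : ℕ, 1 ≤ e → (3 : ℤ) ^ e ∣ g i j - (1 : Matrix (Fin n) (Fin n) ℤ) i j := by
    intro e he
    obtain ⟨A, hA⟩ := h e he
    rw [hA]
    simp only [Matrix.add_apply, Matrix.smul_apply, smul_eq_mul, add_sub_cancel_left]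
    exact dvd_mul_right _ _
  set x := g i j - (1 : Matrix (Fin n) (Fin n) ℤ) i j with hx
  have hx0 : x = 0 := by
    by_contra hne
    have h1 := hd (x.natAbs + 1) (by omega)
    have h2 : (3 : ℤ) ^ (x.natAbs + 1) ≤ |x| := by
      have := Int.le_of_dvd (abs_pos.2 hne) ((dvd_abs _ _).2 h1)
      exact this
    have h3 : (x.natAbs : ℤ) < (3 : ℤ) ^ (x.natAbs + 1) := by
      have : x.natAbs < 3 ^ (x.natAbs + 1) := lt_of_lt_of_le (Nat.lt_pow_self (by norm_num : 1 < 3)) (Nat.pow_le_pow_right (by norm_num) (by omega))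
      exact_mod_cast this
    rw [← Int.natCast_natAbs] at h2
    omega
  linarith [hx0]

private lemma eq_one_of_pow_prime_step (g : Matrix (Fin n) (Fin n) ℤ)
    (hg : ∃ A : Matrix (Fin n) (Fin n) ℤ, g = 1 + (3 : ℤ) • A)
    (k : ℕ) (hk : k = 3 ∨ ¬ 3 ∣ k) (hgk : g ^ k = 1) : g = 1 := by
  apply eq_one_of_forall
  intro e he
  induction e, he using Nat.le_induction with
  | base => obtain ⟨A, hA⟩ := hg; exact ⟨A, by simpa using hA⟩
  | succ e he ih =>
    obtain ⟨A, hA⟩ := ih
    rcases hk with rfl | hk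
    · exact step_three g A e he hA hgk
    · exact step_coprime g A e k he hk hA hgk

private lemma eq_one_of_pow (k : ℕ) : ∀ (g : Matrix (Fin n) (Fin n) ℤ),
    (∃ A : Matrix (Fin n) (Fin n) ℤ, g = 1 + (3 : ℤ) • A) → 0 < k → g ^ k = 1 → g = 1 := by
  induction k using Nat.strong_induction_on with
  | _ k ih =>
    intro g hg hk hgk
    by_cases h3 : 3 ∣ k
    · obtain ⟨k', rfl⟩ := h3
      have hk' : 0 < k' := by omega
      have hcube : g ^ 3 = 1 := by
        apply ih k' (by omega) (g ^ 3) _ hk'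
        · rw [← pow_mul]; exact hgk
        · obtain ⟨A, hA⟩ := hg
          obtain ⟨C, hC⟩ := one_add_pow_expand ((3 : ℤ) • A) 3
          refine ⟨(3 : ℤ) • A + A * ((3 : ℤ) • A) * C, ?_⟩
          rw [hA, hC, ← Nat.cast_smul_eq_nsmul ℤ 3]
          ext i j
          simp only [smul_add, Matrix.smul_mul, Matrix.mul_smul, smul_smul, Matrix.add_apply, Matrix.smul_apply, smul_eq_mul, nsmul_eq_mul]
          push_cast
          ring
      exact eq_one_of_pow_prime_step g hg 3 (Or.inl rfl) hcube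
    · exact eq_one_of_pow_prime_step g hg k (Or.inr h3) hgk

/-- For every n, the orders of the finite subgroups of GL_n(ℤ) are bounded: there is B such that every
finite subgroup of GL_n(ℤ) has at most B elements. -/
theorem result (n : ℕ) :
    ∃ B : ℕ, ∀ H : Subgroup (Matrix.GeneralLinearGroup (Fin n) ℤ), Finite H → Nat.card H ≤ B := by
  classical
  refine ⟨Nat.card (Matrix.GeneralLinearGroup (Fin n) (ZMod 3)), ?_⟩
  intro H hH
  let φ : H →* Matrix.GeneralLinearGroup (Fin n) (ZMod 3) :=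
    (Matrix.GeneralLinearGroup.map (Int.castRingHom (ZMod 3))).comp H.subtype
  have hφ : Function.Injective φ := by
    rw [injective_iff_map_eq_one]
    intro h hh
    have hfin : IsOfFinOrder h := isOfFinOrder_of_finite h
    have hk : 0 < orderOf h := hfin.orderOf_pos
    have hpow : h ^ orderOf h = 1 := pow_orderOf_eq_one h
    have hpow' : ((h : Matrix.GeneralLinearGroup (Fin n) ℤ) : Matrix (Fin n) (Fin n) ℤ) ^ orderOf h = 1 := by
      have h1 : (h : Matrix.GeneralLinearGroup (Fin n) ℤ) ^ orderOf h = 1 := by exact_mod_cast hpow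
      have := congrArg Units.val h1
      simpa only [Units.val_pow_eq_pow_val, Units.val_one] using this
    have hcong : ∃ A : Matrix (Fin n) (Fin n) ℤ, ((h : Matrix.GeneralLinearGroup (Fin n) ℤ) : Matrix (Fin n) (Fin n) ℤ) = 1 + (3 : ℤ) • A := by
      have hent : ∀ i j, (3 : ℤ) ∣ ((h : Matrix.GeneralLinearGroup (Fin n) ℤ) : Matrix (Fin n) (Fin n) ℤ) i j - (1 : Matrix (Fin n) (Fin n) ℤ) i j := by
        intro i j
        have := congrArg (fun x : Matrix.GeneralLinearGroup (Fin n) (ZMod 3) => (x : Matrix (Fin n) (Fin n) (ZMod 3)) i j) hh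
        simp only [φ, MonoidHom.comp_apply, Subgroup.coe_subtype, Matrix.GeneralLinearGroup.map_apply,
          Units.val_one] at this
        have h0 : ((((h : Matrix.GeneralLinearGroup (Fin n) ℤ) : Matrix (Fin n) (Fin n) ℤ) i j - (1 : Matrix (Fin n) (Fin n) ℤ) i j : ℤ) : ZMod 3) = 0 := by
          rw [eq_intCast] at this
          push_cast
          rw [this]
          by_cases hij : i = j
          · subst hij; simp
          · simp [Matrix.one_apply_ne hij]
        have := (ZMod.intCast_zmod_eq_zero_iff_dvd _ 3).1 h0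
        exact_mod_cast this
      refine ⟨Matrix.of fun i j => (((h : Matrix.GeneralLinearGroup (Fin n) ℤ) : Matrix (Fin n) (Fin n) ℤ) i j - (1 : Matrix (Fin n) (Fin n) ℤ) i j) / 3, ?_⟩
      ext i j
      obtain ⟨c, hc⟩ := hent i j
      simp only [Matrix.add_apply, Matrix.smul_apply, smul_eq_mul, Matrix.of_apply]
      rw [hc]
      have : (3 * c) / 3 = c := by omega
      rw [this]; linarith
    have := eq_one_of_pow (orderOf h) _ hcong hk hpow'
    ext1
    ext1
    exact this
  haveI : Finite (Matrix.GeneralLinearGroup (Fin n) (ZMod 3)) := by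
    unfold Matrix.GeneralLinearGroup; infer_instance
  exact Nat.card_le_card_of_injective φ hφ

end Groth.Agent.S19590
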