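import Groth.Statements.S19599
import Mathlib
import Groth.Agent.H4.WRg

set_option autoImplicit false
open CategoryTheory MonoidalCategory CartesianMonoidalCategory MonObj GrpObj AlgebraicGeometry
universe u
open SGA3x

namespace Groth.Agent.S19599

/-- Let G be an affine group scheme of finite presentation over a scheme S and H ⊆ G a closed subgroup
scheme of finite presentation over S which is of multiplicative type (of finite type). Then the
centralizer of H in G (points of G commuting with every point of H after any base change) is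
representable by a closed subscheme of G. Here G is not assumed smooth, and smoothness of the
centralizer is not asserted. -/
theorem result {S : Scheme.{u}} (G H : Over S) [GrpObj G] [GrpObj H]
    (hGa : IsAffineHom G.hom) (hGfp : LocallyOfFinitePresentation G.hom)
    (i : H ⟶ G) [IsMonHom i] (hi : IsClosedImmersion i.left) (hHfp : LocallyOfFinitePresentation H.hom)
    (hH : SGA3x.IsMultTypeFT H) :
    ∃ (C : Over S) (c : C ⟶ G), IsClosedImmersion c.left ∧
      ∀ (X : Over S) (g : X ⟶ G), (∃ z : X ⟶ C, z ≫ c = g) ↔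
        ∀ (X' : Over S) (x : X' ⟶ X) (a : X' ⟶ H), (x ≫ g) * (a ≫ i) = (a ≫ i) * (x ≫ g) := by
  obtain ⟨S', f, hflat, hsurj, hqc, htriv⟩ := hH
  have hcov : Groth.Agent.H3.FpqcCov.Cov f :=
    Groth.Agent.H3.FpqcCov.cov_of_cond f hsurj hflat hqc
  haveI : IsAffineHom G.hom := hGa
  haveI : IsSeparated G.hom := inferInstance
  have hW : IsClosedImmersion
      (Limits.equalizer.ι (snd H G * (fst H G ≫ i)) ((fst H G ≫ i) * snd H G)).left :=
    inferInstance
  have hw : ∀ ⦃T'' : Scheme.{u}⦄ (s : T'' ⟶ (H ⊗ G).left),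
      (∃ l : T'' ⟶ (Limits.equalizer (snd H G * (fst H G ≫ i)) ((fst H G ≫ i) * snd H G)).left,
        l ≫ (Limits.equalizer.ι (snd H G * (fst H G ≫ i)) ((fst H G ≫ i) * snd H G)).left = s) ↔
        s ≫ (snd H G * (fst H G ≫ i)).left = s ≫ ((fst H G ≫ i) * snd H G).left :=
    fun T'' s => Groth.Agent.H4.WRd.over_eq_factor_iff _ _ s
  have hpr : Groth.Agent.H3.FpqcCov.Cov (Limits.pullback.fst G.hom f) :=
    MorphismProperty.pullback_fst G.hom f hcov
  have hpb1 : IsPullback (Limits.pullback.fst (snd H G).left (Limits.pullback.fst G.hom f))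
      (Limits.pullback.snd (snd H G).left (Limits.pullback.fst G.hom f)) (snd H G).left
      (Limits.pullback.fst G.hom f) := IsPullback.of_hasPullback _ _
  have hpb2 := IsPullback.of_hasPullback
    (Limits.equalizer.ι (snd H G * (fst H G ≫ i)) ((fst H G ≫ i) * snd H G)).left
    (Limits.pullback.fst (snd H G).left (Limits.pullback.fst G.hom f))
  obtain ⟨Z', c', hc', hZ'⟩ := Groth.Agent.H4.WRc.weil_rep
    (Limits.pullback.snd (snd H G).left (Limits.pullback.fst G.hom f))
    (Limits.pullback.snd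
      (Limits.equalizer.ι (snd H G * (fst H G ≫ i)) ((fst H G ≫ i) * snd H G)).left
      (Limits.pullback.fst (snd H G).left (Limits.pullback.fst G.hom f))) (by
      intro y
      obtain ⟨U, hyU, M, _, hfg, ⟨e'⟩⟩ := htriv ((Limits.pullback.snd G.hom f) y)
      have h3 : IsPullback (fst H G).left (snd H G).left H.hom G.hom :=
        IsPullback.of_hasPullback H.hom G.hom
      have hP := hpb1.paste_horiz h3
      rw [Limits.pullback.condition (f := G.hom) (g := f)] at hP
      have h1 : e'.hom.hom.hom.left ≫ e'.inv.hom.hom.left = 𝟙 _ :=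
        congrArg (fun m => Over.Hom.left m) (Groth.Agent.H3.HomDiag.grp_hom_inv e')
      have h2 : e'.inv.hom.hom.left ≫ e'.hom.hom.hom.left = 𝟙 _ :=
        congrArg (fun m => Over.Hom.left m) (Groth.Agent.H3.HomDiag.grp_inv_hom e')
      exact Groth.Agent.H4.WRg.loc_model_diag H.hom f (Limits.pullback.snd G.hom f) _ _ hP U M
        ⟨e'.hom.hom.hom.left, e'.inv.hom.hom.left, h1, h2⟩ (Over.w e'.hom.hom.hom) y hyU)
  obtain ⟨Z₀, c₀, hc₀, hZ⟩ := Groth.Agent.H4.WRc.glue_rep
    (X := fun _ : PUnit.{u + 1} => Limits.pullback G.hom f) (fun _ => Limits.pullback.fst G.hom f)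
    (by rw [Groth.Agent.H3.FpqcCov.ofArrows_const]; exact hpr)
    (Groth.Agent.H4.WRb.predW_isLocal (snd H G).left
      (Limits.equalizer.ι (snd H G * (fst H G ≫ i)) ((fst H G ≫ i) * snd H G)).left)
    (fun _ => Z') (fun _ => c') (fun _ => hc')
    (fun _ T x => by rw [Groth.Agent.H4.WRb.predW_baseChange hpb1 hpb2]; exact hZ' x)
  refine ⟨Over.mk (c₀ ≫ G.hom), Over.homMk c₀ rfl, hc₀, ?_⟩
  intro X g
  rw [Groth.Agent.H4.WRe.over_rep c₀ g, ← hZ g.left,
    ← Groth.Agent.H4.WRe.eq_iff_predW (snd H G * (fst H G ≫ i)) ((fst H G ≫ i) * snd H G) _ hw g]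
  have key : ∀ (X' : Over S) (x : X' ⟶ X) (a : X' ⟶ H),
      (lift a (x ≫ g) ≫ (snd H G * (fst H G ≫ i)) =
        lift a (x ≫ g) ≫ ((fst H G ≫ i) * snd H G)) ↔
      ((x ≫ g) * (a ≫ i) = (a ≫ i) * (x ≫ g)) := by
    intro X' x a
    rw [MonObj.comp_mul, MonObj.comp_mul, lift_snd, ← Category.assoc, lift_fst]
  exact forall_congr' fun X' => forall_congr' fun x => forall_congr' fun a => key X' x a

end Groth.Agent.S19599
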