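import Groth.Statements.S19610
import Groth.Agent.Lib.Helper1.FlatNilpotent

set_option autoImplicit false
universe u
open scoped TensorProduct
open CartMod

namespace Groth.Agent.S19610

/-- Let p be a prime and B a commutative algebra over the commutative ring A, both complete and
separated for the p-adic topology and both without p-torsion (flat over the p-adic base). If B/pB is
flat over A/pA, then B/p^nB is flat over A/p^nA for every n ≥ 1 (the quotients are written as base
changes (A/p^n) ⊗_A B). (The published statement is for a morphism of flat p-adic formal schemes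
over the Witt vectors of a perfect field: if its special fibre is flat, so are the induced morphisms
of schemes modulo every power of p; this row is its affine, ring-level case.) -/
theorem result (p : ℕ) [Fact p.Prime]
    {A B : Type u} [CommRing A] [CommRing B] [Algebra A B]
    [IsAdicComplete (Ideal.span {(p : A)}) A] [IsAdicComplete (Ideal.span {(p : B)}) B]
    (hA : IsSMulRegular A (p : A)) (hB : IsSMulRegular B (p : B))
    (h : Module.Flat (A ⧸ Ideal.span {(p : A)}) ((A ⧸ Ideal.span {(p : A)}) ⊗[A] B))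
    (n : ℕ) (hn : 1 ≤ n) :
    Module.Flat (A ⧸ (Ideal.span {(p : A)} ^ n)) ((A ⧸ (Ideal.span {(p : A)} ^ n)) ⊗[A] B) := by
  set I : Ideal A := Ideal.span {(p : A)} with hI
  set An := A ⧸ I ^ n with hAn
  set J : Ideal An := Ideal.span {(p : An)} with hJ
  have hpn : ((p : An)) ^ n = 0 := by
    have : (p : An) = Ideal.Quotient.mk (I ^ n) (p : A) := (map_natCast _ p).symm
    rw [this, ← map_pow, Ideal.Quotient.eq_zero_iff_mem]
    exact Ideal.pow_mem_pow (Ideal.mem_span_singleton_self _) n
  have hJnil : IsNilpotent J :=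
    ⟨n, (Ideal.span_singleton_pow (p : An) n).trans (by rw [hpn]; exact Ideal.span_singleton_zero)⟩
  -- the flatness instance on the quotient
  let k1 := A ⧸ I
  let k2 := An ⧸ J
  have hker : ∀ a ∈ I, algebraMap A k2 a = 0 := by
    intro a ha
    obtain ⟨c, rfl⟩ := Ideal.mem_span_singleton'.1 ha
    rw [map_mul, map_natCast]
    have : ((p : ℕ) : k2) = Ideal.Quotient.mk J (p : An) := (map_natCast _ p).symm
    rw [this, Ideal.Quotient.eq_zero_iff_mem.2 (Ideal.mem_span_singleton_self _), mul_zero]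
  let _ : Algebra k1 k2 := (Ideal.Quotient.lift I (algebraMap A k2) hker).toAlgebra
  have : IsScalarTower A k1 k2 := IsScalarTower.of_algebraMap_eq (fun a => rfl)
  have hflat2 : Module.Flat k2 (k2 ⊗[k1] (k1 ⊗[A] B)) := inferInstance
  let e1 : k2 ⊗[An] (An ⊗[A] B) ≃ₗ[k2] k2 ⊗[A] B :=
    TensorProduct.AlgebraTensorModule.cancelBaseChange A An k2 k2 B
  let e2 : k2 ⊗[k1] (k1 ⊗[A] B) ≃ₗ[k2] k2 ⊗[A] B :=
    TensorProduct.AlgebraTensorModule.cancelBaseChange A k1 k2 k2 B
  have : Module.Flat (An ⧸ J) ((An ⧸ J) ⊗[An] (An ⊗[A] B)) :=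
    Module.Flat.of_linearEquiv (e1.trans e2.symm)
  apply Groth.Agent.H1.flat_of_isNilpotent_of_flat_quotient J hJnil
  have hpJ : (p : An) ∈ J := Ideal.mem_span_singleton_self _
  have hform1 : ∀ m : An ⊗[A] B, ∃ b : B, m = (1 : An) ⊗ₜ[A] b := by
    intro m
    induction m using TensorProduct.induction_on with
    | zero => exact ⟨0, (TensorProduct.tmul_zero _ _).symm⟩
    | tmul a b =>
      obtain ⟨a, rfl⟩ := Ideal.Quotient.mk_surjective a
      refine ⟨a • b, ?_⟩
      rw [← TensorProduct.smul_tmul]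
      congr 1
      rw [Algebra.smul_def, mul_one]; rfl
    | add x y hx hy =>
      obtain ⟨b, rfl⟩ := hx
      obtain ⟨b', rfl⟩ := hy
      exact ⟨b + b', (TensorProduct.tmul_add _ _ _).symm⟩
  have hform : ∀ x : J ⊗[An] (An ⊗[A] B), ∃ b : B,
      x = (⟨(p : An), hpJ⟩ : J) ⊗ₜ[An] ((1 : An) ⊗ₜ[A] b) := by
    intro x
    induction x using TensorProduct.induction_on with
    | zero => exact ⟨0, by rw [TensorProduct.tmul_zero, TensorProduct.tmul_zero]⟩
    | tmul j m =>
      obtain ⟨a, ha⟩ := Ideal.mem_span_singleton'.1 j.2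
      obtain ⟨b, hb⟩ := hform1 (a • m)
      refine ⟨b, ?_⟩
      rw [← hb, ← TensorProduct.smul_tmul]
      congr 1
      ext
      simp [← ha]
    | add x y hx hy =>
      obtain ⟨b, rfl⟩ := hx
      obtain ⟨b', rfl⟩ := hy
      exact ⟨b + b', by rw [TensorProduct.tmul_add, TensorProduct.tmul_add]⟩
  rw [injective_iff_map_eq_zero]
  intro x hx
  obtain ⟨b, rfl⟩ := hform x
  have h1 := congrArg (TensorProduct.lid An (An ⊗[A] B)) hx
  rw [LinearMap.rTensor_tmul, map_zero, Submodule.subtype_apply, TensorProduct.lid_tmul,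
    TensorProduct.smul_tmul', smul_eq_mul, mul_one] at h1
  have h2 : ((p : An)) ⊗ₜ[A] b = (1 : An) ⊗ₜ[A] ((p : A) • b) := by
    rw [← TensorProduct.smul_tmul]
    congr 1
    rw [Algebra.smul_def, mul_one, map_natCast]
  rw [h2] at h1
  have h3 := congrArg (TensorProduct.quotTensorEquivQuotSMul B (I ^ n)) h1
  rw [map_zero] at h3
  have h4 : (p : A) • b ∈ (I ^ n • ⊤ : Submodule A B) := by
    have : TensorProduct.quotTensorEquivQuotSMul B (I ^ n) ((1 : An) ⊗ₜ[A] ((p : A) • b))
        = Submodule.Quotient.mk ((p : A) • b) := by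
      have := TensorProduct.quotTensorEquivQuotSMul_mk_tmul (M := B) (I ^ n) (1 : A) ((p : A) • b)
      rw [one_smul] at this
      exact this
    rw [this, Submodule.Quotient.mk_eq_zero] at h3
    exact h3
  rw [Ideal.smul_top_eq_map, Submodule.restrictScalars_mem, hI, Ideal.span_singleton_pow, Ideal.map_span,
    Set.image_singleton, Ideal.mem_span_singleton'] at h4
  obtain ⟨c, hc⟩ := h4
  obtain ⟨n', rfl⟩ : ∃ n', n = n' + 1 := ⟨n - 1, by omega⟩
  have hb : b = (p : B) ^ n' * c := by
    apply hB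
    show (p : B) • b = (p : B) • ((p : B) ^ n' * c)
    rw [smul_eq_mul, smul_eq_mul, ← mul_assoc, ← pow_succ', mul_comm _ c]
    rw [map_pow, map_natCast, Algebra.smul_def, map_natCast] at hc
    exact hc.symm
  have h5 : ((1 : An) ⊗ₜ[A] b : An ⊗[A] B) = ((p : An) ^ n') • ((1 : An) ⊗ₜ[A] c) := by
    rw [TensorProduct.smul_tmul', smul_eq_mul, mul_one, hb]
    have : (p : B) ^ n' * c = ((p : A) ^ n') • c := by
      rw [Algebra.smul_def, map_pow, map_natCast]
    rw [this, ← TensorProduct.smul_tmul]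
    congr 1
    rw [Algebra.smul_def, mul_one, map_pow, map_natCast]
  rw [h5, ← TensorProduct.smul_tmul]
  have : ((p : An) ^ n') • (⟨(p : An), hpJ⟩ : J) = 0 := by
    ext
    simp only [Submodule.coe_smul, smul_eq_mul, ← pow_succ, hpn, ZeroMemClass.coe_zero]
  rw [this, TensorProduct.zero_tmul]

end Groth.Agent.S19610
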