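import Groth.Statements.S19611


set_option autoImplicit false
universe u
open CategoryTheory AlgebraicGeometry
open CartMod

namespace Groth.Agent.S19611

/-- For a prime p and a scheme Y of characteristic p, write Y♭ for the scheme-theoretic image of the
absolute Frobenius F_Y : Y → Y, i.e. the closed subscheme of Y defined by the sections of O_Y whose
p-th power vanishes, and Y → Y♭ for the canonical morphism through which F_Y factors. Then Y → Y♭ is
an epimorphism of schemes: two morphisms g₁, g₂ from Y♭ to a scheme Z with equal composites Y → Y♭ →
Z are equal. (The published statement is for k-morphisms g₁, g₂ from Y♭ to a k-scheme Z over a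
perfect field k of characteristic p, compared after Frobenius twist through Y → (Y♭)'; this row asks
right-cancellation against morphisms to every scheme Z, which is equivalent to it for k-morphisms.) -/
theorem result (p : ℕ) [Fact p.Prime] (Y : Scheme.{u}) [FrobSch.IsCharP Y p] :
    Epi (FrobSch.frob Y p).toImage := by
  haveI qc : QuasiCompact (FrobSch.frob Y p) := ⟨fun U hU hc => hc⟩
  set f := FrobSch.frob Y p with hf
  have hcomp : ∀ x, f.imageι (f.toImage x) = x := fun x => by
    have := congr($(f.toImage_imageι) x)
    exact this
  have hsurj : Function.Surjective f.toImage := fun y => by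
    refine ⟨f.imageι y, ?_⟩
    exact f.imageι.isEmbedding.injective (hcomp _)
  have hind : Topology.IsInducing f.toImage := by
    refine Topology.IsInducing.of_comp f.toImage.continuous f.imageι.continuous ?_
    have : (f.imageι ∘ f.toImage : Y → Y) = id := funext hcomp
    rw [this]
    exact Topology.IsInducing.id
  apply CategoryTheory.Functor.epi_of_epi_map (Scheme.forgetToLocallyRingedSpace)
  apply CategoryTheory.Functor.epi_of_epi_map (LocallyRingedSpace.forgetToSheafedSpace)
  apply SheafedSpace.epi_of_base_surjective_of_stalk_mono _ hsurj
  intro x
  have h1 : Mono ((TopCat.Presheaf.stalkFunctor _ (f.toImage x)).map f.toImage.c) :=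
    ConcreteCategory.mono_of_injective _ (f.stalkFunctor_toImage_injective _)
  have h2 := TopCat.Presheaf.stalkPushforward.stalkPushforward_iso_of_isInducing
    (C := CommRingCat) (f := f.toImage.base) hind Y.presheaf x
  change Mono ((TopCat.Presheaf.stalkFunctor _ (f.toImage x)).map f.toImage.c ≫
    Y.presheaf.stalkPushforward _ f.toImage.base x)
  haveI : Mono (Y.presheaf.stalkPushforward CommRingCat f.toImage.base x) :=
    @IsIso.mono_of_iso _ _ _ _ _ h2
  exact @mono_comp _ _ _ _ _ _ h1 _ this

end Groth.Agent.S19611
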