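import Groth.Statements.S1964
import Groth.Agent.Lib.Helper8.Hens.IntegralHens
-- import your own Groth.Agent.* helpers here

set_option autoImplicit false
universe u
open EtAlg

namespace Groth.Agent.S1964

/-- A domain B integral over a henselian local ring A is itself henselian local, and the structure map A
-> B is local; if the residue field of A is separably closed, so is that of B, and the residue field
extension is purely inseparable. -/
theorem result (A B : Type u) [CommRing A] [HenselianLocalRing A] [CommRing B]
    [IsDomain B] [Algebra A B] [Algebra.IsIntegral A B] :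
    ∃ _ : HenselianLocalRing B, IsLocalHom (algebraMap A B) ∧
      (IsSepClosed (IsLocalRing.ResidueField A) →
        IsSepClosed (IsLocalRing.ResidueField B) ∧
        ∀ _ : IsLocalHom (algebraMap A B),
          letI := (IsLocalRing.ResidueField.map (algebraMap A B)).toAlgebra
          IsPurelyInseparable (IsLocalRing.ResidueField A) (IsLocalRing.ResidueField B)) := by
  haveI hBloc : IsLocalRing B := Groth.Agent.H8.Hens.isLocalRing_of_isDomain_of_isIntegral A B
  have hB : HenselianLocalRing B := Groth.Agent.H8.Hens.henselianLocalRing_of_isIntegral A B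
  have hloc : IsLocalHom (algebraMap A B) := by
    refine ⟨fun a ha => ?_⟩
    by_contra hna
    have h1 : a ∈ IsLocalRing.maximalIdeal A := hna
    rw [← Groth.Agent.H8.Hens.comap_eq_maximalIdeal_of_isMaximal (R := A) (IsLocalRing.maximalIdeal B),
      Ideal.mem_comap] at h1
    exact h1 ha
  refine ⟨hB, hloc, ?_⟩
  intro hsep
  have halg : ∀ (_ : IsLocalHom (algebraMap A B)),
      letI := (IsLocalRing.ResidueField.map (algebraMap A B)).toAlgebra
      Algebra.IsAlgebraic (IsLocalRing.ResidueField A) (IsLocalRing.ResidueField B) := by
    intro _
    letI := (IsLocalRing.ResidueField.map (algebraMap A B)).toAlgebra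
    refine ⟨fun y => ?_⟩
    obtain ⟨b, rfl⟩ := IsLocalRing.residue_surjective y
    obtain ⟨p, hpm, hp⟩ := Algebra.IsIntegral.isIntegral (R := A) b
    refine ⟨p.map (IsLocalRing.residue A), (hpm.map _).ne_zero, ?_⟩
    rw [Polynomial.aeval_def, Polynomial.eval₂_map]
    have : (algebraMap (IsLocalRing.ResidueField A) (IsLocalRing.ResidueField B)).comp
        (IsLocalRing.residue A) = (IsLocalRing.residue B).comp (algebraMap A B) := rfl
    rw [this, ← Polynomial.hom_eval₂, hp, map_zero]
  refine ⟨?_, ?_⟩
  · letI := (IsLocalRing.ResidueField.map (algebraMap A B)).toAlgebra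
    haveI := halg hloc
    exact Algebra.IsAlgebraic.isSepClosed (F := IsLocalRing.ResidueField A)
  · intro h
    letI := (IsLocalRing.ResidueField.map (algebraMap A B)).toAlgebra
    haveI := halg h
    infer_instance

end Groth.Agent.S1964
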