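import Groth.Statements.S1965
import Groth.Agent.Lib.Helper8.Elkik.Newton1
import Groth.Agent.Lib.Helper8.HensPair.Radical
import Groth.Agent.Lib.Helper8.HensPair.Basic
-- import your own Groth.Agent.* helpers here

set_option autoImplicit false
universe u
open Polynomial
open EtAlg

namespace Groth.Agent.S1965

/-- Let A be a complete Noetherian local domain of Krull dimension 1 with maximal ideal m, P a
polynomial over A and α a root of P which is not a root of the derivative P'. Then for every c there
is an n such that for every polynomial Q all of whose coefficients lie in m^n, the polynomial P + Q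
has a root β with β - α in m^c. -/
theorem result (A : Type u) [CommRing A] [IsDomain A] [IsLocalRing A] [IsNoetherianRing A]
    [IsAdicComplete (IsLocalRing.maximalIdeal A) A] (hdim : ringKrullDim A = 1) (P : A[X]) (α : A)
    (hα : P.eval α = 0) (hα' : (derivative P).eval α ≠ 0) (c : ℕ) :
    ∃ n : ℕ, ∀ Q : A[X], (∀ i, Q.coeff i ∈ IsLocalRing.maximalIdeal A ^ n) →
      ∃ β : A, (P + Q).eval β = 0 ∧ β - α ∈ IsLocalRing.maximalIdeal A ^ c := by
  classical
  set m := IsLocalRing.maximalIdeal A with hm
  set δ₀ := (derivative P).eval α with hδ₀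
  -- a nonzero element of the maximal ideal
  have hnotfield : ¬ IsField A := by
    intro hF
    have := ringKrullDim_eq_zero_of_isField hF
    rw [hdim] at this
    exact one_ne_zero this
  have hmbot : m ≠ ⊥ := fun h => hnotfield (IsLocalRing.isField_iff_maximalIdeal_eq.mpr h)
  obtain ⟨s, hsm, hs0⟩ := Submodule.exists_mem_ne_zero_of_ne_bot hmbot
  set t := δ₀ * s with ht
  have ht0 : t ≠ 0 := mul_ne_zero hα' hs0
  have htm : t ∈ m := Ideal.mul_mem_left _ _ hsm
  haveI : HenselianRing A m := inferInstance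
  haveI : HenselianRing A (Ideal.span {t}) :=
    Groth.Agent.H8.HensPair.henselianRing_of_le ((Ideal.span_singleton_le_iff_mem _).mpr htm)
  haveI : Ring.KrullDimLE 1 A := Ring.krullDimLE_iff.mpr hdim.le
  have hrad : m ≤ (Ideal.span {t}).radical := by
    rw [Ideal.radical_eq_sInf]
    refine le_sInf ?_
    rintro p ⟨hpt, hp⟩
    have hpbot : p ≠ ⊥ := by
      rintro rfl
      exact ht0 ((Ideal.mem_bot).mp (hpt (Ideal.mem_span_singleton_self t)))
    have hpmax : p.IsMaximal := hp.isMaximal_of_ne_bot hpbot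
    rw [IsLocalRing.eq_maximalIdeal hpmax]
  obtain ⟨N, hN⟩ := Ideal.exists_pow_le_of_le_radical_of_fg hrad (IsNoetherian.noetherian m)
  set k := max 3 (c + 1) with hk
  refine ⟨N * k, fun Q hQ => ?_⟩
  have hpowk : m ^ (N * k) ≤ Ideal.span {t ^ k} := by
    rw [pow_mul, ← Ideal.span_singleton_pow]
    exact Ideal.pow_right_mono hN k
  have hpow2 : m ^ (N * k) ≤ Ideal.span {t ^ 2} := by
    refine hpowk.trans ?_
    rw [Ideal.span_singleton_le_span_singleton]
    exact pow_dvd_pow t (by omega)
  have hQα : Q.eval α ∈ m ^ (N * k) := Groth.Agent.H8.HensPair.eval_mem_of_coeff_mem hQ α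
  have hQ'α : (derivative Q).eval α ∈ m ^ (N * k) :=
    Groth.Agent.H8.HensPair.eval_mem_of_coeff_mem
      (Groth.Agent.H8.HensPair.derivative_coeff_mem hQ) α
  obtain ⟨z₀, hz₀⟩ := Ideal.mem_span_singleton'.mp (hpow2 hQ'α)
  obtain ⟨β, hβ, hβα⟩ := Groth.Agent.H8.Elkik.exists_root_of_tougeron t (P + Q) α s (z₀ * s) k
    (by omega)
    (by
      rw [derivative_add, eval_add, ← hδ₀, ← hz₀]
      ring)
    (by
      rw [eval_add, hα, zero_add]
      exact hpowk hQα)
  refine ⟨β, hβ, ?_⟩
  have h1 : Ideal.span {t ^ (k - 1)} ≤ m ^ (k - 1) := by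
    rw [Ideal.span_singleton_le_iff_mem]
    exact Ideal.pow_mem_pow htm _
  exact Ideal.pow_le_pow_right (by omega) (h1 hβα)

end Groth.Agent.S1965
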