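import Groth.Statements.S19693
import Groth.Agent.Lib.Helper6.SymSum
import Groth.Agent.Lib.Lead.QC.LocFree

set_option autoImplicit false
universe u
open CategoryTheory CategoryTheory.Limits AlgebraicGeometry Opposite
open FinCov

namespace Groth.Agent.S19693

/-- Let X be a scheme and A a quasi-coherent O_X-algebra whose underlying O_X-module is locally free of
rank d. Then the structure morphism Spec(A) → X of the relative spectrum of A is a cover of degree
d: finite, flat, locally of finite presentation and of rank d at every point of X. (This is the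
quasi-inverse direction of the equivalence between degree-d covers of X and O_X-algebras locally
free of rank d; the other direction and the identification of the direct-image algebra of Spec(A)
with A are separate statements.) -/
theorem result {X : Scheme.{u}} (A : RelSpec.QCAlg X) (d : ℕ)
    (hA : FlatMod.IsFinLocFreeOfRank d A.toModule) : FinCov.IsCover A.π d := by
  have hloc : ∀ x : X, ∃ (U : X.Opens), IsAffineOpen U ∧ x ∈ U ∧
      Nonempty (Γ(A.toModule, U) ≃ₗ[Γ(X, U)] (Fin d → Γ(X, U))) := by
    intro x
    obtain ⟨W, hxW, ⟨e⟩⟩ := hA x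
    obtain ⟨U, hU, hxU, hUW⟩ := exists_isAffineOpen_mem_and_subset (x := x) (U := W) hxW
    have hr : Set.range hU.fromSpec ⊆ Set.range W.ι := by
      rw [hU.range_fromSpec, Scheme.Opens.range_ι]; exact hUW
    have h1 := Groth.Agent.LD.QC.freeMod_of_range_subset A.toModule W.ι hU.fromSpec hr d e
    exact ⟨U, hU, hxU, (Groth.Agent.LD.QC.restrict_fromSpec_iso_freeMod_iff A.toModule hU d).mp h1⟩
  -- algebraic consequences over a good affine open
  have halg : ∀ (U : X.Opens) (_ : IsAffineOpen U),
      Nonempty (Γ(A.toModule, U) ≃ₗ[Γ(X, U)] (Fin d → Γ(X, U))) →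
      (A.str.app (Opposite.op U)).hom.Finite ∧ (A.str.app (Opposite.op U)).hom.Flat ∧
      (A.str.app (Opposite.op U)).hom.FinitePresentation ∧
      (A.str.app (Opposite.op U)).hom.finrank = fun _ => d := by
    rintro U hU ⟨e⟩
    letI : Algebra Γ(X, U) (A.presheaf.obj (Opposite.op U)) :=
      (A.str.app (Opposite.op U)).hom.toAlgebra
    let e' : (A.presheaf.obj (Opposite.op U)) ≃ₗ[Γ(X, U)] (Fin d → Γ(X, U)) :=
      { toFun := fun a => e (Groth.Agent.H6.QA.ofRing A U a)
        map_add' := fun a b => e.map_add _ _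
        map_smul' := fun r a => e.map_smul r _
        invFun := fun v => Groth.Agent.H6.QA.toRing A U (e.symm v)
        left_inv := fun a => congrArg (Groth.Agent.H6.QA.toRing A U) (e.symm_apply_apply _)
        right_inv := fun v => e.apply_symm_apply v }
    haveI : Module.Finite Γ(X, U) (A.presheaf.obj (Opposite.op U)) := Module.Finite.equiv e'.symm
    haveI : Module.Free Γ(X, U) (A.presheaf.obj (Opposite.op U)) := Module.Free.of_equiv e'.symm
    refine ⟨‹_›, inferInstanceAs (Module.Flat Γ(X, U) (A.presheaf.obj (Opposite.op U))), ?_, ?_⟩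
    · haveI : Module.FinitePresentation Γ(X, U) (A.presheaf.obj (Opposite.op U)) :=
        Module.finitePresentation_of_projective _ _
      exact (inferInstance : Algebra.FinitePresentation Γ(X, U) (A.presheaf.obj (Opposite.op U)))
    · funext p
      change Module.rankAtStalk (A.presheaf.obj (Opposite.op U)) p = d
      haveI : Nontrivial Γ(X, U) := p.nontrivial
      rw [Module.rankAtStalk_eq_of_equiv e', Module.rankAtStalk_eq_finrank_of_free]
      simp
  -- the three morphism properties
  have hprop : ∀ (P : MorphismProperty Scheme.{u}) [IsZariskiLocalAtTarget P],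
      (∀ (U : X.Opens) (hU : IsAffineOpen U),
        Nonempty (Γ(A.toModule, U) ≃ₗ[Γ(X, U)] (Fin d → Γ(X, U))) →
        P (Spec.map (A.str.app (Opposite.op U)))) → P A.π := by
    intro P _ h
    refine Groth.Agent.H6.QCLoc.of_charts (P := P) A.π
      (fun U : {U : X.affineOpens //
        Nonempty (Γ(A.toModule, U.1) ≃ₗ[Γ(X, U.1)] (Fin d → Γ(X, U.1)))} => U.1.1) ?_
      (fun U => A.ι U.1.1 U.1.2) (fun U => U.1.2.fromSpec)
      (fun U => Spec.map (A.str.app (Opposite.op U.1.1))) (fun U => A.ι_π U.1.1 U.1.2)
      (fun U => U.1.2.opensRange_fromSpec) (fun U => (A.π_preimage U.1.1 U.1.2).symm)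
      (fun U => h U.1.1 U.1.2 U.2)
    rw [eq_top_iff]
    intro x _
    obtain ⟨U, hU, hxU, he⟩ := hloc x
    exact TopologicalSpace.Opens.mem_iSup.mpr ⟨⟨⟨U, hU⟩, he⟩, hxU⟩
  have hfin : IsFinite A.π := hprop @IsFinite fun U hU he => by
    rw [IsFinite.SpecMap_iff]; exact (halg U hU he).1
  have hflat : Flat A.π := hprop @Flat fun U hU he => by
    rw [Flat.SpecMap_iff]; exact (halg U hU he).2.1
  have hfp : LocallyOfFinitePresentation A.π := hprop @LocallyOfFinitePresentation fun U hU he => by
    rw [HasRingHomProperty.Spec_iff (P := @LocallyOfFinitePresentation)]; exact (halg U hU he).2.2.1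
  refine ⟨⟨hfin, hflat, hfp⟩, fun y => ?_⟩
  obtain ⟨U, hU, hyU, he⟩ := hloc y
  obtain ⟨z, hz⟩ : y ∈ Set.range hU.fromSpec.base := by rw [hU.range_fromSpec]; exact hyU
  have hpb := Groth.Agent.H6.QCLoc.isPullback_chart A U hU
  have h1 := Scheme.Hom.finrank_of_isPullback _ _ _ _ hpb z
  rw [← hz, ← h1, Scheme.Hom.finrank_SpecMap_eq_finrank (halg U hU he).1 (halg U hU he).2.1,
    (halg U hU he).2.2.2]

end Groth.Agent.S19693
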