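import Groth.Statements.S1973
import Groth.Agent.Lib.Helper8.EtDed.E1
import Groth.Agent.Lib.Helper8.EtDed.E3
-- import your own Groth.Agent.* helpers here

set_option autoImplicit false
universe u
open EtAlg

namespace Groth.Agent.S1973

/-- Let A be a Dedekind domain and B an etale A-algebra. Then B is isomorphic as a ring to a finite
product of Dedekind domains, and for every maximal ideal q of B whose localization is not a field,
the localization B_q is a discrete valuation ring. (The source states the last claim for all maximal
ideals; it fails for field factors, e.g. A a DVR with uniformizer π and B = A[1/π], so the guard is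
needed.) -/
theorem result (A B : Type u) [CommRing A] [IsDedekindDomain A] [CommRing B] [Algebra A B]
    [Algebra.Etale A B] :
    (∃ (n : ℕ) (D : Fin n → Type u) (_ : ∀ i, CommRing (D i)) (_ : ∀ i, IsDedekindDomain (D i)),
      Nonempty (B ≃+* ∀ i, D i)) ∧
    ∀ (q : Ideal B) [q.IsMaximal], ¬ IsField (Localization.AtPrime q) →
      ∃ _ : IsDomain (Localization.AtPrime q), IsDiscreteValuationRing (Localization.AtPrime q) := by
  haveI : IsNoetherianRing B := Algebra.FiniteType.isNoetherianRing A B
  have hN := Groth.Agent.H8.EtDed.normalLoc A B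
  have hdim : ∀ (q : Ideal B) [q.IsPrime], q ∈ minimalPrimes B ∨ q.IsMaximal :=
    fun q _ => Groth.Agent.H8.EtDed.mem_minimalPrimes_or_isMaximal A B q
  refine ⟨?_, fun q hq hf => ?_⟩
  · obtain ⟨n, P, hP, ⟨e⟩⟩ := Groth.Agent.H8.EtDed.exists_equiv_pi_quotient hN
    exact ⟨n, fun i => B ⧸ P i, fun i => inferInstance,
      fun i => (Groth.Agent.H8.EtDed.isDedekindDomain_quotient hN hdim (hP i)).2, ⟨e⟩⟩
  · haveI := hq.isPrime
    exact Groth.Agent.H8.EtDed.isDVR_localization hN hdim q hf

end Groth.Agent.S1973
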