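import Groth.Statements.S1974
import Mathlib
import Groth.Agent.H4.WEtSep

set_option autoImplicit false
universe u
open EtAlg

namespace Groth.Agent.S1974

open TensorProduct Polynomial
open Groth.Agent.H4.WEtSep



/-- Let A -> B be weakly etale and q a prime of B lying over the prime p of A. Then the residue field of
q is a separable algebraic extension of the residue field of p. -/
theorem result (A B : Type u) [CommRing A] [CommRing B] [Algebra A B]
    [Algebra.WeaklyEtale A B] (p : Ideal A) [p.IsPrime] (q : Ideal B) [q.IsPrime] [q.LiesOver p]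
    [Algebra (Localization.AtPrime p) (Localization.AtPrime q)] [Localization.AtPrime.IsLiesOverAlgebra p q] :
    Algebra.IsSeparable p.ResidueField q.ResidueField := by
  let ψ : p.ResidueField ⊗[A] B →ₐ[p.ResidueField] q.ResidueField :=
    Algebra.TensorProduct.lift (Algebra.ofId _ _) (IsScalarTower.toAlgHom A B q.ResidueField)
      (fun _ _ => Commute.all _ _)
  have hB : ∀ b : B, IsSeparable p.ResidueField (algebraMap B q.ResidueField b) := by
    intro b
    have h1 : IsSeparable p.ResidueField ((1 : p.ResidueField) ⊗ₜ[A] b) :=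
      isSeparable_of_wet (Algebra.WeaklyEtale.flat_lmul' p.ResidueField (p.ResidueField ⊗[A] B)) _
    have h2 := isSeparable_map ψ h1
    have h3 : ψ ((1 : p.ResidueField) ⊗ₜ[A] b) = algebraMap B q.ResidueField b := by
      simp [ψ]
    rwa [h3] at h2
  refine ⟨fun x => ?_⟩
  obtain ⟨a, c, hc, rfl⟩ := IsFractionRing.div_surjective (A := B ⧸ q) x
  obtain ⟨a, rfl⟩ := Ideal.Quotient.mk_surjective a
  obtain ⟨c, rfl⟩ := Ideal.Quotient.mk_surjective c
  have e1 : ∀ b : B, algebraMap (B ⧸ q) q.ResidueField (Ideal.Quotient.mk q b) =
      algebraMap B q.ResidueField b := fun b => rfl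
  rw [e1, e1, ← mem_separableClosure_iff]
  exact div_mem (mem_separableClosure_iff.mpr (hB a)) (mem_separableClosure_iff.mpr (hB c))


end Groth.Agent.S1974
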