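import Groth.Statements.S1976
import Mathlib
import Groth.Agent.H4.IndEtElems
import Groth.Agent.H4.FGColim
import Groth.Agent.Lib.Helper1.WeaklyEtale

set_option autoImplicit false
universe u
open CategoryTheory
open EtAlg

namespace Groth.Agent.S1976

open CategoryTheory CategoryTheory.Limits
open Groth.Agent.H4.FGColim


open Groth.Agent.H4.WEtSep Groth.Agent.H4.IndEtElems in

/-- (2) ⇔ (3): a K-algebra B over a field K is weakly etale exactly when it can be written as a filtered
colimit of etale K-algebras, and in that case its finitely generated K-subalgebras are etale. -/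
theorem result (K : Type u) [Field K] (B : Type u) [CommRing B] [Algebra K B] :
    (Algebra.WeaklyEtale K B ↔ EtPBC.IsIndEtale K B) ∧
    (Algebra.WeaklyEtale K B → ∀ S : Subalgebra K B, S.FG → Algebra.Etale K S) := by
  have part2 : Algebra.WeaklyEtale K B → ∀ S : Subalgebra K B, S.FG → Algebra.Etale K S := by
    intro hB S hS
    haveI : Algebra.WeaklyEtale K S := (weaklyEtale_subalgebra_iff S).mpr (fun x _ =>
      isSeparable_of_wet (Algebra.WeaklyEtale.flat_lmul' K B) x)
    haveI : Algebra.FiniteType K S := (Subalgebra.fg_iff_finiteType S).mp hS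
    haveI : Algebra.FinitePresentation K S := Algebra.FinitePresentation.of_finiteType.mp inferInstance
    haveI : Algebra.FormallyUnramified K S := ⟨by
      let F := (Algebra.TensorProduct.lmul' K (S := S)).toRingHom
      exact Groth.Agent.H1.subsingleton_cotangent_ker_of_flat F
        (fun x => ⟨x ⊗ₜ 1, by simp [F]⟩) (Algebra.WeaklyEtale.flat_lmul' K S)⟩
    haveI : Algebra.FormallyEtale K S := Algebra.FormallyEtale.of_formallyUnramified_of_field K S
    exact {}
  refine ⟨⟨fun hB => ?_, fun h => weaklyEtale_of_isIndEtale K B h⟩, part2⟩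
  refine ⟨JFG K B, inferInstance, inferInstance, D K B, cc K B, isCol, ?_, ⟨Iso.refl _⟩⟩
  intro j
  have h := part2 hB j.1 j.2
  have halg : ((D K B).obj j).hom.hom.toAlgebra = (inferInstance : Algebra K j.1) :=
    Algebra.algebra_ext _ _ (fun r => rfl)
  show @Algebra.Etale K j.1 _ _ ((D K B).obj j).hom.hom.toAlgebra
  rw [halg]
  exact h


end Groth.Agent.S1976
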