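import Groth.Statements.S19763
import Groth.Agent.Lib.Helper6.SegPolyShift

set_option autoImplicit false
universe u
open scoped TensorProduct
attribute [local instance] MvPolynomial.weightedGradedAlgebra
open GrSegre

namespace Groth.Agent.S19763

/-- Let R = k[X_1, …, X_r] and S = k[Y_1, …, Y_s] be polynomial rings over a field k with every variable
of degree 1, r ≥ 2 and s ≥ 2, T = R # S, and M = R(a), N = S(b) for integers a, b. Then (a) M # N is
a Cohen–Macaulay T-module if and only if s > a − b > −r; (b) if a − b ≥ s then depth (M # N) = s;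
(c) if a − b ≤ −r then depth (M # N) = r. Here the polynomial rings carry the standard grading by
k-subspaces of homogeneous polynomials (indexed by ℤ, all variables of weight 1); the Segre product
T = R # S = ⊕_n R_n ⊗_k S_n is presented abstractly as a graded k-algebra T with an injective
k-algebra homomorphism ψ : T → R ⊗_k S carrying T_n onto the k-span of the elementary tensors of
bidegree (n, n), T_+ is the ideal spanned by the T_n with n > 0, and R(a) # S(b) = ⊕_n R_{n+a} ⊗_k
S_{n+b} is presented abstractly as a graded T-module P with an injective k-linear map φ : P → R ⊗_k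
S carrying P_n onto the k-span of the tensors x ⊗ y with x ∈ R_{n+a}, y ∈ S_{n+b} and turning the
action of t ∈ T into that of ψ(t); a module over a ring is called Cohen–Macaulay when each of its
localizations at a prime ideal is zero or a Cohen–Macaulay module over the local ring (dimension of
the support equal to the depth), and the dimension of a module is the Krull dimension of its
support; the depth of P is its grade with respect to T_+ (the common length of the maximal P-regular
sequences in T_+). -/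
theorem result (k : Type u) [Field k] (r s : ℕ) (h2r : 2 ≤ r) (h2s : 2 ≤ s) (T : Type u) [CommRing T] [Algebra k T] (𝒯 : ℤ → Submodule k T) [GradedAlgebra 𝒯] (ψ : T →ₐ[k] TensorProduct k (MvPolynomial (Fin r) k) (MvPolynomial (Fin s) k)) (hT : GrSeg.IsSegreRing (MvPolynomial.weightedHomogeneousSubmodule k (fun _ : Fin r => (1 : ℤ))) (MvPolynomial.weightedHomogeneousSubmodule k (fun _ : Fin s => (1 : ℤ))) 𝒯 ψ) (mT : HomogeneousIdeal 𝒯) (hmT : mT.toIdeal = Ideal.span (⋃ n ∈ Set.Ioi (0 : ℤ), (𝒯 n : Set T))) (a b : ℤ) (P : Type u) [AddCommGroup P] [Module T P] [Module k P] [IsScalarTower k T P] (𝒬 : ℤ → AddSubgroup P) [DirectSum.Decomposition 𝒬] (φ : P →ₗ[k] TensorProduct k (MvPolynomial (Fin r) k) (MvPolynomial (Fin s) k)) (hP : GrSeg.IsSegreMod ψ (fun n : ℤ => (MvPolynomial.weightedHomogeneousSubmodule k (fun _ : Fin r => (1 : ℤ))) (n + a)) (fun n : ℤ => (MvPolynomial.weightedHomogeneousSubmodule k (fun _ : Fin s => (1 : ℤ))) (n + b)) 𝒬 φ) : ((∀ (q : Ideal T) [q.IsPrime], Subsingleton (LocalizedModule q.primeCompl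 P) ∨ LocCoh.IsCohenMacaulayModule (Localization.AtPrime q) (LocalizedModule q.primeCompl P)) ↔ (a - b < (s : ℤ) ∧ -(r : ℤ) < a - b)) ∧ ((s : ℤ) ≤ a - b → LocCoh.idealDepth mT.toIdeal P = (s : ℕ∞)) ∧ (a - b ≤ -(r : ℤ) → LocCoh.idealDepth mT.toIdeal P = (r : ℕ∞)) := by
  obtain ⟨NZ, hNZ, hcm, hdepth⟩ := Groth.Agent.H6.Seg.poly_shift k r s (by omega) (by omega) T 𝒯 ψ
    hT mT hmT a b P 𝒬 φ hP
  have h3 : NZ (r + s - 1) (min (-a - r) (-b - s)) :=
    (hNZ _ _).mpr (Or.inr (Or.inr ⟨by omega, by omega, by omega⟩))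
  refine ⟨?_, ?_, ?_⟩
  · rw [hcm]
    constructor
    · rintro ⟨q, ⟨d, hd⟩, huniq⟩
      have hq := huniq _ ⟨_, h3⟩
      constructor
      · by_contra h
        have h1 : NZ s (-a) := (hNZ _ _).mpr (Or.inl ⟨by omega, rfl, by omega⟩)
        have := huniq _ ⟨_, h1⟩
        omega
      · by_contra h
        have h2 : NZ r (-b) := (hNZ _ _).mpr (Or.inr (Or.inl ⟨rfl, by omega, by omega⟩))
        have := huniq _ ⟨_, h2⟩
        omega
    · rintro ⟨h1, h2⟩
      refine ⟨r + s - 1, ⟨_, h3⟩, ?_⟩
      rintro q ⟨d, hd⟩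
      rw [hNZ] at hd
      omega
  · intro h
    rw [hdepth s]
    refine ⟨fun i hi d hd => ?_, -a, (hNZ _ _).mpr (Or.inl ⟨by omega, rfl, by omega⟩)⟩
    rw [hNZ] at hd
    omega
  · intro h
    rw [hdepth r]
    refine ⟨fun i hi d hd => ?_, -b, (hNZ _ _).mpr (Or.inr (Or.inl ⟨rfl, by omega, by omega⟩))⟩
    rw [hNZ] at hd
    omega

end Groth.Agent.S19763
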