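import Groth.Statements.S19801
import Groth.Agent.Lib.Helper5.IntN.Gro2

set_option autoImplicit false
universe u
open CategoryTheory CategoryTheory.Limits AlgebraicGeometry Asymptotics
open Variety

namespace Groth.Agent.S19801

/-- Let X be a projective variety of dimension d over a field k, i.e. a geometrically integral scheme
proper over k admitting an ample invertible module, with dim X = d; let L be an invertible
O_X-module and F a coherent O_X-module. Then dim_k H^0(X, F ⊗ L^m) = O(m^d) as m → ∞. -/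
theorem result (k : Type u) [Field k] (X : Scheme.{u})
    [X.Over (Spec (CommRingCat.of k))] [IsIntegral X] [GeometricallyIntegral (X ↘ Spec (CommRingCat.of k))]
    [IsProper (X ↘ Spec (CommRingCat.of k))] (hproj : ∃ A : X.Modules, CohB1.IsAmple A)
    (d : ℕ) (hd : topologicalKrullDim X = d) (L : X.Modules) (hL : PicF.IsInvertible L)
    (F : X.Modules) (hF : Coh.IsCoh F) :
    (fun m : ℕ => (Module.finrank k (Coh.HH X (CohB1.tensorMod F (CohB1.tensorPow L m)) 0) : ℝ)) =O[Filter.atTop]
      (fun m : ℕ => (m : ℝ) ^ d) := by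
  obtain ⟨A, hA⟩ := hproj
  have hdim : topologicalKrullDim (CohB1.support F) < ((d + 1 : ℕ) : WithBot ℕ∞) :=
    Groth.Agent.H5.Snap.lt_succ_coe_of_le
      (le_trans Topology.IsInducing.subtypeVal.topologicalKrullDim_le (le_of_eq hd))
  have hLs : ∀ P ∈ [L], PicF.IsInvertible P := by
    intro P hP
    rw [List.mem_singleton] at hP
    exact hP ▸ hL
  obtain ⟨C, hC⟩ := Groth.Agent.H5.IntN.word_growth k (d + 1) X A hA F hF hdim [L] hLs 0
  rw [Asymptotics.isBigO_iff]
  refine ⟨(C : ℝ) * 2 ^ d, ?_⟩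
  filter_upwards [Filter.eventually_ge_atTop 1] with m hm
  have h1 := hC m _ (Groth.Agent.H5.IntN.isWord_tensorPow_singleton hL m)
  rw [Real.norm_of_nonneg (Nat.cast_nonneg _), Real.norm_of_nonneg (by positivity)]
  have h2 : (1 + m) ^ d ≤ 2 ^ d * m ^ d := by
    rw [← Nat.mul_pow]
    exact Nat.pow_le_pow_left (by omega) d
  have h3 : Groth.Agent.H5.IntN.bnd (d + 1) m = (1 + m) ^ d := rfl
  rw [h3] at h1
  have h4 : Module.finrank k (Coh.HH X (CohB1.tensorMod F (CohB1.tensorPow L m)) 0) ≤
      C * (2 ^ d * m ^ d) := h1.trans (Nat.mul_le_mul_left C h2)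
  have h5 : ((Module.finrank k (Coh.HH X (CohB1.tensorMod F (CohB1.tensorPow L m)) 0) : ℕ) : ℝ) ≤
      ((C * (2 ^ d * m ^ d) : ℕ) : ℝ) := by exact_mod_cast h4
  refine h5.trans (le_of_eq ?_)
  push_cast
  ring

end Groth.Agent.S19801
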