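import Groth.Statements.S19855
import Groth.Agent.Lib.Helper2.DRLinG
import Groth.Agent.Lib.Helper2.DRProj
import Groth.Agent.S15531

set_option autoImplicit false
universe u
open DeRhamSh

namespace Groth.Agent.S19855

open CategoryTheory AlgebraicGeometry TopologicalSpace in
/-- Let A be a ring, n ≥ 1, and D a de Rham complex of the sheaf of differentials of projective n-space
P^n_A over Spec A whose differentials are A-linear, A acting through the structure map. Then for
every i with 0 ≤ i ≤ n the algebraic de Rham cohomology H^{2i}_dR(P^n_A/A) = H^{2i}(P^n_A, D), with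
its A-module structure, is a free A-module of rank one: there is an A-linear isomorphism with A.
(Existence of an A-linear isomorphism only: the published statement names the basis element, the
i-th cup power of the de Rham first Chern class of O(1), which is not expressed here; the vanishing
in the other degrees is a separate statement. The A-linearity of the differentials holds for the de
Rham complex and is carried as a hypothesis.) -/
theorem result (A : Type u) [CommRing A] (n : ℕ) (hn : 1 ≤ n)
    [QuasiSeparated (CohB1.ProjSpace.toSpec n A)] (D : DeRhamSh.OmegaCx (CohB1.ProjSpace.toSpec n A))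
    (h : KLinDR.TermwiseLinear (Coh.toGlobal (CohB1.ProjSpace.toSpec n A)) D.K D.term D.iso)
    [HasDerivedCategory.{u} (Sheaf (Opens.grothendieckTopology ↥(CohB1.ProjSpace n A)) AddCommGrpCat.{u})]
    (i : ℕ) (hi : i ≤ n) :
    Nonempty (KLinDR.HdR (Coh.toGlobal (CohB1.ProjSpace.toSpec n A)) D h (2 * (i : ℤ)) ≃ₗ[A] A) := by
  obtain ⟨e, he⟩ := Groth.Agent.H2.DRL.exists_HdR_equiv D h (2 * (i : ℤ)) n
    (Groth.Agent.H2.DRS.isZero_term_proj A n D) i i hi (by ring)
    (fun p q hp hpi hpq => Groth.Agent.H2.Bott.subsingleton_HH_extPow (n := n) (R := A)
      (D.term p) (D.isExtPow p) hn q (Or.inl (by omega)))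
    (fun p q hp1 hp2 hpq => Groth.Agent.H2.Bott.subsingleton_HH_extPow (n := n) (R := A)
      (D.term p) (D.isExtPow p) hn q (Or.inl (by omega)))
    (fun p q hp1 hpq => Groth.Agent.H2.Bott.subsingleton_HH_extPow (n := n) (R := A)
      (D.term p) (D.isExtPow p) hn q (Or.inl (by omega)))
  obtain ⟨e'⟩ := Groth.Agent.S15531.result A n hn i hi (D.term i) (D.isExtPow i)
  refine ⟨{ toFun := fun x => e' (e x)
            invFun := fun y => e.symm (e'.symm y)
            left_inv := fun x => by simp
            right_inv := fun y => by simp
            map_add' := fun x y => by rw [map_add, map_add]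
            map_smul' := fun a x => ?_ }⟩
  change e' (e (a • x)) = a • e' (e x)
  rw [he, ← e'.map_smul]
  rfl

end Groth.Agent.S19855
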