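import Groth.Statements.S19880
import Groth.Agent.Lib.Helper5.SD.SepPts

set_option autoImplicit false
universe u
open CategoryTheory CategoryTheory.Limits AlgebraicGeometry
open JacVar

namespace Groth.Agent.S19880



/-- Let k be a separably closed field, C a smooth proper geometrically connected curve of genus g > 0
over k with a k-rational point, and r > 2g an integer. Then for every effective divisor D of degree
r on C there is an (r − g)-tuple γ = (P_1, …, P_{r−g}) of k-rational points of C with h⁰(D − P_1 − ⋯
− P_{r−g}) = 1; since every invertible module L of degree r > 2g − 2 is of the form O(D) with D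
effective, this is stated as: for every invertible module L of degree r on C there are k-rational
points P_1, …, P_{r−g} with h⁰(C, L ⊗ I_{P_1} ⊗ ⋯ ⊗ I_{P_{r−g}}) = 1. (In the source this is the
statement that the symmetric power C^(r) is the union of the open pieces C^γ.) -/
theorem result (k : Type u) [Field k] [IsSepClosed k]
    (C : Scheme.{u}) [C.Over (Spec (CommRingCat.of k))]
    [IsProper (C ↘ Spec (CommRingCat.of k))] [Smooth (C ↘ Spec (CommRingCat.of k))] [GeometricallyConnected (C ↘ Spec (CommRingCat.of k))]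
    (hdim : topologicalKrullDim ↥C = 1)
    (g : ℕ) (hg : Curv2.genus k C = g) (hg0 : 0 < g)
    (σ₀ : Spec (CommRingCat.of k) ⟶ C) (hσ₀ : σ₀ ≫ (C ↘ Spec (CommRingCat.of k)) = 𝟙 _)
    (r : ℕ) (hr : 2 * g < r)
    (L : C.Modules) (hL : PicF.IsInvertible L) (hLdeg : Curv2.deg k C L 1 = (r : ℤ)) :
    ∃ σ : Fin (r - g) → (Spec (CommRingCat.of k) ⟶ C), (∀ t, σ t ≫ (C ↘ Spec (CommRingCat.of k)) = 𝟙 _) ∧
      Module.finrank k (Coh.HH C (CohB1.tensorMod L (FGA.tensorList (List.ofFn fun t : Fin (r - g) =>
        ClSub.idealMod (σ t).ker))) 0) = 1 := by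
  haveI : IsIntegral C := Groth.Agent.H5.Curve4.isIntegral_of_smooth_geomConn k C
  haveI : GeometricallyReduced (C ↘ Spec (CommRingCat.of k)) :=
    Groth.Agent.H5.Gro.geometricallyReduced_of_smooth k _
  have h0 : Module.finrank k (Coh.HH C (Coh.structureModule C) 0) = 1 :=
    Groth.Agent.LD.FF.finrank_HH0_eq_one k C
  have hreg : ∀ x : C, IsRegularLocalRing (C.presheaf.stalk x) :=
    fun x => Groth.Agent.H5.Curve4.regular_stalks k C x
  have hh := Groth.Agent.H5.SD.finrank_H0_of_deg_gt k C hdim h0 L hL
    (by rw [hg, hLdeg]; push_cast; omega)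
  rw [hg, hLdeg] at hh
  have hn : Module.finrank k (Coh.HH C L 0) = (r - g) + 1 := by
    have : (Module.finrank k (Coh.HH C L 0) : ℤ) = ((r - g : ℕ) : ℤ) + 1 := by
      rw [hh, Nat.cast_sub (by omega)]
      ring
    exact_mod_cast this
  exact Groth.Agent.H5.SD.exists_points_h0_eq_one k C hdim hreg (r - g) L hL hn

end Groth.Agent.S19880
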