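import Groth.Statements.S19881
import Groth.Agent.Lib.Helper6.AInvPoly3
import Groth.Agent.Lib.Helper6.AInvPoly4

set_option autoImplicit false
universe u
open GrLC

namespace Groth.Agent.S19881

/-- Let R = ⊕_{n ≥ 0} R_n be a (Noetherian) positively ℤ-graded ring which is standard graded
(irrelevant ideal generated by R_1), with R_0 Artinian, *local with unique homogeneous maximal ideal
m, Cohen–Macaulay of Krull dimension d, and with infinite residue field R/m. If the a-invariant of R
equals −d, i.e. the end (largest nonzero degree) of the graded local cohomology module H^d_m(R),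
computed from any *injective resolution of R in the graded category, is −d, then R is a polynomial
ring over R_0 in d variables of degree one: there is an R_0-algebra isomorphism R_0[T_1, …, T_d] ≅ R
mapping every variable into R_1. (The published statement asserts the equivalence of a(R) = −d with
R ≅ R_0[T_1, …, T_d] without the residue-field hypothesis; its argument treats the case of an
infinite residue field, which is the case stated here, and only the forward implication is stated.) -/
theorem result (R : Type u) [CommRing R]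
    [LocCoh.IsCohenMacaulayRing R] (𝒜 : ℤ → AddSubgroup R) [GradedRing 𝒜]
    (hpos : ∀ n : ℤ, n < 0 → 𝒜 n = ⊥)
    (hstd : Ideal.span (⋃ n ∈ Set.Ioi (0 : ℤ), (𝒜 n : Set R)) = Ideal.span ((𝒜 1 : AddSubgroup R) : Set R))
    [IsArtinianRing (GrLC.deg0 𝒜)] (m : HomogeneousIdeal 𝒜) (hm : GrLC.IsStarLocal 𝒜 m)
    (hinf : Infinite (R ⧸ m.toIdeal)) (d : ℕ) (hd : ringKrullDim R = d) (I : GrLC.StarInjRes 𝒜 𝒜)
    (ha : GrLC.endDeg (I.Hgr m d) = (((-(d : ℤ) : ℤ) : WithTop ℤ) : WithBot (WithTop ℤ))) :
    ∃ e : MvPolynomial (Fin d) (GrLC.deg0 𝒜) ≃ₐ[GrLC.deg0 𝒜] R, ∀ t : Fin d, e (MvPolynomial.X t) ∈ 𝒜 1 := by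
  haveI hmax : m.toIdeal.IsMaximal := Groth.Agent.H6.Gr.isMaximal_of_isCoatom hpos m hm.1
  have hle : m.toIdeal.height ≤ ((d : ℕ) : ℕ∞) := by
    have h1 := Ideal.height_le_ringKrullDim_of_ne_top hmax.ne_top
    rw [hd] at h1
    exact_mod_cast h1
  obtain ⟨h, hh⟩ : ∃ h : ℕ, m.toIdeal.height = h :=
    ⟨m.toIdeal.height.toNat, (ENat.natCast_toNat (ne_top_of_le_ne_top (ENat.natCast_ne_top _) hle)).symm⟩
  have hvanR : ∀ j, j ≠ h → Subsingleton (I.H m j) := by
    intro j hj
    obtain ⟨e⟩ := Groth.Agent.H6.Gr.nonempty_H_equiv 𝒜 𝒜 I m j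
    haveI := Groth.Agent.H6.MaxLoc.cm_vanish m.toIdeal h hh j hj
    exact e.toEquiv.subsingleton
  have hdh : d = h := by
    by_contra hne
    have h1 := Groth.Agent.H6.AInv.endDeg_eq_bot_of_subsingleton I m d (hvanR d hne)
    rw [h1] at ha
    exact WithBot.bot_ne_coe ha
  subst hdh
  obtain ⟨rs, hlen, hrs1, hrsreg⟩ := Groth.Agent.H6.AInvPoly.exists_deg1_seq 𝒜 hpos m hm hstd d R 𝒜 I
    (fun j hj => hvanR j (ne_of_lt hj))
  let f : Fin d → R := fun i => rs.get (i.cast hlen.symm)
  have hf : List.ofFn f = rs := by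
    apply List.ext_get
    · rw [List.length_ofFn, hlen]
    · intro n h1 h2
      simp [f]
  have hf1 : ∀ i, f i ∈ 𝒜 1 := fun i => hrs1 _ (List.get_mem _ _)
  have hreg : RingTheory.Sequence.IsWeaklyRegular R (List.ofFn f) := by rw [hf]; exact hrsreg
  have hgen := Groth.Agent.H6.AInvPoly.piece_le_span 𝒜 hpos m hm d hd f hf1 hreg I ha
  exact Groth.Agent.H6.AInvPoly.exists_algEquiv 𝒜 hpos f hf1 hgen hreg

end Groth.Agent.S19881
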