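import Groth.Statements.S1989
import Groth.Agent.Lib.Helper8.ASK.RamTower
-- import your own Groth.Agent.* helpers here

set_option autoImplicit false
universe u
open EtAlg

namespace Groth.Agent.S1989

/-- Let K be the fraction field of a discrete valuation ring A, and K ⊂ L ⊂ M finite separable
extensions. If M is tamely ramified, respectively unramified, with respect to A, then so is L. -/
theorem result (A K : Type u) [CommRing A] [IsDomain A] [IsDiscreteValuationRing A] [Field K] [Algebra A K] [IsFractionRing A K] (L M : Type u) [Field L] [Field M]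
    [Algebra K L] [Algebra K M] [Algebra L M] [IsScalarTower K L M] [FiniteDimensional K M] [Algebra.IsSeparable K M] :
    (EtRam.IsTamelyRamified A ((algebraMap K M).comp (algebraMap A K)) →
      EtRam.IsTamelyRamified A ((algebraMap K L).comp (algebraMap A K))) ∧
    (EtRam.IsUnramifiedExt A ((algebraMap K M).comp (algebraMap A K)) →
      EtRam.IsUnramifiedExt A ((algebraMap K L).comp (algebraMap A K))) := by
  have hcomp : (algebraMap L M).comp ((algebraMap K L).comp (algebraMap A K)) =
      (algebraMap K M).comp (algebraMap A K) := by
    apply RingHom.ext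
    intro a
    simp only [RingHom.comp_apply]
    exact (IsScalarTower.algebraMap_apply K L M _).symm
  obtain ⟨π, hπirr⟩ := IsDiscreteValuationRing.exists_irreducible A
  have hπ : IsLocalRing.maximalIdeal A = Ideal.span {π} :=
    (IsDiscreteValuationRing.irreducible_iff_uniformizer π).mp hπirr
  have hgπ : ((algebraMap K L).comp (algebraMap A K)) π ≠ 0 := by
    have hπ0 : π ≠ 0 := hπirr.ne_zero
    show algebraMap K L (algebraMap A K π) ≠ 0
    rw [Ne, map_eq_zero_iff _ (algebraMap K L).injective,
      map_eq_zero_iff _ (IsFractionRing.injective A K)]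
    exact hπ0
  rw [← hcomp]
  exact ⟨Groth.Agent.H8.RI.tame_sub _ _ π hπ hgπ, Groth.Agent.H8.RI.unram_sub _ _ π hπ hgπ⟩

end Groth.Agent.S1989
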