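import Groth.Statements.S19891
import Groth.Agent.Lib.Helper6.DenseSpec
import Groth.Agent.S4447

set_option autoImplicit false
universe u
open CategoryTheory AlgebraicGeometry
open ValCrit

namespace Groth.Agent.S19891

/-- Let h : Z → Y and f : Y → X be morphisms of quasi-compact quasi-separated schemes, with h dominant.
Then f is separated if and only if the following refined uniqueness criterion holds: for every point
z of Z, every valuation ring R of the residue field κ(z) and every morphism φ : Spec R → X whose
restriction to Spec κ(z) is the canonical morphism Spec κ(z) → Z → Y → X, any two morphisms Spec R →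
Y lying over φ and restricting to Spec κ(z) → Z → Y on the generic point coincide. (The published
statement does not require h to be dominant; its proof uses that every point of Y generalises to a
point of h(Z), and for Z empty the criterion holds whatever f is, so dominance of h is assumed
here.) -/
theorem result {X Y Z : Scheme.{u}} (h : Z ⟶ Y) (f : Y ⟶ X)
    [CompactSpace ↥Z] [QuasiSeparatedSpace ↥Z] [CompactSpace ↥Y] [QuasiSeparatedSpace ↥Y]
    [CompactSpace ↥X] [QuasiSeparatedSpace ↥X] (hd : DenseRange h.base) :
    IsSeparated f ↔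
      ∀ (z : ↥Z) (R : ValuationSubring ↑(Z.residueField z)) (φ : Spec (CommRingCat.of ↥R) ⟶ X),
        Spec.map (CommRingCat.ofHom R.subtype) ≫ φ = Z.fromSpecResidueField z ≫ h ≫ f →
        ∀ φ₁ φ₂ : Spec (CommRingCat.of ↥R) ⟶ Y,
          Spec.map (CommRingCat.ofHom R.subtype) ≫ φ₁ = Z.fromSpecResidueField z ≫ h → φ₁ ≫ f = φ →
          Spec.map (CommRingCat.ofHom R.subtype) ≫ φ₂ = Z.fromSpecResidueField z ≫ h → φ₂ ≫ f = φ →
          φ₁ = φ₂ := by
  classical
  constructor
  · intro hsep z R φ hφ φ₁ φ₂ h₁ h₁' h₂ h₂'
    have w : (Z.fromSpecResidueField z ≫ h) ≫ f =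
        Spec.map (CommRingCat.ofHom (algebraMap ↥R ↑(Z.residueField z))) ≫ φ := by
      rw [Category.assoc]; exact hφ.symm
    let Sq : ValuativeCommSq f :=
      { R := ↥R, K := ↑(Z.residueField z), i₁ := Z.fromSpecResidueField z ≫ h, i₂ := φ,
        commSq := ⟨w⟩ }
    have hsub : Subsingleton Sq.commSq.LiftStruct := IsSeparated.valuativeCriterion f Sq
    have := Subsingleton.elim (⟨φ₁, h₁, h₁'⟩ : Sq.commSq.LiftStruct) ⟨φ₂, h₂, h₂'⟩
    exact congrArg CommSq.LiftStruct.l this
  · intro H
    haveI : QuasiSeparated f := inferInstance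
    haveI : QuasiCompact h := inferInstance
    let Δ := Limits.pullback.diagonal f
    haveI : QuasiCompact Δ := QuasiSeparated.quasiCompact_diagonal
    have hspec : SpecializingMap Δ.base := by
      intro y w hyw
      -- it suffices to show that `w` lies in the range of the diagonal
      suffices hw : ∃ y' : Y, Δ.base y' = w by
        obtain ⟨y', rfl⟩ := hw
        refine ⟨y', ?_, rfl⟩
        have h1 := hyw.map (Limits.pullback.fst f f).continuous
        have e : ∀ t : Y, (Limits.pullback.fst f f).base (Δ.base t) = t := fun t => by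
          rw [← Scheme.Hom.comp_apply, Limits.pullback.diagonal_fst]; rfl
        rwa [e, e] at h1
      obtain ⟨z, hz⟩ := Groth.Agent.H6.DenseSpec.exists_specializes_of_denseRange h hd y
      have hzw : (h ≫ Δ).base z ⤳ w := by
        rw [Scheme.Hom.comp_apply]
        exact (hz.map Δ.continuous).trans hyw
      by_cases hne : w = (h ≫ Δ).base z
      · exact ⟨h.base z, by rw [hne, Scheme.Hom.comp_apply]⟩
      · obtain ⟨A, ψ, -, hψcl, hψ⟩ := Groth.Agent.S4447.result (h ≫ Δ) z w hzw hne
        have e1 : Spec.map (CommRingCat.ofHom A.subtype) ≫ (ψ ≫ Limits.pullback.fst f f) =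
            Z.fromSpecResidueField z ≫ h := by
          rw [← Category.assoc, hψ, Category.assoc, Category.assoc, Limits.pullback.diagonal_fst,
            Category.comp_id]
        have e2 : Spec.map (CommRingCat.ofHom A.subtype) ≫ (ψ ≫ Limits.pullback.snd f f) =
            Z.fromSpecResidueField z ≫ h := by
          rw [← Category.assoc, hψ, Category.assoc, Category.assoc, Limits.pullback.diagonal_snd,
            Category.comp_id]
        have e0 : Spec.map (CommRingCat.ofHom A.subtype) ≫ (ψ ≫ Limits.pullback.fst f f ≫ f) =
            Z.fromSpecResidueField z ≫ h ≫ f := by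
          rw [← Category.assoc ψ, ← Category.assoc, e1, Category.assoc]
        have e3 : (ψ ≫ Limits.pullback.snd f f) ≫ f = ψ ≫ Limits.pullback.fst f f ≫ f := by
          rw [Category.assoc, Limits.pullback.condition]
        have heq := H z A (ψ ≫ Limits.pullback.fst f f ≫ f) e0 (ψ ≫ Limits.pullback.fst f f) (ψ ≫ Limits.pullback.snd f f)
          e1 (Category.assoc _ _ _) e2 e3
        have hψΔ : ψ = (ψ ≫ Limits.pullback.fst f f) ≫ Δ := by
          apply Limits.pullback.hom_ext
          · rw [Category.assoc, Limits.pullback.diagonal_fst, Category.comp_id]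
          · rw [Category.assoc, Limits.pullback.diagonal_snd, Category.comp_id, heq]
        refine ⟨(ψ ≫ Limits.pullback.fst f f).base (IsLocalRing.closedPoint A), ?_⟩
        rw [← Scheme.Hom.comp_apply, ← hψΔ, hψcl]
    have hclosed : IsClosedMap Δ.base := (isClosedMap_iff_specializingMap Δ).2 hspec
    exact ⟨IsClosedImmersion.of_isPreimmersion _ hclosed.isClosed_range⟩

end Groth.Agent.S19891
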