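import Groth.Statements.S19892
import Groth.Agent.Lib.Helper6.VC3
import Groth.Agent.S19891

set_option autoImplicit false
universe u
open CategoryTheory AlgebraicGeometry
open ValCrit

namespace Groth.Agent.S19892

/-- Let h : Z → Y and f : Y → X be morphisms of quasi-compact quasi-separated schemes, with h dominant
and f locally of finite type. Then f is proper if and only if the following refined valuative
criterion holds: for every point z of Z, every valuation ring R of the residue field κ(z) and every
morphism φ : Spec R → X whose restriction to Spec κ(z) is the canonical morphism Spec κ(z) → Z → Y →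
X, there is exactly one morphism Spec R → Y lying over φ and restricting to Spec κ(z) → Z → Y on the
generic point. (The published statement does not require h to be dominant; its proof uses that every
point of Y generalises to a point of h(Z), and for Z empty the criterion holds whatever f is, so
dominance of h is assumed here.) -/
theorem result {X Y Z : Scheme.{u}} (h : Z ⟶ Y) (f : Y ⟶ X)
    [CompactSpace ↥Z] [QuasiSeparatedSpace ↥Z] [CompactSpace ↥Y] [QuasiSeparatedSpace ↥Y]
    [CompactSpace ↥X] [QuasiSeparatedSpace ↥X] (hd : DenseRange h.base)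
    [LocallyOfFiniteType f] :
    IsProper f ↔
      ∀ (z : ↥Z) (R : ValuationSubring ↑(Z.residueField z)) (φ : Spec (CommRingCat.of ↥R) ⟶ X),
        Spec.map (CommRingCat.ofHom R.subtype) ≫ φ = Z.fromSpecResidueField z ≫ h ≫ f →
        ∃! φ' : Spec (CommRingCat.of ↥R) ⟶ Y,
          Spec.map (CommRingCat.ofHom R.subtype) ≫ φ' = Z.fromSpecResidueField z ≫ h ∧ φ' ≫ f = φ := by
  classical
  constructor
  · intro hprop z R φ hφ
    have w : (Z.fromSpecResidueField z ≫ h) ≫ f =
        Spec.map (CommRingCat.ofHom (algebraMap ↥R ↑(Z.residueField z))) ≫ φ := by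
      rw [Category.assoc]; exact hφ.symm
    let Sq : ValuativeCommSq f :=
      { R := ↥R, K := ↑(Z.residueField z), i₁ := Z.fromSpecResidueField z ≫ h, i₂ := φ,
        commSq := ⟨w⟩ }
    have hvc : ValuativeCriterion f := by
      have := (AlgebraicGeometry.IsProper.eq_valuativeCriterion ▸ hprop : (ValuativeCriterion ⊓ @QuasiCompact ⊓ @QuasiSeparated ⊓ @LocallyOfFiniteType) f)
      exact this.1.1.1
    obtain ⟨hU⟩ := hvc Sq
    refine ⟨hU.default.l, ⟨hU.default.fac_left, hU.default.fac_right⟩, ?_⟩
    rintro φ₂ ⟨h₁, h₂⟩
    have := hU.uniq (⟨φ₂, h₁, h₂⟩ : Sq.commSq.LiftStruct)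
    exact congrArg CommSq.LiftStruct.l this
  · intro H
    have : QuasiCompact h := inferInstance
    have : QuasiCompact f := inferInstance
    have : IsSeparated f := by
      refine (Groth.Agent.S19891.result h f hd).2 ?_
      intro z R φ hφ φ₁ φ₂ h₁ h₁' h₂ h₂'
      obtain ⟨φ', -, huniq⟩ := H z R φ hφ
      exact (huniq φ₁ ⟨h₁, h₁'⟩).trans (huniq φ₂ ⟨h₂, h₂'⟩).symm
    have : UniversallyClosed f :=
      UniversallyClosed.of_valuativeCriterion f
        (Groth.Agent.H6.VC.existence_of_key f (Groth.Agent.H6.VC.keyP h f hd H))
    exact { }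

end Groth.Agent.S19892
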