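import Groth.Statements.S1996
import Groth.Agent.Lib.Helper1.FlatSource

set_option autoImplicit false
universe u
open EtAlg
open TensorProduct

namespace Groth.Agent.S1996

/-- Let A -> B -> C be ring maps with B -> C faithfully flat. Weak etaleness of A -> C then implies weak
etaleness of A -> B. -/
theorem result (A B C : Type u) [CommRing A] [CommRing B] [CommRing C] [Algebra A B]
    [Algebra B C] [Algebra A C] [IsScalarTower A B C] [Module.FaithfullyFlat B C] [Algebra.WeaklyEtale A C] :
    Algebra.WeaklyEtale A B := by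
  have hAB : Module.Flat A B := Groth.Agent.H1.flat_of_flat_of_faithfullyFlat A B C
  refine ⟨hAB, ?_⟩
  let ι : B →ₐ[A] C := IsScalarTower.toAlgHom A B C
  have hι : ι.Flat := by
    change (algebraMap B C).Flat
    rw [RingHom.flat_algebraMap_iff]; infer_instance
  let φ : B ⊗[A] B →ₐ[A] C ⊗[A] C := Algebra.TensorProduct.map ι ι
  have hφ : φ.Flat := RingHom.Flat.tensorProductMap hι hι
  have hC : (Algebra.TensorProduct.lmul' A (S := C)).Flat := Algebra.WeaklyEtale.flat_lmul' A C
  have hcomp : ((Algebra.TensorProduct.lmul' A (S := C)).comp φ).Flat := RingHom.Flat.comp hφ hC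
  have heq : (Algebra.TensorProduct.lmul' A (S := C)).comp φ =
      ι.comp (Algebra.TensorProduct.lmul' A (S := B)) := by
    ext <;> simp [φ]
  rw [heq] at hcomp
  let m : B ⊗[A] B →+* B := (Algebra.TensorProduct.lmul' A (S := B)).toRingHom
  algebraize [m, (algebraMap B C).comp m]
  have : Module.Flat (B ⊗[A] B) C := hcomp
  have := Groth.Agent.H1.flat_of_flat_of_faithfullyFlat (B ⊗[A] B) B C
  exact this


end Groth.Agent.S1996
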