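import Groth.Statements.S19974
import Mathlib
import Groth.Agent.Lib.Helper9.Misc.Ore

set_option autoImplicit false
universe u v w x
open scoped BigOperators
open DefMod

namespace Groth.Agent.S19974

/-- Let K be a field of characteristic 0, O a commutative K-algebra with a K-linear derivation δ, and D
the ring of differential operators O[∂], presented abstractly as a K-algebra D with an algebra map ι
: O → D and an element ∂ of D such that ∂ ι(f) = ι(f) ∂ + ι(δ f) for every f in O and such that
every element of D is in a unique way a finite sum of terms ι(f_i) ∂^i. Let E be a left D-module,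
given as a K-vector space with a K-algebra map ρ : D → End_K(E), which is finite free as an
O-module. A K-derivation of D with values in the D-bimodule End_K(E) is a K-linear map s with s(PQ)
= s(P) ρ(Q) + ρ(P) s(Q); a K-derivation of O with values in End_K(E) is a K-linear map r with r(fg)
= r(f) ρ(ι g) + ρ(ι f) r(g). Then: (a) for every K-derivation s of D into End_K(E), the pair (r, v)
= (s ∘ ι, s(∂)) satisfies the identity [r(f), ρ(∂)] + [ρ(ι f), v] + r(δ f) = 0 for all f in O; (b)
conversely, for every K-derivation r of O into End_K(E) and every v in End_K(E) satisfying that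
identity for all f, there is exactly one K-derivation s of D into End_K(E) with s ∘ ι = r and s(∂) =
v. In other words s ↦ (s ∘ ι, s(∂)) maps the K-derivations of D injectively onto the pairs
satisfying the identity. -/
theorem result
    (K : Type u) [Field K] [CharZero K]
    (O : Type v) [CommRing O] [Algebra K O] (δ : Derivation K O O)
    (D : Type w) [Ring D] [Algebra K D] (ι : O →ₐ[K] D) (d : D)
    (hd : ∀ f : O, d * ι f = ι f * d + ι (δ f))
    (hbasis : Function.Bijective (fun c : ℕ →₀ O => c.sum (fun i f => ι f * d ^ i)))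
    (E : Type x) [AddCommGroup E] [Module K E] (ρ : D →ₐ[K] Module.End K E)
    (hE : ∃ (n : ℕ) (b : Fin n → E), Function.Bijective (fun c : Fin n → O => ∑ i, ρ (ι (c i)) (b i))) :
    (∀ s : D →ₗ[K] Module.End K E, (∀ P Q : D, s (P * Q) = s P * ρ Q + ρ P * s Q) →
      ∀ f : O, (s (ι f) * ρ d - ρ d * s (ι f)) + (ρ (ι f) * s d - s d * ρ (ι f)) + s (ι (δ f)) = 0) ∧
    ∀ (r : O →ₗ[K] Module.End K E) (v : Module.End K E),
      (∀ f g : O, r (f * g) = r f * ρ (ι g) + ρ (ι f) * r g) →
      (∀ f : O, (r f * ρ d - ρ d * r f) + (ρ (ι f) * v - v * ρ (ι f)) + r (δ f) = 0) →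
      ∃! s : D →ₗ[K] Module.End K E,
        (∀ P Q : D, s (P * Q) = s P * ρ Q + ρ P * s Q) ∧ s ∘ₗ ι.toLinearMap = r ∧ s d = v := by
  classical
  have hone : ∀ s : D →ₗ[K] Module.End K E,
      (∀ P Q : D, s (P * Q) = s P * ρ Q + ρ P * s Q) → s 1 = 0 := by
    intro s hs
    have h1 := hs 1 1
    rw [mul_one, map_one ρ, mul_one, one_mul] at h1
    have h2 : s 1 + 0 = s 1 + s 1 := by rw [add_zero]; exact h1
    exact (add_left_cancel h2).symm
  have hadj := Groth.Agent.H9.Ore.adjoin_eq_top ι d hbasis
  refine ⟨?_, ?_⟩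
  · intro s hs f
    have h1 := congrArg s (hd f)
    rw [hs, map_add, hs] at h1
    have h2 : (s (ι f) * ρ d - ρ d * s (ι f)) + (ρ (ι f) * s d - s d * ρ (ι f)) + s (ι (δ f)) =
        (s (ι f) * ρ d + ρ (ι f) * s d + s (ι (δ f))) - (s d * ρ (ι f) + ρ d * s (ι f)) := by
      abel
    rw [h2, h1, sub_self]
  · intro r v hr hrv
    have hr1 : r 1 = 0 := by
      have h1 := hr 1 1
      rw [mul_one, map_one ι, map_one ρ, mul_one, one_mul] at h1
      have h2 : r 1 + 0 = r 1 + r 1 := by rw [add_zero]; exact h1
      exact (add_left_cancel h2).symm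
    -- the algebra map `O → M₂(End E)`
    let jl : O →ₗ[K] Matrix (Fin 2) (Fin 2) (Module.End K E) :=
      { toFun := fun f => !![ρ (ι f), r f; 0, ρ (ι f)]
        map_add' := by
          intro f g
          ext a c
          fin_cases a <;> fin_cases c <;> simp
        map_smul' := by
          intro c f
          ext a c'
          fin_cases a <;> fin_cases c' <;> simp }
    have hjl : ∀ f, jl f = !![ρ (ι f), r f; 0, ρ (ι f)] := fun f => rfl
    let j : O →ₐ[K] Matrix (Fin 2) (Fin 2) (Module.End K E) :=
      AlgHom.ofLinearMap jl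
        (by
          rw [hjl, map_one, map_one, hr1, Matrix.one_fin_two])
        (by
          intro f g
          rw [hjl, hjl, hjl, Matrix.mul_fin_two, map_mul, map_mul, hr f g]
          simp [add_comm])
    have hj : ∀ f, j f = !![ρ (ι f), r f; 0, ρ (ι f)] := fun f => rfl
    let bm : Matrix (Fin 2) (Fin 2) (Module.End K E) := !![ρ d, v; 0, ρ d]
    have hρd : ∀ f, ρ d * ρ (ι f) = ρ (ι f) * ρ d + ρ (ι (δ f)) := by
      intro f
      rw [← map_mul, hd, map_add, map_mul]
    have hb : ∀ f : O, bm * j f = j f * bm + j (δ f) := by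
      intro f
      have h1 := hrv f
      have h2 : ρ d * r f + v * ρ (ι f) = ρ (ι f) * v + r f * ρ d + r (δ f) := by
        have h3 : ρ (ι f) * v + r f * ρ d + r (δ f) - (ρ d * r f + v * ρ (ι f)) =
            (r f * ρ d - ρ d * r f) + (ρ (ι f) * v - v * ρ (ι f)) + r (δ f) := by abel
        rw [h1] at h3
        exact (sub_eq_zero.1 h3).symm
      rw [hj, hj]
      change !![ρ d, v; 0, ρ d] * !![ρ (ι f), r f; 0, ρ (ι f)] =
        !![ρ (ι f), r f; 0, ρ (ι f)] * !![ρ d, v; 0, ρ d] + !![ρ (ι (δ f)), r (δ f); 0, ρ (ι (δ f))]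
      rw [Matrix.mul_fin_two, Matrix.mul_fin_two]
      ext a c
      fin_cases a <;> fin_cases c
      · simp [hρd f]
      · simp only [Matrix.add_apply, Matrix.of_apply, Matrix.cons_val', Matrix.cons_val_zero,
          Matrix.cons_val_one, Matrix.cons_val_fin_one, Fin.zero_eta, Fin.mk_one]
        rw [h2]
      · simp
      · simp [hρd f]
    let Φ := Groth.Agent.H9.Ore.lift δ ι d hd hbasis j bm hb
    have hΦι : ∀ f, Φ (ι f) = j f := Groth.Agent.H9.Ore.lift_ι δ ι d hd hbasis j bm hb
    have hΦd : Φ d = bm := Groth.Agent.H9.Ore.lift_d δ ι d hd hbasis j bm hb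
    have hU : ∀ P : D, Φ P 0 0 = ρ P ∧ Φ P 1 1 = ρ P ∧ Φ P 1 0 = 0 := by
      intro P
      have hP : P ∈ Algebra.adjoin K (Set.range ι ∪ {d}) := by rw [hadj]; trivial
      induction hP using Algebra.adjoin_induction with
      | mem x hx =>
        rcases hx with ⟨f, rfl⟩ | hx
        · rw [hΦι, hj]
          simp
        · rw [Set.mem_singleton_iff] at hx
          subst hx
          rw [hΦd]
          simp [bm]
      | algebraMap c =>
        rw [AlgHom.commutes, AlgHom.commutes]
        simp [Matrix.algebraMap_matrix_apply]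
      | add x y _ _ hx hy =>
        rw [map_add, map_add, Matrix.add_apply, Matrix.add_apply, Matrix.add_apply, hx.1, hx.2.1,
          hx.2.2, hy.1, hy.2.1, hy.2.2, add_zero]
        exact ⟨rfl, rfl, rfl⟩
      | mul x y _ _ hx hy =>
        rw [map_mul, map_mul, Matrix.mul_apply, Matrix.mul_apply, Matrix.mul_apply,
          Fin.sum_univ_two, Fin.sum_univ_two, Fin.sum_univ_two, hx.1, hx.2.1, hx.2.2, hy.1, hy.2.1,
          hy.2.2]
        simp
    let s : D →ₗ[K] Module.End K E :=
      (Matrix.entryLinearMap K (Module.End K E) (0 : Fin 2) (1 : Fin 2)).comp Φ.toLinearMap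
    have hs : ∀ P, s P = Φ P 0 1 := fun P => rfl
    have hsLeib : ∀ P Q : D, s (P * Q) = s P * ρ Q + ρ P * s Q := by
      intro P Q
      rw [hs, hs, hs, map_mul, Matrix.mul_apply, Fin.sum_univ_two, (hU P).1, (hU Q).2.1, add_comm]
    refine ⟨s, ⟨hsLeib, ?_, ?_⟩, ?_⟩
    · apply LinearMap.ext
      intro f
      change s (ι f) = r f
      rw [hs, hΦι, hj]
      simp
    · rw [hs, hΦd]
      simp [bm]
    · rintro s' ⟨hs'L, hs'ι, hs'd⟩
      apply LinearMap.ext
      intro P
      have hP : P ∈ Algebra.adjoin K (Set.range ι ∪ {d}) := by rw [hadj]; trivial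
      induction hP using Algebra.adjoin_induction with
      | mem x hx =>
        rcases hx with ⟨f, rfl⟩ | hx
        · have h1 : s' (ι f) = r f := LinearMap.congr_fun hs'ι f
          rw [h1, hs, hΦι, hj]
          simp
        · rw [Set.mem_singleton_iff] at hx
          subst hx
          rw [hs'd, hs, hΦd]
          simp [bm]
      | algebraMap c =>
        rw [Algebra.algebraMap_eq_smul_one, map_smul, map_smul, hone s' hs'L, hone s hsLeib]
      | add x y _ _ hx hy => rw [map_add, map_add, hx, hy]
      | mul x y _ _ hx hy => rw [hs'L, hsLeib, hx, hy]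

end Groth.Agent.S19974
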