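import Groth.Statements.S1999
import Groth.Agent.Lib.Helper8.Ram.Main
-- import your own Groth.Agent.* helpers here

set_option autoImplicit false
universe u
open scoped Pointwise
open EtAlg

namespace Groth.Agent.S1999

/-- Parts (2)–(5) in the case of part (6): let A be a discrete valuation ring with fraction field K, L/K
a finite Galois extension with group G, B the integral closure of A in L, m a maximal ideal of B
whose residue field is separable over that of A, and e the ramification index of m over A. Let D be
the decomposition group (stabilizer of m), I the inertia group (elements acting trivially on B/m)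
and P the wild inertia group, here the elements of D acting trivially on B/m² (the description valid
in the separable residue field case). Then P ≤ I, P is normal in D, P is a p-group if the residue
characteristic is p > 0 and trivial if it is 0, and I/P is cyclic of order the prime-to-p part of e
and isomorphic to a subgroup of the e-th roots of unity of B/m — more precisely to the full group of
e-th roots of unity of B/m. -/
theorem result (A K L B : Type u) [CommRing A] [IsDomain A] [IsDiscreteValuationRing A]
    [CommRing B] [IsDomain B] [Field K] [Field L] [Algebra A K] [Algebra B L] [IsFractionRing A K] [IsFractionRing B L]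
    [Algebra A B] [Algebra K L] [Algebra A L] [IsScalarTower A K L] [IsScalarTower A B L] [IsIntegralClosure B A L]
    [FiniteDimensional K L] [IsGalois K L] (m : Ideal B) [m.IsMaximal]
    [Algebra.IsSeparable (A ⧸ m.comap (algebraMap A B)) (B ⧸ m)] :
    letI := IsIntegralClosure.MulSemiringAction A K L B
    let D : Subgroup (L ≃ₐ[K] L) := MulAction.stabilizer (L ≃ₐ[K] L) m
    let I : Subgroup (L ≃ₐ[K] L) := m.inertia (L ≃ₐ[K] L)
    let P : Subgroup (L ≃ₐ[K] L) := D ⊓ (m ^ 2).inertia (L ≃ₐ[K] L)
    let e : ℕ := Ideal.ramificationIdx' (IsLocalRing.maximalIdeal A) m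
    P ≤ I ∧ I ≤ D ∧ (P.subgroupOf D).Normal ∧
    (∀ p : ℕ, p.Prime → CharP (A ⧸ m.comap (algebraMap A B)) p → IsPGroup p P) ∧
    (CharZero (A ⧸ m.comap (algebraMap A B)) → P = ⊥) ∧
    (∀ [(P.subgroupOf I).Normal],
      IsCyclic (I ⧸ P.subgroupOf I) ∧
      (∀ p : ℕ, p.Prime → CharP (A ⧸ m.comap (algebraMap A B)) p → Nat.card (I ⧸ P.subgroupOf I) = e / p ^ e.factorization p) ∧
      (CharZero (A ⧸ m.comap (algebraMap A B)) → Nat.card (I ⧸ P.subgroupOf I) = e) ∧
      Nonempty (I ⧸ P.subgroupOf I ≃* ↥(rootsOfUnity e (B ⧸ m)))) := by
  letI := IsIntegralClosure.MulSemiringAction A K L B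
  have hded : IsDedekindDomain B := IsIntegralClosure.isDedekindDomain A K L B
  have hfin : Module.Finite A B := IsIntegralClosure.finite A K L B
  have hinjAB : Function.Injective (algebraMap A B) := by
    have h1 : Function.Injective (algebraMap A L) := by
      rw [IsScalarTower.algebraMap_eq A K L]
      exact (algebraMap K L).injective.comp (IsFractionRing.injective A K)
    rw [IsScalarTower.algebraMap_eq A B L] at h1
    exact Function.Injective.of_comp h1
  have hfaithAB : FaithfulSMul A B := (faithfulSMul_iff_algebraMap_injective A B).mpr hinjAB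
  have htf : Module.IsTorsionFree A B := inferInstance
  have hflat : Module.Flat A B := inferInstance
  have hgal : IsGaloisGroup (L ≃ₐ[K] L) A B := IsGaloisGroup.of_isFractionRing _ _ _ K L
  have hint : Algebra.IsIntegral A B := IsIntegralClosure.isIntegral_algebra A L
  have hpmax : (m.under A).IsMaximal := inferInstance
  have hpeq : m.under A = IsLocalRing.maximalIdeal A := IsLocalRing.eq_maximalIdeal hpmax
  have hp0 : m.under A ≠ ⊥ := by
    rw [hpeq]; exact IsDiscreteValuationRing.not_a_field A
  have hm0 : m ≠ ⊥ := Ideal.ne_bot_of_liesOver_of_ne_bot hp0 m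
  have he : Ideal.ramificationIdx' (IsLocalRing.maximalIdeal A) m = m.ramificationIdx A := by
    rw [← hpeq]
    exact Ideal.ramificationIdx'_eq_ramificationIdx (m.under A) m hp0
  have hinjres : Function.Injective (algebraMap (A ⧸ m.under A) (B ⧸ m)) :=
    Ideal.algebraMap_quotient_injective
  have key := Groth.Agent.H8.Ram.main (A := A) (L ≃ₐ[K] L) m hm0
  intro D I P e
  obtain ⟨k1, k2, k3, k4, k5, k6⟩ := key
  have hcp : ∀ p : ℕ, CharP (A ⧸ m.comap (algebraMap A B)) p → CharP (B ⧸ m) p := by
    intro p hp
    exact (RingHom.charP_iff _ hinjres p).mp hp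
  have hc0 : CharZero (A ⧸ m.comap (algebraMap A B)) → CharZero (B ⧸ m) := by
    intro h
    exact charZero_of_injective_algebraMap hinjres
  refine ⟨k1, k2, k3, fun p hp hc => k4 p hp (hcp p hc), fun hc => k5 (hc0 hc), ?_⟩
  intro hn
  obtain ⟨j1, j2, j3, j4⟩ := k6
  have hee : e = m.ramificationIdx A := he
  rw [hee]
  exact ⟨j1, fun p hp hc => j2 p hp (hcp p hc), fun hc => j3 (hc0 hc), j4⟩

end Groth.Agent.S1999
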