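import Groth.Statements.S2008
import Groth.Agent.Lib.Helper2.IGlueFF

set_option autoImplicit false
universe u
open TensorProduct
open EtAlg

namespace Groth.Agent.S2008

/-- For a ring map R -> S and an ideal I of R the following are equivalent: (1) S is flat over R and
S/IS is faithfully flat over R/I; (2) S is flat over R and Spec(S/IS) -> Spec(R/I) is surjective;
(3) S is flat over R and S ⊗_R M is nonzero for every nonzero R-module M killed by I; (4) S is flat
over R and S ⊗_R M is nonzero for every nonzero I-power torsion R-module M. (Faithfulness of base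
change on these subcategories is stated as detection of nonzero objects, which is equivalent for an
exact functor.) -/
theorem result (R S : Type u) [CommRing R] [CommRing S] [Algebra R S] (I : Ideal R) :
    List.TFAE [
      Module.Flat R S ∧ Module.FaithfullyFlat (R ⧸ I) (S ⧸ I.map (algebraMap R S)),
      Module.Flat R S ∧ Function.Surjective (PrimeSpectrum.comap (Ideal.quotientMap (I.map (algebraMap R S)) (algebraMap R S) Ideal.le_comap_map)),
      Module.Flat R S ∧ ∀ (M : Type u) [AddCommGroup M] [Module R M], (∀ (a : R) (m : M), a ∈ I → a • m = 0) →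
        Nontrivial M → Nontrivial (S ⊗[R] M),
      Module.Flat R S ∧ ∀ (M : Type u) [AddCommGroup M] [Module R M], (∀ m : M, ∃ n : ℕ, ∀ a ∈ I ^ n, a • m = 0) →
        Nontrivial M → Nontrivial (S ⊗[R] M)] := by
  have key : ∀ (N : Type u) [AddCommGroup N] [Module R N] [Module (R ⧸ I) N]
      [IsScalarTower R (R ⧸ I) N],
      Nontrivial (N ⊗[R ⧸ I] (S ⧸ I.map (algebraMap R S))) ↔ Nontrivial (S ⊗[R] N) := by
    intro N _ _ _ _
    have e := (Groth.Agent.H2.IGlue.tensorQuotEquiv I S N).toEquiv.trans
      (TensorProduct.comm R N S).toEquiv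
    exact ⟨fun h => e.symm.nontrivial, fun h => e.nontrivial⟩
  tfae_have 1 → 3 := by
    rintro ⟨hf, hff⟩
    refine ⟨hf, ?_⟩
    intro M _ _ hM hnt
    have hT : Module.IsTorsionBySet R M I := fun x a => hM a x a.2
    letI := hT.module
    haveI : IsScalarTower R (R ⧸ I) M := hT.isScalarTower
    exact (key M).1 inferInstance
  tfae_have 3 → 4 := by
    rintro ⟨hf, h3⟩
    refine ⟨hf, ?_⟩
    intro M _ _ hM hnt
    obtain ⟨m, hm, hk⟩ := Groth.Agent.H2.IGlue.exists_ne_zero_killed I hM
    let K : Submodule R M :=
      { carrier := {m | ∀ a ∈ I, a • m = 0}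
        add_mem' := fun {x y} hx hy a ha => by rw [smul_add, hx a ha, hy a ha, add_zero]
        zero_mem' := fun a _ => smul_zero a
        smul_mem' := fun c x hx a ha => by rw [smul_comm, hx a ha, smul_zero] }
    have hKnt : Nontrivial K := ⟨⟨⟨m, hk⟩, 0, fun h => hm (congrArg Subtype.val h)⟩⟩
    have h1 : Nontrivial (S ⊗[R] K) :=
      h3 K (fun a ⟨x, hx⟩ ha => Subtype.ext (hx a ha)) hKnt
    have hinj : Function.Injective (K.subtype.lTensor S) :=
      Module.Flat.lTensor_preserves_injective_linearMap _ K.subtype_injective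
    exact hinj.nontrivial
  tfae_have 4 → 3 := by
    rintro ⟨hf, h4⟩
    refine ⟨hf, ?_⟩
    intro M _ _ hM hnt
    exact h4 M (fun m => ⟨1, fun a ha => hM a m (by rwa [pow_one] at ha)⟩) hnt
  tfae_have 3 → 2 := by
    rintro ⟨hf, h3⟩
    refine ⟨hf, ?_⟩
    intro p
    have h1 : Nontrivial (S ⊗[R] p.asIdeal.ResidueField) := by
      apply h3
      · intro a m ha
        rw [Algebra.smul_def, IsScalarTower.algebraMap_apply R (R ⧸ I) p.asIdeal.ResidueField,
          Ideal.Quotient.algebraMap_eq, Ideal.Quotient.eq_zero_iff_mem.2 ha, map_zero, zero_mul]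
      · infer_instance
    have h2 := (key p.asIdeal.ResidueField).2 h1
    exact (PrimeSpectrum.nontrivial_iff_mem_rangeComap p).1 h2
  tfae_have 2 → 1 := by
    rintro ⟨hf, h2⟩
    refine ⟨hf, ?_⟩
    haveI := Groth.Agent.H2.IGlue.flat_quotient (S := S) I
    exact Module.FaithfullyFlat.of_comap_surjective h2
  tfae_finish

end Groth.Agent.S2008
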