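import Groth.Statements.S2009
import Groth.Agent.Lib.Helper2.IGlueBasic

set_option autoImplicit false
universe u
open TensorProduct
open EtAlg

namespace Groth.Agent.S2009

/-- Let R -> S be flat with S/IS faithfully flat over R/I. Then the natural map M -> S ⊗_R M is
bijective for every I-power torsion R-module M if and only if R/I -> S/IS is bijective. -/
theorem result (R S : Type u) [CommRing R] [CommRing S] [Algebra R S] (I : Ideal R)
    [Module.Flat R S] [Module.FaithfullyFlat (R ⧸ I) (S ⧸ I.map (algebraMap R S))] :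
    (∀ (M : Type u) [AddCommGroup M] [Module R M], (∀ m : M, ∃ n : ℕ, ∀ a ∈ I ^ n, a • m = 0) →
      Function.Bijective (TensorProduct.mk R S M 1)) ↔
    Function.Bijective (Ideal.quotientMap (I.map (algebraMap R S)) (algebraMap R S) Ideal.le_comap_map) := by
  constructor
  · intro h
    have hM : ∀ m : R ⧸ I, ∃ n : ℕ, ∀ a ∈ I ^ n, a • m = 0 := by
      intro m
      refine ⟨1, fun a ha => ?_⟩
      rw [pow_one] at ha
      obtain ⟨m, rfl⟩ := Ideal.Quotient.mk_surjective m
      rw [Algebra.smul_def, Ideal.Quotient.algebraMap_eq, ← map_mul, Ideal.Quotient.eq_zero_iff_mem]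
      exact I.mul_mem_right _ ha
    have hkill : ∀ a ∈ I, ∀ m : R ⧸ I, a • m = 0 := by
      intro a ha m
      obtain ⟨m, rfl⟩ := Ideal.Quotient.mk_surjective m
      rw [Algebra.smul_def, Ideal.Quotient.algebraMap_eq, ← map_mul, Ideal.Quotient.eq_zero_iff_mem]
      exact I.mul_mem_right _ ha
    have hb := h (R ⧸ I) hM
    constructor
    · rw [injective_iff_map_eq_zero]
      intro x hx
      obtain ⟨r, rfl⟩ := Ideal.Quotient.mk_surjective x
      rw [Ideal.quotientMap_mk, Ideal.Quotient.eq_zero_iff_mem] at hx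
      apply hb.1
      rw [map_zero, TensorProduct.mk_apply]
      have h1 : (1 : S) ⊗ₜ[R] (Ideal.Quotient.mk I r) = (algebraMap R S r) ⊗ₜ[R] (1 : R ⧸ I) := by
        rw [← mul_one (algebraMap R S r), ← Algebra.smul_def, TensorProduct.smul_tmul,
          Algebra.smul_def, mul_one]
        rfl
      rw [h1]
      exact Groth.Agent.H2.IGlue.tmul_eq_zero_of_mem_map (R ⧸ I) hkill _ hx 1
    · intro y
      obtain ⟨s, rfl⟩ := Ideal.Quotient.mk_surjective y
      obtain ⟨q, hq⟩ := hb.2 (s ⊗ₜ[R] (1 : R ⧸ I))
      obtain ⟨r, rfl⟩ := Ideal.Quotient.mk_surjective q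
      refine ⟨Ideal.Quotient.mk I r, ?_⟩
      rw [Ideal.quotientMap_mk]
      have h2 := congrArg (Algebra.TensorProduct.quotIdealMapEquivTensorQuot S I).symm hq
      have e1 : (Algebra.TensorProduct.quotIdealMapEquivTensorQuot S I).symm (s ⊗ₜ[R] (1 : R ⧸ I)) =
          Ideal.Quotient.mk _ s := by
        rw [← map_one (Ideal.Quotient.mk I),
          Algebra.TensorProduct.quotIdealMapEquivTensorQuot_symm_tmul, one_smul]
        rfl
      rw [TensorProduct.mk_apply, Algebra.TensorProduct.quotIdealMapEquivTensorQuot_symm_tmul, e1,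
        Algebra.smul_def, mul_one] at h2
      exact h2
  · intro hq M _ _ hM
    exact Groth.Agent.H2.IGlue.mk_bijective_of_torsion hq hM

end Groth.Agent.S2009
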