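import Groth.Statements.S2011
import Mathlib

set_option autoImplicit false
universe u
open EtAlg

namespace Groth.Agent.S2011

/-- in a Noetherian domain in which all nonzero primes contain a fixed nonzero element, every
nonzero prime is maximal. -/
theorem isMaximal_of_forall_mem {C : Type*} [CommRing C] [IsDomain C] [IsNoetherianRing C]
    (h : C) (hh : h ≠ 0) (hall : ∀ Q : Ideal C, Q.IsPrime → Q ≠ ⊥ → h ∈ Q)
    (Q : Ideal C) [hQ : Q.IsPrime] (hQ0 : Q ≠ ⊥) : Q.IsMaximal := by
  by_contra hnm
  obtain ⟨M, hM, hQM⟩ := Ideal.exists_le_maximal Q hQ.ne_top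
  haveI := hM.isPrime
  have hlt : Q < M := lt_of_le_of_ne hQM (fun he => hnm (he ▸ hM))
  have hbot : (⊥ : Ideal C) < Q := bot_lt_iff_ne_bot.mpr hQ0
  haveI : (⊥ : Ideal C).IsPrime := Ideal.isPrime_bot
  -- `M` has height at least two
  have h2 : (2 : ℕ∞) ≤ M.height := by
    have g1 : (1 : ℕ∞) ≤ Q.height :=
      le_trans le_add_self (Ideal.height_add_one_le_of_lt_of_isPrime hbot)
    refine le_trans ?_ (Ideal.height_add_one_le_of_lt_of_isPrime hlt)
    rw [← one_add_one_eq_two]
    exact add_le_add_left g1 1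
  -- `M` is contained in the union of the minimal primes over `h`
  have hfin : (Ideal.span {h}).minimalPrimes.Finite :=
    Ideal.finite_minimalPrimes_of_isNoetherianRing C _
  have hsub : (M : Set C) ⊆ ⋃ P ∈ hfin.toFinset, (P : Set C) := by
    intro x hx
    by_cases hx0 : x = 0
    · obtain ⟨P, hP⟩ := Ideal.nonempty_minimalPrimes (I := Ideal.span {h}) (by
        intro htop
        have : h ∈ M := hall M inferInstance (ne_bot_of_gt hlt)
        have h1 : (1 : C) ∈ Ideal.span {h} := htop ▸ Submodule.mem_top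
        exact hM.ne_top ((Ideal.eq_top_iff_one M).mpr
          ((Ideal.span_singleton_le_iff_mem M).mpr this h1)))
      simp only [Set.mem_iUnion]
      exact ⟨P, hfin.mem_toFinset.mpr hP, hx0 ▸ P.zero_mem⟩
    · have hxM : Ideal.span {x} ≤ M := (Ideal.span_singleton_le_iff_mem M).mpr hx
      obtain ⟨Px, hPxmin, hPxM⟩ := Ideal.exists_minimalPrimes_le hxM
      haveI : Px.IsPrime := hPxmin.1.1
      have hxPx : x ∈ Px := hPxmin.1.2 (Ideal.mem_span_singleton_self x)
      have hPx0 : Px ≠ ⊥ := fun he => hx0 (by rw [he] at hxPx; exact hxPx)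
      have hPx1 : Px.height ≤ 1 :=
        Ideal.height_le_one_of_isPrincipal_of_mem_minimalPrimes (Ideal.span {x}) Px hPxmin
      have hhPx : Ideal.span {h} ≤ Px :=
        (Ideal.span_singleton_le_iff_mem Px).mpr (hall Px inferInstance hPx0)
      obtain ⟨Pi, hPimin, hPiPx⟩ := Ideal.exists_minimalPrimes_le hhPx
      haveI : Pi.IsPrime := hPimin.1.1
      have hPi0 : Pi ≠ ⊥ := fun he => hh (by
        have : h ∈ Pi := hPimin.1.2 (Ideal.mem_span_singleton_self h)
        rw [he] at this; exact this)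
      have heq : Pi = Px := by
        by_contra hne
        have hlt' : Pi < Px := lt_of_le_of_ne hPiPx hne
        have g1 : (1 : ℕ∞) ≤ Pi.height :=
          le_trans le_add_self
            (Ideal.height_add_one_le_of_lt_of_isPrime (bot_lt_iff_ne_bot.mpr hPi0))
        have g2 := Ideal.height_add_one_le_of_lt_of_isPrime hlt'
        have : (2 : ℕ∞) ≤ 1 := by
          refine le_trans ?_ (g2.trans hPx1)
          rw [← one_add_one_eq_two]
          exact add_le_add_left g1 1
        exact absurd this (by decide)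
      simp only [Set.mem_iUnion]
      exact ⟨Pi, hfin.mem_toFinset.mpr hPimin, heq ▸ hxPx⟩
  obtain ⟨P, hPmem, hMP⟩ := (Ideal.subset_union_prime (s := hfin.toFinset)
    (f := fun P => P) ⊥ ⊥ (fun P hP _ _ => (hfin.mem_toFinset.mp hP).1.1)).mp hsub
  have hPmin := hfin.mem_toFinset.mp hPmem
  have hP1 : P.height ≤ 1 :=
    Ideal.height_le_one_of_isPrincipal_of_mem_minimalPrimes (Ideal.span {h}) P hPmin
  have : (2 : ℕ∞) ≤ 1 := h2.trans ((Ideal.height_mono hMP).trans hP1)
  exact absurd this (by decide)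

/-- the key lemma in `A`. -/
theorem exists_prime_maximal_avoiding {A : Type*} [CommRing A] [IsNoetherianRing A] (f : A)
    (hf : f ∈ (⊥ : Ideal A).jacobson) (p : Ideal A) [hp : p.IsPrime] (hfp : f ∉ p) (g : A)
    (hg : g ∉ p) :
    ∃ q : Ideal A, q.IsPrime ∧ p ≤ q ∧ f ∉ q ∧ g ∉ q ∧ ∀ q' : Ideal A, q'.IsPrime → q < q' → f ∈ q' := by
  let T : Set (Ideal A) := {q | q.IsPrime ∧ p ≤ q ∧ f * g ∉ q}
  have hpT : p ∈ T := ⟨hp, le_rfl, fun h => (hp.mem_or_mem h).elim hfp hg⟩
  obtain ⟨q, hqT, hqmax⟩ := WellFounded.has_min (wellFounded_gt (α := Ideal A)) T ⟨p, hpT⟩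
  obtain ⟨hqprime, hpq, hfgq⟩ := hqT
  haveI := hqprime
  have hfq : f ∉ q := fun h => hfgq (q.mul_mem_right g h)
  have hgq : g ∉ q := fun h => hfgq (q.mul_mem_left f h)
  refine ⟨q, hqprime, hpq, hfq, hgq, ?_⟩
  intro q' hq'prime hqq'
  haveI := hq'prime
  -- the quotient domain
  haveI : IsDomain (A ⧸ q) := Ideal.Quotient.isDomain q
  set φ := Ideal.Quotient.mk q with hφ
  have hsurj : Function.Surjective φ := Ideal.Quotient.mk_surjective
  have hh : φ (f * g) ≠ 0 := fun h => hfgq (Ideal.Quotient.eq_zero_iff_mem.mp h)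
  have hall : ∀ Q : Ideal (A ⧸ q), Q.IsPrime → Q ≠ ⊥ → φ (f * g) ∈ Q := by
    intro Q hQ hQ0
    haveI := hQ
    have hle : q ≤ Q.comap φ := by
      intro x hx
      rw [Ideal.mem_comap, Ideal.Quotient.eq_zero_iff_mem.mpr hx]
      exact Q.zero_mem
    have hne : q ≠ Q.comap φ := by
      intro he
      apply hQ0
      rw [eq_bot_iff]
      intro y hy
      obtain ⟨x, rfl⟩ := hsurj y
      have : x ∈ Q.comap φ := hy
      rw [← he] at this
      rw [Ideal.mem_bot]
      exact Ideal.Quotient.eq_zero_iff_mem.mpr this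
    by_contra hcon
    exact hqmax (Q.comap φ) ⟨Ideal.comap_isPrime φ Q, hpq.trans hle, hcon⟩ (lt_of_le_of_ne hle hne)
  -- the image of `q'` is a nonzero prime, hence maximal
  have hker : RingHom.ker φ ≤ q' := by rw [hφ, Ideal.mk_ker]; exact hqq'.le
  haveI hQ'prime : (q'.map φ).IsPrime := Ideal.map_isPrime_of_surjective hsurj hker
  have hcomap : (q'.map φ).comap φ = q' := by
    rw [Ideal.comap_map_of_surjective φ hsurj, ← RingHom.ker_eq_comap_bot, sup_eq_left.mpr hker]
  have hQ'0 : q'.map φ ≠ ⊥ := by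
    intro he
    obtain ⟨x, hxq', hxq⟩ := Set.exists_of_ssubset hqq'
    apply hxq
    have : φ x ∈ q'.map φ := Ideal.mem_map_of_mem φ hxq'
    rw [he, Ideal.mem_bot] at this
    exact Ideal.Quotient.eq_zero_iff_mem.mp this
  have hmax := isMaximal_of_forall_mem (φ (f * g)) hh hall (q'.map φ) hQ'0
  have hq'max : q'.IsMaximal := by
    rw [← hcomap]
    exact Ideal.comap_isMaximal_of_surjective φ hsurj
  exact (Ideal.mem_sInf.mp hf) ⟨bot_le, hq'max⟩

/-- Let A be a Noetherian ring and I an ideal contained in the Jacobson radical of A (a Zariski pair).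
Then for every f in I the localization A_f is a Jacobson ring. -/
theorem result (A : Type u) [CommRing A] [IsNoetherianRing A] (I : Ideal A)
    (hI : I ≤ (⊥ : Ideal A).jacobson) (f : A) (hf : f ∈ I) : IsJacobsonRing (Localization.Away f) := by
  set S := Localization.Away f with hS
  set M := Submonoid.powers f with hM
  have hfj : f ∈ (⊥ : Ideal A).jacobson := hI hf
  rw [isJacobsonRing_iff_prime_eq]
  intro P hP
  haveI := hP
  apply le_antisymm _ Ideal.le_jacobson
  intro x hx
  by_contra hxP
  obtain ⟨a, s, rfl⟩ := IsLocalization.exists_mk'_eq M x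
  obtain ⟨hpprime, hpdisj⟩ := (IsLocalization.isPrime_iff_isPrime_disjoint M S P).mp hP
  haveI := hpprime
  have hap : a ∉ P.under A := by
    intro h
    apply hxP
    rw [IsLocalization.mk'_mem_iff]
    exact h
  have hfp : f ∉ P.under A := fun h =>
    Set.disjoint_left.mp hpdisj (Submonoid.mem_powers f) h
  obtain ⟨q, hqprime, hpq, hfq, haq, hqmax⟩ :=
    exists_prime_maximal_avoiding f hfj (P.under A) hfp a hap
  haveI := hqprime
  have hqdisj : Disjoint (M : Set A) (q : Set A) := by
    rw [Set.disjoint_left]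
    rintro _ ⟨n, rfl⟩ hn
    exact hfq (hqprime.mem_of_pow_mem n hn)
  have hQprime := IsLocalization.isPrime_of_isPrime_disjoint M S q hqprime hqdisj
  have hQunder : (q.map (algebraMap A S)).under A = q :=
    IsLocalization.under_map_of_isPrime_disjoint M S hqprime hqdisj
  have hPQ : P ≤ q.map (algebraMap A S) := by
    rw [← IsLocalization.map_under M S P]
    exact Ideal.map_mono hpq
  have hQmax : (q.map (algebraMap A S)).IsMaximal := by
    rw [Ideal.isMaximal_def]
    refine ⟨hQprime.ne_top, ?_⟩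
    intro J hJ
    by_contra hJtop
    obtain ⟨N, hN, hJN⟩ := Ideal.exists_le_maximal J hJtop
    haveI := hN.isPrime
    obtain ⟨hnprime, hndisj⟩ := (IsLocalization.isPrime_iff_isPrime_disjoint M S N).mp hN.isPrime
    have hle : q ≤ N.under A := by
      rw [← hQunder]
      exact Ideal.comap_mono (hJ.le.trans hJN)
    have hne : q ≠ N.under A := by
      intro he
      have h1 : q.map (algebraMap A S) = N := by
        rw [he, IsLocalization.map_under M S N]
      rw [h1] at hJ
      exact absurd hJN (not_le_of_gt hJ)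
    have := hqmax (N.under A) hnprime (lt_of_le_of_ne hle hne)
    exact Set.disjoint_left.mp hndisj (Submonoid.mem_powers f) this
  have hxQ : IsLocalization.mk' S a s ∈ q.map (algebraMap A S) :=
    (Ideal.mem_sInf.mp hx) ⟨hPQ, hQmax⟩
  rw [IsLocalization.mk'_mem_iff] at hxQ
  have : a ∈ (q.map (algebraMap A S)).under A := hxQ
  rw [hQunder] at this
  exact haq this

end Groth.Agent.S2011
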