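import Groth.Statements.S2012
import Groth.Agent.Lib.Helper1.WeaklyEtale

set_option autoImplicit false
universe u
open EtAlg

namespace Groth.Agent.S2012

/-- Let A be a ring and I an ideal contained in its Jacobson radical. Let B be an A-algebra which is
flat, integral and of finite presentation over A and such that A/I -> B/IB is bijective. Then A -> B
is bijective. -/
theorem result (A B : Type u) [CommRing A] [CommRing B] [Algebra A B]
    (I : Ideal A) (hI : I ≤ (⊥ : Ideal A).jacobson) [Module.Flat A B] [Algebra.IsIntegral A B] [Algebra.FinitePresentation A B]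
    (hq : Function.Bijective (Ideal.quotientMap (I.map (algebraMap A B)) (algebraMap A B) Ideal.le_comap_map)) :
    Function.Bijective (algebraMap A B) := by
  have hfin : Module.Finite A B := Algebra.IsIntegral.finite
  -- surjectivity via Nakayama
  have hsurj : Function.Surjective (algebraMap A B) := by
    have key : (⊤ : Submodule A B) ≤ LinearMap.range (Algebra.linearMap A B) := by
      apply Submodule.le_of_le_smul_of_le_jacobson_bot (I := I) hfin.fg_top hI
      intro b _
      obtain ⟨a, ha⟩ := hq.2 (Ideal.Quotient.mk _ b)
      obtain ⟨a, rfl⟩ := Ideal.Quotient.mk_surjective a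
      rw [Ideal.quotientMap_mk, Ideal.Quotient.eq] at ha
      rw [Submodule.mem_sup]
      refine ⟨algebraMap A B a, ⟨a, rfl⟩, b - algebraMap A B a, ?_, by ring⟩
      rw [Ideal.smul_top_eq_map]
      have := (I.map (algebraMap A B)).neg_mem ha
      simpa using this
    intro b
    obtain ⟨a, ha⟩ := key (Submodule.mem_top (x := b))
    exact ⟨a, ha⟩
  refine ⟨?_, hsurj⟩
  -- injectivity
  set K := RingHom.ker (algebraMap A B) with hK
  have hKfg : K.FG :=
    Algebra.FinitePresentation.ker_fG_of_surjective (Algebra.ofId A B) hsurj
  have hKidem : IsIdempotentElem K := by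
    rw [← Ideal.cotangent_subsingleton_iff]
    exact Groth.Agent.H1.subsingleton_cotangent_ker_of_flat (algebraMap A B) hsurj
      (RingHom.flat_algebraMap_iff.mpr inferInstance)
  obtain ⟨e, he, hKe⟩ := (Ideal.isIdempotentElem_iff_of_fg K hKfg).mp hKidem
  have hKI : K ≤ I := by
    intro x hx
    have h1 : Ideal.quotientMap (I.map (algebraMap A B)) (algebraMap A B) Ideal.le_comap_map
        (Ideal.Quotient.mk I x) = 0 := by
      rw [Ideal.quotientMap_mk, (RingHom.mem_ker).mp hx, map_zero]
    have h2 := hq.1 (h1.trans (map_zero _).symm)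
    exact Ideal.Quotient.eq_zero_iff_mem.mp h2
  have heK : e ∈ K := by rw [hKe]; exact Ideal.mem_span_singleton_self e
  have hej : e ∈ (⊥ : Ideal A).jacobson := hI (hKI heK)
  have hu : IsUnit (e * (-1) + 1) := Ideal.mem_jacobson_bot.mp hej (-1)
  have he0 : e = 0 := by
    have h3 : e * (e * (-1) + 1) = 0 := by
      have := he.eq
      linear_combination (-1 : A) * this
    exact (hu.mul_left_eq_zero).mp h3
  rw [injective_iff_map_eq_zero]
  intro x hx
  have : x ∈ K := hx
  rw [hKe, he0] at this
  simpa using this


end Groth.Agent.S2012
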