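import Groth.Statements.S2014
import Mathlib
import Groth.Agent.Lib.Helper1.HS2

set_option autoImplicit false
universe u
open EtAlg

namespace Groth.Agent.S2014

namespace Groth.Agent.S2014.Aux

open Groth.Agent.Lib.Helper1.HS

lemma step (R : Type u) [CommRing R] [IsNoetherianRing R] [IsLocalRing R]
    (x : R) (hx : x ∈ IsLocalRing.maximalIdeal R) (hmin : ∀ p ∈ minimalPrimes R, x ∉ p)
    (T : Finset (Ideal R)) (hT : ∀ p ∈ T, p ∈ minimalPrimes R) (q : Ideal R)
    (hq : q ∈ minimalPrimes R) (hqT : q ∉ T) :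
    Module.length R (R ⧸ (Ideal.span {x} ⊔ T.inf id)) + 1 ≤
      Module.length R (R ⧸ (Ideal.span {x} ⊔ (T.inf id ⊓ q))) := by
  set I : Ideal R := T.inf id with hI
  have hle : Ideal.span {x} ⊔ (I ⊓ q) ≤ Ideal.span {x} ⊔ I := sup_le_sup_left inf_le_left _
  rw [length_quotient_of_le (A := R) (M := R) hle, add_comm]
  gcongr
  rw [Order.one_le_iff_ne_zero, Ne, Module.length_eq_zero_iff, not_subsingleton_iff_nontrivial,
    Submodule.Quotient.nontrivial_iff]
  intro heq
  -- heq : submoduleOf = ⊤, i.e. span x ⊔ I ≤ span x ⊔ (I ⊓ q)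
  have hle' : Ideal.span {x} ⊔ I ≤ Ideal.span {x} ⊔ (I ⊓ q) := by
    rw [Submodule.submoduleOf, Submodule.comap_subtype_eq_top] at heq
    exact heq
  have hqp : q.IsPrime := hq.1.1
  -- I ≤ (I ⊓ q) ⊔ x • I
  have key : I ≤ (I ⊓ q) ⊔ Ideal.span {x} • I := by
    intro a ha
    have h1 : a ∈ Ideal.span {x} ⊔ (I ⊓ q) := hle' (Ideal.mem_sup_right ha)
    obtain ⟨y, hy, b, hb, rfl⟩ := Submodule.mem_sup.1 h1
    obtain ⟨c, rfl⟩ := Ideal.mem_span_singleton'.1 hy
    have hcx : c * x ∈ I := by
      have := I.sub_mem ha (inf_le_left (a := I) (b := q) hb)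
      simpa using this
    have hc : c ∈ I := by
      rw [hI, Submodule.mem_finsetInf]
      intro p hp
      have hpp : (id p : Ideal R).IsPrime := (hT p hp).1.1
      have hcx' : c * x ∈ id p := by
        have := hcx
        rw [hI, Submodule.mem_finsetInf] at this
        exact this p hp
      rcases hpp.mem_or_mem hcx' with h | h
      · exact h
      · exact absurd h (hmin p (hT p hp))
    refine Submodule.mem_sup.2 ⟨b, hb, c * x, ?_, by ring⟩
    rw [mul_comm]
    exact Submodule.smul_mem_smul (Ideal.mem_span_singleton_self x) hc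
  have hjac : Ideal.span {x} ≤ Ideal.jacobson (⊥ : Ideal R) := by
    rw [IsLocalRing.jacobson_eq_maximalIdeal ⊥ bot_ne_top]
    exact (Ideal.span_singleton_le_iff_mem _).2 hx
  have hI_le : I ≤ I ⊓ q :=
    Submodule.le_of_le_smul_of_le_jacobson_bot (IsNoetherian.noetherian I) hjac key
  have hIq : T.inf id ≤ q := le_trans hI_le inf_le_right
  obtain ⟨p, hp, hpq⟩ := (Ideal.IsPrime.inf_le' hqp).1 hIq
  have : p = q := le_antisymm hpq (hq.2 ⟨(hT p hp).1.1, bot_le⟩ hpq)
  exact hqT (this ▸ hp)

lemma main (R : Type u) [CommRing R] [IsNoetherianRing R] [IsLocalRing R]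
    (x : R) (hx : x ∈ IsLocalRing.maximalIdeal R) (hmin : ∀ p ∈ minimalPrimes R, x ∉ p)
    (T : Finset (Ideal R)) (hT : ∀ p ∈ T, p ∈ minimalPrimes R) :
    (T.card : ℕ∞) ≤ Module.length R (R ⧸ (Ideal.span {x} ⊔ T.inf id)) := by
  classical
  induction T using Finset.induction_on with
  | empty => simp
  | insert q T hqT ih =>
    have hT' : ∀ p ∈ T, p ∈ minimalPrimes R := fun p hp => hT p (Finset.mem_insert_of_mem hp)
    have hq : q ∈ minimalPrimes R := hT q (Finset.mem_insert_self q T)
    have h1 := step R x hx hmin T hT' q hq hqT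
    have h2 := ih hT'
    rw [Finset.card_insert_of_notMem hqT, Finset.inf_insert, id, inf_comm]
    push_cast
    exact le_trans (by gcongr) h1

end Groth.Agent.S2014.Aux

/-- Let R be a Noetherian local ring of Krull dimension 1 and x an element of the maximal ideal
contained in no minimal prime of R. Then the number of minimal prime ideals of R is at most the
length of R/xR as an R-module. -/
theorem result (R : Type u) [CommRing R] [IsNoetherianRing R] [IsLocalRing R]
    (hdim : ringKrullDim R = 1) (x : R) (hx : x ∈ IsLocalRing.maximalIdeal R) (hmin : ∀ p ∈ minimalPrimes R, x ∉ p) :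
    (Set.ncard (minimalPrimes R) : ℕ∞) ≤ Module.length R (R ⧸ Ideal.span {x}) := by
  have hfin : (minimalPrimes R).Finite := minimalPrimes.finite_of_isNoetherianRing R
  have h := Groth.Agent.S2014.Aux.main R x hx hmin hfin.toFinset (fun p hp => by simpa using hp)
  rw [Set.ncard_eq_toFinset_card _ hfin]
  refine le_trans h ?_
  have hle : Ideal.span {x} ≤ Ideal.span {x} ⊔ hfin.toFinset.inf id := le_sup_left
  rw [Groth.Agent.Lib.Helper1.HS.length_quotient_of_le (A := R) (M := R) hle]
  exact le_add_self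

end Groth.Agent.S2014
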