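import Groth.Statements.S2018
import Mathlib.Algebra.Polynomial.Lifts

set_option autoImplicit false
universe u
open EtAlg
open Polynomial

namespace Groth.Agent.S2018

/-- Let g : A' -> A be a surjective ring map and f : B -> A an integral ring map. Then the projection
from the fibre product B ×_A A' (the equalizer of f ∘ pr₁ and g ∘ pr₂ in B × A') to A' is integral. -/
theorem result (A A' B : Type u) [CommRing A] [CommRing A'] [CommRing B] (g : A' →+* A)
    (hg : Function.Surjective g) (f : B →+* A) (hf : f.IsIntegral) :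
    ((RingHom.snd B A').comp ((f.comp (RingHom.fst B A')).eqLocus (g.comp (RingHom.snd B A'))).subtype).IsIntegral := by
  set P := (f.comp (RingHom.fst B A')).eqLocus (g.comp (RingHom.snd B A')) with hP
  set φ : P →+* A' := (RingHom.snd B A').comp P.subtype with hφ
  let ψ : P →+* B := (RingHom.fst B A').comp P.subtype
  have hcomm : g.comp φ = f.comp ψ := by
    ext ⟨x, hx⟩
    exact hx.symm
  have hψ : Function.Surjective ψ := by
    intro b
    obtain ⟨a', ha'⟩ := hg (f b)
    exact ⟨⟨(b, a'), by simp [hP, RingHom.mem_eqLocus, ha']⟩, rfl⟩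
  intro a'
  obtain ⟨p, hp, hpe⟩ := hf (g a')
  obtain ⟨q₀, hq₀, -, hq₀m⟩ := lifts_and_natDegree_eq_and_monic
    ((mem_lifts _).mpr (Polynomial.map_surjective ψ hψ p)) hp
  set c := eval₂ φ a' q₀ with hc
  have hgc : g c = 0 := by
    rw [hc, Polynomial.hom_eval₂, hcomm, ← Polynomial.eval₂_map, hq₀, hpe]
  let z : P := ⟨(0, c * a'), by simp [hP, RingHom.mem_eqLocus, hgc]⟩
  refine ⟨q₀ * X - C z, ?_, ?_⟩
  · cases subsingleton_or_nontrivial P with
    | inl h => exact Subsingleton.elim _ _
    | inr h =>
      apply Monic.sub_of_left (hq₀m.mul monic_X)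
      rw [degree_mul_X]
      refine degree_C_le.trans_lt ?_
      rw [degree_eq_natDegree hq₀m.ne_zero]
      exact_mod_cast Nat.succ_pos _
  · rw [eval₂_sub, eval₂_mul, eval₂_X, eval₂_C]
    simp [z, hφ, hc]


end Groth.Agent.S2018
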