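import Groth.Statements.S2035
import Groth.Agent.Lib.Helper5.CA.FSField
import Groth.Agent.Lib.Helper5.CA.PerfGR

set_option autoImplicit false
universe u
open CAlg

namespace Groth.Agent.S2035

/-- Let `k` be a field of characteristic zero and `A` a Noetherian local `k`-algebra. Then `A` is a
regular local ring if and only if `k → A` is formally smooth for the adic topology of the maximal
ideal. -/
theorem result {k A : Type u} [Field k] [CharZero k]
    [CommRing A] [IsLocalRing A] [IsNoetherianRing A] [Algebra k A] :
    IsRegularLocalRing A ↔ CAlgX.IsAdicFormallySmooth k A (IsLocalRing.maximalIdeal A) := by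
  haveI : Algebra.IsGeometricallyReduced k (IsLocalRing.ResidueField A) :=
    Groth.Agent.H5.isGeometricallyReduced_of_perfectField k _
  exact (Groth.Agent.H5.FSField.tfae k A).out 3 0

end Groth.Agent.S2035
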