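import Groth.Statements.S2037
import Groth.Agent.Lib.Helper5.CA.NG18

set_option autoImplicit false
universe u
open CAlg

namespace Groth.Agent.S2037

open TensorProduct in
/-- Let `k` be a field of characteristic `p > 0` and `A` a Noetherian local `k`-algebra. Then `A` is
geometrically regular over `k` if and only if `k' ⊗ A` is a regular ring for every finite extension
`k'` of `k` in which every element has its `p`-th power in `k`. -/
theorem result {k A : Type u} [Field k] (p : ℕ)
    [Fact p.Prime] [CharP k p] [CommRing A] [IsLocalRing A] [IsNoetherianRing A] [Algebra k A] :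
    CAlg.IsGeometricallyRegular k A ↔
      ∀ (k' : Type u) [Field k'] [Algebra k k'], Module.Finite k k' →
        (∀ x : k', x ^ p ∈ Set.range (algebraMap k k')) → IsRegularRing (k' ⊗[k] A) := by
  haveI : ExpChar k p := ExpChar.prime (Fact.out)
  constructor
  · intro h k' _ _ hfin _
    exact h k' hfin
  · intro h
    have h1 : CAlgX.IsAdicFormallySmooth k A (IsLocalRing.maximalIdeal A) :=
      (H5.NG.main4573 (k := k) (A := A) p).mpr (fun k' _ _ hfin hx =>
        h k' hfin (fun x => by
          obtain ⟨y, hy⟩ := hx x
          exact ⟨y, hy⟩))
    exact Groth.Agent.H5.GR.isGeometricallyRegular_of_isAdicFormallySmooth k A h1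

end Groth.Agent.S2037
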