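import Groth.Statements.S2046
import Groth.Agent.Lib.Helper5.CD.U1

set_option autoImplicit false
universe u
open CAlg

namespace Groth.Agent.S2046



/-- If `R` is a Noetherian local G-ring then its strict henselization is a G-ring. -/
theorem result {R S : Type u} [CommRing R] [IsLocalRing R] [IsNoetherianRing R]
    (hR : CAlg.IsGRing R) [CommRing S] [IsLocalRing S] [Algebra R S] [IsLocalHom (algebraMap R S)]
    [Hensel.IsStrictHenselization R S] : CAlg.IsGRing S := by
  exact Groth.Agent.H5.GRC.U1.isGRing_of_isStrictHenselization hR

end Groth.Agent.S2046
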