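import Groth.Statements.S2053
import Groth.Agent.Lib.Helper5.FSm.CDiag
import Groth.Agent.Lib.Helper5.CA.NG8

set_option autoImplicit false
universe u
open CAlg

namespace Groth.Agent.S2053

/-- Consider a local homomorphism `A → B` between complete Noetherian local rings. Then there are power
series rings `R`, `S` in finitely many variables over coefficient rings which are both fields (when
the residue characteristic of `A` is zero) or both Cohen rings (when it is positive), surjections `R
→ A`, `S → B` and a ring map `R → S` making the square commute, such that `R → S` is flat and `S/𝔪_R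
S` is a regular ring. (The published statement also arranges that a regular system of parameters
maps into one; that is not asserted here.) -/
theorem result {A B : Type u} [CommRing A] [CommRing B]
    [IsLocalRing A] [IsLocalRing B] [IsNoetherianRing A] [IsNoetherianRing B]
    [IsAdicComplete (IsLocalRing.maximalIdeal A) A] [IsAdicComplete (IsLocalRing.maximalIdeal B) B]
    [Algebra A B] [IsLocalHom (algebraMap A B)] :
    ∃ (Λ Λ' : Type u) (_ : CommRing Λ) (_ : CommRing Λ') (_ : IsLocalRing Λ) (n m : ℕ)
      (ρ : MvPowerSeries (Fin n) Λ →+* A) (σ : MvPowerSeries (Fin m) Λ' →+* B)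
      (τ : MvPowerSeries (Fin n) Λ →+* MvPowerSeries (Fin m) Λ'),
      ((CharZero (IsLocalRing.ResidueField A) ∧ IsField Λ ∧ IsField Λ') ∨
        (¬ CharZero (IsLocalRing.ResidueField A) ∧ CAlg.IsCohenRing Λ ∧ CAlg.IsCohenRing Λ')) ∧
        Function.Surjective ρ ∧ Function.Surjective σ ∧ σ.comp τ = (algebraMap A B).comp ρ ∧
        τ.Flat ∧ IsRegularRing (MvPowerSeries (Fin m) Λ' ⧸
          (IsLocalRing.maximalIdeal (MvPowerSeries (Fin n) Λ)).map τ) := by
  classical
  obtain ⟨q, hq⟩ := CharP.exists (IsLocalRing.ResidueField A)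
  obtain ⟨m, b, hb⟩ := Submodule.fg_iff_exists_fin_generating_family.mp
    (IsNoetherian.noetherian (IsLocalRing.maximalIdeal B))
  have hb' : IsLocalRing.maximalIdeal B =
      (IsLocalRing.maximalIdeal A).map (algebraMap A B) ⊔ Ideal.span (Set.range b) := by
    apply le_antisymm
    · exact le_trans (le_of_eq hb.symm) le_sup_right
    · exact sup_le (IsLocalRing.map_maximalIdeal_le _) (le_of_eq hb)
  obtain ⟨Λ, Λ', _, _, _, _, n, ρ, σ, τ, h0, h1, -, -, -, hρ, hσ, hcomm, -, -, hflat, hloc, hreg, -⟩ :=
    Groth.Agent.H5.FSm.exists_cohen_diagram b hb' q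
  refine ⟨Λ, Λ', inferInstance, inferInstance, inferInstance, n, m + n, ρ, σ, τ, ?_, hρ, hσ, hcomm,
    hflat, ?_⟩
  · by_cases hq0 : q = 0
    · subst hq0
      exact Or.inl ⟨CharP.charP_to_charZero _, (h0 rfl).1, (h0 rfl).2⟩
    · refine Or.inr ⟨fun hc => hq0 ?_, (h1 hq0).1, (h1 hq0).2⟩
      haveI := hc
      exact CharP.eq (IsLocalRing.ResidueField A) hq (CharP.ofCharZero _)
  · exact H5.NG.isRegularRing_of_isRegularLocalRing _

end Groth.Agent.S2053
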