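import Groth.Statements.S6880
import Groth.Agent.Lib.Helper6.HomKer

set_option autoImplicit false
universe u
open CAlg

namespace Groth.Agent.S6880

/-- Let `R` be a Noetherian domain and `M` a finite reflexive `R`-module. For a prime `𝔭` with
`depth(R_𝔭) ≥ 2` one has `depth(M_𝔭) ≥ 2`; and if `R` has `(S_2)` then `M` has `(S_2)`. -/
theorem result (R : Type u) [CommRing R] [IsDomain R] [IsNoetherianRing R] (M : Type u)
    [AddCommGroup M] [Module R M] [Module.Finite R M] [Module.IsReflexive R M] :
    (∀ (p : Ideal R) [p.IsPrime], 2 ≤ LocCoh.depth (Localization.AtPrime p) (Localization.AtPrime p) →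
      2 ≤ LocCoh.depth (Localization.AtPrime p) (LocalizedModule p.primeCompl M)) ∧
    (LocCoh.HasSk 2 R R → LocCoh.HasSk 2 R M) := by
  refine ⟨?_, (H6.Refl.reflexive_depth_sk (⊥ : Ideal R) M).2.2.2⟩
  intro p hp h
  haveI : IsNoetherianRing (Localization.AtPrime p) :=
    IsLocalization.isNoetherianRing p.primeCompl _ inferInstance
  have e0 : LocalizedModule p.primeCompl R ≃ₗ[Localization.AtPrime p] Localization.AtPrime p :=
    (IsLocalizedModule.iso p.primeCompl
      (Algebra.linearMap R (Localization.AtPrime p))).extendScalarsOfIsLocalization p.primeCompl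
        (Localization.AtPrime p)
  have hR : H6.Depth.LocDepthGE R p 2 := by
    rw [H6.Depth.locDepthGE_iff]
    unfold LocCoh.depth at h ⊢
    rw [H6.HomKer.idealDepth_congr _ e0]
    exact_mod_cast h
  obtain ⟨n, m, u, ⟨e⟩⟩ := H6.Refl.exists_ker_equiv (A := R) M
  have hker : H6.Depth.LocDepthGE (LinearMap.ker u) p 2 :=
    H6.Depth.locDepthGE_two_ker u p (H6.Depth.locDepthGE_free _ p 2 hR)
      (H6.Depth.locDepthGE_free _ p 1 (H6.Depth.locDepthGE_mono p one_le_two hR))
  have hM : H6.Depth.LocDepthGE M p 2 := by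
    intro i hi
    have h1 := hker i hi
    rw [LocalizedModule.subsingleton_iff] at h1 ⊢
    exact H6.Depth.loc_vanish_of_linearEquiv e.symm p i p.primeCompl h1
  rw [H6.Depth.locDepthGE_iff] at hM
  exact_mod_cast hM

end Groth.Agent.S6880
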