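import Groth.Statements.S2054
import Groth.Agent.Lib.Helper6.SerreNormal
import Groth.Agent.Lib.Helper6.CMChain
import Groth.Agent.S6873
import Groth.Agent.S6879
import Groth.Agent.S6880

set_option autoImplicit false
universe u
open CAlg

namespace Groth.Agent.S2054

/-- Let `R` be a Noetherian normal domain and `M` a finite `R`-module. Then `M` is reflexive (the map to
its double dual is bijective) if and only if `M` is torsion free and satisfies Serre's condition
`(S_2)`. -/
theorem result {R M : Type u} [CommRing R] [IsDomain R] [IsNoetherianRing R]
    [IsIntegrallyClosed R] [AddCommGroup M] [Module R M] [Module.Finite R M] :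
    Module.IsReflexive R M ↔ NoZeroSMulDivisors R M ∧ LocCoh.HasSk 2 R M := by
  constructor
  · intro h
    haveI := h
    constructor
    · obtain ⟨n, f, hf, -⟩ := (Groth.Agent.S6873.result R M).mp h
      exact Function.Injective.noZeroSMulDivisors f hf (map_zero f) (fun c x => map_smul f c x)
    · exact (Groth.Agent.S6880.result R M).2 (Groth.Agent.H6.SerreNormal.hasSk_two_of_normal R)
  · rintro ⟨htf, hS⟩
    rw [Groth.Agent.S6879.result R M]
    intro p hp
    haveI : Module.IsTorsionFree R M :=
      Module.IsTorsionFree.of_smul_eq_zero
        (fun r m h => htf.eq_zero_or_eq_zero_of_smul_eq_zero h)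
    haveI : Module.IsTorsionFree (Localization.AtPrime p) (LocalizedModule p.primeCompl M) :=
      inferInstanceAs (Module.IsTorsionFree (Localization p.primeCompl)
        (LocalizedModule p.primeCompl M))
    haveI : IsNoetherianRing (Localization.AtPrime p) :=
      IsLocalization.isNoetherianRing p.primeCompl _ inferInstance
    haveI : Module.Finite (Localization.AtPrime p) (LocalizedModule p.primeCompl M) :=
      Module.Finite.of_isLocalizedModule p.primeCompl (LocalizedModule.mkLinearMap p.primeCompl M)
    have hle : p.primeCompl ≤ nonZeroDivisors R := Ideal.primeCompl_le_nonZeroDivisors p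
    haveI : IsDomain (Localization.AtPrime p) := IsLocalization.isDomain_localization hle
    haveI : IsIntegrallyClosed (Localization.AtPrime p) :=
      isIntegrallyClosed_of_isLocalization (Localization.AtPrime p) p.primeCompl hle
    by_cases hht : p.height ≤ 1
    · left
      haveI : IsPrincipalIdealRing (Localization.AtPrime p) := by
        apply Groth.Agent.H6.SerreNormal.isPrincipalIdealRing_of_normal
        rw [Groth.Agent.H6.SerreNormal.height_maximalIdeal_localization]
        exact hht
      haveI : Module.Free (Localization.AtPrime p) (LocalizedModule p.primeCompl M) :=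
        Module.free_of_finite_type_torsion_free'
      infer_instance
    · by_cases hnt : Nontrivial (LocalizedModule p.primeCompl M)
      swap
      · left
        rw [not_nontrivial_iff_subsingleton] at hnt
        haveI : Module.Free (Localization.AtPrime p) (LocalizedModule p.primeCompl M) :=
          Module.Free.of_subsingleton _ _
        infer_instance
      right
      rw [not_le] at hht
      have h2 : (2 : ℕ∞) ≤ p.height := by
        have := Order.add_one_le_of_lt hht
        exact_mod_cast this
      have hsupp : Module.support (Localization.AtPrime p) (LocalizedModule p.primeCompl M) =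
          Set.univ := Module.support_of_noZeroSMulDivisors
      have hdim : Module.supportDim (Localization.AtPrime p) (LocalizedModule p.primeCompl M) =
          ((p.height : ℕ∞) : WithBot ℕ∞) := by
        rw [Groth.Agent.H6.CMChain.supportDim_eq_of_support_eq_univ hsupp,
          IsLocalization.AtPrime.ringKrullDim_eq_height p (Localization.AtPrime p)]
      have h1 := hS p
      rw [hdim] at h1
      have hc : ((2 : ℕ) : WithBot ℕ∞) = ((2 : ℕ∞) : WithBot ℕ∞) := rfl
      rw [hc, min_eq_left (WithBot.coe_le_coe.mpr h2)] at h1
      exact WithBot.coe_le_coe.mp h1

end Groth.Agent.S2054
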