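import Groth.Statements.S2069
import Groth.Agent.Lib.Helper1.AssFlat

set_option autoImplicit false
universe u
open CAlg

namespace Groth.Agent.S2069


open TensorProduct in
/-- Let `R → S` be a ring map, `M` an `R`-module and `N` an `S`-module flat over `R`. Then a prime of
`S` is associated to `N ⊗_R M` if and only if it is associated to `N/𝔭N` for some prime `𝔭` of `R`
associated to `M`. -/
theorem result {R S M N : Type u} [CommRing R] [IsNoetherianRing R] [CommRing S]
    [Algebra R S] [AddCommGroup M] [Module R M] [AddCommGroup N] [Module S N] [Module R N]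
    [IsScalarTower R S N] [Module.Flat R N] :
    associatedPrimes S (N ⊗[R] M) =
      ⋃ p ∈ associatedPrimes R M, associatedPrimes S (N ⧸ p.map (algebraMap R S) • (⊤ : Submodule S N)) := by
  ext P
  simp only [Set.mem_iUnion, exists_prop]
  constructor
  · intro hP
    refine ⟨P.comap (algebraMap R S), Groth.Agent.H1.AssFlat.comap_mem_associatedPrimes N M P hP, ?_⟩
    obtain ⟨hprime, ξ, hξ⟩ := hP
    obtain ⟨M', hfin, ξ', -, hξ'⟩ := Groth.Agent.H1.AssFlat.exists_finite_submodule N M P ξ hξ
    have h1 : P ∈ associatedPrimes S (N ⊗[R] M') := ⟨hprime, ξ', hξ'⟩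
    have h2 := Groth.Agent.H1.AssFlat.mem_associatedPrimes_quot_comap_of_finite N M' P h1
    rw [LinearEquiv.AssociatedPrimes.eq (Groth.Agent.H1.AssFlat.quotEquiv (S := S) N
      (P.comap (algebraMap R S)))]
    exact h2
  · rintro ⟨p, hp, hP⟩
    obtain ⟨hpp, f, hf⟩ := (isAssociatedPrime_iff_exists_injective_linearMap p M).mp hp
    rw [LinearEquiv.AssociatedPrimes.eq (Groth.Agent.H1.AssFlat.quotEquiv (S := S) N p)] at hP
    have hinj : Function.Injective (TensorProduct.AlgebraTensorModule.lTensor S N f) :=
      Module.Flat.lTensor_preserves_injective_linearMap (M := N) f hf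
    exact associatedPrimes.subset_of_injective hinj hP

end Groth.Agent.S2069
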