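import Groth.Statements.S2073
import Mathlib
import Groth.Agent.Lib.Helper1.GenericNN

set_option autoImplicit false
universe u
open CAlg

namespace Groth.Agent.S2073


/-- Let `R` be a domain and `R → S` an injective ring map of finite type. Then there are elements `y_1,
…, y_d` of `S` algebraically independent over `R`, a finitely generated `R`-subalgebra `S'` of `S`
containing them and integral over `R[y_1, …, y_d]`, and a nonzero `f ∈ R` such that every element of
`S` lands in `S'` after multiplication by a power of `f`. -/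
theorem result {R S : Type u} [CommRing R] [IsDomain R] [CommRing S] [Algebra R S]
    [Algebra.FiniteType R S] (hinj : Function.Injective (algebraMap R S)) :
    ∃ (d : ℕ) (y : Fin d → S) (S' : Subalgebra R S), AlgebraicIndependent R y ∧ (∀ i, y i ∈ S') ∧ S'.FG ∧
      (∀ s ∈ S', IsIntegral (Algebra.adjoin R (Set.range y)) s) ∧
      ∃ f : R, f ≠ 0 ∧ ∀ s : S, ∃ n : ℕ, (f ^ n) • s ∈ S' := by
  classical
  obtain ⟨d, y, f, hf0, hind, G, hG, hint⟩ := Groth.Agent.H1.GNN.main (R := R) (S := S) hinj
  set S' := Algebra.adjoin R (Set.range y ∪ (fun x => f • x) '' (G : Set S)) with hS'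
  refine ⟨d, y, S', hind, fun i => Algebra.subset_adjoin (Or.inl ⟨i, rfl⟩), ?_, ?_, f, hf0, ?_⟩
  · exact Subalgebra.fg_def.mpr ⟨_, (Set.finite_range y).union ((Finset.finite_toSet G).image _), rfl⟩
  · have hle : S' ≤ (integralClosure (Algebra.adjoin R (Set.range y)) S).restrictScalars R := by
      refine Algebra.adjoin_le ?_
      rintro s (⟨i, rfl⟩ | ⟨x, hx, rfl⟩)
      · change IsIntegral _ _
        have : y i = algebraMap (Algebra.adjoin R (Set.range y)) S ⟨y i, Algebra.subset_adjoin ⟨i, rfl⟩⟩ := rfl
        rw [this]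
        exact isIntegral_algebraMap
      · exact hint x hx
    intro s hs
    exact hle hs
  · intro s
    have hs : s ∈ Algebra.adjoin R (G : Set S) := by rw [hG]; trivial
    induction hs using Algebra.adjoin_induction with
    | mem x hx =>
      refine ⟨1, ?_⟩
      rw [pow_one]
      exact Algebra.subset_adjoin (Or.inr ⟨x, hx, rfl⟩)
    | algebraMap r =>
      refine ⟨0, ?_⟩
      rw [pow_zero, one_smul]
      exact Subalgebra.algebraMap_mem _ r
    | add a b _ _ ha hb =>
      obtain ⟨n, hn⟩ := ha
      obtain ⟨m, hm⟩ := hb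
      refine ⟨n + m, ?_⟩
      rw [smul_add]
      refine S'.add_mem ?_ ?_
      · rw [pow_add, mul_comm, mul_smul]
        exact S'.smul_mem hn _
      · rw [pow_add, mul_smul]
        exact S'.smul_mem hm _
    | mul a b _ _ ha hb =>
      obtain ⟨n, hn⟩ := ha
      obtain ⟨m, hm⟩ := hb
      refine ⟨n + m, ?_⟩
      have : f ^ (n + m) • (a * b) = (f ^ n • a) * (f ^ m • b) := by
        rw [pow_add, smul_mul_smul_comm]
      rw [this]
      exact S'.mul_mem hn hm

end Groth.Agent.S2073
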