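import Groth.Statements.S2076
import Groth.Agent.Lib.Helper5.AlgSp.Limits.EvClosedImm

set_option autoImplicit false
universe u
open CategoryTheory AlgebraicGeometry
open Lim

namespace Groth.Agent.S2076

/-- Let `X = lim X_i` be a cofiltered limit of quasi-compact schemes over `S` with affine transition
morphisms and `h : Y → X` a closed immersion with `Y → S` locally of finite type. Then `Y → X_i` is
a closed immersion for some `i`. -/
theorem result {I : Type u} [SmallCategory I] [IsCofiltered I] (S : Scheme.{u})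
    (D : I ⥤ Over S) (c : Limits.Cone D) (hc : Limits.IsLimit c)
    [∀ (i j : I) (f : i ⟶ j), IsAffineHom (D.map f).left] [∀ i, CompactSpace (D.obj i).left]
    {Y : Scheme.{u}} (h : Y ⟶ c.pt.left) [IsClosedImmersion h] [LocallyOfFiniteType (h ≫ c.pt.hom)] :
    ∃ i : I, IsClosedImmersion (h ≫ (c.π.app i).left) := by
  classical
  let Ds : I ⥤ Scheme.{u} := D ⋙ Over.forget S
  let cs : Limits.Cone Ds := (Over.forget S).mapCone c
  have hcs : Limits.IsLimit cs := Limits.isLimitOfPreserves (Over.forget S) hc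
  have hDs : ∀ {i j : I} (f : i ⟶ j), IsAffineHom (Ds.map f) := fun f =>
    inferInstanceAs (IsAffineHom (D.map f).left)
  have hcp : ∀ i, CompactSpace (Ds.obj i) := fun i => inferInstanceAs (CompactSpace (D.obj i).left)
  obtain ⟨i₀⟩ := IsCofiltered.nonempty (C := I)
  obtain ⟨h', hh'⟩ : ∃ h' : Y ⟶ cs.pt, h' = h := ⟨h, rfl⟩
  have hcl' : IsClosedImmersion h' := hh'.symm ▸ (inferInstance : IsClosedImmersion h)
  suffices hsuff : ∃ i : I, IsClosedImmersion (h' ≫ cs.π.app i) by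
    obtain ⟨i, hi⟩ := hsuff
    rw [hh'] at hi
    exact ⟨i, hi⟩
  have hπ : ∀ i, IsAffineHom (cs.π.app i) := fun i => isAffineHom_π_app Ds cs hcs i
  have hft₀ : LocallyOfFiniteType (h' ≫ cs.π.app i₀) := by
    have e : (h' ≫ cs.π.app i₀) ≫ (D.obj i₀).hom = h ≫ c.pt.hom := by
      rw [Category.assoc, hh']
      congr 1
      exact Over.w (c.π.app i₀)
    have : LocallyOfFiniteType ((h' ≫ cs.π.app i₀) ≫ (D.obj i₀).hom) := by
      rw [e]; infer_instance
    exact locallyOfFiniteType_of_comp _ (D.obj i₀).hom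
  have key : ∀ U : (Ds.obj i₀).Opens, IsAffineOpen U → ∃ j : Over i₀,
      ∀ (j' : Over i₀) (_ : j' ⟶ j),
        IsClosedImmersion ((h' ≫ cs.π.app j'.left) ∣_ (Ds.map j'.hom ⁻¹ᵁ U)) := by
    intro U hU
    have hV : IsAffineOpen (cs.π.app i₀ ⁻¹ᵁ U) := hU.preimage (cs.π.app i₀)
    have hW : IsAffineOpen (h' ⁻¹ᵁ (cs.π.app i₀ ⁻¹ᵁ U)) := hV.preimage h'
    have haff : ∀ j : Over i₀, IsAffine ((opensDiagram Ds i₀ U).obj j) := fun j =>
      hU.preimage (Ds.map j.hom)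
    have : IsAffine (h' ⁻¹ᵁ (cs.π.app i₀ ⁻¹ᵁ U)).toScheme := hW
    let w : (h' ⁻¹ᵁ (cs.π.app i₀ ⁻¹ᵁ U)).toScheme ⟶ (opensCone Ds cs i₀ U).pt := h' ∣_ (cs.π.app i₀ ⁻¹ᵁ U)
    have hw : IsClosedImmersion w := inferInstanceAs (IsClosedImmersion (h' ∣_ (cs.π.app i₀ ⁻¹ᵁ U)))
    have hwπ : ∀ j' : Over i₀, w ≫ (opensCone Ds cs i₀ U).π.app j' =
        (h' ≫ cs.π.app j'.left).resLE (Ds.map j'.hom ⁻¹ᵁ U) (h' ⁻¹ᵁ (cs.π.app i₀ ⁻¹ᵁ U)) (by
          rw [Scheme.Hom.comp_preimage, ← Scheme.Hom.comp_preimage (cs.π.app j'.left), cs.w]) := by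
      intro j'
      simp only [w, opensCone_π_app, ← Scheme.Hom.resLE_eq_morphismRestrict]
      exact Scheme.Hom.resLE_comp_resLE _ _ _ _
    obtain ⟨j, -, hj⟩ := Groth.Agent.H5.AlgSp.Lim.exists_isClosedImmersion_comp_π_of_isAffine
      (opensDiagram Ds i₀ U) (opensCone Ds cs i₀ U) (isLimitOpensCone Ds cs hcs i₀ U) w hw
      (Over.mk (𝟙 i₀)) (by
        rw [hwπ]
        exact IsZariskiLocalAtSource.resLE _ hft₀)
    refine ⟨j, fun j' φ => ?_⟩
    have h1 := hj j' φ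
    rw [hwπ] at h1
    rw [← Scheme.Hom.resLE_eq_morphismRestrict]
    refine (Scheme.Hom.resLE_congr _ _ rfl ?_ @IsClosedImmersion).mp h1
    rw [Scheme.Hom.comp_preimage, ← Scheme.Hom.comp_preimage (cs.π.app j'.left), cs.w]
  -- finite affine cover of `X_{i₀}`
  obtain ⟨s, hs⟩ := isCompact_univ.elim_finite_subcover
    (fun V : (Ds.obj i₀).affineOpens => ((V : (Ds.obj i₀).Opens) : Set (Ds.obj i₀)))
    (fun V => V.1.2) (by
      intro x _
      obtain ⟨_, ⟨V, hV : IsAffineOpen V, rfl⟩, hxV, -⟩ :=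
        (Ds.obj i₀).isBasis_affineOpens.exists_subset_of_mem_open (Set.mem_univ x) isOpen_univ
      exact Set.mem_iUnion.mpr ⟨⟨V, hV⟩, hxV⟩)
  choose jV hjV using fun V : (Ds.obj i₀).affineOpens => key V.1 V.2
  obtain ⟨j, hj⟩ := IsCofiltered.inf_objs_exists (s.image jV)
  refine ⟨j.left, ?_⟩
  rw [IsZariskiLocalAtTarget.iff_of_iSup_eq_top (P := @IsClosedImmersion)
    (fun V : s => Ds.map j.hom ⁻¹ᵁ (V.1 : (Ds.obj i₀).Opens))]
  · intro V
    exact hjV V.1 j (hj (Finset.mem_image_of_mem jV V.2)).some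
  · rw [eq_top_iff]
    intro x _
    have := hs (Set.mem_univ ((Ds.map j.hom).base x))
    simp only [Set.mem_iUnion] at this
    obtain ⟨V, hVs, hxV⟩ := this
    exact TopologicalSpace.Opens.mem_iSup.mpr ⟨⟨V, hVs⟩, hxV⟩

end Groth.Agent.S2076
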