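import Groth.Statements.S2083
import Groth.Agent.Lib.Helper6.CMKit

set_option autoImplicit false
open scoped Pointwise
universe u
open CAlg

namespace Groth.Agent.S2083

/-- Let `R` be a Noetherian local ring, `M` a finite Cohen–Macaulay `R`-module and `g` a member of the
maximal ideal for which the support of `M/gM` has dimension exactly one less than that of `M`. Then
`g` is a nonzerodivisor on `M`, and the quotient `M/gM` is again Cohen–Macaulay, with depth one
smaller than that of `M`. -/
theorem result {R M : Type u} [CommRing R] [IsLocalRing R] [IsNoetherianRing R]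
    [AddCommGroup M] [Module R M] [Module.Finite R M] (hM : LocCoh.IsCohenMacaulayModule R M) (g : R)
    (hg : g ∈ IsLocalRing.maximalIdeal R)
    (hdim : Module.supportDim R (M ⧸ Ideal.span {g} • (⊤ : Submodule R M)) + 1 = Module.supportDim R M) :
    IsSMulRegular M g ∧ LocCoh.IsCohenMacaulayModule R (M ⧸ Ideal.span {g} • (⊤ : Submodule R M)) ∧
      LocCoh.depth R (M ⧸ Ideal.span {g} • (⊤ : Submodule R M)) + 1 = LocCoh.depth R M := by
  have heq : g • (⊤ : Submodule R M) = Ideal.span {g} • (⊤ : Submodule R M) :=
    ((⊤ : Submodule R M).ideal_span_singleton_smul g).symm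
  let e : QuotSMulTop g M ≃ₗ[R] (M ⧸ Ideal.span {g} • (⊤ : Submodule R M)) :=
    Submodule.quotEquivOfEq _ _ heq
  have hdim' : Module.supportDim R (QuotSMulTop g M) + 1 = Module.supportDim R M := by
    rw [Module.supportDim_eq_of_equiv e]
    exact hdim
  have hreg := (Groth.Agent.H6.CM.isSMulRegular_iff_of_cm M hM g hg).mpr hdim'
  refine ⟨hreg, ?_, ?_⟩
  · exact Groth.Agent.H6.CM.cm_of_linearEquiv e (Groth.Agent.H6.CM.cm_quotSMulTop M hM g hg hreg)
  · unfold LocCoh.depth
    rw [← Groth.Agent.H6.CM.idealDepth_eq_of_linearEquiv _ e]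
    exact Groth.Agent.H6.Depth.idealDepth_quotSMulTop_add_one _ M g hg hreg

end Groth.Agent.S2083
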