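import Groth.Statements.S2086
import Groth.Agent.Lib.Helper6.FiberDict
import Groth.Agent.Lib.Helper1.LocalCriterion

set_option autoImplicit false
universe u
open CAlg

namespace Groth.Agent.S2086


/-- Let `R → S` be a flat map of Noetherian rings such that `R` and all fibre rings `S ⊗ κ(𝔭)` satisfy
Serre's condition `(S_k)`. Then `S` satisfies `(S_k)`. -/
theorem result {R S : Type u} [CommRing R] [CommRing S] [IsNoetherianRing R] [IsNoetherianRing S]
    [Algebra R S] [Module.Flat R S] (k : ℕ) (hR : LocCoh.HasSk k R R)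
    (hfib : ∀ (p : Ideal R) [p.IsPrime], LocCoh.HasSk k (p.Fiber S) (p.Fiber S)) :
    LocCoh.HasSk k S S := by
  intro Q hQ
  have h1 := hR (Q.comap (algebraMap R S))
  have h2 := (Groth.Agent.H6.FiberDict.hasSk_fiber_iff (B := S)
    (Q.comap (algebraMap R S)) k).mp (hfib _) Q rfl
  obtain ⟨h3, h4⟩ := Groth.Agent.H6.FlatLoc.depth_and_dim_localized_tensor (A := R)
    (B := S) R S Q
  obtain ⟨h5, h6⟩ := Groth.Agent.H6.FiberDict.depth_and_dim_self (A := R) (B := S) Q
  haveI : Module.Finite S (TensorProduct R S R) :=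
    Groth.Agent.H1.finite_tensor_of_finite R
  obtain ⟨h7, h8⟩ := Groth.Agent.H6.SkLoc.depth_and_dim_congr
    (TensorProduct R S R)
    (TensorProduct.AlgebraTensorModule.rid R S S) Q
  unfold Groth.Agent.H6.FiberDict.FibSkIneq at h2
  rw [← h7, ← h8, h3, h4, h5, h6]
  exact Groth.Agent.H6.SkLoc.min_add_le k _ _ _ _ h1 h2

end Groth.Agent.S2086
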