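import Groth.Statements.S2089
import Groth.Agent.Lib.Helper6.DepthKit
import Groth.Agent.Lib.Helper6.Ischebeck

set_option autoImplicit false
universe u
open CAlg

namespace Groth.Agent.S2089

/-- Let `R` be a Noetherian local ring and `M` a finite `R`-module. For every associated prime `𝔭` of
`M` the depth of `M` is at most the dimension of `R/𝔭`. -/
theorem result {R M : Type u} [CommRing R] [IsLocalRing R] [IsNoetherianRing R]
    [AddCommGroup M] [Module R M] [Module.Finite R M] (p : Ideal R) (hp : p ∈ associatedPrimes R M) :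
    ((LocCoh.depth R M : ℕ∞) : WithBot ℕ∞) ≤ ringKrullDim (R ⧸ p) := by
  haveI : Nontrivial M := by
    by_contra h
    rw [not_nontrivial_iff_subsingleton] at h
    exact not_isAssociatedPrime_of_subsingleton hp
  obtain ⟨hpp, f, hf⟩ := (isAssociatedPrime_iff_exists_injective_linearMap p M).mp hp
  haveI := hpp
  obtain ⟨d, hd, -⟩ := Groth.Agent.H6.Depth.exists_depth_eq (R := R) M
  obtain ⟨r, hr⟩ := Groth.Agent.H6.LC.exists_supportDim_eq (R := R) (R ⧸ p)
  rw [Module.supportDim_quotient_eq_ringKrullDim] at hr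
  rw [hd, hr]
  by_contra hlt
  push Not at hlt
  have hlt' : r < d := by exact_mod_cast hlt
  have hsub := Groth.Agent.H6.Isch.ischebeck M d hd r (R ⧸ p)
    (by rw [Module.supportDim_quotient_eq_ringKrullDim, hr]) 0 (by omega)
  have h0 : CategoryTheory.Abelian.Ext.mk₀ (ModuleCat.ofHom f) = 0 := Subsingleton.elim _ _
  rw [CategoryTheory.Abelian.Ext.mk₀_eq_zero_iff] at h0
  have h1 : f = 0 := by
    have := congrArg ModuleCat.Hom.hom h0
    simpa using this
  have h2 : (1 : R ⧸ p) = 0 := hf (by rw [h1]; simp)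
  exact one_ne_zero h2

end Groth.Agent.S2089
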