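import Groth.Statements.S2096
import Mathlib
import Groth.Agent.S0733
import Groth.Agent.H4.IndEtElems
import Groth.Agent.H4.WEtSep
import Groth.Agent.S7128

set_option autoImplicit false
universe u
open CAlg

namespace Groth.Agent.S2096

open TensorProduct


/-- abstract version of the residue field statement -/
theorem sep_of_surj {K F L : Type u} [Field K] [CommRing F] [Field L] [Algebra K F] [Algebra K L]
    [Algebra.IsSeparable K F] (Φ : F →ₐ[K] L)
    (hgen : ∀ y : L, ∃ a b : F, Φ b ≠ 0 ∧ y = Φ a / Φ b) : Algebra.IsSeparable K L := by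
  have hsurj : Function.Surjective Φ := by
    intro y
    obtain ⟨a, b, hb, rfl⟩ := hgen y
    have hb' : IsAlgebraic K (Φ b) :=
      ((Algebra.IsSeparable.isSeparable K b).isIntegral.map Φ).isAlgebraic
    have hmem : (Φ b)⁻¹ ∈ Φ.range :=
      Subalgebra.inv_mem_of_algebraic (A := Φ.range) (x := ⟨Φ b, ⟨b, rfl⟩⟩) hb'
    obtain ⟨c, hc⟩ := hmem
    have hc' : Φ c = (Φ b)⁻¹ := hc
    exact ⟨a * c, by rw [map_mul, hc', div_eq_mul_inv]⟩
  refine ⟨fun y => ?_⟩
  obtain ⟨x, rfl⟩ := hsurj y
  exact Groth.Agent.H4.WEtSep.isSeparable_map Φ (Algebra.IsSeparable.isSeparable K x)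

/-- Let `B` be a Noetherian ind-étale `A`-algebra (a filtered colimit of étale algebras) and `𝔭` a prime
of `A`. Then only finitely many primes of `B` lie over `𝔭`, the fibre ring `B ⊗ κ(𝔭)` is reduced of
dimension zero, and each residue field extension `κ(𝔮)/κ(𝔭)` is separable algebraic. -/
theorem result {A B : Type u} [CommRing A] [CommRing B] [Algebra A B] (hB : EtPBC.IsIndEtale A B)
    [IsNoetherianRing B] (p : Ideal A) [p.IsPrime] :
    {q : PrimeSpectrum B | q.asIdeal.LiesOver p}.Finite ∧ IsReduced (p.Fiber B) ∧ ringKrullDim (p.Fiber B) ≤ 0 ∧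
      ∀ (q : Ideal B) [q.IsPrime] [q.LiesOver p],
        @Algebra.IsSeparable p.ResidueField q.ResidueField _ _
          (Ideal.ResidueField.mapₐ p q (Algebra.ofId A B) (q.over_def p)).toRingHom.toAlgebra := by
  have hF : EtPBC.IsIndEtale p.ResidueField (p.Fiber B) :=
    Groth.Agent.S0733.result A B p.ResidueField hB
  haveI hW : Algebra.WeaklyEtale p.ResidueField (p.Fiber B) :=
    Groth.Agent.H4.IndEtElems.weaklyEtale_of_isIndEtale _ _ hF
  haveI hsep : Algebra.IsSeparable p.ResidueField (p.Fiber B) :=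
    Groth.Agent.H4.WEtSep.weaklyEtale_iff_isSeparable.mp hW
  haveI hred : IsReduced (p.Fiber B) := Groth.Agent.S7128.result p.ResidueField (p.Fiber B)
  haveI hint : Algebra.IsIntegral p.ResidueField (p.Fiber B) := inferInstance
  haveI hdim : Ring.KrullDimLE 0 (p.Fiber B) := by
    refine Ring.KrullDimLE.mk₀ (fun I hI => ?_)
    haveI := hI
    exact Ideal.isMaximal_of_isIntegral_of_isMaximal_comap (R := p.ResidueField) I
      (Ideal.IsPrime.isMaximal' (Ideal.comap_isPrime _ I))
  haveI hnoeth : IsNoetherianRing (p.Fiber B) := by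
    letI : Algebra B (p.Fiber B) := Algebra.TensorProduct.rightAlgebra
    exact isNoetherianRing_of_ringEquiv _ (Ideal.Fiber.algEquivAux₁ (S := B) p).symm.toRingEquiv
  haveI hart : IsArtinianRing (p.Fiber B) := IsNoetherianRing.isArtinianRing_of_krullDimLE_zero
  refine ⟨?_, hred, Ring.krullDimLE_iff.mp hdim, ?_⟩
  · haveI : Finite (p.primesOver B) :=
      Finite.of_equiv _ (PrimeSpectrum.primesOverOrderIsoFiber A B p).symm.toEquiv
    let ι : {q : PrimeSpectrum B | q.asIdeal.LiesOver p} → p.primesOver B :=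
      fun q => ⟨q.1.asIdeal, q.1.2, q.2⟩
    have hι : Function.Injective ι := by
      intro q q' h
      apply Subtype.ext
      apply PrimeSpectrum.ext
      exact congrArg Subtype.val h
    haveI := Finite.of_injective ι hι
    exact Set.toFinite _
  · intro q _ _
    letI alg : Algebra p.ResidueField q.ResidueField :=
      (Ideal.ResidueField.mapₐ p q (Algebra.ofId A B) (q.over_def p)).toRingHom.toAlgebra
    let Φ₀ : p.Fiber B →ₐ[A] q.ResidueField :=
      Algebra.TensorProduct.lift (Ideal.ResidueField.mapₐ p q (Algebra.ofId A B) (q.over_def p))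
        (IsScalarTower.toAlgHom A B q.ResidueField) (fun _ _ => Commute.all _ _)
    let Φ : p.Fiber B →ₐ[p.ResidueField] q.ResidueField :=
      { Φ₀.toRingHom with
        commutes' := fun k => by
          show Φ₀ (k ⊗ₜ 1) = _
          rw [Algebra.TensorProduct.lift_tmul, map_one, mul_one]
          rfl }
    have hΦ : ∀ b : B, Φ (1 ⊗ₜ b) = algebraMap B q.ResidueField b := by
      intro b
      show Φ₀ (1 ⊗ₜ b) = _
      rw [Algebra.TensorProduct.lift_tmul, map_one, one_mul]
      rfl
    refine sep_of_surj Φ ?_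
    intro y
    obtain ⟨a, b, hb, rfl⟩ := IsFractionRing.div_surjective (A := B ⧸ q) y
    obtain ⟨a, rfl⟩ := Ideal.Quotient.mk_surjective a
    obtain ⟨b, rfl⟩ := Ideal.Quotient.mk_surjective b
    refine ⟨1 ⊗ₜ a, 1 ⊗ₜ b, ?_, ?_⟩
    · rw [hΦ]
      have := map_ne_zero_of_mem_nonZeroDivisors (algebraMap (B ⧸ q) q.ResidueField)
        (IsFractionRing.injective (B ⧸ q) q.ResidueField) hb
      exact this
    · rw [hΦ, hΦ]
      rfl


end Groth.Agent.S2096
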