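import Groth.Statements.S2097
import Mathlib.RingTheory.FinitePresentation
import Mathlib.RingTheory.Noetherian.Nilpotent

set_option autoImplicit false
universe u
open CAlg

namespace Groth.Agent.S2097

/-- Let `R → S` be smooth, `A` an `R`-algebra and `I ⊆ A` an ideal all of whose elements are nilpotent.
Every `R`-algebra map `S → A/I` lifts to an `R`-algebra map `S → A`. -/
theorem result {R S A : Type u} [CommRing R] [CommRing S] [Algebra R S] [Algebra.Smooth R S]
    [CommRing A] [Algebra R A] (I : Ideal A) (hI : ∀ x ∈ I, IsNilpotent x) (g : S →ₐ[R] A ⧸ I) :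
    ∃ f : S →ₐ[R] A, (Ideal.Quotient.mkₐ R I).comp f = g := by
  obtain ⟨n, π, hπ, hK⟩ := Algebra.FinitePresentation.out (R := R) (A := S)
  choose a ha using fun i : Fin n => Ideal.Quotient.mk_surjective (g (π (MvPolynomial.X i)))
  let θ : MvPolynomial (Fin n) R →ₐ[R] A := MvPolynomial.aeval a
  have hθ : (Ideal.Quotient.mkₐ R I).comp θ = g.comp π := by
    apply MvPolynomial.algHom_ext
    intro i
    simp [θ, ha]
  let I₀ : Ideal A := (RingHom.ker π.toRingHom).map θ.toRingHom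
  have hI₀ : I₀ ≤ I := by
    rw [Ideal.map_le_iff_le_comap]
    intro p hp
    rw [Ideal.mem_comap, ← Ideal.Quotient.eq_zero_iff_mem]
    have := AlgHom.congr_fun hθ p
    simp only [AlgHom.comp_apply, Ideal.Quotient.mkₐ_eq_mk] at this
    rw [AlgHom.toRingHom_eq_coe, RingHom.coe_coe, this]
    have hp' : π p = 0 := hp
    rw [hp', map_zero]
  have hI₀fg : I₀.FG := hK.map _
  have hnil : IsNilpotent I₀ := by
    rw [Ideal.FG.isNilpotent_iff_le_nilradical hI₀fg]
    intro x hx
    exact hI _ (hI₀ hx)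
  let g₀ : S →ₐ[R] A ⧸ I₀ := AlgHom.liftOfSurjective π hπ ((Ideal.Quotient.mkₐ R I₀).comp θ) (by
    intro p hp
    rw [RingHom.mem_ker]
    change Ideal.Quotient.mk I₀ (θ p) = 0
    exact Ideal.Quotient.eq_zero_iff_mem.mpr (Ideal.mem_map_of_mem _ hp))
  have : Algebra.FormallySmooth R S := inferInstance
  refine ⟨Algebra.FormallySmooth.lift I₀ hnil g₀, ?_⟩
  ext s
  obtain ⟨p, rfl⟩ := hπ s
  have h1 : Ideal.Quotient.mk I₀ (Algebra.FormallySmooth.lift I₀ hnil g₀ (π p)) = g₀ (π p) :=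
    Algebra.FormallySmooth.mk_lift I₀ hnil g₀ (π p)
  rw [AlgHom.liftOfSurjective_apply] at h1
  change _ = Ideal.Quotient.mk I₀ (θ p) at h1
  rw [Ideal.Quotient.eq] at h1
  have h2 := AlgHom.congr_fun hθ p
  simp only [AlgHom.comp_apply, Ideal.Quotient.mkₐ_eq_mk] at h2 ⊢
  rw [← h2, Ideal.Quotient.eq]
  exact hI₀ h1


end Groth.Agent.S2097
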