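import Groth.Statements.S2102
import Mathlib
import Groth.Agent.Lib.Helper1.NormSections

set_option autoImplicit false
universe u
open CategoryTheory AlgebraicGeometry
open Mor

namespace Groth.Agent.S2102

/-- The ring of global sections of an integral normal scheme is an integrally closed domain. -/
theorem result (X : Scheme.{u}) [IsIntegral X] (hX : Pi1.IsNormalScheme X) :
    IsIntegrallyClosed (Γ(X, ⊤) : Type u) := by
  haveI hne : Nonempty (⊤ : X.Opens) := by
    obtain ⟨y⟩ : Nonempty X := inferInstance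
    exact ⟨⟨y, trivial⟩⟩
  rw [isIntegrallyClosed_iff (FractionRing Γ(X, ⊤))]
  intro z hz
  have hinj : Function.Injective (Algebra.ofId Γ(X, ⊤) X.functionField) :=
    X.germToFunctionField_injective ⊤
  let ψ : FractionRing Γ(X, ⊤) →ₐ[Γ(X, ⊤)] X.functionField := IsFractionRing.liftAlgHom hinj
  have h1 : IsIntegral Γ(X, ⊤) (ψ z) := hz.map ψ
  obtain ⟨t, ht⟩ := Groth.Agent.Lib.Helper1.NormSections.exists_section_of_isIntegral hX (ψ z) (by
    intro V _ hV
    letI : Algebra Γ(X, ⊤) Γ(X, V) := (X.presheaf.map (homOfLE (le_top : V ≤ ⊤)).op).hom.toAlgebra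
    haveI : IsScalarTower Γ(X, ⊤) Γ(X, V) X.functionField := by
      refine IsScalarTower.of_algebraMap_eq fun a => ?_
      exact (TopCat.Presheaf.germ_res_apply X.presheaf (homOfLE (le_top : V ≤ ⊤)) (genericPoint X) _ a).symm
    exact h1.tower_top)
  refine ⟨t, ?_⟩
  apply ψ.toRingHom.injective
  change ψ (algebraMap _ _ t) = ψ z
  rw [ψ.commutes]
  exact ht

end Groth.Agent.S2102
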