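import Groth.Statements.S2111
import Groth.Agent.Lib.Helper2.RedQuot1

set_option autoImplicit false
universe u
open CAlg

namespace Groth.Agent.S2111

/-- Let `R` be a Noetherian normal domain with fraction field `K`. An element of `K` which lies in `R_𝔭`
for every prime `𝔭` of height one lies in `R`. -/
theorem result {R : Type u} [CommRing R] [IsDomain R] [IsNoetherianRing R]
    [IsIntegrallyClosed R] (x : FractionRing R)
    (hx : ∀ (p : Ideal R) [p.IsPrime], p.height = 1 →
      x ∈ Set.range (algebraMap (Localization.AtPrime p) (FractionRing R))) :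
    x ∈ Set.range (algebraMap R (FractionRing R)) := by
  classical
  obtain ⟨a, ⟨b, hb⟩, rfl⟩ := IsLocalization.exists_mk'_eq (nonZeroDivisors R) x
  have hb0 : b ≠ 0 := nonZeroDivisors.ne_zero hb
  have hinj : Function.Injective (algebraMap R (FractionRing R)) :=
    IsFractionRing.injective R (FractionRing R)
  have hdvd : b ∣ a := by
    apply Groth.Agent.H2.RedQuot.dvd_of_forall_height_one hb0
    intro p hp hph
    haveI := hp
    obtain ⟨y, hy⟩ := hx p hph
    obtain ⟨c, s, rfl⟩ := IsLocalization.exists_mk'_eq p.primeCompl y
    refine ⟨s, s.2, ⟨c, ?_⟩⟩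
    apply hinj
    rw [IsLocalization.eq_mk'_iff_mul_eq] at hy
    have h1 : algebraMap (Localization.AtPrime p) (FractionRing R)
        (IsLocalization.mk' (Localization.AtPrime p) c s) * algebraMap R (FractionRing R) s =
        algebraMap R (FractionRing R) c := by
      rw [IsScalarTower.algebraMap_apply R (Localization.AtPrime p) (FractionRing R) s,
        ← map_mul, IsLocalization.mk'_spec,
        ← IsScalarTower.algebraMap_apply R (Localization.AtPrime p) (FractionRing R)]
    have hy' : algebraMap (Localization.AtPrime p) (FractionRing R)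
        (IsLocalization.mk' (Localization.AtPrime p) c s) * algebraMap R (FractionRing R) b =
        algebraMap R (FractionRing R) a := hy
    rw [map_mul, map_mul, ← hy', ← h1]
    ring
  obtain ⟨c, hc⟩ := hdvd
  refine ⟨c, ?_⟩
  rw [IsLocalization.eq_mk'_iff_mul_eq]
  change algebraMap R (FractionRing R) c * algebraMap R (FractionRing R) b = _
  rw [← map_mul, hc, mul_comm]

end Groth.Agent.S2111
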