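import Groth.Statements.S2112
import Mathlib
import Groth.Agent.Lib.Helper1.GeomIrr
import Groth.Agent.Lib.Helper1.GeomIrr2

set_option autoImplicit false
universe u
open CAlg

namespace Groth.Agent.S2112

open TensorProduct Groth.Agent.H1.GeomIrr

theorem hasUniqueMinimalPrime_iff (A : Type u) [CommRing A] :
    CAlgX.HasUniqueMinimalPrime A ↔ (nilradical A).IsPrime := by
  constructor
  · rintro ⟨p, hp, huniq⟩
    have : nilradical A = p := by
      have h1 : nilradical A = sInf (minimalPrimes A) := by
        rw [minimalPrimes, Ideal.sInf_minimalPrimes]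
        rfl
      rw [h1]
      have h2 : minimalPrimes A = {p} := by
        ext q
        constructor
        · intro hq; exact huniq q hq
        · rintro rfl; exact hp
      rw [h2, sInf_singleton]
    rw [this]
    exact hp.1.1
  · intro h
    have hmin : nilradical A ∈ minimalPrimes A := by
      refine ⟨⟨h, bot_le⟩, ?_⟩
      rintro q ⟨hq, -⟩ -
      exact nilradical_le_prime q
    refine ⟨nilradical A, hmin, ?_⟩
    intro q hq
    have hle : nilradical A ≤ q := by
      haveI := hq.1.1
      exact nilradical_le_prime q
    exact le_antisymm (hq.2 ⟨h, bot_le⟩ hle) hle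

theorem irr_iff (A : Type u) [CommRing A] :
    CAlgX.HasUniqueMinimalPrime A ↔ IrreducibleSpace (PrimeSpectrum A) := by
  rw [hasUniqueMinimalPrime_iff, PrimeSpectrum.irreducibleSpace_iff_isPrime_nilradical]

theorem geomIrr_of_isSepClosed {k S : Type u} [Field k] [IsSepClosed k] [CommRing S] [Algebra k S]
    [IrreducibleSpace (PrimeSpectrum S)] (k' : Type u) [Field k'] [Algebra k k'] :
    IrreducibleSpace (PrimeSpectrum (k' ⊗[k] S)) := by
  have h := PrimeSpectrum.isHomeomorph_comap_tensorProductMap_of_isPurelyInseparable
    k k S (AlgebraicClosure k)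
  haveI : IrreducibleSpace (PrimeSpectrum (k ⊗[k] S)) :=
    (PrimeSpectrum.homeomorphOfRingEquiv
      (Algebra.TensorProduct.lid k S).toRingEquiv).irreducibleSpace_iff.mpr inferInstance
  haveI : IrreducibleSpace (PrimeSpectrum (AlgebraicClosure k ⊗[k] S)) :=
    (IsHomeomorph.homeomorph _ h).irreducibleSpace_iff.mpr inferInstance
  exact irr_of_algClosure k'

open TensorProduct in
/-- Let `k` be a separably closed field and `R`, `S` two `k`-algebras each having exactly one minimal
prime ideal. Then `R ⊗_k S` has exactly one minimal prime ideal. -/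
theorem result {k R S : Type u} [Field k] [IsSepClosed k] [CommRing R] [CommRing S]
    [Algebra k R] [Algebra k S] (hR : CAlgX.HasUniqueMinimalPrime R) (hS : CAlgX.HasUniqueMinimalPrime S) :
    CAlgX.HasUniqueMinimalPrime (R ⊗[k] S) := by
  rw [irr_iff] at hR hS ⊢
  haveI := hR
  haveI := hS
  exact irreducibleSpace_tensor_of_geomIrr (fun k' _ _ => geomIrr_of_isSepClosed k')

end Groth.Agent.S2112
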