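import Groth.Statements.S2121
import Groth.Agent.Lib.Helper8.QCClosure
import Groth.Agent.Lib.Helper8.MonoVal
-- import your own Groth.Agent.* helpers here

set_option autoImplicit false
universe u
open CategoryTheory AlgebraicGeometry
open Mor

namespace Groth.Agent.S2121

/-- Let `f : X → Y` be quasi-compact and `z` a point in the closure of `f(X)` (the underlying set of the
scheme theoretic image). Then there are a valuation ring `A` with fraction field `K` and morphisms
`Spec K → X`, `Spec A → Y` forming a commutative square with `f` and `Spec K → Spec A`, such that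
the closed point of `Spec A` maps to `z`. -/
theorem result {X Y : Scheme.{u}} (f : X ⟶ Y) [QuasiCompact f] (z : Y)
    (hz : z ∈ closure (Set.range f.base)) :
    ∃ (A : Type u) (_ : CommRing A) (_ : IsDomain A) (_ : ValuationRing A)
      (x : Spec (CommRingCat.of (FractionRing A)) ⟶ X) (y : Spec (CommRingCat.of A) ⟶ Y),
      x ≫ f = Spec.map (CommRingCat.ofHom (algebraMap A (FractionRing A))) ≫ y ∧
      y.base (IsLocalRing.closedPoint A) = z := by
  obtain ⟨x₁, hx₁⟩ := Groth.Agent.H8.QCClosure.exists_specializes_of_mem_closure_range f z hz
  obtain ⟨A, hV, hcl, hw⟩ := Groth.Agent.H8.MonoVal.exists_valuationRing_of_specializes f x₁ z hx₁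
  let e : X.residueField x₁ →+* FractionRing A :=
    (FractionRing.algEquiv A (X.residueField x₁)).symm.toRingEquiv.toRingHom
  have he : e.comp (algebraMap A (X.residueField x₁)) = algebraMap A (FractionRing A) := by
    ext a
    exact (FractionRing.algEquiv A (X.residueField x₁)).symm.commutes a
  refine ⟨A, inferInstance, inferInstance, inferInstance,
    Spec.map (CommRingCat.ofHom e) ≫ X.fromSpecResidueField x₁, hV, ?_, hcl⟩
  rw [Category.assoc, hw, ← Spec.map_comp_assoc, ← CommRingCat.ofHom_comp, he]

end Groth.Agent.S2121
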