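import Groth.Statements.S2124
import Groth.Agent.Lib.Helper1.ComplFlat3

set_option autoImplicit false
universe u
open CAlg

namespace Groth.Agent.S2124


/-- Let `R` be Noetherian and `I`-adically complete and `α` any index set. The map from the `I`-adic
completion of the direct sum `⊕_α R` to the product `∏_α R^∧ = ∏_α R`, induced by the coordinate
projections, is universally injective. -/
theorem result {R : Type u} [CommRing R] [IsNoetherianRing R] (I : Ideal R)
    [IsAdicComplete I R] (α : Type u) :
    CAlgX.UniversallyInjective R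
      (LinearMap.pi fun a : α => AdicCompletion.map I (Finsupp.lapply a : (α →₀ R) →ₗ[R] R) :
        AdicCompletion I (α →₀ R) →ₗ[R] (α → AdicCompletion I R)) := by
  classical
  intro Q _ _
  rw [injective_iff_map_eq_zero]
  intro z hz
  obtain ⟨S, hS⟩ := TensorProduct.exists_finset z
  let e : Fin S.card ≃ S := S.equivFin.symm
  let m : Fin S.card → AdicCompletion I (α →₀ R) := fun k => (e k).1.1
  let q : Fin S.card → Q := fun k => (e k).1.2
  have hz' : z = ∑ k, TensorProduct.tmul R (m k) (q k) := by
    rw [hS, ← Finset.sum_coe_sort S (fun p => TensorProduct.tmul R p.1 p.2)]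
    exact (Equiv.sum_comp e (fun p : S => TensorProduct.tmul R p.1.1 p.1.2)).symm
  have hcoord : ∀ a, ∑ k, Groth.Agent.H1.ComplFlat.coord I α a (m k) • q k = 0 := by
    intro a
    have hfac : Groth.Agent.H1.ComplFlat.coord I α a =
        ((AdicCompletion.ofLinearEquiv I R).symm.toLinearMap ∘ₗ
          (LinearMap.proj a : (α → AdicCompletion I R) →ₗ[R] AdicCompletion I R)) ∘ₗ
        (LinearMap.pi fun a : α => AdicCompletion.map I (Finsupp.lapply a : (α →₀ R) →ₗ[R] R) :
          AdicCompletion I (α →₀ R) →ₗ[R] (α → AdicCompletion I R)) := by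
      ext x
      rfl
    have h1 : (Groth.Agent.H1.ComplFlat.coord I α a).rTensor Q z = 0 := by
      rw [hfac, LinearMap.rTensor_comp, LinearMap.comp_apply, hz, map_zero]
    have h2 := congrArg (TensorProduct.lid R Q) h1
    rw [hz', map_sum, map_sum, map_zero] at h2
    simpa only [LinearMap.rTensor_tmul, TensorProduct.lid_tmul] using h2
  obtain ⟨s, u, c, hu, hmc⟩ := Groth.Agent.H1.ComplFlat.exists_decomp I α m
  have hspan : ∀ v ∈ Submodule.span R (Set.range fun a : α => fun k =>
      Groth.Agent.H1.ComplFlat.coord I α a (m k)), ∑ k, v k • q k = 0 := by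
    intro v hv
    induction hv using Submodule.span_induction with
    | mem v hv =>
      obtain ⟨a, rfl⟩ := hv
      exact hcoord a
    | zero => simp
    | add v w _ _ hv hw =>
      simp only [Pi.add_apply, add_smul, Finset.sum_add_distrib, hv, hw, add_zero]
    | smul b v _ hv =>
      simp only [Pi.smul_apply, smul_eq_mul, mul_smul]
      rw [← Finset.smul_sum, hv, smul_zero]
  have hq0 : ∀ t, ∑ k, u t k • q k = 0 := fun t => hspan (u t) (hu t)
  rw [hz']
  calc ∑ k, TensorProduct.tmul R (m k) (q k)
      = ∑ k, ∑ t, TensorProduct.tmul R (c t) (u t k • q k) := by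
        refine Finset.sum_congr rfl fun k _ => ?_
        rw [hmc k, TensorProduct.sum_tmul]
        refine Finset.sum_congr rfl fun t _ => ?_
        rw [TensorProduct.smul_tmul]
    _ = ∑ t, TensorProduct.tmul R (c t) (∑ k, u t k • q k) := by
        rw [Finset.sum_comm]
        refine Finset.sum_congr rfl fun t _ => ?_
        rw [TensorProduct.tmul_sum]
    _ = 0 := by
        simp only [hq0, TensorProduct.tmul_zero, Finset.sum_const_zero]

end Groth.Agent.S2124
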