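import Groth.Statements.S9814
import Groth.Agent.Lib.Lead.QC.TensorPow

set_option autoImplicit false
universe u
open CategoryTheory CategoryTheory.Limits AlgebraicGeometry TopologicalSpace
open Props

namespace Groth.Agent.S9814

/-- Let L be an invertible module on a scheme X. If the opens X_s (s a global section of a positive
tensor power of L) form a basis for the topology, then so do the affine ones among them. -/
theorem result (X : Scheme.{u}) (L : X.Modules) (hL : PicF.IsInvertible L)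
    (hB : Opens.IsBasis {U : X.Opens | ∃ (n : ℕ) (s : Coh.structureModule X ⟶ CohB1.tensorPow L (n + 1)),
      U = CohB1.genLocus _ s}) :
    Opens.IsBasis {U : X.Opens | IsAffineOpen U ∧ ∃ (n : ℕ) (s : Coh.structureModule X ⟶ CohB1.tensorPow L (n + 1)),
      U = CohB1.genLocus _ s} := by
  rw [Opens.isBasis_iff_nbhd] at hB ⊢
  intro W x hxW
  obtain ⟨U₀, e₀, hxU₀, he₀⟩ := (LD.QC.isInvertible_iff_exists_isBasisOver L).mp hL x
  obtain ⟨U, hU, hxU, hUW⟩ := exists_isAffineOpen_mem_and_subset (x := x) (U := W ⊓ U₀) ⟨hxW, hxU₀⟩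
  have hUW' : U ≤ W ⊓ U₀ := hUW
  have hUU₀ : U ≤ U₀ := hUW'.trans inf_le_right
  have he := he₀.mono hUU₀
  obtain ⟨V, ⟨n, s, rfl⟩, hxV, hVU⟩ := hB hxU
  have heP := he.secPow (n + 1)
  obtain ⟨f, hf⟩ := (heP U le_rfl).2 (SecTwist.val s U)
  have hf' : SecTwist.val s U = f • LD.QC.secPow (L.presheaf.map (homOfLE hUU₀).op e₀) (n + 1) := by
    rw [← hf]
    change f • (CohB1.tensorPow L (n + 1)).presheaf.map (homOfLE (le_refl U)).op _ = _
    rw [LD.QC.res_self]
  have hG := LD.QC.genLocus_inf_eq_basicOpen s heP f hf'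
  rw [inf_eq_left.mpr hVU] at hG
  refine ⟨_, ⟨?_, n, s, rfl⟩, hxV, hVU.trans (hUW'.trans inf_le_left)⟩
  rw [hG]
  exact hU.basicOpen f

end Groth.Agent.S9814
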