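import Groth.Statements.S2126
import Groth.Agent.Lib.Lead.QC.AmpleBasis
import Groth.Agent.S9814

set_option autoImplicit false
universe u
open CategoryTheory AlgebraicGeometry
open Mor

namespace Groth.Agent.S2126

/-- Let `X` be a quasi-compact scheme and `L` an invertible `O_X`-module. Then `L` is ample if and only
if the opens `X_s`, for `s` a global section of some positive tensor power of `L`, form a basis for
the topology of `X`. -/
theorem result {X : Scheme.{u}} [CompactSpace X] (L : X.Modules) (hL : PicF.IsInvertible L) :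
    CohB1.IsAmple L ↔
      TopologicalSpace.Opens.IsBasis
        {U : X.Opens | ∃ (n : ℕ) (s : Coh.structureModule X ⟶ CohB1.tensorPow L (n + 1)), U = CohB1.genLocus _ s} := by
  constructor
  · rintro ⟨-, -, hA⟩
    haveI : X.IsSeparated := LD.QC.isSeparated_of_affine_genLocus L hL hA
    rw [TopologicalSpace.Opens.isBasis_iff_nbhd]
    intro W x hxW
    obtain ⟨n, s, hxs, hAff⟩ := hA x
    obtain ⟨g, hgW, hxg⟩ := hAff.exists_basicOpen_le (V := W) ⟨x, hxW⟩ hxs
    obtain ⟨m, t, ht⟩ := LD.QC.exists_genLocus_eq_basicOpen L hL s g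
    have key : ∃ (k : ℕ) (t' : Coh.structureModule X ⟶ CohB1.tensorPow L (k + 1)),
        CohB1.genLocus _ t' = X.basicOpen g := ⟨LD.QC.powIdx (n + 1) m + n, t, ht⟩
    obtain ⟨k, t', ht'⟩ := key
    refine ⟨_, ⟨k, t', rfl⟩, ?_, ?_⟩
    · rw [ht']; exact hxg
    · rw [ht']; exact hgW
  · intro hB
    have hB' := Groth.Agent.S9814.result X L hL hB
    refine ⟨hL, inferInstance, fun x => ?_⟩
    have hx0 : x ∈ (⊤ : X.Opens) := trivial
    obtain ⟨_, ⟨hAff, n, s, rfl⟩, hx, -⟩ := TopologicalSpace.Opens.isBasis_iff_nbhd.mp hB' hx0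
    exact ⟨n, s, hx, hAff⟩

end Groth.Agent.S2126
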