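import Groth.Statements.S2127
import Groth.Agent.Lib.Lead.QC.QAffAmple

set_option autoImplicit false
universe u
open CategoryTheory AlgebraicGeometry
open Mor

namespace Groth.Agent.S2127

/-- Let `X` be a quasi-affine scheme, `L` an invertible `O_X`-module, `W ⊆ X` open and `E ⊆ W` finite.
Then there is a global section `s` of `L` with `X_s` affine and `E ⊆ X_s ⊆ W`. -/
theorem result {X : Scheme.{u}} [X.IsQuasiAffine] (L : X.Modules) (hL : PicF.IsInvertible L)
    (W : X.Opens) (E : Set X) (hE : E.Finite) (hEW : E ⊆ W) :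
    ∃ s : Coh.structureModule X ⟶ L, IsAffineOpen (CohB1.genLocus L s) ∧ E ⊆ CohB1.genLocus L s ∧
      CohB1.genLocus L s ≤ W := by
  obtain ⟨r0, hr0, hE0, hr0W⟩ := LD.QC.exists_basicOpen_of_finite W E hE hEW
  obtain ⟨U, hEU, hUV, ⟨φ⟩⟩ := LD.QC.exists_free_nhds_of_finite 1 L
    ((LD.QC.isInvertible_iff L).mp hL) E hE _ hr0 hE0
  obtain ⟨r, hr, hEr, hrU⟩ := LD.QC.exists_basicOpen_of_finite U E hE hEU
  have he := LD.QC.isBasisOver_basisOfIso L U (φ ≪≫ LD.QC.freeModOneIso _).symm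
  obtain ⟨σ, hσ⟩ := LD.QC.exists_section_genLocus_eq_basicOpen L hL r _ he hrU
  refine ⟨σ, ?_, ?_, ?_⟩
  · rw [hσ]; exact hr
  · rw [hσ]; exact hEr
  · rw [hσ]; exact hrU.trans (hUV.trans hr0W)

end Groth.Agent.S2127
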