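import Groth.Statements.S2131
import Mathlib

set_option autoImplicit false
universe u
open CAlg

namespace Groth.Agent.S2131

theorem Groth.Agent.H1.S2131.mk_eq_zero_iff {R M : Type*} [CommRing R] [AddCommGroup M] [Module R M]
    (S : Submonoid R) (x : M) (s : S) :
    LocalizedModule.mk x s = 0 ↔ ∃ t : S, t • x = 0 := by
  rw [← LocalizedModule.zero_mk (1 : S), LocalizedModule.mk_eq]
  constructor
  · rintro ⟨u, hu⟩
    refine ⟨u, ?_⟩
    simpa using hu
  · rintro ⟨t, ht⟩
    refine ⟨t, ?_⟩
    simp [ht]

/-- For an `R`-linear map from a finite module to a finitely presented module, the primes at which its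
localization is bijective form an open subset of `Spec R`. -/
theorem result {R M N : Type u} [CommRing R] [AddCommGroup M] [Module R M] [Module.Finite R M]
    [AddCommGroup N] [Module R N] [Module.FinitePresentation R N] (φ : M →ₗ[R] N) :
    IsOpen {p : PrimeSpectrum R | Function.Bijective (LocalizedModule.map p.asIdeal.primeCompl φ)} := by
  rw [isOpen_iff_forall_mem_open]
  intro p hp
  obtain ⟨g, hg, hbij⟩ := Module.FinitePresentation.exists_notMem_bijective φ p.asIdeal
    (LocalizedModule.mkLinearMap p.asIdeal.primeCompl M)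
    (LocalizedModule.mkLinearMap p.asIdeal.primeCompl N) hp
  refine ⟨PrimeSpectrum.basicOpen g, ?_, (PrimeSpectrum.basicOpen g).isOpen, hg⟩
  intro q hq
  have hgq : g ∉ q.asIdeal := hq
  have hpow : ∀ k : ℕ, g ^ k ∈ q.asIdeal.primeCompl := fun k =>
    q.asIdeal.primeCompl.pow_mem hgq k
  constructor
  · rw [← LinearMap.ker_eq_bot, LinearMap.ker_eq_bot']
    intro x hx
    induction x using LocalizedModule.induction_on with
    | h x s =>
      rw [LocalizedModule.map_mk, Groth.Agent.H1.S2131.mk_eq_zero_iff] at hx
      obtain ⟨t, ht⟩ := hx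
      have h1 : LocalizedModule.map (Submonoid.powers g) φ
          (LocalizedModule.mk (t • x) 1) = 0 := by
        have ht' : (t : R) • φ x = 0 := ht
        rw [LocalizedModule.map_mk, Submonoid.smul_def, map_smul, ht', LocalizedModule.zero_mk]
      have h2 := hbij.1 (h1.trans (map_zero _).symm)
      rw [Groth.Agent.H1.S2131.mk_eq_zero_iff] at h2
      obtain ⟨⟨_, k, rfl⟩, hk⟩ := h2
      rw [Groth.Agent.H1.S2131.mk_eq_zero_iff]
      refine ⟨⟨g ^ k, hpow k⟩ * t, ?_⟩
      rw [mul_smul]
      exact hk
  · intro y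
    induction y using LocalizedModule.induction_on with
    | h y s =>
      obtain ⟨z, hz⟩ := hbij.2 (LocalizedModule.mk y 1)
      induction z using LocalizedModule.induction_on with
      | h x r =>
        obtain ⟨_, k, rfl⟩ := r
        rw [LocalizedModule.map_mk, LocalizedModule.mk_eq] at hz
        obtain ⟨⟨_, j, rfl⟩, hj⟩ := hz
        refine ⟨LocalizedModule.mk x (⟨g ^ k, hpow k⟩ * s), ?_⟩
        rw [LocalizedModule.map_mk, LocalizedModule.mk_eq]
        refine ⟨⟨g ^ j, hpow j⟩, ?_⟩
        simp only [Submonoid.smul_def, Submonoid.coe_mul, one_smul] at hj ⊢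
        rw [smul_comm (g ^ j) (s : R), hj, ← mul_smul, ← mul_smul, ← mul_smul]
        congr 1
        ring

end Groth.Agent.S2131
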