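import Groth.Statements.S2132
import Mathlib

set_option autoImplicit false
universe u
open CategoryTheory
open CAlg

namespace Groth.Agent.S2132

open CategoryTheory Polynomial


section
variable {J : Type u} [SmallCategory J] [IsFiltered J] (F : J ⥤ CommRingCat.{u})
  (c : Limits.Cocone F) (hc : Limits.IsColimit c)

include hc in
lemma exists_rep (x : c.pt) : ∃ (j : J) (y : F.obj j), c.ι.app j y = x := by
  have h := Limits.isColimitOfPreserves (forget CommRingCat) hc
  obtain ⟨j, y, hy⟩ := Limits.Types.jointly_surjective_of_isColimit h x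
  exact ⟨j, y, hy⟩

include hc in
lemma eq_of_map_eq (j : J) (y y' : F.obj j) (h : c.ι.app j y = c.ι.app j y') :
    ∃ (k : J) (f : j ⟶ k), F.map f y = F.map f y' := by
  have h' := Limits.isColimitOfPreserves (forget CommRingCat) hc
  exact (Limits.Types.FilteredColimit.isColimit_eq_iff' (F := F ⋙ forget CommRingCat) h' y y').mp h

lemma ι_map {j k : J} (f : j ⟶ k) (y : F.obj j) : c.ι.app k (F.map f y) = c.ι.app j y := by
  have := c.w f
  exact congrArg (fun φ => φ.hom y) this

include hc in
lemma exists_rep_finset (s : Finset c.pt) :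
    ∃ (j : J), ∀ x ∈ s, ∃ y : F.obj j, c.ι.app j y = x := by
  classical
  induction s using Finset.induction_on with
  | empty =>
    haveI : Nonempty J := IsFiltered.nonempty
    exact ⟨Classical.arbitrary J, by simp⟩
  | insert a s ha ih =>
    obtain ⟨j, hj⟩ := ih
    obtain ⟨k, y, hy⟩ := exists_rep F c hc a
    refine ⟨IsFiltered.max j k, ?_⟩
    intro x hx
    rcases Finset.mem_insert.mp hx with rfl | hx
    · exact ⟨F.map (IsFiltered.rightToMax j k) y, by rw [ι_map, hy]⟩
    · obtain ⟨z, hz⟩ := hj x hx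
      exact ⟨F.map (IsFiltered.leftToMax j k) z, by rw [ι_map, hz]⟩

variable (hF : ∀ j, IsLocalRing (F.obj j)) (hloc : ∀ (i j : J) (a : i ⟶ j), IsLocalHom (F.map a).hom)

include hc hF in
lemma nontrivial_pt : Nontrivial c.pt := by
  refine ⟨⟨0, 1, fun h => ?_⟩⟩
  haveI : Nonempty J := IsFiltered.nonempty
  let j : J := Classical.arbitrary J
  have h1 : c.ι.app j (0 : F.obj j) = c.ι.app j 1 := by rw [map_zero, map_one]; exact h
  obtain ⟨k, f, hk⟩ := eq_of_map_eq F c hc j 0 1 h1
  rw [map_zero, map_one] at hk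
  exact zero_ne_one hk

include hc hF in
lemma isLocalRing_pt : IsLocalRing c.pt := by
  haveI := nontrivial_pt F c hc hF
  refine IsLocalRing.of_isUnit_or_isUnit_one_sub_self (fun x => ?_)
  obtain ⟨j, y, rfl⟩ := exists_rep F c hc x
  rcases IsLocalRing.isUnit_or_isUnit_one_sub_self y with h | h
  · exact Or.inl (h.map (c.ι.app j).hom)
  · right
    have := h.map (c.ι.app j).hom
    rwa [map_sub, map_one] at this

include hc hloc in
lemma isLocalHom_ι (j : J) : IsLocalHom (c.ι.app j).hom := by
  constructor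
  intro x hx
  obtain ⟨z, hz⟩ := hx.exists_right_inv
  obtain ⟨k, w, rfl⟩ := exists_rep F c hc z
  let m := IsFiltered.max j k
  let x' := F.map (IsFiltered.leftToMax j k) x
  let w' := F.map (IsFiltered.rightToMax j k) w
  have h1 : c.ι.app m (x' * w') = c.ι.app m 1 := by
    rw [map_mul, map_one, ι_map, ι_map]; exact hz
  obtain ⟨l, f, hl⟩ := eq_of_map_eq F c hc m _ _ h1
  rw [map_mul, map_one] at hl
  have hu : IsUnit (F.map f x') := IsUnit.of_mul_eq_one _ hl
  have hu' : IsUnit (F.map (IsFiltered.leftToMax j k ≫ f) x) := by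
    rw [F.map_comp]; exact hu
  exact (hloc j l (IsFiltered.leftToMax j k ≫ f)).map_nonunit x hu'

end

/-- Let `F : J ⥤ CommRingCat` be a filtered diagram of henselian local rings with local transition maps
and `c` a colimit cocone. Then the colimit is a henselian local ring. -/
theorem result {J : Type u} [SmallCategory J] [IsFiltered J] (F : J ⥤ CommRingCat.{u})
    (hF : ∀ j, HenselianLocalRing (F.obj j)) (hloc : ∀ (i j : J) (a : i ⟶ j), IsLocalHom (F.map a).hom)
    (c : Limits.Cocone F) (hc : Limits.IsColimit c) : HenselianLocalRing c.pt := by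
  classical
  have hF' : ∀ j, IsLocalRing (F.obj j) := fun j => inferInstance
  haveI hL : IsLocalRing c.pt := isLocalRing_pt F c hc hF'
  have hι : ∀ j, IsLocalHom (c.ι.app j).hom := isLocalHom_ι F c hc hloc
  refine ⟨fun f hf a₀ h1 h2 => ?_⟩
  obtain ⟨j, hj⟩ := exists_rep_finset F c hc (insert a₀ f.coeffs)
  obtain ⟨aj, haj⟩ := hj a₀ (Finset.mem_insert_self _ _)
  have hlift : f ∈ Polynomial.lifts (c.ι.app j).hom := by
    rw [Polynomial.lifts_iff_coeffs_subset_range]
    intro x hx
    obtain ⟨y, hy⟩ := hj x (Finset.mem_insert_of_mem hx)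
    exact ⟨y, hy⟩
  haveI : Nontrivial ↑(((Functor.const J).obj c.pt).obj j) := hL.toNontrivial
  obtain ⟨fj, hfj, -, hmon⟩ := Polynomial.lifts_and_degree_eq_and_monic hlift hf
  haveI := hι j
  have e1 : (c.ι.app j).hom (fj.eval aj) = f.eval a₀ := by
    rw [← hfj, ← haj, Polynomial.eval_map, Polynomial.eval₂_hom]
  have e2 : (c.ι.app j).hom (fj.derivative.eval aj) = f.derivative.eval a₀ := by
    rw [← hfj, ← haj, Polynomial.derivative_map, Polynomial.eval_map, Polynomial.eval₂_hom]
  have h1' : fj.eval aj ∈ IsLocalRing.maximalIdeal (F.obj j) := by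
    rw [IsLocalRing.mem_maximalIdeal, mem_nonunits_iff]
    intro hu
    have := hu.map (c.ι.app j).hom
    rw [e1] at this
    exact (IsLocalRing.mem_maximalIdeal _).mp h1 this
  have h2' : IsUnit (fj.derivative.eval aj) := by
    apply isUnit_of_map_unit (c.ι.app j).hom
    rw [e2]; exact h2
  obtain ⟨a, ha, ha'⟩ := (hF j).is_henselian fj hmon aj h1' h2'
  refine ⟨c.ι.app j a, ?_, ?_⟩
  · rw [Polynomial.IsRoot.def, ← hfj, Polynomial.eval_map]
    have : Polynomial.eval₂ (c.ι.app j).hom ((c.ι.app j).hom a) fj = (c.ι.app j).hom (fj.eval a) :=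
      (Polynomial.eval₂_hom _ _).trans rfl
    rw [show (c.ι.app j) a = (c.ι.app j).hom a from rfl, this, ha.eq_zero, map_zero]
  · rw [← haj]
    have : (c.ι.app j) a - (c.ι.app j) aj = (c.ι.app j).hom (a - aj) := (map_sub _ _ _).symm
    rw [this, IsLocalRing.mem_maximalIdeal, mem_nonunits_iff]
    intro hu
    exact (IsLocalRing.mem_maximalIdeal _).mp ha' (isUnit_of_map_unit (c.ι.app j).hom _ hu)


end Groth.Agent.S2132
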