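import Groth.Statements.S2134
import Mathlib

set_option autoImplicit false
universe u
open CAlg

namespace Groth.Agent.S2134

/-- Let `K/k` be a field extension and `(K_α)` a nonempty family of intermediate fields, directed
downwards, with intersection `k`. For a `K`-subspace `V` of `K^n` (`n ≥ 1`), `V` contains a nonzero
vector with all coordinates in `k` if and only if for every `α` it contains a nonzero vector with
all coordinates in `K_α`. -/
theorem result {k K : Type u} [Field k] [Field K] [Algebra k K] {ι : Type u} [Nonempty ι]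
    (F : ι → IntermediateField k K) (hdir : ∀ a b : ι, ∃ c, F c ≤ F a ⊓ F b) (hinf : ⨅ a, F a = ⊥) (n : ℕ) (hn : 1 ≤ n)
    (V : Submodule K (Fin n → K)) :
    (∃ v ∈ V, v ≠ 0 ∧ ∀ i, v i ∈ Set.range (algebraMap k K)) ↔
      ∀ a, ∃ v ∈ V, v ≠ 0 ∧ ∀ i, v i ∈ F a := by
  classical
  constructor
  · rintro ⟨v, hvV, hv0, hv⟩ a
    refine ⟨v, hvV, hv0, fun i => ?_⟩
    obtain ⟨c, hc⟩ := hv i
    rw [← hc]
    exact (F a).algebraMap_mem c
  · intro h
    -- supports of rational vectors
    let supp : (Fin n → K) → Finset (Fin n) := fun v => Finset.univ.filter (fun i => v i ≠ 0)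
    let Sα : ι → Finset (Finset (Fin n)) := fun a =>
      Finset.univ.filter (fun T => ∃ v ∈ V, v ≠ 0 ∧ (∀ i, v i ∈ F a) ∧ supp v = T)
    have hSne : ∀ a, (Sα a).Nonempty := by
      intro a
      obtain ⟨v, hvV, hv0, hv⟩ := h a
      exact ⟨supp v, by simp only [Sα, Finset.mem_filter, Finset.mem_univ, true_and]; exact ⟨v, hvV, hv0, hv, rfl⟩⟩
    have hSmono : ∀ a b, F a ≤ F b → Sα a ⊆ Sα b := by
      intro a b hab T hT
      simp only [Sα, Finset.mem_filter, Finset.mem_univ, true_and] at hT ⊢
      obtain ⟨v, hvV, hv0, hv, hs⟩ := hT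
      exact ⟨v, hvV, hv0, fun i => hab (hv i), hs⟩
    -- an index with minimal number of supports
    obtain ⟨a0, ha0⟩ : ∃ a0, ∀ a, (Sα a0).card ≤ (Sα a).card := by
      obtain ⟨m, ⟨a0, rfl⟩, hm⟩ := WellFounded.has_min wellFounded_lt
        (Set.range fun a => (Sα a).card) ⟨_, ⟨Classical.arbitrary ι, rfl⟩⟩
      exact ⟨a0, fun a => not_lt.mp (hm _ ⟨a, rfl⟩)⟩
    have hS0 : ∀ a, Sα a0 ⊆ Sα a := by
      intro a
      obtain ⟨c, hc⟩ := hdir a0 a
      have h1 : Sα c ⊆ Sα a0 := hSmono c a0 (hc.trans inf_le_left)
      have h2 : Sα c = Sα a0 := Finset.eq_of_subset_of_card_le h1 (ha0 c)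
      rw [← h2]
      exact hSmono c a (hc.trans inf_le_right)
    -- a support of minimal size
    obtain ⟨T, hT, hTmin⟩ := Finset.exists_min_image (Sα a0) Finset.card (hSne a0)
    -- the vector at level a0
    have hT0 := hT
    simp only [Sα, Finset.mem_filter, Finset.mem_univ, true_and] at hT0
    obtain ⟨v, hvV, hv0, hv, hvT⟩ := hT0
    obtain ⟨i0, hi0⟩ : ∃ i0, v i0 ≠ 0 := by
      by_contra hcon
      push Not at hcon
      exact hv0 (funext hcon)
    -- normalize
    let w : Fin n → K := (v i0)⁻¹ • v
    have hwV : w ∈ V := V.smul_mem _ hvV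
    have hw0 : w ≠ 0 := by
      intro hw
      have := congrFun hw i0
      simp only [w, Pi.smul_apply, smul_eq_mul, Pi.zero_apply] at this
      rw [inv_mul_cancel₀ hi0] at this
      exact one_ne_zero this
    have hwi0 : w i0 = 1 := by
      simp only [w, Pi.smul_apply, smul_eq_mul]
      exact inv_mul_cancel₀ hi0
    have hwsupp : supp w = T := by
      rw [← hvT]
      ext i
      simp only [supp, w, Finset.mem_filter, Finset.mem_univ, true_and, Pi.smul_apply, smul_eq_mul]
      constructor
      · intro hh hvi
        exact hh (by rw [hvi, mul_zero])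
      · intro hh
        exact mul_ne_zero (inv_ne_zero hi0) hh
    -- `w` is rational over every level
    have hwall : ∀ a, ∀ i, w i ∈ F a := by
      intro a
      obtain ⟨c, hc⟩ := hdir a0 a
      have hTc : T ∈ Sα c := hS0 c hT
      simp only [Sα, Finset.mem_filter, Finset.mem_univ, true_and] at hTc
      obtain ⟨u, huV, hu0, hu, huT⟩ := hTc
      have hi0T : i0 ∈ T := by
        rw [← hvT]
        simp only [supp, Finset.mem_filter, Finset.mem_univ, true_and]
        exact hi0
      have hui0 : u i0 ≠ 0 := by
        rw [← huT] at hi0T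
        simpa only [supp, Finset.mem_filter, Finset.mem_univ, true_and] using hi0T
      let u' : Fin n → K := (u i0)⁻¹ • u
      have hu'V : u' ∈ V := V.smul_mem _ huV
      have hu'c : ∀ i, u' i ∈ F c := fun i => by
        simp only [u', Pi.smul_apply, smul_eq_mul]
        exact (F c).mul_mem ((F c).inv_mem (hu i0)) (hu i)
      have hu'a0 : ∀ i, u' i ∈ F a0 := fun i => (hc.trans inf_le_left) (hu'c i)
      have hw_a0 : ∀ i, w i ∈ F a0 := fun i => by
        simp only [w, Pi.smul_apply, smul_eq_mul]
        exact (F a0).mul_mem ((F a0).inv_mem (hv i0)) (hv i)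
      -- the difference has smaller support
      have hdiff : w - u' = 0 := by
        by_contra hne
        have hdV : w - u' ∈ V := V.sub_mem hwV hu'V
        have hd_a0 : ∀ i, (w - u') i ∈ F a0 := fun i => (F a0).sub_mem (hw_a0 i) (hu'a0 i)
        have hmem : supp (w - u') ∈ Sα a0 := by
          simp only [Sα, Finset.mem_filter, Finset.mem_univ, true_and]
          exact ⟨w - u', hdV, hne, hd_a0, rfl⟩
        have hsub : supp (w - u') ⊂ T := by
          rw [Finset.ssubset_iff_of_subset]
          · refine ⟨i0, hi0T, ?_⟩
            simp only [supp, Finset.mem_filter, Finset.mem_univ, true_and, Pi.sub_apply, not_not]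
            rw [hwi0]
            simp only [u', Pi.smul_apply, smul_eq_mul]
            rw [inv_mul_cancel₀ hui0, sub_self]
          · intro i hi
            simp only [supp, Finset.mem_filter, Finset.mem_univ, true_and, Pi.sub_apply] at hi
            by_contra hiT
            apply hi
            have h1 : w i = 0 := by
              rw [← hwsupp] at hiT
              simpa only [supp, Finset.mem_filter, Finset.mem_univ, true_and, not_not] using hiT
            have h2 : u i = 0 := by
              rw [← huT] at hiT
              simpa only [supp, Finset.mem_filter, Finset.mem_univ, true_and, not_not] using hiT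
            simp only [u', Pi.smul_apply, smul_eq_mul]
            rw [h1, h2, mul_zero, sub_zero]
        exact absurd (hTmin _ hmem) (not_le.mpr (Finset.card_lt_card hsub))
      intro i
      have : w = u' := sub_eq_zero.mp hdiff
      rw [this]
      exact (hc.trans inf_le_right) (hu'c i)
    refine ⟨w, hwV, hw0, fun i => ?_⟩
    have hmem : w i ∈ ⨅ a, F a := by
      rw [← SetLike.mem_coe, IntermediateField.coe_iInf, Set.mem_iInter]
      exact fun a => hwall a i
    rw [hinf] at hmem
    exact IntermediateField.mem_bot.mp hmem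

end Groth.Agent.S2134
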