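import Groth.Statements.S2137
import Groth.Agent.H4.LDer3

set_option autoImplicit false
universe u
open CategoryTheory
attribute [local instance] HasDerivedCategory.standard
open CAlg

namespace Groth.Agent.S2137

open CategoryTheory DRing

attribute [local instance] HasDerivedCategory.standard
open DerivedCategory Groth.Agent.H4.LDer Groth.Agent.H4.DRing1 Groth.Agent.H4.PC Groth.Agent.H4.ResP

lemma isBAF_of_isBFF {R : Type u} [CommRing R] {E : Cx R} (hE : IsBFF E) : ∃ b : ℤ, IsBAF b E := by
  obtain ⟨a, b, h1, h2⟩ := hE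
  exact ⟨b, fun i hi => h1 i (Or.inr hi), fun i => (h2 i).2⟩

/-- Let `A → B` be a ring map and `K` an `m`-pseudo-coherent object of `D(A)`. Then `K ⊗^L_A B` is
`m`-pseudo-coherent in `D(B)`. (Stated assuming the total left derived functor of base change exists
on `D(A)`, a fact not available as a library result here.) -/
theorem result {A B : Type u} [CommRing A] [CommRing B] (φ : A →+* B) [DRing.HasLBaseChange φ]
    (K : Dual.D A) (m : ℤ) (hK : DRing.IsPseudoCoherent A m K) :
    DRing.IsPseudoCoherent B m ((DRing.LBaseChange φ).obj K) := by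
  obtain ⟨b, hb⟩ := exists_bound_of_isPC hK
  haveI : K.IsLE b := by rw [isLE_iff]; exact hb
  rw [isPC_iff] at hK ⊢
  obtain ⟨E, hE, α, hα⟩ := hK
  obtain ⟨bE, hE'⟩ := isBAF_of_isBFF hE
  haveI := hE'.isKProjective
  refine ⟨(GC (ModuleCat.extendScalars φ)).obj E, ?_,
    (isoOfKProj (ModuleCat.extendScalars φ) E).inv ≫ (LG (ModuleCat.extendScalars φ)).map α,
    isWit_LG_map (flatExact_extendScalars φ) hE' K b α m hα⟩
  obtain ⟨a₀, b₀, h1, h2⟩ := hE
  refine ⟨a₀, b₀, fun i hi => (ModuleCat.extendScalars φ).map_isZero (h1 i hi), fun i => ?_⟩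
  haveI := (h2 i).1
  haveI := (h2 i).2
  exact ⟨Groth.Agent.H4.ExtS.finite_obj φ (E.X i), Groth.Agent.H4.ExtS.free_obj φ (E.X i)⟩


end Groth.Agent.S2137
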