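import Groth.Statements.S2139
import Mathlib

set_option autoImplicit false
universe u
open CAlg

namespace Groth.Agent.S2139

open scoped nonZeroDivisors

/-- a nonzerodivisor is nonzero in any localization at a prime -/
lemma algebraMap_ne_zero_of_mem_nonZeroDivisors {R : Type u} [CommRing R] (p : Ideal R) [p.IsPrime]
    {s : R} (hs : s ∈ R⁰) : algebraMap R (Localization.AtPrime p) s ≠ 0 := by
  intro h
  rw [IsLocalization.map_eq_zero_iff p.primeCompl] at h
  obtain ⟨t, ht⟩ := h
  have : (t : R) = 0 := by
    exact hs.2 (t : R) ht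
  have ht' := t.2
  rw [this] at ht'
  exact ht' (zero_mem p)

/-- the map `Frac R → Frac R_p` when `R_p` is a domain -/
noncomputable def toFrac {R : Type u} [CommRing R] (p : Ideal R) [p.IsPrime]
    [IsDomain (Localization.AtPrime p)] :
    FractionRing R →ₐ[R] FractionRing (Localization.AtPrime p) :=
  IsLocalization.liftAlgHom (M := R⁰)
    (f := Algebra.algHom R R (FractionRing (Localization.AtPrime p)))
    (by
      rintro ⟨s, hs⟩
      apply IsUnit.mk0
      change algebraMap R (FractionRing (Localization.AtPrime p)) s ≠ 0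
      rw [IsScalarTower.algebraMap_apply R (Localization.AtPrime p)]
      intro h
      have := (IsFractionRing.injective (Localization.AtPrime p)
        (FractionRing (Localization.AtPrime p))) (h.trans (map_zero _).symm)
      exact algebraMap_ne_zero_of_mem_nonZeroDivisors p hs this)

lemma fwd {R : Type u} [CommRing R]
    (h : ∀ (p : Ideal R) [p.IsPrime], IsDomain (Localization.AtPrime p) ∧
      IsIntegrallyClosed (Localization.AtPrime p)) :
    IsIntegrallyClosedIn R (FractionRing R) := by
  rw [isIntegrallyClosedIn_iff]
  refine ⟨IsFractionRing.injective R _, ?_⟩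
  intro x hx
  let D : Ideal R := (LinearMap.range (Algebra.linearMap R (FractionRing R))).colon {x}
  have hD : ∀ r : R, r ∈ D ↔ ∃ y : R, algebraMap R (FractionRing R) y = r • x := by
    intro r
    simp only [D, Submodule.mem_colon_singleton, LinearMap.mem_range, Algebra.linearMap_apply]
  by_cases hDtop : D = ⊤
  · have : (1 : R) ∈ D := hDtop ▸ Submodule.mem_top
    obtain ⟨y, hy⟩ := (hD 1).1 this
    exact ⟨y, by rw [hy, one_smul]⟩
  exfalso
  obtain ⟨m, hm, hDm⟩ := Ideal.exists_le_maximal D hDtop
  have hmp : m.IsPrime := hm.isPrime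
  obtain ⟨hdom, hic⟩ := h m
  have hint : IsIntegral (Localization.AtPrime m) (toFrac m x) :=
    (hx.map (toFrac m)).tower_top
  obtain ⟨y, hy⟩ := (isIntegrallyClosed_iff (FractionRing (Localization.AtPrime m))).1 hic hint
  obtain ⟨a, s, rfl⟩ := IsLocalization.exists_mk'_eq R⁰ x
  obtain ⟨b, t, rfl⟩ := IsLocalization.exists_mk'_eq m.primeCompl y
  -- clear denominators
  have h1 : algebraMap R (FractionRing (Localization.AtPrime m)) (a * t) =
      algebraMap R (FractionRing (Localization.AtPrime m)) (b * s) := by
    have e1 : toFrac m (IsLocalization.mk' (FractionRing R) a s) *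
        algebraMap R (FractionRing (Localization.AtPrime m)) s =
        algebraMap R (FractionRing (Localization.AtPrime m)) a := by
      have := IsLocalization.mk'_spec (FractionRing R) a s
      have h2 := congrArg (toFrac m) this
      rw [map_mul, AlgHom.commutes, AlgHom.commutes] at h2
      exact h2
    have e2 : algebraMap (Localization.AtPrime m) (FractionRing (Localization.AtPrime m))
        (IsLocalization.mk' (Localization.AtPrime m) b t) *
        algebraMap R (FractionRing (Localization.AtPrime m)) t =
        algebraMap R (FractionRing (Localization.AtPrime m)) b := by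
      have := IsLocalization.mk'_spec (Localization.AtPrime m) b t
      have h2 := congrArg (algebraMap (Localization.AtPrime m)
        (FractionRing (Localization.AtPrime m))) this
      rw [map_mul, ← IsScalarTower.algebraMap_apply, ← IsScalarTower.algebraMap_apply] at h2
      exact h2
    rw [map_mul, map_mul, ← e1, ← e2, hy]
    ring
  have h2 : algebraMap R (Localization.AtPrime m) (a * t) =
      algebraMap R (Localization.AtPrime m) (b * s) := by
    apply IsFractionRing.injective (Localization.AtPrime m)
      (FractionRing (Localization.AtPrime m))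
    rw [← IsScalarTower.algebraMap_apply, ← IsScalarTower.algebraMap_apply]
    exact h1
  obtain ⟨u, hu⟩ := (IsLocalization.eq_iff_exists m.primeCompl _).1 h2
  have hmem : (u : R) * t ∈ D := by
    rw [hD]
    refine ⟨u * b, ?_⟩
    rw [Algebra.smul_def]
    have h3 := IsLocalization.mk'_spec (FractionRing R) a s
    have : algebraMap R (FractionRing R) (↑u * ↑t) * IsLocalization.mk' (FractionRing R) a s *
        algebraMap R (FractionRing R) s = algebraMap R (FractionRing R) (↑u * b) *
        algebraMap R (FractionRing R) s := by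
      rw [mul_assoc, h3, ← map_mul, ← map_mul]
      congr 1
      calc (u : R) * t * a = u * (a * t) := by ring
        _ = u * (b * s) := hu
        _ = u * b * s := by ring
    have hsu : IsUnit (algebraMap R (FractionRing R) s) := IsLocalization.map_units _ s
    exact (hsu.mul_right_cancel this).symm
  have : (u : R) * t ∈ m := hDm hmem
  rcases hmp.mem_or_mem this with h | h
  · exact u.2 h
  · exact t.2 h

lemma eq_zero_of_forall_mem_minimalPrimes {R : Type u} [CommRing R] [IsReduced R] {x : R}
    (h : ∀ q ∈ minimalPrimes R, x ∈ q) : x = 0 := by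
  have : x ∈ nilradical R := by
    rw [nilradical, ← Ideal.sInf_minimalPrimes, Submodule.mem_sInf]
    exact h
  rw [nilradical_eq_zero] at this
  exact this

lemma mem_nonZeroDivisors_of_forall_notMem {R : Type u} [CommRing R] [IsReduced R] {x : R}
    (h : ∀ q ∈ minimalPrimes R, x ∉ q) : x ∈ R⁰ := by
  rw [mem_nonZeroDivisors_iff_right]
  intro c hc
  apply eq_zero_of_forall_mem_minimalPrimes
  intro q hq
  have hqp : q.IsPrime := hq.1.1
  have : c * x ∈ q := by rw [hc]; exact zero_mem q
  rcases hqp.mem_or_mem this with h1 | h1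
  · exact h1
  · exact absurd h1 (h q hq)

lemma exists_idem {R : Type u} [CommRing R] [IsReduced R] (hfin : (minimalPrimes R).Finite)
    (hic : IsIntegrallyClosedIn R (FractionRing R)) (q : Ideal R) (hq : q ∈ minimalPrimes R) :
    ∃ e : R, e * e = e ∧ 1 - e ∈ q ∧ ∀ q' ∈ minimalPrimes R, q' ≠ q → e ∈ q' := by
  classical
  have hqp : q.IsPrime := hq.1.1
  set T : Finset (Ideal R) := hfin.toFinset.erase q with hT
  have hTmem : ∀ q', q' ∈ T ↔ q' ∈ minimalPrimes R ∧ q' ≠ q := by
    intro q'
    simp only [hT, Finset.mem_erase, Set.Finite.mem_toFinset]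
    tauto
  -- a ∈ ⨅ T, a ∉ q
  obtain ⟨a, haT, haq⟩ : ∃ a, a ∈ T.inf id ∧ a ∉ q := by
    by_contra hcon
    push Not at hcon
    have hle : T.inf id ≤ q := fun a ha => hcon a ha
    obtain ⟨q', hq'T, hq'le⟩ := hqp.inf_le'.1 hle
    obtain ⟨hq'min, hq'ne⟩ := (hTmem q').1 hq'T
    have hq'p : q'.IsPrime := hq'min.1.1
    exact hq'ne (le_antisymm hq'le (hq.2 ⟨hq'p, bot_le⟩ hq'le))
  -- b ∈ q, b ∉ ∪ T
  obtain ⟨b, hbq, hbT⟩ : ∃ b, b ∈ q ∧ ∀ q' ∈ T, b ∉ q' := by
    by_contra hcon
    push Not at hcon
    have hsub : (q : Set R) ⊆ ⋃ i ∈ (↑T : Set (Ideal R)), (id i : Ideal R) := by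
      intro b hb
      obtain ⟨q', hq'T, hbq'⟩ := hcon b hb
      simp only [Set.mem_iUnion]
      exact ⟨q', hq'T, hbq'⟩
    obtain ⟨q', hq'T, hq'le⟩ := (Ideal.subset_union_prime (f := id) q q (fun i hi _ _ =>
      ((hTmem i).1 hi).1.1.1)).1 hsub
    obtain ⟨hq'min, hq'ne⟩ := (hTmem q').1 hq'T
    have hq'p : q'.IsPrime := hq'min.1.1
    exact hq'ne (le_antisymm (hq'min.2 ⟨hqp, bot_le⟩ hq'le) hq'le)
  have haT' : ∀ q' ∈ T, a ∈ q' := by
    intro q' hq'
    exact (Finset.inf_le hq' : T.inf id ≤ id q') haT
  have hab : a * b = 0 := by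
    apply eq_zero_of_forall_mem_minimalPrimes
    intro q' hq'
    by_cases hqq : q' = q
    · subst hqq
      exact Ideal.mul_mem_left _ _ hbq
    · exact Ideal.mul_mem_right _ _ (haT' q' ((hTmem q').2 ⟨hq', hqq⟩))
  have hnzd : a + b ∈ R⁰ := by
    apply mem_nonZeroDivisors_of_forall_notMem
    intro q' hq' hmem
    by_cases hqq : q' = q
    · subst hqq
      exact haq (by simpa using Ideal.sub_mem _ hmem hbq)
    · have hq'T := (hTmem q').2 ⟨hq', hqq⟩
      exact hbT q' hq'T (by simpa using Ideal.sub_mem _ hmem (haT' q' hq'T))
  -- the idempotent in the fraction ring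
  set e' : FractionRing R := IsLocalization.mk' (FractionRing R) a ⟨a + b, hnzd⟩ with he'
  have hspec : e' * algebraMap R (FractionRing R) (a + b) = algebraMap R (FractionRing R) a :=
    IsLocalization.mk'_spec (FractionRing R) a ⟨a + b, hnzd⟩
  have hu : IsUnit (algebraMap R (FractionRing R) (a + b)) :=
    IsLocalization.map_units (FractionRing R) (⟨a + b, hnzd⟩ : R⁰)
  have hidem : e' * e' = e' := by
    have h1 : e' * e' * (algebraMap R (FractionRing R) (a + b) *
        algebraMap R (FractionRing R) (a + b)) =
        e' * (algebraMap R (FractionRing R) (a + b) * algebraMap R (FractionRing R) (a + b)) := by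
      have : e' * e' * (algebraMap R (FractionRing R) (a + b) *
          algebraMap R (FractionRing R) (a + b)) =
          (e' * algebraMap R (FractionRing R) (a + b)) *
          (e' * algebraMap R (FractionRing R) (a + b)) := by ring
      rw [this, hspec, ← mul_assoc, hspec, ← map_mul, ← map_mul]
      congr 1
      rw [mul_add, hab, add_zero]
    exact (hu.mul hu).mul_right_cancel h1
  have hint : IsIntegral R e' := by
    refine ⟨Polynomial.X ^ 2 - Polynomial.X, ?_, ?_⟩
    · exact Polynomial.monic_X_pow_sub (lt_of_le_of_lt Polynomial.degree_X_le (by norm_num))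
    · simp [pow_two, hidem]
  obtain ⟨e, hee'⟩ := (isIntegrallyClosedIn_iff.1 hic).2 hint
  have hinj := (isIntegrallyClosedIn_iff.1 hic).1
  have he1 : e * e = e := by
    apply hinj
    rw [map_mul, hee', hidem]
  have he2 : e * (a + b) = a := by
    apply hinj
    rw [map_mul, hee', hspec]
  refine ⟨e, he1, ?_, ?_⟩
  · have : e * (1 - e) ∈ q := by
      have : e * (1 - e) = 0 := by rw [mul_sub, mul_one, he1, sub_self]
      rw [this]; exact zero_mem q
    rcases hqp.mem_or_mem this with h1 | h1
    · exfalso
      apply haq
      rw [← he2]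
      exact Ideal.mul_mem_right _ _ h1
    · exact h1
  · intro q' hq' hne
    have hq'T := (hTmem q').2 ⟨hq', hne⟩
    have hq'p : q'.IsPrime := hq'.1.1
    have : e * (a + b) ∈ q' := by rw [he2]; exact haT' q' hq'T
    rcases hq'p.mem_or_mem this with h1 | h1
    · exact h1
    · exfalso
      exact hbT q' hq'T (by simpa using Ideal.sub_mem _ h1 (haT' q' hq'T))

lemma idem_aeval {R Q : Type u} [CommRing R] [CommRing Q] [Algebra R Q] (ε t : Q)
    (hε : ε * ε = ε) (P : Polynomial R) :
    ε * Polynomial.aeval (ε * t) P = ε * Polynomial.aeval t P := by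
  induction P using Polynomial.induction_on with
  | C a => simp
  | add f g hf hg => simp only [map_add, mul_add, hf, hg]
  | monomial n a ih =>
    simp only [map_mul, Polynomial.aeval_C, map_pow, Polynomial.aeval_X]
    have hpow : ∀ k : ℕ, ε * (ε * t) ^ k = ε * t ^ k := by
      intro k
      induction k with
      | zero => simp
      | succ k ihk =>
        rw [pow_succ, ← mul_assoc, ihk, pow_succ]
        calc ε * t ^ k * (ε * t) = (ε * ε) * (t ^ k * t) := by ring
          _ = ε * (t ^ k * t) := by rw [hε]
    calc ε * ((algebraMap R Q) a * (ε * t) ^ (n + 1))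
        = (algebraMap R Q) a * (ε * (ε * t) ^ (n + 1)) := by ring
      _ = (algebraMap R Q) a * (ε * t ^ (n + 1)) := by rw [hpow]
      _ = ε * ((algebraMap R Q) a * t ^ (n + 1)) := by ring

lemma bwd {R : Type u} [CommRing R] [IsReduced R] (hfin : (minimalPrimes R).Finite)
    (hic : IsIntegrallyClosedIn R (FractionRing R)) (p : Ideal R) [hp : p.IsPrime] :
    IsDomain (Localization.AtPrime p) ∧ IsIntegrallyClosed (Localization.AtPrime p) := by
  obtain ⟨q, hqmin, hqp⟩ := Ideal.exists_minimalPrimes_le (bot_le : (⊥ : Ideal R) ≤ p)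
  have hqmin' : q ∈ minimalPrimes R := hqmin
  have hqprime : q.IsPrime := hqmin.1.1
  obtain ⟨e, he1, heq, heT⟩ := exists_idem hfin hic q hqmin'
  have hep : e ∉ p := by
    intro h
    have : (1 : R) ∈ p := by
      have := Ideal.add_mem _ h (hqp heq)
      simpa using this
    exact hp.ne_top ((Ideal.eq_top_iff_one _).2 this)
  have hemul : ∀ x ∈ q, e * x = 0 := by
    intro x hx
    apply eq_zero_of_forall_mem_minimalPrimes
    intro q' hq'
    by_cases hqq : q' = q
    · subst hqq; exact Ideal.mul_mem_left _ _ hx
    · exact Ideal.mul_mem_right _ _ (heT q' hq' hqq)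
  have hker : ∀ x : R, algebraMap R (Localization.AtPrime p) x = 0 ↔ x ∈ q := by
    intro x
    rw [IsLocalization.map_eq_zero_iff p.primeCompl]
    constructor
    · rintro ⟨u, hu⟩
      have : (u : R) * x ∈ q := by rw [hu]; exact zero_mem q
      rcases hqprime.mem_or_mem this with h1 | h1
      · exact absurd (hqp h1) u.2
      · exact h1
    · intro hx
      exact ⟨⟨e, hep⟩, hemul x hx⟩
  have hdom : IsDomain (Localization.AtPrime p) := by
    have hnzd : NoZeroDivisors (Localization.AtPrime p) := by
      refine ⟨?_⟩
      intro x' y' hxy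
      obtain ⟨x, s, rfl⟩ := IsLocalization.exists_mk'_eq p.primeCompl x'
      obtain ⟨y, t, rfl⟩ := IsLocalization.exists_mk'_eq p.primeCompl y'
      rw [← IsLocalization.mk'_mul, IsLocalization.mk'_eq_zero_iff] at hxy
      obtain ⟨u, hu⟩ := hxy
      have : (u : R) * (x * y) ∈ q := by rw [hu]; exact zero_mem q
      rcases hqprime.mem_or_mem this with h1 | h1
      · exact absurd (hqp h1) u.2
      · rcases hqprime.mem_or_mem h1 with h2 | h2
        · left
          rw [IsLocalization.mk'_eq_zero_iff]
          exact ⟨⟨e, hep⟩, hemul x h2⟩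
        · right
          rw [IsLocalization.mk'_eq_zero_iff]
          exact ⟨⟨e, hep⟩, hemul y h2⟩
    exact NoZeroDivisors.to_isDomain _
  refine ⟨hdom, ?_⟩
  -- integrally closed
  have hinjK := IsFractionRing.injective (Localization.AtPrime p)
    (FractionRing (Localization.AtPrime p))
  have hα0 : ∀ x : R, algebraMap R (FractionRing (Localization.AtPrime p)) x = 0 ↔ x ∈ q := by
    intro x
    rw [IsScalarTower.algebraMap_apply R (Localization.AtPrime p), ← hker]
    constructor
    · intro h
      exact hinjK (h.trans (map_zero _).symm)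
    · intro h
      rw [h, map_zero]
  have hαe : algebraMap R (FractionRing (Localization.AtPrime p)) e = 1 := by
    have := (hα0 (1 - e)).2 heq
    rw [map_sub, map_one, sub_eq_zero] at this
    exact this.symm
  have hkerφ : ∀ w : FractionRing R, toFrac p w = 0 →
      algebraMap R (FractionRing R) e * w = 0 := by
    intro w hw
    obtain ⟨c, d, rfl⟩ := IsLocalization.exists_mk'_eq R⁰ w
    have h1 := IsLocalization.mk'_spec (FractionRing R) c d
    have h2 := congrArg (toFrac p) h1
    rw [map_mul, hw, zero_mul, AlgHom.commutes] at h2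
    have hc : c ∈ q := (hα0 c).1 h2.symm
    have hu : IsUnit (algebraMap R (FractionRing R) d) := IsLocalization.map_units _ d
    apply hu.mul_right_cancel
    rw [zero_mul, mul_assoc, h1, ← map_mul, hemul c hc, map_zero]
  rw [isIntegrallyClosed_iff (FractionRing (Localization.AtPrime p))]
  intro y hy
  obtain ⟨s, hs⟩ := IsIntegral.exists_multiple_integral_of_isLocalization p.primeCompl y hy
  -- write y as a fraction of elements of R
  obtain ⟨a', b', hb'q, hyab⟩ : ∃ a' b' : R, b' ∉ q ∧
      y * algebraMap R (FractionRing (Localization.AtPrime p)) b' =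
        algebraMap R (FractionRing (Localization.AtPrime p)) a' := by
    obtain ⟨n, d, hnd⟩ := IsLocalization.exists_mk'_eq (Localization.AtPrime p)⁰ y
    obtain ⟨a0, s0, hn⟩ := IsLocalization.exists_mk'_eq p.primeCompl n
    obtain ⟨b0, t0, hd⟩ := IsLocalization.exists_mk'_eq p.primeCompl (d : Localization.AtPrime p)
    have hb0 : b0 ∉ q := by
      intro h
      have h0 : algebraMap R (Localization.AtPrime p) b0 = 0 := (hker b0).2 h
      have h1 := IsLocalization.mk'_spec (Localization.AtPrime p) b0 t0
      rw [hd, h0] at h1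
      have hut : IsUnit (algebraMap R (Localization.AtPrime p) t0) :=
        IsLocalization.map_units _ t0
      have : (d : Localization.AtPrime p) = 0 := by
        apply hut.mul_right_cancel
        rw [h1, zero_mul]
      exact nonZeroDivisors.coe_ne_zero d this
    refine ⟨a0 * t0, b0 * s0, ?_, ?_⟩
    · intro h
      rcases hqprime.mem_or_mem h with h1 | h1
      · exact hb0 h1
      · exact s0.2 (hqp h1)
    · have h1 := IsLocalization.mk'_spec (FractionRing (Localization.AtPrime p)) n d
      rw [hnd] at h1
      have h2 := IsLocalization.mk'_spec (Localization.AtPrime p) a0 s0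
      rw [hn] at h2
      have h3 := IsLocalization.mk'_spec (Localization.AtPrime p) b0 t0
      rw [hd] at h3
      have h2' := congrArg (algebraMap (Localization.AtPrime p)
        (FractionRing (Localization.AtPrime p))) h2
      have h3' := congrArg (algebraMap (Localization.AtPrime p)
        (FractionRing (Localization.AtPrime p))) h3
      rw [map_mul, ← IsScalarTower.algebraMap_apply, ← IsScalarTower.algebraMap_apply] at h2' h3'
      rw [map_mul, map_mul, ← h2', ← h3', ← h1]
      ring
  -- adjust the denominator to a nonzerodivisor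
  set b'' : R := b' * e + (1 - e) with hb''
  have hdiff : b'' - b' ∈ q := by
    have : b'' - b' = (1 - e) * (1 - b') := by rw [hb'']; ring
    rw [this]
    exact Ideal.mul_mem_right _ _ heq
  have hαb : algebraMap R (FractionRing (Localization.AtPrime p)) b'' =
      algebraMap R (FractionRing (Localization.AtPrime p)) b' := by
    have := (hα0 _).2 hdiff
    rw [map_sub, sub_eq_zero] at this
    exact this
  have hb''nzd : b'' ∈ R⁰ := by
    apply mem_nonZeroDivisors_of_forall_notMem
    intro q' hq' hmem
    by_cases hqq : q' = q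
    · subst hqq
      apply hb'q
      have := Ideal.sub_mem _ hmem hdiff
      simpa using this
    · have hq'p : q'.IsPrime := hq'.1.1
      have h1 : b' * e ∈ q' := Ideal.mul_mem_left _ _ (heT q' hq' hqq)
      have h2 : 1 - e ∈ q' := by
        have := Ideal.sub_mem _ hmem h1
        simpa [hb''] using this
      have : (1 : R) ∈ q' := by
        have := Ideal.add_mem _ (heT q' hq' hqq) h2
        simpa using this
      exact hq'p.ne_top ((Ideal.eq_top_iff_one _).2 this)
  set x : FractionRing R := IsLocalization.mk' (FractionRing R) a' ⟨b'', hb''nzd⟩ with hx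
  have hαb'ne : algebraMap R (FractionRing (Localization.AtPrime p)) b' ≠ 0 := by
    intro h
    exact hb'q ((hα0 b').1 h)
  have hφx : toFrac p x = y := by
    have h1 := IsLocalization.mk'_spec (FractionRing R) a' ⟨b'', hb''nzd⟩
    have h2 := congrArg (toFrac p) h1
    rw [map_mul, AlgHom.commutes, AlgHom.commutes] at h2
    change toFrac p x * algebraMap R (FractionRing (Localization.AtPrime p)) b'' = _ at h2
    rw [hαb, ← hyab] at h2
    exact mul_right_cancel₀ hαb'ne h2
  -- the element z
  set ε : FractionRing R := algebraMap R (FractionRing R) e with hε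
  have hεε : ε * ε = ε := by rw [hε, ← map_mul, he1]
  set t : FractionRing R := algebraMap R (FractionRing R) (s : R) * x with ht
  have hφt : toFrac p t = s • y := by
    rw [ht, map_mul, AlgHom.commutes, hφx, Submonoid.smul_def, Algebra.smul_def]
  obtain ⟨P, hPmonic, hPeval⟩ := hs
  have hw : toFrac p (Polynomial.aeval t P) = 0 := by
    rw [← Polynomial.aeval_algHom_apply, hφt]
    exact hPeval
  have hz : IsIntegral R (ε * t) := by
    refine ⟨Polynomial.X * P, Polynomial.monic_X.mul hPmonic, ?_⟩
    rw [← Polynomial.aeval_def, map_mul, Polynomial.aeval_X]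
    calc ε * t * Polynomial.aeval (ε * t) P = t * (ε * Polynomial.aeval (ε * t) P) := by ring
      _ = t * (ε * Polynomial.aeval t P) := by rw [idem_aeval ε t hεε P]
      _ = 0 := by rw [hkerφ _ hw, mul_zero]
  obtain ⟨r, hr⟩ := (isIntegrallyClosedIn_iff.1 hic).2 hz
  have hαr : algebraMap R (FractionRing (Localization.AtPrime p)) r =
      algebraMap R (FractionRing (Localization.AtPrime p)) (s : R) * y := by
    have := congrArg (toFrac p) hr
    rw [AlgHom.commutes, map_mul, hφt, hε, AlgHom.commutes, hαe, one_mul, Submonoid.smul_def,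
      Algebra.smul_def] at this
    exact this
  refine ⟨IsLocalization.mk' (Localization.AtPrime p) r s, ?_⟩
  have hαs : algebraMap R (FractionRing (Localization.AtPrime p)) (s : R) ≠ 0 := by
    intro h
    exact s.2 (hqp ((hα0 _).1 h))
  apply mul_right_cancel₀ hαs
  have h1 := IsLocalization.mk'_spec (Localization.AtPrime p) r s
  have h2 := congrArg (algebraMap (Localization.AtPrime p)
    (FractionRing (Localization.AtPrime p))) h1
  rw [map_mul, ← IsScalarTower.algebraMap_apply, ← IsScalarTower.algebraMap_apply] at h2
  rw [h2, hαr, mul_comm]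

/-- Let `R` be a reduced ring with finitely many minimal primes. Then every localization of `R` at a
prime is an integrally closed domain if and only if `R` is integrally closed in its total ring of
fractions. -/
theorem result {R : Type u} [CommRing R] [IsReduced R] (hfin : (minimalPrimes R).Finite) :
    (∀ (p : Ideal R) [p.IsPrime], IsDomain (Localization.AtPrime p) ∧ IsIntegrallyClosed (Localization.AtPrime p)) ↔
      IsIntegrallyClosedIn R (FractionRing R) := by
  constructor
  · intro h
    exact fwd h
  · intro h p _
    exact bwd hfin h p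

end Groth.Agent.S2139
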