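import Groth.Statements.S2140
import Mathlib
import Groth.Agent.Lib.Helper1.GenericNN
import Groth.Agent.Lib.Helper1.GenericFree

set_option autoImplicit false
universe u
open CAlg

namespace Groth.Agent.S2140

open Groth.Agent.H1

theorem step1 {R S : Type u} [CommRing R] [IsDomain R] [CommRing S] [IsDomain S]
    [Algebra R S] [Algebra.FiniteType R S] (hinj : Function.Injective (algebraMap R S)) :
    ∃ (d : ℕ) (y : Fin d → S) (f : R), f ≠ 0 ∧ AlgebraicIndependent R y ∧
      ∃ (c : Algebra.adjoin R (Set.range y)) (r : ℕ) (e : Fin r → S), c ≠ 0 ∧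
        LinearIndependent (Algebra.adjoin R (Set.range y)) e ∧
        ∀ s : S, ∃ k : ℕ, (algebraMap R (Algebra.adjoin R (Set.range y)) f * c) ^ k • s ∈
          Submodule.span (Algebra.adjoin R (Set.range y)) (Set.range e) := by
  classical
  obtain ⟨d, y, f, hf, hy, G, hG, hint⟩ := GNN.main (R := R) (S := S) hinj
  refine ⟨d, y, f, hf, hy, ?_⟩
  set A₀ := Algebra.adjoin R (Set.range y) with hA₀
  set Gf : Set S := (fun x => f • x) '' (G : Set S) with hGf
  have hGffin : Gf.Finite := (Finset.finite_toSet G).image _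
  have hGfint : ∀ x ∈ Gf, IsIntegral A₀ x := by
    rintro _ ⟨x, hx, rfl⟩
    exact hint x hx
  set S' := Algebra.adjoin A₀ Gf with hS'
  obtain ⟨t, ht⟩ := fg_adjoin_of_finite hGffin hGfint
  obtain ⟨r, e, c, hli, hc, hmem⟩ :=
    GenericFree.exists_linearIndependent_smul_mem_span (A := A₀) t
  refine ⟨c, r, e, hc, hli, ?_⟩
  have hS'mem : ∀ s' ∈ S', c • s' ∈ Submodule.span A₀ (Set.range e) := by
    intro s' hs'
    have : s' ∈ Submodule.span A₀ (t : Set S) := by rw [ht]; exact hs'
    clear hs'
    induction this using Submodule.span_induction with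
    | mem x hx => exact hmem x hx
    | zero => rw [smul_zero]; exact Submodule.zero_mem _
    | add x y _ _ hx hy => rw [smul_add]; exact Submodule.add_mem _ hx hy
    | smul a x _ hx => rw [smul_comm]; exact Submodule.smul_mem _ _ hx
  have hsmulS' : ∀ (j : ℕ) (s' : S), s' ∈ S' → f ^ j • s' ∈ S' := by
    intro j s' hs'
    rw [← algebraMap_smul A₀ (f ^ j) s']
    exact Subalgebra.smul_mem _ hs' _
  have hpow : ∀ s : S, ∃ k : ℕ, f ^ k • s ∈ S' := by
    intro s
    have hs : s ∈ Algebra.adjoin R (G : Set S) := by rw [hG]; trivial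
    induction hs using Algebra.adjoin_induction with
    | mem x hx =>
      refine ⟨1, ?_⟩
      rw [pow_one]
      exact Algebra.subset_adjoin ⟨x, hx, rfl⟩
    | algebraMap a =>
      refine ⟨0, ?_⟩
      rw [pow_zero, one_smul, IsScalarTower.algebraMap_apply R A₀ S]
      exact Subalgebra.algebraMap_mem _ _
    | add a b _ _ ha hb =>
      obtain ⟨k₁, h₁⟩ := ha
      obtain ⟨k₂, h₂⟩ := hb
      refine ⟨k₁ + k₂, ?_⟩
      rw [smul_add]
      apply Subalgebra.add_mem
      · rw [add_comm, pow_add, mul_smul]; exact hsmulS' _ _ h₁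
      · rw [pow_add, mul_smul]; exact hsmulS' _ _ h₂
    | mul a b _ _ ha hb =>
      obtain ⟨k₁, h₁⟩ := ha
      obtain ⟨k₂, h₂⟩ := hb
      refine ⟨k₁ + k₂, ?_⟩
      rw [pow_add, ← smul_mul_smul_comm]
      exact Subalgebra.mul_mem _ h₁ h₂
  intro s
  obtain ⟨k, hk⟩ := hpow s
  refine ⟨k + 1, ?_⟩
  have h1 := hS'mem _ hk
  have h2 : (algebraMap R A₀ f * c) ^ (k + 1) • s =
      (algebraMap R A₀ f * c ^ k) • (c • (f ^ k • s)) := by
    rw [Algebra.smul_def (f ^ k) s]
    show (((algebraMap R A₀ f * c) ^ (k + 1) : A₀) : S) * s =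
      ((algebraMap R A₀ f * c ^ k : A₀) : S) * ((c : S) * (algebraMap R S (f ^ k) * s))
    simp only [Subalgebra.coe_mul, Subalgebra.coe_pow, Subalgebra.coe_algebraMap, map_pow]
    ring
  rw [h2]
  exact Submodule.smul_mem _ _ h1

theorem step2 {R S : Type u} [CommRing R] [IsDomain R] [CommRing S] [IsDomain S]
    [Algebra R S] (A₀ : Subalgebra R S) [Algebra.FinitePresentation R A₀] (f : R)
    (c : A₀) (hfc : algebraMap R S f * (c : S) ≠ 0)
    {r : ℕ} (e : Fin r → S)
    (hli : LinearIndependent A₀ e)
    (hspan : ∀ s : S, ∃ k : ℕ, (algebraMap R A₀ f * c) ^ k • s ∈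
          Submodule.span A₀ (Set.range e))
    (Rf Sfg : Type u) [CommRing Rf] [CommRing Sfg] [Algebra R Rf] [IsLocalization.Away f Rf]
    [Algebra S Sfg] [hloc : IsLocalization.Away (algebraMap R S f * (c : S)) Sfg] [Algebra Rf Sfg]
    [Algebra R Sfg] [IsScalarTower R S Sfg] [IsScalarTower R Rf Sfg] :
    Algebra.FinitePresentation Rf Sfg := by
  have hhS : algebraMap A₀ S (algebraMap R A₀ f * c) = algebraMap R S f * (c : S) := rfl
  haveI : IsScalarTower A₀ S Sfg := inferInstance
  have halg : ∀ x : A₀, algebraMap A₀ Sfg x = algebraMap S Sfg (algebraMap A₀ S x) :=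
    fun x => IsScalarTower.algebraMap_apply A₀ S Sfg x
  haveI : IsLocalization.Away (algebraMap A₀ S (algebraMap R A₀ f * c)) Sfg := by
    rw [hhS]; exact hloc
  have hunit : IsUnit (algebraMap A₀ Sfg (algebraMap R A₀ f * c)) := by
    rw [halg]
    exact IsLocalization.Away.algebraMap_isUnit _
  letI : Algebra (Localization.Away (algebraMap R A₀ f * c)) Sfg :=
    (IsLocalization.Away.lift (algebraMap R A₀ f * c) hunit).toAlgebra
  have hlift : ∀ x : A₀, algebraMap (Localization.Away (algebraMap R A₀ f * c)) Sfg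
      (algebraMap A₀ _ x) = algebraMap A₀ Sfg x :=
    fun x => IsLocalization.Away.lift_eq (algebraMap R A₀ f * c) hunit x
  haveI : IsScalarTower A₀ (Localization.Away (algebraMap R A₀ f * c)) Sfg :=
    IsScalarTower.of_algebraMap_eq (fun x => (hlift x).symm)
  have hinjT : Function.Injective (algebraMap S Sfg) :=
    IsLocalization.injective Sfg (powers_le_nonZeroDivisors_of_noZeroDivisors hfc)
  obtain ⟨hfree, hfin⟩ := GenericFree.free_finite_of_localization (algebraMap R A₀ f * c) e hli
    hspan (Localization.Away (algebraMap R A₀ f * c)) Sfg hinjT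
  haveI : Module.FinitePresentation (Localization.Away (algebraMap R A₀ f * c)) Sfg :=
    Module.finitePresentation_of_projective _ _
  haveI : Algebra.FinitePresentation (Localization.Away (algebraMap R A₀ f * c)) Sfg :=
    Algebra.FinitePresentation.of_finitePresentation _ _
  haveI : Algebra.FinitePresentation A₀ (Localization.Away (algebraMap R A₀ f * c)) :=
    IsLocalization.Away.finitePresentation (algebraMap R A₀ f * c)
  haveI : Algebra.FinitePresentation R (Localization.Away (algebraMap R A₀ f * c)) :=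
    Algebra.FinitePresentation.trans R A₀ (Localization.Away (algebraMap R A₀ f * c))
  haveI : IsScalarTower R (Localization.Away (algebraMap R A₀ f * c)) Sfg := by
    apply IsScalarTower.of_algebraMap_eq
    intro x
    rw [IsScalarTower.algebraMap_apply R A₀ (Localization.Away (algebraMap R A₀ f * c)), hlift,
      IsScalarTower.algebraMap_apply R S Sfg, IsScalarTower.algebraMap_apply R A₀ S, halg]
  haveI : Algebra.FinitePresentation R Sfg :=
    Algebra.FinitePresentation.trans R (Localization.Away (algebraMap R A₀ f * c)) Sfg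
  haveI : Algebra.FinitePresentation R Rf := IsLocalization.Away.finitePresentation f
  exact Algebra.FinitePresentation.of_restrict_scalars_finitePresentation R Rf Sfg

/-- Let `R → S` be an injective ring map of finite type between domains. Then there are nonzero `f ∈ R`
and `g ∈ S` such that `S_{fg}` is a finitely presented `R_f`-algebra. -/
theorem result {R S : Type u} [CommRing R] [IsDomain R] [CommRing S] [IsDomain S]
    [Algebra R S] [Algebra.FiniteType R S] (hinj : Function.Injective (algebraMap R S)) :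
    ∃ (f : R) (g : S), f ≠ 0 ∧ g ≠ 0 ∧
      ∀ (Rf Sfg : Type u) [CommRing Rf] [CommRing Sfg] [Algebra R Rf] [IsLocalization.Away f Rf]
        [Algebra S Sfg] [IsLocalization.Away (algebraMap R S f * g) Sfg] [Algebra Rf Sfg] [Algebra R Sfg]
        [IsScalarTower R S Sfg] [IsScalarTower R Rf Sfg], Algebra.FinitePresentation Rf Sfg := by
  obtain ⟨d, y, f, hf, hy, c, r, e, hc, hli, hspan⟩ := step1 (R := R) (S := S) hinj
  have hcS : (c : S) ≠ 0 := fun h => hc (Subtype.ext h)
  have hfS : algebraMap R S f ≠ 0 := fun h => hf (hinj (h.trans (map_zero _).symm))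
  refine ⟨f, (c : S), hf, hcS, ?_⟩
  intro Rf Sfg _ _ _ _ _ _ _ _ _ _
  haveI : Algebra.FinitePresentation R (Algebra.adjoin R (Set.range y)) :=
    Algebra.FinitePresentation.equiv hy.aevalEquiv
  exact step2 (Algebra.adjoin R (Set.range y)) f c (mul_ne_zero hfS hcS) e hli hspan Rf Sfg

end Groth.Agent.S2140
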