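import Groth.Statements.S2146
import Mathlib

set_option autoImplicit false
universe u
open CAlg

namespace Groth.Agent.S2146

namespace H1.S2146aux

/-- Final algebra step: a retraction `π` of `Rf → Sf` whose kernel is killed by an element `g`
with `π g` a unit splits `Sf` as `Rf × C`. -/
theorem exists_prod_of_retraction {Rf Sf : Type u} [CommRing Rf] [CommRing Sf] [Algebra Rf Sf]
    (π : Sf →ₐ[Rf] Rf) (g : Sf) (hu : IsUnit (π g)) (hg : ∀ y : Sf, π y = 0 → g * y = 0) :
    ∃ (C : Type u) (_ : CommRing C) (_ : Algebra Rf C), Nonempty (Sf ≃ₐ[Rf] (Rf × C)) := by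
  obtain ⟨u, hu'⟩ := hu
  let e : Sf := 1 - g * algebraMap Rf Sf (↑u⁻¹ : Rf)
  have hπe : π e = 0 := by
    simp only [e, map_sub, map_one, map_mul, AlgHom.commutes, Algebra.algebraMap_self_apply]
    rw [← hu']
    simp
  have hey : ∀ y : Sf, π y = 0 → e * y = y := by
    intro y hy
    have := hg y hy
    calc e * y = y - algebraMap Rf Sf (↑u⁻¹ : Rf) * (g * y) := by simp only [e]; ring
      _ = y := by rw [this]; simp
  have hee : e * e = e := hey e hπe
  let J : Ideal Sf := Ideal.span {1 - e}
  let Φ : Sf →ₐ[Rf] (Rf × (Sf ⧸ J)) := AlgHom.prod π (Ideal.Quotient.mkₐ Rf J)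
  refine ⟨Sf ⧸ J, inferInstance, inferInstance, ⟨AlgEquiv.ofBijective Φ ⟨?_, ?_⟩⟩⟩
  · rw [injective_iff_map_eq_zero]
    intro s hs
    have h1 : π s = 0 := congrArg Prod.fst hs
    have h2 : Ideal.Quotient.mk J s = 0 := congrArg Prod.snd hs
    rw [Ideal.Quotient.eq_zero_iff_mem, Ideal.mem_span_singleton'] at h2
    obtain ⟨c, hc⟩ := h2
    have h3 := hey s h1
    rw [← h3, ← hc]
    calc e * (c * (1 - e)) = c * (e - e * e) := by ring
      _ = 0 := by rw [hee]; simp
  · rintro ⟨r, c⟩
    obtain ⟨c, rfl⟩ := Ideal.Quotient.mk_surjective c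
    refine ⟨(1 - e) * algebraMap Rf Sf r + e * c, ?_⟩
    apply Prod.ext
    · change π ((1 - e) * algebraMap Rf Sf r + e * c) = r
      simp only [map_add, map_mul, map_sub, map_one, hπe, AlgHom.commutes,
        Algebra.algebraMap_self_apply]
      simp
    · change Ideal.Quotient.mk J ((1 - e) * algebraMap Rf Sf r + e * c) = Ideal.Quotient.mk J c
      rw [Ideal.Quotient.eq]
      have : (1 - e) * algebraMap Rf Sf r + e * c - c = (algebraMap Rf Sf r - c) * (1 - e) := by
        ring
      rw [this]
      exact Ideal.mem_span_singleton'.mpr ⟨_, rfl⟩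

/-- an element of `R_b` vanishing in `R_p` is killed by some `t ∉ p`. -/
theorem exists_mul_eq_zero_of_lift_eq_zero {R : Type u} [CommRing R] (p : Ideal R) [p.IsPrime]
    (b : R) (hb : IsUnit (algebraMap R (Localization.AtPrime p) b))
    (y : Localization.Away b)
    (hy : IsLocalization.Away.lift b (g := algebraMap R (Localization.AtPrime p)) hb y = 0) :
    ∃ t ∈ p.primeCompl, algebraMap R (Localization.Away b) t * y = 0 := by
  obtain ⟨r, ⟨_, m, rfl⟩, rfl⟩ := IsLocalization.exists_mk'_eq (Submonoid.powers b) y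
  have h1 : algebraMap R (Localization.AtPrime p) r = 0 := by
    have := IsLocalization.mk'_spec (Localization.Away b) r (⟨b ^ m, m, rfl⟩ : Submonoid.powers b)
    have h2 := congrArg (IsLocalization.Away.lift b (g := algebraMap R (Localization.AtPrime p)) hb)
      this
    rw [map_mul, hy, zero_mul, IsLocalization.Away.lift_eq] at h2
    exact h2.symm
  obtain ⟨⟨t, ht⟩, htr⟩ := (IsLocalization.map_eq_zero_iff p.primeCompl _ r).mp h1
  refine ⟨t, ht, ?_⟩
  have hu : IsUnit (algebraMap R (Localization.Away b) (b ^ m)) :=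
    IsLocalization.map_units (Localization.Away b) (⟨b ^ m, m, rfl⟩ : Submonoid.powers b)
  apply hu.mul_left_injective
  simp only [zero_mul]
  rw [mul_assoc, IsLocalization.mk'_spec, ← map_mul]
  simp only at htr
  rw [htr, map_zero]

set_option maxHeartbeats 800000 in
theorem exists_data {R S : Type u} [CommRing R] [CommRing S] [Algebra R S]
    [Algebra.FinitePresentation R S] (q : Ideal S) [q.IsPrime] (p : Ideal R) [p.IsPrime]
    [q.LiesOver p]
    (h : Function.Bijective (Localization.localRingHom p q (algebraMap R S) (q.over_def p))) :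
    ∃ (f : R) (_ : f ∉ p) (n : ℕ) (ρ : MvPolynomial (Fin n) R →ₐ[R] S)
      (_ : Function.Surjective ρ) (π : S →+* Localization.Away f) (g₀ : S) (b : R)
      (a : Fin n → R),
      (∀ r, π (algebraMap R S r) = algebraMap R _ r) ∧
      IsUnit (π g₀) ∧ IsUnit (algebraMap R (Localization.Away f) b) ∧
      (∀ i, algebraMap R (Localization.Away f) b * π (ρ (MvPolynomial.X i)) =
        algebraMap R _ (a i)) ∧
      (∀ i, g₀ * (algebraMap R S b * ρ (MvPolynomial.X i) - algebraMap R S (a i)) = 0) := by
  classical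
  let Rp := Localization.AtPrime p
  let Sq := Localization.AtPrime q
  let φ := Localization.localRingHom p q (algebraMap R S) (q.over_def p)
  let eφ : Rp ≃+* Sq := RingEquiv.ofBijective φ h
  let ψ : S →+* Rp := (eφ.symm : Sq →+* Rp).comp (algebraMap S Sq)
  have hψR : ∀ r : R, ψ (algebraMap R S r) = algebraMap R Rp r := by
    intro r
    simp only [ψ, RingHom.comp_apply, RingEquiv.coe_toRingHom]
    rw [RingEquiv.symm_apply_eq]
    exact (Localization.localRingHom_to_map p q (algebraMap R S) (q.over_def p) r).symm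
  have hψunit : ∀ g ∈ q.primeCompl, IsUnit (ψ g) := fun g hg =>
    (IsLocalization.map_units Sq ⟨g, hg⟩).map eφ.symm
  have hψzero : ∀ s, ψ s = 0 → ∃ g ∈ q.primeCompl, g * s = 0 := by
    intro s hs
    have h0 : algebraMap S Sq s = 0 := by
      simp only [ψ, RingHom.comp_apply, RingEquiv.coe_toRingHom] at hs
      exact (map_eq_zero_iff eφ.symm eφ.symm.injective).mp hs
    obtain ⟨⟨g, hg⟩, hgs⟩ := (IsLocalization.map_eq_zero_iff q.primeCompl Sq s).mp h0
    exact ⟨g, hg, hgs⟩
  obtain ⟨n, ρ, hρ, T, hT⟩ := Algebra.FinitePresentation.out (R := R) (A := S)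
  -- common denominator
  obtain ⟨⟨b, hb⟩, hba⟩ := IsLocalization.exist_integer_multiples p.primeCompl
    (Finset.univ : Finset (Fin n)) (fun i => ψ (ρ (MvPolynomial.X i)))
  choose a ha using fun i => hba i (Finset.mem_univ i)
  have ha' : ∀ i, algebraMap R Rp b * ψ (ρ (MvPolynomial.X i)) = algebraMap R Rp (a i) := by
    intro i
    rw [ha i, Algebra.smul_def]
  have hbu : IsUnit (algebraMap R Rp b) := IsLocalization.map_units Rp ⟨b, hb⟩
  -- the elements g_i
  have hgi : ∀ i, ∃ g ∈ q.primeCompl,
      g * (algebraMap R S b * ρ (MvPolynomial.X i) - algebraMap R S (a i)) = 0 := by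
    intro i
    apply hψzero
    rw [map_sub, map_mul, hψR, hψR, ha' i, sub_self]
  choose gi hgiq hgi0 using hgi
  let g₀ : S := ∏ i, gi i
  have hg₀q : g₀ ∈ q.primeCompl := Submonoid.prod_mem _ (fun i _ => hgiq i)
  have hg₀ : ∀ i, g₀ * (algebraMap R S b * ρ (MvPolynomial.X i) - algebraMap R S (a i)) = 0 := by
    intro i
    obtain ⟨c, hc⟩ := Finset.dvd_prod_of_mem gi (Finset.mem_univ i)
    change (∏ i, gi i) * _ = 0
    rw [hc, mul_comm (gi i) c, mul_assoc, hgi0 i, mul_zero]
  obtain ⟨G₀, hG₀⟩ := hρ g₀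
  -- work in R_b
  let Rb := Localization.Away b
  let xb : Fin n → Rb := fun i => IsLocalization.mk' Rb (a i)
    (⟨b, Submonoid.mem_powers b⟩ : Submonoid.powers b)
  let π' : MvPolynomial (Fin n) R →ₐ[R] Rb := MvPolynomial.aeval xb
  let lb : Rb →+* Rp := IsLocalization.Away.lift b (g := algebraMap R Rp) hbu
  have hlbx : ∀ i, lb (xb i) = ψ (ρ (MvPolynomial.X i)) := by
    intro i
    apply hbu.mul_left_cancel
    rw [ha' i]
    have h1 : algebraMap R Rb b * xb i = algebraMap R Rb (a i) := by
      rw [mul_comm]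
      exact IsLocalization.mk'_spec Rb (a i) (⟨b, Submonoid.mem_powers b⟩ : Submonoid.powers b)
    have h2 := congrArg lb h1
    rw [map_mul, IsLocalization.Away.lift_eq, IsLocalization.Away.lift_eq] at h2
    exact h2
  have hcomp : ∀ P, lb (π' P) = ψ (ρ P) := by
    intro P
    have : (lb.comp π'.toRingHom) = ψ.comp ρ.toRingHom := by
      apply MvPolynomial.ringHom_ext
      · intro r
        simp only [RingHom.comp_apply, AlgHom.toRingHom_eq_coe, RingHom.coe_coe]
        rw [← MvPolynomial.algebraMap_eq, AlgHom.commutes, AlgHom.commutes, hψR,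
          IsLocalization.Away.lift_eq]
      · intro i
        simp only [RingHom.comp_apply, AlgHom.toRingHom_eq_coe, RingHom.coe_coe]
        rw [← hlbx i]
        simp [π']
    exact congrFun (congrArg DFunLike.coe this) P
  -- relations
  have hrel : ∀ k ∈ T, ∃ t ∈ p.primeCompl, algebraMap R Rb t * π' k = 0 := by
    intro k hk
    apply exists_mul_eq_zero_of_lift_eq_zero p b hbu
    change lb (π' k) = 0
    rw [hcomp]
    have : k ∈ RingHom.ker ρ.toRingHom := by rw [← hT]; exact Ideal.subset_span hk
    rw [RingHom.mem_ker] at this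
    change ρ k = 0 at this
    rw [this, map_zero]
  choose! tk htk htk0 using hrel
  let tt : R := ∏ k ∈ T, tk k
  have htt : tt ∈ p.primeCompl := Submonoid.prod_mem _ (fun k hk => htk k hk)
  have htt0 : ∀ k ∈ T, algebraMap R Rb tt * π' k = 0 := by
    intro k hk
    obtain ⟨c, hc⟩ := Finset.dvd_prod_of_mem tk hk
    change algebraMap R Rb (∏ k ∈ T, tk k) * _ = 0
    rw [hc, mul_comm (tk k) c, map_mul, mul_assoc, htk0 k hk, mul_zero]
  -- the unit
  obtain ⟨c, ⟨_, m, rfl⟩, hcm⟩ := IsLocalization.exists_mk'_eq (Submonoid.powers b) (π' G₀)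
  have hcm' : π' G₀ * algebraMap R Rb (b ^ m) = algebraMap R Rb c := by
    rw [← hcm]
    exact IsLocalization.mk'_spec Rb c (⟨b ^ m, m, rfl⟩ : Submonoid.powers b)
  have hc : c ∈ p.primeCompl := by
    rw [← IsLocalization.AtPrime.isUnit_to_map_iff Rp p c]
    have h2 := congrArg lb hcm'
    rw [map_mul, IsLocalization.Away.lift_eq, IsLocalization.Away.lift_eq, hcomp, hG₀] at h2
    rw [← h2]
    rw [map_pow]
    exact (hψunit g₀ hg₀q).mul (hbu.pow m)
  -- the element f
  let f : R := b * tt * c
  have hf : f ∈ p.primeCompl := Submonoid.mul_mem _ (Submonoid.mul_mem _ hb htt) hc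
  let Rf := Localization.Away f
  have hfu : IsUnit (algebraMap R Rf f) := IsLocalization.Away.algebraMap_isUnit f
  have hbu' : IsUnit (algebraMap R Rf b) := by
    have : algebraMap R Rf f = algebraMap R Rf b * algebraMap R Rf (tt * c) := by
      rw [← map_mul, ← mul_assoc]
    rw [this] at hfu
    exact isUnit_of_mul_isUnit_left hfu
  have htu' : IsUnit (algebraMap R Rf tt) := by
    have : algebraMap R Rf f = algebraMap R Rf tt * algebraMap R Rf (b * c) := by
      rw [← map_mul]; congr 1; ring
    rw [this] at hfu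
    exact isUnit_of_mul_isUnit_left hfu
  have hcu' : IsUnit (algebraMap R Rf c) := by
    have : algebraMap R Rf f = algebraMap R Rf c * algebraMap R Rf (b * tt) := by
      rw [← map_mul]; congr 1; ring
    rw [this] at hfu
    exact isUnit_of_mul_isUnit_left hfu
  let μ : Rb →+* Rf := IsLocalization.Away.lift b (g := algebraMap R Rf) hbu'
  let π'' : MvPolynomial (Fin n) R →+* Rf := μ.comp π'.toRingHom
  have hker : RingHom.ker ρ.toRingHom ≤ RingHom.ker π'' := by
    rw [← hT, Ideal.span_le]
    intro k hk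
    rw [SetLike.mem_coe, RingHom.mem_ker]
    apply htu'.mul_left_cancel
    rw [mul_zero]
    have h2 := congrArg μ (htt0 k hk)
    rw [map_mul, IsLocalization.Away.lift_eq, map_zero] at h2
    exact h2
  let π : S →+* Rf := RingHom.liftOfSurjective ρ.toRingHom hρ ⟨π'', hker⟩
  have hπ : ∀ P, π (ρ P) = μ (π' P) := fun P =>
    RingHom.liftOfSurjective_comp_apply ρ.toRingHom hρ ⟨π'', hker⟩ P
  refine ⟨f, fun hfp => hf hfp, n, ρ, hρ, π, g₀, b, a, ?_, ?_, hbu', ?_, hg₀⟩
  · intro r
    have : algebraMap R S r = ρ (MvPolynomial.C r) := by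
      rw [← MvPolynomial.algebraMap_eq, AlgHom.commutes]
    rw [this, hπ, ← MvPolynomial.algebraMap_eq, AlgHom.commutes, IsLocalization.Away.lift_eq]
  · rw [← hG₀, hπ]
    have h2 := congrArg μ hcm'
    rw [map_mul, IsLocalization.Away.lift_eq, IsLocalization.Away.lift_eq] at h2
    have h3 : IsUnit (μ (π' G₀) * algebraMap R Rf (b ^ m)) := by rw [h2]; exact hcu'
    exact isUnit_of_mul_isUnit_left h3
  · intro i
    rw [hπ]
    have h1 : algebraMap R Rb b * π' (MvPolynomial.X i) = algebraMap R Rb (a i) := by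
      simp only [π', MvPolynomial.aeval_X, xb]
      rw [mul_comm]
      exact IsLocalization.mk'_spec Rb (a i) (⟨b, Submonoid.mem_powers b⟩ : Submonoid.powers b)
    have h2 := congrArg μ h1
    rw [map_mul, IsLocalization.Away.lift_eq, IsLocalization.Away.lift_eq] at h2
    exact h2

end H1.S2146aux

/-- Let `S` be a finitely presented `R`-algebra and `𝔮` a prime of `S` over `𝔭` such that the induced
map `R_𝔭 → S_𝔮` is bijective. Then for some `f ∉ 𝔭` there is an `R_f`-algebra `C` with `S_f ≅ R_f ×
C` as `R_f`-algebras. -/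
theorem result {R S : Type u} [CommRing R] [CommRing S] [Algebra R S]
    [Algebra.FinitePresentation R S] (q : Ideal S) [q.IsPrime] (p : Ideal R) [p.IsPrime] [q.LiesOver p]
    (h : Function.Bijective (Localization.localRingHom p q (algebraMap R S) (q.over_def p))) :
    ∃ f : R, f ∉ p ∧ ∀ (Rf Sf : Type u) [CommRing Rf] [CommRing Sf] [Algebra R Rf] [IsLocalization.Away f Rf]
      [Algebra S Sf] [IsLocalization.Away (algebraMap R S f) Sf] [Algebra Rf Sf] [Algebra R Sf] [IsScalarTower R S Sf]
      [IsScalarTower R Rf Sf],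
      ∃ (C : Type u) (_ : CommRing C) (_ : Algebra Rf C), Nonempty (Sf ≃ₐ[Rf] (Rf × C)) := by
  obtain ⟨f, hf, n, ρ, hρ, π, g₀, b, a, hπR, hunit, hbu, hbx, hg₀⟩ := H1.S2146aux.exists_data q p h
  refine ⟨f, hf, ?_⟩
  intro Rf Sf _ _ _ _ _ _ _ _ _ _
  let σ : Localization.Away f ≃ₐ[R] Rf := IsLocalization.algEquiv (Submonoid.powers f) _ _
  let πS : S →+* Rf := (σ : Localization.Away f →+* Rf).comp π
  have hπSR : ∀ r, πS (algebraMap R S r) = algebraMap R Rf r := by
    intro r
    simp only [πS, RingHom.comp_apply, hπR]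
    exact σ.commutes r
  have hunit' : IsUnit (πS g₀) := hunit.map (σ : Localization.Away f →+* Rf)
  have hbu' : IsUnit (algebraMap R Rf b) := by
    have := hbu.map (σ : Localization.Away f →+* Rf)
    rwa [show (σ : Localization.Away f →+* Rf) (algebraMap R _ b) = algebraMap R Rf b from
      σ.commutes b] at this
  have hbx' : ∀ i, algebraMap R Rf b * πS (ρ (MvPolynomial.X i)) = algebraMap R Rf (a i) := by
    intro i
    have := congrArg (σ : Localization.Away f →+* Rf) (hbx i)
    rw [map_mul] at this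
    rw [show (σ : Localization.Away f →+* Rf) (algebraMap R _ b) = algebraMap R Rf b from
      σ.commutes b, show (σ : Localization.Away f →+* Rf) (algebraMap R _ (a i)) =
      algebraMap R Rf (a i) from σ.commutes (a i)] at this
    exact this
  have hfu : IsUnit (πS (algebraMap R S f)) := by
    rw [hπSR]; exact IsLocalization.Away.algebraMap_isUnit f
  let πf : Sf →+* Rf := IsLocalization.Away.lift (algebraMap R S f) (g := πS) hfu
  have hπf : ∀ s, πf (algebraMap S Sf s) = πS s := fun s => IsLocalization.Away.lift_eq _ hfu s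
  have hπfR : ∀ x : Rf, πf (algebraMap Rf Sf x) = x := by
    have : (πf.comp (algebraMap Rf Sf)) = RingHom.id Rf := by
      apply IsLocalization.ringHom_ext (Submonoid.powers f)
      ext r
      simp only [RingHom.comp_apply, RingHom.id_apply]
      rw [← IsScalarTower.algebraMap_apply R Rf Sf, IsScalarTower.algebraMap_apply R S Sf, hπf,
        hπSR]
    intro x
    exact congrFun (congrArg DFunLike.coe this) x
  let πa : Sf →ₐ[Rf] Rf := { πf with commutes' := hπfR }
  -- the key vanishing
  have hbuS : IsUnit (algebraMap R Sf b) := by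
    rw [IsScalarTower.algebraMap_apply R Rf Sf]
    exact hbu'.map (algebraMap Rf Sf)
  have key : ∀ P : MvPolynomial (Fin n) R, algebraMap S Sf g₀ *
      (algebraMap S Sf (ρ P) - algebraMap Rf Sf (πS (ρ P))) = 0 := by
    intro P
    induction P using MvPolynomial.induction_on with
    | C r =>
      rw [← MvPolynomial.algebraMap_eq, AlgHom.commutes, hπSR,
        ← IsScalarTower.algebraMap_apply R Rf Sf, ← IsScalarTower.algebraMap_apply R S Sf,
        sub_self, mul_zero]
    | add P Q hP hQ =>
      rw [map_add, map_add, map_add, map_add, add_sub_add_comm, mul_add, hP, hQ, add_zero]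
    | mul_X P i hP =>
      have hX : algebraMap S Sf g₀ * (algebraMap S Sf (ρ (MvPolynomial.X i)) -
          algebraMap Rf Sf (πS (ρ (MvPolynomial.X i)))) = 0 := by
        apply hbuS.mul_left_cancel
        rw [mul_zero]
        have h1 := congrArg (algebraMap S Sf) (hg₀ i)
        rw [map_mul, map_sub, map_mul, map_zero, ← IsScalarTower.algebraMap_apply R S Sf,
          ← IsScalarTower.algebraMap_apply R S Sf] at h1
        have h2 := congrArg (algebraMap Rf Sf) (hbx' i)
        rw [map_mul, ← IsScalarTower.algebraMap_apply R Rf Sf,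
          ← IsScalarTower.algebraMap_apply R Rf Sf] at h2
        rw [← h2] at h1
        rw [← h1]
        ring
      rw [map_mul, map_mul, map_mul, map_mul]
      have : algebraMap S Sf g₀ * (algebraMap S Sf (ρ P) * algebraMap S Sf (ρ (MvPolynomial.X i)) -
          algebraMap Rf Sf (πS (ρ P)) * algebraMap Rf Sf (πS (ρ (MvPolynomial.X i)))) =
          (algebraMap S Sf g₀ * (algebraMap S Sf (ρ P) - algebraMap Rf Sf (πS (ρ P)))) *
            algebraMap S Sf (ρ (MvPolynomial.X i)) +
          algebraMap Rf Sf (πS (ρ P)) * (algebraMap S Sf g₀ *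
            (algebraMap S Sf (ρ (MvPolynomial.X i)) -
              algebraMap Rf Sf (πS (ρ (MvPolynomial.X i))))) := by ring
      rw [this, hP, hX, zero_mul, mul_zero, add_zero]
  apply H1.S2146aux.exists_prod_of_retraction πa (algebraMap S Sf g₀)
  · change IsUnit (πf (algebraMap S Sf g₀))
    rw [hπf]; exact hunit'
  · intro y hy
    change πf y = 0 at hy
    obtain ⟨s, ⟨_, k, rfl⟩, rfl⟩ :=
      IsLocalization.exists_mk'_eq (Submonoid.powers (algebraMap R S f)) y
    set d : Submonoid.powers (algebraMap R S f) := ⟨algebraMap R S f ^ k, k, rfl⟩ with hd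
    have hspec : IsLocalization.mk' Sf s d * algebraMap S Sf (d : S) = algebraMap S Sf s :=
      IsLocalization.mk'_spec Sf s d
    have hs0 : πS s = 0 := by
      rw [← hπf, ← hspec, map_mul, hy, zero_mul]
    obtain ⟨P, rfl⟩ := hρ s
    have hk := key P
    rw [hs0, map_zero, sub_zero] at hk
    have hu : IsUnit (algebraMap S Sf (d : S)) := IsLocalization.map_units Sf d
    apply hu.mul_left_injective
    simp only [zero_mul]
    rw [mul_assoc, hspec, hk]

end Groth.Agent.S2146
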