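import Groth.Statements.S2149
import Mathlib
import Groth.Prelude.Def_CAlgX

set_option autoImplicit false
universe u
open CAlg

namespace Groth.Agent.S2149

open TensorProduct



/-- Let `R → S` be a ring map and `u : M → M'` a map of `S`-modules. Then `u`, viewed as an `R`-linear
map, is universally injective exactly when, for every maximal ideal `𝔪` of `S`, the localized map
`M_𝔪 → M'_𝔪` is also universally injective as an `R`-linear map. -/
theorem result {R S M M' : Type u} [CommRing R] [CommRing S] [Algebra R S]
    [AddCommGroup M] [Module S M] [Module R M] [IsScalarTower R S M] [AddCommGroup M'] [Module S M'] [Module R M']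
    [IsScalarTower R S M'] (u : M →ₗ[S] M') :
    CAlgX.UniversallyInjective R (u.restrictScalars R) ↔
      ∀ (m : Ideal S) [m.IsMaximal],
        CAlgX.UniversallyInjective R ((LocalizedModule.map m.primeCompl u).restrictScalars R) := by
  constructor
  · intro h m _ Q _ _
    have h1 : Function.Injective (AlgebraTensorModule.rTensor R Q u) := h Q
    have h2 := IsLocalizedModule.map_injective m.primeCompl
      (AlgebraTensorModule.rTensor R Q (LocalizedModule.mkLinearMap m.primeCompl M))
      (AlgebraTensorModule.rTensor R Q (LocalizedModule.mkLinearMap m.primeCompl M'))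
      (AlgebraTensorModule.rTensor R Q u) h1
    have h3 : IsLocalizedModule.map m.primeCompl
      (AlgebraTensorModule.rTensor R Q (LocalizedModule.mkLinearMap m.primeCompl M))
      (AlgebraTensorModule.rTensor R Q (LocalizedModule.mkLinearMap m.primeCompl M'))
      (AlgebraTensorModule.rTensor R Q u) =
        AlgebraTensorModule.rTensor R Q (LocalizedModule.map m.primeCompl u) := by
      apply IsLocalizedModule.linearMap_ext m.primeCompl
        (AlgebraTensorModule.rTensor R Q (LocalizedModule.mkLinearMap m.primeCompl M))
        (AlgebraTensorModule.rTensor R Q (LocalizedModule.mkLinearMap m.primeCompl M'))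
      rw [IsLocalizedModule.map_comp]
      ext x q
      simp
    rw [h3] at h2
    exact h2
  · intro h Q _ _
    show Function.Injective (AlgebraTensorModule.rTensor R Q u)
    apply injective_of_isLocalized_maximal
      (fun (P : Ideal S) [P.IsMaximal] => LocalizedModule P.primeCompl M ⊗[R] Q)
      (fun P _ => AlgebraTensorModule.rTensor R Q (LocalizedModule.mkLinearMap P.primeCompl M))
      (fun (P : Ideal S) [P.IsMaximal] => LocalizedModule P.primeCompl M' ⊗[R] Q)
      (fun P _ => AlgebraTensorModule.rTensor R Q (LocalizedModule.mkLinearMap P.primeCompl M'))
    intro P _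
    have h3 : IsLocalizedModule.map P.primeCompl
      (AlgebraTensorModule.rTensor R Q (LocalizedModule.mkLinearMap P.primeCompl M))
      (AlgebraTensorModule.rTensor R Q (LocalizedModule.mkLinearMap P.primeCompl M'))
      (AlgebraTensorModule.rTensor R Q u) =
        AlgebraTensorModule.rTensor R Q (LocalizedModule.map P.primeCompl u) := by
      apply IsLocalizedModule.linearMap_ext P.primeCompl
        (AlgebraTensorModule.rTensor R Q (LocalizedModule.mkLinearMap P.primeCompl M))
        (AlgebraTensorModule.rTensor R Q (LocalizedModule.mkLinearMap P.primeCompl M'))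
      rw [IsLocalizedModule.map_comp]
      ext x q
      simp
    rw [h3]
    exact h P Q


end Groth.Agent.S2149
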