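import Groth.Statements.S2150
import Mathlib
import Groth.Agent.Lib.Helper1.GeomRed

set_option autoImplicit false
universe u
open CAlg

namespace Groth.Agent.S2150

open TensorProduct Groth.Agent.H1.GeomConn Groth.Agent.H1.GeomIrr Groth.Agent.H1.GeomRed
open scoped IntermediateField

lemma finrank_eq_one_of_irr {k k' K : Type u} [Field k] [Field k'] [Field K] [Algebra k K]
    [Algebra k k'] [Algebra k' K] [IsScalarTower k k' K] [Algebra.IsSeparable k k']
    [FiniteDimensional k k'] [IrreducibleSpace (PrimeSpectrum (k' ⊗[k] K))] :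
    Module.finrank k k' = 1 := by
  haveI : IrreducibleSpace (PrimeSpectrum (K ⊗[k] k')) :=
    (PrimeSpectrum.homeomorphOfRingEquiv
      (Algebra.TensorProduct.comm k K k').toRingEquiv).irreducibleSpace_iff.mpr inferInstance
  haveI : IsReduced (k' ⊗[k] K) := isReduced_tensor_field_of_isSeparable k K k'
  haveI : IsReduced (K ⊗[k] k') :=
    isReduced_of_injective (Algebra.TensorProduct.comm k K k').toRingEquiv.toRingHom
      (Algebra.TensorProduct.comm k K k').injective
  haveI : (⊥ : Ideal (K ⊗[k] k')).IsPrime := by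
    have h1 := PrimeSpectrum.irreducibleSpace_iff_isPrime_nilradical.mp
      (inferInstance : IrreducibleSpace (PrimeSpectrum (K ⊗[k] k')))
    rwa [nilradical_eq_zero] at h1
  haveI : IsDomain (K ⊗[k] k') := IsDomain.of_bot_isPrime _
  let ψ : K ⊗[k] k' →ₐ[K] K :=
    Algebra.TensorProduct.lift (AlgHom.id K K) (IsScalarTower.toAlgHom k k' K)
      (fun _ _ => Commute.all _ _)
  have hsurj : Function.Surjective ψ := fun a => ⟨a ⊗ₜ[k] 1, by simp [ψ]⟩
  haveI : IsArtinianRing (K ⊗[k] k') := IsArtinianRing.of_finite K _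
  have hinj : Function.Injective ψ := by
    rw [← AlgHom.coe_toRingHom, RingHom.injective_iff_ker_eq_bot]
    have hp : (RingHom.ker ψ.toRingHom).IsPrime := RingHom.ker_isPrime _
    have hmax : (⊥ : Ideal (K ⊗[k] k')).IsMaximal := Ideal.IsPrime.isMaximal' inferInstance
    exact (hmax.eq_of_le hp.ne_top bot_le).symm
  have e : (K ⊗[k] k') ≃ₗ[K] K := LinearEquiv.ofBijective ψ.toLinearMap ⟨hinj, hsurj⟩
  rw [← Module.finrank_baseChange (R := K), e.finrank_eq, Module.finrank_self]

lemma mem_range_of_geomIrr {k K : Type u} [Field k] [Field K] [Algebra k K]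
    (hK : ∀ (k' : Type u) [Field k'] [Algebra k k'], IrreducibleSpace (PrimeSpectrum (k' ⊗[k] K)))
    (α : K) (hα : IsSeparable k α) : α ∈ Set.range (algebraMap k K) := by
  haveI : Algebra.IsSeparable k k⟮α⟯ :=
    (IntermediateField.isSeparable_adjoin_simple_iff_isSeparable k K).mpr hα
  haveI : FiniteDimensional k k⟮α⟯ := IntermediateField.adjoin.finiteDimensional hα.isIntegral
  haveI := hK k⟮α⟯
  have h1 : Module.finrank k k⟮α⟯ = 1 := finrank_eq_one_of_irr (K := K)
  have h2 : k⟮α⟯ = ⊥ := IntermediateField.finrank_eq_one_iff.mp h1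
  have h3 : α ∈ k⟮α⟯ := IntermediateField.mem_adjoin_simple_self k α
  rw [h2, IntermediateField.mem_bot] at h3
  exact h3
section PolyIrr

open Polynomial

variable {k K : Type u} [Field k] [Field K] [Algebra k K]

/-- coefficients of monic factors of a separable polynomial are separable over the base -/
lemma mem_lifts_of_dvd_of_sepClosed
    (hK : ∀ α : K, IsSeparable k α → α ∈ Set.range (algebraMap k K))
    (f : k[X]) (hf : f.Separable) (g : K[X]) (hg : g.Monic) (hdvd : g ∣ f.map (algebraMap k K)) :
    g ∈ Polynomial.lifts (algebraMap k K) := by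
  rw [lifts_iff_coeff_lifts]
  intro n
  apply hK
  let Ω := AlgebraicClosure K
  let L : IntermediateField k Ω := IntermediateField.adjoin k (f.rootSet Ω)
  haveI : Algebra.IsSeparable k L := by
    rw [IntermediateField.isSeparable_adjoin_iff_isSeparable]
    intro x hx
    have hx0 : aeval x f = 0 := (mem_rootSet.mp hx).2
    exact hf.of_dvd (minpoly.dvd k x hx0)
  have hgΩ : (g.map (algebraMap K Ω)) ∈ Polynomial.lifts (algebraMap L Ω) := by
    refine (IsAlgClosed.splits _).mem_lift_of_roots_mem_range (hg.map _) _ fun a ha => ?_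
    have ha0 : a ∈ f.rootSet Ω := by
      rw [mem_rootSet]
      refine ⟨hf.ne_zero, ?_⟩
      have h1 : (g.map (algebraMap K Ω)) ∣ f.map (algebraMap k Ω) := by
        rw [IsScalarTower.algebraMap_eq k K Ω, ← Polynomial.map_map]
        exact Polynomial.map_dvd _ hdvd
      have h2 : (f.map (algebraMap k Ω)).IsRoot a :=
        (Polynomial.mem_roots'.mp ha).2.dvd h1
      rw [IsRoot.def, eval_map_algebraMap] at h2
      exact h2
    exact ⟨⟨a, IntermediateField.subset_adjoin k _ ha0⟩, rfl⟩
  rw [lifts_iff_coeff_lifts] at hgΩ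
  obtain ⟨l, hl⟩ := hgΩ n
  rw [coeff_map] at hl
  have h3 : IsSeparable k l := Algebra.IsSeparable.isSeparable k l
  have h4 : IsSeparable k ((algebraMap L Ω) l) := by
    rw [IsSeparable, minpoly.algebraMap_eq (algebraMap L Ω).injective]
    exact h3
  rw [hl] at h4
  rw [IsSeparable, minpoly.algebraMap_eq (algebraMap K Ω).injective] at h4
  exact h4

lemma irreducible_map_of_sepClosed
    (hK : ∀ α : K, IsSeparable k α → α ∈ Set.range (algebraMap k K))
    (f : k[X]) (hfm : f.Monic) (hfi : Irreducible f) (hf : f.Separable) :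
    Irreducible (f.map (algebraMap k K)) := by
  have hinj : Function.Injective (algebraMap k K) := (algebraMap k K).injective
  rw [(hfm.map _).irreducible_iff_natDegree]
  refine ⟨fun h1 => hfi.not_isUnit ?_, ?_⟩
  · have : f = 1 := by
      apply Polynomial.map_injective _ hinj
      rw [h1, Polynomial.map_one]
    rw [this]; exact isUnit_one
  · intro a b ha hb hab
    obtain ⟨a₀, ha₀⟩ := (mem_lifts _).mp
      (mem_lifts_of_dvd_of_sepClosed hK f hf a ha ⟨b, hab.symm⟩)
    obtain ⟨b₀, hb₀⟩ := (mem_lifts _).mp
      (mem_lifts_of_dvd_of_sepClosed hK f hf b hb ⟨a, by rw [mul_comm]; exact hab.symm⟩)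
    have h1 : a₀ * b₀ = f := by
      apply Polynomial.map_injective _ hinj
      rw [Polynomial.map_mul, ha₀, hb₀, hab]
    rcases hfi.isUnit_or_isUnit h1.symm with h | h
    · left
      rw [← ha₀, natDegree_map_eq_of_injective hinj]
      exact natDegree_eq_zero_of_isUnit h
    · right
      rw [← hb₀, natDegree_map_eq_of_injective hinj]
      exact natDegree_eq_zero_of_isUnit h

end PolyIrr

open Polynomial in
lemma irr_of_finite_sep {k K : Type u} [Field k] [Field K] [Algebra k K]
    (hK : ∀ α : K, IsSeparable k α → α ∈ Set.range (algebraMap k K))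
    (k' : Type u) [Field k'] [Algebra k k'] [Module.Finite k k'] [Algebra.IsSeparable k k'] :
    IrreducibleSpace (PrimeSpectrum (k' ⊗[k] K)) := by
  obtain ⟨α, hα⟩ := Field.exists_primitive_element k k'
  have hint : IsIntegral k α := Algebra.IsIntegral.isIntegral α
  have hirr : Irreducible ((minpoly k α).map (algebraMap k K)) :=
    irreducible_map_of_sepClosed hK _ (minpoly.monic hint) (minpoly.irreducible hint)
      (Algebra.IsSeparable.isSeparable k α)
  have hdeg : Module.finrank k k' = (minpoly k α).natDegree := by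
    rw [← IntermediateField.adjoin.finrank hint, hα, IntermediateField.finrank_top']
  have h2 : Module.finrank K (K ⊗[k] k') = (minpoly k α).natDegree := by
    rw [Module.finrank_baseChange, hdeg]
  have key : ∀ P : Ideal (K ⊗[k] k'), P.IsPrime → P = ⊥ := by
    intro P hP
    haveI : Nontrivial ((K ⊗[k] k') ⧸ P) := Ideal.Quotient.nontrivial_iff.mpr hP.ne_top
    let β : (K ⊗[k] k') ⧸ P := Ideal.Quotient.mk P ((1 : K) ⊗ₜ[k] α)
    have hβ : aeval β ((minpoly k α).map (algebraMap k K)) = 0 := by
      rw [aeval_map_algebraMap]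
      have h3 : β = ((Ideal.Quotient.mkₐ k P).comp
          (Algebra.TensorProduct.includeRight : k' →ₐ[k] K ⊗[k] k')) α := rfl
      rw [h3, aeval_algHom_apply, minpoly.aeval, map_zero]
    have hmin : (minpoly k α).map (algebraMap k K) = minpoly K β :=
      minpoly.eq_of_irreducible_of_monic hirr hβ ((minpoly.monic hint).map _)
    have hli := linearIndependent_pow (K := K) β
    have h1 : (minpoly k α).natDegree ≤ Module.finrank K ((K ⊗[k] k') ⧸ P) := by
      have h4 := hli.fintype_card_le_finrank
      rw [Fintype.card_fin, ← hmin, natDegree_map] at h4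
      exact h4
    have hbij := OrzechProperty.bijective_of_surjective_of_finrank_le
      (Ideal.Quotient.mkₐ K P).toLinearMap (Ideal.Quotient.mkₐ_surjective K P) (by rw [h2]; exact h1)
    rw [eq_bot_iff]
    intro x hx
    have h5 : (Ideal.Quotient.mkₐ K P) x = (Ideal.Quotient.mkₐ K P) 0 := by
      rw [map_zero]; exact Ideal.Quotient.eq_zero_iff_mem.mpr hx
    exact Ideal.mem_bot.mpr (hbij.1 h5)
  haveI : Nontrivial (K ⊗[k] k') := inferInstance
  obtain ⟨P, hP⟩ := Ideal.exists_maximal (K ⊗[k] k')
  have hbot : (⊥ : Ideal (K ⊗[k] k')).IsPrime := key P hP.isPrime ▸ hP.isPrime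
  haveI : IrreducibleSpace (PrimeSpectrum (K ⊗[k] k')) := by
    rw [PrimeSpectrum.irreducibleSpace_iff_isPrime_nilradical]
    have : nilradical (K ⊗[k] k') = ⊥ := le_bot_iff.mp (nilradical_le_prime ⊥)
    rw [this]; exact hbot
  exact (PrimeSpectrum.homeomorphOfRingEquiv
      (Algebra.TensorProduct.comm k K k').toRingEquiv).irreducibleSpace_iff.mp inferInstance

open TensorProduct in
/-- For a field extension `K/k`, the spectrum of `k' ⊗_k K` is irreducible for every field extension
`k'/k` (geometric irreducibility, extensions in the same universe) if and only if every element of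
`K` which is separable algebraic over `k` lies in `k`. -/
theorem result {k K : Type u} [Field k] [Field K] [Algebra k K] :
    (∀ (k' : Type u) [Field k'] [Algebra k k'], IrreducibleSpace (PrimeSpectrum (k' ⊗[k] K))) ↔
      ∀ α : K, IsSeparable k α → α ∈ Set.range (algebraMap k K) := by
  constructor
  · intro h α hα
    exact mem_range_of_geomIrr h α hα
  · intro h k' _ _
    haveI : IrreducibleSpace (PrimeSpectrum (SeparableClosure k ⊗[k] K)) :=
      irr_sepClosure_of_finite fun k'' _ _ _ _ => irr_of_finite_sep h k''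
    haveI : IrreducibleSpace (PrimeSpectrum (AlgebraicClosure k ⊗[k] K)) :=
      irr_algClosure_of_sepClosure
    exact irr_of_algClosure k'

end Groth.Agent.S2150
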