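import Groth.Statements.S2157
import Mathlib
import Groth.Agent.Lib.Lead.QC.PullbackUnit
import Groth.Agent.Lib.Lead.QC.IdealMod
import Groth.Agent.Lib.Helper1.OmegaSpecAlg

set_option autoImplicit false
universe u
open CategoryTheory AlgebraicGeometry
open Mor

namespace Groth.Agent.S2157

namespace H1.S2157aux
open TensorProduct Limits Opposite Groth.Agent.LD.QC Groth.Agent.H1.OmegaSpec

variable (R A : Type u) [CommRing R] [CommRing A] [Algebra R A]

noncomputable abbrev f : Spec (.of A) ⟶ Spec (.of R) :=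
  Spec.map (CommRingCat.ofHom (algebraMap R A))
noncomputable abbrev P : Scheme.{u} := pullback (f R A) (f R A)
noncomputable abbrev Δ : Spec (.of A) ⟶ P R A := pullback.diagonal (f R A)

instance : IsAffine (P R A) := inferInstance

theorem omega_eq : Omega.sheaf (f R A) =
    (Scheme.Modules.pullback (Δ R A)).obj (ClSub.idealMod (Δ R A).ker) := rfl

/-- `Γ(P, ⊤) ≃ A ⊗ A` -/
noncomputable def β : Γ(P R A, ⊤) ≃+* A ⊗[R] A :=
  (Scheme.Γ.mapIso (pullbackSpecIso R A A).symm.op ≪≫
    Scheme.ΓSpecIso (.of (A ⊗[R] A))).commRingCatIsoToRingEquiv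

noncomputable def γ : Γ(Spec (.of A), ⊤) ≃+* A :=
  (Scheme.ΓSpecIso (.of A)).commRingCatIsoToRingEquiv

theorem square (b : Γ(P R A, ⊤)) :
    γ A ((Δ R A).appTop b) = Algebra.TensorProduct.lmul' R (β R A b) := by
  have h : (Δ R A).appTop ≫ (Scheme.ΓSpecIso (.of A)).hom =
      (pullbackSpecIso R A A).inv.appTop ≫ (Scheme.ΓSpecIso (.of (A ⊗[R] A))).hom ≫
        CommRingCat.ofHom (Algebra.TensorProduct.lmul' R : A ⊗[R] A →ₐ[R] A).toRingHom := by
    rw [show Δ R A = _ from diagonal_SpecMap R A, Scheme.Hom.comp_appTop, Category.assoc,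
      Scheme.ΓSpecIso_naturality]
  exact congr($h b)

theorem sections_equiv :
    ∃ φ : Γ((Scheme.Modules.pullback (Δ R A)).obj (ClSub.idealMod (Δ R A).ker), ⊤) ≃+ Ω[A⁄R],
      ∀ (c : Γ(Spec (.of A), ⊤))
        (t : Γ((Scheme.Modules.pullback (Δ R A)).obj (ClSub.idealMod (Δ R A).ker), ⊤)),
        φ (c • t) = γ A c • φ t := by
  have hU : IsAffineOpen (⊤ : (Spec (.of A)).Opens) := isAffineOpen_top _
  have hV : IsAffineOpen (⊤ : (P R A).Opens) := isAffineOpen_top _
  have e : (⊤ : (Spec (.of A)).Opens) ≤ (Δ R A) ⁻¹ᵁ ⊤ := le_of_eq rfl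
  letI := ((Δ R A).appLE ⊤ ⊤ e).hom.toAlgebra
  letI := pbModule (Δ R A) (ClSub.idealMod (Δ R A).ker) e
  haveI := pbModule_isScalarTower (Δ R A) (ClSub.idealMod (Δ R A).ker) e
  have hbc := isBaseChange_pbSec (Δ R A) hU hV e (ClSub.idealMod (Δ R A).ker)
  have happ : ∀ b, algebraMap Γ(P R A, ⊤) Γ(Spec (.of A), ⊤) b = (Δ R A).appTop b := by
    intro b
    change ((Δ R A).appLE ⊤ ⊤ e).hom b = _
    have h1 : (Δ R A).appLE ⊤ ⊤ e = (Δ R A).app ⊤ := (Δ R A).appLE_eq_app
    rw [h1]
  have hker : (Δ R A).ker.ideal ⟨⊤, hV⟩ =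
      RingHom.ker (algebraMap Γ(P R A, ⊤) Γ(Spec (.of A), ⊤)) := by
    rw [Scheme.Hom.ker_apply]
    ext b
    rw [RingHom.mem_ker, RingHom.mem_ker, happ]
    rfl
  let j := (idealModSectionsEquiv (Δ R A).ker ⟨⊤, hV⟩).trans (LinearEquiv.ofEq _ _ hker)
  exact alg_main (β R A) (γ A) (fun b => by rw [happ]; exact square R A b) j _ hbc

set_option backward.defeqAttrib.useBackward true in
set_option backward.isDefEq.respectTransparency false in
noncomputable def qcIsoTilde {R : CommRingCat.{u}} (F : (Spec R).Modules) [F.IsQuasicoherent] :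
    tilde ((modulesSpecToSheaf.obj F).presheaf.obj (op ⊤)) ≅ F :=
  haveI : IsIso F.fromTildeΓ := Scheme.Modules.isIso_fromTildeΓ_of_isQuasicoherent F
  asIso F.fromTildeΓ

theorem nonempty_iso_tilde_of_sections {A : Type u} [CommRing A]
    (F : (Spec (CommRingCat.of A)).Modules) [F.IsQuasicoherent]
    (N : Type u) [AddCommGroup N] [Module A N]
    (ψ : ((modulesSpecToSheaf.obj F).presheaf.obj (op ⊤)) ≃ₗ[A] N) :
    Nonempty (F ≅ tilde (R := CommRingCat.of A) (ModuleCat.of A N)) := by
  have e2 : ((modulesSpecToSheaf.obj F).presheaf.obj (op ⊤)) ≅ ModuleCat.of A N := ψ.toModuleIso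
  exact ⟨(qcIsoTilde F).symm ≪≫ (tilde.functor (CommRingCat.of A)).mapIso e2⟩

theorem main_aux :
    Nonempty ((Scheme.Modules.pullback (Δ R A)).obj (ClSub.idealMod (Δ R A).ker) ≅
      tilde (R := CommRingCat.of A) (ModuleCat.of A (Ω[A⁄R]))) := by
  obtain ⟨φ, hφ⟩ := sections_equiv R A
  haveI : ((Scheme.Modules.pullback (Δ R A)).obj
      (ClSub.idealMod (Δ R A).ker)).IsQuasicoherent := qc_pullback (Δ R A) _
  let M : ModuleCat A := (modulesSpecToSheaf.obj ((Scheme.Modules.pullback (Δ R A)).obj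
      (ClSub.idealMod (Δ R A).ker))).presheaf.obj (op ⊤)
  let ψ : M ≃ₗ[A] Ω[A⁄R] :=
    { φ with
      map_smul' := by
        intro a t
        have h1 := hφ ((γ A).symm a) t
        rw [RingEquiv.apply_symm_apply] at h1
        exact h1 }
  exact nonempty_iso_tilde_of_sections _ _ ψ

theorem main : Nonempty (Omega.sheaf (f R A) ≅
    tilde (R := CommRingCat.of A) (ModuleCat.of A (Ω[A⁄R]))) := main_aux R A

end H1.S2157aux

/-- For a ring map `R → A`, the sheaf of differentials of `Spec A → Spec R`, defined as the conormal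
sheaf of the diagonal, is isomorphic as an `O_{Spec A}`-module to the sheaf associated with the
module of Kähler differentials `Ω_{A/R}` (the source also pins the isomorphism down by compatibility
with the universal derivations, which is not restated here). -/
theorem result (R A : Type u) [CommRing R] [CommRing A] [Algebra R A] :
    Nonempty (Omega.sheaf (Spec.map (CommRingCat.ofHom (algebraMap R A))) ≅
      tilde (R := CommRingCat.of A) (ModuleCat.of A (Ω[A⁄R]))) := by
  exact H1.S2157aux.main R A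

end Groth.Agent.S2157
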