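import Groth.Statements.S2158
import Groth.Agent.Lib.Helper3.OmStalk

set_option autoImplicit false
universe u
open CategoryTheory AlgebraicGeometry
open Mor

namespace Groth.Agent.S2158

/-- Let `f : X → S` be locally of finite type and quasi-separated (so that the diagonal is quasi-compact
and the prelude's sheaf of differentials is the conormal sheaf of the diagonal near every point), `x
∈ X`, `s = f(x)`. Then the stalk `Ω_{X/S,x}` vanishes if and only if `𝔪_s O_{X,x} = 𝔪_x` and
`κ(x)/κ(s)` is a finite separable extension. -/
theorem result {X S : Scheme.{u}} (f : X ⟶ S) [LocallyOfFiniteType f] [QuasiSeparated f] (x : X) :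
    Subsingleton ((Omega.sheaf f).presheaf.stalk x) ↔
      ((IsLocalRing.maximalIdeal (S.presheaf.stalk (f.base x))).map (f.stalkMap x).hom =
          IsLocalRing.maximalIdeal (X.presheaf.stalk x) ∧
        (f.residueFieldMap x).hom.Finite ∧
        @Algebra.IsSeparable (S.residueField (f.base x)) (X.residueField x) _ _ (f.residueFieldMap x).hom.toAlgebra) := by
  rw [Groth.Agent.H3.Om.subsingleton_stalk_omega_iff_stalkMap f x]
  algebraize [(f.stalkMap x).hom]
  have : IsLocalHom (algebraMap (S.presheaf.stalk (f x)) (X.presheaf.stalk x)) :=
    inferInstanceAs <| IsLocalHom (f.stalkMap x).hom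
  have : Algebra.EssFiniteType (S.presheaf.stalk (f x)) (X.presheaf.stalk x) := by
    rw [← RingHom.essFiniteType_algebraMap, RingHom.algebraMap_toAlgebra]
    exact LocallyOfFiniteType.stalkMap f x
  have hres : (inferInstance : Algebra (IsLocalRing.ResidueField <| S.presheaf.stalk (f x))
      (IsLocalRing.ResidueField <| X.presheaf.stalk x)) = (f.residueFieldMap x).hom.toAlgebra := by
    refine Algebra.algebra_ext _ _ fun x ↦ ?_
    obtain ⟨x, rfl⟩ := IsLocalRing.residue_surjective x
    rfl
  rw [← RingHom.algebraMap_toAlgebra (f.stalkMap x).hom, RingHom.formallyUnramified_algebraMap]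
  constructor
  · intro h
    refine ⟨Algebra.FormallyUnramified.map_maximalIdeal, ?_, ?_⟩
    · have h1 : Module.Finite (IsLocalRing.ResidueField <| S.presheaf.stalk (f x))
        (IsLocalRing.ResidueField <| X.presheaf.stalk x) := inferInstance
      rw [RingHom.Finite, ← hres]
      exact h1
    · have h1 : Algebra.IsSeparable (IsLocalRing.ResidueField <| S.presheaf.stalk (f x))
        (IsLocalRing.ResidueField <| X.presheaf.stalk x) := inferInstance
      rw [← hres]
      exact h1
  · rintro ⟨h1, h2, h3⟩
    haveI : Algebra.IsSeparable (IsLocalRing.ResidueField <| S.presheaf.stalk (f x))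
        (IsLocalRing.ResidueField <| X.presheaf.stalk x) := by
      rw [← hres] at h3
      exact h3
    exact Algebra.FormallyUnramified.of_map_maximalIdeal h1

end Groth.Agent.S2158
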