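import Groth.Statements.S2159
-- import your own Groth.Agent.* helpers here

set_option autoImplicit false
universe u
open CAlg

namespace Groth.Agent.S2159

/-- Given surjections `p₁ : P₁ → M` and `p₂ : P₂ → M` from projective modules, with kernels `K` and `L`,
there is an isomorphism `K ⊕ P₂ ≅ L ⊕ P₁`. -/
theorem result {R M P₁ P₂ : Type u} [CommRing R] [AddCommGroup M] [Module R M] [AddCommGroup P₁] [Module R P₁]
    [Module.Projective R P₁] [AddCommGroup P₂] [Module R P₂] [Module.Projective R P₂] (p₁ : P₁ →ₗ[R] M) (p₂ : P₂ →ₗ[R] M)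
    (h₁ : Function.Surjective p₁) (h₂ : Function.Surjective p₂) :
    Nonempty ((LinearMap.ker p₁ × P₂) ≃ₗ[R] (LinearMap.ker p₂ × P₁)) := by
  obtain ⟨σ, hσ⟩ := Module.projective_lifting_property p₂ p₁ h₂
  obtain ⟨τ, hτ⟩ := Module.projective_lifting_property p₁ p₂ h₁
  have hσ' : ∀ a, p₂ (σ a) = p₁ a := fun a => LinearMap.congr_fun hσ a
  have hτ' : ∀ b, p₁ (τ b) = p₂ b := fun b => LinearMap.congr_fun hτ b
  -- a := k + τ b
  let α : (LinearMap.ker p₁ × P₂) →ₗ[R] P₁ :=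
    (LinearMap.ker p₁).subtype.comp (LinearMap.fst R _ _) + τ.comp (LinearMap.snd R _ _)
  let Φ₁ : (LinearMap.ker p₁ × P₂) →ₗ[R] LinearMap.ker p₂ :=
    LinearMap.codRestrict (LinearMap.ker p₂) (LinearMap.snd R _ _ - σ.comp α) (by
      rintro ⟨k, b⟩
      simp only [LinearMap.mem_ker, LinearMap.sub_apply, LinearMap.snd_apply, LinearMap.comp_apply,
        map_sub, hσ', α, LinearMap.add_apply, LinearMap.fst_apply, Submodule.subtype_apply, map_add,
        hτ', (LinearMap.mem_ker).mp k.2]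
      simp)
  let β : (LinearMap.ker p₂ × P₁) →ₗ[R] P₂ :=
    (LinearMap.ker p₂).subtype.comp (LinearMap.fst R _ _) + σ.comp (LinearMap.snd R _ _)
  let Ψ₁ : (LinearMap.ker p₂ × P₁) →ₗ[R] LinearMap.ker p₁ :=
    LinearMap.codRestrict (LinearMap.ker p₁) (LinearMap.snd R _ _ - τ.comp β) (by
      rintro ⟨l, a⟩
      simp only [LinearMap.mem_ker, LinearMap.sub_apply, LinearMap.snd_apply, LinearMap.comp_apply,
        map_sub, hτ', β, LinearMap.add_apply, LinearMap.fst_apply, Submodule.subtype_apply, map_add,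
        hσ', (LinearMap.mem_ker).mp l.2]
      simp)
  refine ⟨LinearEquiv.ofLinearMap (Φ₁.prod α) (Ψ₁.prod β)
    (LinearMap.ext fun ⟨l, a⟩ => Prod.ext (Subtype.ext ?_) ?_)
    (LinearMap.ext fun ⟨k, b⟩ => Prod.ext (Subtype.ext ?_) ?_)⟩
  · simp [Φ₁, Ψ₁, α, β]
  · simp [Φ₁, Ψ₁, α, β]
  · simp [Φ₁, Ψ₁, α, β]
  · simp [Φ₁, Ψ₁, α, β]


end Groth.Agent.S2159
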