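import Groth.Statements.S2165
import Groth.Agent.Lib.Helper1.CIQuot

set_option autoImplicit false
universe u
open LCI

namespace Groth.Agent.S2165


/-- Let R be a regular ring, p a prime ideal of R and f_1, ..., f_r a regular sequence of R contained in
p. Then the local ring R_p/(f_1, ..., f_r) is a complete intersection: its completion is a regular
local ring modulo a regular sequence. The instance hypothesis that the quotient is local always
holds. -/
theorem result {R : Type u} [CommRing R] [IsRegularRing R]
    (p : Ideal R) [p.IsPrime] (rs : List R) (hmem : ∀ r ∈ rs, r ∈ p)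
    (hreg : RingTheory.Sequence.IsRegular R rs)
    [IsLocalRing (Localization.AtPrime p ⧸
      Ideal.map (algebraMap R (Localization.AtPrime p)) (Ideal.ofList rs))] :
    Pi1.IsCompleteIntersection (Localization.AtPrime p ⧸
      Ideal.map (algebraMap R (Localization.AtPrime p)) (Ideal.ofList rs)) := by
  have h1 : Ideal.map (algebraMap R (Localization.AtPrime p)) (Ideal.ofList rs) =
      Ideal.ofList (rs.map (algebraMap R (Localization.AtPrime p))) := Ideal.map_ofList _ _
  have hreg' := RingTheory.Sequence.IsWeaklyRegular.isRegular_of_isLocalization_of_mem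
    (Localization.AtPrime p) p hreg.toIsWeaklyRegular hmem
  have hmem' : ∀ r ∈ rs.map (algebraMap R (Localization.AtPrime p)),
      r ∈ IsLocalRing.maximalIdeal (Localization.AtPrime p) := by
    intro r hr
    obtain ⟨a, ha, rfl⟩ := List.mem_map.mp hr
    exact (IsLocalization.AtPrime.to_map_mem_maximal_iff _ p a).mpr (hmem a ha)
  revert ‹IsLocalRing (Localization.AtPrime p ⧸
      Ideal.map (algebraMap R (Localization.AtPrime p)) (Ideal.ofList rs))›
  rw [h1]
  intro _
  exact Groth.Agent.H1.CIQuot.ci_of_regular_quotient _ _ hmem' hreg'.toIsWeaklyRegular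

end Groth.Agent.S2165
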