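import Groth.Statements.S2167
import Groth.Agent.Lib.Helper1.AusBuchReg
import Groth.Agent.Lib.Helper6.CMKit
import Groth.Agent.Lib.Helper1.Conormal

set_option autoImplicit false
universe u
open LCI

namespace Groth.Agent.S2167

/-- Equivalence of (2) and (3), special case with R already a regular local ring: for a regular local
ring R and a proper ideal I, the ideal I is generated by a regular sequence if and only if the
conormal module I/I^2 can be generated by (dim R - dim R/I) elements, the inequality below being the
additive form of that count. -/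
theorem result {R : Type u} [CommRing R] [IsRegularLocalRing R]
    (I : Ideal R) (hI : I ≠ ⊤) :
    (∃ rs : List R, Ideal.ofList rs = I ∧ RingTheory.Sequence.IsRegular R rs) ↔
      (((⊤ : Submodule (R ⧸ I) I.Cotangent).spanFinrank : WithBot ℕ∞) + ringKrullDim (R ⧸ I)
        ≤ ringKrullDim R) := by
  classical
  have hIm : I ≤ IsLocalRing.maximalIdeal R := IsLocalRing.le_maximalIdeal hI
  constructor
  · rintro ⟨rs, hrs, hreg⟩
    have h1 := ringKrullDim_add_length_eq_ringKrullDim_of_isRegular rs hreg
    rw [hrs] at h1
    rw [← h1, add_comm]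
    gcongr
    exact_mod_cast Groth.Agent.H1.Conormal.spanFinrank_cotangent_le I rs hrs
  · intro h
    obtain ⟨xs, hlen, hxs⟩ := Groth.Agent.H1.Conormal.exists_list_ofList_eq I hI
    refine ⟨xs, hxs, ?_⟩
    have hmem : ∀ x ∈ xs, x ∈ IsLocalRing.maximalIdeal R := by
      intro x hx
      apply hIm
      rw [← hxs]
      exact Ideal.subset_span hx
    apply RingTheory.Sequence.IsRegular.of_isWeaklyRegular_of_mem_maximalIdeal _ hmem
    -- R is Cohen–Macaulay
    obtain ⟨d, hd⟩ : ∃ d : ℕ, ringKrullDim R = d :=
      ⟨_, (IsRegularLocalRing.spanFinrank_maximalIdeal (R := R)).symm⟩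
    have hCM : LocCoh.IsCohenMacaulayModule R R := by
      unfold LocCoh.IsCohenMacaulayModule
      rw [Module.supportDim_self_eq_ringKrullDim, hd,
        Groth.Agent.H1.AB.depth_eq_of_isRegularLocalRing d hd]
      rfl
    apply Groth.Agent.H6.CM.isWeaklyRegular_of_supportDim xs R hCM hmem
    have eq : Ideal.ofList xs = Ideal.ofList xs • (⊤ : Ideal R) := by simp
    have h2 : Module.supportDim R (R ⧸ (Ideal.ofList xs • (⊤ : Submodule R R))) =
        ringKrullDim (R ⧸ I) := by
      rw [← hxs, ringKrullDim_eq_of_ringEquiv (Ideal.quotientEquivAlgOfEq R eq).toRingEquiv,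
        ← Module.supportDim_quotient_eq_ringKrullDim]
    rw [h2, Module.supportDim_self_eq_ringKrullDim, hlen]
    apply le_antisymm
    · rw [add_comm]; exact h
    · have hD := ringKrullDim_le_ringKrullDim_quotient_add_spanFinrank I (by
        rw [IsLocalRing.ringJacobson_eq_maximalIdeal]; exact hIm)
      refine hD.trans ?_
      gcongr
      have : I.spanFinrank ≤ xs.length := by
        rw [← hxs]
        unfold Ideal.ofList
        refine (Submodule.spanFinrank_span_le_ncard_of_finite (List.finite_toSet xs)).trans ?_
        have : ({r | r ∈ xs} : Set R) = ↑xs.toFinset := by ext; simp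
        rw [this, Set.ncard_coe_finset]
        exact List.toFinset_card_le xs
      rw [hlen] at this
      exact_mod_cast this

end Groth.Agent.S2167
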