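import Groth.Statements.S2170
import Mathlib.Tactic

set_option autoImplicit false
open Finset
open Models

namespace Groth.Agent.S2170

/-- the quadratic form identity -/
theorem quad_identity {n : ℕ} (A : Matrix (Fin n) (Fin n) ℝ) (m y : Fin n → ℝ)
    (hsymm : A.IsSymm) :
    ∑ i, ∑ j, A i j * (m i * y i) * (m j * y j) =
      ∑ i, y i ^ 2 * m i * (∑ j, A i j * m j) -
        (1 / 2) * ∑ i, ∑ j, A i j * m i * m j * (y i - y j) ^ 2 := by
  have h1 : ∑ i, ∑ j, A i j * m i * m j * y j ^ 2 = ∑ i, ∑ j, A i j * m i * m j * y i ^ 2 := by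
    rw [Finset.sum_comm]
    refine Finset.sum_congr rfl fun i _ => Finset.sum_congr rfl fun j _ => ?_
    rw [← hsymm.apply i j]; ring
  have h2 : ∑ i, y i ^ 2 * m i * (∑ j, A i j * m j) = ∑ i, ∑ j, A i j * m i * m j * y i ^ 2 := by
    refine Finset.sum_congr rfl fun i _ => ?_
    rw [Finset.mul_sum]
    refine Finset.sum_congr rfl fun j _ => ?_
    ring
  have h3 : ∑ i, ∑ j, A i j * m i * m j * (y i - y j) ^ 2 =
      ∑ i, ∑ j, A i j * m i * m j * y i ^ 2 + ∑ i, ∑ j, A i j * m i * m j * y j ^ 2
        - 2 * ∑ i, ∑ j, A i j * (m i * y i) * (m j * y j) := by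
    rw [Finset.mul_sum, ← Finset.sum_add_distrib, ← Finset.sum_sub_distrib]
    refine Finset.sum_congr rfl fun i _ => ?_
    rw [Finset.mul_sum, ← Finset.sum_add_distrib, ← Finset.sum_sub_distrib]
    refine Finset.sum_congr rfl fun j _ => ?_
    ring
  rw [h3, h1, h2]; ring

/-- Let A be a symmetric real n × n matrix with non-negative off-diagonal entries and m a vector with
positive entries such that for every i, ∑_{j ≠ i} A_{ij} m_j ≤ −A_{ii} m_i. Then the kernel of A is
the span of the vectors equal to m on an index set I and zero off I, for those I such that A_{ij} =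
0 whenever i ∈ I and j ∉ I and such that equality holds in the above inequality for every i ∈ I. The
published statement omits the symmetry of A (without which it fails) and applies it only to
symmetric matrices; stated here with A symmetric. -/
theorem result {n : ℕ} (A : Matrix (Fin n) (Fin n) ℝ) (m : Fin n → ℝ)
    (hsymm : A.IsSymm) (hA : ∀ i j, i ≠ j → 0 ≤ A i j) (hm : ∀ i, 0 < m i)
    (hle : ∀ i, ∑ j ∈ univ.erase i, A i j * m j ≤ -(A i i * m i)) :
    LinearMap.ker (Matrix.mulVecLin A) = Submodule.span ℝ
      {x : Fin n → ℝ | ∃ I : Finset (Fin n), (∀ i ∈ I, ∀ j ∉ I, A i j = 0) ∧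
        (∀ i ∈ I, ∑ j ∈ univ.erase i, A i j * m j = -(A i i * m i)) ∧
        x = fun i => if i ∈ I then m i else 0} := by
  classical
  have hAm : ∀ i, ∑ j, A i j * m j ≤ 0 := by
    intro i
    rw [← Finset.add_sum_erase _ _ (Finset.mem_univ i)]
    linarith [hle i]
  have hAm' : ∀ i, (∑ j ∈ univ.erase i, A i j * m j = -(A i i * m i)) ↔ ∑ j, A i j * m j = 0 := by
    intro i
    rw [← Finset.add_sum_erase _ _ (Finset.mem_univ i)]
    constructor <;> intro h <;> linarith
  apply le_antisymm
  · -- kernel ⊆ span
    intro x hx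
    rw [LinearMap.mem_ker, Matrix.mulVecLin_apply] at hx
    set y : Fin n → ℝ := fun i => x i / m i with hy
    have hxy : ∀ i, x i = m i * y i := fun i => by
      simp only [hy]; field_simp [(hm i).ne']
    -- quadratic form vanishes
    have hq : ∑ i, ∑ j, A i j * (m i * y i) * (m j * y j) = 0 := by
      have : ∀ i, ∑ j, A i j * (m i * y i) * (m j * y j) = x i * (A.mulVec x) i := by
        intro i
        rw [Matrix.mulVec, dotProduct, Finset.mul_sum]
        refine Finset.sum_congr rfl fun j _ => ?_
        rw [hxy i, hxy j]; ring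
      simp only [this, hx, Pi.zero_apply, mul_zero, Finset.sum_const_zero]
    rw [quad_identity A m y hsymm] at hq
    have hT1 : ∀ i ∈ (univ : Finset (Fin n)), y i ^ 2 * m i * (∑ j, A i j * m j) ≤ 0 := fun i _ =>
      mul_nonpos_of_nonneg_of_nonpos (mul_nonneg (sq_nonneg _) (hm i).le) (hAm i)
    have hT2 : ∀ i ∈ (univ : Finset (Fin n)), ∀ j ∈ (univ : Finset (Fin n)),
        0 ≤ A i j * m i * m j * (y i - y j) ^ 2 := by
      intro i _ j _
      by_cases hij : i = j
      · subst hij; simp
      · exact mul_nonneg (mul_nonneg (mul_nonneg (hA i j hij) (hm i).le) (hm j).le) (sq_nonneg _)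
    have hS1 : ∑ i, y i ^ 2 * m i * (∑ j, A i j * m j) ≤ 0 := Finset.sum_nonpos hT1
    have hS2 : 0 ≤ ∑ i, ∑ j, A i j * m i * m j * (y i - y j) ^ 2 :=
      Finset.sum_nonneg fun i hi => Finset.sum_nonneg (hT2 i hi)
    have hS1' : ∑ i, y i ^ 2 * m i * (∑ j, A i j * m j) = 0 := by linarith
    have hS2' : ∑ i, ∑ j, A i j * m i * m j * (y i - y j) ^ 2 = 0 := by linarith
    have hE1 : ∀ i, y i ^ 2 * m i * (∑ j, A i j * m j) = 0 := fun i =>
      (Finset.sum_eq_zero_iff_of_nonpos hT1).mp hS1' i (Finset.mem_univ i)
    have hE2 : ∀ i j, A i j * m i * m j * (y i - y j) ^ 2 = 0 := by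
      intro i j
      have h1 := (Finset.sum_eq_zero_iff_of_nonneg
        (fun i hi => Finset.sum_nonneg (hT2 i hi))).mp hS2' i (Finset.mem_univ i)
      exact (Finset.sum_eq_zero_iff_of_nonneg (hT2 i (Finset.mem_univ i))).mp h1 j (Finset.mem_univ j)
    -- consequences
    have hC1 : ∀ i, y i ≠ 0 → ∑ j, A i j * m j = 0 := by
      intro i hyi
      have := hE1 i
      rcases mul_eq_zero.mp this with h | h
      · rcases mul_eq_zero.mp h with h | h
        · exact absurd ((pow_eq_zero_iff (two_ne_zero)).mp h) hyi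
        · exact absurd h (hm i).ne'
      · exact h
    have hC2 : ∀ i j, A i j ≠ 0 → y i = y j := by
      intro i j hAij
      have := hE2 i j
      rcases mul_eq_zero.mp this with h | h
      · rcases mul_eq_zero.mp h with h | h
        · rcases mul_eq_zero.mp h with h | h
          · exact absurd h hAij
          · exact absurd h (hm i).ne'
        · exact absurd h (hm j).ne'
      · exact sub_eq_zero.mp ((pow_eq_zero_iff (two_ne_zero)).mp h)
    -- decomposition of x
    have hdec : x = ∑ c ∈ (univ.image y).erase 0,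
        c • (fun i => if i ∈ univ.filter (fun i => y i = c) then m i else 0) := by
      funext i
      rw [Finset.sum_apply]
      simp only [Pi.smul_apply, smul_eq_mul, Finset.mem_filter, Finset.mem_univ, true_and]
      by_cases hyi : y i = 0
      · rw [hxy i, hyi, mul_zero]
        symm
        apply Finset.sum_eq_zero
        intro c hc
        have hc0 : c ≠ 0 := (Finset.mem_erase.mp hc).1
        rw [if_neg (fun h => hc0 h.symm), mul_zero]
      · rw [Finset.sum_eq_single (y i)]
        · rw [if_pos rfl, hxy i]; ring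
        · intro c _ hc
          rw [if_neg (fun h => hc h.symm), mul_zero]
        · intro h
          exact absurd (Finset.mem_erase.mpr ⟨hyi, Finset.mem_image_of_mem y (Finset.mem_univ i)⟩) h
    rw [hdec]
    refine Submodule.sum_mem _ fun c hc => Submodule.smul_mem _ _ (Submodule.subset_span ?_)
    have hc0 : c ≠ 0 := (Finset.mem_erase.mp hc).1
    refine ⟨univ.filter (fun i => y i = c), ?_, ?_, rfl⟩
    · intro i hi j hj
      simp only [Finset.mem_filter, Finset.mem_univ, true_and] at hi hj
      by_contra hAij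
      exact hj ((hC2 i j hAij).symm.trans hi)
    · intro i hi
      simp only [Finset.mem_filter, Finset.mem_univ, true_and] at hi
      exact (hAm' i).mpr (hC1 i (by rw [hi]; exact hc0))
  · -- span ⊆ kernel
    rw [Submodule.span_le]
    rintro x ⟨I, hI1, hI2, rfl⟩
    rw [SetLike.mem_coe, LinearMap.mem_ker, Matrix.mulVecLin_apply]
    funext i
    rw [Matrix.mulVec, dotProduct, Pi.zero_apply]
    by_cases hi : i ∈ I
    · rw [← (hAm' i).mp (hI2 i hi)]
      refine Finset.sum_congr rfl fun j _ => ?_
      by_cases hj : j ∈ I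
      · rw [if_pos hj]
      · rw [if_neg hj, hI1 i hi j hj]; ring
    · apply Finset.sum_eq_zero
      intro j _
      by_cases hj : j ∈ I
      · rw [← hsymm.apply i j, hI1 j hj i hi, zero_mul]
      · rw [if_neg hj, mul_zero]

end Groth.Agent.S2170
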