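import Groth.Statements.S2176
import Groth.Agent.H4.NumType2
import Groth.Agent.S7316

set_option autoImplicit false
open Finset
open Models Models.NumericalType

namespace Groth.Agent.S2176

/-- A minimal numerical type (no (-1)-index) with n > 1 indices has genus at least 1. -/
theorem result {n : ℕ} (T : Models.NumericalType n) (hmin : T.IsMinimal) (hn : 1 < n) : 1 ≤ T.genus := by
  have h2 := Groth.Agent.H4.NumType.two_mul_genus T
  have hnn : ∀ i ∈ (Finset.univ : Finset (Fin n)), 0 ≤ T.m i * (2 * T.w i * (T.g i - 1) - T.a i i) := by
    intro i _
    by_contra hcon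
    push Not at hcon
    exact hmin i (Groth.Agent.S7316.result T hn i hcon)
  have := Finset.sum_nonneg hnn
  omega

end Groth.Agent.S2176
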