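import Groth.Statements.S2182
import Groth.Agent.H4.NumType2

set_option autoImplicit false
open Finset
open Models Models.NumericalType

namespace Groth.Agent.S2182

/-- In a numerical type, whenever a i j > 0 one has m i * a i j at most m j * |a j j| and m i * w i at
most m j * |a j j|. -/
theorem result {n : ℕ} (T : Models.NumericalType n) (i j : Fin n) (hij : 0 < T.a i j) :
    T.m i * T.a i j ≤ T.m j * |T.a j j| ∧ T.m i * T.w i ≤ T.m j * |T.a j j| := by
  have hm_i := T.m_pos i
  have hm_j := T.m_pos j
  have hne : j ≠ i := by
    rintro rfl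
    -- a j j > 0 is impossible
    have hrow := Groth.Agent.H4.NumType.row_eq T j
    have hle : ∑ k, T.a j k * T.m k ≥ T.a j j * T.m j := by
      classical
      rw [← Finset.add_sum_erase _ _ (Finset.mem_univ j)]
      have : 0 ≤ ∑ k ∈ Finset.univ.erase j, T.a j k * T.m k := by
        apply Finset.sum_nonneg
        intro k hk
        exact mul_nonneg (T.offDiag_nonneg j k (Finset.ne_of_mem_erase hk).symm) (T.m_pos k).le
      linarith
    have : 0 < T.a j j * T.m j := mul_pos hij hm_j
    linarith
  have hrow := Groth.Agent.H4.NumType.row_le T (Groth.Agent.H4.NumType.emb2 hne) 0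
  simp [Fin.sum_univ_succ] at hrow
  have hs : T.a j i = T.a i j := Groth.Agent.H4.NumType.a_symm T j i
  rw [hs] at hrow
  have hdiag : T.a j j ≤ 0 := by
    by_contra hcon
    push Not at hcon
    have h1 : 0 < T.a j j * T.m j := mul_pos hcon hm_j
    have h2 : 0 < T.a i j * T.m i := mul_pos hij hm_i
    linarith
  have habs : |T.a j j| = -T.a j j := abs_of_nonpos hdiag
  have hw := Groth.Agent.H4.NumType.w_le_left T hij
  rw [habs]
  constructor
  · nlinarith
  · nlinarith

end Groth.Agent.S2182
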