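import Groth.Statements.S2187
import Groth.Agent.Lib.Helper1.Vasc

set_option autoImplicit false
universe u
open CategoryTheory
open LCI

namespace Groth.Agent.S2187

/-- Let R be a Noetherian local ring and I an ideal of finite projective dimension as an R-module. If F
is a direct summand of the conormal module I/I^2 which is isomorphic to R/I, then there is a
nonzerodivisor x in I whose class in I/I^2 generates F. -/
theorem result {R : Type u} [CommRing R]
    [IsNoetherianRing R] [IsLocalRing R] (I : Ideal R) (n : ℕ)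
    (hpd : HasProjectiveDimensionLT (ModuleCat.of R I) n)
    (F G : Submodule (R ⧸ I) I.Cotangent) (hFG : IsCompl F G) (e : F ≃ₗ[R ⧸ I] (R ⧸ I)) :
    ∃ (x : R) (hx : x ∈ I), x ∈ nonZeroDivisors R ∧
      Submodule.span (R ⧸ I) {I.toCotangent ⟨x, hx⟩} = F := by
  let ψ : I →ₗ[R] R ⧸ I :=
    ((e.toLinearMap.comp (Submodule.projectionOnto F G hFG)).restrictScalars R).comp
      I.toCotangent
  set f₁ : F := e.symm 1 with hf₁
  obtain ⟨x₀, hx₀⟩ := I.toCotangent_surjective (f₁ : I.Cotangent)
  have hψ : ψ x₀ = 1 := by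
    show e (Submodule.projectionOnto F G hFG (I.toCotangent x₀)) = 1
    rw [hx₀, Submodule.projectionOnto_apply_left, hf₁, LinearEquiv.apply_symm_apply]
  obtain ⟨x, hxx₀, hxnzd⟩ := Groth.Agent.H1.Vasc.exists_nonZeroDivisor I n hpd ψ x₀ hψ
  have hxI : x ∈ I := by
    have h1 : x = (x - x₀) + x₀ := by ring
    rw [h1]
    exact I.add_mem (Ideal.pow_le_self two_ne_zero hxx₀) x₀.2
  refine ⟨x, hxI, hxnzd, ?_⟩
  have hcot : I.toCotangent ⟨x, hxI⟩ = (f₁ : I.Cotangent) := by
    rw [← hx₀, Ideal.toCotangent_eq]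
    exact hxx₀
  rw [hcot]
  have h2 : (⊤ : Submodule (R ⧸ I) F) = Submodule.span (R ⧸ I) {f₁} := by
    have h3 : (⊤ : Submodule (R ⧸ I) (R ⧸ I)) = Submodule.span (R ⧸ I) {1} :=
      (Ideal.span_singleton_one).symm
    have h4 := congrArg (Submodule.map e.symm.toLinearMap) h3
    rw [Submodule.map_top, LinearEquiv.range, Submodule.map_span, Set.image_singleton] at h4
    exact h4
  have h5 := congrArg (Submodule.map F.subtype) h2
  rw [Submodule.map_top, Submodule.range_subtype, Submodule.map_span, Set.image_singleton] at h5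
  exact h5.symm

end Groth.Agent.S2187
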