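import Groth.Statements.S2207
import Mathlib

set_option autoImplicit false
universe u v
open DPow

namespace Groth.Agent.S2207

section
variable {A : Type u} {B : Type v} [CommRing A] [CommRing B] [Algebra A B]
    (x : A) (γ : DividedPowers (Ideal.span {x}))

open Classical in
/-- the extended divided power function. -/
noncomputable def dp (n : ℕ) (y : B) : B :=
  if h : ∃ b : B, b * algebraMap A B x = y then
    algebraMap A B (γ.dpow n x) * h.choose ^ n else 0

theorem hx : x ∈ Ideal.span {x} := Ideal.mem_span_singleton_self x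

theorem key (n : ℕ) (b b' : B) (h : b * algebraMap A B x = b' * algebraMap A B x) :
    algebraMap A B (γ.dpow n x) * b ^ n = algebraMap A B (γ.dpow n x) * b' ^ n := by
  rcases Nat.eq_zero_or_pos n with rfl | hn
  · simp
  · have hmem := γ.dpow_mem (Nat.pos_iff_ne_zero.mp hn) (hx x)
    obtain ⟨u, hu⟩ := Ideal.mem_span_singleton'.mp hmem
    obtain ⟨s, hs⟩ := sub_dvd_pow_sub_pow b b' n
    have h0 : (b - b') * algebraMap A B x = 0 := by rw [sub_mul, h, sub_self]
    have : algebraMap A B (γ.dpow n x) * (b ^ n - b' ^ n) = 0 := by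
      rw [← hu, map_mul, hs]
      calc algebraMap A B u * algebraMap A B x * ((b - b') * s)
          = algebraMap A B u * s * ((b - b') * algebraMap A B x) := by ring
        _ = 0 := by rw [h0, mul_zero]
    rw [mul_sub] at this
    exact sub_eq_zero.mp this

theorem dp_eq (n : ℕ) (b : B) :
    dp x γ n (b * algebraMap A B x) = algebraMap A B (γ.dpow n x) * b ^ n := by
  have h : ∃ b' : B, b' * algebraMap A B x = b * algebraMap A B x := ⟨b, rfl⟩
  unfold dp
  rw [dif_pos h]
  exact key x γ n _ _ h.choose_spec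

theorem mem_iff (y : B) :
    y ∈ (Ideal.span {x}).map (algebraMap A B) ↔ ∃ b : B, b * algebraMap A B x = y := by
  rw [Ideal.map_span, Set.image_singleton, Ideal.mem_span_singleton']

/-- the extended divided power structure. -/
noncomputable def δ : DividedPowers ((Ideal.span {x}).map (algebraMap A B)) where
  dpow := dp x γ
  dpow_null {n y} hy := by
    unfold dp
    rw [dif_neg]
    rwa [← mem_iff]
  dpow_zero {y} hy := by
    obtain ⟨b, rfl⟩ := (mem_iff x y).mp hy
    rw [dp_eq, γ.dpow_zero (hx x)]; simp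
  dpow_one {y} hy := by
    obtain ⟨b, rfl⟩ := (mem_iff x y).mp hy
    rw [dp_eq, γ.dpow_one (hx x), pow_one, mul_comm]
  dpow_mem {n y} hn hy := by
    obtain ⟨b, rfl⟩ := (mem_iff x y).mp hy
    rw [dp_eq]
    exact Ideal.mul_mem_right _ _ (Ideal.mem_map_of_mem _ (γ.dpow_mem hn (hx x)))
  dpow_add {n y z} hy hz := by
    obtain ⟨b, rfl⟩ := (mem_iff x y).mp hy
    obtain ⟨c, rfl⟩ := (mem_iff x z).mp hz
    rw [← add_mul, dp_eq, add_pow, Finset.mul_sum,
      Finset.Nat.sum_antidiagonal_eq_sum_range_succ_mk]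
    apply Finset.sum_congr rfl
    intro k hk
    have hk' : k ≤ n := Nat.lt_succ_iff.mp (Finset.mem_range.mp hk)
    rw [dp_eq, dp_eq]
    have h1 := γ.mul_dpow (m := k) (n := n - k) (hx x)
    rw [Nat.add_sub_cancel' hk'] at h1
    calc algebraMap A B (γ.dpow n x) * (b ^ k * c ^ (n - k) * ((n.choose k : ℕ) : B))
        = algebraMap A B (((n.choose k : ℕ) : A) * γ.dpow n x) * (b ^ k * c ^ (n - k)) := by
          rw [map_mul, map_natCast]; ring
      _ = algebraMap A B (γ.dpow k x * γ.dpow (n - k) x) * (b ^ k * c ^ (n - k)) := by rw [h1]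
      _ = _ := by rw [map_mul]; ring
  dpow_mul {n c y} hy := by
    obtain ⟨b, rfl⟩ := (mem_iff x y).mp hy
    rw [← mul_assoc, dp_eq, dp_eq, mul_pow]; ring
  mul_dpow {m n y} hy := by
    obtain ⟨b, rfl⟩ := (mem_iff x y).mp hy
    rw [dp_eq, dp_eq, dp_eq]
    have h1 := γ.mul_dpow (m := m) (n := n) (hx x)
    calc algebraMap A B (γ.dpow m x) * b ^ m * (algebraMap A B (γ.dpow n x) * b ^ n)
        = algebraMap A B (γ.dpow m x * γ.dpow n x) * b ^ (m + n) := by
          rw [map_mul, pow_add]; ring
      _ = _ := by rw [h1, map_mul, map_natCast]; ring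
  dpow_comp {m n y} hn hy := by
    obtain ⟨b, rfl⟩ := (mem_iff x y).mp hy
    rw [dp_eq, dp_eq]
    obtain ⟨u, hu⟩ := Ideal.mem_span_singleton'.mp (γ.dpow_mem hn (hx x))
    have h1 : algebraMap A B (γ.dpow n x) * b ^ n =
        (algebraMap A B u * b ^ n) * algebraMap A B x := by
      rw [← hu, map_mul]; ring
    rw [h1, dp_eq]
    have h2 := γ.dpow_comp (m := m) hn (hx x)
    rw [← hu, γ.dpow_mul (hx x)] at h2
    calc algebraMap A B (γ.dpow m x) * (algebraMap A B u * b ^ n) ^ m
        = algebraMap A B (u ^ m * γ.dpow m x) * b ^ (m * n) := by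
          rw [map_mul, map_pow, mul_pow, ← pow_mul, mul_comm n m]; ring
      _ = _ := by rw [h2, map_mul, map_natCast]; ring

end

/-- Existence in case (2): let I = (x) be a principal ideal of A with a divided power structure and B
any A-algebra. Then there is a divided power structure on I B for which A -> B is a homomorphism of
divided power rings. -/
theorem result {A : Type u} {B : Type v} [CommRing A] [CommRing B] [Algebra A B]
    (x : A) (γ : DividedPowers (Ideal.span {x})) :
    ∃ δ : DividedPowers ((Ideal.span {x}).map (algebraMap A B)), γ.IsDPMorphism δ (algebraMap A B) := by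
  refine ⟨δ x γ, le_rfl, ?_⟩
  intro n a ha
  obtain ⟨r, rfl⟩ := Ideal.mem_span_singleton'.mp ha
  change dp x γ n _ = _
  rw [map_mul, dp_eq, γ.dpow_mul (hx x), map_mul, map_pow, mul_comm]

end Groth.Agent.S2207
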