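import Groth.Statements.S2209
import Groth.Agent.Lib.Helper5.ArS.FibConn

set_option autoImplicit false
universe u
open CategoryTheory AlgebraicGeometry
open Models

namespace Groth.Agent.S2209



/-- Let R be a discrete valuation ring with fraction field K, C a smooth proper curve over K whose ring
of global functions is K (the map K -> H^0(C, O_C) is an isomorphism), and X a regular proper model
of C over R. Then the special fibre of X is connected. -/
theorem result (R : Type u) [CommRing R] [IsDomain R]
    [IsDiscreteValuationRing R] (C X : Scheme.{u})
    (f : C ⟶ Spec (CommRingCat.of (FractionRing R))) (p : X ⟶ Spec (CommRingCat.of R))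
    (hC : Curve.IsSmoothProperCurve (FractionRing R) C f) (hH0 : IsIso f.appTop)
    (hX : Models.IsRegularProperModel R X p C f) :
    ConnectedSpace ↥(Models.specialFibre R X p) := by
  have hconn := Groth.Agent.H5.ArS.isConnected_specialFibreSet_of_model f p hX hH0
  have hsurj : Function.Surjective (CommRingCat.ofHom
      (algebraMap R (IsLocalRing.ResidueField R))).hom := IsLocalRing.residue_surjective
  haveI : IsClosedImmersion (Spec.map (CommRingCat.ofHom
      (algebraMap R (IsLocalRing.ResidueField R)))) :=
    IsClosedImmersion.spec_of_surjective _ hsurj
  haveI : IsClosedImmersion (Limits.pullback.fst p (Spec.map (CommRingCat.ofHom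
      (algebraMap R (IsLocalRing.ResidueField R))))) := inferInstance
  have hemb : Topology.IsEmbedding (Limits.pullback.fst p (Spec.map (CommRingCat.ofHom
      (algebraMap R (IsLocalRing.ResidueField R))))).base :=
    Scheme.Hom.isEmbedding _
  have hrange : Set.range (Limits.pullback.fst p (Spec.map (CommRingCat.ofHom
      (algebraMap R (IsLocalRing.ResidueField R))))).base =
      Models.specialFibreSet R (Over.mk p) := by
    rw [Scheme.Pullback.range_fst]
    change p.base ⁻¹' _ = p.base ⁻¹' {IsLocalRing.closedPoint R}
    congr 1
    ext y
    constructor
    · rintro ⟨z, rfl⟩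
      exact IsLocalRing.PrimeSpectrum.comap_residue R z
    · intro hy
      refine ⟨(⊥ : PrimeSpectrum (IsLocalRing.ResidueField R)), ?_⟩
      exact (IsLocalRing.PrimeSpectrum.comap_residue R _).trans hy.symm
  change ConnectedSpace ↥(Limits.pullback p (Spec.map (CommRingCat.ofHom
      (algebraMap R (IsLocalRing.ResidueField R)))))
  rw [connectedSpace_iff_univ]
  rw [← hrange, ← Set.image_univ] at hconn
  exact ⟨Set.image_nonempty.mp hconn.nonempty,
    hemb.isInducing.isPreconnected_image.mp hconn.isPreconnected⟩

end Groth.Agent.S2209
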