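import Groth.Statements.S7072
import Groth.Agent.Lib.Helper8.LCI.TorAmp
import Groth.Agent.Lib.Helper8.LCI.Transfer
import Groth.Agent.Lib.Helper8.LCI.KRCot
-- import your own Groth.Agent.* helpers here

set_option autoImplicit false
universe u
attribute [local instance] HasDerivedCategory.standard
open LCI

namespace Groth.Agent.S7072

/-- For a local complete intersection homomorphism of commutative rings A → B, the naive cotangent
complex NL_{B/A} is a perfect object of D(B) and has tor amplitude in [-1, 0]. -/
theorem result {A B : Type u} [CommRing A] [CommRing B] [Algebra A B]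
    (h : LCI.IsLCI A B) :
    DRing.IsPerfect B (LCI.NL A B) ∧ DRing.HasTorAmplitudeIn B (-1) 0 (LCI.NL A B) := by
  obtain ⟨hft, n, f, hf, hK⟩ := h
  let P' := Algebra.Generators.ofAlgHom f hf
  have hker : P'.toExtension.ker = RingHom.ker f.toRingHom := Algebra.Generators.ker_ofAlgHom f hf
  have hK' : LCI.IsKoszulRegularIdeal P'.toExtension.ker := hker ▸ hK
  haveI := Groth.Agent.H8.LCI.flat_cotangent_of_isKoszulRegularIdeal hK'
  haveI := Groth.Agent.H8.LCI.projective_cotangent_of_isKoszulRegularIdeal hK'
  haveI := Groth.Agent.H8.LCI.finitePresentation_cotangent_of_isKoszulRegularIdeal hK'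
  haveI : Module.Flat B P'.toExtension.Cotangent :=
    Groth.Agent.H8.LCI.flat_extCotangent_of_flat _
  haveI : Module.Projective B P'.toExtension.Cotangent :=
    Groth.Agent.H8.LCI.projective_extCotangent_of_projective _
  haveI : Module.Finite B P'.toExtension.Cotangent :=
    Groth.Agent.H8.LCI.finite_extCotangent_of_finite _
  exact ⟨Groth.Agent.H8.LCI.isPerfect_of_cotangent_projective P',
    Groth.Agent.H8.LCI.hasTorAmplitudeIn_of_cotangent_flat P'⟩

end Groth.Agent.S7072
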