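import Groth.Statements.S2235
import Groth.Agent.H4.KosBC
import Groth.Agent.Lib.Helper6.KosExtH

set_option autoImplicit false
universe u
open TensorProduct
open Disc

namespace Groth.Agent.S2235

/-- Let A -> P be a ring map, f_1, ..., f_n a Koszul-regular sequence in P with B = P/(f_1, ..., f_n)
flat over A, and g_1, ..., g_n a Koszul-regular sequence in P tensor_A B generating the kernel of
the multiplication map P tensor_A B -> B. Write f_i tensor 1 = sum_j c_ij g_j. Then the annihilator
of the kernel of B tensor_A B -> B is the principal ideal generated by the image of det(c_ij). -/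
theorem result {A P : Type u} [CommRing A] [CommRing P] [Algebra A P]
    {n : ℕ} (f : Fin n → P) (hf : LCI.IsKoszulRegularSeq P (List.ofFn f))
    [Module.Flat A (P ⧸ Ideal.span (Set.range f))]
    (g : Fin n → P ⊗[A] (P ⧸ Ideal.span (Set.range f)))
    (hg : LCI.IsKoszulRegularSeq (P ⊗[A] (P ⧸ Ideal.span (Set.range f))) (List.ofFn g))
    (hgker : Ideal.span (Set.range g) = RingHom.ker (Algebra.TensorProduct.productMap
      (Ideal.Quotient.mkₐ A (Ideal.span (Set.range f))) (AlgHom.id A (P ⧸ Ideal.span (Set.range f)))))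
    (c : Matrix (Fin n) (Fin n) (P ⊗[A] (P ⧸ Ideal.span (Set.range f))))
    (hc : ∀ i, f i ⊗ₜ[A] (1 : P ⧸ Ideal.span (Set.range f)) = ∑ j, c i j * g j) :
    Submodule.annihilator (RingHom.ker
        (Algebra.TensorProduct.lmul' (S := P ⧸ Ideal.span (Set.range f)) A)) =
      Ideal.span {Algebra.TensorProduct.map (Ideal.Quotient.mkₐ A (Ideal.span (Set.range f)))
        (AlgHom.id A (P ⧸ Ideal.span (Set.range f))) (Matrix.det c)} := by
  classical
  let I : Ideal P := Ideal.span (Set.range f)
  let τ : (P ⊗[A] (P ⧸ I)) →ₐ[A] ((P ⧸ I) ⊗[A] (P ⧸ I)) :=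
    Algebra.TensorProduct.map (Ideal.Quotient.mkₐ A I) (AlgHom.id A (P ⧸ I))
  let F : Fin n → P ⊗[A] (P ⧸ I) := fun i => f i ⊗ₜ[A] (1 : P ⧸ I)
  have hτs : Function.Surjective τ :=
    Algebra.TensorProduct.map_surjective _ _ (Ideal.Quotient.mkₐ_surjective A I)
      Function.surjective_id
  have hker : RingHom.ker τ.toRingHom = Ideal.span (Set.range F) := by
    have h1 := Algebra.TensorProduct.rTensor_ker (R := A) (S := A) (C := P ⧸ I) (Ideal.Quotient.mkₐ A I)
      (Ideal.Quotient.mkₐ_surjective A I)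
    change RingHom.ker τ = _
    have h2 : RingHom.ker (Ideal.Quotient.mkₐ A I) = I := by
      ext z; simp [RingHom.mem_ker, Ideal.Quotient.eq_zero_iff_mem]
    rw [h1, h2, Ideal.map_span]
    congr 1
    ext y
    constructor
    · rintro ⟨_, ⟨i, rfl⟩, rfl⟩
      exact ⟨i, rfl⟩
    · rintro ⟨i, rfl⟩
      exact ⟨f i, ⟨i, rfl⟩, rfl⟩
  have hF : LCI.IsKoszulRegularSeq (P ⊗[A] (P ⧸ I)) (List.ofFn F) := by
    have := Groth.Agent.H4.KosBC.isKoszulRegularSeq_map (A := P) (B := P ⊗[A] (P ⧸ I))
      (List.ofFn f) hf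
    rw [List.map_ofFn] at this
    exact this
  have key := Groth.Agent.H6.KosExt.annihilator_eq τ.toRingHom hτs F g c hc hF hg hker
  have hcomp : Algebra.TensorProduct.productMap (Ideal.Quotient.mkₐ A I) (AlgHom.id A (P ⧸ I)) =
      (Algebra.TensorProduct.lmul' (S := P ⧸ I) A).comp τ := by
    apply Algebra.TensorProduct.ext'
    intro a b
    simp [τ]
  have himg : (Ideal.span (Set.range g)).map τ.toRingHom =
      RingHom.ker (Algebra.TensorProduct.lmul' (S := P ⧸ I) A) := by
    rw [hgker, hcomp]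
    have : RingHom.ker ((Algebra.TensorProduct.lmul' (S := P ⧸ I) A).comp τ) =
        (RingHom.ker (Algebra.TensorProduct.lmul' (S := P ⧸ I) A)).comap τ.toRingHom := by
      ext z; simp [RingHom.mem_ker]
    rw [this]
    exact Ideal.map_comap_of_surjective τ.toRingHom hτs _
  rw [← himg]
  exact key

end Groth.Agent.S2235
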