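import Groth.Statements.S9831
import Groth.Agent.Lib.Lead.QC.SubExt

set_option autoImplicit false
universe u
open CategoryTheory CategoryTheory.Limits AlgebraicGeometry TopologicalSpace Opposite
open Props

namespace Groth.Agent.S9831

/-- On a quasi-compact quasi-separated scheme, a quasi-coherent module of finite type on a quasi-compact
open U is the restriction of a quasi-coherent module of finite type on the whole scheme. -/
theorem result {X : Scheme.{u}} [CompactSpace X]
    [QuasiSeparatedSpace X] (U : X.Opens) (hU : IsCompact (U : Set X)) (G : (U : Scheme.{u}).Modules)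
    [Coh.IsQCoh G] (hG : CohB1.IsFT G) :
    ∃ G' : X.Modules, Coh.IsQCoh G' ∧ CohB1.IsFT G' ∧ Nonempty (G'.restrict U.ι ≅ G) := by
  classical
  haveI : CompactSpace (U : Scheme.{u}) := isCompact_iff_compactSpace.mp hU
  haveI : QuasiCompact U.ι := inferInstance
  haveI hG' : G.IsQuasicoherent := ‹Coh.IsQCoh G›
  let H : X.Modules := (Scheme.Modules.pushforward U.ι).obj G
  haveI hH : H.IsQuasicoherent := Groth.Agent.LD.QC.qc_pushforward U.ι G
  let e2 : H.restrict U.ι ≅ G := (Scheme.Modules.restrictFunctorAdjCounitIso U.ι).app G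
  haveI hHr : (H.restrict U.ι).IsQuasicoherent := inferInstance
  have hft : (H.restrict U.ι).IsFiniteType :=
    Groth.Agent.LD.QC.isFiniteType_of_epi e2.inv hG' hHr hG
  have hfin : ∀ W : X.Opens, IsAffineOpen W → W ≤ U → Module.Finite Γ(X, W) Γ(H, W) :=
    fun W hW hWU => Groth.Agent.LD.QC.finite_sections_of_restrict_isFiniteType H U hft hW hWU
  obtain ⟨F, u, hu, hF, hFT, hbij⟩ := Groth.Agent.LD.QC.exists_sub_finiteType H U hU hfin
  refine ⟨F, hF, hFT, ?_⟩
  have hiso : IsIso ((Scheme.Modules.restrictFunctor U.ι).map u) := by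
    apply Groth.Agent.LD.QC.isIso_of_bijective_app
    intro W'
    exact hbij (U.ι ''ᵁ W') (by
      rintro _ ⟨y, -, rfl⟩
      exact y.2)
  exact ⟨asIso ((Scheme.Modules.restrictFunctor U.ι).map u) ≪≫ e2⟩

end Groth.Agent.S9831
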