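import Groth.Statements.S2326
import Groth.Agent.Lib.Lead.QC.IdealOfHom
import Groth.Agent.Lib.Lead.QC.AmpleCrit
import Groth.Agent.Lib.Lead.QC.AmpleIso
import Groth.Agent.Lib.Lead.QC.TensorPow

set_option autoImplicit false
universe u
open CategoryTheory CategoryTheory.Limits AlgebraicGeometry
open EGA2

namespace Groth.Agent.S2326

/-- Let X be a quasi-compact separated scheme (the source also allows a prescheme with Noetherian
underlying space) and L an invertible module. Suppose that for every quasi-coherent ideal sheaf I of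
finite type there are n > 0 and k > 0 with I ⊗ L^{⊗n} a quotient of O_X^k. Then L is ample. -/
theorem result (X : Scheme.{u}) [CompactSpace X] [X.IsSeparated] (L : X.Modules) (hL : PicF.IsInvertible L)
    (h : ∀ I : X.IdealSheafData, BlowUp.IsFiniteTypeIdeal I →
      ∃ (n k : ℕ) (p : FlatMod.freeMod X k ⟶ CohB1.tensorMod (ClSub.idealMod I) (CohB1.tensorPow L (n + 1))), 0 < k ∧ Epi p) :
    CohB1.IsAmple L := by
  classical
  haveI : QuasiSeparatedSpace X := inferInstance
  haveI hLqc : L.IsQuasicoherent := LD.QC.qc_of_isInvertible L hL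
  refine ⟨hL, inferInstance, fun x => ?_⟩
  obtain ⟨U₀, e₀, hxU₀, he₀⟩ := (LD.QC.isInvertible_iff_exists_isBasisOver L).mp hL x
  obtain ⟨U, hU, hxU, hUU₀⟩ := exists_isAffineOpen_mem_and_subset (x := x) (U := U₀) hxU₀
  have heL := he₀.mono hUU₀
  obtain ⟨I, hIft, hItop, hIle⟩ := LD.QC.exists_ft_ideal U hU
  obtain ⟨n, k, p, -, hp⟩ := h I hIft
  refine ⟨n, ?_⟩
  let M : X.Modules := CohB1.tensorPow L (n + 1)
  have hMinv : PicF.IsInvertible M := LD.QC.isInvertible_tensorPow hL (n + 1)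
  haveI hMqc : M.IsQuasicoherent := LD.QC.qc_of_isInvertible M hMinv
  set e : Γ(M, U) := LD.QC.secPow (L.presheaf.map (homOfLE hUU₀).op e₀) (n + 1) with he_def
  have he : LD.QC.IsBasisOver M U e := heL.secPow (n + 1)
  let ι := ClSub.idealModι I
  let μ := LD.QC.twistIncl ι M
  -- a section `c` of `I` over `U` with `ι c = 1`
  have h1 : (1 : Γ(X, U)) ∈ I.ideal ⟨U, hU⟩ := by rw [hItop ⟨U, hU⟩ le_rfl]; trivial
  obtain ⟨c, hc⟩ := (LD.QC.exists_idealModι_app_eq_iff I ⟨U, hU⟩ _).mpr h1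
  obtain ⟨W, hW, hxW, g, hg⟩ := LD.QC.exists_local_lift p hp U
    (SecTwist.tmul (ClSub.idealMod I) M U c e) x hxU
  have hg' : (p ≫ μ).app W g = M.presheaf.map (homOfLE hW).op e := by
    change μ.app W (p.app W g) = _
    rw [hg, LD.QC.app_res μ hW, LD.QC.twistIncl_app_tmul]
    have hc' : (show Γ(X, U) from ι.app U c) = 1 := hc
    rw [hc', one_smul]
  obtain ⟨j, hj⟩ := LD.QC.exists_mem_genLocus_of_lift M (p ≫ μ) x e he W hW hxW g hg'
  set s' : LD.QC.unitMod X ⟶ CohB1.tensorMod (ClSub.idealMod I) M :=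
    Sigma.ι (fun _ : Fin k => LD.QC.unitMod X) j ≫ p with hs'
  set s : LD.QC.unitMod X ⟶ M := Sigma.ι (fun _ : Fin k => LD.QC.unitMod X) j ≫ p ≫ μ with hs
  have hss' : s = s' ≫ μ := by rw [hs, hs', Category.assoc]
  have hle : CohB1.genLocus M s ≤ U := by
    intro y hy
    by_contra hyU
    obtain ⟨V, hV, hyV, hVle⟩ := exists_isAffineOpen_mem_and_subset (x := y)
      (U := CohB1.genLocus M s) hy
    have hb := LD.QC.isBasisOver_val_of_le s hVle
    obtain ⟨c', hc'⟩ := (LD.QC.bijective_tmul_of_isBasisOver (ClSub.idealMod I) M hb V le_rfl).2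
      (SecTwist.val s' V)
    have hc'' : SecTwist.tmul (ClSub.idealMod I) M V c'
        (M.presheaf.map (homOfLE (le_refl V)).op (SecTwist.val s V)) = SecTwist.val s' V := hc'
    rw [LD.QC.res_self] at hc''
    have h2 : SecTwist.val s V = μ.app V (SecTwist.val s' V) := by
      rw [hss']; rfl
    rw [← hc'', LD.QC.twistIncl_app_tmul] at h2
    have h3 : (show Γ(X, V) from ι.app V c') = 1 := by
      apply hb.coord_injective
      rw [← h2, one_smul]
    have h4 : (1 : Γ(X, V)) ∈ I.ideal ⟨V, hV⟩ :=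
      (LD.QC.exists_idealModι_app_eq_iff I ⟨V, hV⟩ _).mp ⟨c', h3⟩
    have h5 := LD.QC.notMem_basicOpen_of_mem_vanishingIdeal
      ⟨(U : Set X)ᶜ, U.2.isClosed_compl⟩ ⟨V, hV⟩ _ (hIle ⟨V, hV⟩ h4) y hyV hyU
    apply h5
    rw [X.basicOpen_of_isUnit isUnit_one]
    exact hyV
  refine ⟨s, hj, ?_⟩
  have h6 := LD.QC.isAffineOpen_genLocus_inf M hMinv s hU
  rwa [inf_eq_left.mpr hle] at h6

end Groth.Agent.S2326
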