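import Groth.Statements.S2328
import Groth.Agent.Lib.Lead.QC.TensorComm
import Groth.Agent.S2126
import Groth.Agent.S9814

set_option autoImplicit false
universe u
open CategoryTheory CategoryTheory.Limits AlgebraicGeometry
open EGA2

namespace Groth.Agent.S2328

/-- Let X be a quasi-compact separated scheme, L an ample invertible module and L' an invertible module
such that every point of X lies in the generating locus X_{s'} of some global section s' of some
positive power of L'. Then L ⊗ L' is ample. -/
theorem result (X : Scheme.{u}) [CompactSpace X] [X.IsSeparated] (L L' : X.Modules) (hL : CohB1.IsAmple L) (hL' : PicF.IsInvertible L')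
    (h : ∀ x : X, ∃ (n : ℕ) (s' : Coh.structureModule X ⟶ CohB1.tensorPow L' (n + 1)), x ∈ CohB1.genLocus _ s') :
    CohB1.IsAmple (CohB1.tensorMod L L') := by
  obtain ⟨hLi, -, hA⟩ := hL
  have hB := (Groth.Agent.S2126.result L hLi).mp ⟨hLi, inferInstance, hA⟩
  have hB' := Groth.Agent.S9814.result X L hLi hB
  refine ⟨LD.QC.isInvertible_tensorMod hLi hL', inferInstance, fun x => ?_⟩
  obtain ⟨b, s', hxs'⟩ := h x
  obtain ⟨_, ⟨hAff, a, s, rfl⟩, hxs, hss'⟩ := TopologicalSpace.Opens.isBasis_iff_nbhd.mp hB' hxs'
  obtain ⟨N, T, hT⟩ := LD.QC.exists_tmul_section hLi hL' s s'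
  rw [inf_eq_left.mpr hss'] at hT
  refine ⟨N, T, ?_, ?_⟩
  · rw [hT]; exact hxs
  · rw [hT]; exact hAff

end Groth.Agent.S2328
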