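import Groth.Statements.S2329
import Groth.Agent.Lib.Lead.QC.AmpleIso
import Groth.Agent.S2328

set_option autoImplicit false
universe u
open CategoryTheory CategoryTheory.Limits AlgebraicGeometry
open EGA2

namespace Groth.Agent.S2329

/-- Let X be a quasi-compact separated scheme, L an ample invertible module and L' an invertible module.
Then there is n₀ > 0 such that L^{⊗n} ⊗ L' is ample and globally generated for every n ≥ n₀. -/
theorem result (X : Scheme.{u}) [CompactSpace X] [X.IsSeparated] (L L' : X.Modules) (hL : CohB1.IsAmple L) (hL' : PicF.IsInvertible L') :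
    ∃ n₀ : ℕ, 0 < n₀ ∧ ∀ n, n₀ ≤ n →
      CohB1.IsAmple (CohB1.tensorMod (CohB1.tensorPow L n) L') ∧ Curv2.IsGloballyGenerated (CohB1.tensorMod (CohB1.tensorPow L n) L') := by
  have hinv := hL.1
  haveI : L.IsQuasicoherent := LD.QC.qc_of_isInvertible L hinv
  haveI : L'.IsQuasicoherent := LD.QC.qc_of_isInvertible L' hL'
  haveI : QuasiSeparatedSpace X :=
    (AlgebraicGeometry.quasiSeparatedSpace_iff_quasiSeparated X).mpr inferInstance
  have hFT : L'.IsFiniteType := LD.QC.isFiniteType_of_isInvertible L' hL'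
  obtain ⟨n₁, hn₁⟩ := LD.QC.exists_epi_free_of_isAmple L hL L' hFT
  refine ⟨n₁ + 1, Nat.succ_pos _, fun n hn => ?_⟩
  obtain ⟨k, rfl⟩ : ∃ k, n = k + 1 := ⟨n - 1, by omega⟩
  have hk : n₁ ≤ k := by omega
  haveI : (CohB1.tensorPow L k).IsQuasicoherent :=
    LD.QC.qc_of_isInvertible _ (LD.QC.isInvertible_tensorPow hinv k)
  haveI : (CohB1.tensorPow L (k + 1)).IsQuasicoherent :=
    LD.QC.qc_of_isInvertible _ (LD.QC.isInvertible_tensorPow hinv (k + 1))
  constructor
  · obtain ⟨K, p, hp⟩ := hn₁ k hk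
    have hMinv : PicF.IsInvertible (CohB1.tensorMod (CohB1.tensorPow L k) L') :=
      LD.QC.isInvertible_tensorMod (LD.QC.isInvertible_tensorPow hinv k) hL'
    haveI : (CohB1.tensorMod (CohB1.tensorPow L k) L').IsQuasicoherent :=
      LD.QC.qc_of_isInvertible _ hMinv
    have hq : Epi (p ≫ (LD.QC.tensorComm L' (CohB1.tensorPow L k)).hom) :=
      @epi_comp _ _ _ _ _ p hp _ inferInstance
    have hA : CohB1.IsAmple (CohB1.tensorMod L (CohB1.tensorMod (CohB1.tensorPow L k) L')) := by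
      refine Groth.Agent.S2328.result X L _ hL hMinv (fun x => ?_)
      obtain ⟨j, hj⟩ := LD.QC.exists_mem_genLocus_of_epi _ hMinv _ hq x
      refine ⟨0, (Sigma.ι (fun _ : Fin K => LD.QC.unitMod X) j ≫
        p ≫ (LD.QC.tensorComm L' (CohB1.tensorPow L k)).hom) ≫
        (LD.QC.unitorL (CohB1.tensorMod (CohB1.tensorPow L k) L')).inv, ?_⟩
      have h := LD.QC.genLocus_comp_iso (Sigma.ι (fun _ : Fin K => LD.QC.unitMod X) j ≫
        p ≫ (LD.QC.tensorComm L' (CohB1.tensorPow L k)).hom)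
        (LD.QC.unitorL (CohB1.tensorMod (CohB1.tensorPow L k) L')).symm
      exact h.symm ▸ hj
    exact LD.QC.isAmple_of_iso ((LD.QC.tensorAssoc L (CohB1.tensorPow L k) L').symm ≪≫
      LD.QC.tensorIso' (LD.QC.tensorComm L (CohB1.tensorPow L k)) (Iso.refl L')) hA
  · obtain ⟨K, p, hp⟩ := hn₁ (k + 1) (by omega)
    exact LD.QC.isGloballyGenerated_of_epi_freeMod
      (p ≫ (LD.QC.tensorComm L' (CohB1.tensorPow L (k + 1))).hom)
      (@epi_comp _ _ _ _ _ p hp _ inferInstance)

end Groth.Agent.S2329
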