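import Groth.Statements.S2333
import Groth.Agent.Lib.Lead.QC.LocalBase2

set_option autoImplicit false
universe u
open CategoryTheory CategoryTheory.Limits AlgebraicGeometry
open EGA2

namespace Groth.Agent.S2333

/-- Let f : X → Y and g : Y → Z be morphisms of schemes with f quasi-compact, and L an O_X-module which
is ample relative to the composite g ∘ f. Then L is ample relative to f. (No separatedness
hypothesis on g is imposed.) -/
theorem result {X Y Z : Scheme.{u}} (f : X ⟶ Y) (g : Y ⟶ Z) [QuasiCompact f]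
    (L : X.Modules) (hL : RelAmple.IsRelAmple (f ≫ g) L) : RelAmple.IsRelAmple f L := by
  refine ⟨inferInstance, fun V => ?_⟩
  apply LD.QC.isAmple_preimage_of_basicOpen_cover f L V.1 V.2
  intro v hv
  obtain ⟨W, hW, hgv, -⟩ := exists_isAffineOpen_mem_and_subset (x := g v) (U := ⊤) trivial
  obtain ⟨h, hle, hvh⟩ := V.2.exists_basicOpen_le (V := g ⁻¹ᵁ W) ⟨v, hgv⟩ hv
  refine ⟨h, hvh, ?_⟩
  have haff : IsAffineOpen (Y.basicOpen h) := V.2.basicOpen h
  haveI : CompactSpace (f ⁻¹ᵁ Y.basicOpen h : Scheme.{u}) :=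
    isCompact_iff_compactSpace.mp (QuasiCompact.isCompact_preimage (f := f) _
      (Y.basicOpen h).2 haff.isCompact)
  apply LD.QC.isAmple_restrict_of_le _ ((f ≫ g) ⁻¹ᵁ W).ι _ L (hL.2 ⟨W, hW⟩)
  rw [Scheme.Opens.opensRange_ι, Scheme.Opens.opensRange_ι]
  intro x hx
  exact hle hx

end Groth.Agent.S2333
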