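import Groth.Statements.S2343
import Mathlib
import Groth.Agent.Lib.Helper1.HensFin5
import Groth.Agent.Lib.Helper1.Henselian
import Groth.Agent.Lib.Helper1.QFIsolated

set_option autoImplicit false
universe u
open CategoryTheory CategoryTheory.Limits AlgebraicGeometry
open EGA2

namespace Groth.Agent.S2343

/-- Let A be a complete Noetherian local ring, X a separated scheme locally of finite type over Spec A,
and x a point of X over the closed point which is isolated in its fibre. Then the local ring of X at
x is a finite A-module and the canonical morphism Spec O_{X,x} → X is both an open and a closed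
immersion (X is the disjoint sum of Spec O_{X,x} and another open subscheme). -/
theorem result (A : Type u) [CommRing A] [IsLocalRing A] [IsNoetherianRing A]
    [IsAdicComplete (IsLocalRing.maximalIdeal A) A] (X : Scheme.{u}) (f : X ⟶ Spec (CommRingCat.of A)) [LocallyOfFiniteType f] [IsSeparated f]
    (x : X) (hx : f.base x = IsLocalRing.closedPoint A)
    (hisol : IsOpen ((Subtype.val : (f.base ⁻¹' {IsLocalRing.closedPoint A}) → X) ⁻¹' {x})) :
    ((Scheme.ΓSpecIso (CommRingCat.of A)).inv ≫ f.appTop ≫ X.presheaf.germ ⊤ x trivial).hom.Finite ∧ IsOpenImmersion (X.fromSpecStalk x) ∧ IsClosedImmersion (X.fromSpecStalk x) := by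
  haveI : HenselianLocalRing A := Groth.Agent.H1.henselianLocalRing_of_henselianRing_maximalIdeal A
  have hq : f.QuasiFiniteAt x := by
    rw [Groth.Agent.H1.QFIsolated.quasiFiniteAt_iff_isolated]
    obtain ⟨O, hO, hOx⟩ := isOpen_induced_iff.mp hisol
    refine ⟨⟨O, hO⟩, ?_, ?_⟩
    · have : (⟨x, hx⟩ : f.base ⁻¹' {IsLocalRing.closedPoint A}) ∈ Subtype.val ⁻¹' O := by
        rw [hOx]; rfl
      exact this
    · intro x' hx' hfx'
      have : (⟨x', hfx'.trans hx⟩ : f.base ⁻¹' {IsLocalRing.closedPoint A}) ∈
          Subtype.val ⁻¹' O := hx'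
      rw [hOx] at this
      exact this
  obtain ⟨U, hU, hxU, hfinU, hfinU', hbij⟩ :=
    Groth.Agent.H1.HensFin.exists_local_finite_open_nbhd A f x hx hq
  haveI hiso : IsIso (X.presheaf.germ U x hxU) :=
    (ConcreteCategory.isIso_iff_bijective _).mpr hbij
  have hfs : X.fromSpecStalk x = Spec.map (X.presheaf.germ U x hxU) ≫ hU.fromSpec := by
    rw [← hU.fromSpecStalk_eq_fromSpecStalk hxU]
    rfl
  refine ⟨?_, ?_, ?_⟩
  · have h1 : f.appTop ≫ X.presheaf.germ ⊤ x trivial =
        f.appLE ⊤ U le_top ≫ X.presheaf.germ U x hxU := by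
      rw [← X.presheaf.germ_res (homOfLE (le_top : U ≤ ⊤)) x hxU, ← Category.assoc]
      rfl
    rw [h1, CommRingCat.hom_comp, CommRingCat.hom_comp]
    refine RingHom.Finite.comp ?_ ?_
    · exact (RingHom.Finite.of_surjective _ hbij.2).comp hfinU
    · exact RingHom.Finite.of_surjective _
        (ConcreteCategory.bijective_of_isIso (Scheme.ΓSpecIso (CommRingCat.of A)).inv).2
  · rw [hfs]
    infer_instance
  · apply IsClosedImmersion.of_isPreimmersion
    have hr : Set.range (X.fromSpecStalk x) = (U : Set X) := by
      rw [hfs, Scheme.Hom.comp_base, TopCat.coe_comp, Set.range_comp]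
      have : Set.range (Spec.map (X.presheaf.germ U x hxU)) = Set.univ :=
        Set.range_eq_univ.mpr (Spec.map (X.presheaf.germ U x hxU)).surjective
      rw [this, Set.image_univ, hU.range_fromSpec]
    rw [hr]
    exact Groth.Agent.H1.HensFin.isClosed_of_isFinite f U hfinU'

end Groth.Agent.S2343
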