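import Groth.Statements.S2344
import Groth.Agent.S9701
import Groth.Agent.Lib.Helper6.Cv1

set_option autoImplicit false
universe u
open CategoryTheory CategoryTheory.Limits AlgebraicGeometry
open EGA2

namespace Groth.Agent.S2344

/-- Let X be a normal algebraic curve over k (separated, of finite type, nonempty, local rings at closed
points of dimension one, all local rings integrally closed domains), Y proper over k, U a dense open
of X and g : U → Y a k-morphism. Then g extends uniquely to a k-morphism X → Y. -/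
theorem result (k : Type u) [Field k] (X Y : Scheme.{u}) [X.Over (Spec (CommRingCat.of k))] [Y.Over (Spec (CommRingCat.of k))]
    [LocallyOfFiniteType (X ↘ (Spec (CommRingCat.of k)))] [QuasiCompact (X ↘ (Spec (CommRingCat.of k)))] [IsSeparated (X ↘ (Spec (CommRingCat.of k)))] [Nonempty X] (hcurve : (∀ x : X, IsClosed ({x} : Set X) → ringKrullDim (X.presheaf.stalk x) = 1)) (hnorm : Pi1.IsNormalScheme X)
    [IsProper (Y ↘ (Spec (CommRingCat.of k)))] (U : X.Opens) (hU : Dense (U : Set X)) (g : (U : Scheme.{u}) ⟶ Y)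
    (hg : g ≫ (Y ↘ (Spec (CommRingCat.of k))) = U.ι ≫ (X ↘ (Spec (CommRingCat.of k)))) :
    ∃! g' : X ⟶ Y, U.ι ≫ g' = g ∧ g' ≫ (Y ↘ (Spec (CommRingCat.of k))) = X ↘ (Spec (CommRingCat.of k)) := by
  classical
  haveI : IsLocallyNoetherian X :=
    LocallyOfFiniteType.isLocallyNoetherian (X ↘ (Spec (CommRingCat.of k)))
  haveI : CompactSpace X :=
    QuasiCompact.compactSpace_of_compactSpace (X ↘ (Spec (CommRingCat.of k)))
  haveI : IsNoetherian X := {}
  haveI : IsSeparated (Y ↘ (Spec (CommRingCat.of k))) := inferInstance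
  let S : Set X.Opens := {U' | ∃ (h : U ≤ U') (f' : (U' : Scheme.{u}) ⟶ Y),
    f' ≫ (Y ↘ (Spec (CommRingCat.of k))) = U'.ι ≫ (X ↘ (Spec (CommRingCat.of k))) ∧
      X.homOfLE h ≫ f' = g}
  have hS : S.Nonempty := ⟨U, le_rfl, g, hg, by simp⟩
  obtain ⟨U', hU'S, hmax⟩ := WellFounded.has_min
    (wellFounded_gt : WellFounded ((· > ·) : X.Opens → X.Opens → Prop)) S hS
  obtain ⟨hUU', f', hf'q, hf'g⟩ := hU'S
  have htop : U' = ⊤ := by
    by_contra hne
    have hne' : ((U' : Set X)ᶜ).Nonempty := by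
      rw [Set.nonempty_compl]
      intro h
      apply hne
      ext1
      exact h
    obtain ⟨x, hxU', hxcl⟩ := IsClosed.exists_closed_singleton (U'.isOpen.isClosed_compl) hne'
    obtain ⟨hdom, hic⟩ := hnorm x
    have hdim := hcurve x hxcl
    haveI := hdom
    haveI := hic
    have hval := (Groth.Agent.H6.Cv.valuationRing_of_dim_one (X.presheaf.stalk x) hdim).1
    have hxc : x ∈ closure (U' : Set X) := by
      have hd : Dense (U' : Set X) := hU.mono (by exact_mod_cast hUU')
      exact hd x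
    obtain ⟨U'', hU'U'', hxU'', f'', hf''q, hf''⟩ := Groth.Agent.S9701.result
      (X ↘ (Spec (CommRingCat.of k))) (Y ↘ (Spec (CommRingCat.of k))) x U' f' hf'q hxc
      (Or.inr inferInstance) hdom hval
    refine hmax U'' ⟨hUU'.trans hU'U'', f'', hf''q, ?_⟩ ?_
    · rw [← hf'g, ← hf'', ← Category.assoc, X.homOfLE_homOfLE]
    · exact lt_of_le_of_ne hU'U'' (fun h => hxU' (by rw [h]; exact hxU''))
  subst htop
  haveI : IsReduced X := by
    haveI : ∀ x : X, _root_.IsReduced (X.presheaf.stalk x) := fun x => by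
      haveI := (hnorm x).1
      infer_instance
    exact isReduced_of_isReduced_stalk X
  haveI : IsDominant U.ι := ⟨by
    rw [DenseRange, Scheme.Opens.range_ι]
    exact hU⟩
  refine ⟨X.topIso.inv ≫ f', ⟨?_, ?_⟩, ?_⟩
  · have h1 : U.ι = X.homOfLE hUU' ≫ (⊤ : X.Opens).ι := (X.homOfLE_ι hUU').symm
    have h2 : (⊤ : X.Opens).ι ≫ X.topIso.inv = 𝟙 _ := by
      rw [← Scheme.topIso_hom, Iso.hom_inv_id]
    rw [h1, Category.assoc, ← Category.assoc (⊤ : X.Opens).ι, h2, Category.id_comp, hf'g]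
  · rw [Category.assoc, hf'q, ← Category.assoc, ← Scheme.topIso_hom, Iso.inv_hom_id,
      Category.id_comp]
  · rintro g₂ ⟨hg₂, hg₂q⟩
    have h1 : U.ι ≫ (X.topIso.inv ≫ f') = g := by
      have h1 : U.ι = X.homOfLE hUU' ≫ (⊤ : X.Opens).ι := (X.homOfLE_ι hUU').symm
      have h2 : (⊤ : X.Opens).ι ≫ X.topIso.inv = 𝟙 _ := by
        rw [← Scheme.topIso_hom, Iso.hom_inv_id]
      rw [h1, Category.assoc, ← Category.assoc (⊤ : X.Opens).ι, h2, Category.id_comp, hf'g]
    have h3 : (X.topIso.inv ≫ f') ≫ (Y ↘ (Spec (CommRingCat.of k))) =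
        X ↘ (Spec (CommRingCat.of k)) := by
      rw [Category.assoc, hf'q, ← Category.assoc, ← Scheme.topIso_hom, Iso.inv_hom_id,
        Category.id_comp]
    exact ext_of_isDominant_of_isSeparated (Y ↘ (Spec (CommRingCat.of k)))
      (hg₂q.trans h3.symm) U.ι (hg₂.trans h1.symm)

end Groth.Agent.S2344
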