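import Groth.Statements.S2350
import Groth.Agent.Lib.Lead.QC.InvBasis

set_option autoImplicit false
universe u
open CategoryTheory CategoryTheory.Limits AlgebraicGeometry
open EGA2

namespace Groth.Agent.S2350

/-- Let X be a scheme, L an invertible O_X-module and s a global section of L. Then the inclusion of the
open X_s (where s generates L) into X is an affine morphism. -/
theorem result (X : Scheme.{u}) (L : X.Modules) (hL : PicF.IsInvertible L) (s : Coh.structureModule X ⟶ L) :
    IsAffineHom (CohB1.genLocus L s).ι := by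
  apply isAffineHom_of_forall_exists_isAffineOpen
  intro x
  obtain ⟨U₀, e₀, hxU₀, he₀⟩ := (LD.QC.isInvertible_iff_exists_isBasisOver L).mp hL x
  obtain ⟨U, hU, hxU, hUU₀⟩ := exists_isAffineOpen_mem_and_subset (x := x) (U := U₀) hxU₀
  have hUU₀' : U ≤ U₀ := hUU₀
  have he := he₀.mono hUU₀'
  obtain ⟨f, hf⟩ := (he U le_rfl).2 (SecTwist.val s U)
  have hf' : SecTwist.val s U = f • L.presheaf.map (homOfLE hUU₀').op e₀ := by
    rw [← hf]
    change f • L.presheaf.map (homOfLE (le_refl U)).op _ = _
    rw [LD.QC.res_self]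
  have hG := LD.QC.genLocus_inf_eq_basicOpen s he f hf'
  refine ⟨U, hxU, hU, ?_⟩
  rw [← Scheme.Hom.isAffineOpen_iff_of_isOpenImmersion (CohB1.genLocus L s).ι,
    Scheme.Hom.image_preimage_eq_opensRange_inf, Scheme.Opens.opensRange_ι, hG]
  exact hU.basicOpen f

end Groth.Agent.S2350
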