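import Groth.Statements.S4449
import Groth.Agent.Lib.Helper6.VC6

set_option autoImplicit false
universe u
open CategoryTheory CategoryTheory.Limits AlgebraicGeometry
open EGA2

namespace Groth.Agent.S4449

/-- Case of an arbitrary integral separated base: let Y and X be integral separated schemes and f : X ⟶
Y a dominant morphism of finite type, ξ the generic point of X. Suppose that every valuation subring
R of K(X) other than K(X) itself which dominates the local ring of Y at a point y (via O_{Y,y} →
O_{Y,f(ξ)} → K(X)) dominates the local ring of X at some point x (via O_{X,x} → K(X)). Then f is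
proper. (Compare the locally Noetherian variant with discrete valuation rings.) -/
theorem result {X Y : Scheme.{u}} [IsIntegral X] [IsIntegral Y]
    [X.IsSeparated] [Y.IsSeparated] (f : X ⟶ Y) [IsDominant f] [LocallyOfFiniteType f] [QuasiCompact f]
    (h : ∀ (R : ValuationSubring X.functionField), R ≠ ⊤ →
      ∀ (y : Y) (hy : f.base (genericPoint X) ⤳ y),
        ((∀ a : Y.presheaf.stalk y, (Y.presheaf.stalkSpecializes hy ≫ f.stalkMap (genericPoint X)).hom a ∈ R) ∧
          ∀ a ∈ IsLocalRing.maximalIdeal (Y.presheaf.stalk y),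
            R.valuation ((Y.presheaf.stalkSpecializes hy ≫ f.stalkMap (genericPoint X)).hom a) < 1) →
        ∃ x : X, (∀ a : X.presheaf.stalk x, algebraMap (X.presheaf.stalk x) X.functionField a ∈ R) ∧
          ∀ a ∈ IsLocalRing.maximalIdeal (X.presheaf.stalk x), R.valuation (algebraMap (X.presheaf.stalk x) X.functionField a) < 1) :
    IsProper f := by
  classical
  let ξ : X := genericPoint X
  have hsepf : IsSeparated f := inferInstance
  let ζ : Spec (CommRingCat.of X.functionField) ⟶ X := X.fromSpecStalk ξ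
  have hζcl : ζ.base (IsLocalRing.closedPoint X.functionField) = ξ :=
    Scheme.fromSpecStalk_closedPoint
  have H : ∀ (R : ValuationSubring X.functionField) (φ : Spec (CommRingCat.of ↥R) ⟶ Y),
      Spec.map (CommRingCat.ofHom R.subtype) ≫ φ = ζ ≫ f →
      ∃! φ' : Spec (CommRingCat.of ↥R) ⟶ X,
        Spec.map (CommRingCat.ofHom R.subtype) ≫ φ' = ζ ∧ φ' ≫ f = φ := by
    intro R φ hφ
    -- uniqueness
    have huniq : ∀ φ₁ φ₂ : Spec (CommRingCat.of ↥R) ⟶ X,
        Spec.map (CommRingCat.ofHom R.subtype) ≫ φ₁ = ζ → φ₁ ≫ f = φ →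
        Spec.map (CommRingCat.ofHom R.subtype) ≫ φ₂ = ζ → φ₂ ≫ f = φ → φ₁ = φ₂ := by
      intro φ₁ φ₂ h₁ h₁' h₂ h₂'
      have w : ζ ≫ f =
          Spec.map (CommRingCat.ofHom (algebraMap ↥R ↑X.functionField)) ≫ φ := hφ.symm
      let Sq : ValuativeCommSq f :=
        { R := ↥R, K := ↑X.functionField, i₁ := ζ, i₂ := φ, commSq := ⟨w⟩ }
      have hsub : Subsingleton Sq.commSq.LiftStruct := IsSeparated.valuativeCriterion f Sq
      have := Subsingleton.elim (⟨φ₁, h₁, h₁'⟩ : Sq.commSq.LiftStruct) ⟨φ₂, h₂, h₂'⟩
      exact congrArg CommSq.LiftStruct.l this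
    suffices hex : ∃ φ' : Spec (CommRingCat.of ↥R) ⟶ X,
        Spec.map (CommRingCat.ofHom R.subtype) ≫ φ' = ζ ∧ φ' ≫ f = φ by
      obtain ⟨φ', h1, h2⟩ := hex
      exact ⟨φ', ⟨h1, h2⟩, fun φ₂ hφ₂ => huniq φ₂ φ' hφ₂.1 hφ₂.2 h1 h2⟩
    by_cases hR : R = ⊤
    · have hmem : ∀ a : X.functionField, a ∈ R := fun a => by rw [hR]; trivial
      let ι' : CommRingCat.of X.functionField ⟶ CommRingCat.of R :=
        CommRingCat.ofHom ((RingHom.id X.functionField).codRestrict R.toSubring hmem)
      have e1 : ι' ≫ CommRingCat.ofHom R.subtype = 𝟙 _ := rfl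
      have e2 : CommRingCat.ofHom R.subtype ≫ ι' = 𝟙 _ := by
        ext a
        rfl
      refine ⟨Spec.map ι' ≫ ζ, ?_, ?_⟩
      · rw [← Spec.map_comp_assoc, e1, Spec.map_id, Category.id_comp]
      · rw [Category.assoc, ← hφ, ← Spec.map_comp_assoc, e2, Spec.map_id, Category.id_comp]
    · let y : Y := φ.base (IsLocalRing.closedPoint R)
      let χ : Y.presheaf.stalk y ⟶ CommRingCat.of R := Scheme.stalkClosedPointTo φ
      have hφχ : Spec.map χ ≫ Y.fromSpecStalk y = φ := Scheme.Spec_stalkClosedPointTo_fromSpecStalk φ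
      have hχloc : IsLocalHom χ.hom := Scheme.isLocalHom_stalkClosedPointTo φ
      have h0 : Spec.map (χ ≫ CommRingCat.ofHom R.subtype) ≫ Y.fromSpecStalk y =
          Spec.map (f.stalkMap ξ) ≫ Y.fromSpecStalk (f.base ξ) := by
        rw [Spec.map_comp, Category.assoc, hφχ, hφ]
        exact (Scheme.SpecMap_stalkMap_fromSpecStalk f).symm
      obtain ⟨hy, hχ⟩ := Groth.Agent.H6.VC.specializes_and_eq _ _ h0
      have hval : ∀ a : Y.presheaf.stalk y,
          (Y.presheaf.stalkSpecializes hy ≫ f.stalkMap (genericPoint X)).hom a =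
            ((χ.hom a : R) : X.functionField) := by
        intro a
        have := congrArg (fun q => q.hom a) hχ
        exact this.symm
      obtain ⟨x, hx1, hx2⟩ := h R hR y hy ⟨fun a => by rw [hval]; exact (χ.hom a).2, fun a ha => by
        rw [hval]
        apply (R.valuation_lt_one_iff _).1
        rw [IsLocalRing.mem_maximalIdeal] at ha ⊢
        intro hu
        exact ha (hχloc.map_nonunit _ hu)⟩
      let φx : X.presheaf.stalk x ⟶ CommRingCat.of R :=
        CommRingCat.ofHom ((algebraMap (X.presheaf.stalk x) X.functionField).codRestrict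
          R.toSubring hx1)
      have hφxsub : φx ≫ CommRingCat.ofHom R.subtype =
          X.presheaf.stalkSpecializes ((genericPoint_spec X).specializes trivial) := rfl
      have hφxloc : IsLocalHom φx.hom := by
        constructor
        intro a ha
        by_contra hna
        have hm : a ∈ IsLocalRing.maximalIdeal (X.presheaf.stalk x) :=
          (IsLocalRing.mem_maximalIdeal _).2 hna
        have h1 := hx2 a hm
        have h2 : R.valuation ((φx.hom a : R) : X.functionField) = 1 :=
          (R.valuation_eq_one_iff _).1 ha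
        exact absurd h2 (ne_of_lt h1)
      have ha : Spec.map (CommRingCat.ofHom R.subtype) ≫ (Spec.map φx ≫ X.fromSpecStalk x) = ζ := by
        rw [← Spec.map_comp_assoc, hφxsub, Scheme.SpecMap_stalkSpecializes_fromSpecStalk]
      refine ⟨Spec.map φx ≫ X.fromSpecStalk x, ha, ?_⟩
      -- `Y` is separated
      let t : Spec (CommRingCat.of ↥R) ⟶ ⊤_ Scheme := Limits.terminal.from _
      have w : (ζ ≫ f) ≫ Limits.terminal.from Y =
          Spec.map (CommRingCat.ofHom (algebraMap ↥R ↑X.functionField)) ≫ t :=
        Limits.terminal.hom_ext _ _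
      let Sq : ValuativeCommSq (Limits.terminal.from Y) :=
        { R := ↥R, K := ↑X.functionField, i₁ := ζ ≫ f, i₂ := t, commSq := ⟨w⟩ }
      have hsub : Subsingleton Sq.commSq.LiftStruct :=
        IsSeparated.valuativeCriterion (Limits.terminal.from Y) Sq
      have := Subsingleton.elim
        (⟨(Spec.map φx ≫ X.fromSpecStalk x) ≫ f, by
            change Spec.map (CommRingCat.ofHom R.subtype) ≫ _ = _
            rw [← Category.assoc, ha], Limits.terminal.hom_ext _ _⟩ : Sq.commSq.LiftStruct)
        ⟨φ, hφ, Limits.terminal.hom_ext _ _⟩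
      exact congrArg CommSq.LiftStruct.l this
  have P := fun (y : X) (A : ValuationSubring (X.residueField y))
      (i₂ : Spec (CommRingCat.of A) ⟶ Y)
      (hi : Spec.map (CommRingCat.ofHom A.subtype) ≫ i₂ = X.fromSpecResidueField y ≫ f) =>
    Groth.Agent.H6.VC.keyP' f X.functionField ζ H y
      (by rw [hζcl]; exact (genericPoint_spec X).specializes trivial) A i₂ hi
  have : UniversallyClosed f :=
    UniversallyClosed.of_valuativeCriterion f (Groth.Agent.H6.VC.existence_of_key f P)
  exact { }

end Groth.Agent.S4449
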