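import Groth.Statements.S2358
import Mathlib
import Groth.Agent.Lib.Helper1.NormGen

set_option autoImplicit false
universe u
open CategoryTheory CategoryTheory.Limits AlgebraicGeometry
open EGA2

namespace Groth.Agent.S2358

/-- Let X be an integral normal scheme, g : X' → X an integral morphism, U a dense open of X and s : U →
X' a section of g over U. Then there is a section of g over all of X extending s. -/
theorem result {X X' : Scheme.{u}} [IsIntegral X] (hX : Pi1.IsNormalScheme X)
    (g : X' ⟶ X) [IsIntegralHom g] (U : X.Opens) (hU : Dense (U : Set X)) (s : (U : Scheme.{u}) ⟶ X') (hs : s ≫ g = U.ι) :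
    ∃ s' : X ⟶ X', s' ≫ g = 𝟙 X ∧ U.ι ≫ s' = s := by
  have hne : (U : Set X).Nonempty := hU.nonempty
  have hgenU : genericPoint X ∈ U :=
    ((genericPoint_spec X).mem_open_set_iff U.isOpen).mpr (by simpa using hne)
  obtain ⟨ξ, hξ⟩ : ∃ t, t = X.fromSpecStalk (genericPoint X) := ⟨_, rfl⟩
  have hrange : Set.range ξ ⊆ Set.range U.ι := by
    rintro _ ⟨z, rfl⟩
    have h1 : ξ z ∈ Set.range ξ := ⟨z, rfl⟩
    rw [hξ, Scheme.range_fromSpecStalk] at h1
    have h2 := h1.mem_open U.2 hgenU
    rw [← hξ] at h2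
    rw [Scheme.Opens.range_ι]
    exact h2
  let ξU := IsOpenImmersion.lift U.ι ξ hrange
  have hξU : ξU ≫ U.ι = ξ := IsOpenImmersion.lift_fac _ _ _
  have hσ : (pullback.fst ξ (𝟙 X) ≫ ξU ≫ s) ≫ g = pullback.snd ξ (𝟙 X) := by
    rw [Category.assoc, Category.assoc, hs, hξU, pullback.condition, Category.comp_id]
  subst hξ
  obtain ⟨s', hs1, hs2⟩ := Groth.Agent.Lib.Helper1.NormGen.exists_section_of_generic hX (𝟙 X) g
    (pullback.fst _ (𝟙 X) ≫ ξU ≫ s) hσ
  refine ⟨s', hs1, ?_⟩
  haveI : IsSeparated g := inferInstance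
  haveI : IsDominant ξU := by
    constructor
    intro w
    have h1 : genericPoint X ⤳ U.ι w := genericPoint_specializes _
    have h2 : U.ι (ξU (IsLocalRing.closedPoint _)) = genericPoint X := by
      rw [← Scheme.Hom.comp_apply, hξU, Scheme.fromSpecStalk_closedPoint]
    rw [← h2] at h1
    have h3 := U.ι.isOpenEmbedding.isInducing.specializes_iff.1 h1
    exact closure_mono (Set.singleton_subset_iff.2 (Set.mem_range_self _)) (specializes_iff_mem_closure.1 h3)
  refine ext_of_isDominant_of_isSeparated g ?_ ξU ?_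
  · rw [Category.assoc, hs1, Category.comp_id, hs]
  · rw [reassoc_of% hξU]
    have h4 : pullback.lift (𝟙 _) (X.fromSpecStalk (genericPoint X))
        (by rw [Category.id_comp, Category.comp_id]) ≫ pullback.snd (X.fromSpecStalk (genericPoint X)) (𝟙 X) = X.fromSpecStalk (genericPoint X) := pullback.lift_snd _ _ _
    rw [← h4, Category.assoc, hs2, pullback.lift_fst_assoc, Category.id_comp]

end Groth.Agent.S2358
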