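import Groth.Statements.S2359
import Groth.Agent.Lib.Lead.QC.PullRel

set_option autoImplicit false
universe u
open CategoryTheory CategoryTheory.Limits AlgebraicGeometry
open EGA2

namespace Groth.Agent.S2359

/-- Let f : X → Y be quasi-compact, j : X' → X a quasi-compact morphism whose underlying map is a
homeomorphism onto a subspace of X, and L an O_X-module ample relative to f. Then j^* L is ample
relative to j ≫ f. -/
theorem result {X X' Y : Scheme.{u}} (f : X ⟶ Y) [QuasiCompact f] (j : X' ⟶ X) [QuasiCompact j]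
    (hj : Topology.IsEmbedding j.base) (L : X.Modules) (hL : RelAmple.IsRelAmple f L) :
    RelAmple.IsRelAmple (j ≫ f) ((Scheme.Modules.pullback j).obj L) := by
  apply LD.QC.isRelAmple_pullback_of_forall f j L
  intro V
  have hA := hL.2 V
  haveI : CompactSpace (f ⁻¹ᵁ V.1 : Scheme.{u}) := hA.2.1
  haveI : CompactSpace (j ⁻¹ᵁ (f ⁻¹ᵁ V.1) : Scheme.{u}) :=
    isCompact_iff_compactSpace.mp (QuasiCompact.isCompact_preimage (f := j) _ (f ⁻¹ᵁ V.1).2
      (isCompact_iff_compactSpace.mpr hA.2.1))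
  apply LD.QC.isAmple_pullback_of_affine_nhds (j ∣_ (f ⁻¹ᵁ V.1)) _ hA
  intro x''
  obtain ⟨W'', hW'', hxW'', -⟩ := exists_isAffineOpen_mem_and_subset (x := x'') (U := ⊤) trivial
  have hind : Topology.IsInducing (j ∣_ (f ⁻¹ᵁ V.1)) := by
    rw [morphismRestrict_base]
    exact Set.restrictPreimage_isInducing _ hj.isInducing
  obtain ⟨t, ht, htW⟩ := hind.isOpen_iff.mp W''.2
  refine ⟨⟨t, ht⟩, W'', ?_, hW'', ?_⟩
  · have : x'' ∈ (j ∣_ (f ⁻¹ᵁ V.1)) ⁻¹' t := by rw [htW]; exact hxW''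
    exact this
  · intro y hy
    have : y ∈ (j ∣_ (f ⁻¹ᵁ V.1)) ⁻¹' t := hy
    rw [htW] at this
    exact this

end Groth.Agent.S2359
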