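import Groth.Statements.S2470
import Groth.Agent.Lib.Helper2.EmbDim2
import Groth.Agent.Lib.Helper1.CMFlat
import Groth.Agent.S2082

set_option autoImplicit false
universe u
open EGA41

namespace Groth.Agent.S2470

open IsLocalRing in
/-- Let A → B be a local homomorphism of Noetherian local rings with maximal ideals 𝔪, 𝔫 and residue
fields k, k', and let B₀ = B/𝔪B be the closed fibre. The following are equivalent: (a) B is regular
and the canonical map (𝔪/𝔪²) ⊗_k k' → 𝔫/𝔫² is injective — stated here through dimensions, as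
rank_{k'} 𝔫/𝔫² = rank_k 𝔪/𝔪² + rank_{k'} of the cotangent space of B₀, which is equivalent since the
cokernel of that map is the cotangent space of B₀; (c) B and B₀ are regular and B is flat over A;
(d) A and B₀ are regular and B is flat over A; (e) A and B₀ are regular and dim B = dim A + dim B₀.
(Condition (b) of the source, on regular systems of parameters, is not stated.) -/
theorem result {A B : Type u} [CommRing A] [IsLocalRing A] [IsNoetherianRing A] [CommRing B] [IsLocalRing B] [IsNoetherianRing B]
    [Algebra A B] [IsLocalHom (algebraMap A B)] [IsLocalRing (B ⧸ (maximalIdeal A).map (algebraMap A B))] :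
    [IsRegularLocalRing B ∧
       Module.finrank (ResidueField B) (CotangentSpace B) =
         Module.finrank (ResidueField A) (CotangentSpace A) +
           Module.finrank (ResidueField (B ⧸ (maximalIdeal A).map (algebraMap A B))) (CotangentSpace (B ⧸ (maximalIdeal A).map (algebraMap A B))),
     IsRegularLocalRing B ∧ IsRegularLocalRing (B ⧸ (maximalIdeal A).map (algebraMap A B)) ∧ Module.Flat A B,
     IsRegularLocalRing A ∧ IsRegularLocalRing (B ⧸ (maximalIdeal A).map (algebraMap A B)) ∧ Module.Flat A B,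
     IsRegularLocalRing A ∧ IsRegularLocalRing (B ⧸ (maximalIdeal A).map (algebraMap A B)) ∧
       ringKrullDim B = ringKrullDim A + ringKrullDim (B ⧸ (maximalIdeal A).map (algebraMap A B))].TFAE := by
  have exnat : ∀ (x : WithBot ℕ∞) (n : ℕ), 0 ≤ x → x ≤ (n : WithBot ℕ∞) →
      ∃ a : ℕ, x = (a : WithBot ℕ∞) ∧ a ≤ n := by
    intro x n h0 h
    induction x using WithBot.recBotCoe with
    | bot => exact absurd h0 (by simp)
    | coe x =>
      induction x using ENat.recTopCoe with
      | top =>
        exfalso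
        have h1 : ((⊤ : ℕ∞) : WithBot ℕ∞) ≤ ((n : ℕ∞) : WithBot ℕ∞) := h
        rw [WithBot.coe_le_coe] at h1
        exact absurd h1 (by simp)
      | coe a =>
        refine ⟨a, rfl, ?_⟩
        have h1 : (((a : ℕ) : ℕ∞) : WithBot ℕ∞) ≤ ((n : ℕ∞) : WithBot ℕ∞) := h
        rw [WithBot.coe_le_coe] at h1
        exact_mod_cast h1
  have hμle : (maximalIdeal B).spanFinrank ≤ (maximalIdeal A).spanFinrank +
      (maximalIdeal (B ⧸ (maximalIdeal A).map (algebraMap A B))).spanFinrank := by
    have h1 := Groth.Agent.H1.RegFlat.spanFinrank_le_add ((maximalIdeal A).map (algebraMap A B))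
      (maximalIdeal B) (Groth.Agent.H1.FlatDim.map_maximalIdeal_le A B)
    rw [← Groth.Agent.H2.EmbDim.maximalIdeal_quotient] at h1
    have h2 : ((maximalIdeal A).map (algebraMap A B)).spanFinrank ≤ (maximalIdeal A).spanFinrank :=
      Ideal.spanFinrank_map_le_of_fg _ (IsNoetherian.noetherian _)
    omega
  obtain ⟨a, ha, haμ⟩ := exnat (ringKrullDim A) _ ringKrullDim_nonneg_of_nontrivial
    (ringKrullDim_le_spanFinrank_maximalIdeal A)
  obtain ⟨b, hb, hbμ⟩ := exnat (ringKrullDim B) _ ringKrullDim_nonneg_of_nontrivial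
    (ringKrullDim_le_spanFinrank_maximalIdeal B)
  obtain ⟨c, hc, hcμ⟩ := exnat (ringKrullDim (B ⧸ (maximalIdeal A).map (algebraMap A B))) _
    ringKrullDim_nonneg_of_nontrivial
    (ringKrullDim_le_spanFinrank_maximalIdeal (B ⧸ (maximalIdeal A).map (algebraMap A B)))
  have hdle : b ≤ a + c := by
    have h := Groth.Agent.H1.FlatDim.ringKrullDim_le_add_fiber A B
    rw [ha, hb, hc] at h
    exact_mod_cast h
  have regiff : ∀ (R : Type u) [CommRing R] [IsLocalRing R] [IsNoetherianRing R] (r : ℕ),
      ringKrullDim R = (r : WithBot ℕ∞) →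
      (IsRegularLocalRing R ↔ (maximalIdeal R).spanFinrank = r) := by
    intro R _ _ _ r hr
    rw [isRegularLocalRing_iff, hr]
    exact_mod_cast Iff.rfl
  rw [← IsLocalRing.spanFinrank_maximalIdeal_eq_finrank_cotangentSpace,
    ← IsLocalRing.spanFinrank_maximalIdeal_eq_finrank_cotangentSpace,
    ← IsLocalRing.spanFinrank_maximalIdeal_eq_finrank_cotangentSpace]
  rw [regiff A a ha, regiff B b hb, regiff _ c hc, ha, hb, hc]
  have hdimiff : ((b : ℕ) : WithBot ℕ∞) = (a : WithBot ℕ∞) + (c : WithBot ℕ∞) ↔ b = a + c := by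
    exact_mod_cast Iff.rfl
  rw [hdimiff]
  tfae_have 1 → 4 := by
    rintro ⟨h1, h2⟩
    refine ⟨by omega, by omega, by omega⟩
  tfae_have 4 → 3 := by
    rintro ⟨h1, h2, h3⟩
    refine ⟨h1, h2, ?_⟩
    haveI : IsRegularLocalRing A := (regiff A a ha).mpr h1
    haveI : IsRegularLocalRing B := (regiff B b hb).mpr (by omega)
    haveI : LocCoh.IsCohenMacaulayLocalRing B :=
      Groth.Agent.H1.CMFlat.isCohenMacaulayLocalRing_of_isRegularLocalRing B
    apply Groth.Agent.S2082.result
    rw [ha, hb, hc]
    exact_mod_cast h3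
  tfae_have 3 → 2 := by
    rintro ⟨h1, h2, h3⟩
    haveI : IsRegularLocalRing A := (regiff A a ha).mpr h1
    haveI : IsRegularLocalRing (B ⧸ (maximalIdeal A).map (algebraMap A B)) :=
      (regiff _ c hc).mpr h2
    haveI := h3
    have hB : IsRegularLocalRing B :=
      Groth.Agent.H1.RegFlat.isRegularLocalRing_of_flat_of_fiber A B
    exact ⟨(regiff B b hb).mp hB, h2, h3⟩
  tfae_have 2 → 1 := by
    rintro ⟨h1, h2, h3⟩
    refine ⟨h1, ?_⟩
    haveI : IsRegularLocalRing (B ⧸ (maximalIdeal A).map (algebraMap A B)) :=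
      (regiff _ c hc).mpr h2
    haveI := h3
    have := Groth.Agent.H2.EmbDim.main A B
    omega
  tfae_finish

end Groth.Agent.S2470
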