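import Groth.Statements.S2481
import Groth.Agent.Lib.Helper5.AL.AL3
import Groth.Agent.Lib.Helper5.CA.AdicFS

set_option autoImplicit false
universe u
open EGA41

namespace Groth.Agent.S2481

open IsLocalRing in
/-- Let A → B be a local homomorphism of Noetherian local rings with the adic topologies, K the residue
field of B. Then B is formally smooth over A if and only if: for every Artinian local ring C with a
local homomorphism A → C, every nilpotent ideal J of C and every local A-algebra homomorphism u : B
→ C/J inducing a bijection of residue fields (so that C has residue field K and u induces the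
identity on it), u is induced by a local A-algebra homomorphism B → C. -/
theorem result {A B : Type u} [CommRing A] [IsLocalRing A] [IsNoetherianRing A] [CommRing B] [IsLocalRing B] [IsNoetherianRing B]
    [Algebra A B] [IsLocalHom (algebraMap A B)] :
    EGA41.IsFormallySmoothAdic A (maximalIdeal A) B (maximalIdeal B) ↔
      ∀ (C : Type u) [CommRing C] [IsLocalRing C] [IsArtinianRing C] [Algebra A C] [IsLocalHom (algebraMap A C)]
        (J : Ideal C), IsNilpotent J → ∀ [IsLocalRing (C ⧸ J)] (u : B →ₐ[A] C ⧸ J) [IsLocalHom u.toRingHom],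
        Function.Bijective (ResidueField.map u.toRingHom) →
        ∃ f : B →ₐ[A] C, IsLocalHom f.toRingHom ∧ (Ideal.Quotient.mkₐ A J).comp f = u := by
  constructor
  · intro h C _ _ _ _ _ J hJ _ u _ _
    have h1 : ∃ k : ℕ, ((maximalIdeal A) ^ k).map (algebraMap A C) = ⊥ := by
      obtain ⟨k, hk⟩ := H5.AL.exists_pow_map_eq_zero (algebraMap A C)
      refine ⟨k, ?_⟩
      rw [eq_bot_iff, Ideal.map_le_iff_le_comap]
      intro x hx
      exact hk x hx
    obtain ⟨f, hf⟩ := h C J hJ h1 u (H5.AL.exists_pow_map_eq_zero u.toRingHom)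
    refine ⟨f, ?_, hf⟩
    have h2 : (Ideal.Quotient.mk J).comp f.toRingHom = u.toRingHom := by
      ext x
      exact AlgHom.congr_fun hf x
    haveI : IsLocalHom ((Ideal.Quotient.mk J).comp f.toRingHom) := by
      rw [h2]; infer_instance
    exact isLocalHom_of_comp f.toRingHom (Ideal.Quotient.mk J)
  · intro H
    apply Groth.Agent.H5.AdicFS.isFormallySmoothAdic_of_sqZeroLift
    have h9316 : CAlgX.IsAdicFormallySmooth A B (maximalIdeal B) := by
      rw [H5.AL.main9316]
      intro A' _ _ _ _ _ J hJ _ _ ψ _ hbij
      obtain ⟨f, _, hf⟩ := H A' J ⟨2, hJ⟩ ψ hbij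
      exact ⟨f, hf⟩
    intro C _ _ J hJ _ u hu
    exact h9316 C J hJ u hu

end Groth.Agent.S2481
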