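import Groth.Statements.S2483
import Groth.Agent.Lib.Helper5.CA.CoeffUniq

set_option autoImplicit false
universe u
open EGA41

namespace Groth.Agent.S2483

open IsLocalRing in
/-- Let C be a complete Noetherian local ring with maximal ideal 𝔍 ≠ 0 and residue field K, and u : K →
C a ring homomorphism which is a section of the residue map. Then u is the only such section if and
only if Ω_{K/ℤ} = 0. -/
theorem result {C : Type u} [CommRing C] [IsLocalRing C] [IsNoetherianRing C] [IsAdicComplete (maximalIdeal C) C]
    (hm : maximalIdeal C ≠ ⊥) (u : ResidueField C →+* C) (hu : ∀ x, residue C (u x) = x) :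
    (∀ v : ResidueField C →+* C, (∀ x, residue C (v x) = x) → v = u) ↔ Subsingleton (Ω[ResidueField C⁄ℤ]) := by
  constructor
  · intro huniq
    by_contra hns
    obtain ⟨v, hv, hne⟩ := Groth.Agent.H5.CoeffUniq.exists_other_section hm u hu hns
    exact hne (huniq v hv)
  · intro hsub v hv
    haveI : Algebra.FormallyUnramified ℤ (IsLocalRing.ResidueField C) := ⟨hsub⟩
    let v' : IsLocalRing.ResidueField C →ₐ[ℤ] C :=
      { v with commutes' := fun n => by simp }
    let u' : IsLocalRing.ResidueField C →ₐ[ℤ] C :=
      { u with commutes' := fun n => by simp }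
    have := Algebra.FormallyUnramified.ext_of_iInf (R := ℤ) (I := IsLocalRing.maximalIdeal C)
      (Ideal.iInf_pow_eq_bot_of_isLocalRing _ (IsLocalRing.maximalIdeal.isMaximal C).ne_top)
      (g₁ := v') (g₂ := u') (fun x => (hv x).trans (hu x).symm)
    ext x
    exact congrArg (fun f => f x) this


end Groth.Agent.S2483
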