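import Groth.Statements.S2573
import Groth.Agent.Lib.Helper1.LimFlat8

set_option autoImplicit false
universe u
open EGA43

namespace Groth.Agent.S2573


/-- Let A be a commutative ring whose spectrum is irreducible, with unique minimal prime p, let B be a
finitely presented A-algebra and M a finitely presented B-module. If the localization M_p is flat
over A_p, then there is t ∉ p such that M_t is a free A_t-module. -/
theorem result {A B : Type u} [CommRing A] [CommRing B] [Algebra A B]
    [Algebra.FinitePresentation A B] (p : Ideal A) [p.IsPrime] (hp : minimalPrimes A = {p})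
    (M : Type u) [AddCommGroup M] [Module B M] [Module A M] [IsScalarTower A B M] [Module.FinitePresentation B M]
    (hflat : Module.Flat (Localization.AtPrime p) (LocalizedModule p.primeCompl M)) :
    ∃ t : A, t ∉ p ∧ Module.Free (Localization.Away t) (LocalizedModule (Submonoid.powers t) M) := by
  classical
  obtain ⟨n, r, t, k, ⟨e⟩⟩ := Groth.Agent.H1.LimFlat.exists_model_of_fp (R := A) (S := B) (M := M)
  have hnil : p ≤ nilradical A := by
    have h1 : nilradical A = sInf (minimalPrimes A) := by
      rw [minimalPrimes, Ideal.sInf_minimalPrimes]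
      rfl
    rw [h1, hp]
    simp
  haveI : Module.Flat (Localization.AtPrime p)
      (Groth.Agent.H1.PolyModel.Mod r t
        (Groth.Agent.H1.PolyModel.kmap (Localization.AtPrime p) r t k)) :=
    Module.Flat.of_linearEquiv
      (Groth.Agent.H1.LimFlat.localizedEquivModel r t p.primeCompl k e).symm
  obtain ⟨t₀, ht₀, hfl⟩ := Groth.Agent.H1.LimFlat.exists_flat_away_of_flat_atPrime r t k p
  haveI := hfl
  obtain ⟨a, ha, hfree⟩ := Groth.Agent.H1.LimFlat.exists_free_away_of_flat_away r t k p hnil t₀ ht₀
  refine ⟨t₀ * a, ha, ?_⟩
  haveI := hfree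
  exact Module.Free.of_equiv
    (Groth.Agent.H1.LimFlat.localizedEquivModel r t (Submonoid.powers (t₀ * a)) k e).symm

end Groth.Agent.S2573
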