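import Groth.Statements.S2591
import Groth.Agent.Lib.Helper1.LimFlat7

set_option autoImplicit false
open TensorProduct
universe u
open EGA43

namespace Groth.Agent.S2591

/-- Let A be a commutative ring, B a finitely presented A-algebra and M a finitely presented B-module
which is flat over A. Then there are finitely many elements f₁, …, fₙ of A generating the unit ideal
such that, for each i < n, writing A' for the localization of A at f_{i+1} modulo the ideal
generated by f₁, …, fᵢ, the module A' ⊗_A M is free over A'. -/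
theorem result {A B : Type u} [CommRing A] [CommRing B] [Algebra A B]
    [Algebra.FinitePresentation A B] (M : Type u) [AddCommGroup M] [Module B M] [Module A M] [IsScalarTower A B M]
    [Module.FinitePresentation B M] [Module.Flat A M] :
    ∃ l : List A, Ideal.span {a | a ∈ l} = ⊤ ∧
      ∀ (i : ℕ) (hi : i < l.length),
        letI J : Ideal (Localization.Away l[i]) :=
          (Ideal.span {a | a ∈ l.take i}).map (algebraMap A (Localization.Away l[i]))
        Module.Free (Localization.Away l[i] ⧸ J) ((Localization.Away l[i] ⧸ J) ⊗[A] M) := by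
  classical
  obtain ⟨n, r, t, k, ⟨e⟩⟩ := Groth.Agent.H1.LimFlat.exists_model_of_fp (R := A) (S := B) (M := M)
  haveI : Module.Flat A (Groth.Agent.H1.PolyModel.Mod r t k) := Module.Flat.of_linearEquiv e
  obtain ⟨S₂, hS₂, k₂, hk₂, hflat₂⟩ := Groth.Agent.H1.LimFlat.exists_fg_flat_model r t k
  haveI := Groth.Agent.H1.LimFlat.isNoetherianRing_of_fg S₂ hS₂
  obtain ⟨l, hltop, hl⟩ := Groth.Agent.H1.LimFlat.exists_list_stratFree r t k₂ (⊥ : Ideal S₂)
  refine ⟨l.map (algebraMap S₂ A), ?_, ?_⟩
  · have h1 : Ideal.span {a | a ∈ l} = ⊤ := by rwa [bot_sup_eq] at hltop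
    have h2 : {a | a ∈ l.map (algebraMap S₂ A)} = (algebraMap S₂ A) '' {a | a ∈ l} := by
      ext; simp
    rw [h2, ← Ideal.map_span, h1, Ideal.map_top]
  · intro i hi
    have hi' : i < l.length := by simpa using hi
    have hsf := hl i hi'
    have hle : (⊥ ⊔ Ideal.span {a | a ∈ l.take i}).map (algebraMap S₂ A) ≤
        Ideal.span {a | a ∈ (l.map (algebraMap S₂ A)).take i} := by
      rw [bot_sup_eq, Ideal.map_span, ← List.map_take]
      apply Ideal.span_mono
      rintro _ ⟨a, ha, rfl⟩
      exact List.mem_map_of_mem ha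
    have h3 := Groth.Agent.H1.LimFlat.StratFree.of_ringHom r t (algebraMap S₂ A) k₂ k
      (fun u b => congrFun (congrFun hk₂ u) b) l[i] _ hsf ((l.map (algebraMap S₂ A))[i])
      (by simp) (Ideal.span {a | a ∈ (l.map (algebraMap S₂ A)).take i}) hle
    unfold Groth.Agent.H1.LimFlat.StratFree at h3
    haveI := h3
    exact Module.Free.of_equiv (Groth.Agent.H1.LimFlat.tensorEquivModel r t _ k e).symm

end Groth.Agent.S2591
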