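import Groth.Statements.S2594
import Mathlib
import Groth.Agent.Lib.Helper1.PullGen
import Groth.Agent.Lib.Helper1.EquidimLocC
import Groth.Agent.Lib.Helper1.EquidimLocB
import Groth.Agent.Lib.Helper1.FibDimBC
import Groth.Agent.Lib.Helper1.GenPts

set_option autoImplicit false
open CategoryTheory AlgebraicGeometry
universe u
open EGA43

namespace Groth.Agent.S2594

open CategoryTheory.Limits in
/-- Let f : X ⟶ Y be locally of finite type and equidimensional at a point x, and g : Y' ⟶ Y a flat
morphism with Y' locally Noetherian (the source states this for arbitrary Y', but its proof reduces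
to the case where every irreducible component passes through the point, which needs the irreducible
components to be locally finite). Then the base change X ×_Y Y' ⟶ Y' is equidimensional at every
point lying over x. -/
theorem result {X Y Y' : Scheme.{u}} (f : X ⟶ Y) [LocallyOfFiniteType f] (g : Y' ⟶ Y) [Flat g] [IsLocallyNoetherian Y']
    (x : X) (h : EGA43.IsEquidimAt f x) (x' : ↥(pullback f g)) (hx' : (pullback.fst f g).base x' = x) :
    EGA43.IsEquidimAt (pullback.snd f g) x' := by
  obtain ⟨e, U, hxU, hcomp, hfib⟩ := h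
  haveI : IsLocallyNoetherian (pullback f g) :=
    LocallyOfFiniteType.isLocallyNoetherian (pullback.snd f g)
  have hx'U : x' ∈ (pullback.fst f g) ⁻¹ᵁ U := by
    change (pullback.fst f g) x' ∈ U
    rw [show (pullback.fst f g) x' = x from hx']
    exact hxU
  obtain ⟨U₁, hU₁, hx'U₁, hU₁U⟩ : ∃ U₁ : (pullback f g).Opens, IsAffineOpen U₁ ∧ x' ∈ U₁ ∧
      U₁ ≤ (pullback.fst f g) ⁻¹ᵁ U := by
    obtain ⟨_, ⟨V, hV : IsAffineOpen V, rfl⟩, hzV, hle⟩ :=
      (pullback f g).isBasis_affineOpens.exists_subset_of_mem_open hx'U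
        ((pullback.fst f g) ⁻¹ᵁ U).2
    exact ⟨V, hV, hzV, hle⟩
  haveI : IsNoetherianRing Γ(pullback f g, U₁) :=
    IsLocallyNoetherian.component_noetherian ⟨U₁, hU₁⟩
  obtain ⟨U₀, hx'U₀, hU₀U₁, hgen⟩ :=
    Groth.Agent.H1.EquidimLoc.exists_open_forall_generic_specializes x' U₁ hU₁ hx'U₁
      (minimalPrimes.finite_of_isNoetherianRing Γ(pullback f g, U₁))
  have hcomp' : ∀ Z ∈ irreducibleComponents (↥U : Type u),
      ∃ W ∈ irreducibleComponents (Y : Type u), closure ((U.ι ≫ f).base '' Z) = W := by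
    intro Z hZ
    obtain ⟨W, hW, -, hWeq⟩ := hcomp Z hZ
    exact ⟨W, hW, hWeq⟩
  apply Groth.Agent.H1.EquidimLoc.isEquidimAt_of_generic (pullback.snd f g) x' U₀ hx'U₀ e
  · intro x₁ hx₁
    rw [Groth.Agent.H1.FibDimBC.fibreDimAt_eq_of_isPullback f g (pullback.fst f g)
      (pullback.snd f g) (IsPullback.of_hasPullback f g) x₁]
    exact Groth.Agent.H1.EquidimLoc.fibreDimAt_eq_of_forall_dim f U e hfib _
      (hU₁U (hU₀U₁ hx₁))
  · intro ξ' hξ'U₀ hξ'max
    have hsp : ξ' ⤳ x' := hgen ξ' hξ'U₀ hξ'max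
    refine ⟨?_, (hsp.map (pullback.snd f g).continuous).mem_closure⟩
    apply Groth.Agent.H1.GenPts.closure_singleton_mem_irreducibleComponents
    intro z' hz'
    -- `pr₁ ξ'` is a maximal point of `X` inside `U`
    have hξmax : ∀ z : X, z ⤳ (pullback.fst f g) ξ' → z = (pullback.fst f g) ξ' := by
      intro z hz
      obtain ⟨w, hw1, hw2⟩ := Flat.generalizingMap (pullback.fst f g) hz
      rw [← hw2, hξ'max w hw1]
    have hξU : (pullback.fst f g) ξ' ∈ U := hU₁U (hU₀U₁ hξ'U₀)
    have hηmax := Groth.Agent.H1.EquidimLoc.closure_image_mem_irreducibleComponents f U hcomp'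
      _ hξU hξmax
    have hsq : f ((pullback.fst f g) ξ') = g ((pullback.snd f g) ξ') := by
      have := congrArg (fun φ : pullback f g ⟶ Y => φ ξ') (pullback.condition (f := f) (g := g))
      exact this
    have hgz : g z' = g ((pullback.snd f g) ξ') := by
      rw [← hsq]
      apply Groth.Agent.H1.EquidimLoc.eq_of_specializes_of_closure_mem_irreducibleComponents _ hηmax
      rw [hsq]
      exact hz'.map g.continuous
    obtain ⟨w, hw1, hw2, -⟩ :=
      Groth.Agent.H1.PullGen.exists_generization_pullback f g ξ' z' hz' hgz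
    rw [← hw2, hξ'max w hw1]

end Groth.Agent.S2594
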