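import Groth.Statements.S9249
import Groth.Agent.Lib.Helper1.ComplDepth
import Groth.Agent.S0543

set_option autoImplicit false
universe u
open CAlg

namespace Groth.Agent.S9249


/-- A Noetherian local ring is Cohen-Macaulay if and only if its completion is. -/
theorem result (A : Type u) [CommRing A] [IsLocalRing A]
    [IsNoetherianRing A] :
    LocCoh.IsCohenMacaulayLocalRing A ↔
      LocCoh.IsCohenMacaulayLocalRing (AdicCompletion (IsLocalRing.maximalIdeal A) A) := by
  haveI : IsLocalRing (AdicCompletion (IsLocalRing.maximalIdeal A) A) :=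
    Groth.Agent.H1.ComplDepth.isLocalRing_adicCompletion A _
      (Ideal.IsPrime.ne_top inferInstance)
  haveI : IsNoetherianRing (AdicCompletion (IsLocalRing.maximalIdeal A) A) :=
    Groth.Agent.S0543.result A _
  haveI : IsLocalHom (algebraMap A (AdicCompletion (IsLocalRing.maximalIdeal A) A)) :=
    Groth.Agent.H1.ComplDepth.isLocalHom_adicCompletion A _
  exact Groth.Agent.H1.ComplDepth.isCohenMacaulayLocalRing_iff_of_fiber_dim_zero A _
    (Groth.Agent.H1.ComplDepth.ringKrullDim_fiber_eq_zero A _)

end Groth.Agent.S9249
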