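import Groth.Statements.S9438
import Groth.Agent.Lib.Helper1.FlatMinimal
import Groth.Agent.Lib.Helper1.RegFlat
import Groth.Agent.Lib.Helper1.RegLoc

set_option autoImplicit false
universe u
open CAlg

namespace Groth.Agent.S9438


/-- The condition (R_k) descends along faithfully flat ring maps: if S is faithfully flat over R,
Noetherian and (R_k), then R is Noetherian and (R_k). -/
theorem result (k : ℕ) (R : Type u) [CommRing R] (S : Type u) [CommRing S]
    [Algebra R S] [Module.FaithfullyFlat R S] [IsNoetherianRing S] (hS : LocCoh.HasRk k S) :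
    IsNoetherianRing R ∧ LocCoh.HasRk k R := by
  haveI hR : IsNoetherianRing R := Groth.Agent.H1.RegFlat.isNoetherianRing_of_faithfullyFlat R S
  refine ⟨hR, ?_⟩
  intro p _ hp
  obtain ⟨q, hq, hover, -, hht⟩ := Groth.Agent.H1.FlatMinimal.exists_liesOver_minimal R S p
  haveI := hq
  haveI := hover
  haveI : IsRegularLocalRing (Localization.AtPrime q) := hS q (hht ▸ hp)
  letI := Localization.AtPrime.algebraOfLiesOver p q
  haveI : IsLocalHom (algebraMap (Localization.AtPrime p) (Localization.AtPrime q)) := by
    rw [RingHom.algebraMap_toAlgebra]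
    exact Localization.isLocalHom_localRingHom p q (algebraMap R S) Ideal.LiesOver.over
  exact Groth.Agent.H1.Reg.isRegularLocalRing_of_flat (Localization.AtPrime p)
    (Localization.AtPrime q)

end Groth.Agent.S9438
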