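import Groth.Statements.S2916
import Mathlib
import Groth.Agent.Lib.Helper1.EtSections3
import Groth.Agent.Lib.Helper1.Subtr8

set_option autoImplicit false
open CategoryTheory CategoryTheory.Limits AlgebraicGeometry Opposite
universe u
open SGA1

namespace Groth.Agent.S2916

namespace Aux

theorem surjective_specMap_field {K L : Type u} [Field K] [Field L] (φ : K →+* L) :
    Surjective (Spec.map (CommRingCat.ofHom φ)) :=
  ⟨fun x => ⟨IsLocalRing.closedPoint L, Subsingleton.elim (α := PrimeSpectrum K) _ _⟩⟩

/-- fibres of a morphism with connected geometric fibres are connected -/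
theorem isConnected_fibre {S' S : Scheme.{u}} (g : S' ⟶ S)
    (hconn : ∀ (K : Type u) [Field K] [IsAlgClosed K] (ξ : Spec (CommRingCat.of K) ⟶ S),
      ConnectedSpace ↑(pullback g ξ)) (s : S) : _root_.IsConnected (g ⁻¹' {s}) := by
  let K := AlgebraicClosure (S.residueField s)
  let ξ : Spec (CommRingCat.of K) ⟶ S :=
    Spec.map (CommRingCat.ofHom (algebraMap (S.residueField s) K)) ≫ S.fromSpecResidueField s
  haveI := hconn K ξ
  have hr : Set.range ξ = {s} := by
    ext y
    constructor
    · rintro ⟨x, rfl⟩
      change (Spec.map _ ≫ S.fromSpecResidueField s) x = s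
      rw [Scheme.Hom.comp_apply, Scheme.fromSpecResidueField_apply]
    · rintro rfl
      refine ⟨IsLocalRing.closedPoint K, ?_⟩
      change (Spec.map _ ≫ S.fromSpecResidueField y) _ = y
      rw [Scheme.Hom.comp_apply, Scheme.fromSpecResidueField_apply]
  have h1 : Set.range (pullback.fst g ξ) = g ⁻¹' {s} := by
    rw [Scheme.Pullback.range_fst, hr]
  rw [← h1]
  exact isConnected_range (pullback.fst g ξ).continuous

end Aux

/-- Let g : S' ⟶ S be universally submersive with geometrically connected fibres (the base change of S'
to any algebraically closed field valued point of S is connected). Then S' is connected whenever S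
is, and for schemes X, Y etale over S every S'-morphism between their base changes comes from
exactly one S-morphism X ⟶ Y. -/
theorem result {S' S : Scheme.{u}} (g : S' ⟶ S)
    (hg : SGA1.UnivSubmersive g)
    (hconn : ∀ (K : Type u) [Field K] [IsAlgClosed K] (ξ : Spec (CommRingCat.of K) ⟶ S), ConnectedSpace ↑(pullback g ξ)) :
    (ConnectedSpace S → ConnectedSpace S') ∧
    ∀ (X Y : Over S) [Etale X.hom] [Etale Y.hom], Function.Bijective ((Over.pullback g).map : (X ⟶ Y) → _) := by
  have hgq : Topology.IsQuotientMap g := hg (𝟙 _) (𝟙 _) g IsPullback.of_id_snd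
  constructor
  · intro hS
    have h := hgq.isCoinducing.isConnected_preimage_of_isClosed (Aux.isConnected_fibre g hconn)
      isClosed_univ isConnected_univ
    rw [Set.preimage_univ] at h
    exact connectedSpace_iff_univ.mpr h
  · intro X Y _ _
    let gL : pullback X.hom g ⟶ X.left := pullback.fst X.hom g
    have hgL : SGA1.UnivSubmersive gL :=
      Groth.Agent.Lib.Helper1.Subtr8.univSubmersive_of_isPullback hg (IsPullback.of_hasPullback X.hom g)
    have hgLq : Topology.IsQuotientMap gL := hgL (𝟙 _) (𝟙 _) gL IsPullback.of_id_snd
    haveI : Surjective gL := ⟨hgLq.surjective⟩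
    constructor
    · intro a b hab
      have h1 : ((Over.pullback g).map a).left = ((Over.pullback g).map b).left := by rw [hab]
      have h3 := congrArg (· ≫ pullback.fst Y.hom g) h1
      simp only [Over.pullback_map_left, pullback.lift_fst] at h3
      apply Over.OverMorphism.ext
      exact Groth.Agent.H1.EtSections.eq_of_comp_eq_of_surjective Y.hom gL a.left b.left
        ((Over.w a).trans (Over.w b).symm) h3
    · intro F
      obtain ⟨Fl, hFl⟩ : ∃ Fl : pullback X.hom g ⟶ pullback Y.hom g, Fl = F.left := ⟨_, rfl⟩
      have hF : Fl ≫ pullback.snd Y.hom g = pullback.snd X.hom g := by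
        rw [hFl]; exact Over.w F
      let π : pullback X.hom Y.hom ⟶ X.left := pullback.fst X.hom Y.hom
      haveI : Etale π := inferInstance
      have hq : Topology.IsQuotientMap (pullback.fst π gL) :=
        hgL (pullback.snd π gL) π (pullback.fst π gL) (IsPullback.of_hasPullback π gL)
      let σ₀ : pullback X.hom g ⟶ Y.left := Fl ≫ pullback.fst Y.hom g
      have hσ₀ : gL ≫ X.hom = σ₀ ≫ Y.hom := by
        calc pullback.fst X.hom g ≫ X.hom = pullback.snd X.hom g ≫ g := pullback.condition
          _ = (Fl ≫ pullback.snd Y.hom g) ≫ g := by rw [hF]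
          _ = Fl ≫ pullback.fst Y.hom g ≫ Y.hom := by rw [Category.assoc, pullback.condition]
          _ = (Fl ≫ pullback.fst Y.hom g) ≫ Y.hom := by rw [Category.assoc]
      let σ : pullback X.hom g ⟶ pullback X.hom Y.hom := pullback.lift gL σ₀ hσ₀
      have hσ : σ ≫ π = gL := pullback.lift_fst _ _ _
      have hσ2 : σ ≫ pullback.snd X.hom Y.hom = σ₀ := pullback.lift_snd _ _ _
      -- constancy on fibres, algebraically closed case
      have hconstAC : ∀ (K : Type u) [Field K] [IsAlgClosed K]
          (a b : Spec (CommRingCat.of K) ⟶ pullback X.hom g), a ≫ gL = b ≫ gL → a ≫ σ = b ≫ σ := by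
        intro K _ _ a b hab
        let x : Spec (CommRingCat.of K) ⟶ X.left := a ≫ gL
        let ξ : Spec (CommRingCat.of K) ⟶ S := x ≫ X.hom
        haveI := hconn K ξ
        have ha2 : (a ≫ pullback.snd X.hom g) ≫ g = 𝟙 _ ≫ ξ := by
          rw [Category.id_comp, Category.assoc, ← pullback.condition, ← Category.assoc]
        have hb2 : (b ≫ pullback.snd X.hom g) ≫ g = 𝟙 _ ≫ ξ := by
          rw [Category.id_comp, Category.assoc, ← pullback.condition, ← Category.assoc]
          change (b ≫ gL) ≫ X.hom = (a ≫ gL) ≫ X.hom
          rw [hab]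
        let aT : Spec (CommRingCat.of K) ⟶ pullback g ξ :=
          pullback.lift (a ≫ pullback.snd X.hom g) (𝟙 _) ha2
        let bT : Spec (CommRingCat.of K) ⟶ pullback g ξ :=
          pullback.lift (b ≫ pullback.snd X.hom g) (𝟙 _) hb2
        let ρ : pullback g ξ ⟶ pullback X.hom g :=
          pullback.lift (pullback.snd g ξ ≫ x) (pullback.fst g ξ) (by
            rw [Category.assoc, pullback.condition])
        have hatρ : aT ≫ ρ = a := by
          apply pullback.hom_ext
          · rw [Category.assoc, pullback.lift_fst, ← Category.assoc, pullback.lift_snd,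
              Category.id_comp]
          · rw [Category.assoc, pullback.lift_snd, pullback.lift_fst]
        have hbtρ : bT ≫ ρ = b := by
          apply pullback.hom_ext
          · rw [Category.assoc, pullback.lift_fst, ← Category.assoc, pullback.lift_snd,
              Category.id_comp]
            exact hab
          · rw [Category.assoc, pullback.lift_snd, pullback.lift_fst]
        -- the fibre of π over x
        let e : pullback π x ⟶ Spec (CommRingCat.of K) := pullback.snd π x
        haveI : Etale e := inferInstance
        have hρσ : (ρ ≫ σ) ≫ π = pullback.snd g ξ ≫ x := by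
          rw [Category.assoc, hσ]
          exact pullback.lift_fst _ _ _
        let τ : pullback g ξ ⟶ pullback π x := pullback.lift (ρ ≫ σ) (pullback.snd g ξ) hρσ
        have hτe : τ ≫ e = pullback.snd g ξ := pullback.lift_snd _ _ _
        have hτ1 : τ ≫ pullback.fst π x = ρ ≫ σ := pullback.lift_fst _ _ _
        have key := Groth.Agent.H1.EtSections.comp_eq_comp_of_connectedSpace e τ aT bT
          (by rw [hτe]; exact pullback.lift_snd _ _ _) (by rw [hτe]; exact pullback.lift_snd _ _ _)
        have key2 := congrArg (· ≫ pullback.fst π x) key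
        simp only [Category.assoc] at key2
        rw [hτ1, ← Category.assoc, ← Category.assoc, hatρ, hbtρ] at key2
        exact key2
      have hconst : ∀ (K : Type u) [Field K]
          (a b : Spec (CommRingCat.of K) ⟶ pullback X.hom g), a ≫ gL = b ≫ gL → a ≫ σ = b ≫ σ := by
        intro K _ a b hab
        let c : Spec (CommRingCat.of (AlgebraicClosure K)) ⟶ Spec (CommRingCat.of K) :=
          Spec.map (CommRingCat.ofHom (algebraMap K (AlgebraicClosure K)))
        haveI : Surjective c := Aux.surjective_specMap_field _
        have h1 : (c ≫ a) ≫ σ = (c ≫ b) ≫ σ :=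
          hconstAC (AlgebraicClosure K) (c ≫ a) (c ≫ b) (by
            rw [Category.assoc, Category.assoc, hab])
        refine Groth.Agent.H1.EtSections.eq_of_comp_eq_of_surjective π c (a ≫ σ) (b ≫ σ) ?_ ?_
        · rw [Category.assoc, Category.assoc, hσ, hab]
        · rw [← Category.assoc, ← Category.assoc]
          exact h1
      obtain ⟨s, hs1, hs2⟩ := Groth.Agent.H1.EtSections.exists_section_of_constant_on_fibres π gL hq
        σ hσ hconst
      let h : X.left ⟶ Y.left := s ≫ pullback.snd X.hom Y.hom
      have hh : h ≫ Y.hom = X.hom := by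
        change (s ≫ pullback.snd X.hom Y.hom) ≫ Y.hom = X.hom
        rw [Category.assoc, ← pullback.condition, ← Category.assoc]
        change (s ≫ π) ≫ X.hom = X.hom
        rw [hs1, Category.id_comp]
      refine ⟨Over.homMk h hh, ?_⟩
      apply Over.OverMorphism.ext
      rw [← hFl]
      change pullback.lift (pullback.fst X.hom g ≫ h) (pullback.snd X.hom g) _ = Fl
      apply pullback.hom_ext
      · rw [pullback.lift_fst]
        change gL ≫ s ≫ pullback.snd X.hom Y.hom = σ₀
        rw [← Category.assoc, hs2, hσ2]
      · rw [pullback.lift_snd, hF]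

end Groth.Agent.S2916
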