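import Groth.Statements.S2933
import Groth.Agent.S4721

set_option autoImplicit false
universe u
open LocCoh

namespace Groth.Agent.S2933

/-- Let A be a Noetherian ring with connected spectrum and d ≥ 1 an integer such that every prime p with
dim A_p ≥ d has depth A_p ≥ 2. Then for any two minimal primes p', p'' of A there is a finite
sequence of minimal primes starting at p' and ending at p'' such that any two consecutive members
are both contained in some prime of height at most d − 1 (Spec A is connected in codimension d − 1). -/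
theorem result (A : Type u) [CommRing A] [IsNoetherianRing A] [ConnectedSpace (PrimeSpectrum A)] (d : ℕ) (hd : 1 ≤ d) (h : ∀ p : PrimeSpectrum A, (d : ℕ∞) ≤ p.asIdeal.height → (2 : ℕ∞) ≤ LocCoh.depth (Localization.AtPrime p.asIdeal) (Localization.AtPrime p.asIdeal)) (p' p'' : PrimeSpectrum A) (hp' : p'.asIdeal ∈ minimalPrimes A) (hp'' : p''.asIdeal ∈ minimalPrimes A) : ∃ l : List (PrimeSpectrum A), l.head? = some p' ∧ l.getLast? = some p'' ∧ (∀ p ∈ l, p.asIdeal ∈ minimalPrimes A) ∧ List.IsChain (fun p q => ∃ r : PrimeSpectrum A, p ≤ r ∧ q ≤ r ∧ r.asIdeal.height ≤ (d - 1 : ℕ)) l := by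
  by_cases heq : p' = p''
  · subst heq
    refine ⟨[p'], rfl, rfl, ?_, List.isChain_singleton _⟩
    intro p hp
    rw [List.mem_singleton] at hp
    rw [hp]
    exact hp'
  have hne : p'.asIdeal ≠ p''.asIdeal := fun h' => heq (PrimeSpectrum.ext h')
  obtain ⟨n, c, h0, hl, hmin, hlink⟩ := Groth.Agent.S4721.result A d
    (fun p _ hpd => h ⟨p, inferInstance⟩ hpd) p'.asIdeal p''.asIdeal hp' hp'' hne
  let f : Fin (n + 1) → PrimeSpectrum A := fun i => ⟨c i, (hmin i).1.1⟩
  refine ⟨List.ofFn f, ?_, ?_, ?_, ?_⟩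
  · rw [List.ofFn_succ, List.head?_cons]
    exact congrArg some (PrimeSpectrum.ext h0)
  · rw [List.getLast?_eq_getElem?, List.length_ofFn, List.getElem?_ofFn]
    simp only [add_tsub_cancel_right, lt_add_iff_pos_right, zero_lt_one, ↓reduceDIte]
    exact congrArg some (PrimeSpectrum.ext hl)
  · intro p hp
    rw [List.mem_ofFn] at hp
    obtain ⟨i, rfl⟩ := hp
    exact hmin i
  · rw [List.isChain_ofFn]
    intro i hi
    have hi' : i < n := by omega
    obtain ⟨q, hq, h1, h2, h3⟩ := hlink ⟨i, hi'⟩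
    refine ⟨⟨q, hq⟩, h1, h2, ?_⟩
    change q.height ≤ ((d - 1 : ℕ) : ℕ∞)
    have hd' : ((d - 1 : ℕ) : ℕ∞) + 1 = (d : ℕ∞) := by
      have : d - 1 + 1 = d := by omega
      exact_mod_cast this
    rw [← hd'] at h3
    exact (ENat.add_le_add_iff_right ENat.one_ne_top).mp h3

end Groth.Agent.S2933
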