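import Groth.Statements.S2955
-- import your own Groth.Agent.* helpers here

set_option autoImplicit false
open RootPairing
open scoped Pointwise Classical
universe u
open RootD

namespace Groth.Agent.S2955

/-- Let P be a finite crystallographic reduced root pairing over a domain of characteristic zero, with a
base b, and write 2ρ for the sum of the positive roots with respect to b. Then for every simple root
β (an index in the support of b) the reflection in β sends 2ρ to 2ρ − 2β (equivalently, the coroot
of β pairs to 1 with ρ; only the reflection identity is asserted). -/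
theorem result {ι R M N : Type*} [CommRing R] [CharZero R] [IsDomain R] [AddCommGroup M] [Module R M]
    [AddCommGroup N] [Module R N] (P : RootPairing ι R M N) [Finite ι] [P.IsCrystallographic] [P.IsReduced]
    [Fintype ι] (b : P.Base) (j : ι) (hj : j ∈ b.support) :
    P.reflection j (∑ i, if b.IsPos i then P.root i else 0) =
      (∑ i, if b.IsPos i then P.root i else 0) - (2 : R) • P.root j := by
  set σ := P.reflectionPerm j with hσ
  have hσσ : ∀ k, σ (σ k) = k := fun k => P.reflectionPerm_self j k
  have hposj : b.IsPos j := RootPairing.Base.isPos_of_mem_support hj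
  have hnegj : ¬ b.IsPos (σ j) := by
    have := (RootPairing.Base.IsPos.neg_iff_not b j)
    simp only [RootPairing.indexNeg_neg] at this
    exact fun h => (this.mp h) hposj
  have hrootσj : P.root (σ j) = - P.root j := by
    rw [hσ, P.root_reflectionPerm, P.reflection_apply_self]
  have hne : j ≠ σ j := fun h => hnegj (h ▸ hposj)
  have hiff : ∀ k, k ≠ j → k ≠ σ j → (b.IsPos (σ k) ↔ b.IsPos k) := by
    intro k hk1 hk2
    constructor
    · intro h
      have := h.reflectionPerm hj (fun h' => hk2 (by rw [← h', hσσ]))
      rwa [← hσ, hσσ] at this
    · intro h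
      exact h.reflectionPerm hj hk1
  -- step 1
  have h1 : P.reflection j (∑ i, if b.IsPos i then P.root i else 0) =
      ∑ k, if b.IsPos (σ k) then P.root k else 0 := by
    rw [map_sum]
    rw [← Equiv.sum_comp σ]
    refine Finset.sum_congr rfl fun k _ => ?_
    split_ifs with h
    · rw [← P.root_reflectionPerm, ← hσ, hσσ]
    · rw [map_zero]
  have hdiff : (∑ k, if b.IsPos (σ k) then P.root k else 0) -
      (∑ i, if b.IsPos i then P.root i else 0) = -((2 : R) • P.root j) := by
    rw [← Finset.sum_sub_distrib, Fintype.sum_eq_add j (σ j) hne]
    · rw [if_pos hposj, if_neg hnegj, hσσ, if_pos hposj, if_neg hnegj, hrootσj, two_smul]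
      abel
    · rintro k ⟨hk1, hk2⟩
      by_cases h : b.IsPos k
      · rw [if_pos h, if_pos ((hiff k hk1 hk2).mpr h), sub_self]
      · rw [if_neg h, if_neg (fun h' => h ((hiff k hk1 hk2).mp h')), sub_self]
  rw [h1, sub_eq_iff_eq_add.mp hdiff]
  abel

end Groth.Agent.S2955
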