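import Groth.Statements.S2965
-- import your own Groth.Agent.* helpers here

set_option autoImplicit false
universe u
open SGA3t2b

namespace Groth.Agent.S2965

open Polynomial in
/-- Implication (iv) ⇒ (i) (global form, finite free module): let u be an endomorphism of a finite free
module M over a commutative ring A whose characteristic polynomial is X^r · Q with Q(0) invertible.
Then M is the direct sum of two u-stable submodules M', M'' such that u is nilpotent on M' and
bijective on M''. -/
theorem result {A : Type u} [CommRing A] {M : Type u} [AddCommGroup M] [Module A M]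
    [Module.Free A M] [Module.Finite A M] (u : M →ₗ[A] M) (r : ℕ) (Q : A[X]) (hQ : IsUnit (Q.coeff 0))
    (h : u.charpoly = X ^ r * Q) :
    ∃ M' M'' : Submodule A M, IsCompl M' M'' ∧ (∀ x ∈ M', u x ∈ M') ∧ (∀ x ∈ M'', u x ∈ M'') ∧
      (∃ n : ℕ, ∀ x ∈ M', (u ^ n) x = 0) ∧ Set.BijOn u M'' M'' := by
  obtain ⟨c, hc⟩ := hQ
  set Q₁ := Q.divX with hQ₁
  have hQdecomp : Q₁ * X + C (c : A) = Q := by rw [hc]; exact Polynomial.divX_mul_X_add Q
  have hcop1 : IsCoprime (X : A[X]) Q := by
    refine ⟨-(C (↑c⁻¹ : A)) * Q₁, C (↑c⁻¹ : A), ?_⟩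
    rw [← hQdecomp]
    have : (C (↑c⁻¹ : A)) * C (c : A) = 1 := by rw [← C_mul]; simp
    linear_combination this
  have hcop : IsCoprime (X ^ r : A[X]) Q := hcop1.pow_left
  -- commutation
  have hcomm : ∀ (p : A[X]) (x : M), aeval u p (u x) = u (aeval u p x) := by
    intro p x
    have h1 : aeval u (p * X) = aeval u (X * p) := by rw [mul_comm]
    rw [map_mul, map_mul, aeval_X] at h1
    exact LinearMap.congr_fun h1 x
  have hstab : ∀ (p : A[X]) (x : M), x ∈ LinearMap.ker (aeval u p) → u x ∈ LinearMap.ker (aeval u p) := by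
    intro p x hx
    rw [LinearMap.mem_ker] at hx ⊢
    rw [hcomm, hx, map_zero]
  have hQx : ∀ x : M, aeval u Q x = u (aeval u Q₁ x) + (c : A) • x := by
    intro x
    rw [← hQdecomp, map_add, map_mul, aeval_X, aeval_C]
    simp [Module.End.mul_apply, ← hcomm]
  refine ⟨LinearMap.ker (aeval u (X ^ r)), LinearMap.ker (aeval u Q), ⟨?_, ?_⟩, hstab _, hstab _,
    ⟨r, ?_⟩, ?_, ?_, ?_⟩
  · exact disjoint_ker_aeval_of_isCoprime u hcop
  · rw [codisjoint_iff, sup_ker_aeval_eq_ker_aeval_mul_of_coprime u hcop, ← h,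
      LinearMap.aeval_self_charpoly, LinearMap.ker_zero]
  · intro x hx
    rw [LinearMap.mem_ker, map_pow, aeval_X] at hx
    exact hx
  · intro x hx
    exact hstab _ x hx
  · intro x hx y hy hxy
    have hz : x - y ∈ LinearMap.ker (aeval u Q) := Submodule.sub_mem _ hx hy
    have huz : u (x - y) = 0 := by rw [map_sub, hxy, sub_self]
    have := hQx (x - y)
    rw [LinearMap.mem_ker.mp hz, ← hcomm, huz, map_zero, zero_add] at this
    have h0 : x - y = 0 := by
      have := congrArg (fun t => (↑c⁻¹ : A) • t) this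
      simpa [smul_smul] using this.symm
    exact sub_eq_zero.mp h0
  · intro y hy
    have hy' := LinearMap.mem_ker.mp hy
    refine ⟨-((↑c⁻¹ : A) • aeval u Q₁ y), ?_, ?_⟩
    · refine Submodule.neg_mem _ (Submodule.smul_mem _ _ ?_)
      rw [LinearMap.mem_ker]
      have h1 : aeval u (Q * Q₁) = aeval u (Q₁ * Q) := by rw [mul_comm]
      rw [map_mul, map_mul] at h1
      have := LinearMap.congr_fun h1 y
      simp only [Module.End.mul_apply] at this
      rw [this, hy', map_zero]
    · have := hQx y
      rw [hy'] at this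
      have h2 : u (aeval u Q₁ y) = -((c : A) • y) := by
        rw [eq_neg_iff_add_eq_zero]; exact this.symm
      rw [map_neg, map_smul, h2, smul_neg, neg_neg, smul_smul]
      simp

end Groth.Agent.S2965
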