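import Groth.Statements.S2967
-- import your own Groth.Agent.* helpers here

set_option autoImplicit false
universe u
open SGA3t2b

namespace Groth.Agent.S2967

/-- A commutative p-Lie algebra over a field k of characteristic p is recorded as a k-vector space g
together with its p-th power map φ, which is additive and Frobenius-semilinear. Let g be
finite-dimensional and non-zero, and assume every element of g is killed by some iterate of φ (g is
unipotent). Then the k-subspace of g spanned by the image φ(g) is a proper subspace. -/
theorem result {k : Type u} [Field k] (p : ℕ) [Fact p.Prime] [CharP k p]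
    {V : Type u} [AddCommGroup V] [Module k V] [FiniteDimensional k V] [Nontrivial V]
    (φ : V →ₛₗ[frobenius k p] V) (hφ : ∀ x : V, ∃ n : ℕ, φ^[n] x = 0) :
    Submodule.span k (Set.range φ) ≠ ⊤ := by
  intro htop
  have hsmul : ∀ (m : ℕ) (c : k) (a : V), ∃ c' : k, φ^[m] (c • a) = c' • φ^[m] a := by
    intro m
    induction m with
    | zero => intro c a; exact ⟨c, rfl⟩
    | succ m ih =>
      intro c a
      obtain ⟨c', hc'⟩ := ih (frobenius k p c) (φ a)
      refine ⟨c', ?_⟩
      rw [Function.iterate_succ_apply, Function.iterate_succ_apply, map_smulₛₗ, hc']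
  -- Claim A
  have hA : ∀ n : ℕ, Submodule.span k (Set.range φ^[n]) = ⊤ := by
    intro n
    induction n with
    | zero => simp
    | succ n ih =>
      rw [eq_top_iff, ← htop]
      refine Submodule.span_le.mpr ?_
      rintro _ ⟨v, rfl⟩
      have hv : v ∈ Submodule.span k (Set.range φ^[n]) := by rw [ih]; exact Submodule.mem_top
      refine Submodule.span_induction
        (p := fun v _ => φ v ∈ Submodule.span k (Set.range φ^[n + 1])) ?_ ?_ ?_ ?_ hv
      · rintro _ ⟨x, rfl⟩
        refine Submodule.subset_span ⟨x, ?_⟩
        rw [Function.iterate_succ_apply']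
      · simp
      · intro a b _ _ ha hb
        rw [map_add]
        exact Submodule.add_mem _ ha hb
      · intro c a _ ha
        rw [map_smulₛₗ]
        exact Submodule.smul_mem _ _ ha
  -- Claim B
  have hB : ∃ N : ℕ, ∀ x : V, φ^[N] x = 0 := by
    let b := Module.finBasis k V
    choose n hn using fun i => hφ (b i)
    refine ⟨Finset.univ.sup n, fun x => ?_⟩
    have hb : ∀ i, φ^[Finset.univ.sup n] (b i) = 0 := by
      intro i
      have hle : n i ≤ Finset.univ.sup n := Finset.le_sup (Finset.mem_univ i)
      obtain ⟨d, hd⟩ := Nat.exists_eq_add_of_le hle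
      rw [hd, add_comm, Function.iterate_add_apply, hn i, iterate_map_zero]
    have hx : x ∈ Submodule.span k (Set.range b) := by rw [b.span_eq]; exact Submodule.mem_top
    refine Submodule.span_induction (p := fun x _ => φ^[Finset.univ.sup n] x = 0) ?_ ?_ ?_ ?_ hx
    · rintro _ ⟨i, rfl⟩; exact hb i
    · exact iterate_map_zero φ _
    · intro a b' _ _ ha hb'
      rw [iterate_map_add, ha, hb', add_zero]
    · intro c a _ ha
      obtain ⟨c', hc'⟩ := hsmul (Finset.univ.sup n) c a
      rw [hc', ha, smul_zero]
  obtain ⟨N, hN⟩ := hB
  have h0 : Set.range φ^[N] = {0} := by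
    ext y
    constructor
    · rintro ⟨x, rfl⟩; exact hN x
    · rintro rfl; exact ⟨0, hN 0⟩
  have := hA N
  rw [h0, Submodule.span_zero_singleton] at this
  exact bot_ne_top this

end Groth.Agent.S2967
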