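import Groth.Statements.S2978
-- import your own Groth.Agent.* helpers here

set_option autoImplicit false
universe u
open SGA3b

namespace Groth.Agent.S2978

/-- Let A be a Noetherian ring, M a set and a : M × M → A a family vanishing off the diagonal which is a
finite sum of decomposable families: a(m, m') = Σ_i b_i(m) c_i(m') for finitely many b_i, c_i : M →
A. Then a has finite support. -/
theorem result (A : Type u) [CommRing A] [IsNoetherianRing A] (M : Type u)
    (a : M × M → A) (hdiag : ∀ m m', m ≠ m' → a (m, m') = 0)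
    (ι : Type u) [Fintype ι] (b c : ι → M → A) (hdec : ∀ m m', a (m, m') = ∑ i, b i m * c i m') :
    Set.Finite {p : M × M | a p ≠ 0} := by
  classical
  let v : M → (ι → A) := fun m i => b i m
  let φ : M → ((ι → A) →ₗ[A] A) := fun m =>
    ∑ i, (c i m) • (LinearMap.proj i : (ι → A) →ₗ[A] A)
  have hφ : ∀ m m', φ m (v m') = a (m', m) := by
    intro m m'
    simp only [φ, v, LinearMap.sum_apply, LinearMap.smul_apply, LinearMap.proj_apply, smul_eq_mul,
      hdec]
    exact Finset.sum_congr rfl fun i _ => mul_comm _ _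
  have hfg : (Submodule.span A (Set.range v)).FG := IsNoetherian.noetherian _
  obtain ⟨s', hs', hspan⟩ := (Submodule.fg_span_iff_fg_span_finset_subset _).mp hfg
  -- D' = {m | a (m,m) ≠ 0 ∧ v m ∈ s'}
  have hinj : Set.InjOn v {m | a (m, m) ≠ 0} := by
    intro m hm m' _ hvv
    by_contra hne
    apply hm
    rw [← hφ m m, hvv, hφ]
    exact hdiag m' m (Ne.symm hne)
  have hD : ∀ m, a (m, m) ≠ 0 → v m ∈ s' := by
    intro m hm
    by_contra hnot
    apply hm
    have hmem : v m ∈ Submodule.span A (s' : Set (ι → A)) := by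
      rw [← hspan]; exact Submodule.subset_span ⟨m, rfl⟩
    have hker : Submodule.span A (s' : Set (ι → A)) ≤ LinearMap.ker (φ m) := by
      rw [Submodule.span_le]
      intro x hx
      obtain ⟨m', rfl⟩ := hs' hx
      have hne : m' ≠ m := fun h => hnot (h ▸ hx)
      rw [SetLike.mem_coe, LinearMap.mem_ker, hφ]
      exact hdiag m' m hne
    rw [← hφ m m]
    exact LinearMap.mem_ker.mp (hker hmem)
  have hfin : Set.Finite {m | a (m, m) ≠ 0} := by
    refine Set.Finite.of_finite_image (f := v) ?_ hinj
    refine s'.finite_toSet.subset ?_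
    rintro _ ⟨m, hm, rfl⟩
    exact hD m hm
  refine (hfin.image (fun m => (m, m))).subset ?_
  rintro ⟨m, m'⟩ hp
  have hmm : m = m' := by
    by_contra hne
    exact hp (hdiag m m' hne)
  subst hmm
  exact ⟨m, hp, rfl⟩

end Groth.Agent.S2978
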