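import Groth.Statements.S3015
import Groth.Agent.Lib.Helper9.Misc.GSE1

set_option autoImplicit false
universe u
open CategoryTheory MonoidalCategory CartesianMonoidalCategory MonObj GrpObj AlgebraicGeometry TensorProduct
open SGA3

namespace Groth.Agent.S3015

/-- Let A be a local artinian ring, G a group scheme over A, and U, V dense open subsets of G. Then U ·
V, the image of U ×_A V under the multiplication, is the whole underlying space of G: every point of
G is the product of a point of G ×_A G whose two projections lie in U and V. -/
theorem result (A : Type u) [CommRing A] [IsArtinianRing A] [IsLocalRing A]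
    (G : Over (Spec (CommRingCat.of A))) [GrpObj G] (U V : G.left.Opens)
    (hU : Dense (U : Set G.left)) (hV : Dense (V : Set G.left)) (g : G.left) :
    ∃ z : ↥(G ⊗ G).left, (fst G G).left.base z ∈ U ∧ (snd G G).left.base z ∈ V ∧ μ[G].left.base z = g := by
  have h := Groth.Agent.H9.GSE.S7823_main G U V hU hV
  have hg : g ∈ (Set.univ : Set G.left) := Set.mem_univ g
  rw [← h] at hg
  obtain ⟨z, ⟨h1, h2⟩, h3⟩ := hg
  exact ⟨z, h1, h2, h3⟩

end Groth.Agent.S3015
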