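import Groth.Statements.S3043
-- import your own Groth.Agent.* helpers here

set_option autoImplicit false
universe u
open CategoryTheory MonoidalCategory CartesianMonoidalCategory MonObj GrpObj AlgebraicGeometry TensorProduct
open SGA3

namespace Groth.Agent.S3043

open TopologicalSpace

theorem stepA (X S : Scheme.{u}) (π : X ⟶ S) (ε : S ⟶ X) (hε : ε ≫ π = 𝟙 S)
    (hinj : Function.Injective π.base) (U : S.Opens) (hU : IsAffineOpen U) :
    IsAffineOpen (π ⁻¹ᵁ U) := by
  have hπε : ∀ y : S, π.base (ε.base y) = y := by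
    intro y
    have := congr($(hε).base y)
    simpa using this
  have hεπ : ∀ x : X, ε.base (π.base x) = x := fun x => hinj (hπε _)
  let s₀ : Set Γ(S, U) := {f | IsAffineOpen (π ⁻¹ᵁ (S.basicOpen f))}
  have hs₀ : Ideal.span s₀ = ⊤ := by
    rw [← hU.self_le_iSup_basicOpen_iff]
    intro y hy
    have hx : ε.base y ∈ π ⁻¹ᵁ U := by
      change π.base (ε.base y) ∈ U
      rw [hπε]; exact hy
    obtain ⟨V, hV, hxV, hVU⟩ := exists_isAffineOpen_mem_and_subset hx
    have hyV : y ∈ ε ⁻¹ᵁ V := hxV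
    obtain ⟨f, hfV, hyf⟩ := hU.exists_basicOpen_le (V := ε ⁻¹ᵁ V) ⟨y, hyV⟩ hy
    have hle : π ⁻¹ᵁ (S.basicOpen f) ≤ V := by
      intro z hz
      have h1 : π.base z ∈ ε ⁻¹ᵁ V := hfV hz
      have h2 : ε.base (π.base z) ∈ V := h1
      rwa [hεπ] at h2
    have hf : f ∈ s₀ := by
      change IsAffineOpen (π ⁻¹ᵁ (S.basicOpen f))
      rw [Scheme.preimage_basicOpen]
      have hle' : X.basicOpen (π.app U f) ≤ V := by
        rw [← Scheme.preimage_basicOpen]; exact hle
      have := hV.basicOpen (X.presheaf.map (homOfLE (show V ≤ π ⁻¹ᵁ U from hVU)).op (π.app U f))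
      rwa [Scheme.basicOpen_res, inf_eq_right.mpr hle'] at this
    simp only [Opens.mem_iSup]
    exact ⟨⟨f, hf⟩, hyf⟩
  refine isAffineOpen_of_isAffineOpen_basicOpen (π ⁻¹ᵁ U) ((π.app U).hom '' s₀) ?_ ?_
  · rw [← Ideal.map_span, hs₀, Ideal.map_top]
  · rintro _ ⟨f, hf, rfl⟩
    have : IsAffineOpen (π ⁻¹ᵁ (S.basicOpen f)) := hf
    rwa [Scheme.preimage_basicOpen] at this

theorem stepB (X S : Scheme.{u}) (π : X ⟶ S) (ε : S ⟶ X) (hε : ε ≫ π = 𝟙 S)
    (hinj : Function.Injective π.base) (U : S.Opens) (hU : IsAffineOpen U) :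
    (π.app U).hom.IsIntegral := by
  have hπε : ∀ y : S, π.base (ε.base y) = y := by
    intro y
    have := congr($(hε).base y)
    simpa using this
  have hεπ : ∀ x : X, ε.base (π.base x) = x := fun x => hinj (hπε _)
  have hle : U ≤ ε ⁻¹ᵁ (π ⁻¹ᵁ U) := by
    intro y hy
    change π.base (ε.base y) ∈ U
    rw [hπε]; exact hy
  intro b
  set a : Γ(S, U) := (ε.appLE (π ⁻¹ᵁ U) U hle).hom b with ha
  set b' := b - (π.app U).hom a with hb'
  have hcomp : ∀ c : Γ(S, U), (ε.appLE (π ⁻¹ᵁ U) U hle).hom ((π.app U).hom c) = c := by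
    intro c
    have h1 := Scheme.Hom.appLE_comp_appLE ε π U (π ⁻¹ᵁ U) U le_rfl hle
    rw [Scheme.Hom.appLE_eq_app] at h1
    have h2 : (ε ≫ π).appLE U U (hle.trans ((Opens.map ε.base).map (homOfLE (le_refl (π ⁻¹ᵁ U)))).le) = 𝟙 _ := by
      have : ∀ (g : S ⟶ S) (hg : g = 𝟙 S) (e : U ≤ g ⁻¹ᵁ U), g.appLE U U e = 𝟙 _ := by
        rintro g rfl e
        simp only [Scheme.Hom.appLE, Scheme.Hom.id_app]
        exact S.presheaf.map_id _
      exact this _ hε _
    rw [h2] at h1
    exact congr($(h1).hom c)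
  have hb'0 : (ε.appLE (π ⁻¹ᵁ U) U hle).hom b' = 0 := by
    rw [hb', map_sub, hcomp, ← ha, sub_self]
  have hbot : X.basicOpen b' = ⊥ := by
    rw [eq_bot_iff]
    intro x hx
    have hxU : x ∈ π ⁻¹ᵁ U := X.basicOpen_le _ hx
    have hy : π.base x ∈ U := hxU
    have h1 : π.base x ∈ S.basicOpen ((ε.appLE (π ⁻¹ᵁ U) U hle).hom b') := by
      rw [Scheme.basicOpen_appLE]
      refine ⟨hy, ?_⟩
      change ε.base (π.base x) ∈ X.basicOpen b'
      rw [hεπ]; exact hx
    rw [hb'0, Scheme.basicOpen_zero] at h1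
    exact h1
  have hnil : IsNilpotent b' :=
    (Scheme.isNilpotent_iff_basicOpen_eq_bot_of_isCompact
      (stepA X S π ε hε hinj U hU).isCompact b').mpr hbot
  have hb : b = (π.app U).hom a + b' := by rw [hb']; ring
  rw [hb]
  refine RingHom.IsIntegralElem.add _ (RingHom.isIntegralElem_map _) ?_
  obtain ⟨n, hn⟩ := hnil
  exact ⟨Polynomial.X ^ n, Polynomial.monic_X_pow n, by simp [hn]⟩


/-- Let π : X → S be a morphism of schemes admitting a section ε (ε followed by π is the identity). If π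
is injective on underlying points, then π is an integral morphism. -/
theorem result (X S : Scheme.{u}) (π : X ⟶ S) (ε : S ⟶ X) (hε : ε ≫ π = 𝟙 S)
    (hinj : Function.Injective π.base) : IsIntegralHom π := by
  exact
    { isAffine_preimage := fun U hU => stepA X S π ε hε hinj U hU
      isIntegral_app := fun U hU => stepB X S π ε hε hinj U hU }

end Groth.Agent.S3043
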