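import Groth.Statements.S3066
import Groth.Agent.Lib.Helper2.ToposFinGen

set_option autoImplicit false
open CategoryTheory CategoryTheory.Limits Opposite
universe u
open ToposFin

namespace Groth.Agent.S3066

/-- Quasi-separated case, for a topos of sheaves of sets on a small site: if f : X -> Y is a
quasi-separated morphism and Y is a quasi-separated object, then X is quasi-separated. -/
theorem result {C : Type u} [SmallCategory C] {J : GrothendieckTopology C} {X Y : ToposFin.Sh J} (f : X ⟶ Y) (hf : ToposFin.IsQSHom f)
    (hY : ToposFin.IsQS Y) : ToposFin.IsQS X := by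
  intro A B a b hA hB
  exact Groth.Agent.H2.TF.IsQCHom.isQC_of_isPullback hf (pullback_map_diagonal_isPullback a b f)
    (hY A B (a ≫ f) (b ≫ f) hA hB)

end Groth.Agent.S3066
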