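import Groth.Statements.S3068
import Groth.Agent.Lib.Helper2.ToposFinGen

set_option autoImplicit false
open CategoryTheory CategoryTheory.Limits Opposite
universe u
open ToposFin

namespace Groth.Agent.S3068

/-- For a topos of sheaves of sets on a small site: given a generating family of quasi-compact objects
G_a, an object Y is quasi-separated if and only if every morphism G_a -> Y is quasi-compact. -/
theorem result {C : Type u} [SmallCategory C] {J : GrothendieckTopology C} {α : Type u} (G : α → ToposFin.Sh J) (hG : ∀ a, ToposFin.IsQC (G a))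
    (hgen : ∀ X : ToposFin.Sh J, ∃ (ι : Type u) (a : ι → α) (π : ∀ i, G (a i) ⟶ X), Epi (Sigma.desc π))
    (Y : ToposFin.Sh J) :
    ToposFin.IsQS Y ↔ ∀ (a : α) (s : G a ⟶ Y), ToposFin.IsQCHom s := by
  constructor
  · intro hY a s T t hT
    exact hY _ _ s t (hG a) hT
  · intro h A B a b hA hB
    obtain ⟨κ, hκ, Q, q, hQ, hq⟩ :=
      (Groth.Agent.H2.TF.gen_of_family G hgen).exists_finite_cover hA
    refine Groth.Agent.H2.TF.isQC_pullback_of_finite_cover_left a b q hq ?_
    intro k
    obtain ⟨a0, ha⟩ := hQ k
    have : ∀ (Z : ToposFin.Sh J) (hZ : Z = G a0) (s : Z ⟶ Y), ToposFin.IsQC (pullback s b) := by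
      intro Z hZ s
      subst hZ
      exact h a0 s B b hB
    exact this _ ha _

end Groth.Agent.S3068
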