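import Groth.Statements.S3087
import Groth.Agent.Lib.Lead.EZ.Faithful

set_option autoImplicit false
universe u
open CategoryTheory
open SGA4

namespace Groth.Agent.S3087

open CategoryTheory.Limits in
/-- For the ringed topos of sheaves on a small site (C, J) with sheaf of rings A, localised at an object
X of C: the restriction functor j_X^* from sheaves of A-modules to sheaves of A|X-modules on the
site of objects over X admits a left adjoint (extension by zero j_{X!}), and any such left adjoint
is exact (preserves finite limits and finite colimits) and faithful. -/
theorem result {C : Type u} [SmallCategory C] (J : GrothendieckTopology C) (X : C)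
    (A : Sheaf J RingCat.{u}) :
    (SheafOfModules.overFunctor.{u} A X).IsRightAdjoint ∧
    ∀ (L : SheafOfModules.{u} (A.over X) ⥤ SheafOfModules.{u} A) (_ : L ⊣ SheafOfModules.overFunctor.{u} A X),
      PreservesFiniteLimits L ∧ PreservesFiniteColimits L ∧ L.Faithful := by
  exact ⟨(Groth.Agent.LD.EZ.ezModShAdj A X).isRightAdjoint, fun L adj =>
    ⟨Groth.Agent.LD.EZ.preservesFiniteLimits_of_adj adj,
      Groth.Agent.LD.EZ.preservesFiniteColimits_of_adj adj,
      Groth.Agent.LD.EZ.faithful_of_adj X A adj⟩⟩

end Groth.Agent.S3087
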