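import Groth.Statements.S3093
-- import your own Groth.Agent.* helpers here

set_option autoImplicit false
universe u
open CohTop

namespace Groth.Agent.S3093

/-- Let X be a topological space and K ⊆ X a compact subset such that any two distinct points of K have
disjoint open neighbourhoods in X. If A and B are subsets of K that are closed in K and W is an open
subset of X containing A ∩ B, then there are open subsets U ⊇ A and V ⊇ B of X with U ∩ V ⊆ W. -/
theorem result {X : Type u} [TopologicalSpace X] {K : Set X} (hK : IsCompact K)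
    (hsep : ∀ x ∈ K, ∀ y ∈ K, x ≠ y → ∃ U V : Set X, IsOpen U ∧ IsOpen V ∧ x ∈ U ∧ y ∈ V ∧ Disjoint U V)
    {A B W : Set X} (hA : A ⊆ K) (hB : B ⊆ K) (hAc : IsClosed (Subtype.val ⁻¹' A : Set K))
    (hBc : IsClosed (Subtype.val ⁻¹' B : Set K)) (hW : IsOpen W) (hABW : A ∩ B ⊆ W) :
    ∃ U V : Set X, IsOpen U ∧ IsOpen V ∧ A ⊆ U ∧ B ⊆ V ∧ U ∩ V ⊆ W := by
  have hcomp : ∀ {S : Set X}, S ⊆ K → IsClosed (Subtype.val ⁻¹' S : Set K) → IsCompact S := by
    intro S hS hSc
    have : CompactSpace K := isCompact_iff_compactSpace.mp hK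
    have h1 : IsCompact (Subtype.val ⁻¹' S : Set K) := hSc.isCompact
    have h2 := h1.image continuous_subtype_val
    rwa [Subtype.image_preimage_coe, Set.inter_eq_right.mpr hS] at h2
  have hA1 : IsCompact (A \ W) := (hcomp hA hAc).diff hW
  have hB1 : IsCompact (B \ W) := (hcomp hB hBc).diff hW
  have hdisj : Disjoint (nhdsSet (A \ W)) (nhdsSet (B \ W)) := by
    rw [hA1.disjoint_nhdsSet_left]
    intro x hx
    rw [hB1.disjoint_nhdsSet_right]
    intro y hy
    have hne : x ≠ y := by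
      rintro rfl
      exact hx.2 (hABW ⟨hx.1, hy.1⟩)
    obtain ⟨U, V, hU, hV, hxU, hyV, hUV⟩ := hsep x (hA hx.1) y (hB hy.1) hne
    exact Filter.disjoint_of_disjoint_of_mem hUV (hU.mem_nhds hxU) (hV.mem_nhds hyV)
  obtain ⟨U₁, V₁, hU₁, hV₁, hAU, hBV, hUV⟩ := separatedNhds_iff_disjoint.mpr hdisj
  refine ⟨U₁ ∪ W, V₁ ∪ W, hU₁.union hW, hV₁.union hW, ?_, ?_, ?_⟩
  · intro a ha
    by_cases haW : a ∈ W
    · exact Or.inr haW
    · exact Or.inl (hAU ⟨ha, haW⟩)
  · intro b hb
    by_cases hbW : b ∈ W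
    · exact Or.inr hbW
    · exact Or.inl (hBV ⟨hb, hbW⟩)
  · rintro z ⟨hz1 | hz1, hz2 | hz2⟩
    · exact absurd hz2 (Set.disjoint_left.mp hUV hz1)
    · exact hz2
    · exact hz1
    · exact hz1

end Groth.Agent.S3093
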