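import Groth.Statements.S3104
import Groth.Agent.Lib.Helper2.NormConstA

set_option autoImplicit false
universe u
open CategoryTheory CategoryTheory.Limits AlgebraicGeometry Opposite
open EtPBC

namespace Groth.Agent.S3104

/-- Let X be a normal scheme, j : U → X a quasi-compact open immersion with dense image, and M an
abelian group. Then the natural map from the constant sheaf M_X on X_ét to j_* j^* M_X (the unit of
the adjunction) is an isomorphism. The published statement is more general, allowing X geometrically
unibranch and sheaves of sets; stated here for X normal, j an open immersion and constant abelian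
sheaves. -/
theorem result (X U : Scheme.{u}) (hX : Pi1.IsNormalScheme X)
    (j : U ⟶ X) [IsOpenImmersion j] [QuasiCompact j] (hj : Dense (Set.range j)) [EtCoh.BCCont j]
    (M : Type) [AddCommGroup M] :
    IsIso ((EtCoh.pullPushAdj j).unit.app (EtCoh.const X M)) := by
  apply Groth.Agent.H2.NormConst.isIso_unit_of_normal hX j _ (AddCommGrpCat.of (ULift.{u + 1} M))
  intro x
  obtain ⟨_, ⟨W, hW : IsAffineOpen W, rfl⟩, hxW, -⟩ :=
    X.isBasis_affineOpens.exists_subset_of_mem_open (Set.mem_univ x) isOpen_univ
  refine ⟨W, W ⊓ j.opensRange, hW, hxW, inf_le_left, ?_, ?_, ?_⟩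
  · rintro y ⟨-, hy⟩
    exact hy
  · have hc : IsCompact ((j ⁻¹ᵁ W : U.Opens) : Set U) := j.isCompact_preimage hW.isCompact
    have h2 := hc.image j.continuous
    have e : j '' ((j ⁻¹ᵁ W : U.Opens) : Set U) = ((W ⊓ j.opensRange : X.Opens) : Set X) := by
      change j '' (j ⁻¹' (W : Set X)) = (W : Set X) ∩ Set.range j
      exact Set.image_preimage_eq_inter_range
    rw [← e]
    exact h2
  · exact hj.open_subset_closure_inter W.isOpen

end Groth.Agent.S3104
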