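import Groth.Statements.S3208
import Mathlib

set_option autoImplicit false
open SGA7

namespace Groth.Agent.S3208

section
variable {E : Type} [CommRing E] [NoZeroSMulDivisors ℤ E] [Module.Finite ℤ E]

omit [Module.Finite ℤ E] in
theorem cast_mul_cancel (p : ℕ) (hp : p ≠ 0) (a b : E) (h : (p : E) * a = (p : E) * b) : a = b := by
  have h' : (p : ℤ) • a = (p : ℤ) • b := by
    rw [zsmul_eq_mul, zsmul_eq_mul]; exact_mod_cast h
  exact smul_right_injective E (by exact_mod_cast hp : (p : ℤ) ≠ 0) h'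

theorem eq_zero_of_forall_pow_dvd (p : ℕ) (hp : 2 ≤ p) (x : E)
    (h : ∀ j : ℕ, ∃ z : E, x = (p : E) ^ j * z) : x = 0 := by
  haveI : Module.Free ℤ E := Module.free_of_finite_type_torsion_free'
  let b := Module.Free.chooseBasis ℤ E
  apply b.repr.injective
  rw [map_zero]
  ext i
  rw [Finsupp.zero_apply]
  obtain ⟨z, hz⟩ := h (b.repr x i).natAbs
  have hdvd : ((p : ℤ) ^ (b.repr x i).natAbs) ∣ b.repr x i := by
    refine ⟨b.repr z i, ?_⟩
    have e : ((p : E) ^ (b.repr x i).natAbs * z) = ((p : ℤ) ^ (b.repr x i).natAbs) • z := by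
      rw [zsmul_eq_mul]; push_cast; rfl
    have h2 := congrArg (fun w => b.repr w i) (hz.trans e)
    simp only [map_smul, Finsupp.smul_apply, smul_eq_mul] at h2
    exact h2
  refine Int.eq_zero_of_abs_lt_dvd hdvd ?_
  have h1 : (b.repr x i).natAbs < 2 ^ (b.repr x i).natAbs := Nat.lt_two_pow_self
  have h2 : 2 ^ (b.repr x i).natAbs ≤ p ^ (b.repr x i).natAbs := Nat.pow_le_pow_left hp _
  have h3 : ((b.repr x i).natAbs : ℤ) < (p : ℤ) ^ (b.repr x i).natAbs := by
    exact_mod_cast lt_of_lt_of_le h1 h2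
  rwa [Int.natCast_natAbs] at h3

omit [NoZeroSMulDivisors ℤ E] [Module.Finite ℤ E] in
theorem expand2 (x : E) (n : ℕ) : ∃ y : E, (1 + x) ^ n = 1 + n * x + x ^ 2 * y := by
  induction n with
  | zero => exact ⟨0, by simp⟩
  | succ n ih =>
    obtain ⟨y, hy⟩ := ih
    refine ⟨n + y + x * y, ?_⟩
    rw [pow_succ, hy]; push_cast; ring

omit [NoZeroSMulDivisors ℤ E] [Module.Finite ℤ E] in
theorem expand3 (x : E) (n : ℕ) :
    ∃ y : E, (1 + x) ^ n = 1 + n * x + (n.choose 2 : ℕ) * x ^ 2 + x ^ 3 * y := by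
  induction n with
  | zero => exact ⟨0, by simp⟩
  | succ n ih =>
    obtain ⟨y, hy⟩ := ih
    refine ⟨(n.choose 2 : ℕ) + y + x * y, ?_⟩
    have hc : (n + 1).choose 2 = n.choose 2 + n := by
      rw [Nat.choose_succ_succ' n 1, Nat.choose_one_right, add_comm]
    rw [pow_succ, hy, hc]; push_cast; ring

theorem core (p : ℕ) (hp : p.Prime) (k : ℕ) (hk : 1 ≤ k) (hpk : p = 2 → 2 ≤ k) (ℓ : ℕ)
    (hℓ : ℓ.Prime) (x : E) (hx : ∃ z : E, x = (p : E) ^ k * z) (h : (1 + x) ^ ℓ = 1) : x = 0 := by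
  apply eq_zero_of_forall_pow_dvd p hp.two_le
  have key : ∀ j, k ≤ j → ∃ z : E, x = (p : E) ^ j * z := by
    intro j hj
    induction j, hj using Nat.le_induction with
    | base => exact hx
    | succ j hj ih =>
      obtain ⟨z, hz⟩ := ih
      have hj1 : 1 ≤ j := hk.trans hj
      by_cases hℓp : ℓ = p
      · subst hℓp
        by_cases hj2 : 2 ≤ j
        · obtain ⟨y, hy⟩ := expand2 x ℓ
          rw [h] at hy
          have e1 : (ℓ : E) * x = (ℓ : E) * ((ℓ : E) ^ (j + 1) * (-((ℓ : E) ^ (j - 2) * z ^ 2 * y))) := by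
            have hpow : (ℓ : E) ^ (2 * j) = (ℓ : E) ^ (j + 2) * (ℓ : E) ^ (j - 2) := by
              rw [← pow_add]; congr 1; omega
            have : (ℓ : E) * x = -(x ^ 2 * y) := by linear_combination -hy
            rw [this, hz, mul_pow, ← pow_mul, mul_comm j 2, hpow]; ring
          exact ⟨_, cast_mul_cancel ℓ hp.ne_zero _ _ e1⟩
        · have hj' : j = 1 := by omega
          subst hj'
          have hodd : ℓ ≠ 2 := fun h2 => by have := hpk h2; omega
          obtain ⟨y, hy⟩ := expand3 x ℓ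
          rw [h] at hy
          obtain ⟨c, hc⟩ := hp.dvd_choose_self (k := 2) (by norm_num)
            (lt_of_le_of_ne hp.two_le (Ne.symm hodd))
          have e1 : (ℓ : E) * x = (ℓ : E) * ((ℓ : E) ^ (1 + 1) * (-((c : E) * z ^ 2 + z ^ 3 * y))) := by
            have : (ℓ : E) * x = -((ℓ.choose 2 : ℕ) * x ^ 2 + x ^ 3 * y) := by linear_combination -hy
            rw [this, hc, hz]; push_cast; ring
          exact ⟨_, cast_mul_cancel ℓ hp.ne_zero _ _ e1⟩
      · obtain ⟨y, hy⟩ := expand2 x ℓ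
        rw [h] at hy
        have e1 : (ℓ : E) * x = (p : E) ^ (j + 1) * (-((p : E) ^ (j - 1) * z ^ 2 * y)) := by
          have hpow : (p : E) ^ (2 * j) = (p : E) ^ (j + 1) * (p : E) ^ (j - 1) := by
            rw [← pow_add]; congr 1; omega
          have : (ℓ : E) * x = -(x ^ 2 * y) := by linear_combination -hy
          rw [this, hz, mul_pow, ← pow_mul, mul_comm j 2, hpow]; ring
        have hcop : IsCoprime (ℓ : ℤ) ((p : ℤ) ^ (j + 1)) := by
          apply IsCoprime.pow_right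
          rw [Nat.isCoprime_iff_coprime]
          exact (Nat.coprime_primes hℓ hp).mpr hℓp
        obtain ⟨a, b, hab⟩ := hcop
        have hab' : (a : E) * (ℓ : E) + (b : E) * (p : E) ^ (j + 1) = 1 := by
          have := congrArg (Int.cast : ℤ → E) hab
          push_cast at this
          exact this
        refine ⟨(a : E) * (-((p : E) ^ (j - 1) * z ^ 2 * y)) + (b : E) * x, ?_⟩
        calc x = ((a : E) * (ℓ : E) + (b : E) * (p : E) ^ (j + 1)) * x := by rw [hab', one_mul]
          _ = (a : E) * ((ℓ : E) * x) + (b : E) * (p : E) ^ (j + 1) * x := by ring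
          _ = _ := by rw [e1]; ring
  intro j
  by_cases hjk : k ≤ j
  · exact key j hjk
  · obtain ⟨z, hz⟩ := hx
    refine ⟨(p : E) ^ (k - j) * z, ?_⟩
    rw [hz, ← mul_assoc, ← pow_add]; congr 2; omega

theorem main3 (n : ℕ) (hn : 3 ≤ n) (m : ℕ) (hm : 0 < m) (u : E) (hu : u ^ m = 1)
    (hcong : ∃ v : E, 1 - u = (n : E) * v) : u = 1 := by
  -- find p, k
  obtain ⟨p, hp, k, hk, hpk, hdvd⟩ : ∃ p : ℕ, p.Prime ∧ ∃ k : ℕ, 1 ≤ k ∧ (p = 2 → 2 ≤ k) ∧ p ^ k ∣ n := by
    by_cases h4 : 4 ∣ n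
    · exact ⟨2, Nat.prime_two, 2, by norm_num, fun _ => le_rfl, by simpa using h4⟩
    · by_cases h2 : 2 ∣ n
      · obtain ⟨n', rfl⟩ := h2
        have hn'odd : ¬ 2 ∣ n' := by
          intro h; apply h4
          obtain ⟨n'', rfl⟩ := h
          exact ⟨n'', by ring⟩
        have hn'1 : n' ≠ 1 := by omega
        refine ⟨n'.minFac, Nat.minFac_prime hn'1, 1, le_rfl, ?_, ?_⟩
        · intro h; exfalso; apply hn'odd; rw [← h]; exact Nat.minFac_dvd n'
        · rw [pow_one]; exact (Nat.minFac_dvd n').mul_left 2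
      · have hn1 : n ≠ 1 := by omega
        refine ⟨n.minFac, Nat.minFac_prime hn1, 1, le_rfl, ?_, ?_⟩
        · intro h; exfalso; apply h2; rw [← h]; exact Nat.minFac_dvd n
        · rw [pow_one]; exact Nat.minFac_dvd n
  induction m using Nat.strong_induction_on generalizing u with
  | _ m ih =>
    by_cases hm1 : m = 1
    · subst hm1; simpa using hu
    · obtain ⟨ℓ, hℓ, m', rfl⟩ : ∃ ℓ : ℕ, ℓ.Prime ∧ ∃ m', m = ℓ * m' :=
        ⟨m.minFac, Nat.minFac_prime hm1, (Nat.minFac_dvd m)⟩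
      have hm'pos : 0 < m' := by
        rcases Nat.eq_zero_or_pos m' with h | h
        · subst h; simp at hm
        · exact h
      have hm'lt : m' < ℓ * m' := by
        have := hℓ.two_le
        nlinarith
      -- w = u ^ m'
      have hw : (u ^ m') ^ ℓ = 1 := by rw [← pow_mul, mul_comm]; exact hu
      obtain ⟨v, hv⟩ := hcong
      have hdvd1 : (u - 1) ∣ (u ^ m' - 1) := by
        have := sub_dvd_pow_sub_pow u 1 m'
        rwa [one_pow] at this
      obtain ⟨t, ht⟩ := hdvd1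
      obtain ⟨q, hq⟩ := hdvd
      have hx : ∃ z : E, (u ^ m' - 1) = (p : E) ^ k * z := by
        refine ⟨-(q : E) * v * t, ?_⟩
        have hu1 : u - 1 = -((n : E) * v) := by rw [← hv]; ring
        rw [ht, hu1, hq]; push_cast; ring
      have hw' : (1 + (u ^ m' - 1)) ^ ℓ = 1 := by rw [add_sub_cancel]; exact hw
      have hzero := core p hp k hk hpk ℓ hℓ (u ^ m' - 1) hx hw'
      have hum' : u ^ m' = 1 := sub_eq_zero.mp hzero
      exact ih m' hm'lt hm'pos u hum' ⟨v, hv⟩
end

/-- Let E be a commutative ring which is finitely generated and torsion-free as an additive group, u an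
element of E of finite multiplicative order (u^m = 1 for some m > 0), and n ≥ 2 an integer with u ≡
1 modulo nE (i.e. 1 - u = n·v for some v ∈ E). Then u² = 1, and if n ≥ 3 then u = 1. -/
theorem result (E : Type) [CommRing E] [NoZeroSMulDivisors ℤ E] [Module.Finite ℤ E] (u : E) (m : ℕ) (hm : 0 < m)
    (hu : u ^ m = 1) (n : ℕ) (hn : 2 ≤ n) (hcong : ∃ v : E, 1 - u = (n : E) * v) :
    u ^ 2 = 1 ∧ (3 ≤ n → u = 1) := by
  refine ⟨?_, fun h3 => main3 n h3 m hm u hu hcong⟩
  by_cases h3 : 3 ≤ n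
  · rw [main3 n h3 m hm u hu hcong, one_pow]
  · have hn2 : n = 2 := by omega
    subst hn2
    obtain ⟨v, hv⟩ := hcong
    refine main3 4 (by norm_num) m hm (u ^ 2) (by rw [← pow_mul, mul_comm, pow_mul, hu, one_pow]) ?_
    refine ⟨v - v ^ 2, ?_⟩
    have hu' : u = 1 - 2 * v := by
      have : 1 - u = 2 * v := by simpa using hv
      linear_combination -this
    rw [hu']; push_cast; ring

end Groth.Agent.S3208
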