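import Groth.Statements.S3209
import Mathlib

set_option autoImplicit false
universe u
open TensorProduct
open SGA7

namespace Groth.Agent.S3209

section
variable {R : Type*} [CommRing R] (S : Type*) [AddCommGroup S] [Module R S]
  {J B' B C P : Type*} [AddCommGroup J] [Module R J] [AddCommGroup B'] [Module R B']
  [AddCommGroup B] [Module R B] [AddCommGroup C] [Module R C] [AddCommGroup P] [Module R P]

lemma fibre_tensor (p₁ : P →ₗ[R] B') (p₂ : P →ₗ[R] C) (f : B' →ₗ[R] B) (g : C →ₗ[R] B)
    (k : J →ₗ[R] P) (ι : J →ₗ[R] B')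
    (h1 : p₁ ∘ₗ k = ι) (h2 : p₂ ∘ₗ k = 0) (hk : Function.Exact k p₂) (hι : Function.Exact ι f)
    (hp₂ : Function.Surjective p₂) (hf : Function.Surjective f) (hcomm : f ∘ₗ p₁ = g ∘ₗ p₂)
    (hJ : Function.Injective (LinearMap.lTensor S ι)) :
    Function.Injective (fun z : S ⊗[R] P => (LinearMap.lTensor S p₁ z, LinearMap.lTensor S p₂ z)) ∧
    ∀ (x : S ⊗[R] B') (y : S ⊗[R] C), LinearMap.lTensor S f x = LinearMap.lTensor S g y →
      ∃ z : S ⊗[R] P, LinearMap.lTensor S p₁ z = x ∧ LinearMap.lTensor S p₂ z = y := by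
  have ek := lTensor_exact S hk hp₂
  have eι := lTensor_exact S hι hf
  have h1' : LinearMap.lTensor S p₁ ∘ₗ LinearMap.lTensor S k = LinearMap.lTensor S ι := by
    rw [← LinearMap.lTensor_comp, h1]
  have h2' : LinearMap.lTensor S p₂ ∘ₗ LinearMap.lTensor S k = 0 := by
    rw [← LinearMap.lTensor_comp, h2, LinearMap.lTensor_zero]
  have hcomm' : LinearMap.lTensor S f ∘ₗ LinearMap.lTensor S p₁
      = LinearMap.lTensor S g ∘ₗ LinearMap.lTensor S p₂ := by
    rw [← LinearMap.lTensor_comp, ← LinearMap.lTensor_comp, hcomm]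
  constructor
  · intro z z' hzz'
    have hz : LinearMap.lTensor S p₁ (z - z') = 0 ∧ LinearMap.lTensor S p₂ (z - z') = 0 := by
      simp only [Prod.mk.injEq] at hzz'
      rw [map_sub, map_sub, hzz'.1, hzz'.2]
      simp
    obtain ⟨w, hw⟩ := (ek (z - z')).mp hz.2
    have : LinearMap.lTensor S ι w = 0 := by
      rw [← h1', LinearMap.comp_apply, hw, hz.1]
    have hw0 : w = 0 := hJ (by rw [this, map_zero])
    rw [hw0, map_zero] at hw
    exact sub_eq_zero.mp hw.symm
  · intro x y hxy
    obtain ⟨z₀, hz₀⟩ := LinearMap.lTensor_surjective S hp₂ y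
    have : LinearMap.lTensor S f (x - LinearMap.lTensor S p₁ z₀) = 0 := by
      rw [map_sub, hxy, ← LinearMap.comp_apply, hcomm', LinearMap.comp_apply, hz₀, sub_self]
    obtain ⟨w, hw⟩ := (eι _).mp this
    refine ⟨z₀ + LinearMap.lTensor S k w, ?_, ?_⟩
    · rw [map_add, ← LinearMap.comp_apply, h1', hw]; abel
    · rw [map_add, ← LinearMap.comp_apply, h2', hz₀]; simp
end

lemma map_id_eq_lTensor {R S M N : Type*} [CommRing R] [CommRing S] [Algebra R S]
    [CommRing M] [Algebra R M] [CommRing N] [Algebra R N] (h : M →ₐ[R] N) (z : S ⊗[R] M) :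
    Algebra.TensorProduct.map (AlgHom.id R S) h z = LinearMap.lTensor S h.toLinearMap z := by
  induction z using TensorProduct.induction_on with
  | zero => simp
  | tmul s m => simp
  | add x y hx hy => rw [map_add, map_add, hx, hy]

/-- Let f : B' → B be a surjective map of R-algebras with kernel J, g : C → B a map of R-algebras, P =
B' ×_B C their fibre product (the equalizer of f ∘ pr₁ and g ∘ pr₂ in B' × C) and S an R-algebra
such that S ⊗_R J → S ⊗_R B' is injective (this holds when Tor_1^R(B, S) = 0, the published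
hypothesis, and in particular when S is flat). Then the canonical map S ⊗_R P → (S ⊗_R B') ×_{S ⊗_R
B} (S ⊗_R C) is bijective: it is injective, and every pair with the same image in S ⊗_R B comes from
S ⊗_R P. -/
theorem result (R B' B C S : Type u) [CommRing R] [CommRing B'] [CommRing B] [CommRing C]
    [CommRing S] [Algebra R B'] [Algebra R B] [Algebra R C] [Algebra R S]
    (f : B' →ₐ[R] B) (hf : Function.Surjective f) (g : C →ₐ[R] B)
    (hJ : Function.Injective (LinearMap.lTensor S (LinearMap.ker f.toLinearMap).subtype)) :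
    letI P := AlgHom.equalizer (f.comp (AlgHom.fst R B' C)) (g.comp (AlgHom.snd R B' C))
    letI φ₁ := Algebra.TensorProduct.map (AlgHom.id R S) ((AlgHom.fst R B' C).comp P.val)
    letI φ₂ := Algebra.TensorProduct.map (AlgHom.id R S) ((AlgHom.snd R B' C).comp P.val)
    Function.Injective (fun z : S ⊗[R] ↥P => (φ₁ z, φ₂ z)) ∧
    ∀ (x : S ⊗[R] B') (y : S ⊗[R] C),
      Algebra.TensorProduct.map (AlgHom.id R S) f x = Algebra.TensorProduct.map (AlgHom.id R S) g y →
        ∃ z : S ⊗[R] ↥P, φ₁ z = x ∧ φ₂ z = y := by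
  let P := AlgHom.equalizer (f.comp (AlgHom.fst R B' C)) (g.comp (AlgHom.snd R B' C))
  let k : LinearMap.ker f.toLinearMap →ₗ[R] P :=
    { toFun := fun j => ⟨((j : B'), (0 : C)), by
        change f j = g 0
        rw [map_zero]; exact j.2⟩
      map_add' := fun a b => by apply Subtype.ext; simp
      map_smul' := fun r a => by apply Subtype.ext; simp }
  have key := fibre_tensor S ((AlgHom.fst R B' C).comp P.val).toLinearMap
    ((AlgHom.snd R B' C).comp P.val).toLinearMap f.toLinearMap g.toLinearMap k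
    (LinearMap.ker f.toLinearMap).subtype (by ext j; rfl) (by ext j; rfl) ?_ ?_ ?_ hf ?_ hJ
  · simp only [← map_id_eq_lTensor] at key
    exact key
  · intro p
    constructor
    · intro hp
      have hp' : (p : B' × C).2 = 0 := hp
      have hmem : f (p : B' × C).1 = g (p : B' × C).2 := p.2
      refine ⟨⟨(p : B' × C).1, ?_⟩, ?_⟩
      · change f (p : B' × C).1 = 0
        rw [hmem, hp', map_zero]
      · apply Subtype.ext
        apply Prod.ext
        · rfl
        · exact hp'.symm
    · rintro ⟨j, rfl⟩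
      rfl
  · intro b
    constructor
    · intro hb
      exact ⟨⟨b, hb⟩, rfl⟩
    · rintro ⟨j, rfl⟩
      exact j.2
  · intro c
    obtain ⟨b, hb⟩ := hf (g c)
    exact ⟨⟨(b, c), hb⟩, rfl⟩
  · ext p
    exact p.2

end Groth.Agent.S3209
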