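import Groth.Statements.S3214
import Mathlib

set_option autoImplicit false
open Polynomial
universe u
open SGA7II

namespace Groth.Agent.S3214

lemma vieta (a : ℕ) :
    (∏ i : Fin a, (X - C (MvPolynomial.X i)) : (MvPolynomial (Fin a) ℤ)[X]) =
      ∑ j ∈ Finset.range (a + 1),
        (-1) ^ j * (C (MvPolynomial.esymm (Fin a) ℤ j) * X ^ (a - j)) := by
  let s := Finset.univ.val.map fun i => (MvPolynomial.X i : MvPolynomial (Fin a) ℤ)
  have hc : Multiset.card s = a := by
    rw [Multiset.card_map]; simp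
  have := Multiset.prod_X_sub_X_eq_sum_esymm s
  rw [hc] at this
  rw [MvPolynomial.esymm_eq_multiset_esymm (Fin a) ℤ, Finset.prod_eq_multiset_prod]
  convert this using 2
  simp_rw [s, Multiset.map_map, Function.comp_apply]

lemma monicP (a : ℕ) :
    (∏ i : Fin a, (X - C (MvPolynomial.X i)) : (MvPolynomial (Fin a) ℤ)[X]).Monic :=
  monic_prod_of_monic _ _ fun i _ => monic_X_sub_C _

lemma natDegP (a : ℕ) :
    (∏ i : Fin a, (X - C (MvPolynomial.X i)) : (MvPolynomial (Fin a) ℤ)[X]).natDegree = a := by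
  rw [natDegree_finsetProd_X_sub_C_eq_card]; simp

lemma mod_small (a m : ℕ) (hm : m < a) :
    ((X : (MvPolynomial (Fin a) ℤ)[X]) ^ m %ₘ
      (∏ i : Fin a, (X - C (MvPolynomial.X i)) : (MvPolynomial (Fin a) ℤ)[X])) = X ^ m := by
  rw [modByMonic_eq_self_iff (monicP a)]
  rw [degree_eq_natDegree (monicP a).ne_zero, natDegP, degree_X_pow]
  exact_mod_cast hm

/-- In the recursive form established in its proof: let A = Z[X_1, ..., X_a] (a >= 1), P = prod_i (T -
X_i) in A[T] and S_i the i-th elementary symmetric function. Writing a_j for the coefficient of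
T^{a-1} in the remainder of T^{a-1+j} modulo P, one has a_0 = 1 and sum_{i=0}^{a} (-1)^i S_i a_{j-i}
= 0 for every j > 0 (with a_m = 0 for m < 0); equivalently sum_j (-1)^j a_j is the inverse of sum_i
S_i. (The source works in formal power series; the identity involves only polynomials.) -/
theorem result (a : ℕ) (ha : 0 < a) :
    let P : (MvPolynomial (Fin a) ℤ)[X] := ∏ i : Fin a, (X - C (MvPolynomial.X i))
    let coef : ℤ → MvPolynomial (Fin a) ℤ := fun j =>
      if j < 0 then 0 else ((X : (MvPolynomial (Fin a) ℤ)[X]) ^ (a - 1 + j.toNat) %ₘ P).coeff (a - 1)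
    coef 0 = 1 ∧ ∀ j : ℕ, 0 < j →
      (∑ i ∈ Finset.range (a + 1), (-1 : MvPolynomial (Fin a) ℤ) ^ i * MvPolynomial.esymm (Fin a) ℤ i *
        coef ((j : ℤ) - i)) = 0 := by
  intro P coef
  constructor
  · simp only [coef, lt_self_iff_false, if_false, Int.toNat_zero, add_zero]
    rw [mod_small a (a - 1) (by omega)]
    simp
  · intro j hj
    let L : (MvPolynomial (Fin a) ℤ)[X] →ₗ[MvPolynomial (Fin a) ℤ] MvPolynomial (Fin a) ℤ :=
      (lcoeff (MvPolynomial (Fin a) ℤ) (a - 1)) ∘ₗ (modByMonicHom P)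
    have hL : ∀ q, L q = (q %ₘ P).coeff (a - 1) := fun q => rfl
    have h0 : L (P * X ^ (j - 1)) = 0 := by
      rw [hL, (modByMonic_eq_zero_iff_dvd (monicP a)).mpr (dvd_mul_right _ _)]
      simp
    have hP : P * X ^ (j - 1) = ∑ i ∈ Finset.range (a + 1),
        ((-1 : MvPolynomial (Fin a) ℤ) ^ i * MvPolynomial.esymm (Fin a) ℤ i) • X ^ (a - i + (j - 1)) := by
      change (∏ i : Fin a, (X - C (MvPolynomial.X i))) * X ^ (j - 1) = _
      rw [vieta, Finset.sum_mul]
      refine Finset.sum_congr rfl fun i _ => ?_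
      rw [smul_eq_C_mul, map_mul, map_pow, map_neg, map_one, pow_add]
      ring
    rw [hP, map_sum] at h0
    rw [← h0]
    refine Finset.sum_congr rfl fun i hi => ?_
    rw [Finset.mem_range] at hi
    rw [map_smul, smul_eq_mul]
    congr 1
    simp only [coef]
    split_ifs with hlt
    · have hij : j < i := by omega
      rw [hL, mod_small a _ (by omega), coeff_X_pow, if_neg (by omega)]
    · have hij : i ≤ j := by omega
      rw [hL]
      have : ((j : ℤ) - (i : ℤ)).toNat = j - i := by omega
      rw [this]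
      have : a - i + (j - 1) = a - 1 + (j - i) := by omega
      rw [this]

end Groth.Agent.S3214
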