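import Groth.Statements.S3258
import Groth.Agent.Lib.Helper5.ArS.RelMinD

set_option autoImplicit false
universe u
open AlgebraicGeometry CategoryTheory CategoryTheory.Limits
open ArSurf

namespace Groth.Agent.S3258

open Groth.Agent.H5.ArS

/-- Let R be a Dedekind domain and X an arithmetic surface over Spec R (a regular, integral scheme of
dimension 2, flat and projective over Spec R) which is smooth over Spec R. Then X is relatively
minimal: every R-morphism from X to a regular, projective, flat R-scheme that is an isomorphism on
generic fibres is an isomorphism. -/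
theorem result {R : Type u} [CommRing R] [IsDedekindDomain R]
    (X : Over (Spec (CommRingCat.of R))) (hX : ArSurf.IsArithSurface R X) [Smooth X.hom] :
    Neron.IsRelMinimalRegularModel R X := by
  obtain ⟨hreg, hint, hdim, hflat, n, i, hi, hw⟩ := hX
  refine ⟨hreg, ⟨n, i, hi, hw⟩, hflat, ?_⟩
  intro Y hYreg hYproj hYflat g hgK
  haveI := hint
  haveI := hflat
  haveI := hYflat
  haveI : IsProper X.hom := by
    haveI := hi
    haveI := Groth.Agent.H5.AG.isProper_toBase n (Spec (CommRingCat.of R))
    rw [← hw]
    infer_instance
  haveI : IsProper Y.hom := by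
    obtain ⟨m, i', hi', hw'⟩ := hYproj
    haveI := hi'
    haveI := Groth.Agent.H5.AG.isProper_toBase m (Spec (CommRingCat.of R))
    rw [← hw']
    infer_instance
  exact Groth.Agent.H5.ArS.isIso_of_smooth_of_isIso_genericFibre X Y hdim.le hYreg g hgK

end Groth.Agent.S3258
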