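import Groth.Statements.S3322
import Groth.Agent.Lib.Helper5.ArS.NumType

set_option autoImplicit false
universe u
open CategoryTheory CategoryTheory.Limits AlgebraicGeometry
open Models

namespace Groth.Agent.S3322



/-- In the following situation (R a discrete valuation ring with residue field k, C a smooth proper
curve over its fraction field K with H^0(C, O_C) = K, X a regular proper model, Γ_1, …, Γ_n the
irreducible components of the closed fibre with multiplicities m_i, L_i ⊗ I(Γ_i) ≅ O_X) the data n,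
m_i, a_ij = (Γ_i · Γ_j) = deg_k(L_j|Γ_i), w_i = dim_k H^0(Γ_i, O) and g_i with w_i g_i = dim_k
H^1(Γ_i, O) is a numerical type (n > 0, m_i > 0, (a_ij) symmetric with non-negative off-diagonal
entries, connected, killing m, w_i | a_ij, g_i ≥ 0), and its genus is the genus dim_K H^1(C, O_C) of
C. -/
theorem result (R : Type u) [CommRing R] [IsDomain R] [IsDiscreteValuationRing R]
    (C X : Scheme.{u}) (f : C ⟶ Spec (CommRingCat.of (FractionRing R))) (p : X ⟶ Spec (CommRingCat.of R))
    (hC : Curve.IsSmoothProperCurve (FractionRing R) C f) (hH0 : IsIso f.appTop)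
    (hX : Models.IsRegularProperModel R X p C f)
    {n : ℕ} (Γ : Fin n → ArSurf.VertComp R (Over.mk p)) (hΓ : Models.IsComponentList R (Over.mk p) Γ)
    (L : Fin n → X.Modules) (hL : ∀ i, ClSub.IsInverseOf (L i) (ClSub.idealMod (Γ i).ι.ker)) :
    ∃ T : Models.NumericalType n,
      (∀ i, T.m i = (Models.mult R (Over.mk p) (Γ i) : ℤ)) ∧ (∀ i j, T.a i j = ArSurf.inter R (Over.mk p) (L j) (Γ i)) ∧
      (∀ i, T.w i = (Models.wdeg R (Over.mk p) (Γ i) : ℤ)) ∧
      (∀ i, T.w i * T.g i = (Models.h1 R (Over.mk p) (Γ i) : ℤ)) ∧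
      T.genus = (Models.curveGenus (FractionRing R) C f : ℤ) := by
  classical
  have hp : IsProper (Over.mk p).hom := hX.2.1
  haveI : Flat (Over.mk p).hom := hX.1.1
  haveI : LocallyOfFiniteType p := hX.1.2.1
  haveI : IsLocallyNoetherian (Over.mk p).left := LocallyOfFiniteType.isLocallyNoetherian p
  have hreg : Models.IsRegularScheme (Over.mk p).left := hX.2.2
  have hconn := Groth.Agent.H5.ArS.isConnected_specialFibreSet_of_model f p hX hH0
  have hn : 0 < n := by
    obtain ⟨x, hx⟩ := hconn.nonempty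
    obtain ⟨i, -⟩ := Groth.Agent.H5.ArS.exists_mem_range_of_mem_specialFibreSet Γ hΓ x hx
    exact i.pos
  have hsymm : ∀ i j, ArSurf.inter R (Over.mk p) (L i) (Γ j) =
      ArSurf.inter R (Over.mk p) (L j) (Γ i) :=
    fun i j => Groth.Agent.H5.ArS.inter_symm' hp hreg Γ hΓ L hL i j
  have hwdvd : ∀ i, Models.wdeg R (Over.mk p) (Γ i) ∣ Models.h1 R (Over.mk p) (Γ i) :=
    fun i => Groth.Agent.H5.ArS.wdeg_dvd_h1 hp (Γ i)
  have hwpos : ∀ i, 0 < Models.wdeg R (Over.mk p) (Γ i) :=
    fun i => Groth.Agent.H5.ArS.wdeg_pos hp (Γ i)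
  let T : Models.NumericalType n :=
    { m := fun i => (Models.mult R (Over.mk p) (Γ i) : ℤ)
      a := Matrix.of (fun i j => ArSurf.inter R (Over.mk p) (L j) (Γ i))
      w := fun i => (Models.wdeg R (Over.mk p) (Γ i) : ℤ)
      g := fun i => ((Models.h1 R (Over.mk p) (Γ i) / Models.wdeg R (Over.mk p) (Γ i) : ℕ) : ℤ)
      pos := hn
      m_pos := fun i => by exact_mod_cast Groth.Agent.H5.ArS.mult_pos hreg Γ hΓ i
      w_pos := fun i => by exact_mod_cast hwpos i
      g_nonneg := fun i => Int.natCast_nonneg _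
      symm := Matrix.IsSymm.ext (fun i j => hsymm i j)
      offDiag_nonneg := fun i j hij =>
        (Groth.Agent.H5.ArS.inter_offdiag hp Γ hΓ L hL i j hij).2.1
      connected := by
        intro I hI hne
        by_contra hcon
        push Not at hcon
        exact hne (Groth.Agent.H5.ArS.indecomposable_of_isPreconnected hp Γ hΓ L hL
          hconn.isPreconnected I hI (fun i hi j hj => hcon i hi j hj))
      mulVec_m := by
        funext i
        have h := Groth.Agent.H5.ArS.sum_mult_inter_eq_zero hp hreg Γ hΓ L hL (Γ i)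
        change ∑ j, ArSurf.inter R (Over.mk p) (L j) (Γ i) *
          (Models.mult R (Over.mk p) (Γ j) : ℤ) = 0
        rw [← h]
        exact Finset.sum_congr rfl (fun j _ => mul_comm _ _)
      w_dvd := fun i j => Groth.Agent.H5.ArS.wdeg_dvd_inter hp (Γ i) (L j) }
  have hwg : ∀ i, T.w i * T.g i = (Models.h1 R (Over.mk p) (Γ i) : ℤ) := by
    intro i
    change (Models.wdeg R (Over.mk p) (Γ i) : ℤ) *
      ((Models.h1 R (Over.mk p) (Γ i) / Models.wdeg R (Over.mk p) (Γ i) : ℕ) : ℤ) = _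
    exact_mod_cast Nat.mul_div_cancel' (hwdvd i)
  refine ⟨T, fun i => rfl, fun i j => rfl, fun i => rfl, hwg, ?_⟩
  have h := Groth.Agent.H5.ArS.two_sub_two_genus_eq f p hX hH0 Γ hΓ L hL
  unfold Models.NumericalType.genus
  have e1 : ∑ i, T.m i * T.a i i = ∑ i, (Models.mult R (Over.mk p) (Γ i) : ℤ) *
      ArSurf.inter R (Over.mk p) (L i) (Γ i) := rfl
  have e2 : ∑ i, T.m i * T.w i * (T.g i - 1) =
      ∑ i, (Models.mult R (Over.mk p) (Γ i) : ℤ) *
        ((Models.h1 R (Over.mk p) (Γ i) : ℤ) - (Models.wdeg R (Over.mk p) (Γ i) : ℤ)) := by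
    refine Finset.sum_congr rfl (fun i _ => ?_)
    rw [mul_assoc, mul_sub, hwg i, mul_one]
  have e3 : ∑ i, (Models.mult R (Over.mk p) (Γ i) : ℤ) *
      ((Models.wdeg R (Over.mk p) (Γ i) : ℤ) - (Models.h1 R (Over.mk p) (Γ i) : ℤ)) =
      -∑ i, (Models.mult R (Over.mk p) (Γ i) : ℤ) *
        ((Models.h1 R (Over.mk p) (Γ i) : ℤ) - (Models.wdeg R (Over.mk p) (Γ i) : ℤ)) := by
    rw [← Finset.sum_neg_distrib]
    exact Finset.sum_congr rfl (fun i _ => by ring)
  rw [e1, e2]
  rw [e3] at h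
  omega

end Groth.Agent.S3322
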