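import Groth.Statements.S3324
import Groth.Agent.Lib.Helper5.ArS.ChiGeo

set_option autoImplicit false
universe u
open CategoryTheory CategoryTheory.Limits AlgebraicGeometry
open Models

namespace Groth.Agent.S3324



/-- In the following situation (R a discrete valuation ring with residue field k, C a smooth proper
curve over its fraction field K with H^0(C, O_C) = K, X a regular proper model, Γ_1, …, Γ_n the
irreducible components of the closed fibre with multiplicities m_i) let d = gcd(m_1, …, m_n) and let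
D be the closed subscheme Σ (m_i/d) Γ_i, with ideal sheaf Π I(Γ_i)^{m_i/d}. Then κ = H^0(D, O_D) is
a field and 1 - g_C = d [κ : k] (1 - g_D), where g_C = dim_K H^1(C, O_C) and g_D = dim_κ H^1(D,
O_D). Here the right hand side is written as d (dim_k H^0(D, O_D) - dim_k H^1(D, O_D)), the
k-dimensions being computed as R-lengths of the cohomology groups of O_D on X. -/
theorem result (R : Type u) [CommRing R] [IsDomain R] [IsDiscreteValuationRing R]
    (C X : Scheme.{u}) (f : C ⟶ Spec (CommRingCat.of (FractionRing R))) (p : X ⟶ Spec (CommRingCat.of R))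
    (hC : Curve.IsSmoothProperCurve (FractionRing R) C f) (hH0 : IsIso f.appTop)
    (hX : Models.IsRegularProperModel R X p C f)
    {n : ℕ} (Γ : Fin n → ArSurf.VertComp R (Over.mk p)) (hΓ : Models.IsComponentList R (Over.mk p) Γ) :
    IsField ↑(Γ((∏ i, (Γ i).ι.ker ^ (Models.mult R (Over.mk p) (Γ i) / Models.multGcd R (Over.mk p) Γ)).subscheme, ⊤)) ∧
      (1 : ℤ) - (Models.curveGenus (FractionRing R) C f : ℤ) =
        (Models.multGcd R (Over.mk p) Γ : ℤ) * ((Models.lengthH R (Over.mk p) (ClSub.quotMod (∏ i, (Γ i).ι.ker ^ (Models.mult R (Over.mk p) (Γ i) / Models.multGcd R (Over.mk p) Γ))) 0 : ℤ) -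
          (Models.lengthH R (Over.mk p) (ClSub.quotMod (∏ i, (Γ i).ι.ker ^ (Models.mult R (Over.mk p) (Γ i) / Models.multGcd R (Over.mk p) Γ))) 1 : ℤ)) := by
  classical
  have hp : IsProper (Over.mk p).hom := hX.2.1
  haveI : Flat (Over.mk p).hom := hX.1.1
  haveI : LocallyOfFiniteType p := hX.1.2.1
  haveI : IsLocallyNoetherian (Over.mk p).left := LocallyOfFiniteType.isLocallyNoetherian p
  have hconn := Groth.Agent.H5.ArS.isConnected_specialFibreSet_of_model f p hX hH0
  obtain ⟨s, a, -, hl, -, hF⟩ := Groth.Agent.H5.ArS.exists_chain_fields (X := Over.mk p) hp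
    hX.2.2 Γ hΓ hconn
  have hI : ∀ j, BlowUp.IsEffCartierIdeal (Γ j).ι.ker :=
    fun j => Groth.Agent.H5.ArS.isEffCartierIdeal_ker hX.2.2 Γ hΓ j
  have hex : ∀ j, ∃ L : X.Modules, ClSub.IsInverseOf L (ClSub.idealMod (Γ j).ι.ker) := by
    intro j
    obtain ⟨L', -, ⟨e⟩⟩ := Groth.Agent.H5.Glue.exists_inverse (ClSub.idealMod (Γ j).ι.ker)
      ((Groth.Agent.LD.QC.isInvertible_idealMod_iff _).mpr (hI j))
    exact ⟨L', ⟨Groth.Agent.LD.QC.tensorCommGen _ _ ≪≫ e⟩⟩
  choose L hL using hex
  refine ⟨?_, ?_⟩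
  · have h := hF (Fin.last s)
    rw [hl] at h
    exact h
  · refine Groth.Agent.H5.ArS.one_sub_genus_eq_of_proportional f p hX hH0 Γ hΓ L hL
      (fun i => Models.mult R (Over.mk p) (Γ i) / Models.multGcd R (Over.mk p) Γ)
      (Models.multGcd R (Over.mk p) Γ) (fun j => ?_)
    exact Nat.mul_div_cancel' (Finset.gcd_dvd (Finset.mem_univ j))

end Groth.Agent.S3324
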