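import Groth.Statements.S3340
import Groth.Agent.Lib.Helper5.ArS.ModelPic3

set_option autoImplicit false
universe u
open CategoryTheory CategoryTheory.Limits AlgebraicGeometry
open Models

namespace Groth.Agent.S3340

open scoped Groth.Agent.H5.PicLaw

/-- In the following situation (R a discrete valuation ring, C a smooth proper curve over its fraction
field K with H^0(C, O_C) = K, X a regular proper model with generic-fibre inclusion g, Γ_1, …, Γ_n
the irreducible components of the closed fibre with multiplicities m_i) let d = gcd(m_1, …, m_n). If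
M is an invertible O_X-module whose pullback to C is trivial and whose degree on each Γ_i is zero,
then the d-th tensor power of M is trivial. -/
theorem result (R : Type u) [CommRing R] [IsDomain R] [IsDiscreteValuationRing R]
    (C X : Scheme.{u}) (f : C ⟶ Spec (CommRingCat.of (FractionRing R))) (p : X ⟶ Spec (CommRingCat.of R))
    (hC : Curve.IsSmoothProperCurve (FractionRing R) C f) (hH0 : IsIso f.appTop)
    (hX : Models.IsRegularProperModel R X p C f)
    {n : ℕ} (Γ : Fin n → ArSurf.VertComp R (Over.mk p)) (hΓ : Models.IsComponentList R (Over.mk p) Γ)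
    (g : C ⟶ X) (hg : IsPullback g f p (Spec.map (CommRingCat.ofHom (algebraMap R (FractionRing R))))) (M : X.Modules) (hM : PicF.IsInvertible M)
    (htriv : Nonempty ((Scheme.Modules.pullback g).obj M ≅ Coh.structureModule C))
    (hdeg : ∀ i, ArSurf.inter R (Over.mk p) M (Γ i) = 0) :
    Nonempty (CohB1.tensorPow M (Models.multGcd R (Over.mk p) Γ) ≅ Coh.structureModule X) := by
  haveI : Flat (Over.mk p).hom := hX.1.1
  haveI : LocallyOfFiniteType p := hX.1.2.1
  haveI : IsLocallyNoetherian (Over.mk p).left := LocallyOfFiniteType.isLocallyNoetherian p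
  have hI : ∀ j, BlowUp.IsEffCartierIdeal (Γ j).ι.ker :=
    fun j => Groth.Agent.H5.ArS.isEffCartierIdeal_ker hX.2.2 Γ hΓ j
  have hex : ∀ j, ∃ L : X.Modules, ClSub.IsInverseOf L (ClSub.idealMod (Γ j).ι.ker) := by
    intro j
    obtain ⟨L', -, ⟨e⟩⟩ := Groth.Agent.H5.Glue.exists_inverse (ClSub.idealMod (Γ j).ι.ker)
      ((Groth.Agent.LD.QC.isInvertible_idealMod_iff _).mpr (hI j))
    exact ⟨L', ⟨Groth.Agent.LD.QC.tensorCommGen _ _ ≪≫ e⟩⟩
  choose L hL using hex
  have h1 := Groth.Agent.H5.ArS.clsOf_pow_multGcd_eq_one f p hX hH0 Γ hΓ L hL g hg M hM htriv hdeg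
  rw [← Groth.Agent.H5.PicLaw.clsOf_pow hM] at h1
  exact (Groth.Agent.H5.PicLaw.clsOf_eq_one_iff
    (Groth.Agent.LD.QC.isInvertible_tensorPow hM _)).mp h1

end Groth.Agent.S3340
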