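import Groth.Statements.S3350
import Groth.Agent.H4.NumType

set_option autoImplicit false
open Finset
open Models Models.NumericalType

namespace Groth.Agent.S3350

/-- Classification of proper subgraphs with two vertices: Let T be a numerical type on n > 2 indices and
i ≠ j two (-2)-indices (g = 0 and a_ii = -2 w_i, a_jj = -2 w_j) with a_ij > 0. Then, after possibly
exchanging i and j, one of the following holds with w = w_i: (A2) w_j = w, a_ij = w, 2 m_i ≥ m_j and
2 m_j ≥ m_i; (B2) w_j = 2w, a_ij = 2w, m_i ≥ m_j and 2 m_j ≥ m_i; (G2) w_j = 3w, a_ij = 3w, 2 m_i ≥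
3 m_j and 2 m_j ≥ m_i. -/
theorem result {n : ℕ} (T : Models.NumericalType n) (hn : 2 < n) (i j : Fin n)
    (hij : i ≠ j) (hi : T.IsMinusTwo i) (hj : T.IsMinusTwo j) (hpos : 0 < T.a i j) :
    ∃ i' j' : Fin n, ((i' = i ∧ j' = j) ∨ (i' = j ∧ j' = i)) ∧
      ((T.w j' = T.w i' ∧ T.a i' j' = T.w i' ∧ T.m j' ≤ 2 * T.m i' ∧ T.m i' ≤ 2 * T.m j') ∨
        (T.w j' = 2 * T.w i' ∧ T.a i' j' = 2 * T.w i' ∧ T.m j' ≤ T.m i' ∧ T.m i' ≤ 2 * T.m j') ∨
        (T.w j' = 3 * T.w i' ∧ T.a i' j' = 3 * T.w i' ∧ 3 * T.m j' ≤ 2 * T.m i' ∧ T.m i' ≤ 2 * T.m j')) := by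
  have hlt : 2 < n := hn
  obtain ⟨v, hv0, hv1⟩ : ∃ v : Fin 2 ↪ Fin n, v 0 = i ∧ v 1 = j :=
    ⟨Groth.Agent.H4.NumType.emb2 hij, rfl, rfl⟩
  subst hv0 hv1
  have hd0 : T.a (v 0) (v 0) = -2 * T.w (v 0) := hi.2
  have hd1 : T.a (v 1) (v 1) = -2 * T.w (v 1) := hj.2
  have hs : T.a (v 1) (v 0) = T.a (v 0) (v 1) := Groth.Agent.H4.NumType.a_symm T _ _
  have hw0 := T.w_pos (v 0)
  have hw1 := T.w_pos (v 1)
  have hm0 := T.m_pos (v 0)
  have hm1 := T.m_pos (v 1)
  have hrow0 := Groth.Agent.H4.NumType.row_le T v 0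
  have hrow1 := Groth.Agent.H4.NumType.row_le T v 1
  simp [Fin.sum_univ_succ] at hrow0 hrow1
  rw [hd0] at hrow0
  rw [hd1, hs] at hrow1
  have c0 := Groth.Agent.H4.NumType.mult_cases_left T hpos
  have c1 := Groth.Agent.H4.NumType.mult_cases_right T hpos
  -- exclusions via the key lemma
  have key : ∀ s t : ℤ, 0 < s → 0 < t → 2 * T.w (v 0) * s ≤ T.a (v 0) (v 1) * t →
      2 * T.w (v 1) * t ≤ T.a (v 0) (v 1) * s → False := by
    intro s t hs0 ht0 h1 h2
    refine Groth.Agent.H4.NumType.key_emb T v hlt ![s, t] ?_ ⟨0, by simpa using hs0⟩ ?_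
    · intro l; fin_cases l <;> simp <;> omega
    · intro l _
      fin_cases l <;> simp [Fin.sum_univ_succ]
      · rw [hd0]; linarith
      · rw [hd1, hs]; linarith
  have e1 : ¬ (2 * T.w (v 0) ≤ T.a (v 0) (v 1) ∧ 2 * T.w (v 1) ≤ T.a (v 0) (v 1)) := by
    rintro ⟨h1, h2⟩; exact key 1 1 one_pos one_pos (by linarith) (by linarith)
  have e2 : ¬ (4 * T.w (v 1) ≤ T.a (v 0) (v 1)) := by
    intro h2
    have := Groth.Agent.H4.NumType.w_le_left T hpos
    exact key 1 2 one_pos two_pos (by linarith) (by linarith)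
  have e3 : ¬ (4 * T.w (v 0) ≤ T.a (v 0) (v 1)) := by
    intro h2
    have := Groth.Agent.H4.NumType.w_le_right T hpos
    exact key 2 1 two_pos one_pos (by linarith) (by linarith)
  have cancel : ∀ {w x y : ℤ}, 0 < w → w * x ≤ w * y → x ≤ y := fun hw h => le_of_mul_le_mul_left h hw
  rcases c0 with a0 | a0 | a0 | a0
  · -- A = w0 ; i' = v 1, j' = v 0
    refine ⟨v 1, v 0, Or.inr ⟨rfl, rfl⟩, ?_⟩
    rw [hs]
    rcases c1 with a1 | a1 | a1 | a1
    · left
      refine ⟨by linarith, a1, ?_, ?_⟩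
      · apply cancel hw1; rw [a1] at hrow1; linarith
      · apply cancel hw0; rw [a0] at hrow0; linarith
    · right; left
      refine ⟨by linarith, a1, ?_, ?_⟩
      · apply cancel hw1; rw [a1] at hrow1; linarith
      · apply cancel hw0; rw [a0] at hrow0; linarith
    · right; right
      refine ⟨by linarith, a1, ?_, ?_⟩
      · apply cancel hw1; rw [a1] at hrow1; linarith
      · apply cancel hw0; rw [a0] at hrow0; linarith
    · exact absurd a1 e2
  all_goals
    rcases c1 with a1 | a1 | a1 | a1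
    · refine ⟨v 0, v 1, Or.inl ⟨rfl, rfl⟩, ?_⟩
      first
      | (left
         refine ⟨by linarith, by linarith, ?_, ?_⟩
         · apply cancel hw0; rw [a0] at hrow0; linarith
         · apply cancel hw1; rw [a1] at hrow1; linarith)
      | (right; left
         refine ⟨by linarith, by linarith, ?_, ?_⟩
         · apply cancel hw0; rw [a0] at hrow0; linarith
         · apply cancel hw1; rw [a1] at hrow1; linarith)
      | (right; right
         refine ⟨by linarith, by linarith, ?_, ?_⟩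
         · apply cancel hw0; rw [a0] at hrow0; linarith
         · apply cancel hw1; rw [a1] at hrow1; linarith)
      | exact absurd a0 e3
    · first
      | exact absurd ⟨by linarith, by linarith⟩ e1
      | exact absurd a0 e3
    · first
      | exact absurd ⟨by linarith, by linarith⟩ e1
      | exact absurd a0 e3
    · exact absurd a1 e2

end Groth.Agent.S3350
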