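import Groth.Statements.S3351
import Mathlib

set_option autoImplicit false
open Models

namespace Groth.Agent.S3351

section
variable {L : Type} [AddCommGroup L] [Module.Finite ℤ L] [Module.Free ℤ L]

/-- functionals on a saturated submodule extend -/
theorem extend_dual (N : Submodule ℤ L) (hN : ∀ (c : ℤ) (x : L), c ≠ 0 → c • x ∈ N → x ∈ N)
    (ψ : Module.Dual ℤ ↥N) : ∃ φ : Module.Dual ℤ L, φ ∘ₗ N.subtype = ψ := by
  haveI : NoZeroSMulDivisors ℤ (L ⧸ N) := by
    refine ⟨fun {c q} h => ?_⟩
    by_cases hc : c = 0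
    · exact Or.inl hc
    · right
      obtain ⟨x, rfl⟩ := N.mkQ_surjective q
      rw [← map_smul, Submodule.mkQ_apply, Submodule.Quotient.mk_eq_zero] at h
      rw [Submodule.mkQ_apply, Submodule.Quotient.mk_eq_zero]
      exact hN c x hc h
  haveI : Module.Free ℤ (L ⧸ N) := Module.free_of_finite_type_torsion_free'
  obtain ⟨s, hs⟩ := Module.projective_lifting_property N.mkQ LinearMap.id N.mkQ_surjective
  let r₀ : L →ₗ[ℤ] L := LinearMap.id - s ∘ₗ N.mkQ
  have hr₀ : ∀ x, r₀ x ∈ N := by
    intro x
    rw [← Submodule.Quotient.mk_eq_zero, ← Submodule.mkQ_apply]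
    simp only [r₀, LinearMap.sub_apply, LinearMap.id_apply, LinearMap.comp_apply, map_sub]
    have := LinearMap.congr_fun hs (N.mkQ x)
    simp only [LinearMap.comp_apply, LinearMap.id_apply] at this
    rw [this, sub_self]
  let r : L →ₗ[ℤ] N := r₀.codRestrict N hr₀
  refine ⟨ψ ∘ₗ r, ?_⟩
  ext x
  simp only [LinearMap.comp_apply, Submodule.subtype_apply]
  congr 1
  apply Subtype.ext
  simp only [r, LinearMap.codRestrict_apply, r₀, LinearMap.sub_apply, LinearMap.id_apply,
    LinearMap.comp_apply]
  have : N.mkQ (x : L) = 0 := by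
    rw [Submodule.mkQ_apply, Submodule.Quotient.mk_eq_zero]; exact x.2
  rw [this, map_zero, sub_zero]

/-- key lemma: a nonzero multiple of `y` decomposes -/
theorem exists_decomp (B : LinearMap.BilinForm ℤ L) (hsymm : B.IsSymm)
    (hpos : ∀ x, x ≠ 0 → 0 < B x x) (A : Submodule ℤ L) (y : L) :
    ∃ d : ℤ, d ≠ 0 ∧ ∃ a ∈ A, d • y - a ∈ B.orthogonal A := by
  classical
  let b := Module.Free.chooseBasis ℤ A
  let ι := Module.Free.ChooseBasisIndex ℤ A
  let G : Matrix ι ι ℤ := fun i j => B (b i : L) (b j : L)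
  have hdet : G.det ≠ 0 := by
    intro h0
    obtain ⟨v, hv, hGv⟩ := Matrix.exists_mulVec_eq_zero_iff.mpr h0
    let a : A := ∑ i, v i • b i
    have ha0 : a ≠ 0 := by
      intro h
      apply hv
      have := Fintype.linearIndependent_iff.mp b.linearIndependent v h
      ext i; exact this i
    have hk : ∀ k, B (b k : L) (a : L) = 0 := by
      intro k
      have := congrFun hGv k
      simp only [Matrix.mulVec, dotProduct, G, Pi.zero_apply] at this
      simp only [a, Submodule.coe_sum, Submodule.coe_smul, map_sum, map_smul, smul_eq_mul]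
      rw [← this]
      refine Finset.sum_congr rfl fun i _ => by ring
    have haa : B (a : L) (a : L) = 0 := by
      conv_lhs => arg 1; rw [show (a : L) = ∑ i, v i • (b i : L) by simp [a]]
      simp only [map_sum, map_smul, LinearMap.sum_apply, LinearMap.smul_apply, hk, smul_zero,
        Finset.sum_const_zero]
    have : (a : L) ≠ 0 := fun h => ha0 (Subtype.ext h)
    exact absurd haa (ne_of_gt (hpos _ this))
  refine ⟨G.det, hdet, ?_⟩
  let w : ι → ℤ := fun j => B (b j : L) y
  let c : ι → ℤ := G.adjugate.mulVec w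
  let a : A := ∑ i, c i • b i
  refine ⟨a, a.2, ?_⟩
  -- check orthogonality on basis
  have hGc : G.mulVec c = G.det • w := by
    simp only [c, Matrix.mulVec_mulVec, Matrix.mul_adjugate, Matrix.smul_mulVec, Matrix.one_mulVec]
  have hk : ∀ k, B (b k : L) (G.det • y - a) = 0 := by
    intro k
    have := congrFun hGc k
    simp only [Matrix.mulVec, dotProduct, G, Pi.smul_apply, smul_eq_mul, w] at this
    simp only [a, Submodule.coe_sum, Submodule.coe_smul, map_sub, map_sum, map_smul, smul_eq_mul]
    rw [← this, sub_eq_zero]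
    refine Finset.sum_congr rfl fun i _ => by ring
  rw [LinearMap.BilinForm.mem_orthogonal_iff]
  intro n hn
  have hn' : (⟨n, hn⟩ : A) = ∑ i, b.repr ⟨n, hn⟩ i • b i := (b.sum_repr ⟨n, hn⟩).symm
  have hn'' : n = ∑ i, b.repr ⟨n, hn⟩ i • (b i : L) := by
    have h3 := congrArg (fun t : A => (t : L)) hn'
    simp only [Submodule.coe_sum, Submodule.coe_smul] at h3
    exact h3
  rw [hn'']
  simp only [map_sum, map_smul, LinearMap.sum_apply, LinearMap.smul_apply, hk, smul_zero,
    Finset.sum_const_zero]

theorem double_orth (B : LinearMap.BilinForm ℤ L) (hsymm : B.IsSymm)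
    (hpos : ∀ x, x ≠ 0 → 0 < B x x) (A : Submodule ℤ L)
    (htf : ∀ (c : ℤ) (x : L), c ≠ 0 → c • x ∈ A → x ∈ A) (y : L)
    (hy : ∀ b' ∈ B.orthogonal A, B y b' = 0) : y ∈ A := by
  obtain ⟨d, hd, a, ha, hz⟩ := exists_decomp B hsymm hpos A y
  set z := d • y - a with hzdef
  have h1 : B z z = 0 := by
    have e1 : B z z = d * B y z - B a z := by
      conv_lhs => arg 1; rw [hzdef]
      simp [map_sub, map_smul]
    have e2 : B y z = 0 := hy z hz
    have e3 : B a z = 0 := (LinearMap.BilinForm.mem_orthogonal_iff.mp hz) a ha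
    rw [e1, e2, e3]; ring
  have hz0 : z = 0 := by
    by_contra hne
    exact absurd h1 (ne_of_gt (hpos z hne))
  have : d • y = a := sub_eq_zero.mp hz0
  exact htf d y hd (this ▸ ha)
end

/-- Let L be a finite free Z-module with a positive definite symmetric integral bilinear form, A ⊆ L a
submodule with L/A torsion free and B the orthogonal complement of A. Write M^# for the dual lattice
of a sublattice M, identified here with the Z-dual Hom(M, Z) through the form. Then the natural maps
L/(A ⊕ B) → B^#/B and L/(A ⊕ B) → A^#/A are injective: an element x of L whose functional ⟨x, -⟩ on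
B (resp. on A) is represented by an element of B (resp. of A) lies in A ⊕ B. Moreover the
restriction maps L^# → B^# and L^# → A^# are surjective, so that the cokernels of the two injections
are quotients of L^#/L. -/
theorem result {L : Type} [AddCommGroup L] [Module.Finite ℤ L] [Module.Free ℤ L]
    (B : LinearMap.BilinForm ℤ L) (hsymm : B.IsSymm) (hpos : ∀ x, x ≠ 0 → 0 < B x x)
    (A : Submodule ℤ L) (htf : ∀ (c : ℤ) (x : L), c ≠ 0 → c • x ∈ A → x ∈ A) :
    (∀ x : L, (∃ b ∈ B.orthogonal A, ∀ b' ∈ B.orthogonal A, B x b' = B b b') → x ∈ A ⊔ B.orthogonal A) ∧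
      (∀ x : L, (∃ a ∈ A, ∀ a' ∈ A, B x a' = B a a') → x ∈ A ⊔ B.orthogonal A) ∧
      (∀ ψ : Module.Dual ℤ ↥(B.orthogonal A), ∃ φ : Module.Dual ℤ L, φ ∘ₗ (B.orthogonal A).subtype = ψ) ∧
      (∀ ψ : Module.Dual ℤ ↥A, ∃ φ : Module.Dual ℤ L, φ ∘ₗ A.subtype = ψ) := by
  refine ⟨?_, ?_, ?_, ?_⟩
  · rintro x ⟨b, hb, h⟩
    have hxb : x - b ∈ A := by
      apply double_orth B hsymm hpos A htf
      intro b' hb'
      rw [map_sub, LinearMap.sub_apply, h b' hb', sub_self]
    have : x = (x - b) + b := by abel
    rw [this]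
    exact Submodule.add_mem_sup hxb hb
  · rintro x ⟨a, ha, h⟩
    have hxa : x - a ∈ B.orthogonal A := by
      rw [LinearMap.BilinForm.mem_orthogonal_iff]
      intro n hn
      rw [map_sub, ← hsymm.eq x n, ← hsymm.eq a n]
      change B x n - B a n = 0
      rw [h n hn, sub_self]
    have : x = a + (x - a) := by abel
    rw [this]
    exact Submodule.add_mem_sup ha hxa
  · intro ψ
    refine extend_dual (B.orthogonal A) ?_ ψ
    intro c x hc hcx
    rw [LinearMap.BilinForm.mem_orthogonal_iff] at hcx ⊢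
    intro n hn
    have := hcx n hn
    rw [map_smul, smul_eq_mul] at this
    exact (mul_eq_zero.mp this).resolve_left hc
  · intro ψ
    exact extend_dual A htf ψ

end Groth.Agent.S3351
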