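import Groth.Statements.S3352
import Groth.Agent.S3351
import Mathlib

set_option autoImplicit false
open Models

namespace Groth.Agent.S3352

section
variable {L₀ L₁ : Type} [AddCommGroup L₀] [AddCommGroup L₁]
    [Module.Finite ℤ L₀] [Module.Free ℤ L₀] [Module.Finite ℤ L₁] [Module.Free ℤ L₁]
    (B₀ : LinearMap.BilinForm ℤ L₀) (B₁ : LinearMap.BilinForm ℤ L₁) (h₀s : B₀.IsSymm) (h₁s : B₁.IsSymm)
    (h₀p : ∀ x, x ≠ 0 → 0 < B₀ x x) (h₁p : ∀ x, x ≠ 0 → 0 < B₁ x x) (huni : Function.Bijective B₀)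
    (d : L₀ →ₗ[ℤ] L₁) (ds : L₁ →ₗ[ℤ] L₀) (hadj : ∀ x y, B₁ (d x) y = B₀ x (ds y))

/-- the map `Dual (range d) → L₀` -/
noncomputable def theta0 : Module.Dual ℤ ↥(LinearMap.range d) →ₗ[ℤ] L₀ :=
  (LinearEquiv.ofBijective B₀ huni).symm.toLinearMap ∘ₗ d.rangeRestrict.dualMap

omit [Module.Finite ℤ L₀] [Module.Free ℤ L₀] [Module.Finite ℤ L₁] [Module.Free ℤ L₁] in
theorem theta0_spec (ψ : Module.Dual ℤ ↥(LinearMap.range d)) (y' : L₀) :
    B₀ (theta0 B₀ huni d ψ) y' = ψ (d.rangeRestrict y') := by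
  have : B₀ (theta0 B₀ huni d ψ) = d.rangeRestrict.dualMap ψ := by
    unfold theta0
    exact (LinearEquiv.ofBijective B₀ huni).apply_symm_apply _
  rw [this]; rfl

omit [Module.Finite ℤ L₀] [Module.Free ℤ L₀] [Module.Finite ℤ L₁] [Module.Free ℤ L₁] in
theorem theta0_eq (ψ : Module.Dual ℤ ↥(LinearMap.range d)) (x : L₀)
    (h : ∀ y' : L₀, ψ (d.rangeRestrict y') = B₀ x y') : theta0 B₀ huni d ψ = x := by
  apply huni.1
  ext y'
  rw [theta0_spec, h]

include h₀s h₁s hadj in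
omit [Module.Finite ℤ L₀] [Module.Free ℤ L₀] [Module.Finite ℤ L₁] [Module.Free ℤ L₁] in
theorem adj' (y y' : L₀) : B₀ (ds (d y)) y' = B₁ (d y) (d y') := by
  have e1 : B₀ (ds (d y)) y' = B₀ y' (ds (d y)) := h₀s.eq (ds (d y)) y'
  have e2 : B₁ (d y') (d y) = B₁ (d y) (d y') := h₁s.eq (d y') (d y)
  rw [e1, ← hadj, e2]

/-- the inclusion `range d → Dual (range d)` -/
noncomputable abbrev iota : ↥(LinearMap.range d) →ₗ[ℤ] Module.Dual ℤ ↥(LinearMap.range d) :=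
  (B₁.compl₂ (LinearMap.range d).subtype) ∘ₗ (LinearMap.range d).subtype

include h₀s h₁s hadj in
omit [Module.Finite ℤ L₀] [Module.Free ℤ L₀] [Module.Finite ℤ L₁] [Module.Free ℤ L₁] in
theorem theta0_iota (y : L₀) :
    theta0 B₀ huni d (iota B₁ d (d.rangeRestrict y)) = ds (d y) := by
  apply theta0_eq
  intro y'
  rw [adj' B₀ B₁ h₀s h₁s d ds hadj]
  rfl

include h₀s h₁s h₀p h₁p hadj in
theorem torsion_aux (x : L₀) (hx : ∀ z : L₀, d z = 0 → B₀ x z = 0) :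
    ∃ a : ℤ, a ≠ 0 ∧ a • x ∈ LinearMap.range (ds ∘ₗ d) := by
  obtain ⟨a, ha, n, hn, hz⟩ := Groth.Agent.S3351.exists_decomp B₀ h₀s h₀p (LinearMap.range (ds ∘ₗ d)) x
  refine ⟨a, ha, ?_⟩
  set z := a • x - n with hzdef
  have hdz : d z = 0 := by
    by_contra hne
    have h1 := (LinearMap.BilinForm.mem_orthogonal_iff.mp hz) (ds (d z)) ⟨z, rfl⟩
    rw [adj' B₀ B₁ h₀s h₁s d ds hadj] at h1
    exact absurd h1 (ne_of_gt (h₁p _ hne))
  have hzz : B₀ z z = 0 := by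
    have e1 : B₀ z z = a * B₀ x z - B₀ n z := by
      conv_lhs => arg 1; rw [hzdef]
      simp [map_sub, map_smul]
    rw [e1, hx z hdz, (LinearMap.BilinForm.mem_orthogonal_iff.mp hz) n hn]; ring
  have hz0 : z = 0 := by
    by_contra hne
    exact absurd hzz (ne_of_gt (h₀p z hne))
  have : a • x = n := sub_eq_zero.mp hz0
  rw [this]; exact hn
end

/-- Let L₀, L₁ be finite free ℤ-modules with positive definite symmetric integral bilinear forms, the
form on L₀ unimodular (x ↦ ⟨x, −⟩ is a bijection L₀ → Hom(L₀, ℤ)), and let d : L₀ → L₁ and d* : L₁ →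
L₀ be adjoint. Identify Im(d)^# (the dual lattice of Im(d)) with Hom(Im(d), ℤ) through the form on
L₁. Then there is an isomorphism Φ from the torsion subgroup of Coker(d* d) onto Im(d)^#/Im(d),
determined by: for x ∈ L₀ whose class is torsion, Φ[x] is the class of the functional d(y') ↦ ⟨x,
y'⟩ (equivalently the class of (1/a)·d(y) when a·x = d* d(y)). -/
theorem result {L₀ L₁ : Type} [AddCommGroup L₀] [AddCommGroup L₁]
    [Module.Finite ℤ L₀] [Module.Free ℤ L₀] [Module.Finite ℤ L₁] [Module.Free ℤ L₁]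
    (B₀ : LinearMap.BilinForm ℤ L₀) (B₁ : LinearMap.BilinForm ℤ L₁) (h₀s : B₀.IsSymm) (h₁s : B₁.IsSymm)
    (h₀p : ∀ x, x ≠ 0 → 0 < B₀ x x) (h₁p : ∀ x, x ≠ 0 → 0 < B₁ x x) (huni : Function.Bijective B₀)
    (d : L₀ →ₗ[ℤ] L₁) (ds : L₁ →ₗ[ℤ] L₀) (hadj : ∀ x y, B₁ (d x) y = B₀ x (ds y)) :
    ∃ Φ : ↥(Submodule.torsion ℤ (L₀ ⧸ LinearMap.range (ds ∘ₗ d))) ≃ₗ[ℤ]
        (Module.Dual ℤ ↥(LinearMap.range d) ⧸
          LinearMap.range ((B₁.compl₂ (LinearMap.range d).subtype) ∘ₗ (LinearMap.range d).subtype)),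
      ∀ (x : L₀) (hx : Submodule.Quotient.mk x ∈ Submodule.torsion ℤ (L₀ ⧸ LinearMap.range (ds ∘ₗ d)))
        (ψ : Module.Dual ℤ ↥(LinearMap.range d)),
        (∀ y' : L₀, ψ ⟨d y', LinearMap.mem_range_self d y'⟩ = B₀ x y') →
          Φ ⟨Submodule.Quotient.mk x, hx⟩ = Submodule.Quotient.mk ψ := by
  classical
  let N := LinearMap.range (ds ∘ₗ d)
  let I := LinearMap.range (iota B₁ d)
  let Θ₀ := theta0 B₀ huni d
  have hIN : I ≤ N.comap Θ₀ := by
    rintro _ ⟨m, rfl⟩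
    obtain ⟨y, rfl⟩ := d.surjective_rangeRestrict m
    rw [Submodule.mem_comap]
    change theta0 B₀ huni d _ ∈ N
    rw [theta0_iota B₀ B₁ h₀s h₁s huni d ds hadj]
    exact ⟨y, rfl⟩
  let Θ : (Module.Dual ℤ ↥(LinearMap.range d) ⧸ I) →ₗ[ℤ] L₀ ⧸ N := Submodule.mapQ I N Θ₀ hIN
  have htors : ∀ q, Θ q ∈ Submodule.torsion ℤ (L₀ ⧸ N) := by
    intro q
    obtain ⟨ψ, rfl⟩ := Submodule.Quotient.mk_surjective I q
    change Submodule.Quotient.mk (Θ₀ ψ) ∈ _
    obtain ⟨a, ha, han⟩ := torsion_aux B₀ B₁ h₀s h₁s h₀p h₁p d ds hadj (Θ₀ ψ) (by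
      intro z hz
      change B₀ (theta0 B₀ huni d ψ) z = 0
      rw [theta0_spec]
      have : d.rangeRestrict z = 0 := Subtype.ext hz
      rw [this, map_zero])
    rw [Submodule.mem_torsion_iff]
    refine ⟨⟨a, mem_nonZeroDivisors_of_ne_zero ha⟩, ?_⟩
    change a • (Submodule.Quotient.mk (Θ₀ ψ) : L₀ ⧸ N) = 0
    rw [← Submodule.Quotient.mk_smul (R := ℤ), Submodule.Quotient.mk_eq_zero]
    exact han
  let Θ' : (Module.Dual ℤ ↥(LinearMap.range d) ⧸ I) →ₗ[ℤ] ↥(Submodule.torsion ℤ (L₀ ⧸ N)) :=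
    Θ.codRestrict _ htors
  have hinj : Function.Injective Θ' := by
    rw [injective_iff_map_eq_zero]
    intro q hq
    obtain ⟨ψ, rfl⟩ := Submodule.Quotient.mk_surjective I q
    have h1 : Submodule.Quotient.mk (Θ₀ ψ) = (0 : L₀ ⧸ N) := congrArg Subtype.val hq
    rw [Submodule.Quotient.mk_eq_zero] at h1
    obtain ⟨y, hy⟩ := h1
    rw [Submodule.Quotient.mk_eq_zero]
    refine ⟨d.rangeRestrict y, ?_⟩
    ext m
    obtain ⟨y', rfl⟩ := d.surjective_rangeRestrict m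
    have h2 := theta0_spec B₀ huni d ψ y'
    change B₀ (Θ₀ ψ) y' = _ at h2
    rw [← h2, ← hy]
    change _ = B₀ (ds (d y)) y'
    rw [adj' B₀ B₁ h₀s h₁s d ds hadj]
    rfl
  have hsurj : Function.Surjective Θ' := by
    rintro ⟨t, ht⟩
    obtain ⟨x, rfl⟩ := Submodule.Quotient.mk_surjective N t
    rw [Submodule.mem_torsion_iff] at ht
    obtain ⟨⟨a, ha⟩, hax⟩ := ht
    have ha0 : a ≠ 0 := nonZeroDivisors.ne_zero ha
    change a • (Submodule.Quotient.mk x : L₀ ⧸ N) = (0 : L₀ ⧸ N) at hax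
    rw [← Submodule.Quotient.mk_smul (R := ℤ), Submodule.Quotient.mk_eq_zero] at hax
    obtain ⟨y, hy⟩ := hax
    have hker : LinearMap.ker d ≤ LinearMap.ker (B₀ x) := by
      intro y' hy'
      rw [LinearMap.mem_ker] at hy' ⊢
      have h1 : a * B₀ x y' = 0 := by
        have : B₀ (a • x) y' = a * B₀ x y' := by simp
        rw [← this, ← hy]
        change B₀ (ds (d y)) y' = 0
        rw [adj' B₀ B₁ h₀s h₁s d ds hadj, hy', map_zero]
      exact (mul_eq_zero.mp h1).resolve_left ha0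
    let ψ : Module.Dual ℤ ↥(LinearMap.range d) :=
      (LinearMap.ker d).liftQ (B₀ x) hker ∘ₗ d.quotKerEquivRange.symm.toLinearMap
    have hψ : ∀ y' : L₀, ψ (d.rangeRestrict y') = B₀ x y' := by
      intro y'
      simp only [ψ, LinearMap.comp_apply, LinearEquiv.coe_coe]
      have : d.quotKerEquivRange.symm (d.rangeRestrict y') = (LinearMap.ker d).mkQ y' :=
        d.quotKerEquivRange_symm_apply_image y' (LinearMap.mem_range_self d y')
      rw [this, Submodule.mkQ_apply, Submodule.liftQ_apply]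
    refine ⟨Submodule.Quotient.mk ψ, ?_⟩
    apply Subtype.ext
    change Submodule.Quotient.mk (Θ₀ ψ) = Submodule.Quotient.mk x
    rw [show Θ₀ ψ = x from theta0_eq B₀ huni d ψ x hψ]
  refine ⟨(LinearEquiv.ofBijective Θ' ⟨hinj, hsurj⟩).symm, ?_⟩
  intro x hx ψ hψ
  rw [LinearEquiv.symm_apply_eq]
  apply Subtype.ext
  change Submodule.Quotient.mk x = Submodule.Quotient.mk (Θ₀ ψ)
  rw [show Θ₀ ψ = x from theta0_eq B₀ huni d ψ x hψ]

end Groth.Agent.S3352
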