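import Groth.Statements.S3387
import Mathlib
import Groth.Agent.Lib.Helper1.Chev3

set_option autoImplicit false
open CategoryTheory AlgebraicGeometry
universe u
open EGA43

namespace Groth.Agent.S3387

/-- Let f : X ⟶ Y be locally of finite type and closed (as a map of underlying spaces). Then for every
natural number n the set of points y of Y whose fibre has dimension at least n is closed; that is,
the dimension of the fibre is upper semicontinuous on Y. -/
theorem result {X Y : Scheme.{u}} (f : X ⟶ Y) [LocallyOfFiniteType f]
    (hf : IsClosedMap f.base) (n : ℕ) :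
    IsClosed {y : Y | (n : WithBot ℕ∞) ≤ topologicalKrullDim ↥(f.fiber y)} := by
  cases n with
  | zero =>
    have : {y : Y | ((0 : ℕ) : WithBot ℕ∞) ≤ topologicalKrullDim ↥(f.fiber y)} = Set.range f := by
      ext y
      simp only [Set.mem_ofPred_eq, Set.mem_range, Nat.cast_zero]
      constructor
      · intro h
        by_contra hcon
        push Not at hcon
        haveI : IsEmpty ↥(f.fiber y) := by
          constructor
          intro t
          have : f.fiberι y t ∈ Set.range (f.fiberι y) := ⟨t, rfl⟩
          rw [Scheme.Hom.range_fiberι] at this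
          exact hcon _ this
        have h0 : topologicalKrullDim ↥(f.fiber y) = ⊥ := by
          unfold topologicalKrullDim
          haveI : IsEmpty (TopologicalSpace.IrreducibleCloseds ↥(f.fiber y)) :=
            ⟨fun Z => Z.isIrreducible'.nonempty.elim (fun t _ => IsEmpty.false t)⟩
          exact Order.krullDim_eq_bot
        rw [h0] at h
        exact absurd h (by simp)
      · rintro ⟨x, rfl⟩
        haveI : Nonempty ↥(f.fiber (f x)) := ⟨f.asFiber x⟩
        exact Groth.Agent.H3.TopDim.dim_nonneg
    rw [this]
    exact hf.isClosed_range
  | succ m =>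
    have h1 := Groth.Agent.H1.Chev.isOpen_fiber_dim_le_of_isClosedMap f hf (m : WithBot ℕ∞)
    have : {y : Y | ((m + 1 : ℕ) : WithBot ℕ∞) ≤ topologicalKrullDim ↥(f.fiber y)} =
        {s : Y | topologicalKrullDim ↥(f.fiber s) ≤ (m : WithBot ℕ∞)}ᶜ := by
      ext y
      simp only [Set.mem_ofPred_eq, Set.mem_compl_iff, not_le]
      rw [← not_iff_not, not_le, not_lt]
      exact Groth.Agent.H1.Chev.withBot_lt_add_one_iff _ m
    rw [this]
    exact h1.isClosed_compl

end Groth.Agent.S3387
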