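import Groth.Statements.S3390
import Mathlib
import Groth.Agent.Lib.Helper1.DimIneqF

set_option autoImplicit false
open CategoryTheory AlgebraicGeometry
universe u
open EGA43

namespace Groth.Agent.S3390

/-- Let Y be an irreducible locally Noetherian scheme with generic point η and X an irreducible scheme,
and let f : X ⟶ Y be dominant and locally of finite type. Take a point x of X and write y = f x.
Suppose dim O_{X,x} = dim O_{Y,y} + dim O_{X_y,x}. Then the local dimension of the fibre X_y at x
(FlatMor.fibreDimAt f x) equals the dimension of the generic fibre X_η (i.e. f is equidimensional at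
x). -/
theorem result {X Y : Scheme.{u}} [IrreducibleSpace X] [IrreducibleSpace Y]
    [IsLocallyNoetherian Y] (f : X ⟶ Y) [LocallyOfFiniteType f] [IsDominant f] (x : X)
    (h : ringKrullDim (X.presheaf.stalk x) =
        ringKrullDim (Y.presheaf.stalk (f.base x)) + ringKrullDim ((f.fiber (f.base x)).presheaf.stalk (f.asFiber x))) :
    FlatMor.fibreDimAt f x = topologicalKrullDim ↥(f.fiber (genericPoint Y)) := by
  apply le_antisymm
  · have h1 := Groth.Agent.H1.DimIneq.fibreDimAt_le_generic_of_stalk_dim_eq f x h
    have hgen := Groth.Agent.H1.Chev.map_genericPoint f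
    haveI := Groth.Agent.H1.Chev.irreducibleSpace_fiber f _ hgen
    have hξ : FlatMor.fibreDimAt f (genericPoint X) =
        topologicalKrullDim (f.fiber (genericPoint Y)) := by
      rw [← Groth.Agent.H1.Chev.localDim_fiber_eq_fibreDimAt f (genericPoint X) (genericPoint Y) hgen
        ((f.fiberHomeo _).symm ⟨genericPoint X, hgen⟩) (f.fiberι_fiberHomeo_symm _ ⟨_, hgen⟩)]
      exact @Groth.Agent.H1.EquiDim.localDim_eq_dim (Y.residueField (genericPoint Y)) _ _ _
        (f.fiberToSpecResidueField (genericPoint Y))
        (Groth.Agent.H1.Chev.locallyOfFiniteType_fiberToSpecResidueField f _) _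
    rw [← hξ]
    exact h1
  · exact Groth.Agent.H1.Chev.dim_generic_fiber_le_fibreDimAt f x

end Groth.Agent.S3390
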