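import Groth.Statements.S3391
import Mathlib
import Groth.Agent.Lib.Helper1.DimLocD

set_option autoImplicit false
open CategoryTheory AlgebraicGeometry
universe u
open EGA43

namespace Groth.Agent.S3391

/-- With X, Y, f, x, y as in the first assertion, suppose O_{Y,y} is universally catenary and the local
dimension at x of the fibre through x equals the dimension of the generic fibre. Then dim O_{X,x} =
dim O_{Y,y} + dim O_{X_y,x}. -/
theorem result {X Y : Scheme.{u}} [IrreducibleSpace X] [IrreducibleSpace Y]
    [IsLocallyNoetherian Y] (f : X ⟶ Y) [LocallyOfFiniteType f] [IsDominant f] (x : X)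
    (hcat : CAlg.IsUniversallyCatenary (Y.presheaf.stalk (f.base x)))
    (h : FlatMor.fibreDimAt f x = topologicalKrullDim ↥(f.fiber (genericPoint Y))) :
    ringKrullDim (X.presheaf.stalk x) =
        ringKrullDim (Y.presheaf.stalk (f.base x)) + ringKrullDim ((f.fiber (f.base x)).presheaf.stalk (f.asFiber x)) := by
  have cancel : ∀ {a b : WithBot ℕ∞} (t : ℕ), a + (t : WithBot ℕ∞) = b + (t : WithBot ℕ∞) → a = b := by
    intro a b t hab
    induction a with
    | bot =>
      rw [WithBot.bot_add] at hab
      induction b with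
      | bot => rfl
      | coe b =>
        rcases WithBot.add_eq_bot.1 hab.symm with h | h
        · exact absurd h WithBot.coe_ne_bot
        · exact absurd h (WithBot.natCast_ne_bot t)
    | coe a =>
      induction b with
      | bot =>
        rw [WithBot.bot_add] at hab
        rcases WithBot.add_eq_bot.1 hab with h | h
        · exact absurd h WithBot.coe_ne_bot
        · exact absurd h (WithBot.natCast_ne_bot t)
      | coe b =>
        have h' : a + (t : ℕ∞) = b + (t : ℕ∞) := by exact_mod_cast hab
        have : a = b := (ENat.add_left_injective_of_ne_top (ENat.natCast_ne_top t)) h'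
        rw [this]
  haveI : IsLocallyNoetherian X := LocallyOfFiniteType.isLocallyNoetherian f
  have hfin : ringKrullDim (X.presheaf.stalk x) ≠ ⊤ := ringKrullDim_ne_top
  have key := Groth.Agent.H1.DimLoc.stalk_dim_add_resTrdeg_eq_of_irreducible f x hcat hfin
  obtain ⟨t, ht, hdim⟩ := Groth.Agent.H1.DimFormula.exists_fibreDimAt_eq_stalk_add_trdeg f x
  obtain ⟨tξ, htξ, hdimξ⟩ := Groth.Agent.H1.DimFormula.fibreDimAt_eq_trdeg_of_generic f
    (genericPoint X) (fun x' _ hx' => (hx'.antisymm (genericPoint_specializes x')).eq)
  rw [Groth.Agent.H1.DimIneq.toENat_resTrdeg_of_eq_natCast f x t ht,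
    Groth.Agent.H1.DimIneq.toENat_resTrdeg_of_eq_natCast f (genericPoint X) tξ htξ] at key
  have key' : ringKrullDim (X.presheaf.stalk x) + (t : WithBot ℕ∞) =
      ringKrullDim (Y.presheaf.stalk (f x)) + (tξ : WithBot ℕ∞) := by exact_mod_cast key
  have hgen := Groth.Agent.H1.Chev.map_genericPoint f
  haveI := Groth.Agent.H1.Chev.irreducibleSpace_fiber f _ hgen
  have hξ : FlatMor.fibreDimAt f (genericPoint X) =
      topologicalKrullDim (f.fiber (genericPoint Y)) := by
    rw [← Groth.Agent.H1.Chev.localDim_fiber_eq_fibreDimAt f (genericPoint X) (genericPoint Y) hgen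
      ((f.fiberHomeo _).symm ⟨genericPoint X, hgen⟩) (f.fiberι_fiberHomeo_symm _ ⟨_, hgen⟩)]
    exact @Groth.Agent.H1.EquiDim.localDim_eq_dim (Y.residueField (genericPoint Y)) _ _ _
      (f.fiberToSpecResidueField (genericPoint Y))
      (Groth.Agent.H1.Chev.locallyOfFiniteType_fiberToSpecResidueField f _) _
  rw [← hξ, hdim, hdimξ] at h
  rw [← h, ← add_assoc] at key'
  exact cancel t key'

end Groth.Agent.S3391
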