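import Groth.Statements.S3392
import Mathlib
import Groth.Agent.Lib.Helper1.DimLocF

set_option autoImplicit false
open CategoryTheory AlgebraicGeometry
universe u
open EGA43

namespace Groth.Agent.S3392

/-- Let Y be an irreducible locally Noetherian scheme, f : X ⟶ Y a morphism of finite type and y a point
of Y. Condition (a): for every point x of the fibre over y, dim O_{X,x} = dim O_{Y,y} + dim
O_{X_y,x}. Condition (b): for every point z of the fibre over y at which the local ring of the fibre
has dimension 0 (the generic points of the irreducible components of the fibre), dim O_{X,z} = dim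
O_{Y,y}. Then (a) implies (b), and (b) implies (a) if O_{Y,y} is universally catenary. -/
theorem result {X Y : Scheme.{u}} [IrreducibleSpace Y] [IsLocallyNoetherian Y]
    (f : X ⟶ Y) [LocallyOfFiniteType f] [QuasiCompact f] (y : Y) :
    ((∀ x : X, f.base x = y → ringKrullDim (X.presheaf.stalk x) =
        ringKrullDim (Y.presheaf.stalk (f.base x)) + ringKrullDim ((f.fiber (f.base x)).presheaf.stalk (f.asFiber x))) →
      (∀ z : X, f.base z = y → ringKrullDim ((f.fiber (f.base z)).presheaf.stalk (f.asFiber z)) = 0 →
        ringKrullDim (X.presheaf.stalk z) = ringKrullDim (Y.presheaf.stalk (f.base z)))) ∧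
    (CAlg.IsUniversallyCatenary (Y.presheaf.stalk y) →
      (∀ z : X, f.base z = y → ringKrullDim ((f.fiber (f.base z)).presheaf.stalk (f.asFiber z)) = 0 →
        ringKrullDim (X.presheaf.stalk z) = ringKrullDim (Y.presheaf.stalk (f.base z))) →
      (∀ x : X, f.base x = y → ringKrullDim (X.presheaf.stalk x) =
        ringKrullDim (Y.presheaf.stalk (f.base x)) + ringKrullDim ((f.fiber (f.base x)).presheaf.stalk (f.asFiber x)))) := by
  refine ⟨?_, ?_⟩
  · intro ha z hz h0
    rw [ha z hz, h0, add_zero]
  · intro _ hb x hx
    apply le_antisymm (Groth.Agent.H1.DimLoc.stalk_dim_le_add_fiber f x)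
    obtain ⟨z, hfz, hzx, hzmax, hzdim⟩ :=
      Groth.Agent.H1.FibGen.exists_fibre_generic_fibreDimAt_eq f x
    have h0 : ringKrullDim ((f.fiber (f z)).presheaf.stalk (f.asFiber z)) = 0 := by
      apply Groth.Agent.H1.DimFormula.ringKrullDim_stalk_eq_zero
      intro w hw
      apply (f.fiberι (f z)).isEmbedding.injective
      rw [f.fiberι_asFiber z]
      apply hzmax
      · have : f.fiberι (f z) w ∈ Set.range (f.fiberι (f z)) := ⟨w, rfl⟩
        rw [Scheme.Hom.range_fiberι] at this
        exact this.trans hfz
      · have := hw.map (f.fiberι (f z)).continuous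
        rwa [f.fiberι_asFiber z] at this
    have h1 := hb z (hfz.trans hx) h0
    have h2 := Groth.Agent.H1.DimLoc.stalk_dim_add_fiber_stalk_dim_le f x z hfz hzx hzmax hzdim
    rw [h1] at h2
    have h3 : ringKrullDim (Y.presheaf.stalk (f z)) = ringKrullDim (Y.presheaf.stalk (f x)) := by
      rw [hfz]
    rw [h3] at h2
    exact h2

end Groth.Agent.S3392
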