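import Groth.Statements.S3402
import Groth.Agent.Lib.Helper2.ProConsLib

set_option autoImplicit false
open CategoryTheory AlgebraicGeometry
universe u
open EGA41

namespace Groth.Agent.S3402

/-- A subset E of a scheme X is locally constructible if and only if it is both ind-constructible and
pro-constructible. -/
theorem result (X : Scheme.{u}) (E : Set X) :
    Topology.IsLocallyConstructible E ↔ ProCons.IsIndConstructible E ∧ ProCons.IsProConstructible E := by
  constructor
  · intro hE
    have hloc : Topology.IsLocallyConstructible (Subtype.val ⁻¹' E : Set ↥(Set.univ : Set X)) :=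
      hE.preimage_of_isOpenEmbedding isOpen_univ.isOpenEmbedding_subtypeVal
    refine ⟨fun x => ⟨Set.univ, isOpen_univ, Set.mem_univ x, {Subtype.val ⁻¹' E}, ?_, ?_⟩,
      fun x => ⟨Set.univ, isOpen_univ, Set.mem_univ x, {Subtype.val ⁻¹' E}, ?_, ?_⟩⟩
    · rintro T rfl; exact hloc
    · rw [Set.sUnion_singleton]
    · rintro T rfl; exact hloc
    · rw [Set.sInter_singleton]
  · rintro ⟨hind, hpro⟩ x
    obtain ⟨V, hV, hxV, -⟩ := Groth.Agent.H2.ProConsLib.exists_affine_nhd x isOpen_univ (Set.mem_univ x)
    obtain ⟨i1, i2, i3, i4⟩ := Groth.Agent.H2.ProConsLib.spectral_of_isAffineOpen hV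
    refine ⟨(V : Set X), V.2.mem_nhds hxV, V.2, ?_⟩
    exact Groth.Agent.H2.ConsTop.isConstructible_of_co_of_cc
      (Groth.Agent.H2.ProConsLib.co_of_isIndConstructible V.2 hind)
      (Groth.Agent.H2.ProConsLib.cc_of_isProConstructible V.2 hpro)

end Groth.Agent.S3402
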