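import Groth.Statements.S3403
import Groth.Agent.Lib.Helper2.ProConsLib

set_option autoImplicit false
open CategoryTheory AlgebraicGeometry
universe u
open EGA41

namespace Groth.Agent.S3403

/-- Let X be a scheme, E an ind-constructible subset of X and x a point of X. Then x is an interior
point of E if and only if every generization of x belongs to E. -/
theorem result (X : Scheme.{u}) (E : Set X)
    (hE : ProCons.IsIndConstructible E) (x : X) :
    x ∈ interior E ↔ ∀ x' : X, x' ⤳ x → x' ∈ E := by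
  constructor
  · intro hx x' hx'
    exact interior_subset (hx'.mem_open isOpen_interior hx)
  · intro h
    obtain ⟨V, hV, hxV, -⟩ := Groth.Agent.H2.ProConsLib.exists_affine_nhd x isOpen_univ (Set.mem_univ x)
    obtain ⟨i1, i2, i3, i4⟩ := Groth.Agent.H2.ProConsLib.spectral_of_isAffineOpen hV
    let xt : ↥(V : Set X) := ⟨x, hxV⟩
    have hco := Groth.Agent.H2.ProConsLib.co_of_isIndConstructible V.2 hE
    let 𝒞 : Set (Set ↥(V : Set X)) := {W | IsOpen W ∧ IsCompact W ∧ xt ∈ W}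
    have h𝒞 : ∀ W ∈ 𝒞, Groth.Agent.H2.ConsTop.CC W := fun W hW =>
      Groth.Agent.H2.ConsTop.cc_of_isCompact_isOpen hW.2.1 hW.1
    have hsub : ⋂₀ 𝒞 ⊆ ⋃₀ {(Subtype.val ⁻¹' E : Set ↥(V : Set X))} := by
      intro y hy
      rw [Set.sUnion_singleton]
      have hyx : y ⤳ xt := by
        rw [specializes_iff_forall_open]
        intro O hO hxO
        obtain ⟨W, ⟨hWo, hWc⟩, hxW, hWO⟩ :=
          (PrespectralSpace.isTopologicalBasis (X := ↥(V : Set X))).exists_subset_of_mem_open hxO hO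
        exact hWO (hy W ⟨hWo, hWc, hxW⟩)
      exact h y.1 (hyx.map continuous_subtype_val)
    obtain ⟨𝒞', 𝒪', h𝒞', h𝒪', hfin, -, hsub'⟩ :=
      Groth.Agent.H2.ConsTop.exists_finite_of_sInter_subset_sUnion h𝒞
        (by rintro _ rfl; exact hco) hsub
    have hN : IsOpen (⋂₀ 𝒞') := hfin.isOpen_sInter (fun W hW => (h𝒞' hW).1)
    have hxN : xt ∈ ⋂₀ 𝒞' := fun W hW => (h𝒞' hW).2.2
    rw [mem_interior]
    refine ⟨Subtype.val '' (⋂₀ 𝒞'), ?_, V.2.isOpenMap_subtype_val _ hN, ⟨xt, hxN, rfl⟩⟩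
    rintro _ ⟨y, hy, rfl⟩
    obtain ⟨O, hO, hyO⟩ := hsub' hy
    have := h𝒪' hO
    rw [Set.mem_singleton_iff] at this
    subst this
    exact hyO

end Groth.Agent.S3403
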