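import Groth.Statements.S3404
import Groth.Agent.Lib.Helper2.ProConsLib
import Groth.Agent.S3403

set_option autoImplicit false
open CategoryTheory AlgebraicGeometry
universe u
open EGA41

namespace Groth.Agent.S3404

/-- Let f : X ⟶ Y be a morphism of schemes, x a point of X and y = f x. If f is open at x then every
generization of y is the image of a generization of x; when f is locally of finite presentation the
converse holds. -/
theorem result {X Y : Scheme.{u}} (f : X ⟶ Y) (x : X) :
    (EGA43.IsOpenAt f.base x → ∀ y' : Y, y' ⤳ f.base x → ∃ x' : X, x' ⤳ x ∧ f.base x' = y') ∧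
    (LocallyOfFinitePresentation f →
      ((EGA43.IsOpenAt f.base x) ↔ ∀ y' : Y, y' ⤳ f.base x → ∃ x' : X, x' ⤳ x ∧ f.base x' = y')) := by
  have part1 : EGA43.IsOpenAt f.base x → ∀ y' : Y, y' ⤳ f.base x → ∃ x' : X, x' ⤳ x ∧ f.base x' = y' := by
    intro hopen y' hy'
    have hpro := Groth.Agent.H2.ProConsLib.isProConstructible_preimage f
      (Groth.Agent.H2.ProConsLib.isProConstructible_singleton y')
    have hcl : x ∈ closure (f.base ⁻¹' {y'}) := by
      rw [mem_closure_iff_nhds]
      intro U hU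
      have h1 : f.base '' U ∈ nhds (f.base x) := hopen U hU
      have h2 : f.base '' U ∈ nhds y' := hy' h1
      obtain ⟨u, huU, hfu⟩ := mem_of_mem_nhds h2
      exact ⟨u, huU, hfu⟩
    obtain ⟨x', hx', hxx'⟩ :=
      Groth.Agent.H2.ProConsLib.exists_specializes_of_mem_closure hpro hcl
    exact ⟨x', hxx', hx'⟩
  refine ⟨part1, fun hlfp => ⟨part1, fun hlift U hU => ?_⟩⟩
  obtain ⟨U₀, hU₀U, hU₀, hxU₀⟩ := mem_nhds_iff.mp hU
  have hind := Groth.Agent.H2.ProConsLib.isIndConstructible_image f
    (Groth.Agent.H2.ProConsLib.isIndConstructible_of_isOpen hU₀)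
  have hint : f.base x ∈ interior (f.base '' U₀) := by
    rw [Groth.Agent.S3403.result Y _ hind]
    intro y' hy'
    obtain ⟨x', hx', hfx'⟩ := hlift y' hy'
    exact ⟨x', hx'.mem_open hU₀ hxU₀, hfx'⟩
  exact Filter.mem_of_superset (mem_interior_iff_mem_nhds.mp hint) (Set.image_mono hU₀U)

end Groth.Agent.S3404
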