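import Groth.Statements.S3405
import Mathlib
import Groth.Agent.Lib.Helper1.HS5

set_option autoImplicit false
universe u
open EGA41

namespace Groth.Agent.S3405

open Groth.Agent.Lib.Helper1.HS Groth.Agent.H6 in
/-- `A/rad A` has finite length for a semilocal Noetherian ring. -/
theorem isFiniteLength_quotient_jacobson (A : Type u) [CommRing A] [IsNoetherianRing A]
    [Finite (MaximalSpectrum A)] : IsFiniteLength A (A ⧸ Ring.jacobson A) := by
  rw [SLD.isFiniteLength_iff_supportDim_le_zero, Module.supportDim_quotient_eq_ringKrullDim]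
  have : Ring.KrullDimLE 0 (A ⧸ Ring.jacobson A) := by
    rw [Ring.krullDimLE_zero_iff]
    intro P hP
    have hsurj : Function.Surjective (Ideal.Quotient.mk (Ring.jacobson A)) :=
      Ideal.Quotient.mk_surjective
    have hQ : (P.comap (Ideal.Quotient.mk (Ring.jacobson A))).IsMaximal := by
      refine SLD.isMaximal_of_jacobson_le _ ?_
      intro a ha
      rw [Ideal.mem_comap, Ideal.Quotient.eq_zero_iff_mem.mpr ha]
      exact P.zero_mem
    rw [← Ideal.map_comap_of_surjective _ hsurj P]
    refine (Ideal.map_eq_top_or_isMaximal_of_surjective _ hsurj hQ).resolve_left ?_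
    rw [Ideal.map_comap_of_surjective _ hsurj P]
    exact hP.ne_top
  exact_mod_cast Ring.krullDimLE_iff.mp this

open Groth.Agent.Lib.Helper1.HS Groth.Agent.H6 in
theorem aux (A : Type u) [CommRing A] [IsNoetherianRing A]
    [Finite (MaximalSpectrum A)] (M : Type u) [AddCommGroup M] [Module A M] [Module.Finite A M]
    [Nontrivial M] :
    ((hsPoly (Ring.jacobson A) M).natDegree : WithBot ℕ∞) = Module.supportDim A M := by
  have hI := isFiniteLength_quotient_jacobson A
  have hM := isFiniteLength_quotient_smul_top hI M
  have h1 : Module.supportDim A M ≤ ((hsPoly (Ring.jacobson A) M).natDegree : ℕ) :=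
    supportDim_le_of_natDegree_hsPoly_le hI le_rfl _ M le_rfl
  refine le_antisymm ?_ h1
  generalize hd : Module.supportDim A M = a at h1 ⊢
  induction a with
  | bot => exact absurd hd (Module.supportDim_ne_bot_of_nontrivial A M)
  | coe a =>
    induction a with
    | top =>
      exfalso
      have : (⊤ : ℕ∞) ≤ ((hsPoly (Ring.jacobson A) M).natDegree : ℕ∞) := by exact_mod_cast h1
      exact absurd (top_le_iff.mp this) (ENat.natCast_ne_top _)
    | coe e =>
      obtain ⟨x, hx, hfl⟩ := SLD.exists_parameters e M (by rw [hd]; rfl)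
      have hJ : Ideal.span (Set.range x) ≤ Ring.jacobson A := by
        rw [Ideal.span_le]
        rintro _ ⟨i, rfl⟩
        exact hx i
      have h2 := natDegree_hsPoly_le_of_le hJ hM hfl
      have h3 := natDegree_hsPoly_le_of_span x rfl hfl
      exact_mod_cast h2.trans h3

/-- The degree of the Hilbert–Samuel polynomial equals the dimension: let A be a Noetherian ring with
finitely many maximal ideals, r its Jacobson radical and M a nonzero finitely generated A-module.
Then there is a polynomial P with rational coefficients such that the length of M/rⁿM is finite and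
equals P(n) for all large n, and the degree of P is the dimension of M (the Krull dimension of its
support). -/
theorem result (A : Type u) [CommRing A] [IsNoetherianRing A]
    [Finite (MaximalSpectrum A)] (M : Type u) [AddCommGroup M] [Module A M] [Module.Finite A M] [Nontrivial M] :
    ∃ P : Polynomial ℚ,
      (∃ N : ℕ, ∀ n : ℕ, N ≤ n →
        ∃ ℓ : ℕ, Module.length A (M ⧸ (Ring.jacobson A ^ n • (⊤ : Submodule A M))) = ℓ ∧ (ℓ : ℚ) = P.eval (n : ℚ)) ∧
      (P.natDegree : WithBot ℕ∞) = Module.supportDim A M := by
  have hI := isFiniteLength_quotient_jacobson A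
  have hM := Groth.Agent.Lib.Helper1.HS.isFiniteLength_quotient_smul_top hI M
  obtain ⟨n₁, h₁⟩ := Groth.Agent.Lib.Helper1.HS.isHSPoly_hsPoly hM
  refine ⟨Groth.Agent.Lib.Helper1.HS.hsPoly (Ring.jacobson A) M, ⟨n₁, fun n hn => ?_⟩, aux A M⟩
  exact ⟨Groth.Agent.Lib.Helper1.HS.chi (Ring.jacobson A) M n,
    (Groth.Agent.Lib.Helper1.HS.chi_cast hM n).symm, h₁ n hn⟩

end Groth.Agent.S3405
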