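import Groth.Statements.S3413
import Groth.Agent.Lib.Helper2.IrrDisjA

set_option autoImplicit false
open CategoryTheory AlgebraicGeometry
universe u
open EGA43

namespace Groth.Agent.S3413

/-- Let Y be locally Noetherian with all local rings geometrically unibranch, f : X ⟶ Y separated,
quasi-finite and universally open, and n(z) the geometric number of points of the fibre over z. If n
is locally constant on Y, then the irreducible components of X are pairwise disjoint. -/
theorem result {X Y : Scheme.{u}} [IsLocallyNoetherian Y]
    (hY : ∀ y : Y, CAlg2.IsGeomUnibranch (Y.presheaf.stalk y)) (f : X ⟶ Y)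
    [IsSeparated f] [LocallyQuasiFinite f] [LocallyOfFiniteType f] [QuasiCompact f] [UniversallyOpen f]
    (hn : IsLocallyConstant (fun z : Y => MoreMor.nGeomConnComp f z)) :
    ∀ Z ∈ irreducibleComponents (X : Type u), ∀ Z' ∈ irreducibleComponents (X : Type u), Z ≠ Z' → Disjoint Z Z' := by
  intro Z hZ Z' hZ' hne
  rw [Set.disjoint_left]
  intro x hx hx'
  have hu : Groth.Agent.H9.GZA.UniqueGen X x :=
    Groth.Agent.H2.IrrDisj.uniqueGen_of_const f x (hY (f x))
      ⟨_, (hn.isOpen_fiber (MoreMor.nGeomConnComp f (f x))).mem_nhds rfl, fun z hz => hz⟩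
  exact hne ((Groth.Agent.H9.GZA.uniqueGen_iff_components X x).mp hu Z hZ Z' hZ' hx hx')

end Groth.Agent.S3413
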