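import Groth.Statements.S3432
import Mathlib
import Groth.Agent.Lib.Helper3.CA.GoldmanDomain

set_option autoImplicit false
open CategoryTheory AlgebraicGeometry
universe u
open EGA43

namespace Groth.Agent.S3432

/-- in a Noetherian ring, a prime with a chain of length two above it is not a locally closed
point. -/
theorem not_isLocallyClosed_singleton_of_lt_of_lt (R : Type u) [CommRing R] [IsNoetherianRing R]
    (p p' p'' : PrimeSpectrum R) (h1 : p < p') (h2 : p' < p'')
    (hlc : IsLocallyClosed ({p} : Set (PrimeSpectrum R))) : False := by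
  obtain ⟨O, C, hO, hC, hOC⟩ := hlc
  have hpO : p ∈ O := by
    have : p ∈ ({p} : Set _) := rfl
    rw [hOC] at this; exact this.1
  have hpC : p ∈ C := by
    have : p ∈ ({p} : Set _) := rfl
    rw [hOC] at this; exact this.2
  obtain ⟨_, ⟨_, ⟨f, rfl⟩, rfl⟩, hpf, hfO⟩ :=
    PrimeSpectrum.isBasis_basic_opens.exists_subset_of_mem_open hpO hO
  -- every prime ≥ p not containing f equals p
  have key : ∀ q : PrimeSpectrum R, p ≤ q → f ∉ q.asIdeal → q = p := by
    intro q hpq hfq
    have hqC : q ∈ C := by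
      have : closure ({p} : Set (PrimeSpectrum R)) ⊆ C := hC.closure_subset_iff.mpr (by simpa using hpC)
      apply this
      rw [← specializes_iff_mem_closure, ← PrimeSpectrum.le_iff_specializes]
      exact hpq
    have : q ∈ ({p} : Set _) := by rw [hOC]; exact ⟨hfO hfq, hqC⟩
    exact this
  let B := R ⧸ p.asIdeal
  let fb : B := Ideal.Quotient.mk _ f
  have hfb : fb ≠ 0 := by
    intro h
    exact hpf (Ideal.Quotient.eq_zero_iff_mem.mp h)
  -- B_fb is a field
  have hfield : IsField (Localization.Away fb) := by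
    haveI : Nontrivial (Localization.Away fb) := by
      have := IsLocalization.injective (Localization.Away fb) (M := Submonoid.powers fb)
        (powers_le_nonZeroDivisors_of_noZeroDivisors hfb)
      exact this.nontrivial
    rw [Ring.isField_iff_maximal_bot]
    obtain ⟨M, hM⟩ := Ideal.exists_maximal (Localization.Away fb)
    suffices M = ⊥ by rw [← this]; exact hM
    have hMp : M.IsPrime := hM.isPrime
    -- contraction to B then to R
    let Q : Ideal B := M.comap (algebraMap B (Localization.Away fb))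
    have hQp : Q.IsPrime := Ideal.comap_isPrime _ _
    have hfQ : fb ∉ Q := by
      intro h
      have hu : IsUnit (algebraMap B (Localization.Away fb) fb) :=
        IsLocalization.map_units _ (⟨fb, Submonoid.mem_powers _⟩ : Submonoid.powers fb)
      exact hMp.ne_top (Ideal.eq_top_of_isUnit_mem _ h hu)
    let q : PrimeSpectrum R := ⟨Q.comap (Ideal.Quotient.mk p.asIdeal), Ideal.comap_isPrime _ _⟩
    have hpq : p ≤ q := by
      intro r hr
      change Ideal.Quotient.mk p.asIdeal r ∈ Q
      rw [Ideal.Quotient.eq_zero_iff_mem.mpr hr]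
      exact Q.zero_mem
    have hq := key q hpq hfQ
    have hQ0 : Q = ⊥ := by
      rw [eq_bot_iff]
      intro b hb
      obtain ⟨r, rfl⟩ := Ideal.Quotient.mk_surjective b
      have : r ∈ q.asIdeal := hb
      rw [hq] at this
      exact Ideal.Quotient.eq_zero_iff_mem.mpr this
    rw [← IsLocalization.map_comap (Submonoid.powers fb) (Localization.Away fb) M]
    change Ideal.map _ Q = ⊥
    rw [hQ0, Ideal.map_bot]
  have h0 : ∃ f : B, f ≠ 0 ∧ IsField (Localization.Away f) := ⟨fb, hfb, hfield⟩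
  have hdim := ((Groth.Agent.H3.GoldmanDomain.tfae B).out 0 2).mp h0
  have hdim2 : Order.krullDim (PrimeSpectrum B) ≤ 1 := hdim.2
  rw [Order.krullDim_le_one_iff] at hdim2
  -- chain of length two in B
  have hchain : False := by
    let P' : PrimeSpectrum B := ⟨p'.asIdeal.map (Ideal.Quotient.mk p.asIdeal),
      Ideal.map_isPrime_of_surjective Ideal.Quotient.mk_surjective
        (by rw [Ideal.mk_ker]; exact h1.le)⟩
    let P'' : PrimeSpectrum B := ⟨p''.asIdeal.map (Ideal.Quotient.mk p.asIdeal),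
      Ideal.map_isPrime_of_surjective Ideal.Quotient.mk_surjective
        (by rw [Ideal.mk_ker]; exact (h1.trans h2).le)⟩
    let P0 : PrimeSpectrum B := ⟨⊥, Ideal.isPrime_bot⟩
    have hcomap : ∀ (I : Ideal R), p.asIdeal ≤ I →
        (I.map (Ideal.Quotient.mk p.asIdeal)).comap (Ideal.Quotient.mk p.asIdeal) = I := by
      intro I hI
      rw [Ideal.comap_map_of_surjective _ Ideal.Quotient.mk_surjective, ← RingHom.ker_eq_comap_bot,
        Ideal.mk_ker, sup_eq_left.mpr hI]
    have h01 : P0 < P' := by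
      rw [← PrimeSpectrum.asIdeal_lt_asIdeal]
      change (⊥ : Ideal B) < p'.asIdeal.map _
      rw [bot_lt_iff_ne_bot]
      intro h
      have := hcomap p'.asIdeal h1.le
      rw [h, ← RingHom.ker_eq_comap_bot, Ideal.mk_ker] at this
      exact h1.ne (PrimeSpectrum.ext this)
    have h12 : P' < P'' := by
      rw [← PrimeSpectrum.asIdeal_lt_asIdeal]
      change p'.asIdeal.map _ < p''.asIdeal.map _
      refine lt_of_le_of_ne (Ideal.map_mono h2.le) ?_
      intro h
      have e1 := hcomap p'.asIdeal h1.le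
      have e2 := hcomap p''.asIdeal (h1.trans h2).le
      rw [h, e2] at e1
      exact h2.ne (PrimeSpectrum.ext e1.symm)
    rcases hdim2 P' with h | h
    · exact h.not_lt h01
    · exact h.not_lt h12
  exact hchain

/-- in a locally Noetherian scheme, a locally closed point has no chain of two proper
specializations. -/
theorem not_isLocallyClosed_singleton_of_specializes (X : Scheme.{u}) [IsLocallyNoetherian X]
    (x x' x'' : X) (h1 : x ⤳ x') (h2 : x' ⤳ x'') (hne1 : x ≠ x') (hne2 : x' ≠ x'')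
    (hlc : IsLocallyClosed ({x} : Set X)) : False := by
  obtain ⟨_, ⟨W, hW, rfl⟩, hx''W, -⟩ :=
    X.isBasis_affineOpens.exists_subset_of_mem_open (Set.mem_univ x'') isOpen_univ
  have hx'W : x' ∈ W := h2.mem_open W.2 hx''W
  have hxW : x ∈ W := h1.mem_open W.2 hx'W
  haveI : IsNoetherianRing Γ(X, W) := IsLocallyNoetherian.component_noetherian ⟨W, hW⟩
  let e : ↥W ≃ₜ PrimeSpectrum Γ(X, W) := hW.isoSpec.hom.homeomorph
  let y : ↥W := ⟨x, hxW⟩
  let y' : ↥W := ⟨x', hx'W⟩
  let y'' : ↥W := ⟨x'', hx''W⟩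
  have hy1 : y ⤳ y' := (subtype_specializes_iff y y').mpr h1
  have hy2 : y' ⤳ y'' := (subtype_specializes_iff y' y'').mpr h2
  have hp1 : e y ≤ e y' := (PrimeSpectrum.le_iff_specializes _ _).mpr (hy1.map e.continuous)
  have hp2 : e y' ≤ e y'' := (PrimeSpectrum.le_iff_specializes _ _).mpr (hy2.map e.continuous)
  have hlt1 : e y < e y' := lt_of_le_of_ne hp1 (fun h => hne1 (congrArg Subtype.val (e.injective h)))
  have hlt2 : e y' < e y'' :=
    lt_of_le_of_ne hp2 (fun h => hne2 (congrArg Subtype.val (e.injective h)))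
  have hlcW : IsLocallyClosed ({y} : Set ↥W) := by
    have := hlc.preimage (continuous_subtype_val : Continuous (Subtype.val : ↥W → X))
    convert this using 1
    ext w
    simp only [Set.mem_singleton_iff, Set.mem_preimage]
    exact ⟨fun h => by rw [h], fun h => Subtype.ext h⟩
  have hlcp : IsLocallyClosed ({e y} : Set (PrimeSpectrum Γ(X, W))) := by
    have := hlcW.preimage e.symm.continuous
    convert this using 1
    ext q
    simp only [Set.mem_singleton_iff, Set.mem_preimage]
    exact ⟨fun h => by rw [h, e.symm_apply_apply], fun h => by rw [← h, e.apply_symm_apply]⟩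
  exact not_isLocallyClosed_singleton_of_lt_of_lt _ _ _ _ hlt1 hlt2 hlcp

/-- Let X be a locally Noetherian scheme and Y a closed subset of X such that every nonempty closed
subset of X meets Y. Then the open subscheme X ∖ Y (equivalently, the subspace X ∖ Y) is a Jacobson
space. -/
theorem result (X : Scheme.{u}) [IsLocallyNoetherian X] (Y : Set X)
    (hY : IsClosed Y) (hmeet : ∀ Z : Set X, IsClosed Z → Z.Nonempty → (Z ∩ Y).Nonempty) :
    JacobsonSpace ↥(Yᶜ) := by
  rw [jacobsonSpace_iff_locallyClosed]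
  rintro Z ⟨z₀, hz₀⟩ ⟨O, C, hO, hC, rfl⟩
  -- lift to X
  obtain ⟨O', hO', rfl⟩ := isOpen_induced_iff.mp hO
  obtain ⟨C', hC', rfl⟩ := isClosed_induced_iff.mp hC
  have hz₀O : z₀.1 ∈ O' := hz₀.1
  have hz₀C : z₀.1 ∈ C' := hz₀.2
  have hOY : IsOpen (O' ∩ Yᶜ) := hO'.inter hY.isOpen_compl
  obtain ⟨_, ⟨D, hD, rfl⟩, hz₀D, hDO⟩ :=
    X.isBasis_affineOpens.exists_subset_of_mem_open (show z₀.1 ∈ O' ∩ Yᶜ from ⟨hz₀O, z₀.2⟩) hOY
  haveI : CompactSpace ↥D := isCompact_iff_compactSpace.mp hD.isCompact
  have hS : IsClosed {d : ↥D | d.1 ∈ C'} := hC'.preimage continuous_subtype_val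
  obtain ⟨d, hdS, hdcl⟩ := hS.exists_closed_singleton ⟨⟨z₀.1, hz₀D⟩, hz₀C⟩
  have hdO : d.1 ∈ O' := (hDO d.2).1
  have hdY : d.1 ∈ Yᶜ := (hDO d.2).2
  have hlc : IsLocallyClosed ({d.1} : Set X) := by
    obtain ⟨C'', hC'', hC''d⟩ := isClosed_induced_iff.mp hdcl
    refine ⟨D, C'', D.2, hC'', ?_⟩
    ext w
    constructor
    · rintro rfl
      refine ⟨d.2, ?_⟩
      have : d ∈ Subtype.val ⁻¹' C'' := by rw [hC''d]; rfl
      exact this
    · rintro ⟨hwD, hwC⟩
      have : (⟨w, hwD⟩ : ↥D) ∈ Subtype.val ⁻¹' C'' := hwC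
      rw [hC''d] at this
      exact congrArg Subtype.val this
  refine ⟨⟨d.1, hdY⟩, ⟨hdO, hdS⟩, ?_⟩
  -- closed in U
  rw [mem_closedPoints_iff, ← closure_subset_iff_isClosed]
  intro u hu
  have hsp : (⟨d.1, hdY⟩ : ↥(Yᶜ)) ⤳ u := specializes_iff_mem_closure.mpr hu
  have hsp' : d.1 ⤳ u.1 := (subtype_specializes_iff _ _).mp hsp
  by_contra hne
  have hne' : d.1 ≠ u.1 := fun h => hne (Subtype.ext h.symm)
  -- u.1 is closed in X
  have hucl : IsClosed ({u.1} : Set X) := by
    rw [← closure_subset_iff_isClosed]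
    intro w hw
    have hsp2 : u.1 ⤳ w := specializes_iff_mem_closure.mpr hw
    by_contra hne2
    exact not_isLocallyClosed_singleton_of_specializes X d.1 u.1 w hsp' hsp2 hne'
      (fun h => hne2 h.symm) hlc
  obtain ⟨w, hw1, hw2⟩ := hmeet {u.1} hucl (Set.singleton_nonempty _)
  rw [Set.mem_singleton_iff] at hw1
  rw [hw1] at hw2
  exact u.2 hw2

end Groth.Agent.S3432
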