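import Groth.Statements.S3435
-- import your own Groth.Agent.* helpers here

set_option autoImplicit false
universe u
open EGA41

namespace Groth.Agent.S3435

open TensorProduct in
/-- Let Λ → A → B → C be ring homomorphisms. The homomorphism Ω_{B/Λ} ⊗_B C → Ω_{B/A} ⊗_B C maps the
imperfection module Υ_{C/B/Λ} (the kernel of Ω_{B/Λ} ⊗_B C → Ω_{C/Λ}) onto the imperfection module
Υ_{C/B/A} (the kernel of Ω_{B/A} ⊗_B C → Ω_{C/A}): every element of Υ_{C/B/A} is the image of some
element of Υ_{C/B/Λ}. -/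
theorem result (Λ A B C : Type u) [CommRing Λ] [CommRing A] [CommRing B] [CommRing C]
    [Algebra Λ A] [Algebra Λ B] [Algebra Λ C] [Algebra A B] [Algebra A C] [Algebra B C]
    [IsScalarTower Λ A B] [IsScalarTower Λ A C] [IsScalarTower Λ B C] [IsScalarTower A B C] :
    ∀ ω ∈ EGA41.imperfection A B C, ∃ η ∈ EGA41.imperfection Λ B C,
      (KaehlerDifferential.map Λ A B B).baseChange C η = ω := by
  intro ω hω
  have hω0 : KaehlerDifferential.mapBaseChange A B C ω = 0 := hω
  -- step 1: lift ω
  have hsurj : Function.Surjective ((KaehlerDifferential.map Λ A B B).baseChange C) :=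
    LinearMap.lTensor_surjective C (KaehlerDifferential.map_surjective Λ A B)
  obtain ⟨η₁, hη₁⟩ := hsurj ω
  -- commutativity
  have hcomm : (KaehlerDifferential.map Λ A C C) ∘ₗ (KaehlerDifferential.mapBaseChange Λ B C) =
      (KaehlerDifferential.mapBaseChange A B C) ∘ₗ ((KaehlerDifferential.map Λ A B B).baseChange C) := by
    ext b
    simp
  have h2 : KaehlerDifferential.map Λ A C C (KaehlerDifferential.mapBaseChange Λ B C η₁) = 0 := by
    have := congrArg (fun g => g η₁) hcomm
    simp only [LinearMap.comp_apply] at this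
    rw [this, hη₁, hω0]
  obtain ⟨ζ, hζ⟩ := (KaehlerDifferential.exact_mapBaseChange_map Λ A C _).mp h2
  let θ : TensorProduct A C (Ω[A⁄Λ]) →ₗ[C] TensorProduct B C (Ω[B⁄Λ]) :=
    LinearMap.liftBaseChange C
      (((TensorProduct.mk B C (Ω[B⁄Λ]) 1).restrictScalars A) ∘ₗ (KaehlerDifferential.map Λ Λ A B))
  have hθ1 : (KaehlerDifferential.mapBaseChange Λ B C) ∘ₗ θ = KaehlerDifferential.mapBaseChange Λ A C := by
    ext a
    simp [θ, ← IsScalarTower.algebraMap_apply]
  have hθ2 : ((KaehlerDifferential.map Λ A B B).baseChange C) ∘ₗ θ = 0 := by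
    ext a
    simp [θ]
  refine ⟨η₁ - θ ζ, ?_, ?_⟩
  · show KaehlerDifferential.mapBaseChange Λ B C (η₁ - θ ζ) = 0
    have := congrArg (fun g => g ζ) hθ1
    simp only [LinearMap.comp_apply] at this
    rw [map_sub, this, hζ, sub_self]
  · have := congrArg (fun g => g ζ) hθ2
    simp only [LinearMap.comp_apply, LinearMap.zero_apply] at this
    rw [map_sub, this, hη₁, sub_zero]

end Groth.Agent.S3435
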