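import Groth.Statements.S3439
import Groth.Agent.Lib.Helper2.ProConsLib

set_option autoImplicit false
open CategoryTheory AlgebraicGeometry
universe u
open EGA41

namespace Groth.Agent.S3439

/-- Let X be a quasi-compact scheme, E an ind-constructible subset of X and (F_i) a family of
pro-constructible subsets of X whose intersection is contained in E. Then there is a finite set J of
indices such that the intersection of the F_i for i in J is already contained in E. (Taking E = ∅: a
family of pro-constructible subsets with empty intersection has a finite subfamily with empty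
intersection.) -/
theorem result (X : Scheme.{u}) [CompactSpace X] (E : Set X)
    (hE : ProCons.IsIndConstructible E) {ι : Type u} (F : ι → Set X) (hF : ∀ i, ProCons.IsProConstructible (F i))
    (h : ⋂ i, F i ⊆ E) :
    ∃ J : Finset ι, ⋂ i ∈ J, F i ⊆ E := by
  classical
  -- local statement on an affine open
  have hloc : ∀ V : X.Opens, IsAffineOpen V → ∃ J : Finset ι, ∀ y ∈ V, (∀ i ∈ J, y ∈ F i) → y ∈ E := by
    intro V hV
    obtain ⟨i1, i2, i3, i4⟩ := Groth.Agent.H2.ProConsLib.spectral_of_isAffineOpen hV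
    have hco := Groth.Agent.H2.ProConsLib.co_of_isIndConstructible V.2 hE
    let f : ι → Set ↥(V : Set X) := fun i => Subtype.val ⁻¹' (F i)
    have hsub : ⋂₀ (f '' Set.univ) ⊆ ⋃₀ {(Subtype.val ⁻¹' E : Set ↥(V : Set X))} := by
      intro y hy
      rw [Set.sUnion_singleton]
      apply h
      rw [Set.mem_iInter]
      intro i
      exact hy (f i) ⟨i, Set.mem_univ i, rfl⟩
    obtain ⟨𝒞', 𝒪', h𝒞', h𝒪', hfin, -, hsub'⟩ :=
      Groth.Agent.H2.ConsTop.exists_finite_of_sInter_subset_sUnion
        (by rintro _ ⟨i, -, rfl⟩; exact Groth.Agent.H2.ProConsLib.cc_of_isProConstructible V.2 (hF i))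
        (by rintro _ rfl; exact hco) hsub
    obtain ⟨t, -, htfin, ht⟩ := (Set.exists_subset_image_finite_and
      (p := fun c => ⋂₀ c ⊆ ⋃₀ 𝒪')).mp ⟨𝒞', h𝒞', hfin, hsub'⟩
    refine ⟨htfin.toFinset, fun y hyV hy => ?_⟩
    have : (⟨y, hyV⟩ : ↥(V : Set X)) ∈ ⋂₀ (f '' t) := by
      rintro _ ⟨i, hi, rfl⟩
      exact hy i (htfin.mem_toFinset.mpr hi)
    obtain ⟨O, hO, hyO⟩ := ht this
    have hO2 := h𝒪' hO
    rw [Set.mem_singleton_iff] at hO2
    subst hO2
    exact hyO
  choose! V hVaff hxV using fun x : X =>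
    (let ⟨V, hV, hxV, _⟩ := Groth.Agent.H2.ProConsLib.exists_affine_nhd x isOpen_univ (Set.mem_univ x)
     (⟨V, hV, hxV⟩ : ∃ V : X.Opens, IsAffineOpen V ∧ x ∈ V))
  choose J hJ using fun x : X => hloc (V x) (hVaff x)
  obtain ⟨t, ht⟩ := isCompact_univ.elim_nhds_subcover (fun x => ((V x : X.Opens) : Set X))
    (fun x _ => (V x).2.mem_nhds (hxV x))
  refine ⟨t.biUnion J, fun y hy => ?_⟩
  have hy1 : y ∈ ⋃ x ∈ t, ((V x : X.Opens) : Set X) := ht.2 (Set.mem_univ y)
  simp only [Set.mem_iUnion, exists_prop] at hy1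
  obtain ⟨x, hxt, hyx⟩ := hy1
  refine hJ x y hyx (fun i hi => ?_)
  simp only [Set.mem_iInter] at hy
  exact hy i (Finset.mem_biUnion.mpr ⟨x, hxt, hi⟩)

end Groth.Agent.S3439
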