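import Groth.Statements.S3449
import Mathlib
import Groth.Agent.Lib.Helper1.JacDim

set_option autoImplicit false
open CategoryTheory AlgebraicGeometry
universe u
open EGA43

namespace Groth.Agent.S3449

/-- Let S be a locally Noetherian scheme which is Jacobson, whose local rings are universally catenary,
and whose irreducible components S' are equidimensional in the sense that for every closed point s
of S' the dimension of S' equals the dimension of S' at s (the Krull dimension of the set of
generizations of s inside S'). Let X and Y be S-schemes, each locally of finite type over the base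
S, and let f : X ⟶ Y be a morphism over S, with X irreducible and f dominant; let η be the generic
point of Y and e the dimension of the fibre over η. Then dim X = dim Y + e. -/
theorem result {X Y S : Scheme.{u}} [IsLocallyNoetherian S]
    [JacobsonSpace S] (h2 : ∀ s : S, CAlg.IsUniversallyCatenary (S.presheaf.stalk s))
    (h3 : ∀ S' ∈ irreducibleComponents (S : Type u), ∀ s ∈ S', IsClosed ({s} : Set S) →
      topologicalKrullDim (↥S' : Type u) = topologicalKrullDim ↥{t : S | t ∈ S' ∧ t ⤳ s})
    (p : X ⟶ S) (q : Y ⟶ S) [LocallyOfFiniteType p] [LocallyOfFiniteType q] (f : X ⟶ Y) (hf : f ≫ q = p)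
    [IrreducibleSpace X] [IrreducibleSpace Y] [IsDominant f] :
    topologicalKrullDim (X : Type u) =
      topologicalKrullDim (Y : Type u) + topologicalKrullDim ↥(f.fiber (genericPoint Y)) := by
  subst hf
  haveI : LocallyOfFiniteType f := locallyOfFiniteType_of_comp f q
  have hfξ : f (genericPoint X) = genericPoint Y := Groth.Agent.H1.Chev.map_genericPoint f
  -- the irreducible component of `S`
  have hS' := irreducibleComponent_mem_irreducibleComponents (q (genericPoint Y))
  have hσS' : q (genericPoint Y) ∈ irreducibleComponent (q (genericPoint Y)) :=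
    mem_irreducibleComponent
  obtain ⟨σ₀, hσ₀⟩ := QuasiSober.sober hS'.1 (isClosed_of_mem_irreducibleComponents _ hS')
  have hσ₀' : closure ({σ₀} : Set S) = irreducibleComponent (q (genericPoint Y)) := hσ₀.def
  -- transcendence degrees
  obtain ⟨tη, htη, -⟩ := Groth.Agent.H1.DimFormula.exists_fibreDimAt_eq_stalk_add_trdeg q
    (f (genericPoint X))
  obtain ⟨tf, htf, hfd⟩ := Groth.Agent.H1.DimFormula.fibreDimAt_eq_trdeg_of_generic f
    (genericPoint X) (fun x' _ hx' => ((genericPoint_specializes x').antisymm hx').eq.symm)
  have hadd := Groth.Agent.H1.DimFormula.trdeg_residueField_comp f q (genericPoint X)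
  rw [htη, htf] at hadd
  have htξ : @Algebra.trdeg (S.residueField ((f ≫ q) (genericPoint X)))
      (X.residueField (genericPoint X)) _ _
      ((f ≫ q).residueFieldMap (genericPoint X)).hom.toAlgebra = ((tη + tf : ℕ) : Cardinal) := by
    rw [← hadd]; push_cast; rfl
  have hσX : (f ≫ q) (genericPoint X) ∈ irreducibleComponent (q (genericPoint Y)) := by
    have : (f ≫ q) (genericPoint X) = q (genericPoint Y) := by
      rw [← hfξ]; rfl
    rw [this]; exact hσS'
  have hX := Groth.Agent.H1.JacDim.dim_add_eq h2 (f ≫ q) _ σ₀ hσ₀' hσX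
    (h3 _ hS') (tη + tf) htξ
  have keyY : ∀ (y : Y), y = genericPoint Y →
      @Algebra.trdeg (S.residueField (q y)) (Y.residueField y) _ _
        (q.residueFieldMap y).hom.toAlgebra = (tη : Cardinal) →
      topologicalKrullDim Y + topologicalKrullDim ↥{t : S | σ₀ ⤳ t ∧ t ⤳ q y} =
        topologicalKrullDim ↥(irreducibleComponent (q (genericPoint Y))) + (tη : WithBot ℕ∞) := by
    rintro _ rfl h
    exact Groth.Agent.H1.JacDim.dim_add_eq h2 q _ σ₀ hσ₀' hσS' (h3 _ hS') tη h
  have hY := keyY _ hfξ htη
  have he : ∀ y : Y, f (genericPoint X) = y → topologicalKrullDim ↥(f.fiber y) = (tf : WithBot ℕ∞) := by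
    rintro _ rfl
    haveI := Groth.Agent.H1.Chev.irreducibleSpace_fiber f (f (genericPoint X)) rfl
    rw [← Groth.Agent.H1.Chev.fibreDimAt_eq_dim_of_irreducibleSpace f (genericPoint X), hfd]
  rw [he _ hfξ]
  -- the constant is a natural number
  have hcX : {t : S | σ₀ ⤳ t ∧ t ⤳ (f ≫ q) (genericPoint X)} =
      {t : S | σ₀ ⤳ t ∧ t ⤳ q (f (genericPoint X))} := rfl
  rw [hcX] at hX
  obtain ⟨c, hc⟩ := Groth.Agent.H1.JacDim.exists_natCast_dim_between σ₀ (q (f (genericPoint X)))
    (by
      rw [specializes_iff_mem_closure, hσ₀', hfξ]; exact hσS')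
  rw [hc] at hX hY
  apply Groth.Agent.H1.DimLoc.withBot_add_natCast_cancel c
  rw [hX, add_right_comm, hY]
  push_cast
  rw [add_assoc]

end Groth.Agent.S3449
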