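import Groth.Statements.S3460
import Mathlib
import Groth.Agent.Lib.Helper1.ProperNbhd

set_option autoImplicit false
open CategoryTheory AlgebraicGeometry
universe u
open EGA43

namespace Groth.Agent.S3460

/-- Let Y be locally Noetherian and f : X ⟶ Y of finite type. Then there exist a scheme Z, a proper
morphism g : X ⟶ Z and an immersion h : Z ⟶ Y with f = g ≫ h if and only if f is proper at every
point of f(X), i.e. every point of f(X) has an open neighbourhood U in Y over which the restriction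
of f is proper. -/
theorem result {X Y : Scheme.{u}} [IsLocallyNoetherian Y]
    (f : X ⟶ Y) [LocallyOfFiniteType f] [QuasiCompact f] :
    (∃ (Z : Scheme.{u}) (g : X ⟶ Z) (h : Z ⟶ Y), IsProper g ∧ IsImmersion h ∧ g ≫ h = f) ↔
      ∀ x : X, ∃ U : Y.Opens, f.base x ∈ U ∧ IsProper (f ∣_ U) := by
  constructor
  · rintro ⟨Z, g, h, hg, hh, rfl⟩ x
    haveI := hg; haveI := hh
    let V := h.coborderRange
    let k : X ⟶ V.toScheme := g ≫ h.liftCoborder
    have hk : k ≫ V.ι = g ≫ h := by rw [Category.assoc, h.liftCoborder_ι]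
    have hsurj : ∀ x' : X, (g ≫ h) x' ∈ V := fun x' => by
      rw [← hk, Scheme.Hom.comp_apply]; exact (k x').2
    refine ⟨V, hsurj x, ?_⟩
    haveI : IsIso ((g ≫ h) ⁻¹ᵁ V).ι := by
      rw [isIso_iff_isOpenImmersion_and_surjective]
      exact ⟨inferInstance, ⟨fun x' => ⟨⟨x', hsurj x'⟩, rfl⟩⟩⟩
    have e : (g ≫ h) ∣_ V = ((g ≫ h) ⁻¹ᵁ V).ι ≫ k := by
      rw [← cancel_mono V.ι, morphismRestrict_ι, Category.assoc, hk]
    rw [e]
    infer_instance
  · intro H
    choose U hU1 hU2 using H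
    let W : Y.Opens := ⨆ x, U x
    have hW : ∀ x : X, f x ∈ W := fun x => TopologicalSpace.Opens.mem_iSup.mpr ⟨x, hU1 x⟩
    haveI : IsIso (f ⁻¹ᵁ W).ι := by
      rw [isIso_iff_isOpenImmersion_and_surjective]
      exact ⟨inferInstance, ⟨fun x' => ⟨⟨x', hW x'⟩, rfl⟩⟩⟩
    have hproper : IsProper (f ∣_ W) := by
      rw [← Groth.Agent.H1.ConsFib.bcProper_iff_of_isPullback (isPullback_morphismRestrict f W).flip]
      rw [Groth.Agent.H1.ConsFib.bcProper_iff_forall_restrict f W.ι U ?_]
      · intro x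
        exact MorphismProperty.pullback_snd (P := @IsProper) _ _ (hU2 x)
      · rw [eq_top_iff]
        intro w _
        obtain ⟨x, hx⟩ := TopologicalSpace.Opens.mem_iSup.mp w.2
        exact TopologicalSpace.Opens.mem_iSup.mpr ⟨x, hx⟩
    refine ⟨W.toScheme, inv (f ⁻¹ᵁ W).ι ≫ f ∣_ W, W.ι, inferInstance, inferInstance, ?_⟩
    rw [Category.assoc, morphismRestrict_ι, IsIso.inv_hom_id_assoc]

end Groth.Agent.S3460
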