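import Groth.Statements.S3524
import Mathlib
import Groth.Agent.H4.Kun6
import Groth.Agent.Lib.Helper2.TorBalOne

set_option autoImplicit false
universe u
attribute [local instance] HasDerivedCategory.standard
open HTor

namespace Groth.Agent.S3524

open CategoryTheory CategoryTheory.Limits in
/-- Consequence of the biregular Künneth/hypertor spectral sequence; cochain indexing. Let L and M be
complexes of A-modules vanishing in large degrees, every term of L flat (so that L ⊗ M computes the
hypertor of L and M). If Tor_p^A(H^i(L), H^j(M)) = 0 for all p ≥ 0 and all i, j with i + j - p = n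
(vanishing stated as Subsingleton), then H^n(L ⊗ M) = 0. (Tor is Mathlib's, left derived in the
second variable.) -/
theorem result (A : Type u) [CommRing A] (L M : DRing.Cx A)
    (hL : DRing.TermwiseFlat L) (bL : ∃ b : ℤ, DRing.VanishesAbove L b)
    (bM : ∃ b : ℤ, DRing.VanishesAbove M b) (n : ℤ)
    (h : ∀ (p : ℕ) (i j : ℤ), i + j - p = n → Subsingleton (DRing.Tor A p (L.homology i) (M.homology j))) :
    IsZero ((HTor.tensorCx L M).homology n) := by
  obtain ⟨b1, h1⟩ := bL
  obtain ⟨b2, h2⟩ := bM
  obtain ⟨N, F, h0, hmono, htop, hgr⟩ :=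
    Groth.Agent.H4.Kun6.kunneth_filtration L M hL b1 b2 h1 h2 n
  have hT : ∀ p : ℕ, Subsingleton (HTor.TorSum L M n p) := fun p =>
    ⟨fun x y => DFinsupp.ext (fun ij => by
      haveI := h p ij.1.1 ij.1.2 ij.2
      exact Subsingleton.elim _ _)⟩
  have hstep : ∀ p : ℕ, F (p + 1) ≤ F p := by
    intro p
    obtain ⟨S, S', -, ⟨e⟩⟩ := hgr p
    haveI := hT (p + 1)
    haveI : Subsingleton (HTor.grSucc F p) := e.toEquiv.subsingleton
    have htop' : Submodule.comap (F (p + 1)).subtype (F p) = ⊤ :=
      Submodule.Quotient.subsingleton_iff.1 this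
    intro x hx
    have : (⟨x, hx⟩ : F (p + 1)) ∈ Submodule.comap (F (p + 1)).subtype (F p) := by
      rw [htop']
      exact Submodule.mem_top
    exact this
  have hle : ∀ k : ℕ, F k ≤ F 0 := by
    intro k
    induction k with
    | zero => exact le_rfl
    | succ k ih => exact (hstep k).trans ih
  have hK : Subsingleton (HTor.KunnethSum L M n) :=
    ⟨fun x y => DFinsupp.ext (fun ij => by
      haveI := h 0 ij.1.1 ij.1.2 (by have := ij.2; push_cast; omega)
      haveI : Subsingleton (TensorProduct A (L.homology ij.1.1) (M.homology ij.1.2)) :=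
        (Groth.Agent.H2.TorBal.torZeroLinearEquiv (L.homology ij.1.1)
          (M.homology ij.1.2)).symm.toEquiv.subsingleton
      exact Subsingleton.elim _ _)⟩
  have hbot : F 0 = ⊥ := by
    rw [h0, eq_bot_iff]
    rintro _ ⟨x, rfl⟩
    rw [Subsingleton.elim x 0, map_zero]
    exact Submodule.zero_mem _
  have htb : (⊤ : Submodule A ((HTor.tensorCx L M).homology n)) = ⊥ := by
    rw [← htop, eq_bot_iff, ← hbot]
    exact hle N
  haveI : Subsingleton ((HTor.tensorCx L M).homology n) :=
    ⟨fun x y => by
      have hx : x ∈ (⊤ : Submodule A ((HTor.tensorCx L M).homology n)) := Submodule.mem_top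
      have hy : y ∈ (⊤ : Submodule A ((HTor.tensorCx L M).homology n)) := Submodule.mem_top
      rw [htb, Submodule.mem_bot] at hx hy
      rw [hx, hy]⟩
  exact ModuleCat.isZero_of_subsingleton _

end Groth.Agent.S3524
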