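import Groth.Statements.S3532
import Mathlib

set_option autoImplicit false
universe u
open HomAlg3

namespace Groth.Agent.S3532

section
open CategoryTheory Opposite
variable (F : ℕᵒᵖ ⥤ AddCommGrpCat.{u})

/-- transition map -/
def tr {p k : ℕ} (h : p ≤ k) : F.obj (op k) →+ F.obj (op p) := (F.map (homOfLE h).op).hom

theorem tr_comp {p q k : ℕ} (h1 : p ≤ q) (h2 : q ≤ k) (x : F.obj (op k)) :
    tr F h1 (tr F h2 x) = tr F (h1.trans h2) x := by
  unfold tr
  have : (homOfLE (h1.trans h2)).op = (homOfLE h2).op ≫ (homOfLE h1).op := rfl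
  rw [this, F.map_comp]
  rfl

theorem range_anti {p q k : ℕ} (h1 : p ≤ q) (h2 : q ≤ k) :
    (tr F (h1.trans h2)).range ≤ (tr F h1).range := by
  rintro _ ⟨x, rfl⟩
  exact ⟨tr F h2 x, tr_comp F h1 h2 x⟩

theorem ml_iff : (F ⋙ forget AddCommGrpCat).IsMittagLeffler ↔
    ∀ p : ℕ, ∃ (k₀ : ℕ) (h₀ : p ≤ k₀), ∀ (k : ℕ) (hk : k₀ ≤ k),
      (tr F (h₀.trans hk)).range = (tr F h₀).range := by
  constructor
  · intro h p
    obtain ⟨i, f, hf⟩ := h (op p)
    have h₀ : p ≤ i.unop := leOfHom f.unop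
    refine ⟨i.unop, h₀, fun k hk => le_antisymm (range_anti F h₀ hk) ?_⟩
    rintro _ ⟨x, rfl⟩
    have hfe : f = (homOfLE h₀).op := Subsingleton.elim _ _
    have := hf (homOfLE (h₀.trans hk)).op ⟨x, rfl⟩
    rw [hfe] at this
    obtain ⟨y, hy⟩ := this
    exact ⟨y, hy⟩
  · intro h j
    obtain ⟨k₀, h₀, hk⟩ := h j.unop
    refine ⟨op k₀, (homOfLE h₀).op, ?_⟩
    intro k g
    have hg : j.unop ≤ k.unop := leOfHom g.unop
    rintro _ ⟨x, rfl⟩
    -- x ∈ F k₀ ; need element of F k mapping to the same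
    have hle : (tr F h₀).range ≤ (tr F hg).range := by
      have e := hk (max k₀ k.unop) (le_max_left _ _)
      rw [← e]
      exact range_anti F hg (le_max_right _ _)
    obtain ⟨y, hy⟩ := hle ⟨x, rfl⟩
    have hge : g = (homOfLE hg).op := Subsingleton.elim _ _
    rw [hge]
    exact ⟨y, hy⟩

theorem stab_succ (p : ℕ)
    (h1 : ∃ (k₀ : ℕ) (h₀ : p ≤ k₀), ∀ (k : ℕ) (hk : k₀ ≤ k),
      (tr F (h₀.trans hk)).range = (tr F h₀).range)
    (h2 : ∃ k₀ : ℕ, ∃ h₀ : p + 1 ≤ k₀, ∀ (k : ℕ) (hk : k₀ ≤ k),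
          (tr F (h₀.trans hk)).range ⊓ (tr F (Nat.le_succ p)).ker =
            (tr F h₀).range ⊓ (tr F (Nat.le_succ p)).ker) :
    ∃ (k₀ : ℕ) (h₀ : p + 1 ≤ k₀), ∀ (k : ℕ) (hk : k₀ ≤ k),
      (tr F (h₀.trans hk)).range = (tr F h₀).range := by
  obtain ⟨k₁, h₁, H1⟩ := h1
  obtain ⟨k₂, h₂, H2⟩ := h2
  have hm : p + 1 ≤ max k₁ k₂ := h₂.trans (le_max_right _ _)
  refine ⟨max k₁ k₂, hm, fun k hk => le_antisymm (range_anti F hm hk) ?_⟩
  rintro _ ⟨y, rfl⟩
  have hpm : p ≤ max k₁ k₂ := (Nat.le_succ p).trans hm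
  -- image of y in A_p lies in Im_k
  have hyp : tr F hpm y ∈ (tr F (hpm.trans hk)).range := by
    have e1 := H1 (max k₁ k₂) (le_max_left _ _)
    have e2 := H1 k ((le_max_left _ _).trans hk)
    have : tr F hpm y ∈ (tr F (h₁.trans (le_max_left k₁ k₂))).range := ⟨y, rfl⟩
    rw [e1, ← e2] at this
    exact this
  obtain ⟨z, hz⟩ := hyp
  -- x' = image of z in A_{p+1}
  have hdiff : tr F hm y - tr F (hm.trans hk) z ∈
      (tr F hm).range ⊓ (tr F (Nat.le_succ p)).ker := by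
    refine ⟨?_, ?_⟩
    · exact (tr F hm).range.sub_mem ⟨y, rfl⟩ (range_anti F hm hk ⟨z, rfl⟩)
    · change _ ∈ (tr F (Nat.le_succ p)).ker
      rw [AddMonoidHom.mem_ker, map_sub, tr_comp, tr_comp, sub_eq_zero]
      exact hz.symm
  have e3 : (tr F (hm.trans hk)).range ⊓ (tr F (Nat.le_succ p)).ker =
      (tr F hm).range ⊓ (tr F (Nat.le_succ p)).ker := by
    have a := H2 (max k₁ k₂) (le_max_right _ _)
    have b := H2 k ((le_max_right _ _).trans hk)
    exact b.trans a.symm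
  rw [← e3] at hdiff
  have := (tr F (hm.trans hk)).range.add_mem hdiff.1 ⟨z, rfl⟩
  simpa using this
end

open CategoryTheory in
/-- Category of abelian groups, system indexed by the natural numbers: Let (A_k)_{k ≥ 0} be an inverse
system of abelian groups. For p ≤ k write Im_k(A_p) for the image of A_k → A_p, and K_p for the
kernel of A_p → A_{p-1} (K_0 = A_0). Then (A_k) satisfies the Mittag-Leffler condition (for each p
the subgroups Im_k(A_p) are eventually constant in k) if and only if for each p the subgroups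
Im_k(A_p) ∩ K_p are eventually constant in k. -/
theorem result (F : ℕᵒᵖ ⥤ AddCommGrpCat.{u}) :
    (F ⋙ forget AddCommGrpCat).IsMittagLeffler ↔
      ((∃ k₀ : ℕ, ∀ (k : ℕ) (hk : k₀ ≤ k),
          (F.map (homOfLE (Nat.zero_le k)).op).hom.range = (F.map (homOfLE (Nat.zero_le k₀)).op).hom.range) ∧
        ∀ p : ℕ, ∃ k₀ : ℕ, ∃ h₀ : p + 1 ≤ k₀, ∀ (k : ℕ) (hk : k₀ ≤ k),
          (F.map (homOfLE (h₀.trans hk)).op).hom.range ⊓ (F.map (homOfLE (Nat.le_succ p)).op).hom.ker =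
            (F.map (homOfLE h₀).op).hom.range ⊓ (F.map (homOfLE (Nat.le_succ p)).op).hom.ker) := by
  rw [ml_iff]
  constructor
  · intro h
    refine ⟨?_, fun p => ?_⟩
    · obtain ⟨k₀, h₀, hk⟩ := h 0
      exact ⟨k₀, fun k hk' => hk k hk'⟩
    · obtain ⟨k₀, h₀, hk⟩ := h (p + 1)
      exact ⟨k₀, h₀, fun k hk' => by
        have := hk k hk'
        unfold tr at this
        rw [this]⟩
  · rintro ⟨h0, hs⟩ p
    induction p with
    | zero =>
      obtain ⟨k₀, hk⟩ := h0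
      exact ⟨k₀, Nat.zero_le _, fun k hk' => hk k hk'⟩
    | succ p ih => exact stab_succ F p ih (hs p)

end Groth.Agent.S3532
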