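import Groth.Statements.S3533
import Mathlib
import Groth.Agent.H4.FlatPull2
import Groth.Agent.H4.K0Coh
import Groth.Agent.H4.PSch4

set_option autoImplicit false
universe u
attribute [local instance] HasDerivedCategory.standard
open HTor

namespace Groth.Agent.S3533

open CategoryTheory CategoryTheory.Limits AlgebraicGeometry in
/-- Let f : X ⟶ S be a flat morphism with X locally Noetherian, g : Y ⟶ S a morphism, and suppose Z = X
×_S Y is locally Noetherian. As X is flat over S, the local hypertor sheaves Tor_n^S(F, G) on Z are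
taken to be the cohomology sheaves in degree −n of L pr₁^* F ⊗^L pr₂^* G, where pr₂^* G is the plain
pullback of G viewed as a complex in degree 0 and the derived pullback L pr₁^* and the derived
tensor product are taken under their existence binders; the statement is made in that form. Then for
F a coherent O_X-module and G a coherent O_Y-module, every cohomology sheaf of L pr₁^* F ⊗^L pr₂^* G
is a coherent O_Z-module. -/
theorem result (X Y S : Scheme.{u}) (f : X ⟶ S) (g : Y ⟶ S) [Flat f]
    [IsLocallyNoetherian X] [IsLocallyNoetherian (pullback f g)] (F : X.Modules) (G : Y.Modules)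
    (hF : Coh.IsCoh F) (hG : Coh.IsCoh G) [DCoh.HasLpull (pullback.fst f g)]
    [DCoh.HasLTensorCx ((HTor.pullCx (pullback.snd f g)).obj
      ((HomologicalComplex.single Y.Modules (ComplexShape.up ℤ) 0).obj G))] (n : ℤ) :
    Coh.IsCoh (DCoh.HD ((DCoh.LTensorCx ((HTor.pullCx (pullback.snd f g)).obj
      ((HomologicalComplex.single Y.Modules (ComplexShape.up ℤ) 0).obj G))).obj
        ((DCoh.Lpull (pullback.fst f g)).obj (DCoh.inD X F))) n) := by
  classical
  have hcohD : ∀ (Z : Scheme.{u}) (M : Z.Modules), Coh.IsCoh M →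
      DCoh.IsCohD (DCoh.toD Z ((HomologicalComplex.single Z.Modules (ComplexShape.up ℤ) 0).obj M)) := by
    intro Z M hM i
    have e1 : DCoh.HD (DCoh.toD Z ((HomologicalComplex.single Z.Modules (ComplexShape.up ℤ) 0).obj M)) i ≅
        ((HomologicalComplex.single Z.Modules (ComplexShape.up ℤ) 0).obj M).homology i :=
      (DerivedCategory.homologyFunctorFactors Z.Modules i).app _
    by_cases hi : i = 0
    · subst hi
      exact Groth.Agent.H4.PSch4.isCoh_of_iso
        (e1 ≪≫ HomologicalComplex.singleObjHomologySelfIso (ComplexShape.up ℤ) 0 M).symm hM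
    · exact Groth.Agent.H4.K0Coh.isCoh_of_isZero
        (IsZero.of_iso (HomologicalComplex.isZero_single_obj_homology (ComplexShape.up ℤ) 0 M i hi) e1)
  have hb : ∀ (Z : Scheme.{u}) (M : Z.Modules), ∃ b : ℤ, ∀ i : ℤ, b < i →
      IsZero (((HomologicalComplex.single Z.Modules (ComplexShape.up ℤ) 0).obj M).X i) :=
    fun Z M => ⟨0, fun i hi => HomologicalComplex.isZero_single_obj_X (ComplexShape.up ℤ) 0 M i (by omega)⟩
  have h := Groth.Agent.H4.FlatPull2.S3542 X Y S f g
    ((HomologicalComplex.single X.Modules (ComplexShape.up ℤ) 0).obj F)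
    ((HomologicalComplex.single Y.Modules (ComplexShape.up ℤ) 0).obj G)
    (hb X F) (hb Y G) (hcohD X F hF) (hcohD Y G hG)
  have e : DCoh.inD X F ≅
      DCoh.toD X ((HomologicalComplex.single X.Modules (ComplexShape.up ℤ) 0).obj F) :=
    (DerivedCategory.singleFunctorIsoCompQ X.Modules 0).app F
  exact Groth.Agent.H4.PSch4.isCoh_of_iso
    ((DerivedCategory.homologyFunctor _ n).mapIso
      ((DCoh.LTensorCx _).mapIso ((DCoh.Lpull (pullback.fst f g)).mapIso e.symm))) (h n)

end Groth.Agent.S3533
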