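import Groth.Statements.S3544
import Mathlib
import Groth.Agent.Lib.Helper1.SSEuler

set_option autoImplicit false
universe u
open HomAlg3

namespace Groth.Agent.S3544

open CategoryTheory CategoryTheory.Limits Groth.Agent.H1.SSEuler in
lemma aux {A : Type u} [Ring A]
    (E : E₂CohomologicalSpectralSequence (ModuleCat.{u} A)) (s : Finset (ℤ × ℤ))
    (hs : ∀ pq : ℤ × ℤ, pq ∉ s → IsZero ((E.page 2).X pq))
    (hfl : ∀ pq : ℤ × ℤ, IsFiniteLength A ((E.page 2).X pq)) (r : ℤ) (hr : 2 ≤ r) :
    (∀ pq : ℤ × ℤ, pq ∉ s → IsZero ((E.page r hr).X pq)) ∧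
    (∀ pq : ℤ × ℤ, IsFiniteLength A ((E.page r hr).X pq)) ∧
    (s.sum fun pq => eps pq * ((Module.length A ((E.page r hr).X pq)).toNat : ℤ)) =
      s.sum fun pq => eps pq * ((Module.length A ((E.page 2).X pq)).toNat : ℤ) := by
  induction r, hr using Int.leInduction with
  | base => exact ⟨hs, hfl, rfl⟩
  | succ r hr ih =>
    obtain ⟨ih1, ih2, ih3⟩ := ih
    have hiso : ∀ pq, Nonempty (((E.page r hr).homology pq) ≅ (E.page (r+1) (by omega)).X pq) :=
      fun pq => ⟨E.iso r (r+1) pq rfl hr⟩
    refine ⟨?_, ?_, ?_⟩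
    · intro pq hpq
      exact (isZero_homology _ pq (ih1 pq hpq)).of_iso (hiso pq).some.symm
    · intro pq
      exact IsFiniteLength.of_surjective (isFiniteLength_homology _ pq (ih2 pq))
        (hiso pq).some.toLinearEquiv.surjective
    · rw [← ih3, euler_page ⟨r, 1 - r⟩ (by simp) (E.page r hr) s ih1 ih2]
      apply Finset.sum_congr rfl
      intro pq _
      rw [(hiso pq).some.toLinearEquiv.length_eq]

open CategoryTheory CategoryTheory.Limits in
/-- Let E be a cohomological spectral sequence of modules over a ring A, starting at page 2, such that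
the E₂ terms have finite length and only finitely many of them (all inside the finite set s of
bidegrees) are nonzero. Then for every r ≥ 2 the Euler–Poincaré characteristic of page r, the
alternating sum over s of (-1)^{p+q} times the length of E_r^{pq}, equals that of page 2. -/
theorem result {A : Type u} [Ring A]
    (E : E₂CohomologicalSpectralSequence (ModuleCat.{u} A)) (s : Finset (ℤ × ℤ))
    (hs : ∀ pq : ℤ × ℤ, pq ∉ s → IsZero ((E.page 2).X pq))
    (hfl : ∀ pq : ℤ × ℤ, IsFiniteLength A ((E.page 2).X pq)) (r : ℤ) (hr : 2 ≤ r) :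
    (s.sum fun pq => (((pq.1 + pq.2).negOnePow : ℤˣ) : ℤ) * ((Module.length A ((E.page r hr).X pq)).toNat : ℤ)) =
      s.sum fun pq => (((pq.1 + pq.2).negOnePow : ℤˣ) : ℤ) * ((Module.length A ((E.page 2).X pq)).toNat : ℤ) := by
  exact (aux E s hs hfl r hr).2.2

end Groth.Agent.S3544
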