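import Groth.Statements.S3548
import Mathlib

set_option autoImplicit false
universe u
open CategoryTheory CategoryTheory.Limits AlgebraicGeometry
open EGA2

namespace Groth.Agent.S3548

open TopologicalSpace Opposite

lemma exists_homog_notMem {R A : Type u} [CommRing R] [CommRing A] [Algebra R A] (𝒜 : ℕ → Submodule R A) [GradedAlgebra 𝒜]
    (x : ProjectiveSpectrum 𝒜) : ∃ (f : A) (m : ℕ) (_ : f ∈ 𝒜 m) (_ : 0 < m), f ∉ x.asHomogeneousIdeal := by
  classical
  by_contra! hcon
  refine x.not_irrelevant_le fun z hz ↦ ?_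
  rw [← DirectSum.sum_support_decompose 𝒜 z]
  exact x.asHomogeneousIdeal.toIdeal.sum_mem fun k hk ↦ hcon _ k (SetLike.coe_mem _) <| by_contra <| by aesop

lemma locMod_subsingleton {R A : Type u} [CommRing R] [CommRing A] [Algebra R A] (𝒜 : ℕ → Submodule R A) [GradedAlgebra 𝒜]
    {M : Type u} [AddCommGroup M] [Module R M] [Module A M]
    (h : ∀ (z : M) (d : ℕ) (f : A), 0 < d → f ∈ 𝒜 d → ∃ k : ℕ, f ^ k • z = 0)
    (x : ProjectiveSpectrum 𝒜) : Subsingleton (GrTilde.LocMod 𝒜 (M := M) x) := by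
  obtain ⟨f, m, hfm, hm, hfx⟩ := exists_homog_notMem 𝒜 x
  refine ⟨fun a b => ?_⟩
  have key : ∀ c : GrTilde.LocMod 𝒜 (M := M) x, c = 0 := by
    intro c
    induction c using LocalizedModule.induction_on with
    | h z s =>
      obtain ⟨k, hk⟩ := h z m f hm hfm
      rw [← LocalizedModule.zero_mk s, LocalizedModule.mk_eq]
      have hfk : f ^ k ∈ x.asHomogeneousIdeal.toIdeal.primeCompl := by
        intro hmem
        exact hfx (x.isPrime.mem_of_pow_mem k hmem)
      refine ⟨⟨f ^ k, hfk⟩, ?_⟩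
      have e1 : (⟨f ^ k, hfk⟩ : x.asHomogeneousIdeal.toIdeal.primeCompl) • z = 0 := hk
      rw [smul_zero, smul_zero, smul_comm, e1, smul_zero]
  rw [key a, key b]


/-- Let S be a graded ring, M a graded S-module and X = Proj S. If for every z in M and every
homogeneous f of positive degree some power of f annihilates z, then the O_X-module M~ is zero. -/
theorem result {R A : Type u} [CommRing R] [CommRing A] [Algebra R A] (𝒜 : ℕ → Submodule R A) [GradedAlgebra 𝒜]
    {M : Type u} [AddCommGroup M] [Module R M] [Module A M] [IsScalarTower R A M] (ℳ : ℕ → Submodule R M) [DirectSum.Decomposition ℳ] [SetLike.GradedSMul 𝒜 ℳ]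
    (h : ∀ (z : M) (d : ℕ) (f : A), 0 < d → f ∈ 𝒜 d → ∃ k : ℕ, f ^ k • z = 0) :
    IsZero (GrTilde.tilde 𝒜 ℳ 0) := by
  have hsub : ∀ U : (Opens (ProjectiveSpectrum.top 𝒜))ᵒᵖ, Subsingleton (GrTilde.sect 𝒜 ℳ 0 U) := by
    intro U
    refine ⟨fun a b => ?_⟩
    apply Subtype.ext
    funext y
    apply Subtype.ext
    have := locMod_subsingleton 𝒜 (M := M) h y.1
    exact Subsingleton.elim _ _
  rw [IsZero.iff_id_eq_zero]
  apply SheafOfModules.hom_ext
  apply PresheafOfModules.hom_ext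
  intro U
  ext a
  have := hsub U
  exact Subsingleton.elim (α := GrTilde.sect 𝒜 ℳ 0 U) _ _

end Groth.Agent.S3548
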