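import Groth.Statements.S3550
import Groth.Agent.Lib.Lead.PT.Iso

set_option autoImplicit false
universe u
open CategoryTheory CategoryTheory.Limits AlgebraicGeometry
open EGA2

namespace Groth.Agent.S3550

/-- Let S be a graded ring whose irrelevant ideal S_+ is generated by finitely many elements of degree
one, and X = Proj S. Then every quasi-coherent O_X-module F is isomorphic to M~ for some graded
S-module M (graded in nonnegative degrees). -/
theorem result {R A : Type u} [CommRing R] [CommRing A] [Algebra R A] (𝒜 : ℕ → Submodule R A) [GradedAlgebra 𝒜]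
    (s : Finset A) (hs1 : ∀ f ∈ s, f ∈ 𝒜 1)
    (hs : (HomogeneousIdeal.irrelevant 𝒜).toIdeal = Ideal.span (s : Set A))
    (F : (Proj 𝒜).Modules) (hF : Coh.IsQCoh F) :
    ∃ (M : Type u) (_ : AddCommGroup M) (_ : Module R M) (_ : Module A M) (_ : IsScalarTower R A M)
      (ℳ : ℕ → Submodule R M) (_ : DirectSum.Decomposition ℳ) (_ : SetLike.GradedSMul 𝒜 ℳ),
      Nonempty (GrTilde.tilde 𝒜 ℳ 0 ≅ F) := by
  classical
  haveI : F.IsQuasicoherent := hF
  haveI hfF : Fact (∀ i : {a // a ∈ s}, (Subtype.val : {a // a ∈ s} → A) i ∈ 𝒜 1) :=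
    ⟨fun i => hs1 i.1 i.2⟩
  have hcov : ∀ x : Proj 𝒜, ∃ i : {a // a ∈ s},
      x ∈ Groth.Agent.LD.PT.U 𝒜 (Subtype.val : {a // a ∈ s} → A) i := by
    intro x
    by_contra! hcon
    apply x.not_irrelevant_le
    intro a ha
    have ha' : a ∈ Ideal.span (s : Set A) := hs ▸ ha
    refine (Ideal.span_le.2 ?_) ha'
    intro b hb
    by_contra hbx
    exact hcon ⟨b, Finset.mem_coe.mp hb⟩ ((Proj.mem_basicOpen 𝒜 b x).mpr hbx)
  haveI := Groth.Agent.LD.PT.isIso_beta (f := (Subtype.val : {a // a ∈ s} → A)) F hcov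
  have e : Groth.Agent.LD.PT.Til 𝒜 (Subtype.val : {a // a ∈ s} → A) F ≅ F :=
    asIso (Groth.Agent.LD.PT.beta F hcov)
  exact ⟨Groth.Agent.LD.PT.GS 𝒜 (Subtype.val : {a // a ∈ s} → A) F, inferInstance,
    Groth.Agent.LD.PT.instModR F, Groth.Agent.LD.PT.instModA F, Groth.Agent.LD.PT.instTower F,
    Groth.Agent.LD.PT.Gr 𝒜 _ F, Groth.Agent.LD.PT.instDecomp F, Groth.Agent.LD.PT.instGSMul F,
    ⟨e⟩⟩

end Groth.Agent.S3550
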