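import Groth.Statements.S3551
import Groth.Agent.Lib.Lead.PT.Fin

set_option autoImplicit false
universe u
open CategoryTheory CategoryTheory.Limits AlgebraicGeometry
open EGA2

namespace Groth.Agent.S3551

/-- Let S be a graded ring whose irrelevant ideal S_+ is generated by finitely many elements of degree
one, and X = Proj S. Then every quasi-coherent O_X-module of finite type is isomorphic to N~ for
some finitely generated graded S-module N (graded in nonnegative degrees). -/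
theorem result {R A : Type u} [CommRing R] [CommRing A] [Algebra R A] (𝒜 : ℕ → Submodule R A) [GradedAlgebra 𝒜]
    (s : Finset A) (hs1 : ∀ f ∈ s, f ∈ 𝒜 1)
    (hs : (HomogeneousIdeal.irrelevant 𝒜).toIdeal = Ideal.span (s : Set A))
    (F : (Proj 𝒜).Modules) (hF : Coh.IsQCoh F) (hFT : CohB1.IsFT F) :
    ∃ (N : Type u) (_ : AddCommGroup N) (_ : Module R N) (_ : Module A N) (_ : IsScalarTower R A N)
      (𝒩 : ℕ → Submodule R N) (_ : DirectSum.Decomposition 𝒩) (_ : SetLike.GradedSMul 𝒜 𝒩),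
      Module.Finite A N ∧ Nonempty (GrTilde.tilde 𝒜 𝒩 0 ≅ F) := by
  classical
  haveI : F.IsQuasicoherent := hF
  haveI hfF : Fact (∀ i : {a // a ∈ s}, (Subtype.val : {a // a ∈ s} → A) i ∈ 𝒜 1) :=
    ⟨fun i => hs1 i.1 i.2⟩
  have hcov : ∀ x : Proj 𝒜, ∃ i : {a // a ∈ s},
      x ∈ Groth.Agent.LD.PT.U 𝒜 (Subtype.val : {a // a ∈ s} → A) i := by
    intro x
    by_contra! hcon
    apply x.not_irrelevant_le
    intro a ha
    have ha' : a ∈ Ideal.span (s : Set A) := hs ▸ ha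
    refine (Ideal.span_le.2 ?_) ha'
    intro b hb
    by_contra hbx
    exact hcon ⟨b, Finset.mem_coe.mp hb⟩ ((Proj.mem_basicOpen 𝒜 b x).mpr hbx)
  obtain ⟨P, hP, hfg, ⟨e⟩⟩ := Groth.Agent.LD.PT.exists_fin_tilde
    (f := (Subtype.val : {a // a ∈ s} → A)) F hcov hFT
  open Groth.Agent.LD.PT in
  exact ⟨↥P, inferInstance, inferInstance, inferInstance, inferInstance,
    Groth.Agent.LD.PT.subGr (Groth.Agent.LD.PT.Gr 𝒜 _ F) P,
    Groth.Agent.LD.PT.subDecomp (Groth.Agent.LD.PT.Gr 𝒜 _ F) P hP,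
    Groth.Agent.LD.PT.subGr_gradedSMul (Groth.Agent.LD.PT.Gr 𝒜 _ F) P 𝒜,
    Module.Finite.of_fg hfg, ⟨e⟩⟩

end Groth.Agent.S3551
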