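import Groth.Statements.S3553
import Groth.Agent.Lib.Helper1.ProjBasic

set_option autoImplicit false
universe u
open CategoryTheory CategoryTheory.Limits AlgebraicGeometry
open EGA2

namespace Groth.Agent.S3553

/-- In the case where the induced morphism is defined on all of Proj S: let φ : S' → S be a homomorphism
of graded rings such that S_+ is contained in the ideal generated by φ(S'_+), and suppose every
element of the kernel of φ is nilpotent. Then the induced morphism from Proj S to Proj S' has dense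
image. -/
theorem result {R A : Type u} [CommRing R] [CommRing A] [Algebra R A] (𝒜 : ℕ → Submodule R A) [GradedAlgebra 𝒜]
    {B : Type u} [CommRing B] [Algebra R B] (ℬ : ℕ → Submodule R B) [GradedAlgebra ℬ]
    (φ : 𝒜 →+*ᵍ ℬ) (hφ : HomogeneousIdeal.irrelevant ℬ ≤ (HomogeneousIdeal.irrelevant 𝒜).map φ)
    (hker : ∀ a : A, φ a = 0 → IsNilpotent a) :
    DenseRange (Proj.map φ hφ).base := by
  have hb := (ProjectiveSpectrum.isTopologicalBasis_basic_opens 𝒜).dense_iff
    (s := Set.range (Proj.map φ hφ).base)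
  refine hb.mpr ?_
  rintro _ ⟨s, rfl⟩ ⟨x, hx⟩
  obtain ⟨i, t, hi, ht, htx⟩ := Groth.Agent.H1.PB.exists_homogeneous_pos_notMem 𝒜 x
  have hst : s * t ∉ x.asHomogeneousIdeal.toIdeal := fun h =>
    (x.isPrime.mem_or_mem h).elim hx htx
  have hnil : ¬ IsNilpotent (φ (s * t)) := by
    rintro ⟨n, hn⟩
    rw [← map_pow] at hn
    have := hker _ hn
    obtain ⟨m, hm⟩ := this
    rw [← pow_mul] at hm
    exact hst (x.isPrime.mem_of_pow_mem _ (hm ▸ Ideal.zero_mem _))
  have hmem : φ (s * t) ∈ (HomogeneousIdeal.irrelevant ℬ).toIdeal := by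
    rw [map_mul]
    exact Ideal.mul_mem_left _ _ (HomogeneousIdeal.mem_irrelevant_of_mem ℬ hi (φ.2 ht))
  obtain ⟨y, hy⟩ := Groth.Agent.H1.PB.exists_relevant_prime_of_not_nilpotent ℬ _ hmem hnil
  refine ⟨(Proj.map φ hφ).base y, ?_, ⟨y, rfl⟩⟩
  change y ∈ Proj.map φ hφ ⁻¹ᵁ Proj.basicOpen 𝒜 s
  rw [Proj.map_preimage_basicOpen]
  change φ s ∉ y.asHomogeneousIdeal
  intro h
  apply hy
  rw [map_mul]
  exact Ideal.mul_mem_right _ _ h

end Groth.Agent.S3553
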