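import Groth.Statements.S3558
import Groth.Agent.Lib.Helper1.ProjBasic

set_option autoImplicit false
universe u
open CategoryTheory CategoryTheory.Limits AlgebraicGeometry
open EGA2

namespace Groth.Agent.S3558

/-- For a graded ring S, Proj S is empty if and only if every element of the irrelevant ideal S_+ is
nilpotent. -/
theorem result {R A : Type u} [CommRing R] [CommRing A] [Algebra R A] (𝒜 : ℕ → Submodule R A) [GradedAlgebra 𝒜] :
    IsEmpty (Proj 𝒜) ↔ ∀ f ∈ (HomogeneousIdeal.irrelevant 𝒜).toIdeal, IsNilpotent f := by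
  constructor
  · intro h f hf
    by_contra hn
    obtain ⟨x, hx⟩ := Groth.Agent.H1.PB.exists_relevant_prime_of_not_nilpotent 𝒜 f hf hn
    exact h.false x
  · intro h
    refine ⟨fun x => ?_⟩
    have hx : x ∈ (⊤ : (Proj 𝒜).Opens) := trivial
    apply (show ProjectiveSpectrum 𝒜 from x).not_irrelevant_le
    intro f hf
    obtain ⟨n, hn⟩ := h f hf
    exact (show ProjectiveSpectrum 𝒜 from x).isPrime.mem_of_pow_mem n (hn ▸ Ideal.zero_mem _)

end Groth.Agent.S3558
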