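import Groth.Statements.S3560
import Groth.Agent.Lib.Helper1.GradedFG
import Groth.Agent.S3558

set_option autoImplicit false
universe u
open CategoryTheory CategoryTheory.Limits AlgebraicGeometry
open EGA2

namespace Groth.Agent.S3560

/-- Let S be a graded ring whose irrelevant ideal S_+ is finitely generated. Then Proj S is empty if and
only if there is n such that S_k = 0 for all k ≥ n. -/
theorem result {R A : Type u} [CommRing R] [CommRing A] [Algebra R A] (𝒜 : ℕ → Submodule R A) [GradedAlgebra 𝒜]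
    (hfg : (HomogeneousIdeal.irrelevant 𝒜).toIdeal.FG) :
    IsEmpty (Proj 𝒜) ↔ ∃ n : ℕ, ∀ k : ℕ, n ≤ k → 𝒜 k = ⊥ := by
  rw [Groth.Agent.S3558.result]
  constructor
  · intro h
    have hle : (HomogeneousIdeal.irrelevant 𝒜).toIdeal ≤ (⊥ : Ideal A).radical := fun f hf =>
      h f hf
    obtain ⟨N, hN⟩ := Ideal.exists_pow_le_of_le_radical_of_fg hle hfg
    haveI : Algebra.FiniteType (𝒜 0) A := (Groth.Agent.H1.GFG.irrelevant_fg_iff_finiteType 𝒜).mp hfg
    obtain ⟨m₀, hm₀⟩ := Groth.Agent.H1.GFG.exists_forall_le_irrelevant_pow 𝒜 N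
    refine ⟨m₀, fun k hk => ?_⟩
    rw [eq_bot_iff]
    intro x hx
    have := hN (hm₀ k hk hx)
    simpa using this
  · rintro ⟨n, hn⟩ f hf
    classical
    rw [← DirectSum.sum_support_decompose 𝒜 f]
    refine isNilpotent_sum fun i _ => ?_ 
    · by_cases hi : i = 0
      · subst hi
        have h0 : ((DirectSum.decompose 𝒜 f 0 : 𝒜 0) : A) = 0 := hf
        rw [h0]
        exact IsNilpotent.zero
      · refine ⟨n, ?_⟩
        have hmem : ((DirectSum.decompose 𝒜 f i : 𝒜 i) : A) ^ n ∈ 𝒜 (n • i) :=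
          SetLike.pow_mem_graded n (SetLike.coe_mem _)
        have hle : n ≤ n • i := by
          rw [smul_eq_mul]
          exact Nat.le_mul_of_pos_right n (Nat.pos_of_ne_zero hi)
        rw [hn _ hle] at hmem
        simpa using hmem

end Groth.Agent.S3560
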