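import Groth.Statements.S3588
import Groth.Agent.Lib.Helper1.ProjMap
import Groth.Agent.S3553
import Groth.Agent.S3556

set_option autoImplicit false
universe u
open CategoryTheory CategoryTheory.Limits AlgebraicGeometry
open EGA2

namespace Groth.Agent.S3588

/-- Let S be a graded ring, N_+ the set of nilpotent elements of S_+ (an ideal of S), and S → S/N_+ the
quotient (here: any surjective homomorphism of graded rings φ : S → S' whose kernel is N_+). Then
the induced morphism Proj S' → Proj S is a closed immersion which is a homeomorphism of the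
underlying spaces, and Proj S' is reduced; thus Proj S' is the reduced closed subscheme (Proj
S)_red. -/
theorem result {R A : Type u} [CommRing R] [CommRing A] [Algebra R A] (𝒜 : ℕ → Submodule R A) [GradedAlgebra 𝒜]
    {B : Type u} [CommRing B] [Algebra R B] (ℬ : ℕ → Submodule R B) [GradedAlgebra ℬ]
    (φ : 𝒜 →+*ᵍ ℬ) (hsurj : Function.Surjective φ)
    (hker : ∀ a : A, φ a = 0 ↔ a ∈ (HomogeneousIdeal.irrelevant 𝒜).toIdeal ∧ IsNilpotent a)
    (hφ : HomogeneousIdeal.irrelevant ℬ ≤ (HomogeneousIdeal.irrelevant 𝒜).map φ) :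
    IsClosedImmersion (Proj.map φ hφ) ∧ IsHomeomorph (Proj.map φ hφ).base ∧
      AlgebraicGeometry.IsReduced (Proj ℬ) := by
  have hci : IsClosedImmersion (Proj.map φ hφ) :=
    Groth.Agent.H1.PM.isClosedImmersion_map_of_surjective 𝒜 ℬ φ hφ hsurj
  refine ⟨hci, ?_, ?_⟩
  · have hce := (Proj.map φ hφ).isClosedEmbedding
    have hdense := Groth.Agent.S3553.result 𝒜 ℬ φ hφ (fun a ha => ((hker a).mp ha).2)
    have hsurj' : Function.Surjective (Proj.map φ hφ).base := by
      rw [← Set.range_eq_univ, ← hce.isClosed_range.closure_eq]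
      exact hdense.closure_range
    exact (isHomeomorph_iff_isEmbedding_surjective).mpr ⟨hce.isEmbedding, hsurj'⟩
  · apply Groth.Agent.S3556.result
    intro b hb hbn
    obtain ⟨a, rfl⟩ := hsurj b
    -- replace a by a - a_0
    set a' := a - (DirectSum.decompose 𝒜 a 0 : A) with ha'
    have h0 : φ (DirectSum.decompose 𝒜 a 0 : A) = 0 := by
      rw [GradedRingHom.map_directSumDecompose]
      exact hb
    have hφa' : φ a' = φ a := by rw [ha', map_sub, h0, sub_zero]
    have ha'mem : a' ∈ (HomogeneousIdeal.irrelevant 𝒜).toIdeal := by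
      change ((DirectSum.decompose 𝒜 a' 0 : 𝒜 0) : A) = 0
      rw [ha', DirectSum.decompose_sub, DirectSum.sub_apply, DirectSum.decompose_coe,
        DirectSum.of_eq_same, sub_self]
      rfl
    obtain ⟨n, hn⟩ := hbn
    rw [← hφa', ← map_pow] at hn
    obtain ⟨-, m, hm⟩ := (hker _).mp hn
    rw [← pow_mul] at hm
    rw [← hφa']
    exact (hker a').mpr ⟨ha'mem, ⟨_, hm⟩⟩

end Groth.Agent.S3588
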