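import Groth.Statements.S3593
import Mathlib

set_option autoImplicit false
universe u
open CategoryTheory CategoryTheory.Limits AlgebraicGeometry
open EGA2

namespace Groth.Agent.S3593

section
open DirectSum HomogeneousLocalization
variable {R A : Type u} [CommRing R] [CommRing A] [Algebra R A] (𝒜 : ℕ → Submodule R A) [GradedAlgebra 𝒜]
    {B : Type u} [CommRing B] [Algebra R B] (ℬ : ℕ → Submodule R B) [GradedAlgebra ℬ]
    (φ : 𝒜 →+*ᵍ ℬ) (z : B) (hz : z ∈ ℬ 1)

omit [GradedAlgebra 𝒜] [GradedAlgebra ℬ] in
theorem phi_mem' (n : ℕ) (a : A) (ha : a ∈ 𝒜 n) : φ a ∈ ℬ (n • 1) := by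
  rw [smul_eq_mul, mul_one]
  exact φ.map_mem ha

/-- the degree-`n` piece of the map -/
noncomputable def gmap' (n : ℕ) : 𝒜 n →+ Away ℬ z where
  toFun x := Away.mk ℬ hz n (φ x) (phi_mem' 𝒜 ℬ φ n x x.2)
  map_zero' := by
    apply HomogeneousLocalization.val_injective
    simp [Localization.mk_zero]
  map_add' x y := by
    apply HomogeneousLocalization.val_injective
    simp [Localization.add_mk_self]

omit [GradedAlgebra 𝒜] in
theorem gmap'_val (n : ℕ) (x : 𝒜 n) : (gmap' 𝒜 ℬ φ z hz n x).val =
    Localization.mk (φ x) (⟨z ^ n, ⟨n, rfl⟩⟩ : Submonoid.powers z) := rfl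

/-- the ring hom `A → B_(z)` -/
noncomputable def theta0 : A →+* Away ℬ z :=
  (DirectSum.toSemiring (gmap' 𝒜 ℬ φ z hz)
    (by
      apply HomogeneousLocalization.val_injective
      rw [gmap'_val, HomogeneousLocalization.val_one]
      change Localization.mk (φ 1) _ = 1
      simp only [map_one, pow_zero]
      exact Localization.mk_self 1)
    (by
      intro i j a b
      apply HomogeneousLocalization.val_injective
      rw [HomogeneousLocalization.val_mul, gmap'_val, gmap'_val, gmap'_val, Localization.mk_mul]
      change Localization.mk (φ (a.1 * b.1)) _ = _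
      rw [map_mul]
      congr 1
      exact Subtype.ext (pow_add _ _ _))).comp
    (DirectSum.decomposeRingEquiv 𝒜).toRingHom

theorem theta0_of_mem (n : ℕ) (a : A) (ha : a ∈ 𝒜 n) :
    theta0 𝒜 ℬ φ z hz a = Away.mk ℬ hz n (φ a) (phi_mem' 𝒜 ℬ φ n a ha) := by
  unfold theta0
  simp only [RingEquiv.toRingHom_eq_coe, RingHom.coe_comp, RingHom.coe_coe, Function.comp_apply]
  change DirectSum.toSemiring _ _ _ (DirectSum.decompose 𝒜 a) = _
  rw [DirectSum.decompose_of_mem 𝒜 ha, DirectSum.toSemiring_of]
  rfl
end

/-- Let S be a graded R-algebra, Ŝ a graded R-algebra with a graded homomorphism φ : S → Ŝ making Ŝ an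
S-algebra, and z an element of Ŝ of degree one such that the S-algebra map S[X] → Ŝ, X ↦ z, is
bijective (so Ŝ = S[z] with z in degree one, the graded ring of the projective cone of S). Then
there is a ring isomorphism S ≅ Ŝ_(z) onto the degree-zero localization at z, sending a homogeneous
a of degree n to φ(a)/z^n. (This is the isomorphism that identifies the affine cone Spec S with the
open D_+(z) of the projective cone Proj Ŝ; that identification itself is not asserted here.) -/
theorem result {R A : Type u} [CommRing R] [CommRing A] [Algebra R A] (𝒜 : ℕ → Submodule R A) [GradedAlgebra 𝒜]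
    {B : Type u} [CommRing B] [Algebra R B] (ℬ : ℕ → Submodule R B) [GradedAlgebra ℬ]
    [Algebra A B] [IsScalarTower R A B] (φ : 𝒜 →+*ᵍ ℬ) (hφ : ∀ a : A, φ a = algebraMap A B a)
    (z : B) (hz : z ∈ ℬ 1) (hhat : Function.Bijective (Polynomial.aeval (R := A) z)) :
    ∃ θ : A ≃+* HomogeneousLocalization.Away ℬ z,
      ∀ (n : ℕ) (a : A), a ∈ 𝒜 n → (θ a).val = Localization.mk (φ a) ⟨z ^ n, pow_mem (Submonoid.mem_powers z) n⟩ := by
  classical
  let θ₀ := theta0 𝒜 ℬ φ z hz
  have hθ₀ : ∀ (n : ℕ) (a : A) (ha : a ∈ 𝒜 n), θ₀ a =
      HomogeneousLocalization.Away.mk ℬ hz n (φ a) (phi_mem' 𝒜 ℬ φ n a ha) :=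
    theta0_of_mem 𝒜 ℬ φ z hz
  -- left inverse
  let evE : Polynomial A ≃+* B := RingEquiv.ofBijective (Polynomial.aeval (R := A) z) hhat
  let ρ : B →+* A := (Polynomial.evalRingHom (1 : A)).comp evE.symm.toRingHom
  have hρalg : ∀ a : A, ρ (algebraMap A B a) = a := by
    intro a
    have : evE.symm (algebraMap A B a) = Polynomial.C a := by
      rw [RingEquiv.symm_apply_eq]
      change _ = Polynomial.aeval z (Polynomial.C a)
      rw [Polynomial.aeval_C]
    change Polynomial.eval 1 (evE.symm (algebraMap A B a)) = a
    rw [this, Polynomial.eval_C]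
  have hρz : ρ z = 1 := by
    have : evE.symm z = Polynomial.X := by
      rw [RingEquiv.symm_apply_eq]
      change _ = Polynomial.aeval z Polynomial.X
      rw [Polynomial.aeval_X]
    change Polynomial.eval 1 (evE.symm z) = 1
    rw [this, Polynomial.eval_X]
  let ρ' : Localization.Away z →+* A :=
    IsLocalization.Away.lift z (g := ρ) (by rw [hρz]; exact isUnit_one)
  let ρ'' : HomogeneousLocalization.Away ℬ z →+* A :=
    ρ'.comp (algebraMap (HomogeneousLocalization.Away ℬ z) (Localization.Away z))
  have hleft_hom : ∀ (n : ℕ) (a : A), a ∈ 𝒜 n → ρ'' (θ₀ a) = a := by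
    intro n a ha
    rw [hθ₀ n a ha]
    rw [RingHom.comp_apply, HomogeneousLocalization.algebraMap_apply]
    rw [HomogeneousLocalization.Away.val_mk]
    have h1 : Localization.mk (φ a) (⟨z ^ n, ⟨n, rfl⟩⟩ : Submonoid.powers z) *
        algebraMap B (Localization.Away z) (z ^ n) = algebraMap B (Localization.Away z) (φ a) := by
      rw [Localization.mk_eq_mk']
      exact IsLocalization.mk'_spec _ _ _
    have h2 := congrArg ρ' h1
    rw [map_mul, IsLocalization.Away.lift_eq, IsLocalization.Away.lift_eq, map_pow, hρz, one_pow,
      mul_one] at h2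
    rw [h2, hφ, hρalg]
  have hleft : ∀ a : A, ρ'' (θ₀ a) = a := by
    intro a
    induction a using DirectSum.Decomposition.inductionOn 𝒜 with
    | zero => simp
    | @homogeneous n a => exact hleft_hom n a a.2
    | add a b ha hb => rw [map_add, map_add, ha, hb]
  have hinj : Function.Injective θ₀ := Function.LeftInverse.injective hleft
  -- surjectivity
  have hzpow : ∀ i : ℕ, z ^ i ∈ ℬ i := by
    intro i
    have := SetLike.pow_mem_graded i hz
    rwa [smul_eq_mul, mul_one] at this
  have hmk : ∀ (n : ℕ) (b : B) (hb : b ∈ ℬ (n • 1)),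
      HomogeneousLocalization.Away.mk ℬ hz n b hb ∈ θ₀.range := by
    intro n b hb
    -- general claim on all of B
    have key : ∀ P : Polynomial A, ∀ n : ℕ,
        HomogeneousLocalization.Away.mk ℬ hz n
          ((DirectSum.decompose ℬ (Polynomial.aeval z P) n : ℬ n) : B)
          (by rw [smul_eq_mul, mul_one]; exact (DirectSum.decompose ℬ _ n).2) ∈ θ₀.range := by
      intro P
      induction P using Polynomial.induction_on' with
      | add P Q hP hQ =>
        intro n
        have e : HomogeneousLocalization.Away.mk ℬ hz n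
            ((DirectSum.decompose ℬ (Polynomial.aeval z (P + Q)) n : ℬ n) : B)
            (by rw [smul_eq_mul, mul_one]; exact (DirectSum.decompose ℬ _ n).2) =
            HomogeneousLocalization.Away.mk ℬ hz n
              ((DirectSum.decompose ℬ (Polynomial.aeval z P) n : ℬ n) : B)
              (by rw [smul_eq_mul, mul_one]; exact (DirectSum.decompose ℬ _ n).2) +
            HomogeneousLocalization.Away.mk ℬ hz n
              ((DirectSum.decompose ℬ (Polynomial.aeval z Q) n : ℬ n) : B)
              (by rw [smul_eq_mul, mul_one]; exact (DirectSum.decompose ℬ _ n).2) := by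
          apply HomogeneousLocalization.val_injective
          rw [HomogeneousLocalization.val_add]
          simp only [HomogeneousLocalization.Away.val_mk, map_add, DirectSum.decompose_add,
            DirectSum.add_apply, Submodule.coe_add, Localization.add_mk_self]
        rw [e]
        exact Subring.add_mem _ (hP n) (hQ n)
      | monomial i p =>
        intro n
        have hev : Polynomial.aeval z (Polynomial.monomial i p) = φ p * z ^ i := by
          rw [Polynomial.aeval_monomial, hφ]
        by_cases hin : i ≤ n
        · have hdec : ((DirectSum.decompose ℬ (Polynomial.aeval z (Polynomial.monomial i p)) n : ℬ n) : B)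
              = φ (DirectSum.decompose 𝒜 p (n - i) : A) * z ^ i := by
            rw [hev, DirectSum.coe_decompose_mul_of_right_mem ℬ n (hzpow i), if_pos hin,
              GradedRingHom.map_directSumDecompose]
          refine ⟨(DirectSum.decompose 𝒜 p (n - i) : A), ?_⟩
          change θ₀ _ = _
          rw [hθ₀ (n - i) _ (DirectSum.decompose 𝒜 p (n - i)).2]
          apply HomogeneousLocalization.val_injective
          simp only [HomogeneousLocalization.Away.val_mk]
          rw [Localization.mk_eq_mk_iff, Localization.r_iff_exists]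
          refine ⟨1, ?_⟩
          simp only [OneMemClass.coe_one, one_mul]
          rw [hdec]
          have : z ^ n = z ^ (n - i) * z ^ i := by rw [← pow_add]; congr 1; omega
          rw [this]; ring
        · have hdec : ((DirectSum.decompose ℬ (Polynomial.aeval z (Polynomial.monomial i p)) n : ℬ n) : B)
              = 0 := by
            rw [hev, DirectSum.coe_decompose_mul_of_right_mem ℬ n (hzpow i), if_neg hin]
          refine ⟨0, ?_⟩
          rw [map_zero]
          apply HomogeneousLocalization.val_injective
          simp only [HomogeneousLocalization.Away.val_mk, HomogeneousLocalization.val_zero]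
          rw [hdec, Localization.mk_zero]
    obtain ⟨P, rfl⟩ := hhat.2 b
    have hb' : Polynomial.aeval z P ∈ ℬ n := by rwa [smul_eq_mul, mul_one] at hb
    have := key P n
    simp only [DirectSum.decompose_of_mem_same ℬ hb'] at this
    exact this
  have hsurj : Function.Surjective θ₀ := by
    intro w
    obtain ⟨n, b, hb, rfl⟩ := HomogeneousLocalization.Away.mk_surjective ℬ hz w
    exact hmk n b hb
  refine ⟨RingEquiv.ofBijective θ₀ ⟨hinj, hsurj⟩, ?_⟩
  intro n a ha
  change (θ₀ a).val = _
  rw [hθ₀ n a ha, HomogeneousLocalization.Away.val_mk]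

end Groth.Agent.S3593
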