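import Groth.Statements.S3694
import Mathlib

set_option autoImplicit false
universe u
open SGA1

namespace Groth.Agent.S3694

section
open AlgebraicGeometry CategoryTheory Limits TopologicalSpace MorphismProperty
set_option backward.isDefEq.respectTransparency.types false in
theorem isIso_of_etale_univInj_surj {X Y : AlgebraicGeometry.Scheme.{u}} (f : X ⟶ Y) [Etale f] [UniversallyInjective f]
    [Surjective f] : IsIso f := by
  haveI : Flat f := inferInstance
  haveI : QuasiCompact f := by
    have hh : IsHomeomorph f.base := ⟨f.continuous, f.isOpenMap, f.injective, f.surjective⟩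
    rw [quasiCompact_iff]
    intro U _ hU
    exact hh.homeomorph.isCompact_preimage.mpr hU
  -- the diagonal is a surjective open immersion
  haveI : IsOpenImmersion (pullback.diagonal f) := inferInstance
  haveI : Surjective (pullback.diagonal f) := (UniversallyInjective.iff_diagonal f).mp inferInstance
  haveI : Epi (pullback.diagonal f).base :=
    (TopCat.epi_iff_surjective _).mpr (pullback.diagonal f).surjective
  haveI : IsIso (pullback.diagonal f) := IsOpenImmersion.isIso _
  haveI : IsIso (pullback.fst f f) := by
    have h : pullback.diagonal f ≫ pullback.fst f f = 𝟙 X := pullback.diagonal_fst f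
    exact IsIso.of_isIso_fac_left h
  exact MorphismProperty.of_pullback_fst_of_descendsAlong (P := isomorphisms Scheme.{u})
    (Q := @Surjective ⊓ @Flat ⊓ @QuasiCompact) (f := f) (g := f)
    ⟨⟨inferInstance, inferInstance⟩, inferInstance⟩ (inferInstanceAs (IsIso (pullback.fst f f)))
end

open AlgebraicGeometry CategoryTheory CategoryTheory.Limits in
/-- A morphism which is etale and universally injective (radicial) is an open immersion. (The converse
is immediate.) -/
theorem result {X Y : Scheme.{u}} (f : X ⟶ Y) [Etale f] [UniversallyInjective f] :
    IsOpenImmersion f := by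
  let U : Y.Opens := ⟨Set.range f.base, f.isOpenMap.isOpen_range⟩
  have hsub : Set.range f.base ⊆ Set.range U.ι.base := by
    rw [Scheme.Opens.range_ι]; exact subset_rfl
  let f' : X ⟶ U := IsOpenImmersion.lift U.ι f hsub
  have hfac : f' ≫ U.ι = f := IsOpenImmersion.lift_fac _ _ _
  haveI : Etale f' := by
    refine MorphismProperty.of_postcomp (W := @Etale) (W' := @Etale) f' U.ι inferInstance ?_
    rw [hfac]; infer_instance
  haveI : UniversallyInjective f' := by
    have h1 := ((tfae_universallyInjective f).out 0 1).mp ‹UniversallyInjective f›
    refine ((tfae_universallyInjective f').out 0 1).mpr ?_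
    intro K _ g₁ g₂ hg
    apply h1 K
    simp only at hg ⊢
    rw [← hfac, ← Category.assoc, ← Category.assoc, hg]
  haveI : Surjective f' := by
    refine ⟨fun y => ?_⟩
    obtain ⟨x, hx⟩ := y.2
    refine ⟨x, ?_⟩
    apply U.ι.isEmbedding.injective
    rw [← Scheme.Hom.comp_apply, hfac]
    exact hx
  haveI : IsIso f' := isIso_of_etale_univInj_surj f'
  rw [← hfac]
  infer_instance

end Groth.Agent.S3694
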