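import Groth.Statements.S3707
import Mathlib

set_option autoImplicit false
universe u
open SGA1

namespace Groth.Agent.S3707

open AlgebraicGeometry CategoryTheory CategoryTheory.Limits in
/-- Let g : S' -> S be a surjective morphism of schemes, X and Y schemes over S with Y unramified over S
(formally unramified and locally of finite type), and X', Y' their base changes to S'. Then the map
sending an S-morphism X -> Y to the induced S'-morphism X' -> Y' is injective. -/
theorem result {S S' X Y : Scheme.{u}} (g : S' ⟶ S) [Surjective g]
    (p : X ⟶ S) (q : Y ⟶ S) [FormallyUnramified q] [LocallyOfFiniteType q]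
    (u v : X ⟶ Y) (hu : p ≫ 𝟙 S = u ≫ q) (hv : p ≫ 𝟙 S = v ≫ q)
    (h : pullback.map p g q g u (𝟙 S') (𝟙 S) hu ((Category.comp_id _).trans (Category.id_comp _).symm) =
      pullback.map p g q g v (𝟙 S') (𝟙 S) hv ((Category.comp_id _).trans (Category.id_comp _).symm)) :
    u = v := by
  have huv : u ≫ q = v ≫ q := hu.symm.trans hv
  let w : X ⟶ pullback q q := pullback.lift u v huv
  let e := pullback.fst w (pullback.diagonal q)
  haveI : IsOpenImmersion (pullback.diagonal q) := inferInstance
  haveI : IsOpenImmersion e := inferInstance
  have he : e ≫ u = e ≫ v := by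
    have h1 : e ≫ w = pullback.snd w (pullback.diagonal q) ≫ pullback.diagonal q := pullback.condition
    have hw1 : w ≫ pullback.fst q q = u := pullback.lift_fst _ _ _
    have hw2 : w ≫ pullback.snd q q = v := pullback.lift_snd _ _ _
    have h2 : e ≫ u = pullback.snd w (pullback.diagonal q) := by
      have := congrArg (· ≫ pullback.fst q q) h1
      simp only [Category.assoc, hw1, pullback.diagonal_fst, Category.comp_id] at this
      exact this
    have h3 : e ≫ v = pullback.snd w (pullback.diagonal q) := by
      have := congrArg (· ≫ pullback.snd q q) h1
      simp only [Category.assoc, hw2, pullback.diagonal_snd, Category.comp_id] at this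
      exact this
    rw [h2, h3]
  -- surjectivity of e
  have hfst : pullback.fst p g ≫ u = pullback.fst p g ≫ v := by
    have h1 := congrArg (· ≫ pullback.fst q g) h
    simp only [pullback.map] at h1
    rw [pullback.lift_fst, pullback.lift_fst] at h1
    exact h1
  let t : pullback p g ⟶ pullback w (pullback.diagonal q) :=
    pullback.lift (pullback.fst p g) (pullback.fst p g ≫ u) (by
      have hw1 : w ≫ pullback.fst q q = u := pullback.lift_fst _ _ _
      have hw2 : w ≫ pullback.snd q q = v := pullback.lift_snd _ _ _
      apply pullback.hom_ext
      · simp only [Category.assoc, hw1, pullback.diagonal_fst, Category.comp_id]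
      · simp only [Category.assoc, hw2, pullback.diagonal_snd, Category.comp_id, hfst])
  have ht : t ≫ e = pullback.fst p g := pullback.lift_fst _ _ _
  haveI : Surjective (pullback.fst p g) := inferInstance
  haveI : Epi e.base := by
    rw [TopCat.epi_iff_surjective]
    intro x
    obtain ⟨x', hx'⟩ := (pullback.fst p g).surjective x
    refine ⟨t x', ?_⟩
    rw [← Scheme.Hom.comp_apply, ht, hx']
  haveI : IsIso e := IsOpenImmersion.isIso e
  exact (cancel_epi e).mp he

end Groth.Agent.S3707
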