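import Groth.Statements.S3731
import Groth.Agent.Lib.Helper2.DTrunc4

set_option autoImplicit false
universe u v
open CategoryTheory CategoryTheory.Limits
attribute [local instance] HasDerivedCategory.standard
open EtDl

namespace Groth.Agent.S3731

/-- Let A be an abelian category, k ≥ 0, and K_0 -> K_1 -> ... -> K_{2k} a chain of 2k morphisms in the
derived category of A such that every K_i has H^p(K_i) = 0 for p outside [0, k] and every morphism
K_i -> K_{i+1} induces the zero map on H^p for all p < k. Let π : K_0 -> H^k(K_0)[-k] be the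
morphism to the top cohomology object placed in degree k that induces the identity on H^k. Then the
composite K_0 -> K_{2k} factors through π. -/
theorem result {A : Type u} [Category.{v} A] [Abelian A] (k : ℕ)
    (K : ComposableArrows (DerivedCategory A) (2 * k))
    (hK : ∀ (i : ℕ) (hi : i ≤ 2 * k) (p : ℤ), p < 0 ∨ (k : ℤ) < p →
      IsZero ((DerivedCategory.homologyFunctor A p).obj (K.obj' i)))
    (hf : ∀ (i : ℕ) (hi : i < 2 * k) (p : ℤ), p < (k : ℤ) →
      (DerivedCategory.homologyFunctor A p).map (K.map' i (i + 1)) = 0)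
    (π : K.obj' 0 ⟶ (DerivedCategory.singleFunctor A (k : ℤ)).obj
      ((DerivedCategory.homologyFunctor A (k : ℤ)).obj (K.obj' 0)))
    (hπ : (DerivedCategory.homologyFunctor A (k : ℤ)).map π ≫
      (DerivedCategory.singleFunctorCompHomologyFunctorIso A (k : ℤ)).hom.app
        ((DerivedCategory.homologyFunctor A (k : ℤ)).obj (K.obj' 0)) = 𝟙 _) :
    ∃ φ : (DerivedCategory.singleFunctor A (k : ℤ)).obj
        ((DerivedCategory.homologyFunctor A (k : ℤ)).obj (K.obj' 0)) ⟶ K.obj' (2 * k),
      K.map' 0 (2 * k) = π ≫ φ := by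
  open Groth.Agent.H2.DTrunc DerivedCategory in
  -- amplitude of the `K_i`
  have hLE : ∀ (i : ℕ) (hi : i ≤ 2 * k), tt.IsLE (K.obj' i) (k : ℤ) := by
    intro i hi
    exact (DerivedCategory.isLE_iff _ _).2 (fun p hp => hK i hi p (Or.inr hp))
  have hGE : ∀ (i : ℕ) (hi : i ≤ 2 * k), tt.IsGE (K.obj' i) 0 := by
    intro i hi
    exact (DerivedCategory.isGE_iff _ _).2 (fun p hp => hK i hi p (Or.inl hp))
  -- the chain argument
  have key : ∀ (j : ℕ) (hj : j ≤ k) (m : ℤ), m = (k : ℤ) - j →
      (ιLT (k : ℤ) (K.obj' 0) ≫ K.map' 0 j) ≫ πGE m (K.obj' j) = 0 := by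
    intro j
    induction j with
    | zero =>
      intro _ m hm
      obtain rfl : m = k := by simpa using hm
      have h0 : K.map' 0 0 = 𝟙 _ := K.map'_self 0
      have h1 : ιLT (k : ℤ) (K.obj' 0) ≫ πGE (k : ℤ) (K.obj' 0) = 0 :=
        Pretriangulated.comp_distTriang_mor_zero₁₂ _ (tt.triangleLTGE_distinguished (k : ℤ) (K.obj' 0))
      rw [h0, Category.comp_id]
      exact h1
    | succ j ih =>
      intro hj m hm
      have hj' : j ≤ k := by omega
      obtain ⟨v, hv⟩ := exists_lift_ιLT ((k : ℤ) - j) _ (ih hj' _ rfl)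
      have i1 : tt.IsLE ((tt.truncLT ((k : ℤ) - j)).obj (K.obj' j)) ((k : ℤ) - j - 1) :=
        tt.isLE_truncLT_obj _ _ _ (by omega)
      have i2 : tt.IsGE ((tt.truncGE m).obj (K.obj' (j + 1))) ((k : ℤ) - j - 1) :=
        tt.isGE_truncGE_obj _ _ _ (by rw [hm]; push_cast; omega)
      have h1 : (ιLT ((k : ℤ) - j) (K.obj' j) ≫ K.map' j (j + 1)) ≫
          πGE m (K.obj' (j + 1)) = 0 := by
        apply eq_zero_of_homology_eq_zero ((k : ℤ) - j - 1)
        rw [Functor.map_comp, Functor.map_comp, hf j (by omega) _ (by omega), comp_zero, zero_comp]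
      have h2 : K.map' 0 (j + 1) = K.map' 0 j ≫ K.map' j (j + 1) := K.map'_comp 0 j (j + 1)
      rw [h2, ← Category.assoc, hv, Category.assoc, Category.assoc, ← Category.assoc (ιLT _ _), h1,
        comp_zero]
  have hk0 := key k le_rfl 0 (by simp)
  -- the composite kills `τ_{<k} K_0`
  have hzero : ιLT (k : ℤ) (K.obj' 0) ≫ K.map' 0 k = 0 := by
    obtain ⟨v, hv⟩ := exists_lift_ιLT 0 _ hk0
    have i1 := hGE k (by omega)
    have hz : IsZero ((tt.truncLT 0).obj (K.obj' k)) := tt.isZero_truncLT_obj_of_isGE 0 _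
    rw [hv, hz.eq_of_tgt v 0, zero_comp]
  have hzero' : ιLT (k : ℤ) (K.obj' 0) ≫ K.map' 0 (2 * k) = 0 := by
    have h2 : K.map' 0 (2 * k) = K.map' 0 k ≫ K.map' k (2 * k) := K.map'_comp 0 k (2 * k)
    rw [h2, ← Category.assoc, hzero, zero_comp]
  obtain ⟨w, hw⟩ := exists_desc_πGE (k : ℤ) _ hzero'
  -- `π` identifies with the truncation map
  have i3 : tt.IsGE ((DerivedCategory.singleFunctor A (k : ℤ)).obj
      ((DerivedCategory.homologyFunctor A (k : ℤ)).obj (K.obj' 0))) (k : ℤ) := inferInstance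
  have i4 := hLE 0 (Nat.zero_le _)
  have hiso : IsIso (tt.descTruncGE π (k : ℤ)) := by
    apply isIso_descTruncGE
    intro i hi
    by_cases hik : i = k
    · subst hik
      have : IsIso ((DerivedCategory.homologyFunctor A (k : ℤ)).map π ≫
          (DerivedCategory.singleFunctorCompHomologyFunctorIso A (k : ℤ)).hom.app
            ((DerivedCategory.homologyFunctor A (k : ℤ)).obj (K.obj' 0 (Nat.zero_le _)))) := by
        rw [hπ]; infer_instance
      exact IsIso.of_isIso_comp_right _
        ((DerivedCategory.singleFunctorCompHomologyFunctorIso A (k : ℤ)).hom.app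
            ((DerivedCategory.homologyFunctor A (k : ℤ)).obj (K.obj' 0 (Nat.zero_le _))))
    · have h1 : IsZero ((DerivedCategory.homologyFunctor A i).obj (K.obj' 0 (Nat.zero_le _))) :=
        hK 0 (Nat.zero_le _) i (Or.inr (by omega))
      have h2 : IsZero ((DerivedCategory.homologyFunctor A i).obj
          ((DerivedCategory.singleFunctor A (k : ℤ)).obj
            ((DerivedCategory.homologyFunctor A (k : ℤ)).obj (K.obj' 0 (Nat.zero_le _))))) :=
        DerivedCategory.isZero_of_isLE _ (k : ℤ) i (by omega)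
      exact ⟨0, h1.eq_of_src _ _, h2.eq_of_src _ _⟩
  refine ⟨inv (tt.descTruncGE π (k : ℤ)) ≫ w, ?_⟩
  have e : πGE (k : ℤ) (K.obj' 0) ≫ tt.descTruncGE π (k : ℤ) = π := tt.π_descTruncGE π (k : ℤ)
  have e' : π ≫ inv (tt.descTruncGE π (k : ℤ)) = πGE (k : ℤ) (K.obj' 0) := by
    rw [IsIso.comp_inv_eq]
    exact e.symm
  rw [hw, ← Category.assoc, e']

end Groth.Agent.S3731
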