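import Groth.Statements.S3825
import Groth.Agent.Lib.Helper2.QRegCot

set_option autoImplicit false
universe u
open QReg16

namespace Groth.Agent.S3825

/-- a) iff c) (affine local form): let A be a local ring and I a proper ideal generated by some
quasi-regular sequence. For a finite family (f_i) of elements of I, the following are equivalent:
(a) (f_i) is a quasi-regular sequence generating I; (c) the classes of the f_i form a basis of the
A/I-module I/I² (equivalently, b): (f_i) is a minimal system of generators of I). -/
theorem result {A : Type u} [CommRing A] [IsLocalRing A]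
    (I : Ideal A) (hI : I ≤ IsLocalRing.maximalIdeal A)
    (hq : ∃ (r : ℕ) (g : Fin r → A), CAlgX.IsQuasiRegular g ∧ Ideal.span (Set.range g) = I)
    {m : ℕ} (f : Fin m → I) :
    (CAlgX.IsQuasiRegular (fun i => (f i : A)) ∧ Ideal.span (Set.range fun i => (f i : A)) = I) ↔
      (LinearIndependent (A ⧸ I) (fun i => I.toCotangent (f i)) ∧
        Submodule.span (A ⧸ I) (Set.range fun i => I.toCotangent (f i)) = ⊤) := by
  constructor
  · rintro ⟨hq', hs⟩
    exact ⟨Groth.Agent.H2.QReg.linearIndependent_toCotangent I f hq' hs,
      Groth.Agent.H2.QReg.span_toCotangent_eq_top I f hs⟩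
  · rintro ⟨hli, hsp⟩
    obtain ⟨r, g, hgq, hgs⟩ := hq
    have hfg : I.FG := by
      rw [← hgs]
      classical
      exact ⟨Finset.univ.image g, by simp⟩
    have hjac : I ≤ Ideal.jacobson ⊥ :=
      hI.trans (IsLocalRing.maximalIdeal_le_jacobson ⊥)
    have hs := Groth.Agent.H2.QReg.span_eq_of_span_toCotangent_eq_top I hfg hjac f hsp
    refine ⟨?_, hs⟩
    let g' : Fin r → I := fun i => ⟨g i, hgs ▸ Ideal.subset_span ⟨i, rfl⟩⟩
    have hli' := Groth.Agent.H2.QReg.linearIndependent_toCotangent I g' hgq hgs
    have hsp' := Groth.Agent.H2.QReg.span_toCotangent_eq_top I g' hgs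
    have : Nontrivial (A ⧸ I) := Ideal.Quotient.nontrivial_iff.mpr (by
      rintro rfl
      exact (IsLocalRing.maximalIdeal.isMaximal A).ne_top (top_le_iff.mp hI))
    let b1 := Module.Basis.mk hli hsp.ge
    let b2 := Module.Basis.mk hli' hsp'.ge
    have hcard : m = r := by
      have e := b1.indexEquiv b2
      simpa using Fintype.card_congr e
    subst hcard
    exact Groth.Agent.H2.QReg.isQuasiRegular_of_span_eq g _ hgq (hs.trans hgs.symm)

end Groth.Agent.S3825
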