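import Groth.Statements.S3828
import Groth.Agent.Lib.Helper2.QRegInf

set_option autoImplicit false
universe u
open QReg16

namespace Groth.Agent.S3828

/-- Let A be a Noetherian ring, J an ideal of A, and f_1, …, f_r elements of A forming a weakly regular
sequence on A/J (each f_i a nonzerodivisor on A/(J + (f_1, …, f_{i−1}))) and generating an ideal R
contained in the Jacobson radical of A; put Q = J + R. Then J ∩ Rⁿ = J·Rⁿ for every n > 0, and J ∩
Q² = J·Q (equivalently, the canonical map J/JQ → Q/Q² is injective). -/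
theorem result {A : Type u} [CommRing A] [IsNoetherianRing A] (J : Ideal A)
    {r : ℕ} (f : Fin r → A) (hf : RingTheory.Sequence.IsWeaklyRegular (A ⧸ J) (List.ofFn f))
    (hrad : Ideal.span (Set.range f) ≤ (⊥ : Ideal A).jacobson) :
    (∀ n : ℕ, 0 < n → J ⊓ Ideal.span (Set.range f) ^ n = J * Ideal.span (Set.range f) ^ n) ∧
      J ⊓ (J ⊔ Ideal.span (Set.range f)) ^ 2 = J * (J ⊔ Ideal.span (Set.range f)) := by
  have hq := Groth.Agent.H2.QReg.isQuasiRegular_mk_of_isWeaklyRegular J f hf
  set R := Ideal.span (Set.range f) with hR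
  have key : ∀ n : ℕ, J ⊓ R ^ n = J * R ^ n := by
    intro n
    apply le_antisymm
    · intro x hx
      apply Groth.Agent.H2.QReg.mem_of_forall_mem_sup_pow (J * R ^ n) R hrad x
      intro N
      rcases le_total n N with h | h
      · have := Groth.Agent.H2.QReg.inf_pow_eq J f hq n N h
        rw [← hR] at this
        rw [this] at hx
        exact (sup_le_sup_left (inf_le_right : J ⊓ R ^ N ≤ R ^ N) (J * R ^ n)) hx
      · exact Ideal.mem_sup_right (Ideal.pow_le_pow_right h hx.2)
    · exact Ideal.mul_le_inf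
  refine ⟨fun n _ => key n, ?_⟩
  apply le_antisymm
  · have hQ2 : (J ⊔ R) ^ 2 ≤ J * (J ⊔ R) ⊔ R ^ 2 := by
      rw [pow_two, Ideal.sup_mul, Ideal.mul_sup R]
      refine sup_le le_sup_left (sup_le ?_ ?_)
      · rw [mul_comm]
        exact le_trans (Ideal.mul_mono_right le_sup_right) le_sup_left
      · rw [pow_two]; exact le_sup_right
    intro x hx
    obtain ⟨hxJ, hxQ⟩ := hx
    obtain ⟨y, hy, z, hz, rfl⟩ := Submodule.mem_sup.mp (hQ2 hxQ)
    have hyJ : y ∈ J := (Ideal.mul_le_left : J * (J ⊔ R) ≤ J) hy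
    have hzJ : z ∈ J := by
      have : z = (y + z) - y := by ring
      rw [this]; exact J.sub_mem hxJ hyJ
    have hz' : z ∈ J * R ^ 2 := by rw [← key 2]; exact ⟨hzJ, hz⟩
    have hle : J * R ^ 2 ≤ J * (J ⊔ R) :=
      Ideal.mul_mono_right (le_trans (Ideal.pow_le_self two_ne_zero) le_sup_right)
    exact Ideal.add_mem _ hy (hle hz')
  · refine le_inf Ideal.mul_le_left ?_
    rw [pow_two]; exact Ideal.mul_mono_left le_sup_left

end Groth.Agent.S3828
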