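import Groth.Statements.S3829
import Groth.Agent.Lib.Helper3.RegSmSch

set_option autoImplicit false
universe u
open CategoryTheory CategoryTheory.Limits AlgebraicGeometry TopologicalSpace
open Unram17

namespace Groth.Agent.S3829

/-- c) implies a) (case of a closed immersion): let f : X → S and h : Y → S be locally of finite
presentation, j : Y → X a closed immersion over S and y a point of Y. If h is smooth on a
neighbourhood of y and, on some affine open neighbourhood of j(y) in X, the ideal of j is generated
by a regular sequence (j is a regular immersion near y), then f is smooth on an open neighbourhood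
of j(y). -/
theorem result {X Y S : Scheme.{u}} (f : X ⟶ S) (h : Y ⟶ S)
    [LocallyOfFinitePresentation f] [LocallyOfFinitePresentation h] (j : Y ⟶ X) [IsClosedImmersion j]
    (hj : j ≫ f = h) (y : ↥Y) (hy : ∃ V : Y.Opens, y ∈ V ∧ Smooth (V.ι ≫ h))
    (hreg : ∃ (U : X.Opens) (hU : IsAffineOpen U), j y ∈ U ∧
      ∃ rs : List Γ(X, U), RingTheory.Sequence.IsRegular Γ(X, U) rs ∧ j.ker.ideal ⟨U, hU⟩ = Ideal.ofList rs) :
    ∃ U : X.Opens, j y ∈ U ∧ Smooth (U.ι ≫ f) := by
  obtain ⟨U, hU, hxU, rs, hrs, hker⟩ := hreg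
  have hrsK : LCI.IsKoszulRegularSeq Γ(X, U) rs :=
    Groth.Agent.H3.RegSm.isKoszulRegularSeq_of_isWeaklyRegular rs hrs.toIsWeaklyRegular
  have hker' : RingHom.ker (j.app U).hom = Ideal.ofList rs := by
    rw [← hker]
    exact (Scheme.Hom.ker_apply j ⟨U, hU⟩).symm
  exact Groth.Agent.H3.RegSm.smooth_nhd_of_koszulRegular f h j hj y hy U hU hxU rs hrsK hker'

end Groth.Agent.S3829
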