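import Groth.Statements.S3846
import Groth.Agent.S3845

set_option autoImplicit false
universe u
open CategoryTheory CategoryTheory.Limits AlgebraicGeometry TopologicalSpace
open Unram17

namespace Groth.Agent.S3846

/-- a) iff b''): let f : X → Y be locally of finite presentation and x a point of X. Then f is
unramified on some open neighbourhood of x if and only if, for every base change g : Y' → Y and
every section s' of X ×_Y Y' → Y', s' is a local isomorphism at every point y' of Y' such that
s'(y') lies over x. -/
theorem result {X Y : Scheme.{u}} (f : X ⟶ Y) [LocallyOfFinitePresentation f]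
    (x : ↥X) :
    (∃ U : X.Opens, x ∈ U ∧ FormallyUnramified (U.ι ≫ f)) ↔
      ∀ (Y' : Scheme.{u}) (g : Y' ⟶ Y) (s' : Y' ⟶ pullback f g), s' ≫ pullback.snd f g = 𝟙 Y' →
        ∀ y' : ↥Y', pullback.fst f g (s' y') = x → SchLoc.IsLocalIsoAt s' y' := by
  constructor
  · intro hU Y' g s' hs y' hy
    obtain ⟨U, hxU, hUo⟩ := (Groth.Agent.S3845.result f x).mp hU
    have := hUo
    set h : Y' ⟶ X := s' ≫ pullback.fst f g with hh
    have hhf : h ≫ f = g := by
      rw [hh, Category.assoc, pullback.condition, ← Category.assoc, hs, Category.id_comp]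
    let φ : pullback f g ⟶ pullback f f :=
      pullback.lift (pullback.fst f g) (pullback.snd f g ≫ h)
        (by rw [Category.assoc, hhf, pullback.condition])
    have hsφ : s' ≫ φ = h ≫ pullback.diagonal f := by
      apply pullback.hom_ext
      · simp only [φ, Category.assoc, pullback.lift_fst, pullback.diagonal_fst, Category.comp_id]
        exact hh.symm
      · simp only [φ, Category.assoc, pullback.lift_snd, pullback.diagonal_snd, Category.comp_id]
        rw [← Category.assoc, hs, Category.id_comp]
    let j : (U : Scheme.{u}) ⟶ pullback f f := U.ι ≫ pullback.diagonal f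
    let W : (pullback f f).Opens := j.opensRange
    let V' : (pullback f g).Opens := φ ⁻¹ᵁ W
    let V : Y'.Opens := s' ⁻¹ᵁ V'
    have hy'V : y' ∈ V := by
      change φ (s' y') ∈ W
      have h1 : φ (s' y') = (pullback.diagonal f) (h y') := by
        rw [← Scheme.Hom.comp_apply, ← Scheme.Hom.comp_apply, hsφ]
      rw [h1]
      have h2 : h y' = x := by rw [hh, Scheme.Hom.comp_apply]; exact hy
      rw [h2]
      exact ⟨⟨x, hxU⟩, by rw [Scheme.Hom.comp_apply]; rfl⟩
    -- the factorization through `U`
    have hrange : Set.range (V'.ι ≫ φ) ⊆ Set.range j := by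
      rintro _ ⟨z, rfl⟩
      rw [Scheme.Hom.comp_apply]
      exact z.2
    let k : (V' : Scheme.{u}) ⟶ U := IsOpenImmersion.lift j (V'.ι ≫ φ) hrange
    have hk : k ≫ j = V'.ι ≫ φ := IsOpenImmersion.lift_fac _ _ _
    have hfst : V'.ι ≫ pullback.fst f g = k ≫ U.ι := by
      have := congrArg (· ≫ pullback.fst f f) hk
      simp only [j, φ, Category.assoc, pullback.lift_fst, pullback.diagonal_fst,
        Category.comp_id] at this
      exact this.symm
    have hsnd : V'.ι ≫ pullback.snd f g ≫ h = k ≫ U.ι := by
      have := congrArg (· ≫ pullback.snd f f) hk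
      simp only [j, φ, Category.assoc, pullback.lift_snd, pullback.diagonal_snd,
        Category.comp_id] at this
      exact this.symm
    have hkey : V'.ι ≫ pullback.snd f g ≫ s' = V'.ι := by
      apply pullback.hom_ext
      · rw [Category.assoc, Category.assoc, ← hh, hsnd, hfst]
      · rw [Category.assoc, Category.assoc, hs, Category.comp_id]
    have hrange2 : Set.range (V'.ι ≫ pullback.snd f g) ⊆ Set.range V.ι := by
      rintro _ ⟨z, rfl⟩
      rw [Scheme.Opens.range_ι]
      change s' ((V'.ι ≫ pullback.snd f g) z) ∈ V'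
      rw [← Scheme.Hom.comp_apply, Category.assoc, hkey]
      exact z.2
    let β : (V' : Scheme.{u}) ⟶ V := IsOpenImmersion.lift V.ι (V'.ι ≫ pullback.snd f g) hrange2
    have hβ : β ≫ V.ι = V'.ι ≫ pullback.snd f g := IsOpenImmersion.lift_fac _ _ _
    let α : (V : Scheme.{u}) ⟶ V' := s' ∣_ V'
    have hα : α ≫ V'.ι = V.ι ≫ s' := morphismRestrict_ι s' V'
    have hαβ : α ≫ β = 𝟙 _ := by
      rw [← cancel_mono V.ι, Category.assoc, hβ, ← Category.assoc, hα, Category.assoc, hs,
        Category.comp_id, Category.id_comp]
    have hβα : β ≫ α = 𝟙 _ := by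
      rw [← cancel_mono V'.ι, Category.assoc, hα, ← Category.assoc, hβ, Category.assoc, hkey,
        Category.id_comp]
    have : IsIso α := ⟨β, hαβ, hβα⟩
    refine ⟨V, hy'V, ?_⟩
    rw [← hα]
    infer_instance
  · intro H
    apply (Groth.Agent.S3845.result f x).mpr
    exact H X f (pullback.diagonal f) (pullback.diagonal_snd f) x (by
      rw [← Scheme.Hom.comp_apply, pullback.diagonal_fst]; rfl)

end Groth.Agent.S3846
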