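import Groth.Statements.S3849
import Groth.Agent.Lib.Helper8.ZMTSection
import Groth.Agent.Lib.Helper8.DVRSch
-- import your own Groth.Agent.* helpers here

set_option autoImplicit false
universe u
open CategoryTheory CategoryTheory.Limits AlgebraicGeometry TopologicalSpace
open Rat20

namespace Groth.Agent.S3849

/-- In the case S = X (sections of q : Y → X): let X be a locally Noetherian scheme, q : Y → X
separated, locally of finite type and locally quasi-finite, U a dense open subset of X, h : U → Y a
section of q over U, and x a point of X outside U whose local ring is an integrally closed domain.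
Then h extends to a section of q over an open subset containing U and x if and only if there exist a
discrete valuation ring R, a morphism u : Spec R → X sending the closed point to x and the generic
point into U, and a morphism Spec R → Y over X agreeing with h at the generic point. -/
theorem result {X Y : Scheme.{u}} [IsLocallyNoetherian X] (q : Y ⟶ X)
    [LocallyOfFiniteType q] [IsSeparated q] [LocallyQuasiFinite q] (U : X.Opens) (hU : Dense (U : Set ↥X))
    (h : (U : Scheme.{u}) ⟶ Y) (hh : h ≫ q = U.ι) (x : ↥X) (hxU : x ∉ U) [IsDomain ↑(X.presheaf.stalk x)]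
    (hx : IsIntegrallyClosed ↑(X.presheaf.stalk x)) :
    (∃ (U' : X.Opens) (hUU' : U ≤ U') (h' : (U' : Scheme.{u}) ⟶ Y),
        x ∈ U' ∧ h' ≫ q = U'.ι ∧ X.homOfLE hUU' ≫ h' = h) ↔
      ∃ (R : Type u) (_ : CommRing R) (_ : IsDomain R) (_ : IsDiscreteValuationRing R)
        (u : Spec (CommRingCat.of R) ⟶ X) (ub : Spec (CommRingCat.of (FractionRing R)) ⟶ (U : Scheme.{u}))
        (h₁ : Spec (CommRingCat.of R) ⟶ Y),
        u (IsLocalRing.closedPoint R) = x ∧
          ub ≫ U.ι = Spec.map (CommRingCat.ofHom (algebraMap R (FractionRing R))) ≫ u ∧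
          h₁ ≫ q = u ∧ Spec.map (CommRingCat.ofHom (algebraMap R (FractionRing R))) ≫ h₁ = ub ≫ h := by
  have := hx
  constructor
  · rintro ⟨U', hUU', h', hxU', hh'q, hh'U⟩
    have hcl : x ∈ closure (((U : X.Opens) : Set X) ∩ Set.univ) := by
      rw [Set.inter_univ, hU.closure_eq]; trivial
    obtain ⟨d, ⟨hdU, -⟩, hdx⟩ := Groth.Agent.H8.RatExt.exists_specializes_of_mem_closure_inter U
      Set.univ isClosed_univ x hcl
    have hne : d ≠ x := by
      rintro rfl
      exact hxU hdU
    obtain ⟨R, _, _, _, u, hucl, hugen⟩ := Groth.Agent.H8.DVRSch.exists_dvr_of_specializes hdx hne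
    let ιR := Spec.map (CommRingCat.ofHom (algebraMap R (FractionRing R)))
    let ub : Spec (CommRingCat.of (FractionRing R)) ⟶ U := IsOpenImmersion.lift U.ι (ιR ≫ u) (by
      rintro _ ⟨pt, rfl⟩
      rw [Scheme.Hom.comp_apply, Groth.Agent.H8.DVRSch.specMap_fractionRing_apply, hugen,
        Scheme.Opens.range_ι]
      exact hdU)
    have hub : ub ≫ U.ι = ιR ≫ u := IsOpenImmersion.lift_fac _ _ _
    have hr := Groth.Agent.H8.MonoVal.range_subset_of_closedPoint_mem R u U' (hucl ▸ hxU')
    let u' : Spec (CommRingCat.of R) ⟶ U' := IsOpenImmersion.lift U'.ι u (by simpa using hr)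
    have hu' : u' ≫ U'.ι = u := IsOpenImmersion.lift_fac _ _ _
    refine ⟨R, inferInstance, inferInstance, inferInstance, u, ub, u' ≫ h', hucl, hub, ?_, ?_⟩
    · rw [Category.assoc, hh'q, hu']
    · rw [← hh'U, ← Category.assoc, ← Category.assoc]
      congr 1
      rw [← cancel_mono U'.ι, Category.assoc, Category.assoc, hu', Scheme.homOfLE_ι, hub]
  · rintro ⟨R, _, _, _, u, ub, h₁, hucl, hub, h₁q, h₁K⟩
    have hy₀ : q (h₁ (IsLocalRing.closedPoint R)) = x := by
      rw [← Scheme.Hom.comp_apply, h₁q, hucl]
    subst hy₀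
    have hξ : h (ub (IsLocalRing.closedPoint (FractionRing R))) ⤳ h₁ (IsLocalRing.closedPoint R) := by
      rw [← Scheme.Hom.comp_apply, ← h₁K, Scheme.Hom.comp_apply]
      exact (IsLocalRing.specializes_closedPoint _).map h₁.continuous
    obtain ⟨U', hUU', hxU', h', h1, h2, -⟩ :=
      Groth.Agent.H8.ZMTSection.extend_section_of_quasiFinite q (h₁ (IsLocalRing.closedPoint R))
        (q.quasiFiniteAt _) U h hh _ (ub (IsLocalRing.closedPoint (FractionRing R))).2 hξ
    exact ⟨U', hUU', h', hxU', h1, h2⟩

end Groth.Agent.S3849
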