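import Groth.Statements.S3852
import Mathlib

set_option autoImplicit false
universe u
open FCompl

namespace Groth.Agent.S3852

section
open AlgebraicGeometry CategoryTheory Limits TopologicalSpace Scheme
theorem local_pow_le (X : AlgebraicGeometry.Scheme.{u}) [IsLocallyNoetherian X] (I J : X.IdealSheafData)
    (h : (J.support : Set X) ⊆ I.support) (U : X.affineOpens) :
    ∃ n : ℕ, (I.ideal U) ^ n ≤ J.ideal U := by
  have _ : IsNoetherianRing Γ(X, U) := IsLocallyNoetherian.component_noetherian U
  have hsub : PrimeSpectrum.zeroLocus (J.ideal U : Set Γ(X, U)) ⊆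
      PrimeSpectrum.zeroLocus (I.ideal U : Set Γ(X, U)) := by
    have hU : IsAffineOpen U.1 := U.2
    have : IsOpenImmersion hU.fromSpec := hU.isOpenImmersion_fromSpec
    have hinj : Function.Injective hU.fromSpec := hU.fromSpec.isOpenEmbedding.injective
    refine (Set.image_subset_image_iff hinj).mp ?_
    rw [hU.fromSpec_image_zeroLocus,
      hU.fromSpec_image_zeroLocus, ← IdealSheafData.coe_support_inter,
      ← IdealSheafData.coe_support_inter]
    exact Set.inter_subset_inter_left _ h
  rw [PrimeSpectrum.zeroLocus_subset_zeroLocus_iff] at hsub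
  exact Ideal.exists_pow_le_of_le_radical_of_fg hsub (isNoetherian_def.mp inferInstance _)
end

open AlgebraicGeometry in
/-- Second assertion; stated for quasi-coherent ideal sheaves, with the condition on supports as an
inclusion, which is what the proof uses: Let X be a Noetherian scheme and I, J ideal sheaves such
that the zero locus of J is contained in the zero locus of I. Then I^n ≤ J for some n ≥ 1. -/
theorem result
    (X : Scheme.{u}) [IsNoetherian X] (I J : X.IdealSheafData)
    (h : (J.support : Set X) ⊆ I.support) :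
    ∃ n : ℕ, I ^ (n + 1) ≤ J := by
  classical
  choose n hn using local_pow_le X I J h
  obtain ⟨t, ht⟩ := isCompact_univ.elim_finite_subcover (fun U : X.affineOpens => (U.1 : Set X))
    (fun U => U.1.2) (by
      intro x _
      have : x ∈ (⨆ U : X.affineOpens, U.1 : X.Opens) := by
        rw [iSup_affineOpens_eq_top]; trivial
      obtain ⟨U, hU⟩ := TopologicalSpace.Opens.mem_iSup.mp this
      exact Set.mem_iUnion.mpr ⟨U, hU⟩)
  refine ⟨t.sup n, ?_⟩
  refine Scheme.IdealSheafData.le_of_iSup_eq_top (fun U : t => U.1) ?_ ?_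
  · rw [eq_top_iff]
    intro x _
    obtain ⟨U, hU⟩ := Set.mem_iUnion.mp (ht (Set.mem_univ x))
    obtain ⟨hUt, hxU⟩ := Set.mem_iUnion.mp hU
    exact TopologicalSpace.Opens.mem_iSup.mpr ⟨⟨U, hUt⟩, hxU⟩
  · rintro ⟨U, hU⟩
    rw [Scheme.IdealSheafData.ideal_pow]
    refine le_trans ?_ (hn U)
    change (I.ideal U) ^ (t.sup n + 1) ≤ _
    exact Ideal.pow_le_pow_right ((Finset.le_sup hU).trans (Nat.le_succ _))

end Groth.Agent.S3852
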