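import Groth.Statements.S3856
import Mathlib
import Groth.Agent.Lib.Helper1.CompleteNoeth

set_option autoImplicit false
universe u
open AdicRing

namespace Groth.Agent.S3856


/-- Let A be a ring that is complete and separated for the J-adic topology of an ideal J. If A/J² is
Noetherian (equivalently, A/J is Noetherian and J/J² is a finitely generated A/J-module), then A is
Noetherian. The published statement is phrased for a formal spectrum Spf(A) all of whose levels
Spec(A/J^(n+1)) are Noetherian; it is stated here with the weaker hypothesis that A/J² is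
Noetherian. -/
theorem result (A : Type u) [CommRing A]
    (J : Ideal A) [IsAdicComplete J A] [IsNoetherianRing (A ⧸ J ^ 2)] : IsNoetherianRing A := by
  classical
  have hle : J ^ 2 ≤ J := Ideal.pow_le_self (by norm_num)
  haveI : IsNoetherianRing (A ⧸ J) :=
    isNoetherianRing_of_surjective (A ⧸ J ^ 2) (A ⧸ J) (Ideal.Quotient.factor hle)
      (Ideal.Quotient.factor_surjective hle)
  let mk := Ideal.Quotient.mk (J ^ 2)
  have hfg : (J.map mk).FG := IsNoetherian.noetherian _
  obtain ⟨T, hT⟩ := hfg
  have hlift : ∀ t : T, ∃ a ∈ J, mk a = t.1 := by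
    intro t
    have : t.1 ∈ J.map mk := by rw [← hT]; exact Ideal.subset_span t.2
    exact (Ideal.mem_map_iff_of_surjective mk Ideal.Quotient.mk_surjective).mp this
  choose x hxJ hx using hlift
  refine Groth.Agent.H1.CompleteNoeth.isNoetherianRing_of_isAdicComplete' J x hxJ ?_
  intro y hy
  have h1 : mk y ∈ Ideal.span (T : Set (A ⧸ J ^ 2)) := by
    rw [hT]; exact Ideal.mem_map_of_mem mk hy
  have h2 : Ideal.span (T : Set (A ⧸ J ^ 2)) = (Ideal.span (Set.range x)).map mk := by
    rw [Ideal.map_span]
    congr 1
    ext z
    simp only [Finset.mem_coe, Set.mem_image, Set.mem_range, exists_exists_eq_and]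
    constructor
    · intro hz; exact ⟨⟨z, hz⟩, hx _⟩
    · rintro ⟨t, rfl⟩; rw [hx]; exact t.2
  rw [h2, Ideal.mem_map_iff_of_surjective mk Ideal.Quotient.mk_surjective] at h1
  obtain ⟨z, hz, hzy⟩ := h1
  have h3 : y - z ∈ J ^ 2 := by
    rw [← Ideal.Quotient.eq]; exact hzy.symm
  rw [show y = z + (y - z) by ring]
  exact Submodule.add_mem_sup hz h3

end Groth.Agent.S3856
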