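import Groth.Statements.S4091
import Groth.Agent.Lib.Helper1.SourceDescent
import Groth.Agent.Lib.Helper1.Thickening
import Groth.Agent.Lib.Helper3.SmSrc.FppfSrc

set_option autoImplicit false
universe u
open CategoryTheory MonoidalCategory CartesianMonoidalCategory MonObj GrpObj AlgebraicGeometry CategoryTheory.Limits
open GrpQ

namespace Groth.Agent.S4091

/-- Let p : X → Y and q : Y → S be morphisms of schemes with p surjective, flat and of finite
presentation. If p ≫ q is of finite type then q is of finite type; if p ≫ q is of finite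
presentation then q is of finite presentation. -/
theorem result {X Y S : Scheme.{u}} (p : X ⟶ Y) (q : Y ⟶ S)
    [Surjective p] [Flat p] [LocallyOfFinitePresentation p] [QuasiCompact p] [QuasiSeparated p] :
    ((LocallyOfFiniteType (p ≫ q) ∧ QuasiCompact (p ≫ q)) → (LocallyOfFiniteType q ∧ QuasiCompact q)) ∧
    ((LocallyOfFinitePresentation (p ≫ q) ∧ QuasiCompact (p ≫ q) ∧ QuasiSeparated (p ≫ q)) →
      (LocallyOfFinitePresentation q ∧ QuasiCompact q ∧ QuasiSeparated q)) := by
  constructor
  · rintro ⟨h1, h2⟩
    exact ⟨Groth.Agent.H1.SourceDescent.locallyOfFiniteType_of_family (fun _ : Unit => X)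
      (fun _ => p) q (fun y => ⟨(), p.surjective y⟩) (fun _ => h1),
      Groth.Agent.H1.quasiCompact_of_comp_surjective p q⟩
  · rintro ⟨h1, h2, h3⟩
    exact ⟨Groth.Agent.H3.FppfSrc.locallyOfFinitePresentation_of_family (fun _ : Unit => X)
      (fun _ => p) q (fun y => ⟨(), p.surjective y⟩) (fun _ => h1),
      Groth.Agent.H1.quasiCompact_of_comp_surjective p q,
      Groth.Agent.H1.quasiSeparated_of_comp_surjective p q⟩

end Groth.Agent.S4091
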