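import Groth.Statements.S4130
import Mathlib
import Groth.Agent.Lib.Helper9.CommGrp.NoPrim
import Groth.Agent.Lib.Helper9.CommGrp.MultType

set_option autoImplicit false
universe u
open TensorProduct
open SGA3

namespace Groth.Agent.S4130

/-- Let A be a finitely generated commutative and cocommutative Hopf algebra over a field k (a
commutative affine algebraic group G = Spec A). Then G has a largest subgroup M of multiplicative
type and G/M is unipotent: there is a Hopf ideal J of A (defining M) such that A/J is of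
multiplicative type (diagonalizable after a faithfully flat extension of k), J is contained in every
Hopf ideal I with A/I of multiplicative type, and J is the ideal generated by the augmentation ideal
of the image of an injective bialgebra map φ : B → A from a Hopf algebra B (so Spec B = G/M) which
is unipotent in the fixed-vector sense. -/
theorem result (k : Type u) [Field k]
    (A : Type u) [CommRing A] [HopfAlgebra k A] [Algebra.FiniteType k A] [Coalgebra.IsCocomm k A] :
    ∃ (J : Ideal A) (_ : J.IsHopfIdeal k), SGA3b.IsMultTypeConst k (A ⧸ J) ∧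
      (∀ (I : Ideal A) [I.IsHopfIdeal k], SGA3b.IsMultTypeConst k (A ⧸ I) → J ≤ I) ∧
      ∃ (B : Type u) (_ : CommRing B) (_ : HopfAlgebra k B) (φ : B →ₐc[k] A), Function.Injective φ ∧
        J = Ideal.map (φ : B →+* A) (RingHom.ker (Bialgebra.counitAlgHom k B)) ∧ HopfRep.IsUnipotent k B := by
  classical
  have hB := Groth.Agent.H9.CommGrp.isHopfSub_cocon (k := k) (A := A)
  letI iB : HopfAlgebra k ↥(Groth.Agent.H9.CommGrp.cocon k A) := hB.hopfAlgebra
  have hUB : HopfRep.IsUnipotent k ↥(Groth.Agent.H9.CommGrp.cocon k A) :=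
    Groth.Agent.H9.CommGrp.isUnipotent_cocon
  refine ⟨Groth.Agent.H9.CommGrp.coconIdeal k A, inferInstance, ?_, ?_, ?_⟩
  · -- multiplicative type
    have hnp : ∀ f : A ⧸ Groth.Agent.H9.CommGrp.coconIdeal k A,
        CoalgebraStruct.comul (R := k) f = f ⊗ₜ[k] 1 + 1 ⊗ₜ[k] f → f = 0 :=
      fun f hf => Groth.Agent.H9.CommGrp.eq_zero_of_primitive_quot f hf
    have hnpK := Groth.Agent.H9.CocommDiag.no_primitive_baseChange (AlgebraicClosure k) hnp
    have hdiag : HopfRep.IsDiagonalizable (AlgebraicClosure k)
        (AlgebraicClosure k ⊗[k] (A ⧸ Groth.Agent.H9.CommGrp.coconIdeal k A)) :=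
      Groth.Agent.H9.CocommDiag.isDiagonalizable_of_no_primitive hnpK
    exact ⟨AlgebraicClosure k, inferInstance, inferInstance, inferInstance,
      Groth.Agent.H9.CommGrp.isDiag_of_isDiagonalizable hdiag⟩
  · -- minimality
    intro I hI hmt
    show Groth.Agent.H9.CommGrp.subAugIdeal k A (Groth.Agent.H9.CommGrp.cocon k A) ≤ I
    unfold Groth.Agent.H9.CommGrp.subAugIdeal
    rw [Ideal.span_le]
    rintro a ⟨ha, ha0⟩
    let φ : ↥(Groth.Agent.H9.CommGrp.cocon k A) →ₐc[k] A ⧸ I :=
      (Bialgebra.Quotient.mkBialgHom I).comp hB.incl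
    have h1 := Groth.Agent.H9.CommGrp.trivial_of_no_primitive hUB
      (Groth.Agent.H9.CommGrp.no_primitive_of_isMultTypeConst hmt) φ ⟨a, ha⟩
    have h2 : CoalgebraStruct.counit (R := k) (⟨a, ha⟩ : ↥(Groth.Agent.H9.CommGrp.cocon k A)) =
        CoalgebraStruct.counit (R := k) a :=
      (CoalgHomClass.counit_comp_apply hB.incl ⟨a, ha⟩).symm
    have ha0' : CoalgebraStruct.counit (R := k) a = 0 := ha0
    rw [h2, ha0', zero_smul] at h1
    exact Ideal.Quotient.eq_zero_iff_mem.mp h1
  · exact ⟨↥(Groth.Agent.H9.CommGrp.cocon k A), inferInstance, iB, hB.incl, Subtype.val_injective,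
      Groth.Agent.H9.CommGrp.subAugIdeal_eq_map _ hB, hUB⟩

end Groth.Agent.S4130
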