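import Groth.Statements.S4135
import Groth.Agent.Lib.Helper9.Misc.MMInj
import Groth.Agent.Lib.Helper9.Misc.MMSurj

set_option autoImplicit false
universe u
open TensorProduct
attribute [local instance] LieRing.ofAssociativeRing
open SGA3y

namespace Groth.Agent.S4135

/-- Let k be a field of characteristic zero and H a cocommutative bialgebra over k which is connected
(every nonzero subcoalgebra contains 1). Then the canonical algebra homomorphism from the universal
enveloping algebra of the Lie algebra of primitive elements of H to H is bijective. -/
theorem result (k : Type u) [Field k] [CharZero k] (H : Type u) [Ring H]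
    [Bialgebra k H] [Coalgebra.IsCocomm k H] (hconn : SGA3y.IsConnectedCoalg k H) :
    Function.Bijective (UniversalEnvelopingAlgebra.lift k (SGA3y.primLie k H).incl) := by
  refine ⟨?_, ?_⟩
  · exact Groth.Agent.H9.MM.lift_injective (SGA3y.primLie k H).incl (fun x => x.2)
      Subtype.val_injective
  · intro x
    have h := Groth.Agent.H9.MM.mem_of_prim_mem hconn
      (UniversalEnvelopingAlgebra.lift k (SGA3y.primLie k H).incl).range
      (fun p hp => ⟨UniversalEnvelopingAlgebra.ι k (⟨p, hp⟩ : SGA3y.primLie k H),
        UniversalEnvelopingAlgebra.lift_ι_apply k _ _⟩) x
    exact h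

end Groth.Agent.S4135
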