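import Groth.Statements.S4243
import Mathlib

set_option autoImplicit false
open SGA4h

namespace Groth.Agent.S4243

section
open MvPolynomial
variable {k : Type} [Field k] [Fintype k]

/-- replace exponent `q` by `1` -/
noncomputable def red (q : ℕ) (hq : q ≠ 0) {n : ℕ} (m : Fin n →₀ ℕ) : Fin n →₀ ℕ :=
  m.mapRange (fun e => if e = q then 1 else e) (by simp [hq.symm])

theorem red_apply (q : ℕ) (hq : q ≠ 0) {n : ℕ} (m : Fin n →₀ ℕ) (i : Fin n) :
    red q hq m i = if m i = q then 1 else m i := by
  simp [red]

theorem le_of_degree {n : ℕ} (m : Fin n →₀ ℕ) (i : Fin n) : m i ≤ m.degree := by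
  classical
  rw [Finsupp.degree_apply]
  by_cases h : i ∈ m.support
  · exact Finset.single_le_sum (f := fun j => m j) (fun _ _ => Nat.zero_le _) h
  · rw [Finsupp.notMem_support_iff.mp h]; exact Nat.zero_le _

theorem eq_zero_of_degree_eq {n : ℕ} (m : Fin n →₀ ℕ) (i j : Fin n) (hij : j ≠ i)
    (h : m i = m.degree) : m j = 0 := by
  classical
  by_contra hj
  have hjs : j ∈ m.support := Finsupp.mem_support_iff.mpr hj
  have his : i ∈ m.support ∨ m i = 0 := by
    by_cases h0 : m i = 0
    · exact Or.inr h0
    · exact Or.inl (Finsupp.mem_support_iff.mpr h0)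
  rcases his with his | h0
  · have hsub : ({i, j} : Finset (Fin n)) ⊆ m.support := by
      intro x hx
      simp only [Finset.mem_insert, Finset.mem_singleton] at hx
      rcases hx with rfl | rfl <;> assumption
    have := Finset.sum_le_sum_of_subset (f := fun x => m x) hsub
    rw [Finset.sum_pair hij.symm, ← Finsupp.degree_apply] at this
    omega
  · have := le_of_degree m j
    omega

theorem red_injOn (q : ℕ) (hq : 2 ≤ q) {n : ℕ} (d : ℕ) (hd : d ≤ q) (m m' : Fin n →₀ ℕ)
    (hm : m.degree = d) (hm' : m'.degree = d)
    (h : red q (by omega) m = red q (by omega) m') : m = m' := by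
  classical
  have key : ∀ (a b : Fin n →₀ ℕ), a.degree = d → b.degree = d →
      red q (by omega) a = red q (by omega) b → ∀ i, a i = q → b i = q := by
    intro a b ha hb hab i hai
    have hdq : d = q := le_antisymm hd (by rw [← ha, ← hai]; exact le_of_degree a i)
    have hothers : ∀ j, j ≠ i → b j = 0 := by
      intro j hj
      have haj : a j = 0 := eq_zero_of_degree_eq a i j hj (by rw [hai, ha, hdq])
      have := DFunLike.congr_fun hab j
      rw [red_apply, red_apply, haj] at this
      by_cases hbj : b j = q
      · rw [if_neg (by omega), if_pos hbj] at this; omega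
      · rw [if_neg (by omega), if_neg hbj] at this; omega
    have hbi : b i = b.degree := by
      rw [Finsupp.degree_apply]
      by_cases hi : i ∈ b.support
      · rw [Finset.sum_eq_single_of_mem i hi]
        intro j _ hj; exact hothers j hj
      · rw [Finsupp.notMem_support_iff.mp hi]
        symm
        apply Finset.sum_eq_zero
        intro j hjs
        by_cases hj : j = i
        · subst hj; exact Finsupp.notMem_support_iff.mp hi
        · exact hothers j hj
    rw [hbi, hb, hdq]
  ext i
  have := DFunLike.congr_fun h i
  rw [red_apply, red_apply] at this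
  by_cases h1 : m i = q
  · rw [h1, key m m' hm hm' h i h1]
  · by_cases h2 : m' i = q
    · exact absurd (key m' m hm' hm h.symm i h2) h1
    · rwa [if_neg h1, if_neg h2] at this

theorem prod_red (q : ℕ) (hq : q ≠ 0) (hqk : q = Fintype.card k) {n : ℕ} (m : Fin n →₀ ℕ)
    (x : Fin n → k) : ∏ i, x i ^ (red q hq m i) = ∏ i, x i ^ (m i) := by
  refine Finset.prod_congr rfl fun i _ => ?_
  rw [red_apply]
  split_ifs with h
  · rw [h, hqk, FiniteField.pow_card, pow_one]
  · rfl

theorem aux (n d : ℕ) (P : MvPolynomial (Fin n) k) (hP : P.IsHomogeneous d)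
    (hd : d ≤ Fintype.card k) (hvan : ∀ x : Fin n → k, MvPolynomial.eval x P = 0) : P = 0 := by
  classical
  set q := Fintype.card k with hqdef
  have hq2 : 2 ≤ q := Fintype.one_lt_card
  have hq0 : q ≠ 0 := by omega
  have hdeg : ∀ m ∈ P.support, m.degree = d := by
    intro m hm
    rw [Finsupp.degree_eq_weight_one]
    exact hP (MvPolynomial.mem_support_iff.mp hm)
  let P' : MvPolynomial (Fin n) k := ∑ m ∈ P.support, monomial (red q hq0 m) (coeff m P)
  have hP'eval : ∀ x : Fin n → k, eval x P' = 0 := by
    intro x
    rw [← hvan x, eval_eq' x P]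
    simp only [P', map_sum, eval_monomial]
    refine Finset.sum_congr rfl fun m _ => ?_
    rw [Finsupp.prod_fintype _ _ (by simp), prod_red q hq0 hqdef m x]
  have hP'mem : P' ∈ restrictDegree (Fin n) k (Fintype.card k - 1) := by
    rw [mem_restrictDegree]
    intro s hs i
    have := MvPolynomial.support_sum (s := P.support)
      (f := fun m => monomial (red q hq0 m) (coeff m P)) hs
    rw [Finset.mem_biUnion] at this
    obtain ⟨m, hm, hsm⟩ := this
    have := MvPolynomial.support_monomial_subset hsm
    rw [Finset.mem_singleton] at this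
    rw [this, red_apply]
    have hmi : m i ≤ q := ((le_of_degree m i).trans_eq (hdeg m hm)).trans hd
    split_ifs with h
    · omega
    · omega
  have hP'0 : P' = 0 := MvPolynomial.eq_zero_of_eval_eq_zero (Fin n) k P' hP'eval hP'mem
  ext m₀
  rw [coeff_zero]
  by_contra hne
  have hm₀ : m₀ ∈ P.support := MvPolynomial.mem_support_iff.mpr hne
  have : coeff (red q hq0 m₀) P' = coeff m₀ P := by
    simp only [P', coeff_sum, coeff_monomial]
    rw [Finset.sum_eq_single m₀]
    · simp
    · intro m hm hmne
      rw [if_neg]
      intro h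
      exact hmne (red_injOn q hq2 d hd m m₀ (hdeg m hm) (hdeg m₀ hm₀) h)
    · intro h; exact absurd hm₀ h
  rw [hP'0, coeff_zero] at this
  exact hne this.symm
end

/-- Let k be a finite field with q elements and P a nonzero homogeneous polynomial of degree d in r+1
variables over k. If P vanishes at every point of k^{r+1} (that is, the hypersurface P = 0 in
projective r-space passes through every rational point), then d ≥ q + 1. -/
theorem result (k : Type) [Field k] [Fintype k] (r d : ℕ)
    (P : MvPolynomial (Fin (r + 1)) k) (hP : P.IsHomogeneous d) (hP0 : P ≠ 0)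
    (hvan : ∀ x : Fin (r + 1) → k, MvPolynomial.eval x P = 0) :
    Fintype.card k + 1 ≤ d := by
  by_contra h
  exact hP0 (aux (r + 1) d P hP (by omega) hvan)

end Groth.Agent.S4243
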