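import Groth.Statements.S4337
import Groth.Agent.Lib.Helper6.LinTopLib
open Groth.Agent.H6.LinTopLib

set_option autoImplicit false
universe u
open LinTop

namespace Groth.Agent.S4337

/-- Let A be an admissible ring, J an ideal of definition, and u : M -> N a homomorphism of A-modules
with N of finite type. Then u is surjective if and only if u tensored with A/J is surjective. -/
theorem result
    (A : Type u) [CommRing A] [UniformSpace A] [IsUniformAddGroup A] [IsTopologicalRing A]
    (hA : LinTop.IsAdmissible A) (J : Ideal A) (hJ : LinTop.IsIdealOfDefinition A J)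
    (M N : Type u) [AddCommGroup M] [Module A M] [AddCommGroup N] [Module A N] [Module.Finite A N]
    (u : M →ₗ[A] N) :
    Function.Surjective u ↔ Function.Surjective (u.rTensor (A ⧸ J)) := by
  constructor
  · intro h
    exact LinearMap.rTensor_surjective _ h
  · intro h
    apply LinearMap.surjective_of_surjective_comp_mkQ u J (le_jacobson hA hJ)
    intro y
    obtain ⟨n, rfl⟩ := Submodule.Quotient.mk_surjective _ y
    obtain ⟨t, ht⟩ := h (n ⊗ₜ[A] (1 : A ⧸ J))
    obtain ⟨m, hm⟩ := Submodule.Quotient.mk_surjective _ (TensorProduct.tensorQuotEquivQuotSMul M J t)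
    have ht' : t = m ⊗ₜ[A] (1 : A ⧸ J) := by
      rw [← TensorProduct.tensorQuotEquivQuotSMul_symm_mk J m, hm, LinearEquiv.symm_apply_apply]
    refine ⟨m, ?_⟩
    rw [ht', LinearMap.rTensor_tmul] at ht
    have := congrArg (TensorProduct.tensorQuotEquivQuotSMul N J) ht
    rw [← map_one (Ideal.Quotient.mk J), TensorProduct.tensorQuotEquivQuotSMul_tmul_mk,
      TensorProduct.tensorQuotEquivQuotSMul_tmul_mk, one_smul, one_smul] at this
    exact this

end Groth.Agent.S4337
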