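import Groth.Statements.S4342
import Groth.Agent.Lib.Lead.QC.SubFinLN

set_option autoImplicit false
universe u
open QCohSup

namespace Groth.Agent.S4342

open AlgebraicGeometry in
open CategoryTheory in
open Opposite in
/-- In the sectionwise form its proof gives. Let X be a scheme whose underlying space is locally
Noetherian and F a quasi-coherent O_X-module. For every affine open U and every section s of F over
U there is a quasi-coherent sub-O_X-module of finite type of F having s among its sections over U;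
hence F is the inductive limit of its quasi-coherent submodules of finite type. -/
theorem result
    {X : Scheme.{u}}
    (hX : ∀ x : X, ∃ U : X.Opens, x ∈ U ∧ TopologicalSpace.NoetherianSpace (U : Set X))
    (F : X.Modules) [Coh.IsQCoh F]
    (U : X.affineOpens) (s : F.val.obj (op (U : X.Opens))) :
    ∃ (G' : X.Modules) (i' : G' ⟶ F), Mono i' ∧ Coh.IsQCoh G' ∧ CohB1.IsFT G' ∧
      ∃ g : G'.val.obj (op (U : X.Opens)), (i'.val.app (op (U : X.Opens))).hom g = s := by
  classical
  have hLN : Groth.Agent.LD.QC.LocNoeth X := hX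
  haveI : QuasiSeparatedSpace X := Groth.Agent.LD.QC.quasiSeparatedSpace_of_locNoeth hLN
  haveI hF : F.IsQuasicoherent := ‹Coh.IsQCoh F›
  have hU : IsAffineOpen (U : X.Opens) := U.2
  let s' : Γ(F, (U : X.Opens)) := s
  let N₁ : Submodule Γ(X, (U : X.Opens)) Γ(F, (U : X.Opens)) := Submodule.span _ {s'}
  have hN₁ : N₁.FG := ⟨{s'}, by simp [N₁]⟩
  let G₀ : X.Modules := Groth.Agent.LD.QC.subGen F hU N₁
  let ι₀ : G₀ ⟶ F := Groth.Agent.LD.QC.subGenι F hU N₁
  haveI hG₀ : G₀.IsQuasicoherent := Groth.Agent.LD.QC.subGen_qc F hU N₁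
  have hfinU : Module.Finite Γ(X, (U : X.Opens)) Γ(G₀, (U : X.Opens)) :=
    Groth.Agent.LD.QC.subGen_finite F hU N₁ hN₁
  have hfin : ∀ W : X.Opens, IsAffineOpen W → W ≤ (U : X.Opens) →
      Module.Finite Γ(X, W) Γ(G₀, W) := by
    intro W hW hWU
    apply Groth.Agent.LD.QC.finite_sections_of_locally G₀ hW
    intro x _
    exact ⟨U, hU, hWU ‹x ∈ W›, hfinU⟩
  obtain ⟨G, u, hu, hG, hFT, hbij⟩ :=
    Groth.Agent.LD.QC.exists_sub_finiteType_locNoeth hLN G₀ (U : X.Opens) hfin
  refine ⟨G, u ≫ ι₀, mono_comp _ _, hG, hFT, ?_⟩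
  obtain ⟨t, ht⟩ := (Groth.Agent.LD.QC.mem_range_subGenι_iff F hU N₁ s').mpr
    (Submodule.subset_span rfl)
  obtain ⟨g, hg⟩ := (hbij (U : X.Opens) le_rfl).2 t
  refine ⟨g, ?_⟩
  change ι₀.app (U : X.Opens) (u.app (U : X.Opens) g) = s'
  rw [hg]
  exact ht

end Groth.Agent.S4342
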