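import Groth.Statements.S4364
import Mathlib

set_option autoImplicit false
universe u
open FinCond

namespace Groth.Agent.S4364

section
open AlgebraicGeometry CategoryTheory Limits TopologicalSpace
theorem exists_opens_of_germ_eq {X : AlgebraicGeometry.Scheme.{u}} {A : CommRingCat.{u}} (x : X) (U₀ : X.Opens)
    (hx : x ∈ U₀) (α β : A ⟶ X.presheaf.obj (Opposite.op U₀))
    (h : α ≫ X.presheaf.germ U₀ x hx = β ≫ X.presheaf.germ U₀ x hx) (t : Finset A) :
    ∃ (U' : X.Opens) (hU' : U' ≤ U₀), x ∈ U' ∧ ∀ b ∈ t,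
      X.presheaf.map (CategoryTheory.homOfLE hU').op (α b) = X.presheaf.map (CategoryTheory.homOfLE hU').op (β b) := by
  classical
  induction t using Finset.induction_on with
  | empty => exact ⟨U₀, le_rfl, hx, by simp⟩
  | insert b t hb ih =>
    obtain ⟨U₁, hU₁, hx₁, h₁⟩ := ih
    have hb' : X.presheaf.germ U₀ x hx (α b) = X.presheaf.germ U₀ x hx (β b) := by
      have := congrArg (fun φ => φ.hom b) h
      simpa using this
    obtain ⟨W, hxW, iU, iV, e⟩ := X.presheaf.germ_eq x hx hx _ _ hb'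
    refine ⟨U₁ ⊓ W, inf_le_left.trans hU₁, ⟨hx₁, hxW⟩, ?_⟩
    intro c hc
    rw [Finset.mem_insert] at hc
    rcases hc with rfl | hc
    · have e1 : CategoryTheory.homOfLE (inf_le_left.trans hU₁ : U₁ ⊓ W ≤ U₀) =
          CategoryTheory.homOfLE (inf_le_right : U₁ ⊓ W ≤ W) ≫ iU := rfl
      have e2 : CategoryTheory.homOfLE (inf_le_left.trans hU₁ : U₁ ⊓ W ≤ U₀) =
          CategoryTheory.homOfLE (inf_le_right : U₁ ⊓ W ≤ W) ≫ iV := rfl
      conv_lhs => rw [e1, op_comp, Functor.map_comp]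
      conv_rhs => rw [e2, op_comp, Functor.map_comp]
      simp only [CommRingCat.comp_apply]
      rw [e]
    · have e1 : CategoryTheory.homOfLE (inf_le_left.trans hU₁ : U₁ ⊓ W ≤ U₀) =
          CategoryTheory.homOfLE (inf_le_left : U₁ ⊓ W ≤ U₁) ≫ CategoryTheory.homOfLE hU₁ := rfl
      rw [e1, op_comp, Functor.map_comp]
      simp only [CommRingCat.comp_apply]
      rw [h₁ c hc]
set_option backward.isDefEq.respectTransparency.types false in
theorem spread_aux
    {X Y S : AlgebraicGeometry.Scheme.{u}} (sX : X ⟶ S) (sY : Y ⟶ S) [LocallyOfFiniteType sY]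
    (f g : X ⟶ Y) (hf : f ≫ sY = sX) (hg : g ≫ sY = sX) {x : X} (e : f x = g x)
    (H : f.stalkMap x =
      Y.presheaf.stalkSpecializes (Inseparable.of_eq e.symm).specializes ≫ g.stalkMap x) :
    ∃ U : X.Opens, x ∈ U ∧ U.ι ≫ f = U.ι ≫ g := by
  obtain ⟨_, ⟨W : S.Opens, hW, rfl⟩, hxW, -⟩ :=
    S.isBasis_affineOpens.exists_subset_of_mem_open (Set.mem_univ (sX x)) isOpen_univ
  have hfxW : f x ∈ sY ⁻¹ᵁ W := by
    change sY (f x) ∈ W
    rw [← Scheme.Hom.comp_apply, hf]; exact hxW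
  obtain ⟨_, ⟨V : Y.Opens, hV, rfl⟩, hxV, hVW⟩ :=
    Y.isBasis_affineOpens.exists_subset_of_mem_open hfxW (sY ⁻¹ᵁ W).isOpen
  have hxV' : g x ∈ V := e ▸ hxV
  set U₀ : X.Opens := f ⁻¹ᵁ V ⊓ g ⁻¹ᵁ V with hU₀
  have hxU₀ : x ∈ U₀ := ⟨hxV, hxV'⟩
  have hgerm : f.appLE V U₀ inf_le_left ≫ X.presheaf.germ U₀ x hxU₀ =
      g.appLE V U₀ inf_le_right ≫ X.presheaf.germ U₀ x hxU₀ := by
    simp only [Scheme.Hom.appLE, Category.assoc, X.presheaf.germ_res', ← Scheme.Hom.germ_stalkMap, H]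
    simp only [TopCat.Presheaf.germ_stalkSpecializes_assoc, Scheme.Hom.germ_stalkMap]
  have hft : (sY.appLE W V hVW).hom.FiniteType := sY.finiteType_appLE hW hV hVW
  letI := (sY.appLE W V hVW).hom.toAlgebra
  obtain ⟨t, ht⟩ := hft.out
  obtain ⟨U', hU', hxU', hagree⟩ := exists_opens_of_germ_eq x U₀ hxU₀ _ _ hgerm t
  refine ⟨U', hxU', ?_⟩
  have h1 : U' ≤ f ⁻¹ᵁ V := hU'.trans inf_le_left
  have h2 : U' ≤ g ⁻¹ᵁ V := hU'.trans inf_le_right
  rw [← Scheme.Hom.resLE_comp_ι _ h1, ← Scheme.Hom.resLE_comp_ι _ h2]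
  congr 1
  have : IsAffine V := hV
  suffices hsuff : ∀ (U₁ V₁) (eU : U' = U₁) (eV : V = V₁),
      f.appLE V₁ U₁ (eU ▸ eV ▸ h1) = g.appLE V₁ U₁ (eU ▸ eV ▸ h2) by
    rw [← cancel_mono V.toScheme.isoSpec.hom]
    simp only [Scheme.isoSpec, asIso_hom, Scheme.toSpecΓ_naturality,
      Scheme.Hom.app_eq_appLE, Scheme.Hom.resLE_appLE]
    congr 2
    apply hsuff <;> simp
  rintro _ _ rfl rfl
  -- the two ring homs agree on the image of Γ(S, W) and on the generators
  have hcomp : ∀ (a b : X ⟶ S) (hab : a = b) (e₁ : U' ≤ a ⁻¹ᵁ W) (e₂ : U' ≤ b ⁻¹ᵁ W),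
      a.appLE W U' e₁ = b.appLE W U' e₂ := by
    rintro a b rfl e₁ e₂; rfl
  have hψ : sY.appLE W V hVW ≫ f.appLE V U' h1 = sY.appLE W V hVW ≫ g.appLE V U' h2 := by
    rw [Scheme.Hom.appLE_comp_appLE, Scheme.Hom.appLE_comp_appLE]
    exact hcomp _ _ (hf.trans hg.symm) _ _
  have hres1 : f.appLE V U' h1 = f.appLE V U₀ inf_le_left ≫ X.presheaf.map (homOfLE hU').op :=
    (Scheme.Hom.appLE_map _ _ _).symm
  have hres2 : g.appLE V U' h2 = g.appLE V U₀ inf_le_right ≫ X.presheaf.map (homOfLE hU').op :=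
    (Scheme.Hom.appLE_map _ _ _).symm
  ext b
  have hb : b ∈ Algebra.adjoin Γ(S, W) (t : Set Γ(Y, V)) := by rw [ht]; trivial
  induction hb using Algebra.adjoin_induction with
  | mem b hb =>
    rw [hres1, hres2]
    exact hagree b hb
  | algebraMap r =>
    have := congrArg (fun φ => φ.hom r) hψ
    exact this
  | add b c _ _ hb hc => rw [map_add, map_add, hb, hc]
  | mul b c _ _ hb hc => rw [map_mul, map_mul, hb, hc]

end

open AlgebraicGeometry in
open CategoryTheory in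
/-- Let X and Y be S-schemes with Y locally of finite type over S, and let f, g : X -> Y be S-morphisms.
If f x = g x for some point x and the two induced homomorphisms of local rings O_{Y, f x} -> O_{X,
x} coincide, then f and g coincide on an open neighbourhood of x. No condition is imposed on X. (The
published statement assumes Y of finite type over S; this row assumes Y only locally of finite type
over S, which is all the published proof uses.) -/
theorem result
    {X Y S : Scheme.{u}} (sX : X ⟶ S) (sY : Y ⟶ S) [LocallyOfFiniteType sY]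
    (f g : X ⟶ Y) (hf : f ≫ sY = sX) (hg : g ≫ sY = sX) {x : X} (e : f x = g x)
    (H : f.stalkMap x =
      Y.presheaf.stalkSpecializes (Inseparable.of_eq e.symm).specializes ≫ g.stalkMap x) :
    ∃ U : X.Opens, x ∈ U ∧ U.ι ≫ f = U.ι ≫ g := by
  exact spread_aux sX sY f g hf hg e H

end Groth.Agent.S4364
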