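import Groth.Statements.S4344
import Mathlib

set_option autoImplicit false
universe u
open RatMapD

namespace Groth.Agent.S4344

section
open AlgebraicGeometry CategoryTheory Limits TopologicalSpace Scheme
set_option backward.defeqAttrib.useBackward true in
set_option backward.isDefEq.respectTransparency false in
theorem main (S X Y : AlgebraicGeometry.Scheme.{u}) [X.Over S] [Y.Over S] [AlgebraicGeometry.IsReduced X] [IsSeparated (Y ↘ S)]
    (f : X ⤏ Y) [f.IsOver S] :
    ∃ g : X.PartialMap Y, g.IsOver S ∧ g.toRationalMap = f ∧
      ∀ h : X.PartialMap Y, h.IsOver S → h.toRationalMap = f →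
        ∃ hle : h.domain ≤ g.domain, h = g.restrict h.domain h.dense_domain hle := by
  let J := {h : X.PartialMap Y // h.IsOver S ∧ h.toRationalMap = f}
  let U : J → X.Opens := fun h => h.1.domain
  obtain ⟨h₀, hh₀S, hh₀⟩ := f.exists_partialMap_over S
  let j₀ : J := ⟨h₀, hh₀S, hh₀⟩
  have hdense : Dense ((⨆ i, U i : X.Opens) : Set X) := h₀.dense_domain.mono (le_iSup U j₀)
  let 𝒰 := Scheme.Opens.iSupOpenCover U
  have compat : ∀ x y : J, pullback.fst (𝒰.f x) (𝒰.f y) ≫ x.1.hom =
      pullback.snd (𝒰.f x) (𝒰.f y) ≫ y.1.hom := by
    intro x y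
    refine (cancel_epi (isPullback_opens_inf_le (le_iSup U x) (le_iSup U y)).isoPullback.hom).mp ?_
    simp only [𝒰, Scheme.Opens.iSupOpenCover, IsPullback.isoPullback_hom_fst_assoc,
      IsPullback.isoPullback_hom_snd_assoc]
    have := x.2.1; have := y.2.1
    exact (PartialMap.equiv_iff_of_isSeparated (S := S) (f := x.1) (g := y.1)).mp
      (by rw [← PartialMap.toRationalMap_eq_iff, x.2.2, y.2.2])
  let g : X.PartialMap Y := ⟨⨆ i, U i, hdense, 𝒰.glueMorphisms (fun x => x.1.hom) compat⟩
  have key : ∀ j : J, X.homOfLE (le_iSup U j) ≫ g.hom = j.1.hom := fun j =>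
    𝒰.ι_glueMorphisms (fun x => x.1.hom) compat j
  have hrest : ∀ j : J, j.1 = g.restrict j.1.domain j.1.dense_domain (le_iSup U j) := by
    intro j
    refine PartialMap.ext _ _ rfl ?_
    simp only [PartialMap.restrict_hom, PartialMap.restrict_domain]
    rw [key j]; simp
  refine ⟨g, ?_, ?_, fun h hS hf => ⟨le_iSup U ⟨h, hS, hf⟩, hrest ⟨h, hS, hf⟩⟩⟩
  · rw [PartialMap.isOver_iff]
    refine 𝒰.hom_ext _ _ fun j => ?_
    have := j.2.1
    have hj := (PartialMap.isOver_iff (S := S) (f := j.1)).mp inferInstance
    simp only [PartialMap.compHom_hom] at hj ⊢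
    change X.homOfLE (le_iSup U j) ≫ g.hom ≫ _ = X.homOfLE (le_iSup U j) ≫ _
    rw [reassoc_of% (key j), hj, Scheme.homOfLE_ι_assoc]
  · rw [← hh₀]
    have := congrArg PartialMap.toRationalMap (hrest j₀)
    rw [PartialMap.restrict_toRationalMap] at this
    exact this.symm
end

open AlgebraicGeometry in
open CategoryTheory in
/-- Let X be a reduced S-scheme, Y an S-scheme separated over S and f an S-rational map from X to Y.
There is a representative g of f which is an S-morphism and of which every S-morphism representing f
is a restriction; in particular g is the unique S-morphism of the class of f defined on the largest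
open where some S-representative is defined. (The published statement speaks of the domain of
definition among all representatives; over a base that is not separated that domain can be larger
than the one on which an S-representative exists, and this row takes the latter.) -/
theorem result
    (S X Y : Scheme.{u}) [X.Over S] [Y.Over S] [IsReduced X] [IsSeparated (Y ↘ S)]
    (f : X ⤏ Y) [f.IsOver S] :
    ∃ g : X.PartialMap Y, g.IsOver S ∧ g.toRationalMap = f ∧
      ∀ h : X.PartialMap Y, h.IsOver S → h.toRationalMap = f →
        ∃ hle : h.domain ≤ g.domain, h = g.restrict h.domain h.dense_domain hle := by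
  exact main S X Y f

end Groth.Agent.S4344
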