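import Groth.Statements.S4345
import Mathlib

set_option autoImplicit false
universe u
open SchLoc

namespace Groth.Agent.S4345

section
open IsLocalRing
variable {R : Type u} [Field R]

theorem ofPrime_congr (A : Subring R) {P P' : Ideal A} [P.IsPrime] [P'.IsPrime] (h : P = P') :
    LocalSubring.ofPrime A P = LocalSubring.ofPrime A P' := by
  subst h; rfl

theorem comap_max_ofPrime (A : Subring R) (P : Ideal A) [P.IsPrime] :
    (maximalIdeal (LocalSubring.ofPrime A P).toSubring).comap
      (Subring.inclusion (LocalSubring.le_ofPrime A P)) = P :=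
  IsLocalization.AtPrime.under_maximalIdeal (LocalSubring.ofPrime A P).toSubring P

theorem mem_ofPrime_iff (A : Subring R) (P : Ideal A) [P.IsPrime] (x : R) :
    x ∈ (LocalSubring.ofPrime A P).toSubring ↔ ∃ a s : A, s ∉ P ∧ x * s.1 = a.1 := by
  constructor
  · intro hx
    obtain ⟨⟨a, s⟩, h⟩ := IsLocalization.surj P.primeCompl
      (⟨x, hx⟩ : (LocalSubring.ofPrime A P).toSubring)
    refine ⟨a, s.1, s.2, ?_⟩
    exact congrArg Subtype.val h
  · rintro ⟨a, s, hs, h⟩
    have hs0 : s.1 ≠ 0 := by
      intro h0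
      apply hs
      have : s = 0 := Subtype.ext h0
      rw [this]; exact zero_mem _
    have hu : IsUnit (algebraMap A (LocalSubring.ofPrime A P).toSubring s) :=
      IsLocalization.map_units (M := P.primeCompl) _ ⟨s, hs⟩
    obtain ⟨v, hv⟩ := hu.exists_right_inv
    have hv' : s.1 * v.1 = 1 := congrArg Subtype.val hv
    have hvinv : v.1 = s.1⁻¹ := by
      field_simp
      rw [mul_comm]; exact hv'
    have hx : x = a.1 * v.1 := by
      rw [hvinv, ← h]; field_simp
    rw [hx]
    exact Subring.mul_mem _ (LocalSubring.le_ofPrime A P a.2) v.2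

theorem ofPrime_le_of_eq (A : Subring R) (Q : LocalSubring R) (h : A ≤ Q.toSubring)
    (P : Ideal A) [P.IsPrime]
    (hP : P = (maximalIdeal Q.toSubring).comap (Subring.inclusion h)) :
    LocalSubring.ofPrime A P ≤ Q := by
  have h' : (LocalSubring.ofPrime A P).toSubring ≤ Q.toSubring := by
    intro x hx
    obtain ⟨a, s, hs, e⟩ := (mem_ofPrime_iff A P x).mp hx
    rw [hP] at hs
    have hs' : IsUnit (Subring.inclusion h s) := by
      by_contra hn
      exact hs (by rw [Ideal.mem_comap]; exact (IsLocalRing.mem_maximalIdeal _).mpr hn)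
    obtain ⟨v, hv⟩ := hs'.exists_right_inv
    have hv' : s.1 * v.1 = 1 := by
      have := congrArg Subtype.val hv
      simpa using this
    have hs0 : s.1 ≠ 0 := by
      intro h0; rw [h0, zero_mul] at hv'; exact zero_ne_one hv'
    have hvinv : v.1 = s.1⁻¹ := by
      field_simp
      rw [mul_comm]; exact hv'
    have hx : x = a.1 * v.1 := by
      rw [hvinv, ← e]; field_simp
    rw [hx]
    exact Subring.mul_mem _ (h a.2) v.2
  refine ⟨h', ?_⟩
  have key := ((IsLocalRing.local_hom_TFAE (Subring.inclusion h')).out 0 2)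
  rw [key]
  rw [← IsLocalization.AtPrime.map_eq_maximalIdeal P (LocalSubring.ofPrime A P).toSubring,
    Ideal.map_map, Ideal.map_le_iff_le_comap]
  intro x hx
  rw [hP] at hx
  exact hx

theorem eq_of_ofPrime_le (A : Subring R) (Q : LocalSubring R) (h : A ≤ Q.toSubring)
    (P : Ideal A) [P.IsPrime] (hle : LocalSubring.ofPrime A P ≤ Q) :
    P = (maximalIdeal Q.toSubring).comap (Subring.inclusion h) := by
  obtain ⟨h', hloc⟩ := hle
  have key := ((IsLocalRing.local_hom_TFAE (Subring.inclusion h')).out 0 4).mp hloc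
  conv_lhs => rw [← comap_max_ofPrime A P, ← key, Ideal.comap_comap]
  rfl
theorem ofPrime_eq_of_le (E E' : Subring R) (h : E ≤ E') (r : Ideal E') [r.IsPrime]
    (hE' : E' ≤ (LocalSubring.ofPrime E (r.comap (Subring.inclusion h))).toSubring) :
    LocalSubring.ofPrime E' r = LocalSubring.ofPrime E (r.comap (Subring.inclusion h)) := by
  have h1 : LocalSubring.ofPrime E (r.comap (Subring.inclusion h)) ≤ LocalSubring.ofPrime E' r := by
    refine ofPrime_le_of_eq E _ (h.trans (LocalSubring.le_ofPrime E' r)) _ ?_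
    conv_lhs => rw [← comap_max_ofPrime E' r, Ideal.comap_comap]
    rfl
  refine le_antisymm ?_ h1
  refine ofPrime_le_of_eq E' _ hE' _ ?_
  obtain ⟨h'', hloc⟩ := h1
  have key := ((IsLocalRing.local_hom_TFAE (Subring.inclusion h'')).out 0 4).mp hloc
  rw [← key, Ideal.comap_comap]
  conv_lhs => rw [← comap_max_ofPrime E' r]
  rfl
end

/-- Let A and B be subrings of a field R, C the subring generated by A and B, and for a subring E let
L(E) be the set of local subrings E_p of R, p a prime ideal of E. The following are equivalent: (i)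
for every local subring Q of R containing A and B, the localizations of A and of B at the traces of
the maximal ideal of Q coincide; (ii) for every prime ideal r of C the localizations of A and B at
the traces of r coincide; (iii) two members of L(A) and L(B) dominated by a common local subring of
R are equal; (iv) the intersection of L(A) and L(B) is L(C). -/
theorem result
    (R : Type u) [Field R] (A B : Subring R) :
    [ ∀ (Q : LocalSubring R) (hA : A ≤ Q.toSubring) (hB : B ≤ Q.toSubring),
        LocalSubring.ofPrime A ((IsLocalRing.maximalIdeal Q.toSubring).comap (Subring.inclusion hA)) =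
          LocalSubring.ofPrime B ((IsLocalRing.maximalIdeal Q.toSubring).comap (Subring.inclusion hB)),
      ∀ r : PrimeSpectrum ↥(A ⊔ B),
        LocalSubring.ofPrime A (r.asIdeal.comap (Subring.inclusion (le_sup_left : A ≤ A ⊔ B))) =
          LocalSubring.ofPrime B (r.asIdeal.comap (Subring.inclusion (le_sup_right : B ≤ A ⊔ B))),
      ∀ (p : PrimeSpectrum A) (q : PrimeSpectrum B),
        (∃ Q : LocalSubring R, LocalSubring.ofPrime A p.asIdeal ≤ Q ∧ LocalSubring.ofPrime B q.asIdeal ≤ Q) →
          LocalSubring.ofPrime A p.asIdeal = LocalSubring.ofPrime B q.asIdeal,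
      Set.range (fun p : PrimeSpectrum A ↦ LocalSubring.ofPrime A p.asIdeal) ∩
          Set.range (fun q : PrimeSpectrum B ↦ LocalSubring.ofPrime B q.asIdeal) =
        Set.range (fun r : PrimeSpectrum ↥(A ⊔ B) ↦ LocalSubring.ofPrime (A ⊔ B) r.asIdeal) ].TFAE := by
  tfae_have 1 → 2 := by
    intro h1 r
    have hC := LocalSubring.le_ofPrime (A ⊔ B) r.asIdeal
    have e := h1 (LocalSubring.ofPrime (A ⊔ B) r.asIdeal) (le_sup_left.trans hC)
      (le_sup_right.trans hC)
    have ea : (IsLocalRing.maximalIdeal (LocalSubring.ofPrime (A ⊔ B) r.asIdeal).toSubring).comap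
        (Subring.inclusion (le_sup_left.trans hC)) =
        r.asIdeal.comap (Subring.inclusion (le_sup_left : A ≤ A ⊔ B)) := by
      conv_rhs => rw [← comap_max_ofPrime (A ⊔ B) r.asIdeal, Ideal.comap_comap]
      rfl
    have eb : (IsLocalRing.maximalIdeal (LocalSubring.ofPrime (A ⊔ B) r.asIdeal).toSubring).comap
        (Subring.inclusion (le_sup_right.trans hC)) =
        r.asIdeal.comap (Subring.inclusion (le_sup_right : B ≤ A ⊔ B)) := by
      conv_rhs => rw [← comap_max_ofPrime (A ⊔ B) r.asIdeal, Ideal.comap_comap]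
      rfl
    exact ((ofPrime_congr A ea).symm.trans e).trans (ofPrime_congr B eb)
  tfae_have 2 → 1 := by
    intro h2 Q hA hB
    have hC : A ⊔ B ≤ Q.toSubring := sup_le hA hB
    let r : PrimeSpectrum ↥(A ⊔ B) :=
      ⟨(IsLocalRing.maximalIdeal Q.toSubring).comap (Subring.inclusion hC), inferInstance⟩
    have e := h2 r
    have ea : (IsLocalRing.maximalIdeal Q.toSubring).comap (Subring.inclusion hA) =
        r.asIdeal.comap (Subring.inclusion (le_sup_left : A ≤ A ⊔ B)) := by
      simp only [r, Ideal.comap_comap]; rfl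
    have eb : (IsLocalRing.maximalIdeal Q.toSubring).comap (Subring.inclusion hB) =
        r.asIdeal.comap (Subring.inclusion (le_sup_right : B ≤ A ⊔ B)) := by
      simp only [r, Ideal.comap_comap]; rfl
    exact ((ofPrime_congr A ea).trans e).trans (ofPrime_congr B eb).symm
  tfae_have 1 → 3 := by
    rintro h1 p q ⟨Q, hp, hq⟩
    have hA := (LocalSubring.le_ofPrime A p.asIdeal).trans hp.1
    have hB := (LocalSubring.le_ofPrime B q.asIdeal).trans hq.1
    have ep := eq_of_ofPrime_le A Q hA p.asIdeal hp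
    have eq := eq_of_ofPrime_le B Q hB q.asIdeal hq
    exact ((ofPrime_congr A ep).trans (h1 Q hA hB)).trans (ofPrime_congr B eq).symm
  tfae_have 3 → 1 := by
    intro h3 Q hA hB
    exact h3 ⟨(IsLocalRing.maximalIdeal Q.toSubring).comap (Subring.inclusion hA), inferInstance⟩
      ⟨(IsLocalRing.maximalIdeal Q.toSubring).comap (Subring.inclusion hB), inferInstance⟩
      ⟨Q, ofPrime_le_of_eq A Q hA _ rfl, ofPrime_le_of_eq B Q hB _ rfl⟩
  have keyC : (∀ r : PrimeSpectrum ↥(A ⊔ B),
        LocalSubring.ofPrime A (r.asIdeal.comap (Subring.inclusion (le_sup_left : A ≤ A ⊔ B))) =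
          LocalSubring.ofPrime B (r.asIdeal.comap (Subring.inclusion (le_sup_right : B ≤ A ⊔ B)))) →
      ∀ r : PrimeSpectrum ↥(A ⊔ B), LocalSubring.ofPrime (A ⊔ B) r.asIdeal =
        LocalSubring.ofPrime A (r.asIdeal.comap (Subring.inclusion (le_sup_left : A ≤ A ⊔ B))) := by
    intro h2 r
    refine ofPrime_eq_of_le A (A ⊔ B) le_sup_left r.asIdeal ?_
    refine sup_le (LocalSubring.le_ofPrime A _) ?_
    rw [h2 r]
    exact LocalSubring.le_ofPrime B _
  tfae_have 2 → 4 := by
    intro h2
    ext P
    constructor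
    · rintro ⟨⟨p, rfl⟩, ⟨q, hq⟩⟩
      have hA := LocalSubring.le_ofPrime A p.asIdeal
      have hB : B ≤ (LocalSubring.ofPrime A p.asIdeal).toSubring := by
        have := LocalSubring.le_ofPrime B q.asIdeal
        simp only at hq
        rwa [hq] at this
      have hC : A ⊔ B ≤ (LocalSubring.ofPrime A p.asIdeal).toSubring := sup_le hA hB
      let r : PrimeSpectrum ↥(A ⊔ B) :=
        ⟨(IsLocalRing.maximalIdeal (LocalSubring.ofPrime A p.asIdeal).toSubring).comap
          (Subring.inclusion hC), inferInstance⟩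
      refine ⟨r, ?_⟩
      simp only
      rw [keyC h2 r]
      refine ofPrime_congr A ?_
      conv_rhs => rw [← comap_max_ofPrime A p.asIdeal]
      simp only [r, Ideal.comap_comap]; rfl
    · rintro ⟨r, rfl⟩
      exact ⟨⟨⟨r.asIdeal.comap (Subring.inclusion (le_sup_left : A ≤ A ⊔ B)), inferInstance⟩,
          (keyC h2 r).symm⟩,
        ⟨⟨r.asIdeal.comap (Subring.inclusion (le_sup_right : B ≤ A ⊔ B)), inferInstance⟩,
          ((keyC h2 r).trans (h2 r)).symm⟩⟩
  tfae_have 4 → 1 := by
    intro h4 Q hA hB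
    have hC : A ⊔ B ≤ Q.toSubring := sup_le hA hB
    let r : PrimeSpectrum ↥(A ⊔ B) :=
      ⟨(IsLocalRing.maximalIdeal Q.toSubring).comap (Subring.inclusion hC), inferInstance⟩
    have hr : LocalSubring.ofPrime (A ⊔ B) r.asIdeal ∈
        Set.range (fun r : PrimeSpectrum ↥(A ⊔ B) ↦ LocalSubring.ofPrime (A ⊔ B) r.asIdeal) :=
      ⟨r, rfl⟩
    rw [← h4] at hr
    obtain ⟨⟨p, hp⟩, ⟨q, hq⟩⟩ := hr
    simp only at hp hq
    have hle : LocalSubring.ofPrime (A ⊔ B) r.asIdeal ≤ Q := ofPrime_le_of_eq (A ⊔ B) Q hC _ rfl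
    have ep := eq_of_ofPrime_le A Q hA p.asIdeal (hp ▸ hle)
    have eq := eq_of_ofPrime_le B Q hB q.asIdeal (hq ▸ hle)
    exact (((ofPrime_congr A ep).symm.trans hp).trans hq.symm).trans (ofPrime_congr B eq)
  tfae_finish

end Groth.Agent.S4345
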