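import Groth.Statements.S4346
import Mathlib

set_option autoImplicit false
universe u
open SchLoc

namespace Groth.Agent.S4346

section
open AlgebraicGeometry CategoryTheory Limits TopologicalSpace
theorem specializes_of_range_le (X : AlgebraicGeometry.Scheme.{u}) [IsIntegral X] [X.IsSeparated] (x y : X)
    (h : (algebraMap (X.presheaf.stalk y) X.functionField).range ≤
      (algebraMap (X.presheaf.stalk x) X.functionField).range) : x ⤳ y := by
  set ix := algebraMap (X.presheaf.stalk x) X.functionField with hix
  set iy := algebraMap (X.presheaf.stalk y) X.functionField with hiy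
  have hix_inj : Function.Injective ix := IsFractionRing.injective _ _
  let ex : X.presheaf.stalk x ≃+* ix.range :=
    RingEquiv.ofLeftInverse (g := Function.invFun ix) (Function.leftInverse_invFun hix_inj)
  let φ : X.presheaf.stalk y →+* X.presheaf.stalk x :=
    ex.symm.toRingHom.comp ((Subring.inclusion h).comp iy.rangeRestrict)
  have hφ : ∀ b, ix (φ b) = iy b := by
    intro b
    have h1 : ∀ z : ix.range, ix (ex.symm z) = z.1 := by
      intro z
      have := RingEquiv.ofLeftInverse_apply (Function.leftInverse_invFun hix_inj) (ex.symm z)
      rw [← this]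
      exact congrArg Subtype.val (ex.apply_symm_apply z)
    exact h1 _
  have hφ' : ix.comp φ = iy := RingHom.ext hφ
  -- the two morphisms Spec O_x → X
  let a : Spec (X.presheaf.stalk x) ⟶ X := X.fromSpecStalk x
  let φ' : X.presheaf.stalk y ⟶ X.presheaf.stalk x := CommRingCat.ofHom φ
  let b : Spec (X.presheaf.stalk x) ⟶ X := Spec.map φ' ≫ X.fromSpecStalk y
  have hgx : genericPoint X ⤳ x := genericPoint_specializes x
  have hgy : genericPoint X ⤳ y := genericPoint_specializes y
  have hixeq : ix = (X.presheaf.stalkSpecializes hgx).hom := rfl
  have hiyeq : iy = (X.presheaf.stalkSpecializes hgy).hom := rfl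
  let ι : Spec (CommRingCat.of X.functionField) ⟶ Spec (X.presheaf.stalk x) :=
    Spec.map (X.presheaf.stalkSpecializes hgx)
  have hιa : ι ≫ a = X.fromSpecStalk (genericPoint X) :=
    Scheme.SpecMap_stalkSpecializes_fromSpecStalk hgx
  have hιb : ι ≫ b = X.fromSpecStalk (genericPoint X) := by
    have h0 : φ' ≫ X.presheaf.stalkSpecializes hgx = X.presheaf.stalkSpecializes hgy := by
      ext r
      exact hφ r
    have : ι ≫ Spec.map φ' = Spec.map (X.presheaf.stalkSpecializes hgy) := by
      rw [← h0, Spec.map_comp]
    rw [← Category.assoc, this]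
    exact Scheme.SpecMap_stalkSpecializes_fromSpecStalk hgy
  haveI : IsDominant ι := by
    refine ⟨?_⟩
    change DenseRange (PrimeSpectrum.comap (X.presheaf.stalkSpecializes hgx).hom)
    rw [PrimeSpectrum.denseRange_comap_iff_ker_le_nilRadical]
    rw [(RingHom.injective_iff_ker_eq_bot _).mp (hixeq ▸ hix_inj)]
    exact bot_le
  have hab : a = b := by
    refine ext_of_isDominant_of_isSeparated (terminal.from X) (terminal.hom_ext _ _) ι ?_
    rw [hιa, hιb]
  have hx : a (IsLocalRing.closedPoint _) = x := Scheme.fromSpecStalk_closedPoint
  have hq : (Spec.map φ') (IsLocalRing.closedPoint _) ⤳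
      IsLocalRing.closedPoint (X.presheaf.stalk y) := IsLocalRing.specializes_closedPoint _
  have hq2 := hq.map (X.fromSpecStalk y).continuous
  rw [Scheme.fromSpecStalk_closedPoint] at hq2
  rw [← hx, hab]
  exact hq2
end

open AlgebraicGeometry in
/-- On an integral separated scheme distinct points have distinct local rings inside the function field. -/
theorem result (X : Scheme.{u}) [IsIntegral X] [X.IsSeparated] :
    Function.Injective (fun x : X ↦ (algebraMap (X.presheaf.stalk x) X.functionField).range) := by
  intro x y hxy
  simp only at hxy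
  exact (Specializes.antisymm (specializes_of_range_le X x y hxy.ge)
    (specializes_of_range_le X y x hxy.le)).eq

end Groth.Agent.S4346
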