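import Groth.Statements.S4349


set_option autoImplicit false
universe u
open RatFun

namespace Groth.Agent.S4349

open AlgebraicGeometry in
/-- Second assertion (in the form: sections over a dense open inject into the ring of rational
functions). Let X be a reduced scheme and V a dense open subset of X. The canonical map from the
sections of O_X over V to the ring R(X) of rational functions on X is injective. (The published
statement also assumes X locally integral or locally Noetherian; that hypothesis serves the
quasi-coherence of the sheaf of rational functions and is not needed here.) -/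
theorem result (X : Scheme.{u}) [IsReduced X]
    (V : X.Opens) (hV : Dense (V : Set X)) :
    Function.Injective (RatFun.toRing X V hV) := by
  classical
  let D := (RatFun.IsDenseOpen X).FullSubcategory
  haveI hcof : CategoryTheory.IsCofiltered D :=
    { cone_objs := fun U W =>
        ⟨⟨U.obj ⊓ W.obj, by
            change Dense ((U.obj : Set X) ∩ (W.obj : Set X))
            exact Dense.inter_of_isOpen_left U.property W.property U.obj.2⟩,
          CategoryTheory.ObjectProperty.homMk (CategoryTheory.homOfLE inf_le_left),
          CategoryTheory.ObjectProperty.homMk (CategoryTheory.homOfLE inf_le_right), trivial⟩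
      cone_maps := fun U W f g => ⟨U, CategoryTheory.CategoryStruct.id U, by
        apply CategoryTheory.ObjectProperty.hom_ext; exact Subsingleton.elim _ _⟩
      nonempty := ⟨⟨⊤, by change Dense (Set.univ : Set X); exact dense_univ⟩⟩ }
  haveI : CategoryTheory.IsFiltered Dᵒᵖ := inferInstance
  have key : ∀ (k : Dᵒᵖ) (f : Opposite.op (⟨V, hV⟩ : D) ⟶ k) (s : Γ(X, V)),
      (RatFun.sectionsOnDense X).map f s = 0 → s = 0 := by
    intro k f s hfg
    have h1 : X.basicOpen s = ⊥ := by
      have h2 : X.basicOpen ((RatFun.sectionsOnDense X).map f s) = ⊥ :=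
        (AlgebraicGeometry.basicOpen_eq_bot_iff _).2 hfg
      change X.basicOpen (X.presheaf.map _ s) = ⊥ at h2
      rw [AlgebraicGeometry.Scheme.basicOpen_res] at h2
      by_contra hne
      have hne' : ((X.basicOpen s : X.Opens) : Set X).Nonempty := by
        rw [Set.nonempty_iff_ne_empty]
        intro h
        apply hne
        ext1; simpa using h
      obtain ⟨z, hz1, hz2⟩ := k.unop.property.inter_open_nonempty _ (X.basicOpen s).2 hne'
      have : z ∈ (k.unop.obj ⊓ X.basicOpen s : X.Opens) := ⟨hz2, hz1⟩
      have h3 : z ∈ (⊥ : X.Opens) := h2 ▸ this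
      exact h3
    exact (AlgebraicGeometry.basicOpen_eq_bot_iff s).1 h1
  intro x y hxy
  obtain ⟨k, f, g, hfg⟩ := CategoryTheory.Limits.Concrete.colimit_exists_of_rep_eq
    (RatFun.sectionsOnDense X) (i := Opposite.op (⟨V, hV⟩ : D)) (j := Opposite.op (⟨V, hV⟩ : D)) x y hxy
  have hsub : Subsingleton (Opposite.op (⟨V, hV⟩ : D) ⟶ k) :=
    ⟨fun a b => by
      apply Quiver.Hom.unop_inj
      apply CategoryTheory.ObjectProperty.hom_ext; exact Subsingleton.elim _ _⟩
  rw [Subsingleton.elim g f] at hfg
  have e : (RatFun.sectionsOnDense X).map f (x - y) = 0 :=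
    (map_sub ((RatFun.sectionsOnDense X).map f).hom x y).trans (sub_eq_zero.2 hfg)
  exact sub_eq_zero.1 (key k f _ e)

end Groth.Agent.S4349
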