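import Groth.Statements.S4355
import Groth.Agent.Lib.Helper3.WOExt

set_option autoImplicit false
universe u v
open QCohSup

namespace Groth.Agent.S4355

open AlgebraicGeometry in
open CategoryTheory in
/-- Let X be a scheme, L a well-ordered set and (V_l) a cover of X by affine opens indexed by L such
that, for every l, the intersection of V_l with the union of the V_m, m < l, is quasi-compact; let U
be an open subset of X whose inclusion morphism is quasi-compact. Then for every quasi-coherent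
O_X-module F and every quasi-coherent subsheaf of finite type G of F restricted to U there is a
quasi-coherent subsheaf of finite type G' of F whose restriction to U is G. -/
theorem result
    {X : Scheme.{u}} {L : Type v} [LinearOrder L] [WellFoundedLT L]
    (V : L → X.Opens) (hV : ∀ l, IsAffineOpen (V l)) (hcov : ⨆ l, V l = ⊤)
    (hW : ∀ l, IsCompact ((V l : Set X) ∩ ⋃ m ∈ Set.Iio l, (V m : Set X)))
    (U : X.Opens) [QuasiCompact U.ι] (F : X.Modules) [Coh.IsQCoh F]
    (G : (U : Scheme.{u}).Modules) (i : G ⟶ F.restrict U.ι) [Mono i]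
    [Coh.IsQCoh G] (hG : CohB1.IsFT G) :
    ∃ (G' : X.Modules) (i' : G' ⟶ F) (e : G'.restrict U.ι ≅ G), Mono i' ∧ Coh.IsQCoh G' ∧ CohB1.IsFT G' ∧
      e.hom ≫ i = (Scheme.Modules.restrictFunctor U.ι).map i' := by
  classical
  haveI hF : F.IsQuasicoherent := ‹Coh.IsQCoh F›
  haveI hGq : G.IsQuasicoherent := ‹Coh.IsQCoh G›
  haveI hFr : (F.restrict U.ι).IsQuasicoherent := inferInstance
  have hC : (CategoryTheory.Limits.cokernel i).IsQuasicoherent :=
    Groth.Agent.LD.QC.qc_cokernel i hGq hFr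
  let π : F.restrict U.ι ⟶ CategoryTheory.Limits.cokernel i := CategoryTheory.Limits.cokernel.π i
  let G₀ : X.Modules := Groth.Agent.LD.QC.subExt U.ι π
  let ι₀ : G₀ ⟶ F := Groth.Agent.LD.QC.subExtι U.ι π
  haveI hG₀ : G₀.IsQuasicoherent := Groth.Agent.LD.QC.subExt_qc U.ι π hF hC
  have hmono : Mono ((Scheme.Modules.restrictFunctor U.ι).map ι₀) := by
    apply Groth.Agent.LD.QC.mono_of_injective_app
    intro W'
    exact Groth.Agent.LD.QC.mono_app ι₀ (U.ι ''ᵁ W')
  have hrange : ∀ W' : (U : Scheme.{u}).Opens,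
      Set.range (((Scheme.Modules.restrictFunctor U.ι).map ι₀).app W') = Set.range (i.app W') := by
    intro W'
    ext s
    have h2 : U.ι ⁻¹ᵁ (U.ι ''ᵁ W') ≤ W' := (U.ι.preimage_image_eq W').le
    have key := Groth.Agent.LD.QC.mem_subExt_iff' U.ι π (U.ι ''ᵁ W') W' le_rfl h2 s
    rw [Groth.Agent.LD.QC.res_self] at key
    have key2 := Groth.Agent.LD.QC.mem_range_mono_iff i W' s
    exact key.trans key2.symm
  obtain ⟨e₀, he₀⟩ := Groth.Agent.LD.QC.exists_iso_of_range_eq
    ((Scheme.Modules.restrictFunctor U.ι).map ι₀) i hrange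
  haveI hG₀r : (G₀.restrict U.ι).IsQuasicoherent := inferInstance
  have hft₀ : (G₀.restrict U.ι).IsFiniteType :=
    Groth.Agent.LD.QC.isFiniteType_of_epi e₀.inv hGq hG₀r hG
  have hfin : ∀ W : X.Opens, IsAffineOpen W → W ≤ U → Module.Finite Γ(X, W) Γ(G₀, W) :=
    fun W hW hWU => Groth.Agent.LD.QC.finite_sections_of_restrict_isFiniteType G₀ U hft₀ hW hWU
  obtain ⟨F', u, hu, hF', hFT, hbij⟩ :=
    Groth.Agent.H3.WOExt.exists_sub_finiteType_wo V hV hcov hW G₀ U hfin
  have hiso : IsIso ((Scheme.Modules.restrictFunctor U.ι).map u) := by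
    apply Groth.Agent.LD.QC.isIso_of_bijective_app
    intro W'
    exact hbij (U.ι ''ᵁ W') (by
      rintro _ ⟨y, -, rfl⟩
      exact y.2)
  refine ⟨F', u ≫ ι₀, asIso ((Scheme.Modules.restrictFunctor U.ι).map u) ≪≫ e₀,
    mono_comp _ _, hF', hFT, ?_⟩
  rw [Iso.trans_hom, Category.assoc, he₀, asIso_hom, ← Functor.map_comp]

end Groth.Agent.S4355
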