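import Groth.Statements.S4362
import Mathlib

set_option autoImplicit false
universe u
open FinCond

namespace Groth.Agent.S4362

open AlgebraicGeometry in
open CategoryTheory in
/-- If X is a Noetherian scheme, every increasing sequence of quasi-coherent sheaves of ideals of the
structure sheaf is eventually constant; equivalently the ordered set of quasi-coherent ideal sheaves
of X is well-founded for the reverse order. (On a locally Noetherian scheme quasi-coherent and
coherent ideal sheaves coincide.) -/
theorem result
    (X : Scheme.{u}) [IsNoetherian X] : WellFoundedGT X.IdealSheafData := by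
  obtain ⟨t, ht⟩ := isCompact_univ.elim_finite_subcover (fun U : X.affineOpens => (U.1 : Set X))
    (fun U => U.1.isOpen) (by
      intro x _
      have := (iSup_affineOpens_eq_top X).ge (Set.mem_univ x)
      rw [TopologicalSpace.Opens.mem_iSup] at this
      obtain ⟨U, hU⟩ := this
      exact Set.mem_iUnion.mpr ⟨U, hU⟩)
  have hcover : ⨆ i : t, (i.1 : X.affineOpens).1 = ⊤ := by
    rw [eq_top_iff]
    intro x _
    have := ht (Set.mem_univ x)
    simp only [Set.mem_iUnion] at this
    obtain ⟨U, hU, hx⟩ := this
    exact TopologicalSpace.Opens.mem_iSup.mpr ⟨⟨U, hU⟩, hx⟩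
  let F : X.IdealSheafData → (∀ i : t, Ideal Γ(X, (i.1 : X.affineOpens).1)) := fun I i => I.ideal i.1
  have hF : StrictMono F := by
    intro I J hIJ
    refine lt_of_le_of_ne (fun i => hIJ.le i.1) ?_
    intro h
    apply hIJ.ne
    exact Scheme.IdealSheafData.ext_of_iSup_eq_top (fun i : t => i.1) hcover (fun i => congrFun h i)
  haveI : ∀ i : t, WellFoundedGT (Ideal Γ(X, (i.1 : X.affineOpens).1)) := fun i => by
    haveI : IsNoetherianRing Γ(X, (i.1 : X.affineOpens).1) :=
      IsLocallyNoetherian.component_noetherian i.1
    infer_instance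
  haveI : WellFoundedGT (∀ i : t, Ideal Γ(X, (i.1 : X.affineOpens).1)) :=
    ⟨(Pi.wellFoundedLT (α := fun i : t => (Ideal Γ(X, (i.1 : X.affineOpens).1))ᵒᵈ)).wf⟩
  exact hF.wellFoundedGT

end Groth.Agent.S4362
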