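import Groth.Statements.S4369
import Mathlib

set_option autoImplicit false
universe u
open AffSch

namespace Groth.Agent.S4369

/-- Let φ : A' -> A be a ring homomorphism such that every f in A can be written f = h φ(f') with h
invertible in A (this holds in particular when φ is surjective). Then the associated continuous map
Spec A -> Spec A' is a homeomorphism onto its image. -/
theorem result
    {A' A : Type u} [CommRing A'] [CommRing A] (φ : A' →+* A)
    (h : ∀ f : A, ∃ (u : Aˣ) (f' : A'), f = (u : A) * φ f') :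
    Topology.IsEmbedding (PrimeSpectrum.comap φ) := by
  have key : ∀ (p : PrimeSpectrum A) (f : A) (u : Aˣ) (f' : A'), f = (u : A) * φ f' →
      (f ∈ p.asIdeal ↔ f' ∈ (PrimeSpectrum.comap φ p).asIdeal) := by
    intro p f u f' hf
    rw [PrimeSpectrum.comap_asIdeal, Ideal.mem_comap, hf]
    constructor
    · intro hm
      have := p.asIdeal.mul_mem_left (↑u⁻¹ : A) hm
      rwa [← mul_assoc, Units.inv_mul, one_mul] at this
    · intro hm
      exact p.asIdeal.mul_mem_left _ hm
  refine (Topology.isEmbedding_iff _).2 ⟨⟨?_⟩, ?_⟩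
  · refine TopologicalSpace.ext_isClosed fun Z => ?_
    simp_rw [isClosed_induced_iff, PrimeSpectrum.isClosed_iff_zeroLocus, @eq_comm _ _ (PrimeSpectrum.zeroLocus _),
      exists_exists_eq_and, PrimeSpectrum.preimage_comap_zeroLocus]
    constructor
    · rintro ⟨s, rfl⟩
      refine ⟨{f' : A' | ∃ f ∈ s, ∃ u : Aˣ, f = (u : A) * φ f'}, ?_⟩
      ext p
      simp only [PrimeSpectrum.mem_zeroLocus, Set.subset_def, Set.mem_image, SetLike.mem_coe]
      constructor
      · rintro hp f hf
        obtain ⟨u, f', hff'⟩ := h f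
        rw [key p f u f' hff']
        exact hp _ ⟨f', ⟨f, hf, u, hff'⟩, rfl⟩
      · rintro hp _ ⟨f', ⟨f, hf, u, hff'⟩, rfl⟩
        have := (key p f u f' hff').mp (hp f hf)
        exact this
    · rintro ⟨s, rfl⟩
      exact ⟨_, rfl⟩
  · intro p q hpq
    ext f
    obtain ⟨u, f', hff'⟩ := h f
    rw [key p f u f' hff', key q f u f' hff', hpq]

end Groth.Agent.S4369
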