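import Groth.Statements.S4371
import Mathlib

set_option autoImplicit false
universe u
open RedSep

namespace Groth.Agent.S4371

section
open AlgebraicGeometry CategoryTheory

lemma alg_core {R : Type*} [CommRing R] [IsDomain R] (s t : R) (hs : Prime s) (hst : ¬ s ∣ t)
    {Bs Bt Bst : Type*} [CommRing Bs] [CommRing Bt] [CommRing Bst] [Algebra R Bs] [Algebra R Bt]
    [Algebra R Bst] [IsLocalization.Away s Bs] [IsLocalization.Away t Bt]
    (hinj : Function.Injective (algebraMap R Bst)) (φs : Bs →+* Bst) (φt : Bt →+* Bst)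
    (hφs : ∀ r, φs (algebraMap R Bs r) = algebraMap R Bst r)
    (hφt : ∀ r, φt (algebraMap R Bt r) = algebraMap R Bst r)
    (x : Bs) (y : Bt) (hxy : φs x = φt y) :
    ∃ p : R, algebraMap R Bs p = x ∧ algebraMap R Bt p = y := by
  obtain ⟨n, a, ha⟩ := IsLocalization.Away.surj s x
  obtain ⟨m, b, hb⟩ := IsLocalization.Away.surj t y
  have h1 : a * t ^ m = b * s ^ n := by
    apply hinj
    rw [map_mul, map_mul, map_pow, map_pow, ← hφs a, ← ha, ← hφt b, ← hb, map_mul, map_mul,
      map_pow, map_pow, hφs, hφt, hxy]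
    ring
  have h2 : s ^ n ∣ a := by
    apply hs.pow_dvd_of_dvd_mul_right n (b := t ^ m)
    · intro h
      exact hst (hs.dvd_of_dvd_pow h)
    · rw [h1]; exact dvd_mul_left _ _
  obtain ⟨p, rfl⟩ := h2
  have hsn : s ^ n ≠ 0 := pow_ne_zero _ hs.ne_zero
  have h3 : p * t ^ m = b := by
    apply mul_left_cancel₀ hsn
    rw [← mul_assoc, h1, mul_comm]
  have us : IsUnit (algebraMap R Bs s) := IsLocalization.Away.algebraMap_isUnit s
  have ut : IsUnit (algebraMap R Bt t) := IsLocalization.Away.algebraMap_isUnit t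
  refine ⟨p, ?_, ?_⟩
  · apply (us.pow n).mul_right_cancel
    rw [ha, map_mul, map_pow, mul_comm]
  · apply (ut.pow m).mul_right_cancel
    rw [hb, ← h3, map_mul, map_pow]

lemma res_algebraMap {R : CommRingCat.{u}} {V W : (Spec R).Opens} (h : V ≤ W) (r : R) :
    (Spec R).presheaf.map (homOfLE h).op (algebraMap R Γ(Spec R, W) r) =
      algebraMap R Γ(Spec R, V) r := by
  simp only [IsAffineOpen.algebraMap_Spec_obj]
  rw [← CommRingCat.comp_apply, Category.assoc, ← Functor.map_comp]
  rfl

set_option backward.isDefEq.respectTransparency.types false in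
lemma hartogs {R : CommRingCat.{u}} [IsDomain R] (s t : R) (hs : Prime s) (hst : ¬ s ∣ t)
    (ht0 : t ≠ 0)
    (a : Γ(Spec R, PrimeSpectrum.basicOpen s ⊔ PrimeSpectrum.basicOpen t)) :
    ∃ p : R, algebraMap R Γ(Spec R, PrimeSpectrum.basicOpen s ⊔ PrimeSpectrum.basicOpen t) p = a := by
  have hVs : PrimeSpectrum.basicOpen s ≤ PrimeSpectrum.basicOpen s ⊔ PrimeSpectrum.basicOpen t :=
    le_sup_left
  have hVt : PrimeSpectrum.basicOpen t ≤ PrimeSpectrum.basicOpen s ⊔ PrimeSpectrum.basicOpen t :=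
    le_sup_right
  have hWs : PrimeSpectrum.basicOpen (s * t) ≤ PrimeSpectrum.basicOpen s :=
    PrimeSpectrum.basicOpen_mul_le_left s t
  have hWt : PrimeSpectrum.basicOpen (s * t) ≤ PrimeSpectrum.basicOpen t :=
    PrimeSpectrum.basicOpen_mul_le_right s t
  have hinj : Function.Injective (algebraMap R Γ(Spec R, PrimeSpectrum.basicOpen (s * t))) :=
    IsLocalization.injective _ (powers_le_nonZeroDivisors_of_noZeroDivisors
      (mul_ne_zero hs.ne_zero ht0))
  obtain ⟨p, hp1, hp2⟩ := alg_core s t hs hst (Bs := Γ(Spec R, PrimeSpectrum.basicOpen s))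
    (Bt := Γ(Spec R, PrimeSpectrum.basicOpen t)) (Bst := Γ(Spec R, PrimeSpectrum.basicOpen (s * t))) hinj
    ((Spec R).presheaf.map (homOfLE hWs).op).hom ((Spec R).presheaf.map (homOfLE hWt).op).hom
    (fun r => res_algebraMap hWs r) (fun r => res_algebraMap hWt r)
    ((Spec R).presheaf.map (homOfLE hVs).op a) ((Spec R).presheaf.map (homOfLE hVt).op a)
    (by
      change ((Spec R).presheaf.map (homOfLE hVs).op ≫ (Spec R).presheaf.map (homOfLE hWs).op) a =
        ((Spec R).presheaf.map (homOfLE hVt).op ≫ (Spec R).presheaf.map (homOfLE hWt).op) a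
      rw [← Functor.map_comp, ← Functor.map_comp]
      rfl)
  refine ⟨p, ?_⟩
  apply (Spec R).sheaf.eq_of_locally_eq₂ (homOfLE hVs) (homOfLE hVt) le_rfl
  · exact (res_algebraMap hVs p).trans hp1
  · exact (res_algebraMap hVt p).trans hp2

set_option backward.isDefEq.respectTransparency.types false in
lemma basicOpen_alg {R : CommRingCat.{u}} (s : R) (U : (Spec R).Opens) :
    (Spec R).basicOpen (algebraMap R Γ(Spec R, U) s) = U ⊓ PrimeSpectrum.basicOpen s := by
  rw [IsAffineOpen.algebraMap_Spec_obj, CommRingCat.hom_comp, RingHom.comp_apply]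
  erw [Scheme.basicOpen_res]
  rw [basicOpen_eq_of_affine]

set_option backward.isDefEq.respectTransparency.types false in
lemma not_affine {R : CommRingCat.{u}} [IsDomain R] (s t : R) (hs : Prime s) (hst : ¬ s ∣ t)
    (ht0 : t ≠ 0) (hne : Ideal.span {s, t} ≠ ⊤) :
    ¬ IsAffineOpen (X := Spec R) (PrimeSpectrum.basicOpen s ⊔ PrimeSpectrum.basicOpen t) := by
  intro hU
  have hVs : PrimeSpectrum.basicOpen s ≤ PrimeSpectrum.basicOpen s ⊔ PrimeSpectrum.basicOpen t :=
    le_sup_left
  have hVt : PrimeSpectrum.basicOpen t ≤ PrimeSpectrum.basicOpen s ⊔ PrimeSpectrum.basicOpen t :=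
    le_sup_right
  have hspan : Ideal.span ({algebraMap R Γ(Spec R, PrimeSpectrum.basicOpen s ⊔ PrimeSpectrum.basicOpen t) s,
      algebraMap R Γ(Spec R, PrimeSpectrum.basicOpen s ⊔ PrimeSpectrum.basicOpen t) t} : Set _) = ⊤ := by
    rw [← hU.self_le_iSup_basicOpen_iff]
    apply sup_le
    · refine le_iSup_of_le ⟨algebraMap R _ s, by simp⟩ ?_
      rw [basicOpen_alg]
      exact le_inf hVs le_rfl
    · refine le_iSup_of_le ⟨algebraMap R _ t, by simp⟩ ?_
      rw [basicOpen_alg]
      exact le_inf hVt le_rfl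
  have h1 : (1 : Γ(Spec R, PrimeSpectrum.basicOpen s ⊔ PrimeSpectrum.basicOpen t)) ∈ Ideal.span
      ({algebraMap R Γ(Spec R, PrimeSpectrum.basicOpen s ⊔ PrimeSpectrum.basicOpen t) s,
      algebraMap R Γ(Spec R, PrimeSpectrum.basicOpen s ⊔ PrimeSpectrum.basicOpen t) t} : Set _) := by
    rw [hspan]; trivial
  obtain ⟨a, b, hab⟩ := Ideal.mem_span_pair.mp h1
  obtain ⟨p, rfl⟩ := hartogs s t hs hst ht0 a
  obtain ⟨q, rfl⟩ := hartogs s t hs hst ht0 b
  have hinj : Function.Injective (algebraMap R Γ(Spec R, PrimeSpectrum.basicOpen s)) :=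
    IsLocalization.injective _ (powers_le_nonZeroDivisors_of_noZeroDivisors hs.ne_zero)
  have hinjU : Function.Injective
      (algebraMap R Γ(Spec R, PrimeSpectrum.basicOpen s ⊔ PrimeSpectrum.basicOpen t)) := by
    intro x y hxy
    apply hinj
    exact ((res_algebraMap hVs x).symm.trans
      (congrArg ((Spec R).presheaf.map (homOfLE hVs).op) hxy)).trans (res_algebraMap hVs y)
  have : p * s + q * t = 1 := by
    apply hinjU
    rw [map_add, map_mul, map_mul, hab, map_one]
  apply hne
  rw [Ideal.eq_top_iff_one]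
  exact Ideal.mem_span_pair.mpr ⟨p, q, this⟩
end

open AlgebraicGeometry in
open CategoryTheory in
/-- Let K be a field and Y = Spec K[s, t] the affine plane over K. The open subset D(s) ∪ D(t) of Y, the
complement of the closed point s = t = 0, is not affine. -/
theorem result
    (K : Type u) [Field K] :
    ¬ IsAffineOpen (X := Spec (CommRingCat.of (MvPolynomial (Fin 2) K)))
      (PrimeSpectrum.basicOpen (MvPolynomial.X 0 : MvPolynomial (Fin 2) K) ⊔
        PrimeSpectrum.basicOpen (MvPolynomial.X 1 : MvPolynomial (Fin 2) K)) := by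
  have hI : IsDomain (CommRingCat.of (MvPolynomial (Fin 2) K)) :=
    inferInstanceAs (IsDomain (MvPolynomial (Fin 2) K))
  refine not_affine (R := CommRingCat.of (MvPolynomial (Fin 2) K))
    (MvPolynomial.X 0 : MvPolynomial (Fin 2) K) (MvPolynomial.X 1 : MvPolynomial (Fin 2) K)
    MvPolynomial.X_prime ?_ (MvPolynomial.X_ne_zero _) ?_
  · intro h
    have := MvPolynomial.X_dvd_X.mp h
    exact absurd this (by decide)
  · intro h
    have h1 : (1 : MvPolynomial (Fin 2) K) ∈ Ideal.span
        ({MvPolynomial.X 0, MvPolynomial.X 1} : Set (MvPolynomial (Fin 2) K)) := by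
      rw [h]; trivial
    obtain ⟨p, q, hpq⟩ := Ideal.mem_span_pair.mp h1
    have := congrArg MvPolynomial.constantCoeff hpq
    simp at this

end Groth.Agent.S4371
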