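import Groth.Statements.S4372
import Mathlib
import Groth.Agent.S4367
import Groth.Agent.Lib.Helper1.RedSub

set_option autoImplicit false
universe u
open RedSep

namespace Groth.Agent.S4372

open AlgebraicGeometry in
open CategoryTheory in
/-- Let h : Z -> X be an immersion with Z reduced (a reduced subscheme of X), and let W be the reduced
closed subscheme of X whose underlying space is the closure of h(Z). Then Z is an open subscheme of
W: h factors as an open immersion Z -> W followed by the closed immersion W -> X. Stated as the
existence of such a factorization through a reduced scheme W closed-immersed onto the closure of the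
image. -/
theorem result
    {Z X : Scheme.{u}} (h : Z ⟶ X) [IsImmersion h] [IsReduced Z] :
    ∃ (W : Scheme.{u}) (j : Z ⟶ W) (i : W ⟶ X), IsOpenImmersion j ∧ IsClosedImmersion i ∧
      IsReduced W ∧ Set.range i = closure (Set.range h) ∧ j ≫ i = h := by
  let C : TopologicalSpace.Closeds X := ⟨closure (Set.range h.base), isClosed_closure⟩
  let I := Scheme.IdealSheafData.vanishingIdeal C
  have hWred : AlgebraicGeometry.IsReduced I.subscheme := by
    apply Groth.Agent.H1.RS.isReduced_subscheme_of_isRadical
    intro U
    rw [Scheme.IdealSheafData.vanishingIdeal_ideal]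
    exact PrimeSpectrum.isRadical_vanishingIdeal _
  have hrange : Set.range I.subschemeι.base = closure (Set.range h.base) := by
    rw [Scheme.IdealSheafData.range_subschemeι, Scheme.IdealSheafData.coe_support_vanishingIdeal]
    rfl
  obtain ⟨j, hj⟩ := Groth.Agent.S4367.result h I.subschemeι (by
    rw [hrange]; exact subset_closure)
  refine ⟨I.subscheme, j, I.subschemeι, ?_, inferInstance, hWred, hrange, hj⟩
  haveI : IsImmersion (j ≫ I.subschemeι) := by rw [hj]; infer_instance
  haveI : IsImmersion j := IsImmersion.of_comp j I.subschemeι
  -- density of range j
  have hdense : Dense (Set.range j.base) := by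
    rw [dense_iff_closure_eq, I.subschemeι.isEmbedding.isInducing.closure_eq_preimage_closure_image,
      ← Set.range_comp]
    have : (I.subschemeι.base ∘ j.base) = h.base := by
      rw [← hj]; rfl
    rw [this, ← hrange, Set.preimage_range]
  -- the closed immersion part of j is surjective
  have hcl : IsClosed (Set.range j.liftCoborder.base) := j.liftCoborder.isClosedEmbedding.isClosed_range
  haveI : Surjective j.liftCoborder := by
    refine ⟨?_⟩
    rw [← Set.range_eq_univ, ← hcl.closure_eq, ← dense_iff_closure_eq]
    have h2 : Set.range j.liftCoborder.base = j.coborderRange.ι.base ⁻¹' (Set.range j.base) := by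
      ext y
      constructor
      · rintro ⟨z, rfl⟩
        refine ⟨z, ?_⟩
        rw [← Scheme.Hom.comp_apply, Scheme.Hom.liftCoborder_ι]
      · rintro ⟨z, hz⟩
        refine ⟨z, ?_⟩
        apply j.coborderRange.ι.isEmbedding.injective
        rw [← hz, ← Scheme.Hom.comp_apply, Scheme.Hom.liftCoborder_ι]
    rw [h2]
    exact hdense.preimage j.coborderRange.ι.isOpenEmbedding.isOpenMap
  haveI : AlgebraicGeometry.IsReduced j.coborderRange.toScheme :=
    isReduced_of_isOpenImmersion j.coborderRange.ι
  haveI : IsIso j.liftCoborder := isIso_of_isClosedImmersion_of_surjective _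
  rw [← j.liftCoborder_ι]
  infer_instance

end Groth.Agent.S4372
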