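import Groth.Statements.S4374
import Groth.Agent.Lib.Lead.QC.TensorComm
import Groth.Agent.Lib.Lead.QC.QAffAmple
import Groth.Agent.S2126
import Groth.Agent.S9814

set_option autoImplicit false
universe u
open CategoryTheory CategoryTheory.Limits AlgebraicGeometry
open EGA2

namespace Groth.Agent.S4374

/-- Let X be a quasi-compact scheme and L, L' two O_X-modules with L ⊗ L' ≅ O_X (so L' is an inverse of
L). If L and L' are both ample, then X is quasi-affine. -/
theorem result (X : Scheme.{u}) [CompactSpace X] (L L' : X.Modules)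
    (hinv : ClSub.IsInverseOf L L') (hL : CohB1.IsAmple L) (hL' : CohB1.IsAmple L') : X.IsQuasiAffine := by
  obtain ⟨φ⟩ := hinv
  obtain ⟨hLi, -, hA⟩ := hL
  obtain ⟨hLi', -, hA'⟩ := hL'
  have hB := (Groth.Agent.S2126.result L' hLi').mp ⟨hLi', inferInstance, hA'⟩
  have hB' := Groth.Agent.S9814.result X L' hLi' hB
  apply Scheme.IsQuasiAffine.of_forall_exists_mem_basicOpen
  intro x
  obtain ⟨a, s, hxs, -⟩ := hA x
  obtain ⟨_, ⟨hAff, b, s', rfl⟩, hxs', hss'⟩ := TopologicalSpace.Opens.isBasis_iff_nbhd.mp hB' hxs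
  obtain ⟨N, T, hT⟩ := LD.QC.exists_tmul_section hLi hLi' s s'
  rw [inf_eq_right.mpr hss'] at hT
  let T' : LD.QC.unitMod X ⟶ LD.QC.unitMod X :=
    T ≫ (LD.QC.tensorPowCongr φ (N + 1) ≪≫ LD.QC.unitPowIso X (N + 1)).hom
  have h1 : CohB1.genLocus _ T' = CohB1.genLocus _ T := LD.QC.genLocus_comp_iso T _
  have h2 : CohB1.genLocus _ T' = X.basicOpen (LD.QC.sectionOfHom T') := by
    rw [← LD.QC.genLocus_homOfSection_unit, LD.QC.homOfSection_sectionOfHom]
  refine ⟨LD.QC.sectionOfHom T', ?_, ?_⟩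
  · rw [← h2, h1, hT]; exact hAff
  · rw [← h2, h1, hT]; exact hxs'

end Groth.Agent.S4374
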