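import Groth.Statements.S4375
import Groth.Agent.Lib.Lead.SC.SerreCrit2
import Groth.Agent.Lib.Lead.QC.FiniteFree

set_option autoImplicit false
universe u
open CategoryTheory CategoryTheory.Limits AlgebraicGeometry
open EGA2

namespace Groth.Agent.S4375

/-- (c') ⇒ (a): let X be a quasi-compact separated scheme. Suppose that for every n, every
quasi-coherent O_X-module F admitting a monomorphism into the free module O_X^n, and every
epimorphism p : F → F'' onto a quasi-coherent O_X-module, the map induced by p on global sections is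
surjective. Then X is affine. (The published statement also allows X to be a scheme whose underlying
space is Noetherian; this row assumes it quasi-compact and separated.) -/
theorem result (X : Scheme.{u}) [CompactSpace X] [X.IsSeparated]
    (h : ∀ (n : ℕ) (F F'' : X.Modules) (i : F ⟶ FlatMod.freeMod X n) (p : F ⟶ F''),
      Mono i → Epi p → Coh.IsQCoh F → Coh.IsQCoh F'' →
        Function.Surjective (p.val.app (Opposite.op ⊤)).hom) :
    IsAffine X := by
  classical
  have hsurj : ∀ {A B : X.Modules} (q : A ⟶ B), Function.Surjective (q.val.app (Opposite.op ⊤)).hom →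
      Function.Surjective (q.app ⊤) := fun q hq => hq
  apply LD.QC.isAffine_of_core
  · intro I i hi hI
    haveI := hi
    have h1 := h 1 (LD.QC.unitMod X) (cokernel i) (LD.QC.freeModOneIso X).inv (cokernel.π i)
      inferInstance inferInstance inferInstance (LD.QC.qc_cokernel i hI inferInstance)
    exact hsurj _ h1
  · intro s hs
    let n := s.card
    let e : Fin n ≃ s := s.equivFin.symm
    let f : Fin n → Γ(X, ⊤) := fun k => (e k : Γ(X, ⊤))
    have hcov : ∀ x : X, ∃ k, x ∈ X.basicOpen (f k) := by
      intro x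
      obtain ⟨g, hg, hxg⟩ := hs x
      refine ⟨e.symm ⟨g, hg⟩, ?_⟩
      change x ∈ X.basicOpen ((e (e.symm ⟨g, hg⟩) : s) : Γ(X, ⊤))
      rw [e.apply_symm_apply]
      exact hxg
    have hepi := LD.SC.epi_phiPi f hcov
    have hq : (∏ᶜ (fun _ : Fin n => LD.QC.unitMod X)).IsQuasicoherent := LD.SC.qc_piObj n
    haveI : HasFiniteBiproducts X.Modules := HasFiniteBiproducts.of_hasFiniteProducts
    let φ : (∏ᶜ (fun _ : Fin n => LD.QC.unitMod X)) ≅ FlatMod.freeMod X n :=
      (biproduct.isoProduct (fun _ : Fin n => LD.QC.unitMod X)).symm ≪≫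
        biproduct.isoCoproduct (fun _ : Fin n => LD.QC.unitMod X)
    have h1 := h n _ _ φ.hom (LD.SC.phiPi f) inferInstance hepi hq
      (inferInstance : (LD.QC.unitMod X).IsQuasicoherent)
    obtain ⟨t, ht⟩ := hsurj _ h1 (1 : Γ(X, ⊤))
    rw [Ideal.eq_top_iff_one]
    have h2 := LD.SC.phiPi_app_top_mem_span f t
    have ht' : (show Γ(X, ⊤) from (LD.SC.phiPi f).app ⊤ t) = (1 : Γ(X, ⊤)) := ht
    rw [ht'] at h2
    have hset : Set.range f = (s : Set Γ(X, ⊤)) := by
      ext g
      constructor
      · rintro ⟨k, rfl⟩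
        exact (e k).2
      · intro hg
        exact ⟨e.symm ⟨g, hg⟩, by change ((e (e.symm ⟨g, hg⟩) : s) : Γ(X, ⊤)) = g; rw [e.apply_symm_apply]⟩
    rw [hset] at h2
    exact h2

end Groth.Agent.S4375
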