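import Groth.Statements.S4378
-- import your own Groth.Agent.* helpers here

set_option autoImplicit false
universe u
open CategoryTheory CategoryTheory.Limits AlgebraicGeometry
open EGA2

namespace Groth.Agent.S4378

lemma map_fst {X Y S S' : Scheme.{u}} (q : Y ⟶ S) (f : X ⟶ Y) (g : S' ⟶ S) :
    IsPullback (pullback.fst (f ≫ q) g)
      (pullback.map (f ≫ q) g q g f (𝟙 S') (𝟙 S) (Category.comp_id (f ≫ q))
        ((Category.comp_id g).trans (Category.id_comp g).symm)) f (pullback.fst q g) := by
  refine IsPullback.of_bot (v₂₁ := pullback.snd q g) (v₂₂ := q) (h₃₁ := g) ?_ ?_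
    (IsPullback.of_hasPullback q g)
  · have : pullback.map (f ≫ q) g q g f (𝟙 S') (𝟙 S) (Category.comp_id (f ≫ q))
        ((Category.comp_id g).trans (Category.id_comp g).symm) ≫ pullback.snd q g
        = pullback.snd (f ≫ q) g := by simp [pullback.lift_snd]
    rw [this]
    exact IsPullback.of_hasPullback (f ≫ q) g
  · simp [pullback.lift_fst]

/-- Let q : Y → S be separated and of finite type, and f : X → Y a morphism such that X is also
separated and of finite type over S through f ≫ q. Then f is proper if and only if for every scheme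
S' over S the morphism X ×_S S' → Y ×_S S' induced by f is closed (as a map of topological spaces). -/
theorem result {X Y S : Scheme.{u}} (q : Y ⟶ S) (f : X ⟶ Y)
    [IsSeparated q] [LocallyOfFiniteType q] [QuasiCompact q]
    [IsSeparated (f ≫ q)] [LocallyOfFiniteType (f ≫ q)] [QuasiCompact (f ≫ q)] :
    IsProper f ↔ ∀ (S' : Scheme.{u}) (g : S' ⟶ S),
      IsClosedMap (pullback.map (f ≫ q) g q g f (𝟙 S') (𝟙 S) (Category.comp_id (f ≫ q))
        ((Category.comp_id g).trans (Category.id_comp g).symm)).base := by
  constructor
  · intro hf S' g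
    have hpb := map_fst q f g
    have : UniversallyClosed (pullback.map (f ≫ q) g q g f (𝟙 S') (𝟙 S) (Category.comp_id (f ≫ q))
        ((Category.comp_id g).trans (Category.id_comp g).symm)) :=
      MorphismProperty.of_isPullback (P := @UniversallyClosed) hpb inferInstance
    exact Scheme.Hom.isClosedMap _
  · intro H
    have h1 : IsSeparated f := IsSeparated.of_comp f q
    have h2 : LocallyOfFiniteType f := locallyOfFiniteType_of_comp f q
    have h3 : QuasiCompact f := QuasiCompact.of_comp f q
    have h4 : UniversallyClosed f := by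
      rw [universallyClosed_eq]
      intro X' T i₁ i₂ f' hsq
      have hm := map_fst q f (i₂ ≫ q)
      specialize H T (i₂ ≫ q)
      set m := pullback.map (f ≫ q) (i₂ ≫ q) q (i₂ ≫ q) f (𝟙 T) (𝟙 S) (Category.comp_id (f ≫ q))
        ((Category.comp_id (i₂ ≫ q)).trans (Category.id_comp (i₂ ≫ q)).symm) with hmdef
      let Γ : T ⟶ pullback q (i₂ ≫ q) := pullback.lift i₂ (𝟙 T) (by simp)
      have hΓ : Γ ≫ pullback.snd q (i₂ ≫ q) = 𝟙 T := by simp [Γ, pullback.lift_fst, pullback.lift_snd]
      have : IsClosedImmersion (Γ ≫ pullback.snd q (i₂ ≫ q)) := by rw [hΓ]; infer_instance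
      have hΓc : IsClosedImmersion Γ := IsClosedImmersion.of_comp Γ (pullback.snd q (i₂ ≫ q))
      let j : X' ⟶ pullback (f ≫ q) (i₂ ≫ q) := pullback.lift i₁ f' (by
        rw [← Category.assoc, ← Category.assoc, hsq.w])
      have hjm : j ≫ m = f' ≫ Γ := by
        apply pullback.hom_ext
        · simp [j, m, Γ, hsq.w, pullback.lift_fst, pullback.lift_snd, pullback.lift_fst_assoc, pullback.lift_snd_assoc]
        · simp [j, m, Γ, pullback.lift_fst, pullback.lift_snd, pullback.lift_fst_assoc, pullback.lift_snd_assoc]
      have hleft : IsPullback j f' m Γ := by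
        refine IsPullback.of_right (h₁₂ := pullback.fst (f ≫ q) (i₂ ≫ q)) (v₁₃ := f)
          (h₂₂ := pullback.fst q (i₂ ≫ q)) ?_ hjm hm
        have e1 : j ≫ pullback.fst (f ≫ q) (i₂ ≫ q) = i₁ := by simp [j, pullback.lift_fst, pullback.lift_snd]
        have e2 : Γ ≫ pullback.fst q (i₂ ≫ q) = i₂ := by simp [Γ, pullback.lift_fst, pullback.lift_snd]
        rw [e1, e2]
        exact hsq.flip
      have hjc : IsClosedImmersion j :=
        MorphismProperty.of_isPullback (P := @IsClosedImmersion) hleft.flip hΓc
      intro Z hZ
      have hc : IsClosed (m.base '' (j.base '' Z)) := H _ (j.isClosedEmbedding.isClosedMap _ hZ)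
      have heq : m.base '' (j.base '' Z) = Γ.base '' (f'.base '' Z) := by
        rw [← Set.image_comp, ← Set.image_comp]
        have : (m.base ∘ j.base) = (Γ.base ∘ f'.base) := by
          have := congrArg (fun h => (h.base : _ → _)) hjm
          simpa using this
        rw [this]
      rw [heq] at hc
      have := hc.preimage Γ.continuous
      rwa [Set.preimage_image_eq _ Γ.isClosedEmbedding.injective] at this
    exact { }

end Groth.Agent.S4378
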