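import Groth.Statements.S4383
import Groth.Agent.Lib.Lead.QC.RelTwist

set_option autoImplicit false
universe u
open CategoryTheory CategoryTheory.Limits AlgebraicGeometry
open EGA2

namespace Groth.Agent.S4383

/-- Let X be a quasi-compact separated scheme, f : X → Y a separated quasi-compact morphism and L an
invertible O_X-module. Suppose that for every quasi-coherent submodule J of O_X of finite type there
is n > 0 such that the canonical morphism f^*(f_*(J ⊗ L^{⊗n})) → J ⊗ L^{⊗n} is an epimorphism. Then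
L is ample relative to f. (The published statement also allows X to be a scheme whose underlying
space is Noetherian; this row assumes X quasi-compact and separated.) -/
theorem result {X Y : Scheme.{u}} [CompactSpace X] [X.IsSeparated] (f : X ⟶ Y)
    [IsSeparated f] [QuasiCompact f] (L : X.Modules) (hL : PicF.IsInvertible L)
    (h : ∀ (J : X.Modules) (i : J ⟶ Coh.structureModule X), Mono i → Coh.IsQCoh J → CohB1.IsFT J →
      ∃ n : ℕ, 0 < n ∧
        Epi ((Scheme.Modules.pullbackPushforwardAdjunction f).counit.app (CohB1.tensorMod J (CohB1.tensorPow L n)))) :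
    RelAmple.IsRelAmple f L := by
  haveI : QuasiSeparatedSpace X := inferInstance
  refine ⟨inferInstance, fun V => ?_⟩
  haveI : CompactSpace (f ⁻¹ᵁ V.1 : Scheme.{u}) :=
    isCompact_iff_compactSpace.mp (QuasiCompact.isCompact_preimage (f := f) _ V.1.2 V.2.isCompact)
  refine ⟨LD.QC.isInvertible_restrict (f ⁻¹ᵁ V.1).ι hL, inferInstance, fun x' => ?_⟩
  obtain ⟨U, e₁, hU, hxU, hUW, he₁⟩ := LD.QC.exists_affine_basis L hL ((f ⁻¹ᵁ V.1).ι x')
    (f ⁻¹ᵁ V.1) x'.2
  obtain ⟨I, hIft, hItop, hIle⟩ := LD.QC.exists_ft_ideal U hU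
  obtain ⟨n, hn, hepi⟩ := h (ClSub.idealMod I) (ClSub.idealModι I) inferInstance
    (LD.QC.qc_idealMod I) (LD.QC.isFiniteType_idealMod I hIft)
  obtain ⟨m, rfl⟩ : ∃ m, n = m + 1 := Nat.exists_eq_succ_of_ne_zero hn.ne'
  have hM : PicF.IsInvertible (CohB1.tensorPow L (m + 1)) := LD.QC.isInvertible_tensorPow hL _
  haveI : (CohB1.tensorPow L (m + 1)).IsQuasicoherent := LD.QC.qc_of_isInvertible _ hM
  have hspan := LD.QC.span_range_res_of_counit_epi f
    (CohB1.tensorMod (ClSub.idealMod I) (CohB1.tensorPow L (m + 1))) hepi hU V.2 hUW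
  have h1 : (1 : Γ(X, U)) ∈ I.ideal ⟨U, hU⟩ := by rw [hItop ⟨U, hU⟩ le_rfl]; trivial
  obtain ⟨σ, hσ1, hσ2⟩ := LD.QC.exists_section_of_span_twist (CohB1.tensorPow L (m + 1)) I
    (f ⁻¹ᵁ V.1) U hU hUW _ hxU (LD.QC.secPow e₁ (m + 1)) (he₁.secPow (m + 1)) h1 hIle hspan
  obtain ⟨s, hs1, hs2⟩ := LD.QC.exists_affine_genLocus_of_section (CohB1.tensorPow L (m + 1)) hM
    (f ⁻¹ᵁ V.1) U hU hUW σ x' hσ1 hσ2
  refine ⟨m, s ≫ (LD.QC.restrictTensorPowIso (f ⁻¹ᵁ V.1).ι L (m + 1)).symm.hom, ?_, ?_⟩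
  · rw [LD.QC.genLocus_comp_iso s (LD.QC.restrictTensorPowIso (f ⁻¹ᵁ V.1).ι L (m + 1)).symm]
    exact hs1
  · rw [LD.QC.genLocus_comp_iso s (LD.QC.restrictTensorPowIso (f ⁻¹ᵁ V.1).ι L (m + 1)).symm]
    exact hs2

end Groth.Agent.S4383
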