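import Groth.Statements.S4384
import Groth.Agent.Lib.Lead.QC.RestrictOpen
import Groth.Agent.S2328

set_option autoImplicit false
universe u
open CategoryTheory CategoryTheory.Limits AlgebraicGeometry
open EGA2

namespace Groth.Agent.S4384

/-- Let f : X → Y be a quasi-compact morphism and L, L' two O_X-modules ample relative to f. Then L ⊗ L'
is ample relative to f. -/
theorem result {X Y : Scheme.{u}} (f : X ⟶ Y) [QuasiCompact f] (L L' : X.Modules)
    (hL : RelAmple.IsRelAmple f L) (hL' : RelAmple.IsRelAmple f L') :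
    RelAmple.IsRelAmple f (CohB1.tensorMod L L') := by
  refine ⟨inferInstance, fun V => ?_⟩
  have hA := hL.2 V
  have hA' := hL'.2 V
  haveI : CompactSpace (f ⁻¹ᵁ V.1 : Scheme.{u}) := hA.2.1
  haveI : Scheme.IsSeparated (f ⁻¹ᵁ V.1 : Scheme.{u}) :=
    LD.QC.isSeparated_of_affine_genLocus _ hA.1 hA.2.2
  have h1 := Groth.Agent.S2328.result _ _ _ hA hA'.1 (fun x => by
    obtain ⟨n, s, hx, -⟩ := hA'.2.2 x
    exact ⟨n, s, hx⟩)
  exact LD.QC.isAmple_of_iso (LD.QC.restrictTensorIso (f ⁻¹ᵁ V.1).ι L L') h1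

end Groth.Agent.S4384
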