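import Groth.Statements.S4385
import Groth.Agent.Lib.Lead.QC.Disjoint

set_option autoImplicit false
universe u
open CategoryTheory CategoryTheory.Limits AlgebraicGeometry
open EGA2

namespace Groth.Agent.S4385

/-- Let f : X → Y and f' : X' → Y be quasi-compact morphisms, X'' = X ⨿ X' their disjoint union with f''
: X'' → Y the morphism restricting to f and f', and L'' an O_{X''}-module whose inverse images L on
X and L' on X' (along the two coprojections) are invertible. Then L'' is ample relative to f'' if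
and only if L is ample relative to f and L' is ample relative to f'. -/
theorem result {X X' Y : Scheme.{u}} (f : X ⟶ Y) (f' : X' ⟶ Y) [QuasiCompact f] [QuasiCompact f']
    (L'' : (X ⨿ X').Modules)
    (hL : PicF.IsInvertible ((Scheme.Modules.pullback (coprod.inl : X ⟶ X ⨿ X')).obj L''))
    (hL' : PicF.IsInvertible ((Scheme.Modules.pullback (coprod.inr : X' ⟶ X ⨿ X')).obj L'')) :
    RelAmple.IsRelAmple (coprod.desc f f') L'' ↔
      RelAmple.IsRelAmple f ((Scheme.Modules.pullback (coprod.inl : X ⟶ X ⨿ X')).obj L'') ∧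
        RelAmple.IsRelAmple f' ((Scheme.Modules.pullback (coprod.inr : X' ⟶ X ⨿ X')).obj L'') := by
  let i : X ⟶ X ⨿ X' := coprod.inl
  let i' : X' ⟶ X ⨿ X' := coprod.inr
  let d : X ⨿ X' ⟶ Y := coprod.desc f f'
  have hid : i ≫ d = f := coprod.inl_desc f f'
  have hid' : i' ≫ d = f' := coprod.inr_desc f f'
  have hpt : ∀ x, d (i x) = f x := fun x => by rw [← Scheme.Hom.comp_apply, hid]
  have hpt' : ∀ x, d (i' x) = f' x := fun x => by rw [← Scheme.Hom.comp_apply, hid']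
  have hpre : ∀ V : Y.Opens, i ⁻¹ᵁ (d ⁻¹ᵁ V) = f ⁻¹ᵁ V := fun V => by
    ext x
    change d (i x) ∈ V ↔ f x ∈ V
    rw [hpt]
  have hpre' : ∀ V : Y.Opens, i' ⁻¹ᵁ (d ⁻¹ᵁ V) = f' ⁻¹ᵁ V := fun V => by
    ext x
    change d (i' x) ∈ V ↔ f' x ∈ V
    rw [hpt']
  have hrange : ∀ V : Y.Opens, i ''ᵁ (f ⁻¹ᵁ V) = i.opensRange ⊓ d ⁻¹ᵁ V := fun V => by
    rw [← hpre, Scheme.Hom.image_preimage_eq_opensRange_inf]
  have hrange' : ∀ V : Y.Opens, i' ''ᵁ (f' ⁻¹ᵁ V) = i'.opensRange ⊓ d ⁻¹ᵁ V := fun V => by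
    rw [← hpre', Scheme.Hom.image_preimage_eq_opensRange_inf]
  have key : ∀ V : Y.Opens,
      CohB1.IsAmple (((Scheme.Modules.pullback i).obj L'').restrict (f ⁻¹ᵁ V).ι) ↔
        CohB1.IsAmple (L''.restrict (i.opensRange ⊓ d ⁻¹ᵁ V).ι) := by
    intro V
    let φ : (L''.restrict i).restrict (f ⁻¹ᵁ V).ι ≅
        ((Scheme.Modules.pullback i).obj L'').restrict (f ⁻¹ᵁ V).ι :=
      (Scheme.Modules.restrictFunctor (f ⁻¹ᵁ V).ι).mapIso
        ((Scheme.Modules.restrictFunctorIsoPullback i).app L'')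
    rw [← LD.QC.isAmple_restrict_restrict_iff' i (f ⁻¹ᵁ V).ι L'' (i.opensRange ⊓ d ⁻¹ᵁ V)
      (by rw [Scheme.Opens.opensRange_ι, hrange])]
    exact ⟨LD.QC.isAmple_of_iso φ.symm, LD.QC.isAmple_of_iso φ⟩
  have key' : ∀ V : Y.Opens,
      CohB1.IsAmple (((Scheme.Modules.pullback i').obj L'').restrict (f' ⁻¹ᵁ V).ι) ↔
        CohB1.IsAmple (L''.restrict (i'.opensRange ⊓ d ⁻¹ᵁ V).ι) := by
    intro V
    let φ : (L''.restrict i').restrict (f' ⁻¹ᵁ V).ι ≅
        ((Scheme.Modules.pullback i').obj L'').restrict (f' ⁻¹ᵁ V).ι :=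
      (Scheme.Modules.restrictFunctor (f' ⁻¹ᵁ V).ι).mapIso
        ((Scheme.Modules.restrictFunctorIsoPullback i').app L'')
    rw [← LD.QC.isAmple_restrict_restrict_iff' i' (f' ⁻¹ᵁ V).ι L'' (i'.opensRange ⊓ d ⁻¹ᵁ V)
      (by rw [Scheme.Opens.opensRange_ι, hrange'])]
    exact ⟨LD.QC.isAmple_of_iso φ.symm, LD.QC.isAmple_of_iso φ⟩
  have hcpt : ∀ V : Y.Opens, IsAffineOpen V →
      IsCompact ((i.opensRange ⊓ d ⁻¹ᵁ V : (X ⨿ X').Opens) : Set ↥(X ⨿ X')) := by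
    intro V hV
    rw [← hrange]
    exact (QuasiCompact.isCompact_preimage (f := f) _ V.2 hV.isCompact).image
      i.continuous
  have hcpt' : ∀ V : Y.Opens, IsAffineOpen V →
      IsCompact ((i'.opensRange ⊓ d ⁻¹ᵁ V : (X ⨿ X').Opens) : Set ↥(X ⨿ X')) := by
    intro V hV
    rw [← hrange']
    exact (QuasiCompact.isCompact_preimage (f := f') _ V.2 hV.isCompact).image
      i'.continuous
  have hcompl := isCompl_opensRange_inl_inr X X'
  change RelAmple.IsRelAmple d L'' ↔ _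
  constructor
  · intro h
    refine ⟨⟨inferInstance, fun V => ?_⟩, ⟨inferInstance, fun V => ?_⟩⟩
    · rw [key]
      haveI : CompactSpace ↥((i.opensRange ⊓ d ⁻¹ᵁ V.1 : (X ⨿ X').Opens) : Scheme.{u}) :=
        isCompact_iff_compactSpace.mp (hcpt V.1 V.2)
      apply LD.QC.isAmple_restrict_of_le _ (d ⁻¹ᵁ V.1).ι ?_ L'' (h.2 V)
      rw [Scheme.Opens.opensRange_ι, Scheme.Opens.opensRange_ι]
      exact inf_le_right
    · rw [key']
      haveI : CompactSpace ↥((i'.opensRange ⊓ d ⁻¹ᵁ V.1 : (X ⨿ X').Opens) : Scheme.{u}) :=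
        isCompact_iff_compactSpace.mp (hcpt' V.1 V.2)
      apply LD.QC.isAmple_restrict_of_le _ (d ⁻¹ᵁ V.1).ι ?_ L'' (h.2 V)
      rw [Scheme.Opens.opensRange_ι, Scheme.Opens.opensRange_ι]
      exact inf_le_right
  · rintro ⟨h₁, h₂⟩
    have hdV : ∀ V : Y.Opens, d ⁻¹ᵁ V =
        (i.opensRange ⊓ d ⁻¹ᵁ V) ⊔ (i'.opensRange ⊓ d ⁻¹ᵁ V) := by
      intro V
      rw [← inf_sup_right, hcompl.sup_eq_top, top_inf_eq]
    have hqc : QuasiCompact d := by
      rw [quasiCompact_iff_forall_isAffineOpen]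
      intro V hV
      rw [hdV V]
      exact (hcpt V hV).union (hcpt' V hV)
    refine ⟨hqc, fun V => ?_⟩
    let Z := d ⁻¹ᵁ V.1
    apply LD.QC.isAmple_of_disjoint_cover (L''.restrict Z.ι) (Z.ι ⁻¹ᵁ i.opensRange)
      (Z.ι ⁻¹ᵁ i'.opensRange)
    · rw [← Scheme.Hom.preimage_inf, hcompl.inf_eq_bot]
      rfl
    · rw [← Scheme.Hom.preimage_sup, hcompl.sup_eq_top]
      rfl
    · rw [LD.QC.isAmple_restrict_restrict_iff' Z.ι (Z.ι ⁻¹ᵁ i.opensRange).ι L''
        (i.opensRange ⊓ d ⁻¹ᵁ V.1)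
        (by rw [Scheme.Opens.opensRange_ι, Scheme.Hom.image_preimage_eq_opensRange_inf,
          Scheme.Opens.opensRange_ι, inf_comm])]
      exact (key V.1).mp (h₁.2 V)
    · rw [LD.QC.isAmple_restrict_restrict_iff' Z.ι (Z.ι ⁻¹ᵁ i'.opensRange).ι L''
        (i'.opensRange ⊓ d ⁻¹ᵁ V.1)
        (by rw [Scheme.Opens.opensRange_ι, Scheme.Hom.image_preimage_eq_opensRange_inf,
          Scheme.Opens.opensRange_ι, inf_comm])]
      exact (key' V.1).mp (h₂.2 V)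

end Groth.Agent.S4385
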