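import Groth.Statements.S4387
import Groth.Agent.Lib.Lead.QC.RestrictOpen
import Groth.Agent.S2327

set_option autoImplicit false
universe u
open CategoryTheory CategoryTheory.Limits AlgebraicGeometry
open EGA2

namespace Groth.Agent.S4387

/-- Let f : X → Y be a quasi-compact morphism, L an invertible O_X-module and n > 0 an integer. Then L
is ample relative to f if and only if L^{⊗n} is ample relative to f. -/
theorem result {X Y : Scheme.{u}} (f : X ⟶ Y) [QuasiCompact f] (L : X.Modules)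
    (hL : PicF.IsInvertible L) (n : ℕ) (hn : 0 < n) :
    RelAmple.IsRelAmple f L ↔ RelAmple.IsRelAmple f (CohB1.tensorPow L n) := by
  constructor
  · intro h
    refine ⟨inferInstance, fun V => ?_⟩
    have hA := h.2 V
    haveI : CompactSpace (f ⁻¹ᵁ V.1 : Scheme.{u}) := hA.2.1
    haveI : Scheme.IsSeparated (f ⁻¹ᵁ V.1 : Scheme.{u}) :=
      LD.QC.isSeparated_of_affine_genLocus _ hA.1 hA.2.2
    have h1 := (Groth.Agent.S2327.result _ _ hA.1 n hn).mp hA
    exact LD.QC.isAmple_of_iso (LD.QC.restrictTensorPowIso (f ⁻¹ᵁ V.1).ι L n) h1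
  · intro h
    refine ⟨inferInstance, fun V => ?_⟩
    have hB := h.2 V
    have hB' := LD.QC.isAmple_of_iso (LD.QC.restrictTensorPowIso (f ⁻¹ᵁ V.1).ι L n).symm hB
    haveI : CompactSpace (f ⁻¹ᵁ V.1 : Scheme.{u}) := hB'.2.1
    haveI : Scheme.IsSeparated (f ⁻¹ᵁ V.1 : Scheme.{u}) :=
      LD.QC.isSeparated_of_affine_genLocus _ hB'.1 hB'.2.2
    exact (Groth.Agent.S2327.result _ _ (LD.QC.isInvertible_restrict _ hL) n hn).mpr hB'

end Groth.Agent.S4387
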