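import Groth.Statements.S4388
import Groth.Agent.Lib.Lead.QC.CounitGen
import Groth.Agent.S2328
import Groth.Agent.S9691

set_option autoImplicit false
universe u
open CategoryTheory CategoryTheory.Limits AlgebraicGeometry
open EGA2

namespace Groth.Agent.S4388

/-- Let f : X → Y be a quasi-compact morphism, L an O_X-module ample relative to f and L' an invertible
O_X-module such that, for some n > 0, the canonical morphism f^*(f_*(L'^{⊗n})) → L'^{⊗n} (counit of
the adjunction between f^* and f_*) is an epimorphism. Then L ⊗ L' is ample relative to f. -/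
theorem result {X Y : Scheme.{u}} (f : X ⟶ Y) [QuasiCompact f] (L L' : X.Modules)
    (hL : RelAmple.IsRelAmple f L) (hL' : PicF.IsInvertible L') (n : ℕ) (hn : 0 < n)
    (hepi : Epi ((Scheme.Modules.pullbackPushforwardAdjunction f).counit.app (CohB1.tensorPow L' n))) :
    RelAmple.IsRelAmple f (CohB1.tensorMod L L') := by
  haveI : IsSeparated f := Groth.Agent.S9691.result f L hL
  refine ⟨inferInstance, fun V => ?_⟩
  have hA := hL.2 V
  haveI : CompactSpace (f ⁻¹ᵁ V.1 : Scheme.{u}) := hA.2.1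
  haveI : Scheme.IsSeparated (f ⁻¹ᵁ V.1 : Scheme.{u}) :=
    LD.QC.isSeparated_of_affine_genLocus _ hA.1 hA.2.2
  obtain ⟨m, rfl⟩ : ∃ m, n = m + 1 := Nat.exists_eq_succ_of_ne_zero hn.ne'
  have h1 := Groth.Agent.S2328.result _ (L.restrict (f ⁻¹ᵁ V.1).ι) (L'.restrict (f ⁻¹ᵁ V.1).ι) hA
    (LD.QC.isInvertible_restrict (f ⁻¹ᵁ V.1).ι hL') (fun x' => by
      obtain ⟨s, hs⟩ := LD.QC.exists_mem_genLocus_restrict_of_counit_epi f
        (CohB1.tensorPow L' (m + 1)) (LD.QC.isInvertible_tensorPow hL' _) hepi V.1 V.2 x'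
      refine ⟨m, s ≫ (LD.QC.restrictTensorPowIso (f ⁻¹ᵁ V.1).ι L' (m + 1)).symm.hom, ?_⟩
      rw [LD.QC.genLocus_comp_iso s (LD.QC.restrictTensorPowIso (f ⁻¹ᵁ V.1).ι L' (m + 1)).symm]
      exact hs)
  exact LD.QC.isAmple_of_iso (LD.QC.restrictTensorIso (f ⁻¹ᵁ V.1).ι L L') h1

end Groth.Agent.S4388
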