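import Groth.Statements.S4392
import Groth.Agent.Lib.Helper1.GradedModuleMonomial
import Mathlib

set_option autoImplicit false
universe u
open EGA2

namespace Groth.Agent.S4392

/-- Let S be a ring graded in nonnegative degrees which is an S_0-algebra of finite type, and M a
finitely generated graded S-module, graded in nonnegative degrees. Then there exist an integer n₁
and an integer h > 0 such that M_{n+h} = S_h M_n for every n ≥ n₁. (The published statement allows M
graded in all integer degrees; this row takes M graded in nonnegative degrees.) -/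
theorem result {R A : Type u} [CommRing R] [CommRing A] [Algebra R A] (𝒜 : ℕ → Submodule R A) [GradedAlgebra 𝒜] [Algebra.FiniteType (𝒜 0) A]
    {M : Type u} [AddCommGroup M] [Module R M] [Module A M] [IsScalarTower R A M] (ℳ : ℕ → Submodule R M) [DirectSum.Decomposition ℳ] [SetLike.GradedSMul 𝒜 ℳ] [Module.Finite A M] :
    ∃ (n₁ h : ℕ), 0 < h ∧ ∀ n : ℕ, n₁ ≤ n → ℳ (n + h) = (𝒜 h : Submodule R A) • (ℳ n : Submodule R M) := by
  classical
  obtain ⟨ι, _, f, k, hk, hf, hgen⟩ := Groth.Agent.H1.GM.exists_generators 𝒜
  obtain ⟨κ, _, m, e, hm, hspan⟩ := Groth.Agent.H1.GM.exists_module_generators (A := A) ℳ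
  set q := ∏ i, k i with hq
  have hqpos : 0 < q := Finset.prod_pos fun i _ => hk i
  have hkq : ∀ i, k i ∣ q := fun i => Finset.dvd_prod_of_mem k (Finset.mem_univ i)
  set r := Fintype.card ι
  set E := Finset.univ.sup e with hE
  refine ⟨r * q + E, q, hqpos, fun n hn => le_antisymm ?_ ?_⟩
  · intro x hx
    have hx' := Groth.Agent.H1.GM.mem_monSpan 𝒜 ℳ m e hf hgen hm hspan (n + q) x hx
    unfold Groth.Agent.H1.GM.monSpan at hx'
    clear hx
    induction hx' using AddSubmonoid.closure_induction with
    | mem y hy =>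
      obtain ⟨c, hc, α, j, hw, rfl⟩ := hy
      have hej : e j ≤ E := Finset.le_sup (Finset.mem_univ j)
      obtain ⟨i, α', hα, hwt⟩ := Groth.Agent.H1.GM.exists_split k q hkq α (by change r * q < _; omega)
      have e1 : (c * Groth.Agent.H1.GM.mon f α) • m j =
          (f i ^ (q / k i)) • ((c * Groth.Agent.H1.GM.mon f α') • m j) := by
        rw [smul_smul, hα, Groth.Agent.H1.GM.mon_add, Groth.Agent.H1.GM.mon_single]
        congr 1; ring
      rw [e1]
      refine Submodule.smul_mem_smul ?_ ?_
      · have := SetLike.pow_mem_graded (q / k i) (hf i)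
        rwa [smul_eq_mul, Nat.div_mul_cancel (hkq i)] at this
      · have h1 : c * Groth.Agent.H1.GM.mon f α' ∈ 𝒜 (0 + Groth.Agent.H1.GM.wt k α') :=
          SetLike.mul_mem_graded hc (Groth.Agent.H1.GM.mon_mem 𝒜 hf α')
        have h2 := Groth.Agent.H1.GM.smul_mem_graded 𝒜 ℳ h1 (hm j)
        have e2 : 0 + Groth.Agent.H1.GM.wt k α' + e j = n := by omega
        rwa [e2] at h2
    | zero => exact zero_mem _
    | add y z _ _ hy hz => exact add_mem hy hz
  · rw [Submodule.smul_le]
    intro a ha x hx
    have := Groth.Agent.H1.GM.smul_mem_graded 𝒜 ℳ ha hx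
    rwa [add_comm] at this

end Groth.Agent.S4392
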