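import Groth.Statements.S4393
import Groth.Agent.Lib.Helper1.GradedMonomial
import Mathlib

set_option autoImplicit false
universe u
open EGA2

namespace Groth.Agent.S4393

section
open Groth.Agent.H1.GM
variable {R A : Type u} [CommRing R] [CommRing A] [Algebra R A] (𝒜 : ℕ → Submodule R A) [GradedAlgebra 𝒜]

omit [GradedAlgebra 𝒜] in
theorem mul_le_graded [SetLike.GradedMonoid 𝒜] (a b : ℕ) : 𝒜 a * 𝒜 b ≤ 𝒜 (a + b) :=
  Submodule.mul_le.mpr fun _ hx _ hy => SetLike.mul_mem_graded hx hy

omit [GradedAlgebra 𝒜] in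
theorem pow_le_graded [SetLike.GradedMonoid 𝒜] (a j : ℕ) : (𝒜 a) ^ j ≤ 𝒜 (j * a) := by
  induction j with
  | zero =>
    rw [pow_zero, zero_mul, Submodule.one_le]
    exact SetLike.one_mem_graded 𝒜
  | succ j ih =>
    rw [pow_succ]
    refine (mul_le_mul' ih le_rfl).trans ?_
    have : (j + 1) * a = j * a + a := by ring
    rw [this]
    exact mul_le_graded 𝒜 _ _

theorem zero_mul_stable (a b : ℕ) : ∀ c ∈ 𝒜 0, ∀ t ∈ 𝒜 a * 𝒜 b, c * t ∈ 𝒜 a * 𝒜 b := by
  intro c hc t ht
  refine Submodule.mul_induction_on ht ?_ ?_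
  · intro x hx y hy
    rw [← mul_assoc]
    refine Submodule.mul_mem_mul ?_ hy
    have := SetLike.mul_mem_graded hc hx
    rwa [zero_add] at this
  · intro x y hx hy
    rw [mul_add]; exact Submodule.add_mem _ hx hy

theorem step {ι : Type u} [Fintype ι] (f : ι → A) (k : ι → ℕ) (hk : ∀ i, 0 < k i)
    (hf : ∀ i, f i ∈ 𝒜 (k i)) (hgen : Algebra.adjoin (𝒜 0) (Set.range f) = ⊤)
    (q : ℕ) (hq : 0 < q) (hkq : ∀ i, k i ∣ q) (n : ℕ) (hn : Fintype.card ι * q ≤ n) :
    𝒜 (n + q) ≤ 𝒜 q * 𝒜 n := by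
  classical
  refine le_of_monomials 𝒜 hf hgen (n + q) _ (zero_mul_stable 𝒜 q n) ?_
  intro α hα
  -- some exponent is large
  obtain ⟨i, hi⟩ : ∃ i, q / k i ≤ α i := by
    by_contra hcon
    push Not at hcon
    have h1 : wt k α = ∑ i, α i * k i := by
      unfold wt
      rw [Finsupp.sum_fintype]; intro i; simp
    have h2 : ∑ i, α i * k i ≤ ∑ _i : ι, q := by
      refine Finset.sum_le_sum fun i _ => ?_
      have := hcon i
      have h3 : α i * k i ≤ (q / k i) * k i := Nat.mul_le_mul_right _ this.le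
      exact h3.trans (Nat.div_mul_le_self q (k i))
    rw [Finset.sum_const, Finset.card_univ, smul_eq_mul] at h2
    omega
  have hsplit : α = Finsupp.single i (q / k i) + (α - Finsupp.single i (q / k i)) := by
    rw [add_tsub_cancel_of_le]
    rw [Finsupp.single_le_iff]
    exact hi
  set α' := α - Finsupp.single i (q / k i) with hα'
  have hwt : wt k α = q + wt k α' := by
    rw [hsplit, wt_add, wt_single, Nat.div_mul_cancel (hkq i)]
  have hwt' : wt k α' = n := by omega
  rw [hsplit, mon_add, mon_single]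
  refine Submodule.mul_mem_mul ?_ ?_
  · have := SetLike.pow_mem_graded (q / k i) (hf i)
    rwa [smul_eq_mul, Nat.div_mul_cancel (hkq i)] at this
  · rw [← hwt']; exact mon_mem 𝒜 hf α'
end

/-- Let S be a ring graded in nonnegative degrees which is an S_0-algebra of finite type. Then there is
an integer h > 0 such that S_{mh} = (S_h)^m (the S_0-submodule spanned by m-fold products of
elements of S_h) for every m > 0. -/
theorem result {R A : Type u} [CommRing R] [CommRing A] [Algebra R A] (𝒜 : ℕ → Submodule R A) [GradedAlgebra 𝒜] [Algebra.FiniteType (𝒜 0) A] :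
    ∃ h : ℕ, 0 < h ∧ ∀ m : ℕ, 0 < m → 𝒜 (m * h) = (𝒜 h : Submodule R A) ^ m := by
  classical
  obtain ⟨ι, _, f, k, hk, hf, hgen⟩ := Groth.Agent.H1.GM.exists_generators 𝒜
  set q := ∏ i, k i with hq
  have hqpos : 0 < q := Finset.prod_pos fun i _ => hk i
  have hkq : ∀ i, k i ∣ q := fun i => Finset.dvd_prod_of_mem k (Finset.mem_univ i)
  set r := Fintype.card ι
  -- 𝒜 (N + j q) ≤ 𝒜 (j q) * 𝒜 N for N ≥ r q
  have hstep : ∀ j N : ℕ, r * q ≤ N → 𝒜 (N + j * q) ≤ 𝒜 (j * q) * 𝒜 N := by
    intro j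
    induction j with
    | zero =>
      intro N _
      rw [zero_mul, add_zero]
      intro x hx
      have : x = 1 * x := (one_mul x).symm
      rw [this]
      exact Submodule.mul_mem_mul (SetLike.one_mem_graded 𝒜) hx
    | succ j ih =>
      intro N hN
      have e : N + (j + 1) * q = (N + j * q) + q := by ring
      rw [e]
      refine (step 𝒜 f k hk hf hgen q hqpos hkq (N + j * q) (by nlinarith)).trans ?_
      refine (mul_le_mul' le_rfl (ih N hN)).trans ?_
      rw [← mul_assoc]
      refine mul_le_mul' ?_ le_rfl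
      have e2 : (j + 1) * q = q + j * q := by ring
      rw [e2]
      exact mul_le_graded 𝒜 _ _
  refine ⟨(r + 1) * q, by positivity, ?_⟩
  intro m hm
  induction m, hm using Nat.le_induction with
  | base => simp
  | succ m hm ih =>
    have e : (m + 1) * ((r + 1) * q) = m * ((r + 1) * q) + (r + 1) * q := by ring
    rw [e, pow_succ', ← ih]
    have hbig : r * q ≤ m * ((r + 1) * q) :=
      calc r * q ≤ (r + 1) * q := Nat.mul_le_mul_right _ (Nat.le_succ r)
        _ ≤ m * ((r + 1) * q) := Nat.le_mul_of_pos_left _ hm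
    refine le_antisymm (hstep (r + 1) _ hbig) ?_
    have := mul_le_graded 𝒜 ((r + 1) * q) (m * ((r + 1) * q))
    rwa [add_comm ((r + 1) * q) (m * ((r + 1) * q))] at this

end Groth.Agent.S4393
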