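import Groth.Statements.S4395
import Groth.Agent.Lib.Helper1.ProjBasic
import Mathlib

set_option autoImplicit false
universe u
open EGA2

namespace Groth.Agent.S4395

section
open DirectSum
variable {R A : Type u} [CommRing R] [CommRing A] [Algebra R A] (𝒜 : ℕ → Submodule R A) [GradedAlgebra 𝒜]

theorem exists_pos_notMem' (𝔭 : HomogeneousIdeal 𝒜) (hp : 𝔭.toIdeal.IsPrime)
    (hirr : ¬ HomogeneousIdeal.irrelevant 𝒜 ≤ 𝔭) :
    ∃ (i : ℕ) (s : A), 0 < i ∧ s ∈ 𝒜 i ∧ s ∉ 𝔭.toIdeal :=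
  Groth.Agent.H1.PB.exists_homogeneous_pos_notMem (𝒜 := 𝒜) ⟨𝔭, hp, hirr⟩

theorem uniq_le (n₀ : ℕ) (p : ℕ → AddSubgroup A)
    (𝔭 𝔮 : HomogeneousIdeal 𝒜) (h𝔮 : 𝔮.toIdeal.IsPrime)
    (hirr : ¬ HomogeneousIdeal.irrelevant 𝒜 ≤ 𝔮)
    (h1 : ∀ n : ℕ, n₀ ≤ n → (𝔭.toIdeal : Set A) ∩ 𝒜 n = p n)
    (h2 : ∀ n : ℕ, n₀ ≤ n → (𝔮.toIdeal : Set A) ∩ 𝒜 n = p n) : 𝔭 ≤ 𝔮 := by
  classical
  obtain ⟨e, g, he, hge, hg𝔮⟩ := exists_pos_notMem' 𝒜 𝔮 h𝔮 hirr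
  intro x hx
  change x ∈ 𝔮.toIdeal
  rw [← sum_support_decompose 𝒜 x]
  refine sum_mem fun m _ => ?_
  have hxm : (decompose 𝒜 x m : A) ∈ 𝔭.toIdeal := 𝔭.isHomogeneous m hx
  have hdeg : g ^ n₀ * (decompose 𝒜 x m : A) ∈ 𝒜 (n₀ * e + m) := by
    have h1 : g ^ n₀ ∈ 𝒜 (n₀ • e) := SetLike.pow_mem_graded n₀ hge
    rw [smul_eq_mul] at h1
    exact SetLike.mul_mem_graded h1 (decompose 𝒜 x m).2
  have hle : n₀ ≤ n₀ * e + m := by nlinarith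
  have hmem : g ^ n₀ * (decompose 𝒜 x m : A) ∈ (𝔭.toIdeal : Set A) ∩ 𝒜 (n₀ * e + m) :=
    ⟨𝔭.toIdeal.mul_mem_left _ hxm, hdeg⟩
  rw [h1 _ hle, ← h2 _ hle] at hmem
  rcases h𝔮.mem_or_mem hmem.1 with h | h
  · exact absurd (h𝔮.mem_of_pow_mem _ h) hg𝔮
  · exact h

variable (n₀ : ℕ) (p : ℕ → AddSubgroup A) (d : ℕ) (f : A)

/-- the ideal `{x | ∀ m, f * x_m ∈ p (m + d)}` -/
def theIdeal (hd : n₀ ≤ d)
    (H1 : ∀ m n : ℕ, n₀ ≤ n → ∀ a ∈ 𝒜 m, ∀ b ∈ p n, a * b ∈ p (m + n)) : Ideal A where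
  carrier := {x | ∀ m, f * (decompose 𝒜 x m : A) ∈ p (m + d)}
  zero_mem' := by intro m; simp
  add_mem' := by
    intro x y hx hy m
    simp only [decompose_add, DirectSum.add_apply, Submodule.coe_add, mul_add]
    exact (p (m + d)).add_mem (hx m) (hy m)
  smul_mem' := by
    classical
    intro c x hx
    simp only [smul_eq_mul]
    induction c using DirectSum.Decomposition.inductionOn 𝒜 with
    | zero => intro m; simp
    | @homogeneous k c =>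
      intro m
      rw [coe_decompose_mul_of_left_mem 𝒜 m c.2]
      split_ifs with hkm
      · have := H1 k (m - k + d) (by omega) c c.2 _ (hx (m - k))
        have e : k + (m - k + d) = m + d := by omega
        rw [e] at this
        rw [mul_left_comm]; exact this
      · simp
    | add c c' hc hc' =>
      intro m
      rw [add_mul]
      simp only [decompose_add, DirectSum.add_apply, Submodule.coe_add, mul_add]
      exact (p (m + d)).add_mem (hc m) (hc' m)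

theorem mem_theIdeal_iff (hd : n₀ ≤ d)
    (H1 : ∀ m n : ℕ, n₀ ≤ n → ∀ a ∈ 𝒜 m, ∀ b ∈ p n, a * b ∈ p (m + n)) (x : A) :
    x ∈ theIdeal 𝒜 n₀ p d f hd H1 ↔ ∀ m, f * (decompose 𝒜 x m : A) ∈ p (m + d) := Iff.rfl

theorem mem_theIdeal_of_homogeneous (hd : n₀ ≤ d)
    (H1 : ∀ m n : ℕ, n₀ ≤ n → ∀ a ∈ 𝒜 m, ∀ b ∈ p n, a * b ∈ p (m + n)) (m : ℕ) (x : A)
    (hx : x ∈ 𝒜 m) : x ∈ theIdeal 𝒜 n₀ p d f hd H1 ↔ f * x ∈ p (m + d) := by
  classical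
  rw [mem_theIdeal_iff]
  constructor
  · intro h
    have := h m
    rwa [decompose_of_mem_same 𝒜 hx] at this
  · intro h m'
    by_cases hm : m' = m
    · subst hm; rwa [decompose_of_mem_same 𝒜 hx]
    · rw [decompose_of_mem_ne 𝒜 hx (Ne.symm hm)]; simp

theorem theIdeal_isHomogeneous (hd : n₀ ≤ d)
    (H1 : ∀ m n : ℕ, n₀ ≤ n → ∀ a ∈ 𝒜 m, ∀ b ∈ p n, a * b ∈ p (m + n)) :
    (theIdeal 𝒜 n₀ p d f hd H1).IsHomogeneous 𝒜 := by
  intro i x hx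
  rw [mem_theIdeal_of_homogeneous 𝒜 n₀ p d f hd H1 i _ (decompose 𝒜 x i).2]
  exact hx i
end

/-- Let S be a ring graded in nonnegative degrees, n₀ > 0 an integer and, for every n ≥ n₀, p_n an
additive subgroup of S_n. Then there is a graded prime ideal p of S not containing S_+ with p ∩ S_n
= p_n for all n ≥ n₀ if and only if: (1) S_m p_n ⊆ p_{m+n} for all m ≥ 0 and n ≥ n₀; (2) for m ≥ n₀,
n ≥ n₀, f ∈ S_m, g ∈ S_n, fg ∈ p_{m+n} implies f ∈ p_m or g ∈ p_n; (3) p_n ≠ S_n for at least one n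
≥ n₀. Moreover such a graded prime ideal is unique. -/
theorem result {R A : Type u} [CommRing R] [CommRing A] [Algebra R A] (𝒜 : ℕ → Submodule R A) [GradedAlgebra 𝒜]
    (n₀ : ℕ) (hn₀ : 0 < n₀) (p : ℕ → AddSubgroup A) (hp : ∀ n : ℕ, n₀ ≤ n → (p n : Set A) ⊆ 𝒜 n) :
    ((∃ 𝔭 : HomogeneousIdeal 𝒜, 𝔭.toIdeal.IsPrime ∧ ¬ HomogeneousIdeal.irrelevant 𝒜 ≤ 𝔭 ∧
        ∀ n : ℕ, n₀ ≤ n → (𝔭.toIdeal : Set A) ∩ 𝒜 n = p n) ↔
      ((∀ m n : ℕ, n₀ ≤ n → ∀ a ∈ 𝒜 m, ∀ b ∈ p n, a * b ∈ p (m + n)) ∧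
        (∀ m n : ℕ, n₀ ≤ m → n₀ ≤ n → ∀ f ∈ 𝒜 m, ∀ g ∈ 𝒜 n, f * g ∈ p (m + n) → f ∈ p m ∨ g ∈ p n) ∧
        ∃ n : ℕ, n₀ ≤ n ∧ (p n : Set A) ≠ 𝒜 n)) ∧
    ∀ 𝔭 𝔮 : HomogeneousIdeal 𝒜, 𝔭.toIdeal.IsPrime → 𝔮.toIdeal.IsPrime →
      ¬ HomogeneousIdeal.irrelevant 𝒜 ≤ 𝔭 → ¬ HomogeneousIdeal.irrelevant 𝒜 ≤ 𝔮 →
      (∀ n : ℕ, n₀ ≤ n → (𝔭.toIdeal : Set A) ∩ 𝒜 n = p n) → (∀ n : ℕ, n₀ ≤ n → (𝔮.toIdeal : Set A) ∩ 𝒜 n = p n) →
      𝔭 = 𝔮 := by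
  classical
  refine ⟨⟨?_, ?_⟩, ?_⟩
  · rintro ⟨𝔭, hprime, hirr, hpn⟩
    refine ⟨?_, ?_, ?_⟩
    · intro m n hn a ha b hb
      have hb' : b ∈ (𝔭.toIdeal : Set A) ∩ 𝒜 n := by rw [hpn n hn]; exact hb
      have : a * b ∈ (𝔭.toIdeal : Set A) ∩ 𝒜 (m + n) :=
        ⟨𝔭.toIdeal.mul_mem_left _ hb'.1, SetLike.mul_mem_graded ha hb'.2⟩
      rw [hpn (m + n) (by omega)] at this
      exact this
    · intro m n hm hn f hf g hg hfg
      have hfg' : f * g ∈ (𝔭.toIdeal : Set A) ∩ 𝒜 (m + n) := by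
        rw [hpn (m + n) (by omega)]; exact hfg
      rcases hprime.mem_or_mem hfg'.1 with h | h
      · left
        have : f ∈ (𝔭.toIdeal : Set A) ∩ 𝒜 m := ⟨h, hf⟩
        rw [hpn m hm] at this; exact this
      · right
        have : g ∈ (𝔭.toIdeal : Set A) ∩ 𝒜 n := ⟨h, hg⟩
        rw [hpn n hn] at this; exact this
    · obtain ⟨i, s, hi, hsi, hs⟩ := exists_pos_notMem' 𝒜 𝔭 hprime hirr
      refine ⟨n₀ * i, by nlinarith, ?_⟩
      intro heq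
      have h1 : s ^ n₀ ∈ 𝒜 (n₀ • i) := SetLike.pow_mem_graded n₀ hsi
      rw [smul_eq_mul] at h1
      have : s ^ n₀ ∈ (p (n₀ * i) : Set A) := by rw [heq]; exact h1
      rw [← hpn (n₀ * i) (by nlinarith)] at this
      exact hs (hprime.mem_of_pow_mem _ this.1)
  · rintro ⟨H1, H2, d, hd, hne⟩
    have hsub := hp d hd
    obtain ⟨f, hfd, hfp⟩ : ∃ f ∈ 𝒜 d, f ∉ p d := by
      by_contra hcon
      push Not at hcon
      exact hne (Set.Subset.antisymm hsub fun x hx => hcon x hx)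
    have hmemI := mem_theIdeal_of_homogeneous 𝒜 n₀ p d f hd H1
    have hIhom := theIdeal_isHomogeneous 𝒜 n₀ p d f hd H1
    -- for m ≥ n₀
    have hbig : ∀ m, n₀ ≤ m → ∀ x ∈ 𝒜 m, (f * x ∈ p (m + d) ↔ x ∈ p m) := by
      intro m hm x hx
      constructor
      · intro h
        rw [add_comm] at h
        rcases H2 d m hd hm f hfd x hx h with h' | h'
        · exact absurd h' hfp
        · exact h'
      · intro h
        have := H1 d m hm f hfd x h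
        rwa [add_comm] at this
    have hfI : f ∉ theIdeal 𝒜 n₀ p d f hd H1 := by
      rw [hmemI d f hfd]
      intro h
      rcases H2 d d hd hd f hfd f hfd h with h' | h' <;> exact hfp h'
    refine ⟨⟨theIdeal 𝒜 n₀ p d f hd H1, hIhom⟩, ?_, ?_, ?_⟩
    · refine hIhom.isPrime_of_homogeneous_mem_or_mem ?_ ?_
      · intro htop
        apply hfI
        rw [htop]; trivial
      · rintro x y ⟨m, hx⟩ ⟨n, hy⟩ hxy
        rw [hmemI (m + n) _ (SetLike.mul_mem_graded hx hy)] at hxy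
        have h3 := H1 d (m + n + d) (by omega) f hfd _ hxy
        have e : d + (m + n + d) = (m + d) + (n + d) := by omega
        rw [e] at h3
        have e2 : f * (f * (x * y)) = (f * x) * (f * y) := by ring
        rw [e2] at h3
        have hfx : f * x ∈ 𝒜 (m + d) := by
          rw [add_comm]; exact SetLike.mul_mem_graded hfd hx
        have hfy : f * y ∈ 𝒜 (n + d) := by
          rw [add_comm]; exact SetLike.mul_mem_graded hfd hy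
        rcases H2 (m + d) (n + d) (by omega) (by omega) _ hfx _ hfy h3 with h | h
        · left; rw [hmemI m x hx]; exact h
        · right; rw [hmemI n y hy]; exact h
    · intro hle
      apply hfI
      apply hle
      change f ∈ (HomogeneousIdeal.irrelevant 𝒜)
      rw [HomogeneousIdeal.mem_irrelevant_iff]
      change ((DirectSum.decompose 𝒜 f 0 : 𝒜 0) : A) = 0
      rw [DirectSum.decompose_of_mem_ne 𝒜 hfd (by omega)]
    · intro n hn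
      ext x
      constructor
      · rintro ⟨hxI, hxn⟩
        have := (hmemI n x hxn).mp hxI
        exact (hbig n hn x hxn).mp this
      · intro hx
        have hxn : x ∈ 𝒜 n := hp n hn hx
        exact ⟨(hmemI n x hxn).mpr ((hbig n hn x hxn).mpr hx), hxn⟩
  · intro 𝔭 𝔮 h𝔭 h𝔮 hi𝔭 hi𝔮 h1 h2
    exact le_antisymm (uniq_le 𝒜 n₀ p 𝔭 𝔮 h𝔮 hi𝔮 h1 h2) (uniq_le 𝒜 n₀ p 𝔮 𝔭 h𝔭 hi𝔭 h2 h1)

end Groth.Agent.S4395
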