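import Groth.Statements.S4396
import Mathlib

set_option autoImplicit false
universe u
open AlgebraicGeometry
open EGA2

namespace Groth.Agent.S4396

section
open DirectSum HomogeneousLocalization
variable {R A : Type u} [CommRing R] [CommRing A] [Algebra R A] (𝒜 : ℕ → Submodule R A) [GradedAlgebra 𝒜]
    {B : Type u} [CommRing B] [Algebra R B] (ℬ : ℕ → Submodule R B) [GradedAlgebra ℬ]
    (d : ℕ) (φ : B →ₐ[R] A)
    (hdeg : ∀ n : ℕ, Submodule.map φ.toLinearMap (ℬ n) = 𝒜 (n * d)) (f' : B) (hf' : f' ∈ ℬ 1)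

include hdeg in
theorem phi_mem (n : ℕ) (x : B) (hx : x ∈ ℬ n) : φ x ∈ 𝒜 (n • d) := by
  rw [smul_eq_mul, ← hdeg n]
  exact ⟨x, hx, rfl⟩

include hdeg hf' in
theorem phi_f_mem : φ f' ∈ 𝒜 d := by
  have := phi_mem 𝒜 ℬ d φ hdeg 1 f' hf'
  simpa using this

/-- the degree-`n` piece of the map -/
noncomputable def gmap (n : ℕ) : ℬ n →+ Away 𝒜 (φ f') where
  toFun x := Away.mk 𝒜 (phi_f_mem 𝒜 ℬ d φ hdeg f' hf') n (φ x) (phi_mem 𝒜 ℬ d φ hdeg n x x.2)
  map_zero' := by
    apply HomogeneousLocalization.val_injective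
    simp [Localization.mk_zero]
  map_add' x y := by
    apply HomogeneousLocalization.val_injective
    simp [Localization.add_mk_self]

theorem gmap_val (n : ℕ) (x : ℬ n) : (gmap 𝒜 ℬ d φ hdeg f' hf' n x).val =
    Localization.mk (φ x) (⟨φ f' ^ n, ⟨n, rfl⟩⟩ : Submonoid.powers (φ f')) := rfl

/-- the ring hom `B → A_(f)` -/
noncomputable def psi : B →+* Away 𝒜 (φ f') :=
  (DirectSum.toSemiring (gmap 𝒜 ℬ d φ hdeg f' hf')
    (by
      apply HomogeneousLocalization.val_injective
      rw [gmap_val, HomogeneousLocalization.val_one]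
      change Localization.mk (φ 1) _ = 1
      simp only [map_one, pow_zero]
      exact Localization.mk_self 1)
    (by
      intro i j a b
      apply HomogeneousLocalization.val_injective
      rw [HomogeneousLocalization.val_mul, gmap_val, gmap_val, gmap_val, Localization.mk_mul]
      change Localization.mk (φ (a.1 * b.1)) _ = _
      rw [map_mul]
      congr 1
      exact Subtype.ext (pow_add _ _ _))).comp
    (DirectSum.decomposeRingEquiv ℬ).toRingHom

theorem psi_of_mem (n : ℕ) (x : B) (hx : x ∈ ℬ n) :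
    psi 𝒜 ℬ d φ hdeg f' hf' x =
      Away.mk 𝒜 (phi_f_mem 𝒜 ℬ d φ hdeg f' hf') n (φ x) (phi_mem 𝒜 ℬ d φ hdeg n x hx) := by
  unfold psi
  simp only [RingEquiv.toRingHom_eq_coe, RingHom.coe_comp, RingHom.coe_coe, Function.comp_apply]
  change DirectSum.toSemiring _ _ _ (DirectSum.decompose ℬ x) = _
  rw [DirectSum.decompose_of_mem ℬ hx, DirectSum.toSemiring_of]
  rfl

include hf' in
theorem exists_homog_rep (x : B) : ∃ (N : ℕ) (y : B), y ∈ ℬ N ∧
    Ideal.Quotient.mk (Ideal.span {f' - 1}) x = Ideal.Quotient.mk (Ideal.span {f' - 1}) y := by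
  have hπ : Ideal.Quotient.mk (Ideal.span {f' - 1}) f' = 1 := by
    have : Ideal.Quotient.mk (Ideal.span {f' - 1}) (f' - 1) = 0 :=
      Ideal.Quotient.eq_zero_iff_mem.mpr (Ideal.subset_span rfl)
    rw [map_sub, map_one, sub_eq_zero] at this
    exact this
  induction x using DirectSum.Decomposition.inductionOn ℬ with
  | zero => exact ⟨0, 0, zero_mem _, rfl⟩
  | @homogeneous k c => exact ⟨k, c, c.2, rfl⟩
  | add x x' hx hx' =>
    obtain ⟨N, y, hy, e⟩ := hx
    obtain ⟨N', y', hy', e'⟩ := hx'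
    refine ⟨N' + N, f' ^ N' * y + f' ^ N * y', ?_, ?_⟩
    · refine Submodule.add_mem _ ?_ ?_
      · have h1 : f' ^ N' ∈ ℬ (N' • 1) := SetLike.pow_mem_graded N' hf'
        rw [smul_eq_mul, mul_one] at h1
        exact SetLike.mul_mem_graded h1 hy
      · have h1 : f' ^ N ∈ ℬ (N • 1) := SetLike.pow_mem_graded N hf'
        rw [smul_eq_mul, mul_one] at h1
        rw [add_comm]
        exact SetLike.mul_mem_graded h1 hy'
    · simp only [map_add, map_mul, map_pow, hπ, one_pow, one_mul, e, e']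

end

/-- Let S be a ring graded in nonnegative degrees, d > 0, and S^{(d)} the graded ring whose degree-n
part is S_{nd} (given here as any graded ring S' with an injective algebra homomorphism φ : S' → S
carrying S'_n onto S_{nd} for every n); let f' ∈ S'_1, with image f = φ(f') ∈ S_d. Then there is a
ring isomorphism between the degree-zero homogeneous localization S_(f) and the quotient S'/(f' -
1)S', whose inverse sends the class of an element x of S'_n to the fraction φ(x)/f^n. (The module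
part of the published statement is not stated here.) -/
theorem result {R A : Type u} [CommRing R] [CommRing A] [Algebra R A] (𝒜 : ℕ → Submodule R A) [GradedAlgebra 𝒜]
    {B : Type u} [CommRing B] [Algebra R B] (ℬ : ℕ → Submodule R B) [GradedAlgebra ℬ]
    (d : ℕ) (hd : 0 < d) (φ : B →ₐ[R] A) (hφ : Function.Injective φ)
    (hdeg : ∀ n : ℕ, Submodule.map φ.toLinearMap (ℬ n) = 𝒜 (n * d)) (f' : B) (hf' : f' ∈ ℬ 1) :
    ∃ e : HomogeneousLocalization.Away 𝒜 (φ f') ≃+* B ⧸ Ideal.span {f' - 1},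
      ∀ (n : ℕ) (x : B), x ∈ ℬ n →
        (e.symm (Ideal.Quotient.mk (Ideal.span {f' - 1}) x)).val =
          Localization.mk (φ x) ⟨φ f' ^ n, pow_mem (Submonoid.mem_powers (φ f')) n⟩ := by
  have hf := phi_f_mem 𝒜 ℬ d φ hdeg f' hf'
  let ψ := psi 𝒜 ℬ d φ hdeg f' hf'
  have hψ1 : ∀ a ∈ Ideal.span {f' - 1}, ψ a = 0 := by
    intro a ha
    rw [Ideal.mem_span_singleton] at ha
    obtain ⟨c, rfl⟩ := ha
    have : ψ (f' - 1) = 0 := by
      rw [map_sub, map_one, sub_eq_zero]
      change psi 𝒜 ℬ d φ hdeg f' hf' f' = 1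
      rw [psi_of_mem 𝒜 ℬ d φ hdeg f' hf' 1 f' hf']
      apply HomogeneousLocalization.val_injective
      rw [HomogeneousLocalization.Away.val_mk, HomogeneousLocalization.val_one]
      simp only [pow_one]
      exact Localization.mk_self ⟨φ f', _⟩
    rw [map_mul, this, zero_mul]
  let Ψ : B ⧸ Ideal.span {f' - 1} →+* HomogeneousLocalization.Away 𝒜 (φ f') :=
    Ideal.Quotient.lift _ ψ hψ1
  have hπ : Ideal.Quotient.mk (Ideal.span {f' - 1}) f' = 1 := by
    have : Ideal.Quotient.mk (Ideal.span {f' - 1}) (f' - 1) = 0 :=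
      Ideal.Quotient.eq_zero_iff_mem.mpr (Ideal.subset_span rfl)
    rw [map_sub, map_one, sub_eq_zero] at this
    exact this
  have hinj : Function.Injective Ψ := by
    rw [injective_iff_map_eq_zero]
    intro z hz
    obtain ⟨x, rfl⟩ := Ideal.Quotient.mk_surjective z
    obtain ⟨N, y, hy, e⟩ := exists_homog_rep ℬ f' hf' x
    rw [e] at hz ⊢
    change ψ y = 0 at hz
    change psi 𝒜 ℬ d φ hdeg f' hf' y = 0 at hz
    rw [psi_of_mem 𝒜 ℬ d φ hdeg f' hf' N y hy] at hz
    have hz' := congrArg HomogeneousLocalization.val hz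
    rw [HomogeneousLocalization.Away.val_mk, HomogeneousLocalization.val_zero,
      Localization.mk_eq_mk', IsLocalization.mk'_eq_zero_iff] at hz'
    obtain ⟨⟨_, k, rfl⟩, hk⟩ := hz'
    have hk' : φ (f' ^ k * y) = 0 := by rw [map_mul, map_pow]; exact hk
    have hk'' : f' ^ k * y = 0 := hφ (by rw [hk', map_zero])
    have := congrArg (Ideal.Quotient.mk (Ideal.span {f' - 1})) hk''
    rw [map_mul, map_pow, hπ, one_pow, one_mul, map_zero] at this
    exact this
  have hsurj : Function.Surjective Ψ := by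
    intro z
    obtain ⟨n, a, ha, rfl⟩ := HomogeneousLocalization.Away.mk_surjective 𝒜 hf z
    have ha' : a ∈ 𝒜 (n * d) := by rwa [smul_eq_mul] at ha
    rw [← hdeg n] at ha'
    obtain ⟨x, hx, rfl⟩ := ha'
    refine ⟨Ideal.Quotient.mk _ x, ?_⟩
    change psi 𝒜 ℬ d φ hdeg f' hf' x = _
    rw [psi_of_mem 𝒜 ℬ d φ hdeg f' hf' n x hx]
    rfl
  refine ⟨(RingEquiv.ofBijective Ψ ⟨hinj, hsurj⟩).symm, ?_⟩
  intro n x hx
  rw [RingEquiv.symm_symm]
  change (psi 𝒜 ℬ d φ hdeg f' hf' x).val = _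
  rw [psi_of_mem 𝒜 ℬ d φ hdeg f' hf' n x hx, HomogeneousLocalization.Away.val_mk]

end Groth.Agent.S4396
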