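import Groth.Statements.S4402
import Groth.Agent.Lib.Lead.TW.SerreGen
import Groth.Agent.Lib.Lead.QC.InvEpi

set_option autoImplicit false
universe u
open CategoryTheory CategoryTheory.Limits AlgebraicGeometry
open EGA2

namespace Groth.Agent.S4402

/-- Consider a ring S graded in nonnegative degrees, and assume its irrelevant ideal S_+ is generated by
a finite set of degree-one elements; put X = Proj S. Given any O_X-module F that is quasi-coherent
and of finite type, one can find n₀ so that whenever n ≥ n₀, some k admits an epimorphism onto F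
from the direct sum of k copies of O_X(-n). -/
theorem result {R A : Type u} [CommRing R] [CommRing A] [Algebra R A] (𝒜 : ℕ → Submodule R A) [GradedAlgebra 𝒜]
    (s : Finset A) (hs1 : ∀ f ∈ s, f ∈ 𝒜 1)
    (hs : (HomogeneousIdeal.irrelevant 𝒜).toIdeal = Ideal.span (s : Set A))
    (F : (Proj 𝒜).Modules) (hF : Coh.IsQCoh F) (hFT : CohB1.IsFT F) :
    ∃ n₀ : ℕ, ∀ n : ℕ, n₀ ≤ n →
      ∃ (k : ℕ) (p : (∐ fun _ : Fin k => Twist.twist 𝒜 (-(n : ℤ))) ⟶ F), Epi p := by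
  classical
  haveI : F.IsQuasicoherent := hF
  obtain ⟨N₀, h⟩ := LD.TW.exists_epi_free_twistBy s hs1 hs F hFT
  refine ⟨N₀, fun n hn => ?_⟩
  obtain ⟨k, q, hq⟩ := h n hn
  have hM : PicF.IsInvertible (Twist.twist 𝒜 (-(n : ℤ))) :=
    LD.TW.isInvertible_twist_of_span hs1 hs _
  have hN : PicF.IsInvertible (Twist.twist 𝒜 (n : ℤ)) :=
    LD.TW.isInvertible_twist_of_span hs1 hs _
  haveI : (Twist.twist 𝒜 (-(n : ℤ))).IsQuasicoherent := LD.QC.qc_of_isInvertible _ hM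
  haveI : (Twist.twist 𝒜 (n : ℤ)).IsQuasicoherent := LD.QC.qc_of_isInvertible _ hN
  let ε : CohB1.tensorMod (Twist.twist 𝒜 (n : ℤ)) (Twist.twist 𝒜 (-(n : ℤ))) ≅
      LD.QC.unitMod (Proj 𝒜) :=
    LD.TW.mulTensorIso hs1 hs (n : ℤ) (-(n : ℤ)) ≪≫ LD.TW.twistCongr (by simp) ≪≫
      LD.TW.twistZeroIso 𝒜
  obtain ⟨p, hp⟩ := LD.QC.exists_epi_sigma_of_inverse F (Twist.twist 𝒜 (n : ℤ))
    (Twist.twist 𝒜 (-(n : ℤ))) hM ε q hq
  exact ⟨k, p, hp⟩

end Groth.Agent.S4402
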