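import Groth.Statements.S4405
import Groth.Agent.Lib.Helper1.ProjBasic

set_option autoImplicit false
universe u
open EGA2

namespace Groth.Agent.S4405

/-- Let S be a ring graded in nonnegative degrees and E any subset of the irrelevant ideal S_+. Then the
intersection of S_+ with the vanishing ideal of the closed subset V_+(E) of Proj S equals the
intersection of S_+ with the radical of the graded ideal generated by E (the smallest homogeneous
ideal containing E). -/
theorem result {R A : Type u} [CommRing R] [CommRing A] [Algebra R A] (𝒜 : ℕ → Submodule R A) [GradedAlgebra 𝒜]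
    (E : Set A) (hE : E ⊆ (HomogeneousIdeal.irrelevant 𝒜).toIdeal) :
    (HomogeneousIdeal.irrelevant 𝒜).toIdeal ⊓
        (ProjectiveSpectrum.vanishingIdeal (ProjectiveSpectrum.zeroLocus 𝒜 E)).toIdeal =
      (HomogeneousIdeal.irrelevant 𝒜).toIdeal ⊓ (Ideal.homogeneousHull 𝒜 (Ideal.span E)).toIdeal.radical := by
  ext f
  simp only [Ideal.mem_inf]
  refine and_congr_right fun hf => ?_
  constructor
  · intro h
    by_contra hn
    obtain ⟨x, hIx, hx⟩ := Groth.Agent.H1.PB.exists_relevant_prime 𝒜 _ f hf hn
    have hxE : x ∈ ProjectiveSpectrum.zeroLocus 𝒜 E := by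
      intro e he
      exact hIx (Ideal.le_toIdeal_homogeneousHull 𝒜 _ (Ideal.subset_span he))
    have := (ProjectiveSpectrum.mem_vanishingIdeal _ f).mp h x hxE
    exact hx this
  · intro h
    rw [HomogeneousIdeal.mem_iff, ProjectiveSpectrum.mem_vanishingIdeal]
    intro x hx
    have h1 : Ideal.span E ≤ x.asHomogeneousIdeal.toIdeal := Ideal.span_le.mpr hx
    have h2 : Ideal.homogeneousHull 𝒜 (Ideal.span E) ≤ x.asHomogeneousIdeal :=
      (Ideal.homogeneousHull.gc 𝒜 _ _).mpr h1
    exact (Ideal.IsPrime.radical_le_iff x.isPrime).mpr h2 h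

end Groth.Agent.S4405
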