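import Groth.Statements.S4411
import Groth.Agent.Lib.Helper1.GradedMonomial
import Mathlib

set_option autoImplicit false
universe u
open EGA2

namespace Groth.Agent.S4411

section
open Groth.Agent.H1.GM
variable {R A : Type u} [CommRing R] [CommRing A] [Algebra R A] (𝒜 : ℕ → Submodule R A) [GradedAlgebra 𝒜]
    {B : Type u} [CommRing B] [Algebra R B] (ℬ : ℕ → Submodule R B) [GradedAlgebra ℬ]

/-- degree of an exponent vector -/
noncomputable def tdeg {ι : Type u} (α : ι →₀ ℕ) : ℕ := α.sum fun _ a => a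

theorem mon_mem_of_dvd {ι : Type u} [Fintype ι] (f : ι → A) (k : ι → ℕ) (d : ℕ) (hd : 0 < d)
    (T : Subring A) (h1 : ∀ i, f i ^ d ∈ T)
    (h2 : ∀ β : ι →₀ ℕ, (∀ i, β i < d) → d ∣ wt k β → mon f β ∈ T) :
    ∀ (N : ℕ) (α : ι →₀ ℕ), tdeg α = N → d ∣ wt k α → mon f α ∈ T := by
  classical
  intro N
  induction N using Nat.strong_induction_on with
  | _ N ih =>
    intro α hαN hdvd
    by_cases hsmall : ∀ i, α i < d
    · exact h2 α hsmall hdvd
    · push Not at hsmall
      obtain ⟨i, hi⟩ := hsmall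
      have hsplit : α = Finsupp.single i d + (α - Finsupp.single i d) := by
        rw [add_tsub_cancel_of_le]
        rw [Finsupp.single_le_iff]
        exact hi
      set α' := α - Finsupp.single i d with hα'
      have hdeg : tdeg α = d + tdeg α' := by
        unfold tdeg
        conv_lhs => rw [hsplit]
        rw [Finsupp.sum_add_index' (fun _ => rfl) (fun _ _ _ => rfl), Finsupp.sum_single_index rfl]
      have hwt : wt k α = d * k i + wt k α' := by
        conv_lhs => rw [hsplit]
        rw [wt_add, wt_single]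
      have hdvd' : d ∣ wt k α' := by
        have : d ∣ d * k i := dvd_mul_right d (k i)
        exact (Nat.dvd_add_right this).mp (hwt ▸ hdvd)
      rw [hsplit, mon_add, mon_single]
      exact T.mul_mem (h1 i) (ih (tdeg α') (by omega) α' rfl hdvd')
end

/-- Let S be a ring graded in nonnegative degrees which is an S_0-algebra of finite type, d > 0, and
S^{(d)} the graded ring whose degree-n part is S_{nd} (given here as any graded ring S' with an
injective algebra homomorphism φ : S' → S carrying S'_n onto S_{nd} for every n). Then S^{(d)} is an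
algebra of finite type over its degree-zero part S'_0 (which φ identifies with S_0). -/
theorem result {R A : Type u} [CommRing R] [CommRing A] [Algebra R A] (𝒜 : ℕ → Submodule R A) [GradedAlgebra 𝒜] [Algebra.FiniteType (𝒜 0) A]
    {B : Type u} [CommRing B] [Algebra R B] (ℬ : ℕ → Submodule R B) [GradedAlgebra ℬ]
    (d : ℕ) (hd : 0 < d) (φ : B →ₐ[R] A) (hφ : Function.Injective φ)
    (hdeg : ∀ n : ℕ, Submodule.map φ.toLinearMap (ℬ n) = 𝒜 (n * d)) :
    Algebra.FiniteType (ℬ 0) B := by
  classical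
  obtain ⟨ι, _, f, k, hk, hf, hgen⟩ := Groth.Agent.H1.GM.exists_generators 𝒜
  -- preimages of f i ^ d
  have h1 : ∀ i, ∃ b : B, φ b = f i ^ d := by
    intro i
    have hmem : f i ^ d ∈ 𝒜 (k i * d) := by
      have := SetLike.pow_mem_graded d (hf i)
      rwa [smul_eq_mul, mul_comm] at this
    rw [← hdeg (k i)] at hmem
    obtain ⟨b, _, hb⟩ := hmem
    exact ⟨b, hb⟩
  choose bgen hbgen using h1
  -- preimages of small monomials
  let βof : (ι → Fin d) → (ι →₀ ℕ) := fun b => Finsupp.equivFunOnFinite.symm fun i => (b i).val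
  have h2 : ∀ b : ι → Fin d, ∃ c : B, d ∣ Groth.Agent.H1.GM.wt k (βof b) →
      φ c = Groth.Agent.H1.GM.mon f (βof b) := by
    intro b
    by_cases hdv : d ∣ Groth.Agent.H1.GM.wt k (βof b)
    · obtain ⟨e, he⟩ := hdv
      have hmem := Groth.Agent.H1.GM.mon_mem 𝒜 hf (βof b)
      rw [he, mul_comm, ← hdeg e] at hmem
      obtain ⟨c, _, hc⟩ := hmem
      exact ⟨c, fun _ => hc⟩
    · exact ⟨0, fun h => absurd h hdv⟩
  choose cgen hcgen using h2
  let S : Set B := Set.range bgen ∪ Set.range cgen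
  have hSfin : S.Finite := (Set.finite_range _).union (Set.finite_range _)
  refine ⟨⟨hSfin.toFinset, ?_⟩⟩
  rw [Set.Finite.coe_toFinset, eq_top_iff]
  intro b _
  -- the subring φ(adjoin)
  let T : Subring A := (Algebra.adjoin (ℬ 0) S).toSubring.map φ.toRingHom
  have hTmem : ∀ y, y ∈ Algebra.adjoin (ℬ 0) S → φ y ∈ T := fun y hy => ⟨y, hy, rfl⟩
  have hT0 : ∀ c ∈ 𝒜 0, c ∈ T := by
    intro c hc
    have : c ∈ 𝒜 (0 * d) := by rwa [zero_mul]
    rw [← hdeg 0] at this
    obtain ⟨c', hc', rfl⟩ := this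
    exact hTmem c' (Subalgebra.algebraMap_mem _ (⟨c', hc'⟩ : ℬ 0))
  have hmonT : ∀ α : ι →₀ ℕ, d ∣ Groth.Agent.H1.GM.wt k α → Groth.Agent.H1.GM.mon f α ∈ T := by
    intro α hα
    refine mon_mem_of_dvd f k d hd T ?_ ?_ (tdeg α) α rfl hα
    · intro i
      rw [← hbgen i]
      exact hTmem _ (Algebra.subset_adjoin (Or.inl ⟨i, rfl⟩))
    · intro β hβ hdv
      let b : ι → Fin d := fun i => ⟨β i, hβ i⟩
      have hb : βof b = β := by
        ext i; simp [βof, b]
      rw [← hb] at hdv ⊢
      rw [← hcgen b hdv]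
      exact hTmem _ (Algebra.subset_adjoin (Or.inr ⟨b, rfl⟩))
  -- each homogeneous component of b is in the adjoin
  rw [← DirectSum.sum_support_decompose ℬ b]
  refine Subalgebra.sum_mem _ fun n _ => ?_
  have hbn : φ (DirectSum.decompose ℬ b n : B) ∈ 𝒜 (n * d) := by
    rw [← hdeg n]
    exact ⟨_, (DirectSum.decompose ℬ b n).2, rfl⟩
  have := Groth.Agent.H1.GM.le_of_monomials' 𝒜 hf hgen (n * d) T.toSubsemiring.toAddSubmonoid
    (fun c hc t ht => T.mul_mem (hT0 c hc) ht)
    (fun α hα => hmonT α (hα ▸ dvd_mul_left d n)) _ hbn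
  obtain ⟨y, hy, hyx⟩ := this
  have : y = (DirectSum.decompose ℬ b n : B) := hφ hyx
  rw [← this]; exact hy

end Groth.Agent.S4411
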