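import Groth.Statements.S4412
import Groth.Agent.S4411
import Groth.Agent.S4391
import Mathlib

set_option autoImplicit false
universe u
open EGA2

namespace Groth.Agent.S4412

/-- Let S be a ring graded in nonnegative degrees which is Noetherian, d > 0, and S^{(d)} the graded
ring with degree-n part S_{nd} (given as a graded ring S' with an injective algebra homomorphism φ :
S' → S carrying S'_n onto S_{nd} for every n). Then S^{(d)} is Noetherian. -/
theorem result {R A : Type u} [CommRing R] [CommRing A] [Algebra R A] (𝒜 : ℕ → Submodule R A) [GradedAlgebra 𝒜] [IsNoetherianRing A]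
    {B : Type u} [CommRing B] [Algebra R B] (ℬ : ℕ → Submodule R B) [GradedAlgebra ℬ]
    (d : ℕ) (hd : 0 < d) (φ : B →ₐ[R] A) (hφ : Function.Injective φ)
    (hdeg : ∀ n : ℕ, Submodule.map φ.toLinearMap (ℬ n) = 𝒜 (n * d)) :
    IsNoetherianRing B := by
  obtain ⟨h0, hft⟩ := (Groth.Agent.S4391.result 𝒜).mp inferInstance
  have hftB : Algebra.FiniteType (ℬ 0) B := Groth.Agent.S4411.result 𝒜 ℬ d hd φ hφ hdeg
  refine (Groth.Agent.S4391.result ℬ).mpr ⟨?_, hftB⟩
  have hmem : ∀ x : ℬ 0, φ x ∈ 𝒜 0 := by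
    intro x
    have : φ x ∈ 𝒜 (0 * d) := by
      rw [← hdeg 0]; exact ⟨x, x.2, rfl⟩
    rwa [zero_mul] at this
  let ψ : ℬ 0 →+* 𝒜 0 :=
    { toFun := fun x => ⟨φ x, hmem x⟩
      map_one' := Subtype.ext (by simp)
      map_mul' := fun x y => Subtype.ext (by simp)
      map_zero' := Subtype.ext (by simp)
      map_add' := fun x y => Subtype.ext (by simp) }
  have hbij : Function.Bijective ψ := by
    constructor
    · intro x y hxy
      apply Subtype.ext
      apply hφ
      exact congrArg Subtype.val hxy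
    · rintro ⟨y, hy⟩
      have : y ∈ 𝒜 (0 * d) := by rwa [zero_mul]
      rw [← hdeg 0] at this
      obtain ⟨x, hx, rfl⟩ := this
      exact ⟨⟨x, hx⟩, rfl⟩
  exact isNoetherianRing_of_ringEquiv (𝒜 0) (RingEquiv.ofBijective ψ hbij).symm

end Groth.Agent.S4412
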