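import Groth.Statements.S4413
import Groth.Agent.Lib.Lead.QC.PullInv

set_option autoImplicit false
universe u
open CategoryTheory CategoryTheory.Limits AlgebraicGeometry
open EGA2

namespace Groth.Agent.S4413

/-- Let u : Z → S be a morphism of schemes, L an invertible O_S-module, s : O_S → L a global section of
L and s' the section of u^*(L) corresponding to s, i.e. u^*(s) composed with an isomorphism O_Z ≅
u^*(O_S) (the locus in question does not depend on that choice). Then the open Z_{s'} of Z where s'
generates u^*(L) is the preimage u⁻¹(S_s) of the open where s generates L. -/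
theorem result {Z S : Scheme.{u}} (u : Z ⟶ S) (L : S.Modules) (hL : PicF.IsInvertible L)
    (s : Coh.structureModule S ⟶ L)
    (e : Coh.structureModule Z ≅ (Scheme.Modules.pullback u).obj (Coh.structureModule S)) :
    CohB1.genLocus ((Scheme.Modules.pullback u).obj L) (e.hom ≫ (Scheme.Modules.pullback u).map s) = u ⁻¹ᵁ CohB1.genLocus L s := by
  have h1 : ∀ σ : Coh.structureModule Z ⟶ (Scheme.Modules.pullback u).obj L,
      ∀ ε : Coh.structureModule Z ≅ Coh.structureModule Z,
      CohB1.genLocus _ (ε.hom ≫ σ) = CohB1.genLocus _ σ := by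
    intro σ ε
    unfold CohB1.genLocus
    congr 1
    ext U
    simp only [Set.mem_setOf_eq, CategoryTheory.Functor.map_comp]
    constructor
    · intro h
      have h2 : (Scheme.Modules.restrictFunctor U.ι).map σ =
          (Scheme.Modules.restrictFunctor U.ι).map ε.inv ≫
            ((Scheme.Modules.restrictFunctor U.ι).map ε.hom ≫
              (Scheme.Modules.restrictFunctor U.ι).map σ) := by
        rw [← Category.assoc, ← CategoryTheory.Functor.map_comp, Iso.inv_hom_id, CategoryTheory.Functor.map_id, Category.id_comp]
      rw [h2]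
      infer_instance
    · intro h
      infer_instance
  have h2 : LD.QC.pbHom u s = LD.QC.pbHom u (𝟙 (Coh.structureModule S)) ≫
      (Scheme.Modules.pullback u).map s := by
    apply LD.QC.unitHom_ext
    rw [LD.QC.pbHom, LD.QC.sectionOfHom_homOfSection, LD.QC.pbHom]
    change _ = ((Scheme.Modules.pullback u).map s).app ⊤
      (LD.QC.sectionOfHom (LD.QC.homOfSection _ _))
    rw [LD.QC.sectionOfHom_homOfSection, LD.QC.pbSec_naturality]
    rfl
  have h3 : e.hom = (e ≪≫ LD.QC.pbUnitIso u).hom ≫ LD.QC.pbHom u (𝟙 (Coh.structureModule S)) := by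
    have : (LD.QC.pbUnitIso u).hom ≫ LD.QC.pbHom u (𝟙 (Coh.structureModule S)) = 𝟙 _ := by
      unfold LD.QC.pbUnitIso
      simp
    rw [Iso.trans_hom, Category.assoc, this, Category.comp_id]
  rw [h3, Category.assoc, ← h2, h1, LD.QC.genLocus_pbHom u hL]

end Groth.Agent.S4413
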