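import Groth.Statements.S4416
import Mathlib
import Groth.Agent.H4.ChowE
import Groth.Agent.S4419
import Groth.Agent.S4418

set_option autoImplicit false
universe u
open CategoryTheory CategoryTheory.Limits AlgebraicGeometry
open EGA2

namespace Groth.Agent.S4416

/-- Let r : X → S be separated of finite type, and assume either S Noetherian, or S quasi-compact and
separated with X having finitely many irreducible components. Then r is proper if and only if there
are a scheme X' and a surjective morphism f : X' → X with f ≫ r projective. Moreover, when r is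
proper, f can be chosen so that in addition there is a dense open U of X with f⁻¹(U) dense in X'
over which f is an isomorphism, and with X' irreducible (resp. reduced) if X is. (The published
statement also remarks that f is then projective; that is not stated here.) -/
theorem result {X S : Scheme.{u}} (r : X ⟶ S) [IsSeparated r] [LocallyOfFiniteType r] [QuasiCompact r]
    (h : IsNoetherian S ∨ (CompactSpace S ∧ S.IsSeparated ∧ (irreducibleComponents X).Finite)) :
    (IsProper r ↔ ∃ (X' : Scheme.{u}) (f : X' ⟶ X), Surjective f ∧ RelProj.IsProjective (f ≫ r)) ∧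
    (IsProper r → ∃ (X' : Scheme.{u}) (f : X' ⟶ X), Surjective f ∧ RelProj.IsProjective (f ≫ r) ∧
        (∃ U : X.Opens, Dense (U : Set X) ∧ Dense ((f ⁻¹ᵁ U : X'.Opens) : Set X') ∧ IsIso (f ∣_ U)) ∧
        (IrreducibleSpace X → IrreducibleSpace X') ∧ (IsReduced X → IsReduced X')) := by
  have key : ∃ (_ : CompactSpace S) (_ : QuasiSeparatedSpace S),
      (irreducibleComponents X).Finite := by
    rcases h with h | ⟨h1, h2, h3⟩
    · haveI := h
      haveI : IsNoetherian X :=
        { toIsLocallyNoetherian := LocallyOfFiniteType.isLocallyNoetherian r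
          toCompactSpace := QuasiCompact.compactSpace_of_compactSpace r }
      exact ⟨inferInstance, inferInstance, finite_irreducibleComponents_of_isNoetherian⟩
    · haveI := h2
      exact ⟨h1, inferInstance, h3⟩
  have hY : (CompactSpace S ∧ S.IsSeparated) ∨ TopologicalSpace.NoetherianSpace S := by
    rcases h with h | ⟨h1, h2, h3⟩
    · haveI := h
      exact Or.inr inferInstance
    · exact Or.inl ⟨h1, h2⟩
  obtain ⟨_, _, hfin⟩ := key
  have main : IsProper r → ∃ (X' : Scheme.{u}) (f : X' ⟶ X), Surjective f ∧
      RelProj.IsProjective (f ≫ r) ∧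
      (∃ U : X.Opens, Dense (U : Set X) ∧ Dense ((f ⁻¹ᵁ U : X'.Opens) : Set X') ∧
        IsIso (f ∣_ U)) ∧
      (IrreducibleSpace X → IrreducibleSpace X') ∧ (IsReduced X → IsReduced X') := by
    intro hr
    obtain ⟨n, X', π, j, Ω, hj, hqc, hjb, hπ, hprop, hsurj, hΩd, hdense, hiso, hred, hirr, hqp,
      hp⟩ := Groth.Agent.H4.ChowE.chow_fin r hfin
    haveI : IsProper (π ≫ r) := inferInstance
    exact ⟨X', π, hsurj, Groth.Agent.S4419.result hY (π ≫ r) hqp, ⟨Ω, hΩd, hdense, hiso⟩, hirr,
      hred⟩
  refine ⟨⟨fun hr => ?_, ?_⟩, main⟩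
  · obtain ⟨X', f, hf, hp, _⟩ := main hr
    exact ⟨X', f, hf, hp⟩
  · rintro ⟨X', f, hf, hp⟩
    haveI := hf
    haveI : IsProper (f ≫ r) := (Groth.Agent.S4418.result (f ≫ r) hp).2
    haveI : UniversallyClosed r := UniversallyClosed.of_comp_surjective f r
    exact { }

end Groth.Agent.S4416
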