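import Groth.Statements.S4417
import Groth.Agent.Lib.Lead.QC.Coprod
import Groth.Agent.Lib.Lead.QC.AmpleFamily
import Groth.Agent.Lib.Lead.QC.PullBC
import Groth.Agent.S4385

set_option autoImplicit false
universe u
open CategoryTheory CategoryTheory.Limits AlgebraicGeometry
open EGA2

namespace Groth.Agent.S4417

/-- Let f : X → Y and f' : X' → Y be quasi-projective morphisms (of finite type, each admitting a
relatively ample module). Then the morphism X ⨿ X' → Y restricting to f and f' on the two summands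
is quasi-projective. -/
theorem result {X X' Y : Scheme.{u}} (f : X ⟶ Y) (f' : X' ⟶ Y)
    (hf : RelProj.IsQuasiProjective f) (hf' : RelProj.IsQuasiProjective f') :
    RelProj.IsQuasiProjective (coprod.desc f f') := by
  obtain ⟨hft, hqc, L, hL⟩ := hf
  obtain ⟨hft', hqc', L', hL'⟩ := hf'
  haveI := hft
  haveI := hqc
  haveI := hft'
  haveI := hqc'
  let L'' := LD.QC.coprodMod X X' L L'
  let e : (Scheme.Modules.pullback (coprod.inl : X ⟶ X ⨿ X')).obj L'' ≅ L :=
    ((Scheme.Modules.restrictFunctorIsoPullback (coprod.inl : X ⟶ X ⨿ X')).app L'').symm ≪≫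
      LD.QC.coprodModRestrictInl L L'
  let e' : (Scheme.Modules.pullback (coprod.inr : X' ⟶ X ⨿ X')).obj L'' ≅ L' :=
    ((Scheme.Modules.restrictFunctorIsoPullback (coprod.inr : X' ⟶ X ⨿ X')).app L'').symm ≪≫
      LD.QC.coprodModRestrictInr L L'
  have hLinv := LD.QC.isInvertible_of_isRelAmple f L hL
  have hL'inv := LD.QC.isInvertible_of_isRelAmple f' L' hL'
  have h := (Groth.Agent.S4385.result f f' L'' (LD.QC.isInvertible_of_iso e.symm hLinv)
    (LD.QC.isInvertible_of_iso e'.symm hL'inv)).mpr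
      ⟨LD.QC.isRelAmple_of_iso f e.symm hL, LD.QC.isRelAmple_of_iso f' e'.symm hL'⟩
  refine ⟨?_, h.1, L'', h⟩
  apply IsZariskiLocalAtSource.of_openCover (P := @LocallyOfFiniteType) (coprodOpenCover.{u, 0} X X')
  rintro (⟨⟩ | ⟨⟩)
  · change LocallyOfFiniteType (coprod.inl ≫ coprod.desc f f')
    rw [coprod.inl_desc]; exact hft
  · change LocallyOfFiniteType (coprod.inr ≫ coprod.desc f f')
    rw [coprod.inr_desc]; exact hft'

end Groth.Agent.S4417
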