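import Groth.Statements.S4420
import Mathlib
import Groth.Agent.S4418
import Groth.Agent.S4414
import Groth.Agent.S9717
import Groth.Agent.S4421
import Groth.Agent.H4.MvGr

set_option autoImplicit false
universe u
open CategoryTheory CategoryTheory.Limits AlgebraicGeometry
open EGA2

namespace Groth.Agent.S4420

/-- Let Y be a quasi-compact separated scheme possessing an ample invertible O_Y-module and f : X → Y a
morphism. Then f is projective if and only if there are r ≥ 0 and a closed immersion of X into
projective r-space over Y compatible with the projections (f is H-projective). -/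
theorem result {X Y : Scheme.{u}} [CompactSpace Y] [Y.IsSeparated]
    (hY : ∃ M : Y.Modules, CohB1.IsAmple M) (f : X ⟶ Y) :
    RelProj.IsProjective f ↔ RelProj.IsHProjective f := by
  constructor
  · intro hf
    obtain ⟨hq, hprop⟩ := Groth.Agent.S4418.result f hf
    obtain ⟨-, -, r, i, hi, hcomp⟩ := (Groth.Agent.S4414.result hY f).mp hq
    have h0 := Groth.Agent.H4.MvGr.isProjective_toSpec r (ULift.{u} ℤ)
    have h1 : RelProj.IsProjective (CohB1.ProjSpaceOver.toBase r Y) :=
      Groth.Agent.S4421.result (CohB1.ProjSpace.toSpec r (ULift.{u} ℤ)) h0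
        (specULiftZIsTerminal.from Y)
    haveI : IsProper (CohB1.ProjSpaceOver.toBase r Y) := (Groth.Agent.S4418.result _ h1).2
    haveI : IsProper (i ≫ CohB1.ProjSpaceOver.toBase r Y) := by rw [hcomp]; exact hprop
    haveI : IsProper i := IsProper.of_comp i (CohB1.ProjSpaceOver.toBase r Y)
    haveI := hi
    have hcl : IsClosed (Set.range i) := by
      rw [← Set.image_univ]
      exact i.isClosedMap _ isClosed_univ
    exact ⟨r, i, IsClosedImmersion.of_isPreimmersion i hcl, hcomp⟩
  · exact Groth.Agent.S9717.result f

end Groth.Agent.S4420
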