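import Groth.Statements.S4422
import Mathlib
import Groth.Agent.H4.VAProdFT
import Groth.Agent.H4.PE
import Groth.Agent.H4.ProjCrit
import Groth.Agent.S4418
import Groth.Agent.S8259

set_option autoImplicit false
universe u
open CategoryTheory CategoryTheory.Limits AlgebraicGeometry
open EGA2

namespace Groth.Agent.S4422

/-- Let a : Y → S and a' : Y' → S be morphisms and f : X → Y, f' : X' → Y' projective morphisms (so X
and X' are S-schemes through f ≫ a and f' ≫ a'). Then the product f ×_S f' : X ×_S X' → Y ×_S Y' is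
projective. -/
theorem result {X X' Y Y' S : Scheme.{u}} (a : Y ⟶ S) (a' : Y' ⟶ S) (f : X ⟶ Y) (f' : X' ⟶ Y')
    (hf : RelProj.IsProjective f) (hf' : RelProj.IsProjective f') :
    RelProj.IsProjective (pullback.map (f ≫ a) (f' ≫ a') a a' f f' (𝟙 S) (Category.comp_id (f ≫ a)) (Category.comp_id (f' ≫ a'))) := by
  obtain ⟨E₁, 𝒯₁, j₁, B₁, π₁, chart₁, i₁, hE₁, hft₁, hj₁, hB₁, hci₁, hi₁⟩ :=
    Groth.Agent.H4.PE.exists_bundle_of_isProjective f hf
  obtain ⟨E₂, 𝒯₂, j₂, B₂, π₂, chart₂, i₂, hE₂, hft₂, hj₂, hB₂, hci₂, hi₂⟩ :=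
    Groth.Agent.H4.PE.exists_bundle_of_isProjective f' hf'
  haveI := hci₁
  haveI := hci₂
  haveI hp₁ : IsProper f := (Groth.Agent.S4418.result f hf).2
  haveI hp₂ : IsProper f' := (Groth.Agent.S4418.result f' hf').2
  obtain ⟨E, hE, hft, 𝒮, j, hj, B, π, chart, hB, r, himm, hr⟩ :=
    Groth.Agent.H4.VAProdFT.main_ft a a' f f' (pullback.fst (f ≫ a) (f' ≫ a'))
      (pullback.snd (f ≫ a) (f' ≫ a')) (IsPullback.of_hasPullback _ _)
      (pullback.fst a a') (pullback.snd a a') (IsPullback.of_hasPullback _ _)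
      (pullback.map (f ≫ a) (f' ≫ a') a a' f f' (𝟙 S) (Category.comp_id (f ≫ a))
        (Category.comp_id (f' ≫ a')))
      (pullback.lift_fst _ _ _) (pullback.lift_snd _ _ _)
      E₁ hE₁ hft₁ 𝒯₁ j₁ hj₁ π₁ chart₁ hB₁ i₁ inferInstance hi₁
      E₂ hE₂ hft₂ 𝒯₂ j₂ hj₂ π₂ chart₂ hB₂ i₂ inferInstance hi₂
  haveI : MorphismProperty.IsStableUnderComposition @IsProper.{u} :=
    (inferInstance : MorphismProperty.IsMultiplicative @IsProper.{u}).toIsStableUnderComposition
  haveI hprop : IsProper (pullback.map (f ≫ a) (f' ≫ a') a a' f f' (𝟙 S)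
      (Category.comp_id (f ≫ a)) (Category.comp_id (f' ≫ a'))) :=
    MorphismProperty.pullbackMap (P := @IsProper.{u}) hp₁ hp₂ rfl rfl
  haveI : IsSeparated π := Groth.Agent.S8259.result 𝒮 π chart hB
  haveI : IsProper r := by
    haveI : IsProper (r ≫ π) := by rw [hr]; exact hprop
    exact IsProper.of_comp r π
  haveI := himm
  haveI : IsClosedImmersion r := Groth.Agent.H4.ProjCrit.isClosedImmersion_of_isProper r
  haveI : E.IsQuasicoherent := hE
  exact Groth.Agent.H4.PE.isProjective_of_bundle _ π chart r hft hj hB hr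

end Groth.Agent.S4422
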