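import Groth.Statements.S4423
import Mathlib
import Groth.Agent.H4.ClIm7
import Groth.Agent.S4421

set_option autoImplicit false
universe u
open CategoryTheory CategoryTheory.Limits AlgebraicGeometry
open EGA2

namespace Groth.Agent.S4423

/-- Let f : X → Y and g : Y → Z be morphisms with f ≫ g projective and g separated. Then f is
projective. -/
theorem result {X Y Z : Scheme.{u}} (f : X ⟶ Y) (g : Y ⟶ Z) [IsSeparated g]
    (h : RelProj.IsProjective (f ≫ g)) : RelProj.IsProjective f := by
  have hsnd := Groth.Agent.S4421.result (f ≫ g) h g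
  obtain ⟨𝒮, P, p, chart, e, hgen, hft, hP, he⟩ := hsnd
  obtain ⟨γ, hγ⟩ : ∃ γ : X ⟶ pullback (f ≫ g) g, γ = pullback.lift (𝟙 X) f (by simp) := ⟨_, rfl⟩
  have hγ1 : γ ≫ pullback.fst (f ≫ g) g = 𝟙 X := by rw [hγ]; exact pullback.lift_fst _ _ _
  have hγ2 : γ ≫ pullback.snd (f ≫ g) g = f := by rw [hγ]; exact pullback.lift_snd _ _ _
  haveI : IsSeparated (pullback.fst (f ≫ g) g) := inferInstance
  haveI : IsClosedImmersion (γ ≫ pullback.fst (f ≫ g) g) := by rw [hγ1]; infer_instance
  haveI : IsClosedImmersion γ := IsClosedImmersion.of_comp γ (pullback.fst (f ≫ g) g)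
  haveI : IsClosedImmersion (γ ≫ e.hom) := inferInstance
  have key := Groth.Agent.H4.ClIm7.closed_isProjective 𝒮 hgen hft p chart hP (γ ≫ e.hom)
  rwa [Category.assoc, he, hγ2] at key

end Groth.Agent.S4423
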