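import Groth.Statements.S4425
import Mathlib
import Groth.Agent.H4.ClIm8
import Groth.Agent.S12478
import Groth.Agent.S12485
import Groth.Agent.S5721
import Groth.Agent.S8284
import Groth.Agent.S8286
import Groth.Agent.Lib.Lead.QC.AmpleFamily
import Groth.Agent.Lib.Lead.QC.TensorPow
import Groth.Agent.Lib.Lead.QC.PullInv

set_option autoImplicit false
universe u
open CategoryTheory CategoryTheory.Limits AlgebraicGeometry
open EGA2

namespace Groth.Agent.S4425

/-- (a) ⇔ (c): let Y be a quasi-compact separated scheme and f : X → Y a morphism. Then f is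
quasi-projective if and only if f is of finite type and there are a quasi-coherent graded
O_Y-algebra 𝒮, generated by its degree-one part with that part of finite type, a relative
homogeneous spectrum p : P → Y of 𝒮 (given with its charts over affine opens), and an open immersion
j : X → P with dense image such that j ≫ p = f. (The published statement also allows Y whose
underlying space is Noetherian, and adds a third equivalent condition, an immersion into some P(E);
this row assumes Y quasi-compact and separated and states only the equivalence of the other two.) -/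
theorem result {X Y : Scheme.{u}} [CompactSpace Y] [Y.IsSeparated] (f : X ⟶ Y) :
    RelProj.IsQuasiProjective f ↔
      (LocallyOfFiniteType f ∧ QuasiCompact f ∧
        ∃ (𝒮 : RelProj.QCGrAlg Y) (P : Scheme.{u}) (p : P ⟶ Y)
          (chart : ∀ (U : Y.Opens) (hU : IsAffineOpen U), ((p ⁻¹ᵁ U : P.Opens) : Scheme.{u}) ≅ Proj (𝒮.deg U hU))
          (j : X ⟶ P), 𝒮.IsGenDegOne ∧ 𝒮.IsFTDeg 1 ∧ RelProj.IsRelProj 𝒮 p chart ∧
            IsOpenImmersion j ∧ Dense (Set.range j.base) ∧ j ≫ p = f) := by
  constructor
  · rintro ⟨hlft, hqc, L, hL⟩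
    refine ⟨hlft, hqc, ?_⟩
    haveI := hlft
    haveI := hqc
    have hinv : PicF.IsInvertible L := Groth.Agent.LD.QC.isInvertible_of_isRelAmple f L hL
    obtain ⟨n₀, -, hva⟩ := Groth.Agent.S12478.result f L hinv hL
    have hva' := hva n₀ le_rfl
    have hinvn : PicF.IsInvertible (CohB1.tensorPow L n₀) :=
      Groth.Agent.LD.QC.isInvertible_tensorPow hinv n₀
    obtain ⟨𝒮, P, p, chart, O1, lam, i, h1, h2, h3, -, h5, h6, h7, -⟩ :=
      Groth.Agent.H4.ClIm8.open_dense_of_veryAmple f (CohB1.tensorPow L n₀) hinvn hva'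
    exact ⟨𝒮, P, p, chart, i, h1, h2, h3, h5, h6, h7⟩
  · rintro ⟨hlft, hqc, 𝒮, P, p, chart, j, hgen, hft, hP, hj, -, hjp⟩
    haveI := hlft
    haveI := hqc
    haveI := hj
    refine ⟨hlft, hqc, ?_⟩
    obtain ⟨O1, lam, hO1⟩ := Groth.Agent.S8284.result 𝒮 p chart hP 1
    have hO1inv : PicF.IsInvertible O1 := Groth.Agent.S8286.result 𝒮 hgen p chart hP 1 O1 lam hO1
    have hLinv : PicF.IsInvertible ((Scheme.Modules.pullback j).obj O1) :=
      Groth.Agent.LD.QC.isInvertible_pullback j hO1inv
    have hva := Groth.Agent.S12485.result f ((Scheme.Modules.pullback j).obj O1) hLinv 𝒮 hgen p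
      chart hP O1 lam hO1 j hjp (Iso.refl _)
    exact ⟨_, Groth.Agent.S5721.result f _ hLinv hva⟩

end Groth.Agent.S4425
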