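import Groth.Statements.S4427
import Groth.Agent.Lib.Lead.QC.AffineAmple

set_option autoImplicit false
universe u
open CategoryTheory CategoryTheory.Limits AlgebraicGeometry
open EGA2

namespace Groth.Agent.S4427

/-- Let Y be a scheme and L an invertible O_Y-module. Then L is ample relative to the identity morphism
of Y. -/
theorem result (Y : Scheme.{u}) (L : Y.Modules) (hL : PicF.IsInvertible L) :
    RelAmple.IsRelAmple (𝟙 Y) L := by
  refine ⟨inferInstance, fun V => ?_⟩
  haveI : IsAffine ((𝟙 Y) ⁻¹ᵁ V.1 : Scheme.{u}) := V.2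
  exact LD.QC.isAmple_of_isAffine _ (LD.QC.isInvertible_restrict _ hL)

end Groth.Agent.S4427
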