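import Groth.Statements.S4428
import Groth.Agent.Lib.Lead.QC.BoxAmple
import Groth.Agent.S4380
import Groth.Agent.S4381

set_option autoImplicit false
universe u
open CategoryTheory CategoryTheory.Limits AlgebraicGeometry
open EGA2

namespace Groth.Agent.S4428

/-- Let a₁ : Y₁ → S and a₂ : Y₂ → S be morphisms, f₁ : X₁ → Y₁ and f₂ : X₂ → Y₂ quasi-compact morphisms
(so X₁, X₂ are S-schemes through f_i ≫ a_i), and L₁, L₂ modules on X₁, X₂ ample relative to f₁, f₂.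
Then the external tensor product p₁^*(L₁) ⊗ p₂^*(L₂) on X₁ ×_S X₂ (p₁, p₂ the projections) is ample
relative to the product morphism f₁ ×_S f₂ : X₁ ×_S X₂ → Y₁ ×_S Y₂. -/
theorem result {X₁ X₂ Y₁ Y₂ S : Scheme.{u}} (a₁ : Y₁ ⟶ S) (a₂ : Y₂ ⟶ S)
    (f₁ : X₁ ⟶ Y₁) (f₂ : X₂ ⟶ Y₂) [QuasiCompact f₁] [QuasiCompact f₂] (L₁ : X₁.Modules) (L₂ : X₂.Modules)
    (hL₁ : RelAmple.IsRelAmple f₁ L₁) (hL₂ : RelAmple.IsRelAmple f₂ L₂) :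
    RelAmple.IsRelAmple
      (pullback.map (f₁ ≫ a₁) (f₂ ≫ a₂) a₁ a₂ f₁ f₂ (𝟙 S) (Category.comp_id (f₁ ≫ a₁)) (Category.comp_id (f₂ ≫ a₂)))
      (CohB1.tensorMod ((Scheme.Modules.pullback (pullback.fst (f₁ ≫ a₁) (f₂ ≫ a₂))).obj L₁)
        ((Scheme.Modules.pullback (pullback.snd (f₁ ≫ a₁) (f₂ ≫ a₂))).obj L₂)) := by
  let g₁ := f₁ ≫ a₁
  let g₂ := f₂ ≫ a₂
  let F : pullback g₁ g₂ ⟶ pullback a₁ a₂ :=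
    pullback.map g₁ g₂ a₁ a₂ f₁ f₂ (𝟙 S) (Category.comp_id g₁) (Category.comp_id g₂)
  let p₁ := pullback.fst g₁ g₂
  let p₂ := pullback.snd g₁ g₂
  let q₁ := pullback.fst a₁ a₂
  let q₂ := pullback.snd a₁ a₂
  have hF₁ : F ≫ q₁ = p₁ ≫ f₁ := pullback.lift_fst _ _ _
  have hF₂ : F ≫ q₂ = p₂ ≫ f₂ := pullback.lift_snd _ _ _
  have hF₁' : ∀ z, q₁ (F z) = f₁ (p₁ z) := fun z => by
    rw [← Scheme.Hom.comp_apply, ← Scheme.Hom.comp_apply, hF₁]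
  have hF₂' : ∀ z, q₂ (F z) = f₂ (p₂ z) := fun z => by
    rw [← Scheme.Hom.comp_apply, ← Scheme.Hom.comp_apply, hF₂]
  haveI hFqc : QuasiCompact F :=
    MorphismProperty.pullbackMap (P := @QuasiCompact) (f' := a₁) (g' := a₂)
      (i₁ := f₁) (i₂ := f₂) inferInstance inferInstance rfl rfl
  let M := CohB1.tensorMod ((Scheme.Modules.pullback p₁).obj L₁)
    ((Scheme.Modules.pullback p₂).obj L₂)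
  change RelAmple.IsRelAmple F M
  let ι := {V : (pullback a₁ a₂).Opens // ∃ (W : S.Opens) (V₁ : Y₁.Opens) (V₂ : Y₂.Opens),
    IsAffineOpen W ∧ IsAffineOpen V₁ ∧ IsAffineOpen V₂ ∧ V₁ ≤ a₁ ⁻¹ᵁ W ∧ V₂ ≤ a₂ ⁻¹ᵁ W ∧
      V = q₁ ⁻¹ᵁ V₁ ⊓ q₂ ⁻¹ᵁ V₂}
  have hcov : ⨆ i : ι, i.1 = ⊤ := by
    rw [eq_top_iff]
    intro v _
    obtain ⟨W, hW, hvW, -⟩ :=
      exists_isAffineOpen_mem_and_subset (X := S) (x := a₁ (q₁ v)) (U := ⊤) trivial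
    obtain ⟨V₁, hV₁, hvV₁, hle₁⟩ :=
      exists_isAffineOpen_mem_and_subset (X := Y₁) (x := q₁ v) (U := a₁ ⁻¹ᵁ W) hvW
    have hvW' : a₂ (q₂ v) ∈ W := by
      have h1 : (q₁ ≫ a₁) v = (q₂ ≫ a₂) v := by rw [pullback.condition]
      have h2 : a₁ (q₁ v) = a₂ (q₂ v) := h1
      rw [← h2]; exact hvW
    obtain ⟨V₂, hV₂, hvV₂, hle₂⟩ :=
      exists_isAffineOpen_mem_and_subset (X := Y₂) (x := q₂ v) (U := a₂ ⁻¹ᵁ W) hvW'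
    have hle₁' : V₁ ≤ a₁ ⁻¹ᵁ W := hle₁
    have hle₂' : V₂ ≤ a₂ ⁻¹ᵁ W := hle₂
    exact TopologicalSpace.Opens.mem_iSup.mpr ⟨⟨_, W, V₁, V₂, hW, hV₁, hV₂, hle₁', hle₂', rfl⟩, hvV₁, hvV₂⟩
  rw [Groth.Agent.S4380.result F M (fun i : ι => i.1) hcov]
  rintro ⟨V, W, V₁, V₂, hW, hV₁, hV₂, h1, h2, rfl⟩
  change RelAmple.IsRelAmple (F ∣_ (q₁ ⁻¹ᵁ V₁ ⊓ q₂ ⁻¹ᵁ V₂))
    (M.restrict (F ⁻¹ᵁ (q₁ ⁻¹ᵁ V₁ ⊓ q₂ ⁻¹ᵁ V₂)).ι)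
  have hV₁₂ : IsAffineOpen (q₁ ⁻¹ᵁ V₁ ⊓ q₂ ⁻¹ᵁ V₂) :=
    LD.QC.isAffineOpen_pullback_inf hV₁ hV₂ hW h1 h2
  haveI : IsAffine (q₁ ⁻¹ᵁ V₁ ⊓ q₂ ⁻¹ᵁ V₂ : (pullback a₁ a₂).Opens).toScheme := hV₁₂
  rw [Groth.Agent.S4381.result]
  let Q := F ⁻¹ᵁ (q₁ ⁻¹ᵁ V₁ ⊓ q₂ ⁻¹ᵁ V₂)
  haveI : CompactSpace (Q : Scheme.{u}) :=
    isCompact_iff_compactSpace.mp (QuasiCompact.isCompact_preimage (f := F) _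
      (q₁ ⁻¹ᵁ V₁ ⊓ q₂ ⁻¹ᵁ V₂).2 hV₁₂.isCompact)
  have hQ₁ : Q ≤ p₁ ⁻¹ᵁ (f₁ ⁻¹ᵁ V₁) := by
    intro z hz
    change f₁ (p₁ z) ∈ V₁
    rw [← hF₁']
    exact hz.1
  have hQ₂ : Q ≤ p₂ ⁻¹ᵁ (f₂ ⁻¹ᵁ V₂) := by
    intro z hz
    change f₂ (p₂ z) ∈ V₂
    rw [← hF₂']
    exact hz.2
  let p₁' := p₁.resLE (f₁ ⁻¹ᵁ V₁) Q hQ₁
  let p₂' := p₂.resLE (f₂ ⁻¹ᵁ V₂) Q hQ₂
  have sq₁ : Q.ι ≫ p₁ = p₁' ≫ (f₁ ⁻¹ᵁ V₁).ι := (Scheme.Hom.resLE_comp_ι _ _).symm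
  have sq₂ : Q.ι ≫ p₂ = p₂' ≫ (f₂ ⁻¹ᵁ V₂).ι := (Scheme.Hom.resLE_comp_ι _ _).symm
  have hpt₁ : ∀ y, (f₁ ⁻¹ᵁ V₁).ι (p₁' y) = p₁ (Q.ι y) := fun y => by
    rw [← Scheme.Hom.comp_apply, ← Scheme.Hom.comp_apply, sq₁]
  have hpt₂ : ∀ y, (f₂ ⁻¹ᵁ V₂).ι (p₂' y) = p₂ (Q.ι y) := fun y => by
    rw [← Scheme.Hom.comp_apply, ← Scheme.Hom.comp_apply, sq₂]
  let e : M.restrict Q.ι ≅ CohB1.tensorMod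
      ((Scheme.Modules.pullback p₁').obj (L₁.restrict (f₁ ⁻¹ᵁ V₁).ι))
      ((Scheme.Modules.pullback p₂').obj (L₂.restrict (f₂ ⁻¹ᵁ V₂).ι)) :=
    (asIso (LD.QC.restrictTensorHom Q.ι ((Scheme.Modules.pullback p₁).obj L₁)
      ((Scheme.Modules.pullback p₂).obj L₂))).symm ≪≫
    LD.QC.tensorIso' ((LD.QC.pullbackRestrictIso p₁ Q.ι (f₁ ⁻¹ᵁ V₁).ι p₁' sq₁).app L₁)
      ((LD.QC.pullbackRestrictIso p₂ Q.ι (f₂ ⁻¹ᵁ V₂).ι p₂' sq₂).app L₂)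
  apply LD.QC.isAmple_of_iso e.symm
  apply LD.QC.isAmple_box p₁' p₂' _ _ (hL₁.2 ⟨V₁, hV₁⟩) (hL₂.2 ⟨V₂, hV₂⟩)
  intro z
  refine ⟨⊤, ⊤, trivial, trivial, fun A B hA hB _ _ => ?_⟩
  rw [← Scheme.Hom.isAffineOpen_iff_of_isOpenImmersion Q.ι]
  have hA' : IsAffineOpen ((f₁ ⁻¹ᵁ V₁).ι ''ᵁ A) := hA.image_of_isOpenImmersion _
  have hB' : IsAffineOpen ((f₂ ⁻¹ᵁ V₂).ι ''ᵁ B) := hB.image_of_isOpenImmersion _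
  have hAW : (f₁ ⁻¹ᵁ V₁).ι ''ᵁ A ≤ g₁ ⁻¹ᵁ W := by
    rintro _ ⟨y, -, rfl⟩
    exact h1 y.2
  have hBW : (f₂ ⁻¹ᵁ V₂).ι ''ᵁ B ≤ g₂ ⁻¹ᵁ W := by
    rintro _ ⟨y, -, rfl⟩
    exact h2 y.2
  have haff := LD.QC.isAffineOpen_pullback_inf (f := g₁) (g := g₂) hA' hB' hW hAW hBW
  have heq : Q.ι ''ᵁ (p₁' ⁻¹ᵁ A ⊓ p₂' ⁻¹ᵁ B) =
      p₁ ⁻¹ᵁ ((f₁ ⁻¹ᵁ V₁).ι ''ᵁ A) ⊓ p₂ ⁻¹ᵁ ((f₂ ⁻¹ᵁ V₂).ι ''ᵁ B) := by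
    apply le_antisymm
    · rintro _ ⟨y, ⟨hyA, hyB⟩, rfl⟩
      refine ⟨?_, ?_⟩
      · change p₁ (Q.ι y) ∈ (f₁ ⁻¹ᵁ V₁).ι ''ᵁ A
        rw [← hpt₁]
        exact ⟨_, hyA, rfl⟩
      · change p₂ (Q.ι y) ∈ (f₂ ⁻¹ᵁ V₂).ι ''ᵁ B
        rw [← hpt₂]
        exact ⟨_, hyB, rfl⟩
    · rintro w ⟨⟨y₁, hy₁A, hy₁⟩, ⟨y₂, hy₂B, hy₂⟩⟩
      have hwQ : w ∈ Q := by
        refine ⟨?_, ?_⟩
        · change q₁ (F w) ∈ V₁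
          rw [hF₁']
          have : p₁ w = (f₁ ⁻¹ᵁ V₁).ι y₁ := hy₁.symm
          rw [this]
          exact y₁.2
        · change q₂ (F w) ∈ V₂
          rw [hF₂']
          have : p₂ w = (f₂ ⁻¹ᵁ V₂).ι y₂ := hy₂.symm
          rw [this]
          exact y₂.2
      let y : Q.toScheme := ⟨w, hwQ⟩
      refine ⟨y, ⟨?_, ?_⟩, rfl⟩
      · have h3 : (f₁ ⁻¹ᵁ V₁).ι (p₁' y) = (f₁ ⁻¹ᵁ V₁).ι y₁ := by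
          rw [hpt₁]; exact hy₁.symm
        have h4 := (f₁ ⁻¹ᵁ V₁).ι.isOpenEmbedding.injective h3
        change p₁' y ∈ A
        rw [h4]; exact hy₁A
      · have h3 : (f₂ ⁻¹ᵁ V₂).ι (p₂' y) = (f₂ ⁻¹ᵁ V₂).ι y₂ := by
          rw [hpt₂]; exact hy₂.symm
        have h4 := (f₂ ⁻¹ᵁ V₂).ι.isOpenEmbedding.injective h3
        change p₂' y ∈ B
        rw [h4]; exact hy₂B
  rw [heq]
  exact haff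

end Groth.Agent.S4428
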