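import Groth.Statements.S4429
import Mathlib

set_option autoImplicit false
universe u
open EGA2

namespace Groth.Agent.S4429

/-- For an integral domain A with fraction field K, a finitely generated A-module E and an endomorphism
u of E, the coefficients of the characteristic polynomial of u ⊗ 1 acting on the K-vector space K
⊗_A E (the elementary symmetric functions of u, among them its trace and determinant) are integral
over A. -/
theorem result (A : Type u) [CommRing A] [IsDomain A] (K : Type u) [Field K]
    [Algebra A K] [IsFractionRing A K] (E : Type u) [AddCommGroup E] [Module A E] [Module.Finite A E]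
    (u : E →ₗ[A] E) (i : ℕ) :
    IsIntegral A (((u.baseChange K).charpoly).coeff i) := by
  classical
  obtain ⟨P, hPmonic, hP⟩ := LinearMap.exists_monic_and_aeval_eq_zero A u
  let L := AlgebraicClosure K
  let V := TensorProduct A K E
  let uK : Module.End K V := u.baseChange K
  let uL : Module.End L (TensorProduct K L V) := uK.baseChange L
  -- P kills uK
  have hPK : Polynomial.aeval uK (P.map (algebraMap A K)) = 0 := by
    rw [Polynomial.aeval_map_algebraMap]
    have := Polynomial.aeval_algHom_apply (Module.End.baseChangeHom A K E) u P
    change Polynomial.aeval (u.baseChange K) P = _ at this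
    rw [this, hP, map_zero]
  have hPL : Polynomial.aeval uL ((P.map (algebraMap A K)).map (algebraMap K L)) = 0 := by
    rw [Polynomial.aeval_map_algebraMap]
    have := Polynomial.aeval_algHom_apply (Module.End.baseChangeHom K L V) uK (P.map (algebraMap A K))
    change Polynomial.aeval (uK.baseChange L) _ = _ at this
    rw [this, hPK, map_zero]
  have hinj : Function.Injective (algebraMap K L) := (algebraMap K L).injective
  refine (isIntegral_algHom_iff (IsScalarTower.toAlgHom A K L) hinj).mp ?_
  rw [IsScalarTower.coe_toAlgHom', ← Polynomial.coeff_map]
  refine Polynomial.isIntegral_coeff_of_factors _ ?_ (IsAlgClosed.splits _) ?_ i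
  · rw [(LinearMap.charpoly_monic _).map _ |>.leadingCoeff]
    exact isIntegral_one
  · intro x hx
    rw [← LinearMap.charpoly_baseChange] at hx
    have hev := (Module.End.hasEigenvalue_iff_isRoot_charpoly uL x).mpr hx
    obtain ⟨w, hw⟩ := hev.exists_hasEigenvector
    have h1 := Module.End.aeval_apply_of_hasEigenvector (p := (P.map (algebraMap A K)).map (algebraMap K L)) hw
    rw [hPL, LinearMap.zero_apply] at h1
    have h2 : ((P.map (algebraMap A K)).map (algebraMap K L)).eval x = 0 := by
      rcases smul_eq_zero.mp h1.symm with h | h
      · exact h
      · exact absurd h hw.2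
    refine ⟨P, hPmonic, ?_⟩
    rw [Polynomial.eval₂_eq_eval_map, IsScalarTower.algebraMap_eq A K L, ← Polynomial.map_map]
    exact h2

end Groth.Agent.S4429
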