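import Groth.Statements.S4430
import Groth.Agent.S4429
import Mathlib

set_option autoImplicit false
universe u
open EGA2

namespace Groth.Agent.S4430

theorem isUnit_of_inv_isIntegral {A K : Type*} [CommRing A] [Field K] [Algebra A K]
    (hinj : Function.Injective (algebraMap A K)) (a : A) (a' : K) (h : algebraMap A K a * a' = 1)
    (hint : IsIntegral A a') : IsUnit a := by
  obtain ⟨Q, hQ, hQ0⟩ := hint
  have ha'0 : a' ≠ 0 := by rintro rfl; simp at h
  letI : Invertible a' := ⟨algebraMap A K a, h, by rw [mul_comm]; exact h⟩
  have h1 := Polynomial.eval₂_reverse_mul_pow (algebraMap A K) a' Q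
  rw [hQ0] at h1
  have h2 : Polynomial.eval₂ (algebraMap A K) (algebraMap A K a) Q.reverse = 0 := by
    rcases mul_eq_zero.mp h1 with h | h
    · exact h
    · exact absurd (eq_zero_of_pow_eq_zero h) ha'0
  rw [Polynomial.eval₂_at_apply] at h2
  have h3 : Q.reverse.eval a = 0 := hinj (by rw [h2, map_zero])
  have h4 : Q.reverse.coeff 0 = 1 := by rw [Polynomial.coeff_zero_reverse]; exact hQ
  have h5 := Polynomial.divX_mul_X_add Q.reverse
  rw [h4] at h5
  rw [← h5] at h3
  simp only [Polynomial.eval_add, Polynomial.eval_mul, Polynomial.eval_X, Polynomial.eval_C] at h3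
  refine IsUnit.of_mul_eq_one (-(Q.reverse.divX.eval a)) ?_
  linear_combination -h3

/-- Let A be an integral domain with fraction field K, E a finitely generated A-module and u an
endomorphism of E whose characteristic-polynomial coefficients (those of u ⊗ 1 on K ⊗_A E) all lie
in A. If u is an automorphism of E, then its determinant, as an element of A, is invertible in A. -/
theorem result (A : Type u) [CommRing A] [IsDomain A] (K : Type u) [Field K]
    [Algebra A K] [IsFractionRing A K] (E : Type u) [AddCommGroup E] [Module A E] [Module.Finite A E]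
    (u : E →ₗ[A] E) (hcoeff : ∀ i : ℕ, ((u.baseChange K).charpoly).coeff i ∈ (algebraMap A K).range)
    (a : A) (ha : algebraMap A K a = LinearMap.det (u.baseChange K)) (hu : Function.Bijective u) :
    IsUnit a := by
  let ue := LinearEquiv.ofBijective u hu
  let v : E →ₗ[A] E := ue.symm.toLinearMap
  have huv : u ∘ₗ v = LinearMap.id := by
    ext x; exact ue.apply_symm_apply x
  have hdet : LinearMap.det (u.baseChange K) * LinearMap.det (v.baseChange K) = 1 := by
    rw [← LinearMap.det_comp, ← LinearMap.baseChange_comp, huv, LinearMap.baseChange_id,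
      LinearMap.det_id]
  refine isUnit_of_inv_isIntegral (IsFractionRing.injective A K) a
    (LinearMap.det (v.baseChange K)) (by rw [ha]; exact hdet) ?_
  rw [LinearMap.det_eq_sign_charpoly_coeff]
  refine IsIntegral.mul ?_ (Groth.Agent.S4429.result A K E v 0)
  exact (isIntegral_one.neg).pow _

end Groth.Agent.S4430
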