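import Groth.Statements.S4431
import Mathlib

set_option autoImplicit false
universe u
open EGA2

namespace Groth.Agent.S4431

/-- Let A be an integral domain with fraction field K, E a finitely generated torsion-free A-module and
u an endomorphism of E whose characteristic-polynomial coefficients (those of u ⊗ 1 on K ⊗_A E) all
lie in A. If the determinant of u is the image of a unit of A, then u is an automorphism of E. -/
theorem result (A : Type u) [CommRing A] [IsDomain A] (K : Type u) [Field K]
    [Algebra A K] [IsFractionRing A K] (E : Type u) [AddCommGroup E] [Module A E] [Module.Finite A E]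
    [Module.IsTorsionFree A E]
    (u : E →ₗ[A] E) (hcoeff : ∀ i : ℕ, ((u.baseChange K).charpoly).coeff i ∈ (algebraMap A K).range)
    (a : A) (ha : algebraMap A K a = LinearMap.det (u.baseChange K)) (hunit : IsUnit a) :
    Function.Bijective u := by
  classical
  -- lift the characteristic polynomial to A[X]
  have hlift : (u.baseChange K).charpoly ∈ Polynomial.lifts (algebraMap A K) := by
    rw [Polynomial.lifts_iff_coeff_lifts]
    intro n
    exact hcoeff n
  obtain ⟨q, hq⟩ := (Polynomial.mem_lifts _).mp hlift
  -- E embeds in K ⊗ E
  have hinj : Function.Injective (TensorProduct.mk A K E 1) := by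
    rw [injective_iff_map_eq_zero]
    intro m hm
    obtain ⟨s, hs⟩ := (IsLocalizedModule.eq_zero_iff (nonZeroDivisors A) (TensorProduct.mk A K E 1)).mp hm
    have hs0 : (s : A) ≠ 0 := nonZeroDivisors.ne_zero s.2
    exact (smul_eq_zero_iff_right hs0).mp hs
  -- q(u) = 0
  have hq0 : Polynomial.aeval u q = 0 := by
    ext e
    apply hinj
    rw [LinearMap.zero_apply, map_zero]
    have h1 : Polynomial.aeval (u.baseChange K) q = (Polynomial.aeval u q).baseChange K :=
      Polynomial.aeval_algHom_apply (Module.End.baseChangeHom A K E) u q
    have h2 : Polynomial.aeval (u.baseChange K) q = 0 := by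
      rw [← Polynomial.aeval_map_algebraMap K, hq]
      exact LinearMap.aeval_self_charpoly _
    have h3 := LinearMap.congr_fun h1 ((1 : K) ⊗ₜ[A] e)
    rw [h2, LinearMap.zero_apply, LinearMap.baseChange_tmul] at h3
    exact h3.symm
  -- constant coefficient of q
  have hc0 : algebraMap A K (q.coeff 0) = (-1) ^ Module.finrank K (TensorProduct A K E) * algebraMap A K a := by
    rw [ha, LinearMap.det_eq_sign_charpoly_coeff, ← hq, Polynomial.coeff_map, ← mul_assoc,
      ← mul_pow]
    simp
  have hc0' : q.coeff 0 = (-1) ^ Module.finrank K (TensorProduct A K E) * a := by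
    apply IsFractionRing.injective A K
    rw [hc0]; simp
  have hc0unit : IsUnit (q.coeff 0) := by
    rw [hc0']
    exact (IsUnit.pow _ (isUnit_one.neg)).mul hunit
  obtain ⟨c, hc⟩ := hc0unit.exists_left_inv
  -- q = divX q * X + C (coeff 0)
  have hdecomp := Polynomial.divX_mul_X_add q
  have h4 : Polynomial.aeval u q.divX * u + algebraMap A (Module.End A E) (q.coeff 0) = 0 := by
    have := congrArg (Polynomial.aeval u) hdecomp
    rw [hq0] at this
    simpa using this
  -- inverse
  let w : Module.End A E := -(c • Polynomial.aeval u q.divX)
  have hcomm : Commute (Polynomial.aeval u q.divX) u := by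
    have : Commute (Polynomial.aeval u q.divX) (Polynomial.aeval u Polynomial.X) :=
      (Polynomial.commute_X q.divX).symm.map (Polynomial.aeval u)
    simpa using this
  have hwu : w * u = 1 := by
    have : c • (Polynomial.aeval u q.divX * u + algebraMap A (Module.End A E) (q.coeff 0)) = 0 := by
      rw [h4, smul_zero]
    rw [smul_add, Algebra.algebraMap_eq_smul_one, smul_smul, hc, one_smul] at this
    simp only [w, neg_mul, smul_mul_assoc]
    exact (neg_eq_of_add_eq_zero_right this)
  have huw : u * w = 1 := by
    have : u * w = w * u := by
      simp only [w, mul_neg, neg_mul, mul_smul_comm, smul_mul_assoc, hcomm.eq]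
    rw [this, hwu]
  refine ⟨?_, ?_⟩
  · intro x y hxy
    have := congrArg w hxy
    change (w * u) x = (w * u) y at this
    rwa [hwu] at this
  · intro y
    refine ⟨w y, ?_⟩
    change (u * w) y = y
    rw [huw]; rfl

end Groth.Agent.S4431
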