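import Groth.Statements.S4441
import Groth.Agent.Lib.Helper6.VC1

set_option autoImplicit false
universe u
open CategoryTheory CategoryTheory.Limits AlgebraicGeometry
open EGA2

namespace Groth.Agent.S4441

/-- Let X and Y be integral separated schemes and f : X ⟶ Y a dominant, quasi-compact, universally
closed morphism, ξ the generic point of X. Every valuation subring R of the function field K(X) of X
which dominates the local ring of Y at a point y (via O_{Y,y} → O_{Y,f(ξ)} → K(X): image inside R,
maximal ideal into the maximal ideal of R) also dominates the local ring of X at some point x (via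
O_{X,x} → K(X)). -/
theorem result {X Y : Scheme.{u}} [IsIntegral X] [IsIntegral Y]
    [X.IsSeparated] [Y.IsSeparated] (f : X ⟶ Y) [IsDominant f] [QuasiCompact f] [UniversallyClosed f]
    (R : ValuationSubring X.functionField) (y : Y) (hy : f.base (genericPoint X) ⤳ y)
    (hdom : (∀ a : Y.presheaf.stalk y, (Y.presheaf.stalkSpecializes hy ≫ f.stalkMap (genericPoint X)).hom a ∈ R) ∧
      ∀ a ∈ IsLocalRing.maximalIdeal (Y.presheaf.stalk y),
        R.valuation ((Y.presheaf.stalkSpecializes hy ≫ f.stalkMap (genericPoint X)).hom a) < 1) :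
    ∃ x : X, (∀ a : X.presheaf.stalk x, algebraMap (X.presheaf.stalk x) X.functionField a ∈ R) ∧
      ∀ a ∈ IsLocalRing.maximalIdeal (X.presheaf.stalk x), R.valuation (algebraMap (X.presheaf.stalk x) X.functionField a) < 1 := by
  classical
  let ξ : X := genericPoint X
  let g0 : Y.presheaf.stalk y ⟶ X.functionField :=
    Y.presheaf.stalkSpecializes hy ≫ f.stalkMap ξ
  let χ : Y.presheaf.stalk y ⟶ CommRingCat.of R :=
    CommRingCat.ofHom (g0.hom.codRestrict R.toSubring hdom.1)
  have hχsub : χ ≫ CommRingCat.ofHom R.subtype = g0 := rfl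
  have hχloc : IsLocalHom χ.hom := by
    constructor
    intro a ha
    by_contra hna
    have hm : a ∈ IsLocalRing.maximalIdeal (Y.presheaf.stalk y) :=
      (IsLocalRing.mem_maximalIdeal _).2 hna
    have h1 := hdom.2 a hm
    have h2 : R.valuation ((χ.hom a : R) : X.functionField) = 1 :=
      (R.valuation_eq_one_iff _).1 ha
    exact absurd h2 (ne_of_lt h1)
  let i₂ : Spec (CommRingCat.of R) ⟶ Y := Spec.map χ ≫ Y.fromSpecStalk y
  let i₁ : Spec (CommRingCat.of X.functionField) ⟶ X := X.fromSpecStalk ξ
  have w : i₁ ≫ f = Spec.map (CommRingCat.ofHom (algebraMap R X.functionField)) ≫ i₂ := by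
    change X.fromSpecStalk ξ ≫ f = Spec.map (CommRingCat.ofHom R.subtype) ≫ Spec.map χ ≫
      Y.fromSpecStalk y
    rw [← Spec.map_comp_assoc, hχsub]
    simp only [g0, Spec.map_comp, Category.assoc, Scheme.SpecMap_stalkSpecializes_fromSpecStalk]
    exact (Scheme.SpecMap_stalkMap_fromSpecStalk f).symm
  let Sq : ValuativeCommSq f :=
    { R := ↥R, K := ↑X.functionField, i₁ := i₁, i₂ := i₂, commSq := ⟨w⟩ }
  have hex : ValuativeCriterion.Existence f := by
    have := (UniversallyClosed.eq_valuativeCriterion ▸ (inferInstance : UniversallyClosed f) :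
      (ValuativeCriterion.Existence ⊓ @QuasiCompact) f)
    exact this.1
  obtain ⟨⟨l, hl₁, hl₂⟩⟩ := hex Sq
  let x : X := l.base (IsLocalRing.closedPoint R)
  let φ : X.presheaf.stalk x ⟶ CommRingCat.of R := Scheme.stalkClosedPointTo l
  have hφl : Spec.map φ ≫ X.fromSpecStalk x = l := Scheme.Spec_stalkClosedPointTo_fromSpecStalk l
  have hφloc : IsLocalHom φ.hom := Scheme.isLocalHom_stalkClosedPointTo l
  have hid : IsLocalHom (CommRingCat.Hom.hom (𝟙 (X.presheaf.stalk ξ))) := by
    change IsLocalHom (RingHom.id _)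
    infer_instance
  have h0 : Spec.map (φ ≫ CommRingCat.ofHom R.subtype) ≫ X.fromSpecStalk x =
      Spec.map (𝟙 (X.presheaf.stalk ξ)) ≫ X.fromSpecStalk ξ := by
    rw [Spec.map_comp, Category.assoc, hφl, Spec.map_id, Category.id_comp]
    exact hl₁
  obtain ⟨hs, hφ⟩ := Groth.Agent.H6.VC.specializes_and_eq _ _ h0
  rw [Category.comp_id] at hφ
  have hval : ∀ a : X.presheaf.stalk x,
      algebraMap (X.presheaf.stalk x) X.functionField a = ((φ.hom a : R) : X.functionField) := by
    intro a
    have := congrArg (fun q => q.hom a) hφ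
    exact this.symm
  refine ⟨x, ?_, ?_⟩
  · intro a
    rw [hval]
    exact (φ.hom a).2
  · intro a ha
    rw [hval]
    apply (R.valuation_lt_one_iff _).1
    rw [IsLocalRing.mem_maximalIdeal] at ha ⊢
    intro hu
    exact ha (hφloc.map_nonunit _ hu)

end Groth.Agent.S4441
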