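import Groth.Statements.S4442
import Groth.Agent.Lib.Helper6.Cv4

set_option autoImplicit false
universe u
open CategoryTheory CategoryTheory.Limits AlgebraicGeometry
attribute [local instance] Curv2.resAlgebra
open EGA2

namespace Groth.Agent.S4442

/-- (a) ⇔ (b): let X be a scheme of finite type over a field k. The residue fields of the generic points
of the irreducible components of X all have transcendence degree one over k if and only if the local
ring of X at every closed point has dimension one. (The published statement has a third equivalent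
condition: the irreducible closed subsets of X other than the irreducible components are exactly the
closed points of X. This row states only the equivalence of the first two.) -/
theorem result (k : Type u) [Field k] (X : Scheme.{u})
    [X.Over (Spec (CommRingCat.of k))] [LocallyOfFiniteType (X ↘ (Spec (CommRingCat.of k)))]
    [QuasiCompact (X ↘ (Spec (CommRingCat.of k)))] :
    (∀ x : X, closure ({x} : Set X) ∈ irreducibleComponents (X : Type u) → Algebra.trdeg k (X.residueField x) = 1) ↔
      ∀ x : X, IsClosed ({x} : Set X) → ringKrullDim (X.presheaf.stalk x) = 1 := by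
  classical
  let gk := X ↘ Spec (CommRingCat.of k)
  have hcomp : CompactSpace X := QuasiCompact.compactSpace_of_compactSpace gk
  have hJ : JacobsonSpace X := LocallyOfFiniteType.jacobsonSpace gk
  have key : ∀ z : X, ∃ t : ℕ, Algebra.trdeg k (X.residueField z) = t ∧
      FlatMor.localDim X z = ringKrullDim (X.presheaf.stalk z) + (t : WithBot ℕ∞) := by
    intro z
    obtain ⟨t, ht, hdim⟩ := Groth.Agent.H1.DimFormula.exists_localDim_eq_stalk_add_trdeg gk z
    have heq : Curv2.resAlgebra k X z =
        (Groth.Agent.H1.DimFormula.toResidueField gk z).hom.toAlgebra := by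
      change (Curv2.resMap k X z).toAlgebra = _
      rw [Groth.Agent.H1.DimFormula.resMap_eq]
    refine ⟨t, ?_, hdim⟩
    rw [heq]
    exact ht
  constructor
  · intro ha x hx
    obtain ⟨η, hηx, hηc, hηdim⟩ := Groth.Agent.H6.Cv.exists_generic_localDim_eq gk x
    obtain ⟨t, ht, hdim⟩ := key η
    have h1 := ha η hηc
    have hgen := (Groth.Agent.H6.Cv.closure_mem_irreducibleComponents_iff η).1 hηc
    rw [Groth.Agent.H6.Cv.ringKrullDim_stalk_eq_zero' η hgen, zero_add] at hdim
    have ht1 : t = 1 := by
      rw [h1] at ht
      exact_mod_cast ht.symm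
    rw [← Groth.Agent.H1.DimFormula.localDim_eq_stalk_of_isClosed gk x hx, ← hηdim, hdim, ht1]
    rfl
  · intro hb η hηc
    obtain ⟨t, ht, hdim⟩ := key η
    have hgen := (Groth.Agent.H6.Cv.closure_mem_irreducibleComponents_iff η).1 hηc
    have hst0 := Groth.Agent.H6.Cv.ringKrullDim_stalk_eq_zero' η hgen
    rw [hst0, zero_add] at hdim
    obtain ⟨x, hxη, hxc⟩ := IsClosed.exists_closed_singleton (isClosed_closure (s := {η}))
      ⟨η, subset_closure rfl⟩
    have hηx : η ⤳ x := specializes_iff_mem_closure.2 hxη
    have hle : FlatMor.localDim X η ≤ FlatMor.localDim X x :=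
      Groth.Agent.H1.DimFormula.localDim_le_of_specializes hηx
    rw [Groth.Agent.H1.DimFormula.localDim_eq_stalk_of_isClosed gk x hxc, hb x hxc, hdim] at hle
    have hle' : t ≤ 1 := by exact_mod_cast hle
    have hne : t ≠ 0 := by
      rintro rfl
      obtain ⟨U, hU, hηU⟩ : ∃ U : X.Opens, IsAffineOpen U ∧ η ∈ U := by
        obtain ⟨_, ⟨U, hU, rfl⟩, hz, -⟩ :=
          X.isBasis_affineOpens.exists_subset_of_mem_open (Set.mem_univ η) isOpen_univ
        exact ⟨U, hU, hz⟩
      have h2 := Groth.Agent.H1.DimFormula.localDim_eq_stalk_add_quotient gk hU η hηU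
      rw [hdim, hst0, zero_add] at h2
      set p := hU.primeIdealOf ⟨η, hηU⟩ with hp
      have hd0 : Ring.KrullDimLE 0 (Γ(X, U) ⧸ p.asIdeal) :=
        Ring.krullDimLE_iff.mpr (le_of_eq h2.symm)
      have hfield : IsField (Γ(X, U) ⧸ p.asIdeal) := Ring.KrullDimLE.isField_of_isDomain
      have hmax : p.asIdeal.IsMaximal := Ideal.Quotient.maximal_of_isField _ hfield
      let p' : ↥(Spec Γ(X, U)) := p
      have hclU : IsClosed ({p'} : Set ↥(Spec Γ(X, U))) :=
        (PrimeSpectrum.isClosed_singleton_iff_isMaximal p).2 hmax
      have hpη : hU.fromSpec.base p' = η := hU.fromSpec_primeIdealOf ⟨η, hηU⟩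
      have himg : ({η} : Set X) = hU.fromSpec.base '' ({p'} : Set ↥(Spec Γ(X, U))) := by
        ext y
        constructor
        · intro hy
          rw [Set.mem_singleton_iff] at hy
          exact ⟨p', rfl, by rw [hy]; exact hpη⟩
        · rintro ⟨q, hq, rfl⟩
          rw [Set.mem_singleton_iff] at hq
          rw [hq]
          exact hpη
      have hlc : IsLocallyClosed ({η} : Set X) := by
        rw [himg]
        exact hclU.isLocallyClosed.image hU.fromSpec.isOpenEmbedding.isInducing
          hU.fromSpec.isOpenEmbedding.isOpen_range.isLocallyClosed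
      have hcl : IsClosed ({η} : Set X) := isClosed_singleton_of_isLocallyClosed_singleton hlc
      have h3 := hb η hcl
      rw [hst0] at h3
      exact zero_ne_one h3
    have ht1 : t = 1 := by omega
    rw [ht, ht1]
    norm_cast

end Groth.Agent.S4442
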