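import Groth.Statements.S4443
import Groth.Agent.Lib.Helper6.Cv2

set_option autoImplicit false
universe u
open CategoryTheory CategoryTheory.Limits AlgebraicGeometry
open EGA2

namespace Groth.Agent.S4443

/-- Let X be an irreducible algebraic curve over a field k (separated and of finite type over k,
nonempty, irreducible, local rings at closed points of dimension one). Then the generic point is the
only non-closed point of X, and the closed subsets of X distinct from X are exactly the finite sets
of closed points. (The published statement adds that these are also exactly the subsets of X that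
are not dense in X, an immediate consequence; this row does not state it.) -/
theorem result (k : Type u) [Field k] (X : Scheme.{u})
    [X.Over (Spec (CommRingCat.of k))] [LocallyOfFiniteType (X ↘ (Spec (CommRingCat.of k)))]
    [QuasiCompact (X ↘ (Spec (CommRingCat.of k)))] [IsSeparated (X ↘ (Spec (CommRingCat.of k)))]
    [Nonempty X] [IrreducibleSpace X] (hcurve : ∀ x : X, IsClosed ({x} : Set X) → ringKrullDim (X.presheaf.stalk x) = 1) :
    (∀ x : X, ¬ IsClosed ({x} : Set X) → x = genericPoint X) ∧
      ∀ F : Set X, IsClosed F → (F ≠ Set.univ ↔ (F.Finite ∧ ∀ x ∈ F, IsClosed ({x} : Set X))) := by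
  classical
  let f := X ↘ Spec (CommRingCat.of k)
  have hcomp : CompactSpace X := QuasiCompact.compactSpace_of_compactSpace f
  have hnoeth : IsLocallyNoetherian X := LocallyOfFiniteType.isLocallyNoetherian f
  have hN : IsNoetherian X := { }
  have hNS : TopologicalSpace.NoetherianSpace X := inferInstance
  have part1 : ∀ x : X, ¬ IsClosed ({x} : Set X) → x = genericPoint X :=
    fun x hx => Groth.Agent.H6.Cv.eq_genericPoint_of_not_isClosed X hcurve x hx
  refine ⟨part1, ?_⟩
  have hξcl : closure ({genericPoint X} : Set X) = Set.univ := (genericPoint_spec X)
  -- the generic point is not closed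
  have hξnc : ¬ IsClosed ({genericPoint X} : Set X) := by
    intro hcl
    have hdim := hcurve _ hcl
    have huniv : ({genericPoint X} : Set X) = Set.univ := by
      rw [← hcl.closure_eq]; exact hξcl
    have hsub : Subsingleton (PrimeSpectrum (X.presheaf.stalk (genericPoint X))) := by
      constructor
      intro p q
      apply (X.fromSpecStalk (genericPoint X)).isEmbedding.injective
      have hp : (X.fromSpecStalk (genericPoint X)).base p ∈ ({genericPoint X} : Set X) := by
        rw [huniv]; trivial
      have hq : (X.fromSpecStalk (genericPoint X)).base q ∈ ({genericPoint X} : Set X) := by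
        rw [huniv]; trivial
      rw [Set.mem_singleton_iff] at hp hq
      exact hp.trans hq.symm
    have hle : ringKrullDim (X.presheaf.stalk (genericPoint X)) ≤ 0 :=
      Order.krullDim_nonpos_of_subsingleton
    rw [hdim] at hle
    exact absurd hle (by norm_num)
  intro F hF
  constructor
  · intro hFne
    have hξF : genericPoint X ∉ F := by
      intro hmem
      apply hFne
      apply Set.eq_univ_of_univ_subset
      rw [← hξcl]
      exact hF.closure_subset_iff.2 (Set.singleton_subset_iff.2 hmem)
    have hclosedpts : ∀ x ∈ F, IsClosed ({x} : Set X) := by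
      intro x hx
      by_contra hnc
      exact hξF (part1 x hnc ▸ hx)
    refine ⟨?_, hclosedpts⟩
    obtain ⟨S, hSf, hSc, hSi, hSU⟩ :=
      TopologicalSpace.NoetherianSpace.exists_finite_set_isClosed_irreducible hF
    rw [hSU]
    apply Set.Finite.sUnion hSf
    intro t ht
    obtain ⟨z, hz⟩ := QuasiSober.sober (hSi t ht) (hSc t ht)
    have hzt : z ∈ t := hz.mem
    have hzF : z ∈ F := by rw [hSU]; exact ⟨t, ht, hzt⟩
    have htz : t = {z} := by
      rw [← hz.def, (hclosedpts z hzF).closure_eq]
    rw [htz]
    exact Set.finite_singleton z
  · rintro ⟨hfin, hcl⟩ hFuniv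
    apply hξnc
    apply hcl
    rw [hFuniv]; trivial

end Groth.Agent.S4443
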