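import Groth.Statements.S4445
import Groth.Agent.Lib.Helper6.Cv6

set_option autoImplicit false
universe u
open CategoryTheory CategoryTheory.Limits AlgebraicGeometry
attribute [local instance] Curv2.stalkAlgebra
open EGA2

namespace Groth.Agent.S4445

/-- Let X be a normal irreducible algebraic curve over a field k with field of rational functions K, and
Y an integral complete (proper over k) algebraic curve with field of rational functions L. Dominant
k-morphisms X ⟶ Y correspond bijectively to k-embeddings L → K: for every k-algebra homomorphism φ :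
L → K there is exactly one k-morphism u : X ⟶ Y mapping the generic point of X to the generic point
of Y and inducing φ on the stalks at the generic points. -/
theorem result (k : Type u) [Field k] (X Y : Scheme.{u})
    [X.Over (Spec (CommRingCat.of k))] [LocallyOfFiniteType (X ↘ (Spec (CommRingCat.of k)))]
    [QuasiCompact (X ↘ (Spec (CommRingCat.of k)))] [IsSeparated (X ↘ (Spec (CommRingCat.of k)))] [IsIntegral X]
    (hX : ∀ x : X, IsClosed ({x} : Set X) → ringKrullDim (X.presheaf.stalk x) = 1) (hnorm : Pi1.IsNormalScheme X)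
    [Y.Over (Spec (CommRingCat.of k))] [IsProper (Y ↘ (Spec (CommRingCat.of k)))] [IsIntegral Y]
    (hY : ∀ y : Y, IsClosed ({y} : Set Y) → ringKrullDim (Y.presheaf.stalk y) = 1)
    (φ : Y.functionField →ₐ[k] X.functionField) :
    ∃! u : X ⟶ Y, u ≫ (Y ↘ (Spec (CommRingCat.of k))) = X ↘ (Spec (CommRingCat.of k)) ∧
      ∃ hu : u.base (genericPoint X) = genericPoint Y,
        (Y.presheaf.stalkSpecializes (specializes_of_eq hu) ≫ u.stalkMap (genericPoint X)).hom = (φ : Y.functionField →+* X.functionField) := by
  let ψ : Y.presheaf.stalk (genericPoint Y) ⟶ X.presheaf.stalk (genericPoint X) :=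
    CommRingCat.ofHom (φ : Y.functionField →+* X.functionField)
  have hψ : ∀ c : k, ψ.hom (Curv2.stalkMap k Y (genericPoint Y) c) =
      Curv2.stalkMap k X (genericPoint X) c := fun c => φ.commutes c
  obtain ⟨u, hu1, hu2⟩ := Groth.Agent.H6.Cv.exists_morphism_of_algHom k X Y hX hnorm ψ hψ
  have key : ∀ v : X ⟶ Y, (∃ hv : v.base (genericPoint X) = genericPoint Y,
      (Y.presheaf.stalkSpecializes (specializes_of_eq hv) ≫ v.stalkMap (genericPoint X)).hom =
        (φ : Y.functionField →+* X.functionField)) ↔
      X.fromSpecStalk (genericPoint X) ≫ v = Spec.map ψ ≫ Y.fromSpecStalk (genericPoint Y) := by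
    intro v
    rw [← Groth.Agent.H6.Cv.generic_stalk_iff v ψ]
    constructor
    · rintro ⟨hv, h⟩
      exact ⟨hv, CommRingCat.hom_ext h⟩
    · rintro ⟨hv, h⟩
      exact ⟨hv, congrArg CommRingCat.Hom.hom h⟩
  refine ⟨u, ⟨hu1, (key u).mpr hu2⟩, ?_⟩
  rintro v ⟨hv1, hv2⟩
  have hv3 := (key v).mp hv2
  have hdom : IsDominant (X.fromSpecStalk (genericPoint X)) := by
    constructor
    rw [DenseRange, Scheme.range_fromSpecStalk]
    intro x
    rw [mem_closure_iff]
    intro o ho hxo
    exact ⟨genericPoint X, ((genericPoint_spec X).mem_open_set_iff ho).mpr ⟨x, trivial, hxo⟩,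
      specializes_rfl⟩
  exact ext_of_isDominant_of_isSeparated (Y ↘ (Spec (CommRingCat.of k))) (hv1.trans hu1.symm)
    (X.fromSpecStalk (genericPoint X)) (hv3.trans hu2.symm)

end Groth.Agent.S4445
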