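import Groth.Statements.S4446
import Groth.Agent.Lib.Helper6.NE3

set_option autoImplicit false
universe u
open CategoryTheory CategoryTheory.Limits AlgebraicGeometry
open EGA2

namespace Groth.Agent.S4446

/-- Let g : X' ⟶ X be an integral morphism and Y an integral normal scheme. A rational map from Y to X'
whose composite with g is everywhere defined is itself everywhere defined: if f is a morphism from a
dense open U of Y to X' and h : Y ⟶ X satisfies g ∘ f = h restricted to U, then f extends to a
morphism Y ⟶ X' lifting h. (The published statement allows Y normal and locally integral; it is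
stated here for Y integral, the case to which it reduces on each component.) -/
theorem result {Y X X' : Scheme.{u}} [IsIntegral Y]
    (hY : Pi1.IsNormalScheme Y) (g : X' ⟶ X) [IsIntegralHom g] (U : Y.Opens) (hU : Dense (U : Set Y))
    (f : (U : Scheme.{u}) ⟶ X') (h : Y ⟶ X) (hfh : f ≫ g = U.ι ≫ h) :
    ∃ f' : Y ⟶ X', U.ι ≫ f' = f ∧ f' ≫ g = h := by
  have hcond : U.ι ≫ h = f ≫ g := hfh.symm
  obtain ⟨s, hs1, hs2⟩ := Groth.Agent.H6.NE.exists_section hY U hU (pullback.fst h g)
    (pullback.lift U.ι f hcond) (pullback.lift_fst _ _ _)
  refine ⟨s ≫ pullback.snd h g, ?_, ?_⟩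
  · rw [reassoc_of% hs2, pullback.lift_snd]
  · rw [Category.assoc, ← pullback.condition, reassoc_of% hs1]

end Groth.Agent.S4446
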