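import Groth.Statements.S4451
import Groth.Agent.Lib.Helper6.Cv1

set_option autoImplicit false
universe u
open CategoryTheory CategoryTheory.Limits AlgebraicGeometry
attribute [local instance] Curv2.stalkAlgebra
open EGA2

namespace Groth.Agent.S4451

/-- Let X be a normal, complete, irreducible algebraic curve over a field k with field of rational
functions K. The set of local rings of X, as subrings of K, consists of K itself (at the generic
point) and of the valuation rings of K containing k (and distinct from K): every non-generic point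
has such a valuation ring as local ring, and every such valuation ring is the local ring of exactly
one point. -/
theorem result (k : Type u) [Field k] (X : Scheme.{u})
    [X.Over (Spec (CommRingCat.of k))] [IsProper (X ↘ (Spec (CommRingCat.of k)))] [IsIntegral X]
    (hX : ∀ x : X, IsClosed ({x} : Set X) → ringKrullDim (X.presheaf.stalk x) = 1) (hnorm : Pi1.IsNormalScheme X) :
    (∀ x : X, x ≠ genericPoint X → ∃ R : ValuationSubring X.functionField, R ≠ ⊤ ∧
        (R : Set X.functionField) = Set.range (algebraMap (X.presheaf.stalk x) X.functionField)) ∧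
      ∀ R : ValuationSubring X.functionField, R ≠ ⊤ → (∀ c : k, algebraMap k X.functionField c ∈ R) →
        ∃! x : X, (R : Set X.functionField) = Set.range (algebraMap (X.presheaf.stalk x) X.functionField) := by
  classical
  let ξ : X := genericPoint X
  let f := X ↘ Spec (CommRingCat.of k)
  have hcomp : CompactSpace X := QuasiCompact.compactSpace_of_compactSpace f
  have hnoeth : IsLocallyNoetherian X := LocallyOfFiniteType.isLocallyNoetherian f
  have hdimx : ∀ x : X, x ≠ ξ → ringKrullDim (X.presheaf.stalk x) = 1 := fun x hx =>
    hX x (Groth.Agent.H6.Cv.isClosed_of_ne_genericPoint X hX x hx)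
  have part1 : ∀ x : X, x ≠ genericPoint X → ∃ R : ValuationSubring X.functionField, R ≠ ⊤ ∧
      (R : Set X.functionField) = Set.range (algebraMap (X.presheaf.stalk x) X.functionField) :=
    fun x hx => Groth.Agent.H6.Cv.exists_valuationSubring X x (hnorm x).2 (hdimx x hx)
  refine ⟨part1, ?_⟩
  intro R hR hk
  obtain ⟨x, φ, hφloc, hφ, hφζ⟩ := Groth.Agent.H6.Cv.exists_dominated_point k X R hk
  have hxξ : x ≠ ξ := by
    intro hx
    apply hR
    rw [eq_top_iff]
    intro a _
    have hsp : ξ ⤳ x := by rw [hx]
    obtain ⟨b, hb⟩ : ∃ b : X.presheaf.stalk x,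
        algebraMap (X.presheaf.stalk x) X.functionField b = a := by
      subst hx
      refine ⟨a, ?_⟩
      change (X.presheaf.stalkSpecializes _).hom a = a
      rw [TopCat.Presheaf.stalkSpecializes_refl]
      rfl
    rw [← hb, ← hφ]
    exact (φ.hom b).2
  obtain ⟨V, hV, hVr⟩ := part1 x hxξ
  have hRV : (R : Set X.functionField) =
      Set.range (algebraMap (X.presheaf.stalk x) X.functionField) := by
    apply Set.Subset.antisymm
    · intro t ht
      rw [← hVr]
      by_contra hn
      have hti : t⁻¹ ∈ V := (V.mem_or_inv_mem t).resolve_left hn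
      have ht0 : t ≠ 0 := fun h0 => hn (h0 ▸ V.zero_mem)
      have hti' : t⁻¹ ∈ (V : Set X.functionField) := hti
      rw [hVr] at hti'
      obtain ⟨b, hb⟩ := hti'
      have hunit : IsUnit (φ.hom b) := by
        refine IsUnit.of_mul_eq_one ⟨t, ht⟩ ?_
        apply Subtype.ext
        change ((φ.hom b : R) : X.functionField) * t = 1
        rw [hφ, hb, inv_mul_cancel₀ ht0]
      have hbu : IsUnit b := hφloc.map_nonunit _ hunit
      obtain ⟨⟨u, v, huv, hvu⟩, hu'⟩ := hbu
      have hub : u = b := hu'
      apply hn
      have hv : algebraMap (X.presheaf.stalk x) X.functionField v = t := by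
        have h1 : algebraMap (X.presheaf.stalk x) X.functionField b *
            algebraMap (X.presheaf.stalk x) X.functionField v = 1 := by
          rw [← map_mul, ← hub, huv, map_one]
        rw [hb] at h1
        have := eq_inv_of_mul_eq_one_right h1
        rwa [inv_inv] at this
      have : t ∈ (V : Set X.functionField) := by rw [hVr]; exact ⟨v, hv⟩
      exact this
    · rintro _ ⟨b, rfl⟩
      rw [← hφ]
      exact (φ.hom b).2
  refine ⟨x, hRV, ?_⟩
  intro x' hx'
  -- the morphism `Spec R ⟶ X` attached to `x'`
  have hmem : ∀ a : X.presheaf.stalk x', algebraMap (X.presheaf.stalk x') X.functionField a ∈ R := by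
    intro a
    have : algebraMap (X.presheaf.stalk x') X.functionField a ∈ (R : Set X.functionField) := by
      rw [hx']; exact ⟨a, rfl⟩
    exact this
  let φ' : X.presheaf.stalk x' ⟶ CommRingCat.of R :=
    CommRingCat.ofHom ((algebraMap (X.presheaf.stalk x') X.functionField).codRestrict
      R.toSubring hmem)
  have hφ'sub : φ' ≫ CommRingCat.ofHom R.subtype =
      X.presheaf.stalkSpecializes ((genericPoint_spec X).specializes trivial) := rfl
  have hinj' : Function.Injective (algebraMap (X.presheaf.stalk x') X.functionField) :=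
    IsFractionRing.injective _ _
  have hφ'loc : IsLocalHom φ'.hom := by
    constructor
    intro b hb
    obtain ⟨⟨u, v, huv, hvu⟩, hu'⟩ := hb
    have hub : u = φ'.hom b := hu'
    have hvR : (v : X.functionField) ∈ (R : Set X.functionField) := v.2
    rw [hx'] at hvR
    obtain ⟨c, hc⟩ := hvR
    refine IsUnit.of_mul_eq_one c ?_
    apply hinj'
    rw [map_mul, hc, map_one]
    have := congrArg Subtype.val huv
    rw [hub] at this
    exact this
  have ha' : Spec.map (CommRingCat.ofHom R.subtype) ≫ (Spec.map φ' ≫ X.fromSpecStalk x') =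
      X.fromSpecStalk ξ := by
    rw [← Spec.map_comp_assoc, hφ'sub, Scheme.SpecMap_stalkSpecializes_fromSpecStalk]
  -- `X` is separated
  have hsepX : IsSeparated (Limits.terminal.from X) := by
    have h1 : Limits.terminal.from X = f ≫ Limits.terminal.from (Spec (CommRingCat.of k)) :=
      Limits.terminal.hom_ext _ _
    rw [h1]
    infer_instance
  let t : Spec (CommRingCat.of ↥R) ⟶ ⊤_ Scheme := Limits.terminal.from _
  have w : (X.fromSpecStalk ξ) ≫ Limits.terminal.from X =
      Spec.map (CommRingCat.ofHom (algebraMap ↥R ↑X.functionField)) ≫ t :=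
    Limits.terminal.hom_ext _ _
  let Sq : ValuativeCommSq (Limits.terminal.from X) :=
    { R := ↥R, K := ↑X.functionField, i₁ := X.fromSpecStalk ξ, i₂ := t, commSq := ⟨w⟩ }
  have hsub : Subsingleton Sq.commSq.LiftStruct :=
    IsSeparated.valuativeCriterion (Limits.terminal.from X) Sq
  have hll := Subsingleton.elim
    (⟨Spec.map φ' ≫ X.fromSpecStalk x', ha', Limits.terminal.hom_ext _ _⟩ : Sq.commSq.LiftStruct)
    ⟨Spec.map φ ≫ X.fromSpecStalk x, hφζ, Limits.terminal.hom_ext _ _⟩
  have hl : Spec.map φ' ≫ X.fromSpecStalk x' = Spec.map φ ≫ X.fromSpecStalk x :=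
    congrArg CommSq.LiftStruct.l hll
  have hcl' : (Spec.map φ' ≫ X.fromSpecStalk x').base (IsLocalRing.closedPoint R) = x' := by
    change (X.fromSpecStalk x').base ((Spec.map φ').base (IsLocalRing.closedPoint R)) = x'
    rw [Spec_closedPoint, Scheme.fromSpecStalk_closedPoint]
  have hcl : (Spec.map φ ≫ X.fromSpecStalk x).base (IsLocalRing.closedPoint R) = x := by
    change (X.fromSpecStalk x).base ((Spec.map φ).base (IsLocalRing.closedPoint R)) = x
    rw [Spec_closedPoint, Scheme.fromSpecStalk_closedPoint]
  rw [← hcl', hl, hcl]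

end Groth.Agent.S4451
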