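import Groth.Statements.S4457
import Groth.Agent.Lib.Lead.QCQS.Main
import Groth.Agent.Lib.Lead.GSS.Degenerate
import Groth.Agent.S0028
import Groth.Agent.Lib.Lead.SC.RPushComp

set_option autoImplicit false
universe u
open Coherent

namespace Groth.Agent.S4457

open AlgebraicGeometry CategoryTheory in
/-- Let f : X → Y be a separated quasi-compact morphism, g : Y → Z an affine morphism and F a
quasi-coherent O_X-module. Then for every p ≥ 0, R^p (g ∘ f)_* F is isomorphic to g_*(R^p f_* F)
(higher direct images and direct image of the underlying abelian sheaves). The source shows that the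
canonical comparison map is an isomorphism; only the existence of an isomorphism is asserted here. -/
theorem result {X Y Z : Scheme.{u}} (f : X ⟶ Y) (g : Y ⟶ Z)
    [IsSeparated f] [QuasiCompact f] [IsAffineHom g] (F : X.Modules) [Coh.IsQCoh F] (p : ℕ) :
    Nonempty ((Coh.RpushAb (f ≫ g) p).obj (Coh.toAb F) ≅
      (Coh.pushAb g).obj ((Coh.RpushAb f p).obj (Coh.toAb F))) := by
  haveI := LD.QCQS.hasInjRes X
  haveI : CategoryTheory.Limits.PreservesFiniteLimits (Coh.pushAb g) := by
    haveI : (Coh.pushAb g).IsRightAdjoint := inferInstance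
    infer_instance
  have hT : ∀ Q : CategoryTheory.Sheaf (Opens.grothendieckTopology X) AddCommGrpCat.{u},
      CategoryTheory.Injective Q → ∀ q : ℕ, 0 < q →
        CategoryTheory.Limits.IsZero (((Coh.pushAb g).rightDerived q).obj ((Coh.pushAb f).obj Q)) := by
    intro Q hQ q hq
    obtain ⟨k, rfl⟩ : ∃ k, q = k + 1 := ⟨q - 1, by omega⟩
    haveI := LD.SC.injective_pushAb f.base Q hQ
    exact CategoryTheory.Functor.isZero_rightDerived_obj_injective_succ _ k _
  have h : ∀ a b : ℕ, CategoryTheory.Limits.IsZero (((Coh.pushAb g).rightDerived (a + 1)).obj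
      (((Coh.pushAb f).rightDerived b).obj (Coh.toAb F))) := by
    intro a b
    obtain ⟨e⟩ := LD.RP.nonempty_toAb_Rpush_iso f F b
    haveI hqc : ((Coh.Rpush f b).obj F).IsQuasicoherent := LD.QCQS.qc_Rpush f F b
    have h0 := Groth.Agent.S0028.result g ((Coh.Rpush f b).obj F) (a + 1) (Nat.succ_pos a)
    exact CategoryTheory.Limits.IsZero.of_iso h0 (((Coh.pushAb g).rightDerived (a + 1)).mapIso e.symm)
  obtain ⟨e⟩ := LD.GSS.nonempty_rightDerived_comp_iso_of_isZero (Coh.pushAb f) (Coh.pushAb g) hT
    (Coh.toAb F) h p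
  exact ⟨e⟩

end Groth.Agent.S4457
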