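import Groth.Statements.S4458
import Groth.Agent.Lib.Lead.QC.SemiStalk

set_option autoImplicit false
universe u
open Coherent

namespace Groth.Agent.S4458

open AlgebraicGeometry CategoryTheory CategoryTheory.Limits in
/-- Let X be a Noetherian scheme and K' a class of O_X-modules, closed under isomorphism, containing 0,
such that in every short exact sequence of coherent modules with two terms in K' the third is in K',
and such that every coherent direct summand of a coherent module in K' is in K'. Let X' be a closed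
subset such that for every irreducible closed subset Z ⊆ X' with generic point y there is a coherent
module G in K' supported in Z, annihilated by the ideal sheaf of the reduced closed subscheme Z,
whose stalk at y is nonzero. Then every coherent O_X-module with support contained in X' belongs to
K'. (The published statement asks of G only that it lie in K' and have nonzero stalk at y, remarking
that this amounts to G having support Z; that is not sufficient: on the spectrum of the ring
k[e]/(e^2) of dual numbers over a field the free coherent modules form such a class K', containing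
the structure sheaf and not the residue field. This row asks G to be supported in Z and annihilated
by the ideal sheaf of Z, which is what the published proof uses, through the stalk of G at y being a
vector space over the residue field of y.) -/
theorem result (X : Scheme.{u}) [IsNoetherian X]
    (K' : ObjectProperty X.Modules) [K'.IsClosedUnderIsomorphisms]
    (h0 : ∀ M : X.Modules, IsZero M → K' M)
    (hex : ∀ S : ShortComplex X.Modules, S.ShortExact → Coh.IsCoh S.X₁ → Coh.IsCoh S.X₂ → Coh.IsCoh S.X₃ →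
      (K' S.X₁ → K' S.X₂ → K' S.X₃) ∧ (K' S.X₁ → K' S.X₃ → K' S.X₂) ∧ (K' S.X₂ → K' S.X₃ → K' S.X₁))
    (hsum : ∀ (M N : X.Modules) (i : N ⟶ M) (r : M ⟶ N), i ≫ r = 𝟙 N → Coh.IsCoh M → Coh.IsCoh N →
      K' M → K' N)
    (X' : Set X) (hX' : IsClosed X')
    (hgen : ∀ (Z : Set X) (hZ : IsClosed Z), IsIrreducible Z → Z ⊆ X' → ∀ y : X, closure {y} = Z →
      ∃ G : X.Modules, Coh.IsCoh G ∧ K' G ∧ CohB1.support G ⊆ Z ∧
        ClSub.KilledByIdeal (Scheme.IdealSheafData.vanishingIdeal ⟨Z, hZ⟩) G ∧ y ∈ CohB1.support G)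
    (F : X.Modules) (hF : Coh.IsCoh F) (hsupp : CohB1.support F ⊆ X') : K' F := by
  classical
  refine Groth.Agent.LD.QC.devissage_master K' (fun A B e _ hA => K'.prop_of_iso e hA) X' h0
    (fun S hS h1 h2 h3 _ p1 p3 => (hex S hS h1 h2 h3).2.1 p1 p3) ?_ F hF hsupp
  intro Y hYc hirr hYX' IH Q hQ hQY
  obtain ⟨y, hy⟩ := QuasiSober.sober hirr hYc
  have hycl : closure {y} = Y := hy.def
  have hyY : y ∈ Y := hycl ▸ subset_closure rfl
  obtain ⟨G, hG, hKG, hGY, hkill, hyG⟩ := hgen Y hYc hirr hYX' y hycl
  haveI := hG.1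
  have hkill' : ClSub.KilledByIdeal
      (Scheme.IdealSheafData.vanishingIdeal ⟨closure {y}, isClosed_closure⟩) G := by
    have hcl : (⟨closure {y}, isClosed_closure⟩ : TopologicalSpace.Closeds X) = ⟨Y, hYc⟩ :=
      TopologicalSpace.Closeds.ext hycl
    rw [hcl]
    exact hkill
  have hk := Groth.Agent.LD.QC.stalk_smul_eq_zero_of_killedByIdeal G y hkill'
  obtain ⟨Ks, Ts, k, t, hkm, htm, hKc, hTc, hyKs, hyker, hycoker, hdich⟩ :=
    Groth.Agent.LD.QC.exists_sub_simple_dichotomy G hG y hyG hk
  haveI := hkm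
  haveI := htm
  have hKsY : CohB1.support Ks = Y := by
    apply Set.Subset.antisymm ((Groth.Agent.LD.QC.support_subset_of_mono k).trans hGY)
    rw [← hycl]
    exact (Groth.Agent.LD.QC.isClosed_support_of_isCoh hKc).closure_subset_iff.mpr
      (Set.singleton_subset_iff.mpr hyKs)
  have hTsY : CohB1.support Ts ⊆ Y := (Groth.Agent.LD.QC.support_subset_of_mono t).trans hGY
  haveI := hKc.1
  haveI := hTc.1
  have hDc : Coh.IsCoh (Ks ⊞ Ts) :=
    ⟨Groth.Agent.LD.SC.qc_biprod Ks Ts hKc.1 hTc.1,
     Groth.Agent.LD.QC.isFiniteType_biprod Ks Ts hKc.2 hTc.2⟩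
  have hDY : CohB1.support (Ks ⊞ Ts) ⊆ Y := by
    have hsp' : CohB1.support (Ks ⊞ Ts) = CohB1.support Ks ∪ CohB1.support Ts :=
      Groth.Agent.LD.QC.support_of_shortExact
        (ShortComplex.Splitting.ofHasBinaryBiproduct Ks Ts).shortExact
    rw [hsp']
    exact Set.union_subset hKsY.subset hTsY
  obtain ⟨δ, hδ⟩ : ∃ δ : Ks ⊞ Ts ⟶ G, δ = biprod.desc k t := ⟨_, rfl⟩
  rw [← hδ] at hyker hycoker
  have hKerc : Coh.IsCoh (kernel δ) := Groth.Agent.LD.QC.isCoh_kernel δ hDc hG
  have hCokc : Coh.IsCoh (cokernel δ) := Groth.Agent.LD.QC.isCoh_cokernel δ hDc hG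
  have hImc : Coh.IsCoh (Abelian.image δ) :=
    Groth.Agent.LD.QC.isCoh_kernel _ hG hCokc
  have hPker : K' (kernel δ) :=
    IH _ hKerc ((Groth.Agent.LD.QC.support_subset_of_mono (kernel.ι δ)).trans hDY)
      (fun h => hyker (h ▸ hyY))
  have hPcok : K' (cokernel δ) :=
    IH _ hCokc ((Groth.Agent.LD.QC.support_subset_of_epi (cokernel.π δ)).trans hGY)
      (fun h => hycoker (h ▸ hyY))
  have hses2 : (ShortComplex.mk (Abelian.image.ι δ) (cokernel.π δ)
      (kernel.condition _)).ShortExact :=
    { exact := ShortComplex.exact_of_f_is_kernel _ (kernelIsKernel (cokernel.π δ))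
      mono_f := inferInstanceAs (Mono (kernel.ι (cokernel.π δ)))
      epi_g := inferInstanceAs (Epi (cokernel.π δ)) }
  have hPim : K' (Abelian.image δ) := (hex _ hses2 hImc hG hCokc).2.2 hKG hPcok
  have hzero : kernel.ι δ ≫ Abelian.factorThruImage δ = 0 := by
    rw [← cancel_mono (Abelian.image.ι δ), Category.assoc, Abelian.image.fac, kernel.condition,
      zero_comp]
  have hses1 : (ShortComplex.mk (kernel.ι δ) (Abelian.factorThruImage δ) hzero).ShortExact :=
    { exact := by
        apply ShortComplex.exact_of_f_is_kernel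
        exact isKernelOfComp (Abelian.image.ι δ) δ (kernelIsKernel δ) hzero (Abelian.image.fac δ)
      mono_f := inferInstanceAs (Mono (kernel.ι δ))
      epi_g := inferInstanceAs (Epi (Abelian.factorThruImage δ)) }
  have hPD : K' (Ks ⊞ Ts) := (hex _ hses1 hKerc hDc hImc).2.1 hPker hPim
  have hPKs : K' Ks := hsum (Ks ⊞ Ts) Ks biprod.inl biprod.fst biprod.inl_fst hDc hKc hPD
  have hQ0 : ¬ CategoryTheory.Limits.IsZero Q := by
    intro hz
    have := Groth.Agent.LD.QC.support_eq_empty_of_isZero hz
    rw [hQY] at this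
    exact (this ▸ hyY : y ∈ (∅ : Set X))
  refine Groth.Agent.LD.QC.exists_sub_of_subs K' X'
    (fun S hS h1 h2 h3 _ p1 p2 => (hex S hS h1 h2 h3).1 p1 p2) Ks Q hKc hQ hQ0
    (by rw [hQY, hKsY]) (hKsY ▸ hYX') ?_
  intro K₂ k₂ hk₂ hK₂
  exact @Groth.Agent.LD.QC.sub_of_dichotomy X _ K' X'
    (fun S hS h1 h2 h3 _ p2 p3 => (hex S hS h1 h2 h3).2.2 p2 p3) Y y hyY Ks hKc hKsY
    hYX' hdich hPKs IH K₂ k₂ hk₂ hK₂

end Groth.Agent.S4458
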