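import Groth.Statements.S4459


set_option autoImplicit false
universe u
open Coherent

namespace Groth.Agent.S4459

open AlgebraicGeometry CategoryTheory in
/-- Let A be a Noetherian ring which is separated and complete for the J-adic topology, and let f : X →
Spec A be a morphism of schemes which is a closed map on underlying spaces. Then every open subset
of X containing the inverse image of V(J) is all of X. (The published statement also assumes X of
finite type over A; that hypothesis is not used.) -/
theorem result (A : Type u) [CommRing A] [IsNoetherianRing A]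
    (J : Ideal A) [IsAdicComplete J A] {X : Scheme.{u}} (f : X ⟶ Spec (CommRingCat.of A))
    (hf : IsClosedMap f.base) (U : X.Opens)
    (hU : f.base ⁻¹' (PrimeSpectrum.zeroLocus (J : Set A)) ⊆ (U : Set X)) : U = ⊤ := by
  classical
  have hJ : J ≤ Ideal.jacobson ⊥ := IsAdicComplete.le_jacobson_bot J
  by_contra hne
  have hne' : ((U : Set X)ᶜ).Nonempty := by
    rw [Set.nonempty_compl]
    intro h
    apply hne
    ext1
    simpa using h
  have hcl : IsClosed (f.base '' (U : Set X)ᶜ) := hf _ U.2.isClosed_compl
  obtain ⟨I, hI⟩ := (PrimeSpectrum.isClosed_iff_zeroLocus_ideal _).1 hcl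
  have hIne : I ≠ ⊤ := by
    intro h
    rw [h] at hI
    have : (f.base '' (U : Set X)ᶜ) = ∅ := by
      rw [hI]
      exact PrimeSpectrum.zeroLocus_empty_of_one_mem (by trivial)
    rw [Set.image_eq_empty] at this
    exact hne'.ne_empty this
  obtain ⟨m, hm, hIm⟩ := Ideal.exists_le_maximal I hIne
  let pm : PrimeSpectrum A := ⟨m, hm.isPrime⟩
  have hpm : pm ∈ f.base '' (U : Set X)ᶜ := by
    rw [hI]; exact hIm
  obtain ⟨x, hx, hfx⟩ := hpm
  apply hx
  apply hU
  change f.base x ∈ PrimeSpectrum.zeroLocus (J : Set A)
  rw [hfx]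
  change (J : Set A) ⊆ m
  intro a ha
  have h1 : a ∈ Ideal.jacobson (⊥ : Ideal A) := hJ ha
  rw [Ideal.jacobson, Ideal.mem_sInf] at h1
  exact h1 ⟨bot_le, hm⟩

end Groth.Agent.S4459
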