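import Groth.Statements.S4469
import Mathlib

set_option autoImplicit false
universe u
open CAlg

namespace Groth.Agent.S4469

namespace H1.S4469aux

theorem quasiFiniteAt (A B : Type u) [CommRing A] [CommRing B] [Algebra A B] [Algebra.FiniteType A B]
    (n : Ideal B) [n.IsMaximal]
    (hmin : ∀ q : Ideal B, q.IsPrime → q.comap (algebraMap A B) = n.comap (algebraMap A B) →
      q ≤ n → q = n) :
    Algebra.QuasiFiniteAt A n := by
  let q : PrimeSpectrum B := ⟨n, inferInstance⟩
  let e := PrimeSpectrum.preimageHomeomorphFiber A B (q.comap (algebraMap A B))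
  have hopen : IsOpen
      (X := PrimeSpectrum.comap (algebraMap A B) ⁻¹' {q.comap (algebraMap A B)}) {⟨q, rfl⟩} := by
    rw [← e.isOpen_image, Set.image_singleton]
    haveI : Algebra.FiniteType (q.comap (algebraMap A B)).asIdeal.ResidueField
      ((q.comap (algebraMap A B)).asIdeal.Fiber B) := by
      unfold Ideal.Fiber; infer_instance
    haveI : IsNoetherianRing ((q.comap (algebraMap A B)).asIdeal.Fiber B) :=
      Algebra.FiniteType.isNoetherianRing (q.comap (algebraMap A B)).asIdeal.ResidueField _
    haveI : IsJacobsonRing ((q.comap (algebraMap A B)).asIdeal.Fiber B) :=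
      isJacobsonRing_of_finiteType (A := (q.comap (algebraMap A B)).asIdeal.ResidueField)
    refine ((PrimeSpectrum.isOpen_singleton_tfae_of_isNoetherian_of_isJacobsonRing _).out 2 0
      rfl rfl).mp ⟨?_, ?_⟩
    · rw [← Set.image_singleton, e.isClosed_image]
      have : ({⟨q, rfl⟩} : Set (PrimeSpectrum.comap (algebraMap A B) ⁻¹'
          {q.comap (algebraMap A B)})) = Subtype.val ⁻¹' {q} := by
        ext y; simp [Subtype.ext_iff]
      rw [this]
      apply IsClosed.preimage continuous_subtype_val
      rw [PrimeSpectrum.isClosed_singleton_iff_isMaximal]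
      infer_instance
    · intro a b hab ha
      rw [Set.mem_singleton_iff] at ha ⊢
      subst ha
      obtain ⟨b', rfl⟩ := e.surjective b
      rw [e.isInducing.specializes_iff, subtype_specializes_iff,
        ← PrimeSpectrum.le_iff_specializes] at hab
      congr 1
      apply Subtype.ext
      apply PrimeSpectrum.ext
      apply hmin _ b'.1.2 _ hab
      have := b'.2
      simp only [Set.mem_preimage, Set.mem_singleton_iff] at this
      exact congrArg PrimeSpectrum.asIdeal this
  exact Algebra.QuasiFiniteAt.of_isOpen_singleton_fiber q hopen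

theorem main (A B K : Type u) [CommRing A]
    [IsDomain A] [IsNoetherianRing A] [IsLocalRing A] [IsIntegrallyClosed A] [CommRing B] [IsDomain B]
    [Field K] [Algebra A B] [Algebra B K] [Algebra A K] [IsScalarTower A B K] [IsFractionRing A K]
    [IsFractionRing B K] [Algebra.FiniteType A B] (n : Ideal B) [n.IsMaximal]
    (hn : n.comap (algebraMap A B) = IsLocalRing.maximalIdeal A)
    (hmin : ∀ q : Ideal B, q.IsPrime → q.comap (algebraMap A B) = IsLocalRing.maximalIdeal A →
      q ≤ n → q = n) :
    Function.Bijective (algebraMap A B) := by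
  haveI : Algebra.QuasiFiniteAt A n := quasiFiniteAt A B n (by rw [hn]; exact hmin)
  have hZ : Algebra.ZariskisMainProperty A n := .of_finiteType n
  rw [Algebra.zariskisMainProperty_iff] at hZ
  obtain ⟨r, hrn, hr, H⟩ := hZ
  have hinjBK : Function.Injective (algebraMap B K) := IsFractionRing.injective B K
  have hinjAK : Function.Injective (algebraMap A K) := IsFractionRing.injective A K
  -- integral elements of B come from A
  have hint : ∀ b : B, IsIntegral A b → ∃ a : A, algebraMap A B a = b := by
    intro b hb
    have hb' : IsIntegral A (algebraMap B K b) := hb.map (IsScalarTower.toAlgHom A B K)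
    obtain ⟨a, ha⟩ := IsIntegrallyClosed.isIntegral_iff.mp hb'
    refine ⟨a, hinjBK ?_⟩
    rw [← ha, ← IsScalarTower.algebraMap_apply]
  obtain ⟨a, rfl⟩ := hint r hr
  have hau : IsUnit a := by
    by_contra h
    have : a ∈ IsLocalRing.maximalIdeal A := (IsLocalRing.mem_maximalIdeal a).2 h
    rw [← hn] at this
    exact hrn this
  constructor
  · intro x y hxy
    apply hinjAK
    rw [IsScalarTower.algebraMap_apply A B K, hxy, ← IsScalarTower.algebraMap_apply A B K]
  · intro x
    obtain ⟨k, hk⟩ := H x
    obtain ⟨c, hc⟩ := hint _ hk
    obtain ⟨u, rfl⟩ := hau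
    refine ⟨(↑(u⁻¹) : A) ^ k * c, ?_⟩
    rw [map_mul, map_pow, hc, ← mul_assoc, ← mul_pow, ← map_mul]
    simp

end H1.S4469aux

/-- Let A be an integrally closed Noetherian local domain with field of fractions K, B an A-algebra of
finite type which is a domain with the same field of fractions (A → B → K compatible with A → K),
and 𝔫 a maximal ideal of B lying over the maximal ideal 𝔪 of A and minimal among the prime ideals of
B lying over 𝔪. Then B = A: the structure map A → B is bijective. -/
theorem result (A B K : Type u) [CommRing A]
    [IsDomain A] [IsNoetherianRing A] [IsLocalRing A] [IsIntegrallyClosed A] [CommRing B] [IsDomain B]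
    [Field K] [Algebra A B] [Algebra B K] [Algebra A K] [IsScalarTower A B K] [IsFractionRing A K]
    [IsFractionRing B K] [Algebra.FiniteType A B] (n : Ideal B) [n.IsMaximal]
    (hn : n.comap (algebraMap A B) = IsLocalRing.maximalIdeal A)
    (hmin : ∀ q : Ideal B, q.IsPrime → q.comap (algebraMap A B) = IsLocalRing.maximalIdeal A → q ≤ n → q = n) :
    Function.Bijective (algebraMap A B) := by
  exact H1.S4469aux.main A B K n hn hmin

end Groth.Agent.S4469
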