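import Groth.Statements.S4472
import Groth.Agent.S0002
import Groth.Agent.S0003
import Groth.Agent.Lib.Lead.Stein.BlowUpFibre

set_option autoImplicit false
universe u
open Coherent

namespace Groth.Agent.S4472

open AlgebraicGeometry CategoryTheory in
/-- Let A be a unibranch Noetherian local domain (a local domain whose integral closure is a local ring)
with maximal ideal m, let 𝔞 be an ideal of definition of A (𝔞 ⊆ m and m^p ⊆ 𝔞 for some p), and let b
: X → Spec A be a blowing up of Spec A in the ideal sheaf defined by 𝔞. Then the fibre of b over the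
closed point is preconnected. Its underlying space is that of Proj of the associated graded ring ⊕
𝔞^i/𝔞^(i+1), so this says that Proj is connected (possibly empty). -/
theorem result (A : Type u) [CommRing A] [IsDomain A]
    [IsNoetherianRing A] [IsLocalRing A] (hA : CAlg2.IsUnibranch A) (𝔞 : Ideal A)
    (hle : 𝔞 ≤ IsLocalRing.maximalIdeal A)
    (hpow : ∃ p : ℕ, IsLocalRing.maximalIdeal A ^ p ≤ 𝔞) {X : Scheme.{u}}
    (b : X ⟶ Spec (CommRingCat.of A))
    (hb : BlowUp.IsBlowUp b
      (Scheme.IdealSheafData.ofIdealTop (𝔞.map (Scheme.ΓSpecIso (CommRingCat.of A)).inv.hom))) :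
    PreconnectedSpace ↥(b.fiber (IsLocalRing.closedPoint A)) := by
  have hfin : Groth.Agent.LD.RS.FinCoh.{u} :=
    fun A _ _ Y _ _ N hN n => Groth.Agent.S0002.result A Y N hN n
  have hF : Groth.Agent.LD.PS.FormalBijHyp.{u} :=
    fun A _ _ I _ X _ _ M hM p => Groth.Agent.S0003.result A I X M hM p
  exact Groth.Agent.LD.Stein.preconnectedSpace_fiber_blowUp hfin hF A hA 𝔞 b hb

end Groth.Agent.S4472
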