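import Groth.Statements.S4486
import Groth.Agent.Lib.Helper8.TFunGeneric
-- import your own Groth.Agent.* helpers here

set_option autoImplicit false
universe u
open FlatCx

namespace Groth.Agent.S4486

open CategoryTheory CategoryTheory.Limits in
/-- For the homological functor T_p(M) = H_p(P ⊗_A M) of a chain complex P of flat modules over a
commutative ring A, which commutes with filtered colimits. Let A be a domain and suppose P_i = 0 for
i < i₀ and that every T_n(A) is a finitely presented A-module. Then for every integer N there is a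
nonzero f ∈ A such that, for every p ≤ N, the functor of A_f-modules N ↦ H_p(P_f ⊗_{A_f} N), where
P_f = P ⊗_A A_f, takes injections to injections and surjections to surjections. -/
theorem result {A : Type u} [CommRing A] [IsDomain A]
    (P : ChainComplex (ModuleCat.{u} A) ℤ) (hP : ∀ i, Module.Flat A (P.X i)) (i₀ : ℤ)
    (hb : ∀ i < i₀, IsZero (P.X i))
    (hfp : ∀ n : ℤ, Module.FinitePresentation A (CohIII.T P n (ModuleCat.of A A))) (N : ℤ) :
    ∃ f : A, f ≠ 0 ∧ ∀ p ≤ N,
      (CohIII.TFun (CohIII.bcCx (algebraMap A (Localization.Away f)) P) p).PreservesMonomorphisms ∧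
        (CohIII.TFun (CohIII.bcCx (algebraMap A (Localization.Away f)) P) p).PreservesEpimorphisms := by
  open Groth.Agent.H8.TFun in
  obtain ⟨f, hf, hflat⟩ := exists_flat_coker_away P hP i₀ hb
    (fun n => finitePresentation_homology_of_T P n (hfp n)) (N - i₀ + 1).toNat
  refine ⟨f, hf, fun p hp => ?_⟩
  have hn : ((N - i₀ + 1).toNat : ℤ) ≥ N - i₀ + 1 := Int.self_le_toNat _
  have hP' : ∀ i, Module.Flat (Localization.Away f)
      ((CohIII.bcCx (algebraMap A (Localization.Away f)) P).X i) := fun i => by
    have := hP i
    exact flat_bcCx_X P i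
  refine ⟨?_, ?_⟩
  · rw [preservesMono_iff_flat _ hP' (p + 1) p rfl, flat_coker_bcCx_iff]
    exact hflat p (by omega)
  · rw [preservesEpi_iff_flat _ hP' p (p - 1) (by ring), flat_coker_bcCx_iff]
    have h := hflat (p - 1) (by omega)
    have e : p - 1 + 1 = p := by ring
    rw [e] at h
    exact h

end Groth.Agent.S4486
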