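import Groth.Statements.S4488
import Groth.Agent.Lib.Helper8.TFunFlatHomology
import Groth.Agent.Lib.Helper8.ReducedFlat
-- import your own Groth.Agent.* helpers here

set_option autoImplicit false
universe u
open FlatCx

namespace Groth.Agent.S4488

open CategoryTheory CategoryTheory.Limits in
/-- For the homological functor T_q(M) = H_q(P ⊗_A M) of a chain complex P of flat modules over a
commutative local ring A with residue field k. Suppose P_i = 0 for i < i₀ and that every T_n(A) is a
finitely presented A-module, and let p be an integer. If T_q takes injections to injections and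
surjections to surjections for every q ≤ p, then dim_{k(x)} T_q(k(x)) = dim_k T_q(k) for every point
x of Spec A and every q ≤ p. Conversely, if A is reduced and this equality holds at the generic
point of every irreducible component of Spec A (every minimal prime) for every q ≤ p, then T_q takes
injections to injections and surjections to surjections for every q ≤ p. No Noetherian hypothesis on
A. -/
theorem result {A : Type u} [CommRing A] [IsLocalRing A]
    (P : ChainComplex (ModuleCat.{u} A) ℤ) (hP : ∀ i, Module.Flat A (P.X i)) (i₀ : ℤ)
    (hb : ∀ i < i₀, IsZero (P.X i))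
    (hfp : ∀ n : ℤ, Module.FinitePresentation A (CohIII.T P n (ModuleCat.of A A))) (p : ℤ) :
    ((∀ q ≤ p, (CohIII.TFun P q).PreservesMonomorphisms ∧ (CohIII.TFun P q).PreservesEpimorphisms) →
        ∀ (x : PrimeSpectrum A), ∀ q ≤ p, CohIII.dRank P q x = CohIII.dRank P q (IsLocalRing.closedPoint A)) ∧
      (IsReduced A →
        (∀ x : PrimeSpectrum A, x.asIdeal ∈ minimalPrimes A →
          ∀ q ≤ p, CohIII.dRank P q x = CohIII.dRank P q (IsLocalRing.closedPoint A)) →
        ∀ q ≤ p, (CohIII.TFun P q).PreservesMonomorphisms ∧ (CohIII.TFun P q).PreservesEpimorphisms) := by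
  open Groth.Agent.H8.TFun Groth.Agent.H8.DRank in
  refine ⟨?_, ?_⟩
  · intro h x q hq
    have hlc := dRank_isLocallyConstant_of_exact P hP q (h q hq) (hfp q)
    have hopen : IsOpen {z | CohIII.dRank P q z = CohIII.dRank P q (IsLocalRing.closedPoint A)} :=
      hlc.isOpen_fiber _
    exact (IsLocalRing.specializes_closedPoint x).mem_open hopen rfl
  · intro hred hmin
    -- flatness of all the cokernels `W_q`, `q ≤ p`
    have hW : ∀ n : ℕ, ∀ q : ℤ, q ≤ p → q < i₀ + n →
        Module.Flat A (P.X q ⧸ LinearMap.range (P.d (q + 1) q).hom) := by
      intro n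
      induction n with
      | zero =>
        intro q _ hq
        have hz : IsZero (P.X q) := hb q (by simpa using hq)
        have : Subsingleton (P.X q) := ModuleCat.subsingleton_of_isZero hz
        infer_instance
      | succ n ih =>
        intro q hqp hq
        have hW1 : Module.Flat A (P.X (q - 1) ⧸ LinearMap.range (P.d (q - 1 + 1) (q - 1)).hom) :=
          ih (q - 1) (by omega) (by push_cast at hq; omega)
        have hW1' : Module.Flat A (P.X (q - 1) ⧸ LinearMap.range (P.d q (q - 1)).hom) := by
          have e : q - 1 + 1 = q := by ring
          rw [e] at hW1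
          exact hW1
        have := hP (q - 1)
        have hfpH := finitePresentation_homology_of_T P q (hfp q)
        have hfree : Module.Free A (P.homology q) := by
          refine free_of_fibDim_minimalPrimes _ fun x hx => ?_
          rw [← dRank_eq_fibDim_homology P q (q - 1) (by ring) x,
            ← dRank_eq_fibDim_homology P q (q - 1) (by ring) (IsLocalRing.closedPoint A)]
          exact hmin x hx q hqp
        have hflat : Module.Flat A (P.homology q) := inferInstance
        exact (flat_coker_iff_flat_homology' P (q + 1) q (q - 1) (by simp) (by simp)).2 hflat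
    have hW' : ∀ q : ℤ, q ≤ p → Module.Flat A (P.X q ⧸ LinearMap.range (P.d (q + 1) q).hom) := by
      intro q hq
      by_cases hqi : q < i₀
      · exact hW 0 q hq (by simpa using hqi)
      · refine hW (q - i₀ + 1).toNat q hq ?_
        have : ((q - i₀ + 1).toNat : ℤ) = q - i₀ + 1 := Int.toNat_of_nonneg (by omega)
        omega
    intro q hq
    refine ⟨(preservesMono_iff_flat P hP (q + 1) q rfl).2 (hW' q hq), ?_⟩
    rw [preservesEpi_iff_flat P hP q (q - 1) (by ring)]
    have h1 := hW' (q - 1) (by omega)
    have e : q - 1 + 1 = q := by ring
    rw [e] at h1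
    exact h1

end Groth.Agent.S4488
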