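import Groth.Statements.S4492
import Mathlib

set_option autoImplicit false
universe u
open FlatCx

namespace Groth.Agent.S4492

section
variable {R : Type*} [Ring R] {X Y Z : Type*} [AddCommGroup X] [Module R X]
  [AddCommGroup Y] [Module R Y] [AddCommGroup Z] [Module R Z]
  (f : X →ₗ[R] Y) (g : Y →ₗ[R] Z)

lemma length_decomp (H : Function.Exact f g) :
    Module.length R X = Module.length R (LinearMap.ker f) + Module.length R (LinearMap.range f) ∧
    Module.length R Z = Module.length R (LinearMap.range g) +
      Module.length R (Z ⧸ LinearMap.range g) ∧
    Module.length R Y = Module.length R (LinearMap.range f) + Module.length R (LinearMap.range g) := by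
  refine ⟨?_, ?_, ?_⟩
  · exact Module.length_eq_add_of_exact (LinearMap.ker f).subtype f.rangeRestrict
      (Submodule.subtype_injective _) f.surjective_rangeRestrict
      (by
        intro x
        constructor
        · intro hx
          exact ⟨⟨x, by
            have := congrArg Subtype.val hx
            simpa using this⟩, rfl⟩
        · rintro ⟨y, rfl⟩
          apply Subtype.ext
          simpa using y.2)
  · exact Module.length_eq_add_of_exact (LinearMap.range g).subtype (LinearMap.range g).mkQ
      (Submodule.subtype_injective _) (Submodule.mkQ_surjective _)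
      (by
        intro z
        constructor
        · intro hz
          rw [Submodule.mkQ_apply, Submodule.Quotient.mk_eq_zero] at hz
          exact ⟨⟨z, hz⟩, rfl⟩
        · rintro ⟨y, rfl⟩
          rw [Submodule.mkQ_apply, Submodule.Quotient.mk_eq_zero]
          exact y.2)
  · have hk : LinearMap.range f = LinearMap.ker g := (LinearMap.exact_iff.mp H).symm
    rw [hk]
    exact Module.length_eq_add_of_exact (LinearMap.ker g).subtype g.rangeRestrict
      (Submodule.subtype_injective _) g.surjective_rangeRestrict
      (by
        intro x
        constructor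
        · intro hx
          exact ⟨⟨x, by
            have := congrArg Subtype.val hx
            simpa using this⟩, rfl⟩
        · rintro ⟨y, rfl⟩
          apply Subtype.ext
          simpa using y.2)

lemma length_le_of_exact (H : Function.Exact f g) :
    Module.length R Y ≤ Module.length R X + Module.length R Z := by
  obtain ⟨h1, h2, h3⟩ := length_decomp f g H
  rw [h1, h2, h3]
  calc Module.length R (LinearMap.range f) + Module.length R (LinearMap.range g)
      ≤ (Module.length R (LinearMap.ker f) + Module.length R (LinearMap.range f)) +
        (Module.length R (LinearMap.range g) + Module.length R (Z ⧸ LinearMap.range g)) :=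
        add_le_add le_add_self le_self_add

lemma length_eq_iff_of_exact (H : Function.Exact f g) (hX : Module.length R X ≠ ⊤)
    (hZ : Module.length R Z ≠ ⊤) :
    Module.length R Y = Module.length R X + Module.length R Z ↔
      Function.Injective f ∧ Function.Surjective g := by
  constructor
  · intro heq
    obtain ⟨h1, h2, h3⟩ := length_decomp f g H
    rw [h1] at hX
    rw [h2] at hZ
    rw [h1, h2, h3] at heq
    have ha : Module.length R (LinearMap.ker f) ≠ ⊤ := fun h => hX (by rw [h, top_add])
    have hb : Module.length R (LinearMap.range f) ≠ ⊤ := fun h => hX (by rw [h, add_top])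
    have hc : Module.length R (LinearMap.range g) ≠ ⊤ := fun h => hZ (by rw [h, top_add])
    have hd : Module.length R (Z ⧸ LinearMap.range g) ≠ ⊤ := fun h => hZ (by rw [h, add_top])
    obtain ⟨a, ha'⟩ := ENat.ne_top_iff_exists.mp ha
    obtain ⟨b, hb'⟩ := ENat.ne_top_iff_exists.mp hb
    obtain ⟨c, hc'⟩ := ENat.ne_top_iff_exists.mp hc
    obtain ⟨d, hd'⟩ := ENat.ne_top_iff_exists.mp hd
    rw [← ha', ← hb', ← hc', ← hd'] at heq
    norm_cast at heq
    have ha0 : a = 0 := by omega
    have hd0 : d = 0 := by omega
    rw [ha0] at ha'
    rw [hd0] at hd'
    have h1 : Subsingleton (LinearMap.ker f) := Module.length_eq_zero_iff.mp ha'.symm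
    have h2 : Subsingleton (Z ⧸ LinearMap.range g) := Module.length_eq_zero_iff.mp hd'.symm
    constructor
    · rw [← LinearMap.ker_eq_bot]
      exact Submodule.subsingleton_iff_eq_bot.mp h1
    · rw [← LinearMap.range_eq_top]
      exact Submodule.Quotient.subsingleton_iff.mp h2
  · rintro ⟨hf, hg⟩
    exact Module.length_eq_add_of_exact f g hf hg H
end

open CategoryTheory CategoryTheory.Limits in
/-- (The published statement is for arbitrary abelian categories; this row is for functors between
module categories.) Let F be an additive functor from A-modules to B-modules which is half exact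
(every short exact sequence 0 → E' → E → E'' → 0 goes to a sequence F(E') → F(E) → F(E'') exact at
the middle) and such that F(S) has finite length for every simple A-module S. Then F(E) has finite
length for every A-module E of finite length; and for every short exact sequence 0 → E' → E → E'' →
0 of A-modules with E of finite length one has length F(E) ≤ length F(E') + length F(E''), with
equality if and only if 0 → F(E') → F(E) → F(E'') → 0 is (short) exact. Lengths are Mathlib's,
valued in ℕ∞. -/
theorem result {A B : Type u} [Ring A] [Ring B]
    (F : ModuleCat.{u} A ⥤ ModuleCat.{u} B) [F.Additive]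
    (hF : ∀ S : ShortComplex (ModuleCat.{u} A), S.ShortExact → (S.map F).Exact)
    (hS : ∀ M : ModuleCat.{u} A, IsSimpleModule A M → Module.length B (F.obj M) ≠ ⊤) :
    (∀ E : ModuleCat.{u} A, Module.length A E ≠ ⊤ → Module.length B (F.obj E) ≠ ⊤) ∧
      ∀ S : ShortComplex (ModuleCat.{u} A), S.ShortExact → Module.length A S.X₂ ≠ ⊤ →
        Module.length B (F.obj S.X₂) ≤ Module.length B (F.obj S.X₁) + Module.length B (F.obj S.X₃) ∧
          (Module.length B (F.obj S.X₂) = Module.length B (F.obj S.X₁) + Module.length B (F.obj S.X₃) ↔
            (S.map F).ShortExact) := by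
  have hexact : ∀ S : CategoryTheory.ShortComplex (ModuleCat.{u} A), S.ShortExact →
      Function.Exact (F.map S.f).hom (F.map S.g).hom := fun S hS' =>
    (CategoryTheory.ShortComplex.ShortExact.moduleCat_exact_iff_function_exact (S.map F)).mp (hF S hS')
  have part1 : ∀ (n : ℕ) (E : ModuleCat.{u} A), Module.length A E = n →
      Module.length B (F.obj E) ≠ ⊤ := by
    intro n
    induction n with
    | zero =>
      intro E hE
      have hsub : Subsingleton E := Module.length_eq_zero_iff.mp (by simpa using hE)
      have hz : CategoryTheory.Limits.IsZero E := ModuleCat.isZero_of_subsingleton E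
      have hz' : CategoryTheory.Limits.IsZero (F.obj E) := F.map_isZero hz
      have : Subsingleton (F.obj E) := ModuleCat.subsingleton_of_isZero hz'
      rw [Module.length_eq_zero]
      simp
    | succ n ih =>
      intro E hE
      have hfin : IsFiniteLength A E := Module.length_ne_top_iff.mp (by rw [hE]; simp)
      obtain ⟨hnoeth, hart⟩ := isFiniteLength_iff_isNoetherian_isArtinian.mp hfin
      have hnt : Nontrivial E := by
        rw [← Module.length_pos_iff (R := A), hE]
        simp
      obtain ⟨N, hN⟩ : ∃ N : Submodule A E, IsAtom N := by
        obtain h | ⟨N, hN, -⟩ := IsAtomic.eq_bot_or_exists_atom_le (⊤ : Submodule A E)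
        · exact absurd h top_ne_bot
        · exact ⟨N, hN⟩
      have hsimple : IsSimpleModule A N := isSimpleModule_iff_isAtom.mpr hN
      let S : CategoryTheory.ShortComplex (ModuleCat.{u} A) :=
        CategoryTheory.ShortComplex.mk (ModuleCat.ofHom N.subtype) (ModuleCat.ofHom N.mkQ)
          (by ext x; simp)
      have hSE : S.ShortExact := ModuleCat.shortComplex_shortExact S
        (LinearMap.exact_subtype_mkQ N) (Submodule.subtype_injective N) (Submodule.mkQ_surjective N)
      have hlen : Module.length A E = Module.length A N + Module.length A (E ⧸ N) :=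
        Module.length_eq_add_of_exact N.subtype N.mkQ (Submodule.subtype_injective N)
          (Submodule.mkQ_surjective N) (LinearMap.exact_subtype_mkQ N)
      rw [Module.length_eq_one_iff.mpr hsimple, hE] at hlen
      have hq : Module.length A (E ⧸ N) = n := by
        have hne : Module.length A (E ⧸ N) ≠ ⊤ := by
          intro h
          rw [h] at hlen
          simp at hlen
        obtain ⟨d, hd⟩ := ENat.ne_top_iff_exists.mp hne
        rw [← hd] at hlen ⊢
        norm_cast at hlen ⊢
        omega
      have h3 := ih (ModuleCat.of A (E ⧸ N)) hq
      have h1 := hS (ModuleCat.of A N) hsimple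
      have hle := length_le_of_exact _ _ (hexact S hSE)
      intro htop
      rw [htop] at hle
      exact (lt_of_le_of_lt hle (WithTop.add_lt_top.mpr ⟨lt_top_iff_ne_top.mpr h1,
        lt_top_iff_ne_top.mpr h3⟩)).ne rfl
  have part1' : ∀ E : ModuleCat.{u} A, Module.length A E ≠ ⊤ → Module.length B (F.obj E) ≠ ⊤ := by
    intro E hE
    obtain ⟨n, hn⟩ := ENat.ne_top_iff_exists.mp hE
    exact part1 n E hn.symm
  refine ⟨part1', ?_⟩
  intro S hSE hfin
  have hlen : Module.length A S.X₂ = Module.length A S.X₁ + Module.length A S.X₃ :=
    Module.length_eq_add_of_exact S.f.hom S.g.hom hSE.moduleCat_injective_f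
      hSE.moduleCat_surjective_g
      ((CategoryTheory.ShortComplex.ShortExact.moduleCat_exact_iff_function_exact S).mp hSE.exact)
  have h1 : Module.length A S.X₁ ≠ ⊤ := fun h => hfin (by rw [hlen, h, top_add])
  have h3 : Module.length A S.X₃ ≠ ⊤ := fun h => hfin (by rw [hlen, h, add_top])
  have hex := hexact S hSE
  refine ⟨length_le_of_exact _ _ hex, ?_⟩
  rw [length_eq_iff_of_exact _ _ hex (part1' _ h1) (part1' _ h3)]
  constructor
  · rintro ⟨hi, hs⟩
    exact ModuleCat.shortComplex_shortExact (S.map F) hex hi hs
  · intro hse
    exact ⟨hse.moduleCat_injective_f, hse.moduleCat_surjective_g⟩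

end Groth.Agent.S4492
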