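import Groth.Statements.S4495
import Mathlib

set_option autoImplicit false
universe u
open FlatCx

namespace Groth.Agent.S4495

open CategoryTheory AlgebraicGeometry Opposite in
/-- A locally ringed space Z is connected, in the sense that it is not the disjoint union of two
nonempty open subsets (the empty space being allowed), if and only if every idempotent of the ring
of global sections Γ(Z, O_Z) is 0 or 1 (equivalently, Γ(Z, O_Z) is not isomorphic to a product of
two nonzero rings). -/
theorem result (Z : LocallyRingedSpace.{u}) :
    PreconnectedSpace Z ↔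
      ∀ e : Z.presheaf.obj (op ⊤), IsIdempotentElem e → e = 0 ∨ e = 1 := by
  constructor
  · intro hpc e he
    -- the two basic opens
    have hcov : ∀ x : Z, IsUnit (Z.presheaf.Γgerm x e) ∨ IsUnit (Z.presheaf.Γgerm x (1 - e)) := by
      intro x
      have : Z.presheaf.Γgerm x e + Z.presheaf.Γgerm x (1 - e) = 1 := by
        rw [← map_add]; simp
      exact IsLocalRing.isUnit_or_isUnit_of_add_one this
    have hdisj : ∀ x : Z, ¬ (IsUnit (Z.presheaf.Γgerm x e) ∧ IsUnit (Z.presheaf.Γgerm x (1 - e))) := by
      rintro x ⟨h1, h2⟩
      have h0 : Z.presheaf.Γgerm x e * Z.presheaf.Γgerm x (1 - e) = 0 := by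
        rw [← map_mul, mul_sub, mul_one, he.eq, sub_self, map_zero]
      have := h1.mul h2
      rw [h0] at this
      exact not_isUnit_zero this
    let u : TopologicalSpace.Opens Z := Z.toRingedSpace.basicOpen e
    let v : TopologicalSpace.Opens Z := Z.toRingedSpace.basicOpen (1 - e)
    have hu : ∀ x, x ∈ u ↔ IsUnit (Z.presheaf.Γgerm x e) := fun x =>
      Z.toRingedSpace.mem_top_basicOpen e x
    have hv : ∀ x, x ∈ v ↔ IsUnit (Z.presheaf.Γgerm x (1 - e)) := fun x =>
      Z.toRingedSpace.mem_top_basicOpen (1 - e) x
    have hclopen : IsClopen (u : Set Z) := by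
      refine ⟨?_, u.isOpen⟩
      have : (u : Set Z)ᶜ = v := by
        ext x
        simp only [Set.mem_compl_iff, SetLike.mem_coe]
        rw [hu, hv]
        constructor
        · intro h; exact (hcov x).resolve_left h
        · intro h h'; exact hdisj x ⟨h', h⟩
      rw [← isOpen_compl_iff, this]
      exact v.isOpen
    rcases isClopen_iff.mp hclopen with h | h
    · -- u = ∅, so 1 - e is a unit everywhere
      left
      have : IsUnit (1 - e) := by
        apply Z.toRingedSpace.isUnit_of_isUnit_germ ⊤
        intro x _
        have hx : x ∉ u := by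
          intro hx; rw [← SetLike.mem_coe, h] at hx; exact hx
        rw [hu] at hx
        exact (hcov x).resolve_left hx
      have h1 : (1 - e) * (1 - e) = (1 - e) := he.one_sub.eq
      have h2 : 1 - e = 1 := by
        obtain ⟨w, hw⟩ := this
        have := congrArg (fun t => (↑w⁻¹ : Z.presheaf.obj (op ⊤)) * t) h1
        simp only [← hw] at this
        rw [← mul_assoc, Units.inv_mul, one_mul] at this
        rw [← hw]; exact this
      linear_combination -h2
    · right
      have : IsUnit e := by
        apply Z.toRingedSpace.isUnit_of_isUnit_germ ⊤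
        intro x _
        have hx : x ∈ u := by
          rw [← SetLike.mem_coe, h]; trivial
        exact (hu x).mp hx
      obtain ⟨w, hw⟩ := this
      have := congrArg (fun t => (↑w⁻¹ : Z.presheaf.obj (op ⊤)) * t) he.eq
      simp only [← hw] at this
      rw [← mul_assoc, Units.inv_mul, one_mul] at this
      rw [← hw]; exact this
  · intro h
    rw [preconnectedSpace_iff_clopen]
    intro s hs
    let U : TopologicalSpace.Opens Z := ⟨s, hs.isOpen⟩
    let V : TopologicalSpace.Opens Z := ⟨sᶜ, hs.compl.isOpen⟩
    have hUV : U ⊓ V = ⊥ := by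
      ext x; simp [U, V]
    have hUVtop : (⊤ : TopologicalSpace.Opens Z) ≤ U ⊔ V := by
      intro x _
      by_cases hx : x ∈ s
      · exact Or.inl hx
      · exact Or.inr hx
    let F : TopCat.Sheaf CommRingCat Z.toTopCat := Z.sheaf
    haveI hsub : Subsingleton (F.1.obj (op (U ⊓ V))) :=
      CommRingCat.subsingleton_of_isTerminal (F.isTerminalOfEqEmpty hUV)
    let x : RingHom.eqLocus
      (RingHom.comp (F.obj.map (homOfLE inf_le_left : U ⊓ V ⟶ U).op).hom
        (RingHom.fst (F.obj.obj <| op U) (F.obj.obj <| op V)))
      (RingHom.comp (F.obj.map (homOfLE inf_le_right : U ⊓ V ⟶ V).op).hom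
        (RingHom.snd (F.obj.obj <| op U) (F.obj.obj <| op V))) := ⟨(1, 0), Subsingleton.elim _ _⟩
    have hxid : x * x = x := by
      apply Subtype.ext
      simp [x]
    have he'id0 : (F.objSupIsoProdEqLocus U V).inv x * (F.objSupIsoProdEqLocus U V).inv x =
        (F.objSupIsoProdEqLocus U V).inv x := by
      rw [← map_mul, hxid]
    let e' : Z.presheaf.obj (op (U ⊔ V)) := (F.objSupIsoProdEqLocus U V).inv x
    have he'id : e' * e' = e' := he'id0
    let e : Z.presheaf.obj (op ⊤) := Z.presheaf.map (homOfLE hUVtop).op e'
    have heid : IsIdempotentElem e := by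
      change Z.presheaf.map (homOfLE hUVtop).op e' * Z.presheaf.map (homOfLE hUVtop).op e' =
        Z.presheaf.map (homOfLE hUVtop).op e'
      rw [← map_mul, he'id]
    have hresU : Z.presheaf.map (homOfLE (le_top : U ≤ ⊤)).op e = 1 := by
      have h1 := F.objSupIsoProdEqLocus_inv_fst U V x
      change Z.presheaf.map (homOfLE (le_top : U ≤ ⊤)).op (Z.presheaf.map (homOfLE hUVtop).op e') = 1
      rw [← CommRingCat.comp_apply, ← Functor.map_comp, ← op_comp]
      exact h1
    have hresV : Z.presheaf.map (homOfLE (le_top : V ≤ ⊤)).op e = 0 := by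
      have h1 := F.objSupIsoProdEqLocus_inv_snd U V x
      change Z.presheaf.map (homOfLE (le_top : V ≤ ⊤)).op (Z.presheaf.map (homOfLE hUVtop).op e') = 0
      rw [← CommRingCat.comp_apply, ← Functor.map_comp, ← op_comp]
      exact h1
    -- a nonempty open has nontrivial sections
    have hnontriv : ∀ (W : TopologicalSpace.Opens Z) (y : Z), y ∈ W → (1 : Z.presheaf.obj (op W)) ≠ 0 := by
      intro W y hy h10
      have := congrArg (Z.presheaf.germ W y hy) h10
      rw [map_one, map_zero] at this
      exact one_ne_zero this
    rcases h e heid with he0 | he1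
    · left
      rw [Set.eq_empty_iff_forall_notMem]
      intro y hy
      apply hnontriv U y hy
      rw [← hresU, he0, map_zero]
    · right
      rw [Set.eq_univ_iff_forall]
      intro y
      by_contra hy
      apply hnontriv V y hy
      rw [← hresV, he1, map_one]

end Groth.Agent.S4495
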