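import Groth.Statements.S4496
import Groth.Agent.Lib.Helper8.TFunTensorIso
-- import your own Groth.Agent.* helpers here

set_option autoImplicit false
universe u
open FlatCx

namespace Groth.Agent.S4496

open CategoryTheory CategoryTheory.Limits MonoidalCategory in
/-- For the homological functor T_p(M) = H_p(P ⊗_A M) of a chain complex P of flat modules over a
commutative ring A: T_p takes injections to injections and surjections to surjections if and only if
T_p is isomorphic to the functor M ↦ N ⊗_A M for some flat A-module N (which is then isomorphic to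
T_p(A)). -/
theorem result {A : Type u} [CommRing A]
    (P : ChainComplex (ModuleCat.{u} A) ℤ) (hP : ∀ i, Module.Flat A (P.X i)) (p : ℤ) :
    ((CohIII.TFun P p).PreservesMonomorphisms ∧ (CohIII.TFun P p).PreservesEpimorphisms) ↔
      ∃ N : ModuleCat.{u} A, Module.Flat A N ∧ Nonempty (CohIII.TFun P p ≅ tensorLeft N) := by
  open Groth.Agent.H8.TFun in
  constructor
  · rintro ⟨hm, he⟩
    have hflat := (preservesEpi_iff_flat P hP p (p - 1) (by ring)).1 he
    have := hP (p - 1)
    have e := TFunIsoOfFlatCoker P p (p - 1) (by ring)
    refine ⟨P.homology p, ?_, ⟨e⟩⟩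
    rw [← preservesMonomorphisms_tensorLeft_iff_flat]
    exact Functor.PreservesMonomorphisms.of_iso e
  · rintro ⟨N, hN, ⟨e⟩⟩
    have h1 := preservesEpimorphisms_tensorLeft N
    have h2 := (preservesMonomorphisms_tensorLeft_iff_flat N).2 hN
    exact ⟨Functor.PreservesMonomorphisms.of_iso e.symm, Functor.PreservesEpimorphisms.of_iso e.symm⟩

end Groth.Agent.S4496
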