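import Groth.Statements.S4497
import Groth.Agent.Lib.Helper8.TFunArtin
-- import your own Groth.Agent.* helpers here

set_option autoImplicit false
universe u
open FlatCx

namespace Groth.Agent.S4497

open CategoryTheory CategoryTheory.Limits in
/-- For the homological functor T_i(M) = H_i(P ⊗_A M) of a chain complex P of flat modules over a
commutative Artinian local ring A with residue field k; the terms of P need not be finitely
generated. With p + 1 = q: T_p takes injections to injections and surjections to surjections if and
only if the maps T_p(A) → T_p(k) and T_q(A) → T_q(k) induced by A → k are both surjective. If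
moreover T_p(k) has finite length d, these conditions are also equivalent to: length T_p(M) = d ·
length M for every A-module M of finite length (lengths valued in ℕ∞). -/
theorem result {A : Type u} [CommRing A] [IsArtinianRing A]
    [IsLocalRing A] (P : ChainComplex (ModuleCat.{u} A) ℤ) (hP : ∀ i, Module.Flat A (P.X i)) (p q : ℤ)
    (hpq : p + 1 = q) :
    (((CohIII.TFun P p).PreservesMonomorphisms ∧ (CohIII.TFun P p).PreservesEpimorphisms) ↔
      (Function.Surjective ((CohIII.TFun P p).map
          (ModuleCat.ofHom (Algebra.linearMap A (IsLocalRing.ResidueField A)))).hom ∧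
        Function.Surjective ((CohIII.TFun P q).map
          (ModuleCat.ofHom (Algebra.linearMap A (IsLocalRing.ResidueField A)))).hom)) ∧
    (Module.length A (CohIII.T P p (ModuleCat.of A (IsLocalRing.ResidueField A))) ≠ ⊤ →
      (((CohIII.TFun P p).PreservesMonomorphisms ∧ (CohIII.TFun P p).PreservesEpimorphisms) ↔
        ∀ M : ModuleCat.{u} A, Module.length A M ≠ ⊤ →
          Module.length A (CohIII.T P p M) =
            Module.length A (CohIII.T P p (ModuleCat.of A (IsLocalRing.ResidueField A))) * Module.length A M)) := by
  open Groth.Agent.H8.TFun Groth.Agent.H8 in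
  refine ⟨exact_iff_surjective_residue_artinian P hP p q hpq, fun hd => ⟨?_, ?_⟩⟩
  · intro hex M hM
    rw [Module.length_ne_top_iff, isFiniteLength_iff_isNoetherian_isArtinian] at hM
    have := hM.1
    have hfin : Module.Finite A M := inferInstance
    exact length_TFun_obj_eq_of_exact P hP p hex M
  · intro H
    have hA : Module.length A A ≠ ⊤ := Module.length_ne_top
    have hmA : Module.length A (IsLocalRing.maximalIdeal A) ≠ ⊤ := Module.length_ne_top
    have hkA : Module.length A (IsLocalRing.ResidueField A) ≠ ⊤ := by
      rw [length_residueField]
      exact ENat.one_ne_top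
    have h1 := H (ModuleCat.of A A) hA
    have h2 := H (ModuleCat.of A (IsLocalRing.maximalIdeal A)) hmA
    have h3 := H (ModuleCat.of A (IsLocalRing.ResidueField A)) hkA
    have hfin : Module.length A ((CohIII.TFun P p).obj (ModuleCat.of A A)) ≠ ⊤ := by
      change Module.length A (CohIII.T P p (ModuleCat.of A A)) ≠ ⊤
      rw [h1]
      exact WithTop.mul_ne_top hd hA
    have heq : Module.length A ((CohIII.TFun P p).obj (ModuleCat.of A A)) =
        Module.length A ((CohIII.TFun P p).obj (ModuleCat.of A (IsLocalRing.maximalIdeal A))) +
          Module.length A ((CohIII.TFun P p).obj (ModuleCat.of A (IsLocalRing.ResidueField A))) := by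
      change Module.length A (CohIII.T P p (ModuleCat.of A A)) =
        Module.length A (CohIII.T P p (ModuleCat.of A (IsLocalRing.maximalIdeal A))) +
          Module.length A (CohIII.T P p (ModuleCat.of A (IsLocalRing.ResidueField A)))
      rw [h1, h2]
      change _ * Module.length A A = _ * Module.length A (IsLocalRing.maximalIdeal A) + _
      rw [length_self_eq, mul_add, mul_one]
    obtain ⟨hm, hs⟩ := mono_and_surjective_of_length_eq P hP p hfin heq
    refine ⟨?_, (preservesEpi_iff_surjective_residue_artinian P hP p).2 hs⟩
    rw [preservesMono_iff_flat P hP (p + 1) p rfl]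
    exact flat_coker_of_mono_maximal P hP (p + 1) p rfl hm

end Groth.Agent.S4497
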