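import Groth.Statements.S4506
import Groth.Agent.Lib.Helper2.MumL
import Groth.Agent.Lib.Helper2.MumN
import Groth.Agent.Lib.Helper8.TFunLocal3

set_option autoImplicit false
universe u
attribute [local instance] HasDerivedCategory.standard
open Coherent

namespace Groth.Agent.S4506

open AlgebraicGeometry CategoryTheory in
/-- (a) ⇔ (c) (local criterion for the exchange property), for a complex reduced to one sheaf over a
local base. Let A be a Noetherian local ring with maximal ideal m and residue field k, X a proper
A-scheme with structure morphism f, F a coherent O_X-module flat over Spec A, and T^p(M) = H^p(X,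
f^*(M~) ⊗ F). Then T^p takes surjections to surjections if and only if, for every n, the map
T^p(A/m^(n+1)) → T^p(A/m) induced by the projection A/m^(n+1) → A/m = k is surjective. -/
theorem result (A : Type u) [CommRing A]
    [IsNoetherianRing A] [IsLocalRing A] (X : Scheme.{u}) [X.Over (Spec (CommRingCat.of A))]
    [IsProper (X ↘ Spec (CommRingCat.of A))] (F : X.Modules) (hF : Coh.IsCoh F)
    (hfl : FlatMod.IsFlatOver (X ↘ Spec (CommRingCat.of A)) F) (p : ℕ) :
    (CohIII.tensorAFunctor A F ⋙ CohIII.HAb X p).PreservesEpimorphisms ↔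
      ∀ n : ℕ, Function.Surjective ((CohIII.tensorAFunctor A F ⋙ CohIII.HAb X p).map (ModuleCat.ofHom
        (Ideal.Quotient.factorₐ A (Ideal.pow_le_self (I := IsLocalRing.maximalIdeal A)
          (Nat.succ_ne_zero n))).toLinearMap :
        ModuleCat.of A (A ⧸ IsLocalRing.maximalIdeal A ^ (n + 1)) ⟶
          ModuleCat.of A (A ⧸ IsLocalRing.maximalIdeal A))).hom := by
  obtain ⟨L, hL, hb, hnat⟩ := Groth.Agent.H2.Mum.exists_complex A X F hF hfl
  obtain ⟨e⟩ := hnat p
  have e' := Groth.Agent.H2.Mum.flipNatIso L (p : ℤ) e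
  rw [Groth.Agent.H2.Mum.preservesEpi_iff e']
  simp only [Groth.Agent.H2.Mum.surjective_map_iff e']
  constructor
  · intro hpe n
    have hepi : Epi (ModuleCat.ofHom (Groth.Agent.H8.KrullFree.gn (A := A) n)) :=
      (ModuleCat.epi_iff_surjective _).2 (Groth.Agent.H8.KrullFree.gn_surjective n)
    exact (ModuleCat.epi_iff_surjective _).1
      (hpe.preserves (ModuleCat.ofHom (Groth.Agent.H8.KrullFree.gn (A := A) n)))
  · intro h
    exact (Groth.Agent.H8.TFun.preservesEpi_iff_surjective_pow (Groth.Agent.H2.Mum.flip L)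
      (Groth.Agent.H2.Mum.flip_finite_flat L hL) (-(p : ℤ))).2 ⟨0, fun n _ => h n⟩

end Groth.Agent.S4506
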