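import Groth.Statements.S4508
import Groth.Agent.Lib.Lead.FBC.EulerBC
import Groth.Agent.Lib.Lead.QC.FlatBC

set_option autoImplicit false
universe u
open Coherent

namespace Groth.Agent.S4508

set_option backward.isDefEq.respectTransparency.types false in
open AlgebraicGeometry CategoryTheory CategoryTheory.Limits in
theorem betti_bc {X Y Y' : Scheme.{u}} (f : X ⟶ Y) (g : Y' ⟶ Y) [IsProper f]
    (F : X.Modules) [F.IsQuasicoherent] (y' : Y') (i : ℕ) :
    PerfAux.betti (pullback.snd f g) ((Scheme.Modules.pullback (pullback.fst f g)).obj F) y' i =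
      PerfAux.betti f F (g.base y') i := by
  have h := IsPullback.of_hasPullback f g
  have hpb := isPullback_fiberToSpecResidueField_of_isPullback h y'
  let γ : (pullback.snd f g).fiber y' ⟶ f.fiber (g y') :=
    pullback.map _ _ _ _ (pullback.fst f g) (Spec.map (g.residueFieldMap y')) g h.w.symm (by simp)
  have hγ : γ ≫ f.fiberι (g y') = (pullback.snd f g).fiberι y' ≫ pullback.fst f g := by
    exact pullback.lift_fst _ _ _
  letI o' : ((pullback.snd f g).fiber y').Over (Spec (CommRingCat.of (Y'.residueField y'))) :=
    ⟨(pullback.snd f g).fiberToSpecResidueField y'⟩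
  letI o : (f.fiber (g y')).Over (Spec (CommRingCat.of (Y.residueField (g y')))) :=
    ⟨f.fiberToSpecResidueField (g y')⟩
  letI : Algebra (Y.residueField (g y')) (Y'.residueField y') := (g.residueFieldMap y').hom.toAlgebra
  haveI : IsSeparated (f.fiberToSpecResidueField (g y')) := by
    haveI : IsSeparated f := inferInstance
    exact MorphismProperty.pullback_snd (P := @IsSeparated) f (Y.fromSpecResidueField (g y')) ‹IsSeparated f›
  haveI : QuasiSeparatedSpace (f.fiber (g y')) :=
    quasiSeparatedSpace_of_quasiSeparated (f.fiberToSpecResidueField (g y'))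
  haveI := Groth.Agent.LD.QC.qc_pullback (f.fiberι (g y')) F
  have e1 := Groth.Agent.LD.FBC.finrank_HH_bc (Y.residueField (g y')) (Y'.residueField y')
    (f.fiber (g y')) ((pullback.snd f g).fiber y') γ hpb
    ((Scheme.Modules.pullback (f.fiberι (g y'))).obj F) i
  let e : (Scheme.Modules.pullback γ).obj ((Scheme.Modules.pullback (f.fiberι (g y'))).obj F) ≅
      (Scheme.Modules.pullback ((pullback.snd f g).fiberι y')).obj
        ((Scheme.Modules.pullback (pullback.fst f g)).obj F) :=
    (Scheme.Modules.pullbackComp γ (f.fiberι (g y'))).app F ≪≫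
      (Scheme.Modules.pullbackCongr hγ).app F ≪≫
      ((Scheme.Modules.pullbackComp ((pullback.snd f g).fiberι y') (pullback.fst f g)).app F).symm
  have e2 := Groth.Agent.LD.FBC.finrank_HH_congr (Y'.residueField y') e i
  exact e2.symm.trans e1


open AlgebraicGeometry CategoryTheory CategoryTheory.Limits in
/-- For a single sheaf placed in degree 0 (the published statement is for a finite complex of such
sheaves). Let Y and Y' be locally Noetherian schemes, f : X ⟶ Y proper, g : Y' ⟶ Y any morphism, F a
coherent O_X-module flat over Y; let X' = X ×_Y Y' with projections f' : X' ⟶ Y' and X' ⟶ X, and F'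
the pullback of F to X'. Then F' is flat over Y', and for every point y' of Y' the Euler–Poincaré
characteristic of the fibre, Σ_i (−1)^i dim_{k(y')} H^i(X'_{y'}, F'_{y'}), equals Σ_i (−1)^i
dim_{k(g(y'))} H^i(X_{g(y')}, F_{g(y')}). -/
theorem result {X Y Y' : Scheme.{u}} (f : X ⟶ Y) (g : Y' ⟶ Y) [IsProper f]
    [IsLocallyNoetherian Y] [IsLocallyNoetherian Y'] (F : X.Modules) (hF : Coh.IsCoh F)
    (hfl : FlatMod.IsFlatOver f F) :
    FlatMod.IsFlatOver (pullback.snd f g) ((Scheme.Modules.pullback (pullback.fst f g)).obj F) ∧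
      ∀ y' : Y', PerfAux.eulerChar (pullback.snd f g) ((Scheme.Modules.pullback (pullback.fst f g)).obj F) y' =
        PerfAux.eulerChar f F (g.base y') := by
  haveI : F.IsQuasicoherent := hF.1
  have h := IsPullback.of_hasPullback f g
  refine ⟨fun x' => Groth.Agent.LD.QC.isFlatOverAt_pullback_of_isPullback h F x' (hfl _), fun y' => ?_⟩
  unfold PerfAux.eulerChar
  congr 1
  funext i
  congr 2
  exact betti_bc f g F y' i

end Groth.Agent.S4508
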