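import Groth.Statements.S4516
-- import your own Groth.Agent.* helpers here

set_option autoImplicit false
universe u
open EGA41

namespace Groth.Agent.S4516

/-- Let p be a prime, B an A-algebra of characteristic p and A' an A-subalgebra of B contained in
A[B^p]. Then the canonical map between Ω_{B/A} and Ω_{B/A'} is bijective (every A-derivation of B
vanishes on A[B^p]). -/
theorem result (p : ℕ) [Fact p.Prime] {A B : Type u}
    [CommRing A] [CommRing B] [Algebra A B] [CharP B p] (A' : Subalgebra A B)
    (hA' : A' ≤ EGA41.pPowerSubalgebra p A B) :
    Function.Bijective (KaehlerDifferential.map A A' B B) := by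
  refine ⟨?_, KaehlerDifferential.map_surjective A A' B⟩
  -- `d_{B/A}` vanishes on `A[B^p]`
  have hker : ∀ y ∈ EGA41.pPowerSubalgebra p A B, KaehlerDifferential.D A B y = 0 := by
    intro y hy
    induction hy using Algebra.adjoin_induction with
    | mem x hx =>
      obtain ⟨b, rfl⟩ := hx
      rw [Derivation.leibniz_pow, ← Nat.cast_smul_eq_nsmul B, CharP.cast_eq_zero, zero_smul]
    | algebraMap r => exact Derivation.map_algebraMap _ r
    | add x y _ _ hx hy => rw [map_add, hx, hy, add_zero]
    | mul x y _ _ hx hy => rw [Derivation.leibniz, hx, hy, smul_zero, smul_zero, add_zero]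
  -- hence it is an `A'`-derivation
  let D' : Derivation A' B (Ω[B⁄A]) :=
    { toFun := KaehlerDifferential.D A B
      map_add' := fun x y => map_add _ x y
      map_smul' := fun a b => by
        have h0 : KaehlerDifferential.D A B (a : B) = 0 := hker _ (hA' a.2)
        show KaehlerDifferential.D A B (a • b) = a • KaehlerDifferential.D A B b
        rw [Algebra.smul_def, Derivation.leibniz]
        show algebraMap A' B a • _ + b • KaehlerDifferential.D A B (a : B) = _
        rw [h0, smul_zero, add_zero]
        rfl
      map_one_eq_zero' := Derivation.map_one_eq_zero _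
      leibniz' := fun x y => Derivation.leibniz _ x y }
  have hcomp : D'.liftKaehlerDifferential ∘ₗ KaehlerDifferential.map A A' B B = LinearMap.id := by
    apply Derivation.liftKaehlerDifferential_unique
    ext x
    simp [D']
  exact Function.LeftInverse.injective (g := D'.liftKaehlerDifferential)
    (fun x => LinearMap.congr_fun hcomp x)


end Groth.Agent.S4516
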