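import Groth.Statements.S4535
import Groth.Agent.Lib.Helper5.CA.AdicFS

set_option autoImplicit false
universe u
open EGA41

namespace Groth.Agent.S4535

open TensorProduct in
/-- Let B (𝔟-adic) be formally smooth over A (𝔞-adic) and let A' (𝔞'-adic) be a topological A-algebra (a
power of 𝔞 maps into 𝔞'). Then the A'-algebra A' ⊗_A B, with the tensor product topology, i.e. the
adic topology of the ideal generated by the images of 𝔞' and 𝔟, is formally smooth over A'. -/
theorem result {A B A' : Type u} [CommRing A] [CommRing B] [CommRing A'] [Algebra A B] [Algebra A A']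
    (𝔞 : Ideal A) (𝔟 : Ideal B) (𝔞' : Ideal A') (hAA' : ∃ k : ℕ, (𝔞 ^ k).map (algebraMap A A') ≤ 𝔞')
    (hB : EGA41.IsFormallySmoothAdic A 𝔞 B 𝔟) :
    EGA41.IsFormallySmoothAdic A' 𝔞' (A' ⊗[A] B)
      (𝔞'.map (algebraMap A' (A' ⊗[A] B)) ⊔
        𝔟.map (Algebra.TensorProduct.includeRight : B →ₐ[A] A' ⊗[A] B).toRingHom) := by
  intro E _ _ J hJ hE u hu
  letI : Algebra A E := ((algebraMap A' E).comp (algebraMap A A')).toAlgebra
  haveI : IsScalarTower A A' E := IsScalarTower.of_algebraMap_eq (fun _ => rfl)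
  let uB : B →ₐ[A] E ⧸ J := (u.restrictScalars A).comp Algebra.TensorProduct.includeRight
  have hEA : ∃ k : ℕ, (𝔞 ^ k).map (algebraMap A E) = ⊥ := by
    obtain ⟨m, hm⟩ := hE
    obtain ⟨k, hk⟩ := hAA'
    refine ⟨k * m, ?_⟩
    have h1 : (𝔞 ^ (k * m)).map (algebraMap A A') ≤ 𝔞' ^ m := by
      rw [pow_mul, Ideal.map_pow]
      exact Ideal.pow_right_mono hk m
    have h2 : algebraMap A E = (algebraMap A' E).comp (algebraMap A A') := rfl
    rw [h2, ← Ideal.map_map, eq_bot_iff, ← hm]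
    exact Ideal.map_mono h1
  have huB : ∃ k : ℕ, ∀ x ∈ 𝔟 ^ k, uB x = 0 := by
    obtain ⟨k, hk⟩ := hu
    refine ⟨k, fun x hx => hk _ ?_⟩
    have h1 : (𝔟 ^ k).map (Algebra.TensorProduct.includeRight : B →ₐ[A] A' ⊗[A] B).toRingHom ≤
        (𝔞'.map (algebraMap A' (A' ⊗[A] B)) ⊔
        𝔟.map (Algebra.TensorProduct.includeRight : B →ₐ[A] A' ⊗[A] B).toRingHom) ^ k := by
      rw [Ideal.map_pow]
      exact Ideal.pow_right_mono le_sup_right k
    exact h1 (Ideal.mem_map_of_mem _ hx)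
  obtain ⟨w, hw⟩ := hB E J hJ hEA uB huB
  let v : A' ⊗[A] B →ₐ[A'] E :=
    Algebra.TensorProduct.lift (Algebra.ofId A' E) w (fun _ _ => Commute.all _ _)
  refine ⟨v, ?_⟩
  apply Algebra.TensorProduct.ext
  · ext
  · ext b
    have := congrArg (fun φ => φ b) hw
    simpa [v, uB] using this


end Groth.Agent.S4535
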