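import Groth.Statements.S4540
import Groth.Agent.Lib.Helper5.CA.KP1
import Groth.Agent.Lib.Helper5.CA.KP2

set_option autoImplicit false
universe u
open EGA41

namespace Groth.Agent.S4540

open IsLocalRing TensorProduct in
/-- Let A, B be Noetherian local rings and A → B a local homomorphism making B a formally smooth
A-algebra for the adic topologies of the maximal ideals. Then for every ideal of definition 𝔟 of B,
the (B/𝔟)-module Ω_{B/A} ⊗_B (B/𝔟) is free. -/
theorem result {A B : Type u} [CommRing A] [IsLocalRing A]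
    [IsNoetherianRing A] [CommRing B] [IsLocalRing B] [IsNoetherianRing B] [Algebra A B] [IsLocalHom (algebraMap A B)]
    (h : EGA41.IsFormallySmoothAdic A (maximalIdeal A) B (maximalIdeal B))
    (𝔟 : Ideal B) (hle : 𝔟 ≤ maximalIdeal B) (hpow : ∃ k : ℕ, maximalIdeal B ^ k ≤ 𝔟) :
    Module.Free (B ⧸ 𝔟) ((B ⧸ 𝔟) ⊗[B] Ω[B⁄A]) := by
  obtain ⟨k, hk⟩ := hpow
  haveI : Module.Projective (B ⧸ 𝔟) ((B ⧸ 𝔟) ⊗[B] Ω[B⁄A]) :=
    Groth.Agent.H5.KP.projective_kaehler_mod (maximalIdeal A) (maximalIdeal B)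
      ⟨1, by
        rw [pow_one]
        exact ((IsLocalRing.local_hom_TFAE (algebraMap A B)).out 0 2).mp (inferInstance : IsLocalHom (algebraMap A B))⟩
      h 𝔟 ⟨k, hk⟩
  haveI : ((maximalIdeal B).map (Ideal.Quotient.mk 𝔟)).IsMaximal :=
    Ideal.IsMaximal.map_of_surjective_of_ker_le Ideal.Quotient.mk_surjective (by simpa using hle)
  have hnil : ((maximalIdeal B).map (Ideal.Quotient.mk 𝔟)) ^ k = ⊥ := by
    rw [← Ideal.map_pow, ← le_bot_iff]
    refine (Ideal.map_mono hk).trans ?_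
    rw [Ideal.map_quotient_self]
  exact Groth.Agent.H5.KP.free_of_projective_of_nilpotent _ hnil

end Groth.Agent.S4540
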