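import Groth.Statements.S4556
import Groth.Agent.Lib.Helper5.CA.AdicFS

set_option autoImplicit false
universe u
open EGA41

namespace Groth.Agent.S4556

/-- Let B be a formally smooth A-algebra, E and E' two A-algebras, R (resp. R') a nilpotent ideal of E
(resp. E'), f : E → E' a surjective A-algebra homomorphism with f(R) = R', and f' : E/R → E'/R' the
induced homomorphism. Let u : B → E/R be an A-algebra homomorphism and v' : B → E' an A-algebra
homomorphism through which f' ∘ u factors (v' followed by E' → E'/R' equals f' ∘ u). Then there is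
an A-algebra homomorphism v : B → E with f ∘ v = v'. (The published statement assumes only f(R) ⊆
R'; in that form it fails for B = ℚ[x, x⁻¹], E = ℚ[t], E' = ℚ[t]/(t²), R = 0, R' = (t), u : x ↦ 1
and v' : x ↦ 1 + t, since any v sends x to a unit of ℚ[t], a constant; the argument identifies R'
with the image of R, and that equality is assumed here.) -/
theorem result {A B E E' : Type u} [CommRing A] [CommRing B] [Algebra A B]
    [Algebra.FormallySmooth A B] [CommRing E] [CommRing E'] [Algebra A E] [Algebra A E']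
    (R : Ideal E) (R' : Ideal E') (hR : IsNilpotent R) (hR' : IsNilpotent R')
    (f : E →ₐ[A] E') (hf : Function.Surjective f) (hfR : R.map f.toRingHom = R')
    (u : B →ₐ[A] E ⧸ R) (v' : B →ₐ[A] E')
    (huv : (Ideal.Quotient.mkₐ A R').comp v' =
      (Ideal.quotientMapₐ R' f (fun x hx => hfR.le (Ideal.mem_map_of_mem f.toRingHom hx))).comp u) :
    ∃ v : B →ₐ[A] E, f.comp v = v' := by
  have hB := Groth.Agent.H5.AdicFS.isFormallySmoothAdic_of_formallySmooth (A := A) (B := B) ⊥ ⊥
  have hker : RingHom.ker (Ideal.Quotient.mkₐ A R).toRingHom = R := by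
    ext x
    rw [RingHom.mem_ker]
    exact Ideal.Quotient.eq_zero_iff_mem
  have hK : IsNilpotent (RingHom.ker f.toRingHom ⊓ RingHom.ker (Ideal.Quotient.mkₐ A R).toRingHom) := by
    obtain ⟨n, hn⟩ := hR
    refine ⟨n, le_bot_iff.mp ?_⟩
    refine (Ideal.pow_right_mono inf_le_right n).trans ?_
    rw [hker, hn]
    exact le_rfl
  have hcompat : ∀ b, ∃ e, f e = v' b ∧ (Ideal.Quotient.mkₐ A R) e = u b := by
    intro b
    obtain ⟨e₀, he₀⟩ := Ideal.Quotient.mk_surjective (u b)
    have h1 := congrArg (fun φ => φ b) huv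
    simp only [AlgHom.comp_apply] at h1
    rw [← he₀] at h1
    have h2 : v' b - f e₀ ∈ R' := by
      rw [← Ideal.Quotient.eq]
      exact h1
    rw [← hfR] at h2
    obtain ⟨r, hr, hfr⟩ := (Ideal.mem_map_iff_of_surjective f.toRingHom hf).mp h2
    refine ⟨e₀ + r, ?_, ?_⟩
    · rw [map_add]
      have : f r = v' b - f e₀ := hfr
      rw [this]; ring
    · rw [map_add, Ideal.Quotient.mkₐ_eq_mk, he₀]
      have : Ideal.Quotient.mk R r = 0 := Ideal.Quotient.eq_zero_iff_mem.mpr hr
      rw [this, add_zero]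
  obtain ⟨g, h1, -⟩ := Groth.Agent.H5.AdicFS.exists_lift_pair (⊥ : Ideal A) (⊥ : Ideal B) hB
    (E := E) ⟨1, by rw [pow_one, Ideal.map_bot]⟩ f (Ideal.Quotient.mkₐ A R) hK v' u
    ⟨1, fun x hx => by rw [pow_one, Ideal.mem_bot] at hx; rw [hx, map_zero]⟩
    ⟨1, fun x hx => by rw [pow_one, Ideal.mem_bot] at hx; rw [hx, map_zero]⟩ hcompat
  exact ⟨g, h1⟩

end Groth.Agent.S4556
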