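import Groth.Statements.S4566
import Groth.Agent.Lib.Helper8.Japanese.AUK7
import Groth.Agent.Lib.Helper8.Japanese.AUK8
import Groth.Agent.Lib.Helper8.Japanese.AUK9
import Groth.Agent.Lib.Helper8.Japanese.AU2
import Groth.Agent.Lib.Helper8.OneDim.Compl
-- import your own Groth.Agent.* helpers here

set_option autoImplicit false
universe u
open CAlg

namespace Groth.Agent.S4566

/-- Let A be a Noetherian local domain with fraction field K whose adic completion Â is reduced, and R
the total ring of fractions of Â with its K-algebra structure. If R is geometrically reduced over K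
then A is Japanese (N-2). (The published statement asks R to be a separable K-algebra; what is used
is that K' ⊗_K R is reduced for every finite extension K' of K, which geometric reducedness gives.) -/
theorem result {A R : Type u}
    [CommRing A] [IsDomain A] [IsLocalRing A] [IsNoetherianRing A]
    (hred : IsReduced (AdicCompletion (IsLocalRing.maximalIdeal A) A))
    [CommRing R] [Algebra (AdicCompletion (IsLocalRing.maximalIdeal A) A) R]
    [IsFractionRing (AdicCompletion (IsLocalRing.maximalIdeal A) A) R] [Algebra A R]
    [IsScalarTower A (AdicCompletion (IsLocalRing.maximalIdeal A) A) R]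
    [Algebra (FractionRing A) R] [IsScalarTower A (FractionRing A) R]
    (h : Algebra.IsGeometricallyReduced (FractionRing A) R) :
    CAlg.IsN2 A := by
  open Groth.Agent.H8 Groth.Agent.H8.Jap IsLocalRing TensorProduct in
    classical
    apply AUK.isN2_of_forall_finite_isN1
    intro B _ _ _ _ hinjB
    have hfg : (maximalIdeal A).FG := IsNoetherian.noetherian _
    haveI : IsNoetherianRing (AdicCompletion (maximalIdeal A) A) :=
      OneDim.isNoetherianRing_adicCompletion A
    haveI := AdicCompletion.algebraMap_isLocalHom_of_fg (R := A) hfg
    haveI : Module.FaithfullyFlat A (AdicCompletion (maximalIdeal A) A) :=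
      Module.FaithfullyFlat.of_flat_of_isLocalHom
    haveI : IsNoetherianRing (B ⊗[A] (AdicCompletion (maximalIdeal A) A)) :=
      AUK.isNoetherianRing_tensor A B _
    haveI : FaithfulSMul A B := (faithfulSMul_iff_algebraMap_injective A B).mpr hinjB
    haveI : FaithfulSMul A (FractionRing B) := by
      rw [faithfulSMul_iff_algebraMap_injective, IsScalarTower.algebraMap_eq A B (FractionRing B)]
      exact (IsFractionRing.injective B (FractionRing B)).comp hinjB
    letI : Algebra (FractionRing A) (FractionRing B) := FractionRing.liftAlgebra A (FractionRing B)
    haveI : Algebra.IsIntegral A B := Algebra.IsIntegral.of_finite A B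
    haveI : Algebra.IsAlgebraic (FractionRing A) (FractionRing B) :=
      isAlgebraic_of_isFractionRing A B (FractionRing A) (FractionRing B)
    haveI : IsReduced (B ⊗[A] (AdicCompletion (maximalIdeal A) A)) :=
      AUK.isReduced_tensor_of_geomReduced A (AdicCompletion (maximalIdeal A) A) R B
        (FractionRing A) (FractionRing B) (IsFractionRing.injective _ R)
        (IsFractionRing.injective B _)
    apply AU.isN1_of_faithfullyFlat B (B ⊗[A] (AdicCompletion (maximalIdeal A) A))
    intro q _ _
    exact AUK.isN1_quotient_tensor A _ B (isNagata_adicCompletion A) q

end Groth.Agent.S4566
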