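import Groth.Statements.S9236
import Groth.Agent.H4.Brn9
import Groth.Agent.S9235

set_option autoImplicit false
universe u
open Brnch

namespace Groth.Agent.S9236

open scoped nonZeroDivisors

open Groth.Agent.H4.TotFrac Groth.Agent.H4.Brn

/-- A local ring A has exactly one geometric branch if and only if it is geometrically unibranch
(unibranch with purely inseparable residue field extension of the integral closure). The number of
geometric branches counts the maximal ideals of the integral closure of A_red in its total ring of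
fractions with multiplicity the separable degree of the residue field extension. -/
theorem result (A : Type u) [CommRing A] [IsLocalRing A] :
    Brnch.numGeomBranches A = 1 ↔ CAlg2.IsGeomUnibranch A := by
  constructor
  · intro h
    have hfin : (minimalPrimes A).Finite := by
      by_contra hinf
      rw [Brnch.numGeomBranches, if_neg hinf] at h
      exact ENat.top_ne_one h
    rw [Brnch.numGeomBranches, if_pos hfin, enat_card_eq_one_iff] at h
    obtain ⟨⟨x0⟩, hsub⟩ := h
    have hmax : Subsingleton (MaximalSpectrum (CAlg2.normRed A)) := by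
      constructor
      intro m1 m2
      obtain ⟨σ1⟩ := nonempty_Emb A m1
      obtain ⟨σ2⟩ := nonempty_Emb A m2
      have := Subsingleton.elim (⟨m1, σ1⟩ : Σ m' : MaximalSpectrum (CAlg2.normRed A), Brnch.Emb A m')
        ⟨m2, σ2⟩
      exact congrArg Sigma.fst this
    have huni : CAlg2.IsUnibranch A := by
      rw [← Groth.Agent.S9235.result, numBranches_eq_of_finite A hfin, enat_card_eq_one_iff]
      exact ⟨⟨x0.1⟩, hmax⟩
    refine ⟨huni, ?_⟩
    intro m' hm'
    have hs : Subsingleton (Brnch.Emb A ⟨m', hm'⟩) := by
      constructor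
      intro σ1 σ2
      have := Subsingleton.elim
        (⟨⟨m', hm'⟩, σ1⟩ : Σ m' : MaximalSpectrum (CAlg2.normRed A), Brnch.Emb A m') ⟨⟨m', hm'⟩, σ2⟩
      exact eq_of_heq (Sigma.mk.inj_iff.mp this).2
    exact (subsingleton_Emb_iff A ⟨m', hm'⟩).mp hs
  · rintro ⟨huni, hpi⟩
    have h1 : Brnch.numBranches A = 1 := (Groth.Agent.S9235.result A).mpr huni
    have hfin : (minimalPrimes A).Finite := by
      by_contra hinf
      rw [Brnch.numBranches, if_neg hinf] at h1
      exact ENat.top_ne_one h1
    rw [numBranches_eq_of_finite A hfin, enat_card_eq_one_iff] at h1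
    obtain ⟨⟨m0⟩, hmax⟩ := h1
    rw [Brnch.numGeomBranches, if_pos hfin, enat_card_eq_one_iff]
    obtain ⟨σ0⟩ := nonempty_Emb A m0
    refine ⟨⟨⟨m0, σ0⟩⟩, ⟨?_⟩⟩
    rintro ⟨m1, σ1⟩ ⟨m2, σ2⟩
    obtain rfl : m1 = m2 := Subsingleton.elim _ _
    haveI : Subsingleton (Brnch.Emb A m1) := by
      rw [subsingleton_Emb_iff]
      haveI := m1.2
      exact hpi m1.asIdeal
    rw [Subsingleton.elim σ1 σ2]


end Groth.Agent.S9236
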