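import Groth.Statements.S4567
import Groth.Agent.H4.Brn17
import Groth.Agent.H4.Brn12
import Groth.Agent.H4.Brn9
import Groth.Agent.H4.Brn7
import Groth.Agent.H4.Brn3
import Groth.Agent.S9236

set_option autoImplicit false
universe u
open AlgebraicGeometry
open CAlg2

namespace Groth.Agent.S4567

open AlgebraicGeometry CategoryTheory
open Groth.Agent.H4.Brn


lemma universallyInjective_specMap_iff {R S : Type u} [CommRing R] [CommRing S] (φ : R →+* S) :
    UniversallyInjective (Spec.map (CommRingCat.ofHom φ)) ↔
      ∀ (K : Type u) [Field K] (τ1 τ2 : S →+* K), τ1.comp φ = τ2.comp φ → τ1 = τ2 := by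
  have h3 : UniversallyInjective (Spec.map (CommRingCat.ofHom φ)) ↔
      ∀ (K : Type u) [Field K], Function.Injective
        (fun g : Spec (.of K) ⟶ Spec (.of S) ↦ g ≫ Spec.map (CommRingCat.ofHom φ)) :=
    (tfae_universallyInjective (Spec.map (CommRingCat.ofHom φ))).out 0 1
  rw [h3]
  constructor
  · intro h K _ τ1 τ2 h12
    have h1 := @h K _ (Spec.map (CommRingCat.ofHom τ1)) (Spec.map (CommRingCat.ofHom τ2)) (by
      change Spec.map (CommRingCat.ofHom τ1) ≫ Spec.map (CommRingCat.ofHom φ) =
        Spec.map (CommRingCat.ofHom τ2) ≫ Spec.map (CommRingCat.ofHom φ)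
      rw [← Spec.map_comp, ← Spec.map_comp, ← CommRingCat.ofHom_comp, ← CommRingCat.ofHom_comp, h12])
    have h2 := Spec.map_injective h1
    exact congrArg CommRingCat.Hom.hom h2
  · intro h K _ g1 g2 h12
    obtain ⟨t1, rfl⟩ := Spec.map_surjective g1
    obtain ⟨t2, rfl⟩ := Spec.map_surjective g2
    change Spec.map t1 ≫ Spec.map (CommRingCat.ofHom φ) =
        Spec.map t2 ≫ Spec.map (CommRingCat.ofHom φ) at h12
    rw [← Spec.map_comp, ← Spec.map_comp] at h12
    have h1 := Spec.map_injective h12
    have h2 : t1.hom.comp φ = t2.hom.comp φ := congrArg CommRingCat.Hom.hom h1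
    have h3 := h K t1.hom t2.hom h2
    congr 1
    exact CommRingCat.hom_ext h3

section
variable {A : Type u} [CommRing A] [IsDomain A] (p : Ideal A) [p.IsPrime]

/-- the set of homs over `p` -/
abbrev Tp : Type u :=
  {τ : integralClosure A (FractionRing A) →+*
      AlgebraicClosure (IsLocalRing.ResidueField (Localization.AtPrime p)) //
    τ.comp (algebraMap A (integralClosure A (FractionRing A))) =
      (Brnch.toClosure (Localization.AtPrime p)).comp (algebraMap A (Localization.AtPrime p))}

lemma nonempty_Tp : Nonempty (Tp p) := by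
  obtain ⟨Θ⟩ := nonempty_equiv_hom p (Localization.AtPrime p)
    (Brnch.toClosure (Localization.AtPrime p))
  obtain ⟨Θ'⟩ := nonempty_equiv_maxSpec p (Localization.AtPrime p)
  obtain ⟨Q, -, hQ, hQp⟩ := Ideal.exists_ideal_over_prime_of_isIntegral
    (S := integralClosure A (FractionRing A)) p (⊥ : Ideal (integralClosure A (FractionRing A)))
    (by
      intro a ha
      rw [Ideal.mem_comap, Ideal.mem_bot] at ha
      have : a = 0 := (FaithfulSMul.algebraMap_injective A (integralClosure A (FractionRing A)))
        (by rw [ha, map_zero])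
      rw [this]; exact zero_mem _)
  let m' := Θ'.symm ⟨Q, hQ, hQp⟩
  obtain ⟨σ⟩ := nonempty_Emb (Localization.AtPrime p) m'
  exact ⟨Θ (sigmaEmbToHom (Localization.AtPrime p) ⟨m', σ⟩)⟩

lemma isGeomUnibranch_iff : CAlg2.IsGeomUnibranch (Localization.AtPrime p) ↔ Subsingleton (Tp p) := by
  obtain ⟨Θ⟩ := nonempty_equiv_hom p (Localization.AtPrime p)
    (Brnch.toClosure (Localization.AtPrime p))
  have hΘ : ENat.card (HomΩ (Localization.AtPrime p)) = ENat.card (Tp p) := ENat.card_congr Θ
  rw [← Groth.Agent.S9236.result, numGeomBranches_domain, hΘ, enat_card_eq_one_iff]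
  exact and_iff_right (nonempty_Tp p)

lemma isIntegral_phi : (algebraMap A (integralClosure A (FractionRing A))).IsIntegral :=
  fun x => (integralClosure.isIntegral x)

lemma ker_iota : RingHom.ker ((IsLocalRing.residue (Localization.AtPrime p)).comp
    (algebraMap A (Localization.AtPrime p))) = p := by
  rw [← RingHom.comap_ker, IsLocalRing.ker_residue]
  exact IsLocalization.AtPrime.under_maximalIdeal (Localization.AtPrime p) p

lemma hfrac_iota (z : IsLocalRing.ResidueField (Localization.AtPrime p)) :
    ∃ a b, ((IsLocalRing.residue (Localization.AtPrime p)).comp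
      (algebraMap A (Localization.AtPrime p))) b ≠ 0 ∧
      z * ((IsLocalRing.residue (Localization.AtPrime p)).comp
      (algebraMap A (Localization.AtPrime p))) b = ((IsLocalRing.residue (Localization.AtPrime p)).comp
      (algebraMap A (Localization.AtPrime p))) a := by
  obtain ⟨o, rfl⟩ := IsLocalRing.residue_surjective z
  obtain ⟨⟨a, s⟩, hs⟩ := IsLocalization.surj p.primeCompl o
  refine ⟨a, s.1, ?_, ?_⟩
  · have hunit : IsUnit (algebraMap A (Localization.AtPrime p) s.1) :=
      IsLocalization.map_units _ s
    exact (hunit.map (IsLocalRing.residue (Localization.AtPrime p))).ne_zero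
  · rw [RingHom.comp_apply, RingHom.comp_apply, ← map_mul]
    exact congrArg _ hs

theorem univInj_iff :
    UniversallyInjective (Spec.map (CommRingCat.ofHom
      (algebraMap A (integralClosure A (FractionRing A))))) ↔
      ∀ (p : Ideal A) [p.IsPrime], CAlg2.IsGeomUnibranch (Localization.AtPrime p) := by
  rw [universallyInjective_specMap_iff]
  constructor
  · intro h p _
    rw [isGeomUnibranch_iff]
    constructor
    intro τ1 τ2
    exact Subtype.ext (h _ τ1.1 τ2.1 (τ1.2.trans τ2.2.symm))
  · intro h K _ τ1 τ2 h12
    have hprime : (RingHom.ker (τ1.comp (algebraMap A (integralClosure A (FractionRing A))))).IsPrime :=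
      RingHom.ker_isPrime _
    have hsub := (isGeomUnibranch_iff _).mp
      (h (RingHom.ker (τ1.comp (algebraMap A (integralClosure A (FractionRing A))))))
    exact eq_of_subsingleton_hom (F := IsLocalRing.ResidueField (Localization.AtPrime
        (RingHom.ker (τ1.comp (algebraMap A (integralClosure A (FractionRing A)))))))
      (Ω := AlgebraicClosure (IsLocalRing.ResidueField (Localization.AtPrime
        (RingHom.ker (τ1.comp (algebraMap A (integralClosure A (FractionRing A))))))))
      (algebraMap A (integralClosure A (FractionRing A))) isIntegral_phi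
      ((IsLocalRing.residue _).comp (algebraMap A _)) (hfrac_iota _) hsub τ1 τ2 h12
      (ker_iota _).symm

theorem isHomeomorph_comap
    (h : ∀ (p : Ideal A) [p.IsPrime], CAlg2.IsGeomUnibranch (Localization.AtPrime p)) :
    IsHomeomorph (PrimeSpectrum.comap (algebraMap A (integralClosure A (FractionRing A)))) := by
  rw [isHomeomorph_iff_continuous_isClosedMap_bijective]
  refine ⟨PrimeSpectrum.continuous_comap _,
    PrimeSpectrum.isClosedMap_comap_of_isIntegral _ isIntegral_phi, ?_, ?_⟩
  · haveI := univInj_iff.mpr h
    have hinj := Scheme.Hom.injective (Spec.map (CommRingCat.ofHom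
      (algebraMap A (integralClosure A (FractionRing A)))))
    exact hinj
  · intro P
    obtain ⟨Q, -, hQ, hQp⟩ := Ideal.exists_ideal_over_prime_of_isIntegral
      (S := integralClosure A (FractionRing A)) P.asIdeal
      (⊥ : Ideal (integralClosure A (FractionRing A)))
      (by
        intro a ha
        rw [Ideal.mem_comap, Ideal.mem_bot] at ha
        have : a = 0 := (FaithfulSMul.algebraMap_injective A (integralClosure A (FractionRing A)))
          (by rw [ha, map_zero])
        rw [this]; exact zero_mem _)
    exact ⟨⟨Q, hQ⟩, PrimeSpectrum.ext hQp⟩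

end

/-- Let A be a domain with integral closure A' (in its fraction field) and f : Spec A' → Spec A the
canonical morphism. Then f is radicial (universally injective) if and only if every local ring A_p
is geometrically unibranch; when this holds f is a homeomorphism. -/
theorem result {A : Type u} [CommRing A] [IsDomain A] :
    (UniversallyInjective (Spec.map (CommRingCat.ofHom (algebraMap A (integralClosure A (FractionRing A))))) ↔
      ∀ (p : Ideal A) [p.IsPrime], CAlg2.IsGeomUnibranch (Localization.AtPrime p)) ∧
    ((∀ (p : Ideal A) [p.IsPrime], CAlg2.IsGeomUnibranch (Localization.AtPrime p)) →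
      IsHomeomorph (PrimeSpectrum.comap (algebraMap A (integralClosure A (FractionRing A))))) := by
  exact ⟨univInj_iff, isHomeomorph_comap⟩


end Groth.Agent.S4567
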