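import Groth.Statements.S4569
-- import your own Groth.Agent.* helpers here

set_option autoImplicit false
universe u
open CAlg

namespace Groth.Agent.S4569

/-- Let A be a ring, x a non-zero-divisor of A with p = xA prime. For every n > 0 the inverse image in A
of x^n A_p is x^n A. -/
theorem result {A : Type u} [CommRing A] (x : A)
    (hx : x ∈ nonZeroDivisors A) [(Ideal.span ({x} : Set A)).IsPrime] (n : ℕ) (hn : 0 < n) :
    Ideal.comap (algebraMap A (Localization.AtPrime (Ideal.span ({x} : Set A))))
      (Ideal.map (algebraMap A (Localization.AtPrime (Ideal.span ({x} : Set A)))) (Ideal.span ({x ^ n} : Set A))) =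
      Ideal.span ({x ^ n} : Set A) := by
  have hprime : (Ideal.span ({x} : Set A)).IsPrime := inferInstance
  -- key claim: if `s ∉ (x)` and `s * a ∈ (x ^ n)` then `a ∈ (x ^ n)`
  have key : ∀ (n : ℕ) (s a : A), s ∉ Ideal.span ({x} : Set A) →
      s * a ∈ Ideal.span ({x ^ n} : Set A) → a ∈ Ideal.span ({x ^ n} : Set A) := by
    intro n
    induction n with
    | zero => intro s a _ _; simp
    | succ n ih =>
      intro s a hs hsa
      rw [Ideal.mem_span_singleton] at hsa
      obtain ⟨b, hb⟩ := hsa
      have hxa : s * a ∈ Ideal.span ({x} : Set A) := by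
        rw [Ideal.mem_span_singleton, hb, pow_succ']
        exact ⟨x ^ n * b, by ring⟩
      have ha : a ∈ Ideal.span ({x} : Set A) := (hprime.mem_or_mem hxa).resolve_left hs
      rw [Ideal.mem_span_singleton] at ha
      obtain ⟨a', rfl⟩ := ha
      have h2 : x * (s * a') = x * (x ^ n * b) := by
        rw [← mul_assoc x (x ^ n), ← pow_succ', ← hb]; ring
      have h3 : s * a' = x ^ n * b := by
        have hx' := mem_nonZeroDivisors_iff.mp hx
        have h4 : (s * a' - x ^ n * b) * x = 0 := by
          rw [sub_mul, mul_comm _ x, mul_comm _ x, h2, sub_self]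
        exact sub_eq_zero.mp (hx'.2 _ h4)
      have h5 : a' ∈ Ideal.span ({x ^ n} : Set A) :=
        ih s a' hs (Ideal.mem_span_singleton.mpr ⟨b, h3⟩)
      rw [Ideal.mem_span_singleton] at h5 ⊢
      obtain ⟨c, rfl⟩ := h5
      exact ⟨c, by ring⟩
  apply le_antisymm
  · intro a ha
    rw [Ideal.mem_comap, IsLocalization.mem_map_algebraMap_iff
      (Ideal.span ({x} : Set A)).primeCompl] at ha
    obtain ⟨⟨⟨i, hi⟩, m⟩, hm⟩ := ha
    rw [← map_mul, IsLocalization.eq_iff_exists (Ideal.span ({x} : Set A)).primeCompl] at hm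
    obtain ⟨c, hc⟩ := hm
    refine key n (c * m) a ?_ ?_
    · exact (c * m).2
    · have : (↑c * ↑m) * a = ↑c * i := by rw [← hc]; ring
      rw [this]
      exact Ideal.mul_mem_left _ _ hi
  · exact Ideal.le_comap_map


end Groth.Agent.S4569
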