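import Groth.Statements.S4575
import Groth.Agent.Lib.Helper1.RegParam
import Groth.Agent.S0561

set_option autoImplicit false
universe u
open IsLocalRing
open EGA41

namespace Groth.Agent.S4575

theorem inf_sq_eq_mul_aux {R : Type u} [CommRing R] [IsRegularLocalRing R]
    (n : Ideal R) [IsRegularLocalRing (R ⧸ n)] :
    n ⊓ maximalIdeal R ^ 2 = maximalIdeal R * n := by
  have hd : ringKrullDim R = ((maximalIdeal R).spanFinrank : ℕ) :=
    (IsRegularLocalRing.spanFinrank_maximalIdeal (R := R)).symm
  obtain ⟨c, e, y, z, hce, hyz, hy⟩ := Groth.Agent.S0561.main _ R hd n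
  have hnm : n ≤ maximalIdeal R := by
    rw [hy, ← hyz]
    exact Ideal.span_mono Set.subset_union_left
  apply le_antisymm
  · rintro w ⟨hwn, hw2⟩
    have hym : ∀ i, y i ∈ maximalIdeal R := fun i => by
      rw [← hyz]; exact Ideal.subset_span (Or.inl ⟨i, rfl⟩)
    have hzm : ∀ j, z j ∈ maximalIdeal R := fun j => by
      rw [← hyz]; exact Ideal.subset_span (Or.inr ⟨j, rfl⟩)
    let v : Fin c ⊕ Fin e → maximalIdeal R :=
      Sum.elim (fun i => ⟨y i, hym i⟩) (fun j => ⟨z j, hzm j⟩)
    have hv : Ideal.span (Set.range fun i => (v i : R)) = maximalIdeal R := by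
      have hrange : (Set.range fun i => (v i : R)) = Set.range y ∪ Set.range z := by
        ext r
        simp only [Set.mem_range, Sum.exists, Set.mem_union]
        rfl
      rw [hrange, hyz]
    have hcard : Fintype.card (Fin c ⊕ Fin e) =
        Module.finrank (ResidueField R) (CotangentSpace R) := by
      rw [Fintype.card_sum, Fintype.card_fin, Fintype.card_fin, hce,
        IsLocalRing.spanFinrank_maximalIdeal_eq_finrank_cotangentSpace]
    have hli := Groth.Agent.H1.Reg.linearIndependent_toCotangent v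
      (Groth.Agent.H1.Reg.span_range_eq_top_of_span_eq v hv) hcard
    have hwn' : w ∈ Ideal.span (Set.range y) := hy ▸ hwn
    obtain ⟨a, ha⟩ := (Ideal.mem_span_range_iff_exists_fun (R := R)).mp hwn'
    let a' : Fin c ⊕ Fin e → R := Sum.elim a (fun _ => 0)
    have hsum : ∑ i, a' i * (v i : R) = w := by
      rw [Fintype.sum_sum_type]
      simp only [a', v, Sum.elim_inl, Sum.elim_inr, zero_mul, Finset.sum_const_zero, add_zero]
      exact ha
    have hmem := Groth.Agent.H1.Reg.mem_maximalIdeal_of_sum_mem_sq v hli a'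
      (by rw [hsum]; exact hw2)
    rw [← ha]
    refine Ideal.sum_mem _ (fun i _ => ?_)
    refine Ideal.mul_mem_mul (hmem (Sum.inl i)) ?_
    rw [hy]
    exact Ideal.subset_span ⟨i, rfl⟩
  · refine le_inf Ideal.mul_le_right ?_
    rw [pow_two]
    exact Ideal.mul_mono_right hnm

/-- Let R be a regular local ring with maximal ideal m and n a proper ideal with R/n regular. Then
(n/n²) ⊗_R K → (m/m²) ⊗_R K is injective, K the residue field; stated in the equivalent form n ∩ m²
= m·n (the kernel of n/mn → m/m² is (n ∩ m²)/mn). -/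
theorem result {R : Type u} [CommRing R] [IsRegularLocalRing R]
    (n : Ideal R) (hn : n ≠ ⊤) (hreg : IsRegularRing (R ⧸ n)) :
    n ⊓ maximalIdeal R ^ 2 = maximalIdeal R * n := by
  haveI : Nontrivial (R ⧸ n) := Ideal.Quotient.nontrivial_iff.mpr hn
  haveI : IsLocalRing (R ⧸ n) :=
    IsLocalRing.of_surjective' (Ideal.Quotient.mk n) Ideal.Quotient.mk_surjective
  haveI : IsRegularLocalRing (R ⧸ n) := IsRegularLocalRing.of_isRegularRing_of_isLocalRing _
  exact inf_sq_eq_mul_aux n

end Groth.Agent.S4575
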