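import Groth.Statements.S4583
import Groth.Agent.Lib.Helper5.CD.K9
import Groth.Agent.Lib.Helper5.CD.L2

set_option autoImplicit false
universe u
open IsLocalRing
open EGA41

namespace Groth.Agent.S4583



/-- Let A be a complete Noetherian local domain with fraction field K, p a prime of A, B = A_p, q a
prime of the completion B̂ of B with q ∩ B = 0. Then B̂_q is a K-algebra formally smooth over K for
the adic topology of its maximal ideal (the published statement adds that it is then geometrically
regular over K; that consequence is not stated). -/
theorem result {A : Type u} [CommRing A]
    [IsDomain A] [IsLocalRing A] [IsNoetherianRing A] [IsAdicComplete (maximalIdeal A) A] (p : Ideal A) [p.IsPrime]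
    (q : Ideal (AdicCompletion (maximalIdeal (Localization.AtPrime p)) (Localization.AtPrime p))) [q.IsPrime]
    (hq : q.comap (algebraMap (Localization.AtPrime p)
      (AdicCompletion (maximalIdeal (Localization.AtPrime p)) (Localization.AtPrime p))) = ⊥)
    [Algebra A (Localization.AtPrime q)]
    [IsScalarTower A (AdicCompletion (maximalIdeal (Localization.AtPrime p)) (Localization.AtPrime p))
      (Localization.AtPrime q)]
    [Algebra (FractionRing A) (Localization.AtPrime q)] [IsScalarTower A (FractionRing A) (Localization.AtPrime q)] :
    CAlgX.IsAdicFormallySmooth (FractionRing A) (Localization.AtPrime q) (maximalIdeal (Localization.AtPrime q)) := by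
  rename_i iA iT iK iKT
  haveI : IsNoetherianRing (Localization.AtPrime p) :=
    IsLocalization.isNoetherianRing p.primeCompl _ inferInstance
  have h2 : IsScalarTower A (FractionRing A) (Localization.AtPrime q) := iKT
  clear iA
  have h1 : IsScalarTower A
      (AdicCompletion (maximalIdeal (Localization.AtPrime p)) (Localization.AtPrime p))
      (Localization.AtPrime q) := inferInstance
  exact Groth.Agent.H5.GRC.isAdicFormallySmooth_of_isGeometricallyRegular_formalFibre A
    (Localization.AtPrime p) p.primeCompl p.primeCompl_le_nonZeroDivisors
    (Groth.Agent.H5.GRC.isGeometricallyRegular_formalFibre_complete_domain A p) q hq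
    (FractionRing A) (Localization.AtPrime q) h1 h2

end Groth.Agent.S4583
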