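import Groth.Statements.S4586
import Groth.Agent.Lib.Helper2.ProConsLib

set_option autoImplicit false
universe u
open AlgebraicGeometry CategoryTheory Topology
open EGA41

namespace Groth.Agent.S4586

/-- Let f : X → Y be surjective and either quasi-compact or locally of finite presentation, E ⊆ Y. Then
E is locally constructible (resp. pro-constructible, resp. ind-constructible) if and only if f⁻¹(E)
is. -/
theorem result {X Y : Scheme.{u}} (f : X ⟶ Y) [Surjective f]
    (hf : QuasiCompact f ∨ LocallyOfFinitePresentation f) (E : Set Y) :
    (IsLocallyConstructible E ↔ IsLocallyConstructible (f.base ⁻¹' E)) ∧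
    (ProCons.IsProConstructible E ↔ ProCons.IsProConstructible (f.base ⁻¹' E)) ∧
    (ProCons.IsIndConstructible E ↔ ProCons.IsIndConstructible (f.base ⁻¹' E)) := by
  have hsurj : Function.Surjective f.base := f.surjective
  have hpro : ProCons.IsProConstructible E ↔ ProCons.IsProConstructible (f.base ⁻¹' E) := by
    refine ⟨fun h => Groth.Agent.H2.ProConsLib.isProConstructible_preimage f h, fun h => ?_⟩
    rcases hf with hf | hf
    · have := Groth.Agent.H2.ProConsLib.isProConstructible_image f h
      rwa [Set.image_preimage_eq E hsurj] at this
    · have h1 := Groth.Agent.H2.ProConsLib.isIndConstructible_compl h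
      rw [← Set.preimage_compl] at h1
      have h2 := Groth.Agent.H2.ProConsLib.isIndConstructible_image f h1
      rw [Set.image_preimage_eq _ hsurj] at h2
      have h3 := Groth.Agent.H2.ProConsLib.isProConstructible_compl h2
      rwa [compl_compl] at h3
  have hind : ProCons.IsIndConstructible E ↔ ProCons.IsIndConstructible (f.base ⁻¹' E) := by
    refine ⟨fun h => Groth.Agent.H2.ProConsLib.isIndConstructible_preimage f h, fun h => ?_⟩
    rcases hf with hf | hf
    · have h1 := Groth.Agent.H2.ProConsLib.isProConstructible_compl h
      rw [← Set.preimage_compl] at h1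
      have h2 := Groth.Agent.H2.ProConsLib.isProConstructible_image f h1
      rw [Set.image_preimage_eq _ hsurj] at h2
      have h3 := Groth.Agent.H2.ProConsLib.isIndConstructible_compl h2
      rwa [compl_compl] at h3
    · have := Groth.Agent.H2.ProConsLib.isIndConstructible_image f h
      rwa [Set.image_preimage_eq E hsurj] at this
  refine ⟨?_, hpro, hind⟩
  rw [Groth.Agent.H2.ProConsLib.isLocallyConstructible_iff,
    Groth.Agent.H2.ProConsLib.isLocallyConstructible_iff, ← hpro, ← hind]

end Groth.Agent.S4586
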