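import Groth.Statements.S4591
import Groth.Agent.Lib.Helper2.ProConsLib

set_option autoImplicit false
universe u
open AlgebraicGeometry
open EGA41

namespace Groth.Agent.S4591

/-- Let X be a quasi-compact scheme, F a pro-constructible subset and (E_i) a family of
ind-constructible subsets covering F. Then some finite subfamily covers F. -/
theorem result (X : Scheme.{u}) [CompactSpace X]
    (F : Set X) (hF : ProCons.IsProConstructible F) {ι : Type u} (E : ι → Set X)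
    (hE : ∀ i, ProCons.IsIndConstructible (E i)) (h : F ⊆ ⋃ i, E i) :
    ∃ J : Finset ι, F ⊆ ⋃ i ∈ J, E i := by
  classical
  have hloc : ∀ V : X.Opens, IsAffineOpen V → ∃ J : Finset ι, ∀ y ∈ V, y ∈ F → ∃ i ∈ J, y ∈ E i := by
    intro V hV
    obtain ⟨i1, i2, i3, i4⟩ := Groth.Agent.H2.ProConsLib.spectral_of_isAffineOpen hV
    have hcc := Groth.Agent.H2.ProConsLib.cc_of_isProConstructible V.2 hF
    let f : ι → Set ↥(V : Set X) := fun i => Subtype.val ⁻¹' (E i)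
    have hsub : ⋂₀ {(Subtype.val ⁻¹' F : Set ↥(V : Set X))} ⊆ ⋃₀ (f '' Set.univ) := by
      intro y hy
      rw [Set.sInter_singleton] at hy
      have := h hy
      rw [Set.mem_iUnion] at this
      obtain ⟨i, hi⟩ := this
      exact ⟨f i, ⟨i, Set.mem_univ i, rfl⟩, hi⟩
    obtain ⟨𝒞', 𝒪', h𝒞', h𝒪', -, hfin, hsub'⟩ :=
      Groth.Agent.H2.ConsTop.exists_finite_of_sInter_subset_sUnion
        (by rintro _ rfl; exact hcc)
        (by rintro _ ⟨i, -, rfl⟩; exact Groth.Agent.H2.ProConsLib.co_of_isIndConstructible V.2 (hE i))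
        hsub
    obtain ⟨t, -, htfin, ht⟩ := (Set.exists_subset_image_finite_and
      (p := fun c => ⋂₀ 𝒞' ⊆ ⋃₀ c)).mp ⟨𝒪', h𝒪', hfin, hsub'⟩
    refine ⟨htfin.toFinset, fun y hyV hy => ?_⟩
    have : (⟨y, hyV⟩ : ↥(V : Set X)) ∈ ⋂₀ 𝒞' := by
      intro c hc
      have := h𝒞' hc
      rw [Set.mem_singleton_iff] at this
      subst this
      exact hy
    obtain ⟨O, ⟨i, hi, rfl⟩, hyO⟩ := ht this
    exact ⟨i, htfin.mem_toFinset.mpr hi, hyO⟩
  choose! V hVaff hxV using fun x : X =>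
    (let ⟨V, hV, hxV, _⟩ := Groth.Agent.H2.ProConsLib.exists_affine_nhd x isOpen_univ (Set.mem_univ x)
     (⟨V, hV, hxV⟩ : ∃ V : X.Opens, IsAffineOpen V ∧ x ∈ V))
  choose J hJ using fun x : X => hloc (V x) (hVaff x)
  obtain ⟨t, ht⟩ := isCompact_univ.elim_nhds_subcover (fun x => ((V x : X.Opens) : Set X))
    (fun x _ => (V x).2.mem_nhds (hxV x))
  refine ⟨t.biUnion J, fun y hy => ?_⟩
  have hy1 : y ∈ ⋃ x ∈ t, ((V x : X.Opens) : Set X) := ht.2 (Set.mem_univ y)
  simp only [Set.mem_iUnion, exists_prop] at hy1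
  obtain ⟨x, hxt, hyx⟩ := hy1
  obtain ⟨i, hi, hyi⟩ := hJ x y hyx hy
  simp only [Set.mem_iUnion, exists_prop]
  exact ⟨i, Finset.mem_biUnion.mpr ⟨x, hxt, hi⟩, hyi⟩

end Groth.Agent.S4591
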