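import Groth.Statements.S4592
-- import your own Groth.Agent.* helpers here

set_option autoImplicit false
universe u
open CategoryTheory CategoryTheory.Limits
open EGA41

namespace Groth.Agent.S4592

/-- A filtered colimit of commutative rings is the zero ring if and only if some ring of the system is
zero (the clause that all later rings of the system are then zero is not restated). -/
theorem result {I : Type u} [SmallCategory I] [IsFiltered I]
    (D : I ⥤ CommRingCat.{u}) (c : Cocone D) (hc : IsColimit c) :
    Subsingleton c.pt ↔ ∃ i : I, Subsingleton (D.obj i) := by
  constructor
  · intro h
    by_contra hne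
    have : ∀ i, Nontrivial (D.obj i) := fun i =>
      not_subsingleton_iff_nontrivial.mp (fun hi => hne ⟨i, hi⟩)
    have := CommRingCat.FilteredColimits.nontrivial hc
    exact not_subsingleton c.pt h
  · rintro ⟨i, hi⟩
    exact (c.ι.app i).hom.codomain_trivial


end Groth.Agent.S4592
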