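import Groth.Statements.S4598
import Groth.Agent.S4597
import Mathlib.CategoryTheory.MorphismProperty.Descent
-- import your own Groth.Agent.* helpers here

set_option autoImplicit false
universe u
open AlgebraicGeometry CategoryTheory CategoryTheory.Limits
open EGA41

namespace Groth.Agent.S4598

/-- If g : Y' → Y is quasi-compact and surjective and the base change X ×_Y Y' → Y' of f : X → Y is
quasi-separated, then f is quasi-separated. -/
theorem result {X Y Y' : Scheme.{u}} (f : X ⟶ Y)
    (g : Y' ⟶ Y) [QuasiCompact g] [Surjective g] [QuasiSeparated (pullback.snd f g)] :
    QuasiSeparated f := by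
  have hdesc : MorphismProperty.DescendsAlong (@QuasiCompact : MorphismProperty Scheme.{u})
      (@Surjective ⊓ @QuasiCompact) := by
    apply MorphismProperty.DescendsAlong.mk'
    intro X Y Z f g _ hf hfst
    haveI : Surjective f := hf.1
    have h := (Groth.Agent.S4597.result g f).1 hf.2
    -- `pullback.fst f g` versus `pullback.snd g f`
    have : QuasiCompact (pullback.snd g f) := by
      have e : pullback.snd g f = (pullbackSymmetry g f).hom ≫ pullback.fst f g := by simp
      rw [e]
      haveI := hfst
      infer_instance
    exact h this
  have hdiag : MorphismProperty.DescendsAlong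
      (MorphismProperty.diagonal (@QuasiCompact : MorphismProperty Scheme.{u}))
      (@Surjective ⊓ @QuasiCompact) := inferInstance
  rw [quasiSeparated_eq_diagonal_is_quasiCompact] at *
  exact MorphismProperty.of_pullback_snd_of_descendsAlong
    (P := MorphismProperty.diagonal @QuasiCompact) (Q := @Surjective ⊓ @QuasiCompact)
    (f := f) (g := g) ⟨inferInstance, inferInstance⟩ ‹_›


end Groth.Agent.S4598
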