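import Groth.Statements.S4601
import Groth.Agent.Lib.Helper8.FinIC.FinIC2
-- import your own Groth.Agent.* helpers here

set_option autoImplicit false
universe u
open TensorProduct
open CAlg

namespace Groth.Agent.S4601

/-- Let A be a domain with fraction field K, B a Noetherian A-algebra which is flat over A, K' an
extension field of K, B₁ = B_red and R its total ring of fractions. For every sub-A-algebra A' of
K', the map (A' ⊗_A B)_red → (K' ⊗_A R)_red is injective, i.e. an element of A' ⊗_A B with nilpotent
image in K' ⊗_A R is nilpotent. -/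
theorem result {A B K' R : Type u} [CommRing A]
    [IsDomain A] [CommRing B] [Algebra A B] [IsNoetherianRing B] [Module.Flat A B]
    [Field K'] [Algebra A K'] [Algebra (FractionRing A) K'] [IsScalarTower A (FractionRing A) K']
    [CommRing R] [Algebra (B ⧸ nilradical B) R] [IsFractionRing (B ⧸ nilradical B) R]
    [Algebra B R] [IsScalarTower B (B ⧸ nilradical B) R] [Algebra A R] [IsScalarTower A B R]
    (A' : Subalgebra A K') (x : ↥A' ⊗[A] B)
    (hx : IsNilpotent (Algebra.TensorProduct.map A'.val (IsScalarTower.toAlgHom A B R) x)) :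
    IsNilpotent x := by
  haveI : Module.Flat A K' := Groth.Agent.H8.FinIC.flat_field A K'
  let g3 : (B ⧸ nilradical B) →ₐ[A] R :=
    { algebraMap (B ⧸ nilradical B) R with
      commutes' := fun a => by
        change algebraMap (B ⧸ nilradical B) R (algebraMap A (B ⧸ nilradical B) a) = algebraMap A R a
        rw [IsScalarTower.algebraMap_apply A B (B ⧸ nilradical B),
          ← IsScalarTower.algebraMap_apply B (B ⧸ nilradical B) R,
          ← IsScalarTower.algebraMap_apply A B R] }
  have hg3 : Function.Injective g3 := IsFractionRing.injective (B ⧸ nilradical B) R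
  let f1 := Algebra.TensorProduct.map A'.val (AlgHom.id A B)
  let f2 := Algebra.TensorProduct.map (AlgHom.id A K') (Ideal.Quotient.mkₐ A (nilradical B))
  let f3 := Algebra.TensorProduct.map (AlgHom.id A K') g3
  have hf1 : Function.Injective f1 :=
    Module.Flat.rTensor_preserves_injective_linearMap (M := B) A'.val.toLinearMap
      Subtype.val_injective
  have hf3 : Function.Injective f3 :=
    Module.Flat.lTensor_preserves_injective_linearMap (M := K') g3.toLinearMap hg3
  have hdec : ∀ z : ↥A' ⊗[A] B,
      Algebra.TensorProduct.map A'.val (IsScalarTower.toAlgHom A B R) z = f3 (f2 (f1 z)) := by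
    intro z
    induction z using TensorProduct.induction_on with
    | zero => simp
    | tmul a b =>
      simp only [f1, f2, f3, Algebra.TensorProduct.map_tmul, AlgHom.coe_id, id_eq,
        Ideal.Quotient.mkₐ_eq_mk]
      congr 1
      exact IsScalarTower.algebraMap_apply B (B ⧸ nilradical B) R b
    | add u v hu hv => simp only [map_add, hu, hv]
  obtain ⟨n, hn⟩ := hx
  rw [← map_pow, hdec] at hn
  have h2 : f2 (f1 (x ^ n)) = 0 := hf3 (hn.trans (map_zero _).symm)
  have hker : f1 (x ^ n) ∈ RingHom.ker f2 := h2
  have hk := Algebra.TensorProduct.lTensor_ker (A := K')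
    (Ideal.Quotient.mkₐ A (nilradical B)) (Ideal.Quotient.mkₐ_surjective A _)
  rw [show RingHom.ker f2 = _ from hk] at hker
  have hnil : (RingHom.ker (Ideal.Quotient.mkₐ A (nilradical B))).map
      (Algebra.TensorProduct.includeRight : B →ₐ[A] K' ⊗[A] B) ≤ nilradical (K' ⊗[A] B) := by
    rw [Ideal.map_le_iff_le_comap]
    intro b hb
    have hb' : b ∈ nilradical B := by
      have : Ideal.Quotient.mk (nilradical B) b = 0 := hb
      exact Ideal.Quotient.eq_zero_iff_mem.mp this
    exact (mem_nilradical.mp hb').map _
  have h3 : IsNilpotent (f1 (x ^ n)) := mem_nilradical.mp (hnil hker)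
  rw [IsNilpotent.map_iff hf1] at h3
  obtain ⟨m, hm⟩ := h3
  exact ⟨n * m, by rw [pow_mul, hm]⟩

end Groth.Agent.S4601
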