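import Groth.Statements.S4603
import Groth.Agent.Lib.Helper1.SpecClosure

set_option autoImplicit false
universe u
open AlgebraicGeometry CategoryTheory
open EGA41

namespace Groth.Agent.S4603

namespace Groth.Agent.H1.S4603aux

/-- every point of a quasi-sober T0 space has a maximal generization -/
theorem exists_maximal_generization {X : Type*} [TopologicalSpace X] [QuasiSober X] [T0Space X]
    (y : X) : ∃ η : X, η ⤳ y ∧ ∀ y' : X, y' ⤳ η → y' = η := by
  obtain ⟨η, hη⟩ := QuasiSober.sober (isIrreducible_irreducibleComponent (x := y))
    isClosed_irreducibleComponent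
  refine ⟨η, ?_, fun y' hy' => ?_⟩
  · rw [specializes_iff_mem_closure, hη.def]
    exact mem_irreducibleComponent
  · have h1 : irreducibleComponent y ⊆ closure {y'} := by
      rw [← hη.def]
      exact (specializes_iff_closure_subset.mp hy')
    have h2 : closure {y'} = irreducibleComponent y :=
      eq_irreducibleComponent (isIrreducible_singleton.closure).isPreirreducible h1
    have h3 : η ⤳ y' := by
      rw [specializes_iff_mem_closure, hη.def, ← h2]
      exact subset_closure rfl
    exact (hy'.antisymm h3).eq

end Groth.Agent.H1.S4603aux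

/-- Let f : X → Y be quasi-compact. The following are equivalent: f is dominant; the fibre of f over
every maximal point of Y (a point with no proper generization, i.e. the generic point of an
irreducible component) is nonempty; every maximal point of Y is the image of a maximal point of X. -/
theorem result {X Y : Scheme.{u}} (f : X ⟶ Y) [QuasiCompact f] :
    [IsDominant f,
     ∀ y : Y, (∀ y' : Y, y' ⤳ y → y' = y) → y ∈ Set.range f.base,
     ∀ y : Y, (∀ y' : Y, y' ⤳ y → y' = y) → ∃ x : X, (∀ x' : X, x' ⤳ x → x' = x) ∧ f.base x = y].TFAE := by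
  have hcl := Groth.Agent.H1.SpecClosure.isClosed_specializations_image f Set.univ isClosed_univ
  tfae_have 1 → 2 := by
    intro hdom y hy
    have hdense : DenseRange f.base := hdom.denseRange
    have hsub : Set.range f.base ⊆ {y : Y | ∃ t ∈ (Set.univ : Set X), f t ⤳ y} :=
      fun _ ⟨t, ht⟩ => ⟨t, trivial, ht ▸ specializes_rfl⟩
    have : y ∈ {y : Y | ∃ t ∈ (Set.univ : Set X), f t ⤳ y} := by
      have := hcl.closure_subset_iff.mpr hsub
      exact this (hdense y)
    obtain ⟨t, -, ht⟩ := this
    exact ⟨t, hy _ ht⟩
  tfae_have 2 → 3 := by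
    intro h y hy
    obtain ⟨x, rfl⟩ := h y hy
    obtain ⟨η, hη, hmax⟩ := Groth.Agent.H1.S4603aux.exists_maximal_generization x
    exact ⟨η, hmax, hy _ (hη.map f.continuous)⟩
  tfae_have 3 → 1 := by
    intro h
    refine ⟨fun y => ?_⟩
    obtain ⟨η, hη, hmax⟩ := Groth.Agent.H1.S4603aux.exists_maximal_generization y
    obtain ⟨x, -, hx⟩ := h η hmax
    have : η ∈ closure (Set.range f.base) := subset_closure ⟨x, hx⟩
    exact hη.mem_closed isClosed_closure this
  tfae_finish

end Groth.Agent.S4603
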