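import Groth.Statements.S4607
import Mathlib.RingTheory.Spectrum.Prime.RingHom
import Mathlib.RingTheory.Flat.Basic
-- import your own Groth.Agent.* helpers here

set_option autoImplicit false
universe u
open TensorProduct
open EGA41

namespace Groth.Agent.S4607

/-- First assertion, case of two factors: for A-algebras A' and A'' the image of Spec(A' ⊗_A A'') in
Spec A is the intersection of the images of Spec A' and Spec A''. -/
theorem result {A A' A'' : Type u} [CommRing A] [CommRing A'] [CommRing A'']
    [Algebra A A'] [Algebra A A''] :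
    Set.range (PrimeSpectrum.comap (algebraMap A (A' ⊗[A] A''))) =
      Set.range (PrimeSpectrum.comap (algebraMap A A')) ∩ Set.range (PrimeSpectrum.comap (algebraMap A A'')) := by
  apply Set.Subset.antisymm
  · rintro _ ⟨q, rfl⟩
    constructor
    · refine ⟨PrimeSpectrum.comap
        (Algebra.TensorProduct.includeLeft : A' →ₐ[A] A' ⊗[A] A'').toRingHom q, ?_⟩
      rw [← PrimeSpectrum.comap_comp_apply]
      congr 1
    · refine ⟨PrimeSpectrum.comap
        (Algebra.TensorProduct.includeRight : A'' →ₐ[A] A' ⊗[A] A'').toRingHom q, ?_⟩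
      rw [← PrimeSpectrum.comap_comp_apply]
      congr 1
      exact (Algebra.TensorProduct.includeRight : A'' →ₐ[A] A' ⊗[A] A'').comp_algebraMap
  · rintro p ⟨h1, h2⟩
    rw [← PrimeSpectrum.nontrivial_iff_mem_rangeComap] at h1 h2 ⊢
    have hT : Nontrivial ((p.asIdeal.ResidueField ⊗[A] A') ⊗[p.asIdeal.ResidueField]
        (p.asIdeal.ResidueField ⊗[A] A'')) :=
      Algebra.TensorProduct.nontrivial_of_algebraMap_injective_of_flat_left
        p.asIdeal.ResidueField _ _ (RingHom.injective _)
    let g : A' ⊗[A] A'' →ₐ[A] ((p.asIdeal.ResidueField ⊗[A] A') ⊗[p.asIdeal.ResidueField]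
        (p.asIdeal.ResidueField ⊗[A] A'')) :=
      Algebra.TensorProduct.lift
        (((Algebra.TensorProduct.includeLeft : (p.asIdeal.ResidueField ⊗[A] A') →ₐ[p.asIdeal.ResidueField] _).restrictScalars A).comp
          Algebra.TensorProduct.includeRight)
        (((Algebra.TensorProduct.includeRight : (p.asIdeal.ResidueField ⊗[A] A'') →ₐ[p.asIdeal.ResidueField] _).restrictScalars A).comp
          Algebra.TensorProduct.includeRight)
        (fun _ _ => Commute.all _ _)
    let f : p.asIdeal.ResidueField ⊗[A] (A' ⊗[A] A'') →ₐ[A]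
        ((p.asIdeal.ResidueField ⊗[A] A') ⊗[p.asIdeal.ResidueField]
        (p.asIdeal.ResidueField ⊗[A] A'')) :=
      Algebra.TensorProduct.lift
        ((Algebra.ofId p.asIdeal.ResidueField _).restrictScalars A) g (fun _ _ => Commute.all _ _)
    exact RingHom.domain_nontrivial f.toRingHom


end Groth.Agent.S4607
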