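import Groth.Statements.S4608
-- import your own Groth.Agent.* helpers here

set_option autoImplicit false
universe u
open AlgebraicGeometry CategoryTheory CategoryTheory.Limits
open EGA41

namespace Groth.Agent.S4608

open AlgebraicGeometry CategoryTheory CategoryTheory.Limits in
theorem isClosedEmbedding_inl (X Y : Scheme.{u}) :
    Topology.IsClosedEmbedding (coprod.inl : X ⟶ X ⨿ Y) := by
  refine ⟨(coprod.inl : X ⟶ X ⨿ Y).isOpenEmbedding.isEmbedding, ?_⟩
  rw [← isOpen_compl_iff, (isCompl_range_inl_inr X Y).compl_eq]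
  exact (coprod.inr : Y ⟶ X ⨿ Y).isOpenEmbedding.isOpen_range

open AlgebraicGeometry CategoryTheory CategoryTheory.Limits in
theorem isClosedEmbedding_inr (X Y : Scheme.{u}) :
    Topology.IsClosedEmbedding (coprod.inr : Y ⟶ X ⨿ Y) := by
  refine ⟨(coprod.inr : Y ⟶ X ⨿ Y).isOpenEmbedding.isEmbedding, ?_⟩
  rw [← isOpen_compl_iff, (isCompl_range_inl_inr X Y).symm.compl_eq]
  exact (coprod.inl : X ⟶ X ⨿ Y).isOpenEmbedding.isOpen_range

open AlgebraicGeometry CategoryTheory CategoryTheory.Limits in
theorem quasiCompact_inl (X Y : Scheme.{u}) : QuasiCompact (coprod.inl : X ⟶ X ⨿ Y) :=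
  ⟨fun _ _ hU => (isClosedEmbedding_inl X Y).isCompact_preimage hU⟩

open AlgebraicGeometry CategoryTheory CategoryTheory.Limits in
theorem quasiCompact_inr (X Y : Scheme.{u}) : QuasiCompact (coprod.inr : Y ⟶ X ⨿ Y) :=
  ⟨fun _ _ hU => (isClosedEmbedding_inr X Y).isCompact_preimage hU⟩

/-- A morphism from a disjoint union X' ⨿ X'' → Y is quasi-compact if and only if its two components
are. -/
theorem result {X' X'' Y : Scheme.{u}} (f' : X' ⟶ Y) (f'' : X'' ⟶ Y) :
    QuasiCompact (coprod.desc f' f'') ↔ QuasiCompact f' ∧ QuasiCompact f'' := by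
  constructor
  · intro h
    have := quasiCompact_inl X' X''
    have := quasiCompact_inr X' X''
    constructor
    · rw [← coprod.inl_desc f' f'']; infer_instance
    · rw [← coprod.inr_desc f' f'']; infer_instance
  · rintro ⟨h1, h2⟩
    refine ⟨fun U hU hUc => ?_⟩
    have key : (coprod.desc f' f'') ⁻¹' U =
        (coprod.inl : X' ⟶ X' ⨿ X'') '' (f' ⁻¹' U) ∪ (coprod.inr : X'' ⟶ X' ⨿ X'') '' (f'' ⁻¹' U) := by
      ext z
      have hz : z ∈ Set.range (coprod.inl : X' ⟶ X' ⨿ X'') ∪ Set.range (coprod.inr : X'' ⟶ X' ⨿ X'') := by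
        rw [(isCompl_range_inl_inr X' X'').sup_eq_top |> fun h => (by simpa using h :
          Set.range (coprod.inl : X' ⟶ X' ⨿ X'') ∪ Set.range (coprod.inr : X'' ⟶ X' ⨿ X'') = Set.univ)]
        trivial
      constructor
      · intro hzU
        rcases hz with ⟨x, rfl⟩ | ⟨x, rfl⟩
        · left
          refine ⟨x, ?_, rfl⟩
          have : (coprod.desc f' f'') ((coprod.inl : X' ⟶ X' ⨿ X'') x) = f' x := by
            rw [← Scheme.Hom.comp_apply, coprod.inl_desc]
          simpa [this] using hzU
        · right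
          refine ⟨x, ?_, rfl⟩
          have : (coprod.desc f' f'') ((coprod.inr : X'' ⟶ X' ⨿ X'') x) = f'' x := by
            rw [← Scheme.Hom.comp_apply, coprod.inr_desc]
          simpa [this] using hzU
      · rintro (⟨x, hx, rfl⟩ | ⟨x, hx, rfl⟩)
        · have : (coprod.desc f' f'') ((coprod.inl : X' ⟶ X' ⨿ X'') x) = f' x := by
            rw [← Scheme.Hom.comp_apply, coprod.inl_desc]
          simpa [this] using hx
        · have : (coprod.desc f' f'') ((coprod.inr : X'' ⟶ X' ⨿ X'') x) = f'' x := by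
            rw [← Scheme.Hom.comp_apply, coprod.inr_desc]
          simpa [this] using hx
    rw [key]
    exact ((h1.isCompact_preimage U hU hUc).image (Scheme.Hom.continuous _)).union
      ((h2.isCompact_preimage U hU hUc).image (Scheme.Hom.continuous _))


end Groth.Agent.S4608
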