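import Groth.Statements.S4609
import Groth.Agent.S4608
-- import your own Groth.Agent.* helpers here

set_option autoImplicit false
universe u
open AlgebraicGeometry CategoryTheory CategoryTheory.Limits
open EGA41

namespace Groth.Agent.S4609

open AlgebraicGeometry CategoryTheory CategoryTheory.Limits in
theorem qs_iff {X Y : Scheme.{u}} (f : X ⟶ Y) :
    QuasiSeparated f ↔ ∀ U : Y.affineOpens, IsQuasiSeparated (f ⁻¹' (U.1 : Set Y)) := by
  rw [HasAffineProperty.iff_of_iSup_eq_top (P := @QuasiSeparated) (fun U : Y.affineOpens => U)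
    (iSup_affineOpens_eq_top Y)]
  refine forall_congr' fun U => ?_
  exact (isQuasiSeparated_iff_quasiSeparatedSpace _ (f ⁻¹ᵁ U.1).2).symm

/-- A morphism from a disjoint union X' ⨿ X'' → Y is quasi-separated if and only if its two components
are. -/
theorem result {X' X'' Y : Scheme.{u}} (f' : X' ⟶ Y) (f'' : X'' ⟶ Y) :
    QuasiSeparated (coprod.desc f' f'') ↔ QuasiSeparated f' ∧ QuasiSeparated f'' := by
  constructor
  · intro h
    constructor
    · rw [← coprod.inl_desc f' f'']; infer_instance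
    · rw [← coprod.inr_desc f' f'']; infer_instance
  · rintro ⟨h1, h2⟩
    rw [qs_iff] at h1 h2 ⊢
    intro U W W' hW hWo hWc hW' hWo' hWc'
    have hinl := Groth.Agent.S4608.isClosedEmbedding_inl X' X''
    have hinr := Groth.Agent.S4608.isClosedEmbedding_inr X' X''
    have hdl : ∀ x, (coprod.desc f' f'') ((coprod.inl : X' ⟶ X' ⨿ X'') x) = f' x := fun x => by
      rw [← Scheme.Hom.comp_apply, coprod.inl_desc]
    have hdr : ∀ x, (coprod.desc f' f'') ((coprod.inr : X'' ⟶ X' ⨿ X'') x) = f'' x := fun x => by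
      rw [← Scheme.Hom.comp_apply, coprod.inr_desc]
    have hcover : Set.range (coprod.inl : X' ⟶ X' ⨿ X'') ∪ Set.range (coprod.inr : X'' ⟶ X' ⨿ X'') =
        Set.univ := by
      simpa using (isCompl_range_inl_inr X' X'').sup_eq_top
    have key : W ∩ W' =
        (coprod.inl : X' ⟶ X' ⨿ X'') '' ((coprod.inl : X' ⟶ X' ⨿ X'') ⁻¹' W ∩
          (coprod.inl : X' ⟶ X' ⨿ X'') ⁻¹' W') ∪
        (coprod.inr : X'' ⟶ X' ⨿ X'') '' ((coprod.inr : X'' ⟶ X' ⨿ X'') ⁻¹' W ∩
          (coprod.inr : X'' ⟶ X' ⨿ X'') ⁻¹' W') := by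
      ext z
      constructor
      · rintro ⟨hz, hz'⟩
        have : z ∈ Set.range (coprod.inl : X' ⟶ X' ⨿ X'') ∪
            Set.range (coprod.inr : X'' ⟶ X' ⨿ X'') := by rw [hcover]; trivial
        rcases this with ⟨x, rfl⟩ | ⟨x, rfl⟩
        · exact Or.inl ⟨x, ⟨hz, hz'⟩, rfl⟩
        · exact Or.inr ⟨x, ⟨hz, hz'⟩, rfl⟩
      · rintro (⟨x, ⟨hx, hx'⟩, rfl⟩ | ⟨x, ⟨hx, hx'⟩, rfl⟩)
        · exact ⟨hx, hx'⟩
        · exact ⟨hx, hx'⟩
    rw [key]
    refine IsCompact.union (IsCompact.image ?_ (Scheme.Hom.continuous _))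
      (IsCompact.image ?_ (Scheme.Hom.continuous _))
    · refine h1 U _ _ ?_ (hWo.preimage (Scheme.Hom.continuous _)) (hinl.isCompact_preimage hWc)
        ?_ (hWo'.preimage (Scheme.Hom.continuous _)) (hinl.isCompact_preimage hWc')
      · intro x hx
        have := hW hx
        simpa [hdl] using this
      · intro x hx
        have := hW' hx
        simpa [hdl] using this
    · refine h2 U _ _ ?_ (hWo.preimage (Scheme.Hom.continuous _)) (hinr.isCompact_preimage hWc)
        ?_ (hWo'.preimage (Scheme.Hom.continuous _)) (hinr.isCompact_preimage hWc')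
      · intro x hx
        have := hW hx
        simpa [hdr] using this
      · intro x hx
        have := hW' hx
        simpa [hdr] using this


end Groth.Agent.S4609
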