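import Groth.Statements.S4625
import Groth.Agent.Lib.Helper1.GeomFiber

set_option autoImplicit false
open CategoryTheory AlgebraicGeometry
universe u
open FBase

namespace Groth.Agent.S4625


/-- Let X be a scheme over a field k and K an extension field of k. Then X is geometrically connected
over k if and only if X ⊗_k K, with its structure of K-scheme, is geometrically connected over K. -/
theorem result {k K : Type u} [Field k] [Field K] [Algebra k K]
    {X : Scheme.{u}} (f : X ⟶ Spec (CommRingCat.of k)) :
    GeometricallyConnected f ↔ GeometricallyConnected (FBase.bcStr f K) := by
  constructor
  · intro h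
    have := h
    exact inferInstanceAs (GeometricallyConnected (CategoryTheory.Limits.pullback.snd f _))
  · intro h
    rw [GeometricallyConnected.eq_geometrically] at h ⊢
    exact Groth.Agent.H1.GeomFiber.geometrically_of_field_ext _
      Groth.Agent.H1.GeomFiber.descFlatSurj_connectedSpace (CommRingCat.ofHom (algebraMap k K)) f
      (FBase.bcStr f K) (FBase.bcπ f K) (IsPullback.of_hasPullback _ _) h

end Groth.Agent.S4625
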