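import Groth.Statements.S4627
import Groth.Agent.Lib.Helper1.GeomFiber

set_option autoImplicit false
open CategoryTheory AlgebraicGeometry
universe u
open FBase

namespace Groth.Agent.S4627


/-- Let X be a scheme over a field k and K an extension field of k. Then X is geometrically integral
over k if and only if X ⊗_k K, with its structure of K-scheme, is geometrically integral over K. -/
theorem result {k K : Type u} [Field k] [Field K] [Algebra k K]
    {X : Scheme.{u}} (f : X ⟶ Spec (CommRingCat.of k)) :
    GeometricallyIntegral f ↔ GeometricallyIntegral (FBase.bcStr f K) := by
  constructor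
  · intro h
    have := h
    exact inferInstanceAs (GeometricallyIntegral (CategoryTheory.Limits.pullback.snd f _))
  · intro h
    have h1 : GeometricallyReduced (FBase.bcStr f K) := inferInstance
    have h2 : GeometricallyIrreducible (FBase.bcStr f K) := inferInstance
    rw [GeometricallyReduced.eq_geometrically] at h1
    rw [GeometricallyIrreducible.eq_geometrically] at h2
    have h1' : GeometricallyReduced f := by
      rw [GeometricallyReduced.eq_geometrically]
      exact Groth.Agent.H1.GeomFiber.geometrically_of_field_ext _
        Groth.Agent.H1.GeomFiber.descFlatSurj_isReduced (CommRingCat.ofHom (algebraMap k K)) f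
        (FBase.bcStr f K) (FBase.bcπ f K) (IsPullback.of_hasPullback _ _) h1
    have h2' : GeometricallyIrreducible f := by
      rw [GeometricallyIrreducible.eq_geometrically]
      exact Groth.Agent.H1.GeomFiber.geometrically_of_field_ext _
        Groth.Agent.H1.GeomFiber.descFlatSurj_irreducibleSpace (CommRingCat.ofHom (algebraMap k K)) f
        (FBase.bcStr f K) (FBase.bcπ f K) (IsPullback.of_hasPullback _ _) h2
    exact GeometricallyIntegral.of_geometricallyReduced_of_geometricallyIrreducible f

end Groth.Agent.S4627
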