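import Groth.Statements.S4644
import Mathlib
import Groth.Agent.Lib.Helper1.ClosedDim

set_option autoImplicit false
open CategoryTheory AlgebraicGeometry
universe u
open FBase

namespace Groth.Agent.S4644

/-- Let Y be a nonempty scheme locally of finite type over a field k whose irreducible components all
have the same dimension, and let Z be a locally closed subset of Y (the underlying set of a
subscheme). Then Z is nowhere dense in Y if and only if dim Z < dim Y. (For Y empty the left side
holds and the right side fails, so Y is taken nonempty; dimensions are Krull dimensions of the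
underlying spaces.) -/
theorem result {k : Type u} [Field k] {Y : Scheme.{u}} [Nonempty ↥Y]
    (g : Y ⟶ Spec (CommRingCat.of k)) [LocallyOfFiniteType g]
    (heq : ∀ T ∈ irreducibleComponents ↥Y, topologicalKrullDim ↥T = topologicalKrullDim ↥Y)
    (Z : Set ↥Y) (hZ : IsLocallyClosed Z) :
    IsNowhereDense Z ↔ topologicalKrullDim ↥Z < topologicalKrullDim ↥Y := by
  haveI : IsLocallyNoetherian Y := LocallyOfFiniteType.isLocallyNoetherian g
  obtain ⟨y0⟩ := ‹Nonempty ↥Y›
  have hT0 := irreducibleComponent_mem_irreducibleComponents y0
  obtain ⟨ξ0, hξ0⟩ := QuasiSober.sober hT0.1 (isClosed_of_mem_irreducibleComponents _ hT0)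
  obtain ⟨d, -, hd⟩ := Groth.Agent.H1.ClosureDim.exists_trdeg_eq_dim_closure g ξ0
  rw [hξ0.def, heq _ hT0] at hd
  constructor
  · intro hnd
    have hint : interior (closure Z) = ∅ := hnd
    refine lt_of_le_of_lt (Groth.Agent.H3.TopDim.dim_mono (subset_closure (s := Z))) ?_
    refine lt_of_le_of_lt
      (Groth.Agent.H1.ClosedDim.dim_le_iSup_closure (closure Z) isClosed_closure) ?_
    rw [hd]
    apply Groth.Agent.H1.ClosedDim.iSup_lt_nat
    rintro ⟨x, hx⟩
    rw [← hd]
    have hT := irreducibleComponent_mem_irreducibleComponents x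
    have hTc := isClosed_of_mem_irreducibleComponents _ hT
    rw [← heq _ hT]
    apply Groth.Agent.H1.ClosedDim.dim_closure_lt_of_ne g hT.1 hTc x mem_irreducibleComponent
    intro he
    obtain ⟨o, ⟨w, hw⟩, hoT⟩ :=
      Groth.Agent.H1.RelDim.exists_open_subset_irreducibleComponent _ hT
    have h1 : (o : Set Y) ⊆ closure Z := by
      refine hoT.trans ?_
      rw [← he]
      exact closure_minimal (Set.singleton_subset_iff.mpr hx) isClosed_closure
    have h2 : w ∈ interior (closure Z) := interior_maximal h1 o.isOpen hw
    rw [hint] at h2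
    exact h2
  · intro hlt
    change interior (closure Z) = ∅
    by_contra hne
    obtain ⟨u, hu⟩ := Set.nonempty_iff_ne_empty.mpr hne
    obtain ⟨z, hzU, hzZ⟩ := mem_closure_iff.mp (interior_subset hu) (interior (closure Z))
      isOpen_interior hu
    have hco : IsOpen (coborder Z) := isLocallyClosed_iff_isOpen_coborder.mp hZ
    let V : Y.Opens := ⟨interior (closure Z) ∩ coborder Z, isOpen_interior.inter hco⟩
    have hVZ : (V : Set Y) ⊆ Z := by
      rintro v ⟨hv1, hv2⟩
      have : v ∈ coborder Z ∩ closure Z := ⟨hv2, interior_subset hv1⟩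
      rw [coborder_inter_closure] at this
      exact this
    have hzV : z ∈ (V : Set Y) := ⟨hzU, subset_coborder hzZ⟩
    have hT := irreducibleComponent_mem_irreducibleComponents z
    have hTc := isClosed_of_mem_irreducibleComponents _ hT
    have h1 := Groth.Agent.H1.RelDim.dim_inter_eq_dim g (irreducibleComponent z) hT.1 hTc V
      ⟨z, hzV, mem_irreducibleComponent⟩
    have h2 : topologicalKrullDim ↥((V : Set Y) ∩ irreducibleComponent z) ≤
        topologicalKrullDim ↥Z :=
      Groth.Agent.H3.TopDim.dim_mono (Set.inter_subset_left.trans hVZ)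
    rw [h1, heq _ hT] at h2
    exact absurd hlt (not_lt.mpr h2)

end Groth.Agent.S4644
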