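import Groth.Statements.S4650
import Mathlib.Topology.Sober
import Mathlib.AlgebraicGeometry.Properties
-- import your own Groth.Agent.* helpers here

set_option autoImplicit false
open CategoryTheory AlgebraicGeometry
universe u
open FDesc

namespace Groth.Agent.S4650

/-- Let f : X → Y be a morphism of schemes along which generizations lift (this holds for flat,
quasi-flat or open morphisms). Then every irreducible component of X dominates an irreducible
component of Y: the closure of its image is an irreducible component of Y. -/
theorem result {X Y : Scheme.{u}} (f : X ⟶ Y)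
    (hf : GeneralizingMap ⇑f) (T : Set ↥X) (hT : T ∈ irreducibleComponents ↥X) :
    closure (⇑f '' T) ∈ irreducibleComponents ↥Y := by
  have hTc : IsClosed T := isClosed_of_mem_irreducibleComponents T hT
  have hξ : IsGenericPoint hT.1.genericPoint T := hT.1.isGenericPoint_genericPoint hTc
  set ξ := hT.1.genericPoint with hξdef
  have hfξ : IsGenericPoint (f ξ) (closure (⇑f '' T)) := hξ.image f.continuous
  refine ⟨hfξ.isIrreducible, ?_⟩
  intro s hs hle
  -- pass to the closure of `s`
  have hsc : IsIrreducible (closure s) := hs.closure
  have hη : IsGenericPoint hsc.genericPoint (closure s) :=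
    hsc.isGenericPoint_genericPoint isClosed_closure
  set η := hsc.genericPoint with hηdef
  have h1 : η ⤳ f ξ := hη.specializes (subset_closure (hle hfξ.mem))
  obtain ⟨ξ', hξ', hfξ'⟩ := hf h1
  -- `closure {ξ'}` is an irreducible set containing `T`
  have h2 : T ≤ closure {ξ'} := by
    rw [← hξ.def]
    exact closure_minimal (Set.singleton_subset_iff.mpr hξ'.mem_closure) isClosed_closure
  have h3 : closure {ξ'} ≤ T := hT.2 isIrreducible_singleton.closure h2
  have h4 : ξ ⤳ ξ' := hξ.specializes (h3 (subset_closure rfl))
  have h5 : f ξ ⤳ η := hfξ' ▸ h4.map f.continuous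
  have h6 : η ∈ closure (⇑f '' T) := by
    rw [← hfξ.def]; exact h5.mem_closure
  calc s ≤ closure s := subset_closure
    _ = closure {η} := hη.def.symm
    _ ≤ closure (⇑f '' T) := closure_minimal (Set.singleton_subset_iff.mpr h6) isClosed_closure


end Groth.Agent.S4650
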