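import Groth.Statements.S4652
import Groth.Agent.Lib.Lead.QC.LocFree2

set_option autoImplicit false
open CategoryTheory AlgebraicGeometry
universe u
open FDesc

namespace Groth.Agent.S4652

/-- Let X be a scheme, F a finitely presented O_X-module and x a point of X. Then F_x is a flat module
over the local ring O_{X,x} if and only if x has an open neighbourhood U such that the restriction
of F to U is finite locally free. -/
theorem result {X : Scheme.{u}} (F : X.Modules) (hF : CohB1.IsFP F) (x : X) :
    FlatMod.IsFlatAt F x ↔ ∃ U : X.Opens, x ∈ U ∧ FlatMod.IsFinLocFree ((Scheme.Modules.pullback U.ι).obj F) := by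
  have hfp : F.IsFinitePresentation := hF
  haveI : F.IsQuasicoherent := inferInstance
  constructor
  · intro h
    obtain ⟨V, n, hxV, ⟨e⟩⟩ := Groth.Agent.LD.QC.exists_restrict_iso_freeMod_of_flat_stalk F hfp x h
    exact ⟨V, hxV, (Groth.Agent.LD.QC.isFinLocFree_pullback_ι_iff F V).mpr
      fun y hy => ⟨V, n, hy, ⟨e⟩⟩⟩
  · rintro ⟨U, hxU, h⟩
    obtain ⟨V, n, hxV, ⟨e⟩⟩ := (Groth.Agent.LD.QC.isFinLocFree_pullback_ι_iff F U).mp h x hxU
    have hfree := Groth.Agent.LD.QC.free_stalk_of_restrict_iso_freeMod F V n e x hxV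
    change Module.Flat (X.presheaf.stalk x) (F.presheaf.stalk x)
    exact @Module.Flat.of_free _ _ _ _ _ hfree

end Groth.Agent.S4652
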