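import Groth.Statements.S4654
import Groth.Agent.Lib.Lead.QC.Pullback
import Groth.Agent.Lib.Lead.QC.Flat
import Groth.Agent.Lib.Lead.QC.Ext
import Groth.Agent.Lib.Helper2.CAlgA

set_option autoImplicit false
open CategoryTheory AlgebraicGeometry
universe u
open FDesc

namespace Groth.Agent.S4654

/-- Let f : X → Y be a morphism of schemes and 0 → F' → F → F'' → 0 a short exact sequence of
quasi-coherent O_X-modules such that F'' is flat over Y. Then F is flat over Y if and only if F' is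
flat over Y. -/
theorem result {X Y : Scheme.{u}} (f : X ⟶ Y) (S : ShortComplex X.Modules)
    (hS : S.ShortExact) (h₁ : Coh.IsQCoh S.X₁) (h₂ : Coh.IsQCoh S.X₂) (h₃ : Coh.IsQCoh S.X₃)
    (hflat : FlatMod.IsFlatOver f S.X₃) :
    FlatMod.IsFlatOver f S.X₂ ↔ FlatMod.IsFlatOver f S.X₁ := by
  haveI : S.X₁.IsQuasicoherent := h₁
  haveI : S.X₂.IsQuasicoherent := h₂
  haveI : S.X₃.IsQuasicoherent := h₃
  -- work on affine charts
  have main : ∀ (U : X.Opens) (V : Y.Opens) (hU : IsAffineOpen U) (hV : IsAffineOpen V)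
      (hUV : U ≤ f ⁻¹ᵁ V),
      ((∀ x ∈ U, FlatMod.IsFlatOverAt f S.X₂ x) ↔ (∀ x ∈ U, FlatMod.IsFlatOverAt f S.X₁ x)) := by
    intro U V hU hV hUV
    letI m1 := Groth.Agent.LD.QC.sectionsModuleOver f S.X₁ hUV
    letI m2 := Groth.Agent.LD.QC.sectionsModuleOver f S.X₂ hUV
    letI m3 := Groth.Agent.LD.QC.sectionsModuleOver f S.X₃ hUV
    have fl3 : Module.Flat Γ(Y, V) Γ(S.X₃, U) :=
      Groth.Agent.LD.QC.flat_sections_of_isFlatOverAt f S.X₃ hU hV hUV (fun x _ => hflat x)
    let φ : Γ(S.X₁, U) →ₗ[Γ(Y, V)] Γ(S.X₂, U) :=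
      { toFun := S.f.app U
        map_add' := map_add _
        map_smul' := fun a m => Scheme.Modules.Hom.app_smul S.f (f.appLE V U hUV a) m }
    let ψ : Γ(S.X₂, U) →ₗ[Γ(Y, V)] Γ(S.X₃, U) :=
      { toFun := S.g.app U
        map_add' := map_add _
        map_smul' := fun a m => Scheme.Modules.Hom.app_smul S.g (f.appLE V U hUV a) m }
    have := hS.mono_f
    have := hS.epi_g
    have hφ : Function.Injective φ := Groth.Agent.LD.QC.mono_app S.f U
    have hψ : Function.Surjective ψ := Groth.Agent.LD.QC.epi_app_affine h₂ h₃ S.g hU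
    have hex : Function.Exact φ ψ := by
      intro s
      constructor
      · intro hs
        obtain ⟨t, ht⟩ := Groth.Agent.LD.QC.exact_sections S hS U s hs
        exact ⟨t, ht⟩
      · rintro ⟨t, rfl⟩
        have := S.zero
        exact congr($(this).app U t)
    obtain ⟨H12, H21⟩ := Groth.Agent.H2.CAlgA.flat_of_ses φ ψ hφ hex hψ
    constructor
    · intro h2 x hx
      have fl2 : Module.Flat Γ(Y, V) Γ(S.X₂, U) :=
        Groth.Agent.LD.QC.flat_sections_of_isFlatOverAt f S.X₂ hU hV hUV h2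
      exact Groth.Agent.LD.QC.isFlatOverAt_of_flat_sections f S.X₁ hU hV hUV x hx (H21 fl2)
    · intro h1 x hx
      have fl1 : Module.Flat Γ(Y, V) Γ(S.X₁, U) :=
        Groth.Agent.LD.QC.flat_sections_of_isFlatOverAt f S.X₁ hU hV hUV h1
      exact Groth.Agent.LD.QC.isFlatOverAt_of_flat_sections f S.X₂ hU hV hUV x hx (H12 fl1)
  constructor
  · intro h2 x
    obtain ⟨U, V, hU, hV, hxU, hUV⟩ := Groth.Agent.LD.QC.exists_affine_nhds_le_preimage f x
    exact (main U V hU hV hUV).mp (fun y _ => h2 y) x hxU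
  · intro h1 x
    obtain ⟨U, V, hU, hV, hxU, hUV⟩ := Groth.Agent.LD.QC.exists_affine_nhds_le_preimage f x
    exact (main U V hU hV hUV).mpr (fun y _ => h1 y) x hxU

end Groth.Agent.S4654
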