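import Groth.Statements.S4674
import Mathlib

set_option autoImplicit false
open scoped TensorProduct
universe u v w
open FDesc

namespace Groth.Agent.S4674


/-- Let B be a flat A-algebra and M a finitely presented A-module. Then the annihilator of the B-module
B ⊗_A M is the ideal of B generated by the image of the annihilator of M. -/
theorem result {A : Type u} {B : Type v} [CommRing A] [CommRing B] [Algebra A B]
    [Module.Flat A B] (M : Type w) [AddCommGroup M] [Module A M] [Module.FinitePresentation A M] :
    Module.annihilator B (B ⊗[A] M) = (Module.annihilator A M).map (algebraMap A B) := by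
  classical
  haveI : Module.Finite A M := inferInstance
  obtain ⟨n, s, hs⟩ := Module.Finite.exists_fin (R := A) (M := M)
  let φ : A →ₗ[A] (Fin n → M) := LinearMap.pi (fun i => LinearMap.toSpanSingleton A M (s i))
  have hφ : ∀ a, φ a = fun i => a • s i := fun a => rfl
  have hker : ∀ a : A, a ∈ LinearMap.ker φ ↔ a ∈ Module.annihilator A M := by
    intro a
    rw [LinearMap.mem_ker, Module.mem_annihilator, hφ]
    constructor
    · intro h m
      have hm : m ∈ Submodule.span A (Set.range s) := by rw [hs]; trivial
      induction hm using Submodule.span_induction with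
      | mem x hx =>
        obtain ⟨i, rfl⟩ := hx
        exact congrFun h i
      | zero => exact smul_zero a
      | add x y _ _ hx hy => rw [smul_add, hx, hy, add_zero]
      | smul r x _ hx => rw [smul_comm, hx, smul_zero]
    · intro h
      funext i
      exact h (s i)
  apply le_antisymm
  · intro b hb
    rw [Module.mem_annihilator] at hb
    have h1 : (TensorProduct.AlgebraTensorModule.lTensor B B φ) (b ⊗ₜ[A] (1 : A)) = 0 := by
      rw [TensorProduct.AlgebraTensorModule.lTensor_tmul, hφ]
      have h2 : (fun i => (1 : A) • s i) = ∑ i, Pi.single i (s i) := by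
        funext j
        simp [Finset.sum_apply, Pi.single_apply]
      rw [h2, TensorProduct.tmul_sum]
      apply Finset.sum_eq_zero
      intro i _
      have h3 : b ⊗ₜ[A] (Pi.single i (s i) : Fin n → M) =
          (LinearMap.single A (fun _ : Fin n => M) i).lTensor B (b ⊗ₜ[A] s i) := by
        rw [LinearMap.lTensor_tmul]; rfl
      have h4 : b ⊗ₜ[A] s i = (0 : B ⊗[A] M) := by
        have := hb ((1 : B) ⊗ₜ[A] s i)
        rwa [TensorProduct.smul_tmul', smul_eq_mul, mul_one] at this
      rw [h3, h4, map_zero]
    have h5 : b ⊗ₜ[A] (1 : A) ∈ LinearMap.ker (TensorProduct.AlgebraTensorModule.lTensor B B φ) :=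
      h1
    rw [Module.Flat.ker_lTensor_eq] at h5
    obtain ⟨y, hy⟩ := h5
    have key : ∀ y : B ⊗[A] (LinearMap.ker φ),
        TensorProduct.rid A B ((TensorProduct.AlgebraTensorModule.lTensor B B
          (LinearMap.ker φ).subtype) y) ∈ (Module.annihilator A M).map (algebraMap A B) := by
      intro y
      induction y using TensorProduct.induction_on with
      | zero => simp
      | tmul b' a =>
        rw [TensorProduct.AlgebraTensorModule.lTensor_tmul, Submodule.subtype_apply,
          TensorProduct.rid_tmul, Algebra.smul_def]
        exact Ideal.mul_mem_right _ _ (Ideal.mem_map_of_mem _ ((hker a.1).mp a.2))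
      | add x z hx hz =>
        rw [map_add, map_add]
        exact Ideal.add_mem _ hx hz
    have := key y
    rw [hy, TensorProduct.rid_tmul, one_smul] at this
    exact this
  · rw [Ideal.map_le_iff_le_comap]
    intro a ha
    rw [Ideal.mem_comap, Module.mem_annihilator]
    rw [Module.mem_annihilator] at ha
    intro x
    induction x using TensorProduct.induction_on with
    | zero => exact smul_zero _
    | tmul b m =>
      rw [TensorProduct.smul_tmul', smul_eq_mul, ← Algebra.smul_def,
        TensorProduct.smul_tmul, ha m, TensorProduct.tmul_zero]
    | add x y hx hy => rw [smul_add, hx, hy, add_zero]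

end Groth.Agent.S4674
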