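import Groth.Statements.S4675
import Mathlib.Algebra.Module.Submodule.Equiv
-- import your own Groth.Agent.* helpers here

set_option autoImplicit false
universe u v
open FDesc

namespace Groth.Agent.S4675

/-- Let B be a ring, not necessarily commutative, and V, W two left B-modules which are isomorphic. For
a B-linear map u : V → W the following are equivalent: every B-linear map V → W can be written
uniquely as u ∘ c with c a B-linear endomorphism of V (that is, u is a basis of Hom_B(V, W) for its
right module structure over End_B(V)); u is bijective. -/
theorem result {B : Type u} [Ring B] {V W : Type v} [AddCommGroup V] [AddCommGroup W]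
    [Module B V] [Module B W] (e : V ≃ₗ[B] W) (u : V →ₗ[B] W) :
    (∀ v : V →ₗ[B] W, ∃! c : V →ₗ[B] V, v = u ∘ₗ c) ↔ Function.Bijective u := by
  constructor
  · intro h
    obtain ⟨c, hc, -⟩ := h e.toLinearMap
    -- `s = c ∘ e⁻¹` is a right inverse of `u`
    have hus : ∀ w, u (c (e.symm w)) = w := fun w => by
      have := LinearMap.congr_fun hc (e.symm w)
      simpa using this.symm
    -- uniqueness for `v = u` gives `s ∘ u = id`
    obtain ⟨c', -, hc'⟩ := h u
    have h1 : (c ∘ₗ e.symm.toLinearMap ∘ₗ u) = c' := hc' _ (by
      ext x; simp [hus])
    have h2 : (LinearMap.id : V →ₗ[B] V) = c' := hc' _ (by ext x; simp)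
    have hsu : ∀ x, c (e.symm (u x)) = x := fun x => by
      have := LinearMap.congr_fun (h1.trans h2.symm) x
      simpa using this
    exact ⟨Function.LeftInverse.injective (g := fun w => c (e.symm w)) hsu,
      Function.RightInverse.surjective (g := fun w => c (e.symm w)) hus⟩
  · intro hu v
    let eu : V ≃ₗ[B] W := LinearEquiv.ofBijective u hu
    refine ⟨eu.symm.toLinearMap ∘ₗ v, ?_, ?_⟩
    · ext x
      simp [eu]
    · intro c hc
      ext x
      have : eu (c x) = v x := by simp [eu, hc]
      simp [← this]


end Groth.Agent.S4675
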