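import Groth.Statements.S4693
import Groth.Agent.Lib.Helper6.FlatDim

set_option autoImplicit false
universe u
open EGA4

namespace Groth.Agent.S4693

/-- Let A → B be a local homomorphism of Noetherian local rings such that the closed fibre ring B/m_A B
has Krull dimension 0 (that is, m_A B is an ideal of definition of B). Then dim B ≤ dim A. If
moreover some finite B-module which is flat over A has support equal to all of Spec B (for instance
if B is flat over A), then dim B = dim A. -/
theorem result (A B : Type u) [CommRing A] [CommRing B] [IsNoetherianRing A]
    [IsNoetherianRing B] [IsLocalRing A] [IsLocalRing B] [Algebra A B] [IsLocalHom (algebraMap A B)]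
    (h0 : ringKrullDim (EGA4.FibRing A B) = 0) :
    ringKrullDim B ≤ ringKrullDim A ∧
      (∀ (N : Type u) [AddCommGroup N] [Module B N] [Module A N] [IsScalarTower A B N] [Module.Finite B N]
          [Module.Flat A N], Module.support B N = Set.univ → ringKrullDim B = ringKrullDim A) := by
  have hfibB : Module.supportDim B (Groth.Agent.H6.FlatDepth.Fib A B B) = 0 := by
    have e : Groth.Agent.H6.FlatDepth.Fib A B B ≃ₗ[B] B ⧸ (Groth.Agent.H6.FlatDepth.mS A B) :=
      Submodule.quotEquivOfEq _ _ (by rw [smul_eq_mul, Ideal.mul_top])
    rw [Module.supportDim_eq_of_equiv e, Module.supportDim_quotient_eq_ringKrullDim]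
    exact h0
  constructor
  · have h := Groth.Agent.H6.FlatDim.supportDim_tensor_le (R := A) (S := B) B A
    rw [Module.supportDim_eq_of_equiv (TensorProduct.AlgebraTensorModule.rid A B B),
      Module.supportDim_self_eq_ringKrullDim, Module.supportDim_self_eq_ringKrullDim, hfibB,
      add_zero] at h
    exact h
  · intro N _ _ _ _ _ _ hN
    have h := Groth.Agent.H6.FlatDim.supportDim_tensor (R := A) (S := B) N A
    rw [Module.supportDim_eq_of_equiv (TensorProduct.AlgebraTensorModule.rid A B N),
      Module.supportDim_self_eq_ringKrullDim] at h
    have hN1 : Module.supportDim B N = ringKrullDim B := by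
      apply le_antisymm (Module.supportDim_le_ringKrullDim B N)
      rw [← Module.supportDim_self_eq_ringKrullDim]
      apply Groth.Agent.H6.CM.supportDim_le_of_support_subset
      rw [hN]
      exact Set.subset_univ _
    haveI : Nontrivial N := by
      rw [← not_subsingleton_iff_nontrivial, ← Module.support_eq_empty_iff (R := B), hN]
      exact Set.univ_nonempty.ne_empty
    haveI := Groth.Agent.H6.FlatDim.nontrivial_fib (R := A) (S := B) N
    have hfibN : Module.supportDim B (Groth.Agent.H6.FlatDepth.Fib A B N) = 0 := by
      apply le_antisymm
      · rw [← hfibB]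
        apply Groth.Agent.H6.CM.supportDim_le_of_support_subset
        rw [Module.support_quotient, Module.support_quotient, hN]
        intro x hx
        exact ⟨by rw [Module.support_eq_zeroLocus, Module.annihilator_eq_bot.mpr inferInstance]; simp, hx.2⟩
      · have hne : Module.supportDim B (Groth.Agent.H6.FlatDepth.Fib A B N) ≠ ⊥ :=
          Module.supportDim_ne_bot_of_nontrivial B _
        unfold Module.supportDim at hne ⊢
        rw [Ne, Order.krullDim_eq_bot_iff, not_isEmpty_iff] at hne
        haveI := hne
        exact Order.krullDim_nonneg
    rw [hN1, hfibN, add_zero] at h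
    exact h

end Groth.Agent.S4693
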