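import Groth.Statements.S4694
import Groth.Agent.Lib.Helper6.FlatDepth

set_option autoImplicit false
universe u
open EGA4

namespace Groth.Agent.S4694

open TensorProduct in
/-- Let A → B be a local homomorphism of Noetherian local rings, M a finite A-module and N a nonzero
finite B-module, flat over A, whose closed-fibre module N/m_A N has finite length. Then the depth of
the B-module N ⊗_A M equals the depth of the A-module M. (The companion equality of codepths in the
published item is not restated.) -/
theorem result {A B M N : Type u} [CommRing A] [CommRing B]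
    [IsNoetherianRing A] [IsNoetherianRing B] [IsLocalRing A] [IsLocalRing B] [Algebra A B]
    [IsLocalHom (algebraMap A B)] [AddCommGroup M] [Module A M] [Module.Finite A M]
    [AddCommGroup N] [Module B N] [Module A N] [IsScalarTower A B N] [Module.Finite B N] [Nontrivial N]
    [Module.Flat A N] (hN : IsFiniteLength B (EGA4.FibMod A B N)) :
    LocCoh.depth B (N ⊗[A] M) = LocCoh.depth A M := by
  have hmain := H6.FlatDepth.depth_tensor (R := A) (S := B) N M
  have hle : EGA4.mB A B ≤ IsLocalRing.maximalIdeal B :=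
    ((IsLocalRing.local_hom_TFAE (algebraMap A B)).out 0 2).mp ‹IsLocalHom (algebraMap A B)›
  -- the fibre is nonzero
  haveI hFnt : Nontrivial (EGA4.FibMod A B N) := by
    rw [Submodule.Quotient.nontrivial_iff]
    intro htop
    have h2 : (⊤ : Submodule B N) = ⊥ :=
      Submodule.eq_bot_of_le_smul_of_le_jacobson_bot _ _ Module.Finite.fg_top htop.ge
        (hle.trans (IsLocalRing.maximalIdeal_le_jacobson _))
    exact top_ne_bot h2
  -- the fibre is killed by a power of the maximal ideal
  obtain ⟨hnoeth, hart⟩ := isFiniteLength_iff_isNoetherian_isArtinian.mp hN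
  let chain : ℕ →o (Submodule B (EGA4.FibMod A B N))ᵒᵈ :=
    ⟨fun k => OrderDual.toDual
      ((IsLocalRing.maximalIdeal B) ^ k • (⊤ : Submodule B (EGA4.FibMod A B N))), by
      intro a b hab
      show (IsLocalRing.maximalIdeal B) ^ b • (⊤ : Submodule B (EGA4.FibMod A B N)) ≤
        (IsLocalRing.maximalIdeal B) ^ a • (⊤ : Submodule B (EGA4.FibMod A B N))
      exact Submodule.smul_mono_left (Ideal.pow_le_pow_right hab)⟩
  obtain ⟨k, hk⟩ := IsArtinian.monotone_stabilizes chain
  have hk1 : (IsLocalRing.maximalIdeal B) ^ k • (⊤ : Submodule B (EGA4.FibMod A B N)) =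
      (IsLocalRing.maximalIdeal B) ^ (k + 1) • (⊤ : Submodule B (EGA4.FibMod A B N)) :=
    congrArg OrderDual.ofDual (hk (k + 1) (Nat.le_succ k))
  have hk0 : (IsLocalRing.maximalIdeal B) ^ k • (⊤ : Submodule B (EGA4.FibMod A B N)) = ⊥ := by
    apply Submodule.eq_bot_of_le_smul_of_le_jacobson_bot (IsLocalRing.maximalIdeal B) _
      (IsNoetherian.noetherian _) _ (IsLocalRing.maximalIdeal_le_jacobson _)
    conv_lhs => rw [hk1, pow_succ', mul_smul]
  have hdepth : LocCoh.depth B (EGA4.FibMod A B N) = 0 := by
    rw [H6.FlatDepth.depth_eq_zero_iff]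
    obtain ⟨w, hw⟩ := exists_ne (0 : EGA4.FibMod A B N)
    rw [Submodule.ne_bot_iff]
    refine ⟨w, ⟨k, fun a ha => ?_⟩, hw⟩
    have : a • w ∈ (IsLocalRing.maximalIdeal B) ^ k • (⊤ : Submodule B (EGA4.FibMod A B N)) :=
      Submodule.smul_mem_smul ha Submodule.mem_top
    rw [hk0, Submodule.mem_bot] at this
    exact this
  rw [hmain]
  have : LocCoh.depth B (H6.FlatDepth.Fib A B N) = 0 := hdepth
  rw [this, add_zero]

end Groth.Agent.S4694
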