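import Groth.Statements.S4696
import Groth.Agent.Lib.Helper8.NormalHomComp
-- import your own Groth.Agent.* helpers here

set_option autoImplicit false
universe u
open EGA4

namespace Groth.Agent.S4696

open Groth.Agent.H8.NHC Groth.Agent.H8.GNorm TensorProduct

/-- Case of normal morphisms, affine form: let A → B → C be homomorphisms of Noetherian rings. If A → B
and B → C are normal (flat, with geometrically normal fibres) then the composite A → C is normal. -/
theorem result (A B C : Type u) [CommRing A] [CommRing B] [CommRing C] [IsNoetherianRing A]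
    [IsNoetherianRing B] [IsNoetherianRing C] [Algebra A B] [Algebra B C] [Algebra A C] [IsScalarTower A B C]
    (hAB : EGA4.IsNormalHom A B) (hBC : EGA4.IsNormalHom B C) : EGA4.IsNormalHom A C := by
  obtain ⟨hf1, h1⟩ := hAB
  obtain ⟨hf2, h2⟩ := hBC
  refine ⟨Module.Flat.trans A B C, fun p _ k' _ _ hfin => ?_⟩
  exact geomNormalFibres_comp A B C (fun p _ k' _ _ hfin => h1 p k' hfin)
    (fun p _ k' _ _ hfin => h2 p k' hfin) p k' hfin

end Groth.Agent.S4696
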