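import Groth.Statements.S4703
import Groth.Agent.Lib.Helper3.CA.FFDom2
import Groth.Agent.S0543

set_option autoImplicit false
universe u
open EGA4

namespace Groth.Agent.S4703

open TensorProduct in
/-- For the property 'geometrically regular', case of a local ring: let A be a Noetherian local ring
with completion Â. Then the formal fibres of A are geometrically regular (the completion map A → Â
is a regular homomorphism) if and only if, for every finite A-algebra B which is a domain and every
prime ideal q of B ⊗_A Â whose contraction to B is zero, the local ring of B ⊗_A Â at q is regular.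
(The published statement is for semi-local rings; this row takes A local.) -/
theorem result (A : Type u) [CommRing A] [IsNoetherianRing A] [IsLocalRing A] :
    CAlg.IsRegularHom A (EGA4.Cpl A) ↔
      ∀ (B : Type u) [CommRing B] [IsDomain B] [Algebra A B] [Module.Finite A B]
        (q : Ideal (B ⊗[A] EGA4.Cpl A)) [q.IsPrime],
        q.comap (algebraMap B (B ⊗[A] EGA4.Cpl A)) = ⊥ → IsRegularLocalRing (Localization.AtPrime q) := by
  have hN : IsNoetherianRing (EGA4.Cpl A) := Groth.Agent.S0543.result A _
  constructor
  · intro h B _ _ _ _ q _ hq
    have : IsNoetherianRing (B ⊗[A] EGA4.Cpl A) :=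
      Groth.Agent.H3.FFDom.isNoetherianRing_tensor_of_finite A (EGA4.Cpl A) B
    exact Groth.Agent.H3.FFDom.isRegularLocalRing_atPrime_of_isRegularHom A (EGA4.Cpl A) B h q hq
  · intro H
    refine ⟨inferInstance, fun p _ => ⟨Groth.Agent.H3.RegHomBC.isNoetherianRing_fiber A (EGA4.Cpl A) p,
      fun k' _ _ hfin => ?_⟩⟩
    exact Groth.Agent.H3.FFDom.geomRegFibres_of_forall_finite_domain A (EGA4.Cpl A) H p k' hfin

end Groth.Agent.S4703
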