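import Groth.Statements.S4729
import Groth.Agent.Lib.Helper6.SkKit

set_option autoImplicit false
universe u
open EGA4

namespace Groth.Agent.S4729

/-- Let A be a commutative ring, M a finite A-module and p ⊆ q prime ideals of A (so that p is a
generization of q). Then the dimension of the A_p-module M_p is at most the dimension of the
A_q-module M_q. -/
theorem result (A : Type u) [CommRing A] (M : Type u) [AddCommGroup M] [Module A M]
    [Module.Finite A M] (p q : Ideal A) [p.IsPrime] [q.IsPrime] (hpq : p ≤ q) :
    Module.supportDim (Localization.AtPrime p) (LocalizedModule p.primeCompl M) ≤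
      Module.supportDim (Localization.AtPrime q) (LocalizedModule q.primeCompl M) := by
  unfold Module.supportDim
  -- the map on supports
  have hdisj : ∀ Q : PrimeSpectrum (Localization.AtPrime p),
      Disjoint (q.primeCompl : Set A)
        ((Q.asIdeal.comap (algebraMap A (Localization.AtPrime p)) : Ideal A) : Set A) := by
    intro Q
    rw [Set.disjoint_left]
    intro x hx hxQ
    apply hx
    apply hpq
    have h1 : Q.asIdeal ≤ IsLocalRing.maximalIdeal (Localization.AtPrime p) :=
      IsLocalRing.le_maximalIdeal Q.2.ne_top
    have h2 := Ideal.comap_mono (f := algebraMap A (Localization.AtPrime p)) h1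
    have h3 : Ideal.comap (algebraMap A (Localization.AtPrime p))
        (IsLocalRing.maximalIdeal (Localization.AtPrime p)) = p :=
      IsLocalization.AtPrime.under_maximalIdeal (Localization.AtPrime p) p
    rw [h3] at h2
    exact h2 hxQ
  let φ : PrimeSpectrum (Localization.AtPrime p) → PrimeSpectrum (Localization.AtPrime q) :=
    fun Q => ⟨(Q.asIdeal.comap (algebraMap A (Localization.AtPrime p))).map
      (algebraMap A (Localization.AtPrime q)),
      IsLocalization.isPrime_of_isPrime_disjoint q.primeCompl _ _ inferInstance (hdisj Q)⟩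
  have hφc : ∀ Q, (φ Q).asIdeal.comap (algebraMap A (Localization.AtPrime q)) =
      Q.asIdeal.comap (algebraMap A (Localization.AtPrime p)) := fun Q =>
    IsLocalization.under_map_of_isPrime_disjoint q.primeCompl _ inferInstance (hdisj Q)
  have hφ : ∀ Q ∈ Module.support (Localization.AtPrime p) (LocalizedModule p.primeCompl M),
      φ Q ∈ Module.support (Localization.AtPrime q) (LocalizedModule q.primeCompl M) := by
    intro Q hQ
    rw [Groth.Agent.H6.Sk.mem_support_localizedModule_iff] at hQ ⊢
    have : PrimeSpectrum.comap (algebraMap A (Localization.AtPrime q)) (φ Q) =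
        PrimeSpectrum.comap (algebraMap A (Localization.AtPrime p)) Q :=
      PrimeSpectrum.ext (hφc Q)
    rw [this]
    exact hQ
  apply Order.krullDim_le_of_strictMono (fun Q => ⟨φ Q.1, hφ Q.1 Q.2⟩)
  intro Q₁ Q₂ hlt
  have h1 : Q₁.1.asIdeal < Q₂.1.asIdeal := hlt
  change (φ Q₁.1).asIdeal < (φ Q₂.1).asIdeal
  have hc : ∀ Q : PrimeSpectrum (Localization.AtPrime p),
      (Q.asIdeal.comap (algebraMap A (Localization.AtPrime p))).map
        (algebraMap A (Localization.AtPrime p)) = Q.asIdeal :=
    fun Q => IsLocalization.map_comap p.primeCompl _ _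
  refine lt_of_le_of_ne (Ideal.map_mono (Ideal.comap_mono h1.le)) ?_
  intro heq
  have h2 := congrArg (Ideal.comap (algebraMap A (Localization.AtPrime q))) heq
  rw [hφc, hφc] at h2
  have h3 := congrArg (Ideal.map (algebraMap A (Localization.AtPrime p))) h2
  rw [hc, hc] at h3
  exact h1.ne h3

end Groth.Agent.S4729
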