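import Groth.Statements.S4730
import Groth.Agent.Lib.Helper6.PolyPrimes

set_option autoImplicit false
universe u
open EGA4

namespace Groth.Agent.S4730

open Polynomial in
/-- Let A be a Noetherian ring, p a prime ideal of A and q a prime ideal of the polynomial ring A[T]
lying over p. Then ht(p) + 1 = ht(q) + deg.tr_{κ(p)} κ(q), the transcendence degree being that of
the domain A[T]/q over the domain A/p. -/
theorem result (A : Type u) [CommRing A] [IsNoetherianRing A]
    (p : Ideal A) [p.IsPrime] (q : Ideal A[X]) [q.IsPrime] [q.LiesOver p] :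
    (p.height : Cardinal.{u}) + 1 = (q.height : Cardinal.{u}) + Algebra.trdeg (A ⧸ p) (A[X] ⧸ q) := by
  haveI : IsDomain (A ⧸ p) := Ideal.Quotient.isDomain p
  have haeval : ∀ f : A[X], Polynomial.aeval (Ideal.Quotient.mk q Polynomial.X : A[X] ⧸ q)
      (f.map (Ideal.Quotient.mk p)) = Ideal.Quotient.mk q f := by
    intro f
    have h1 : (Ideal.Quotient.mk p : A →+* A ⧸ p) = algebraMap A (A ⧸ p) := rfl
    rw [h1, Polynomial.aeval_map_algebraMap]
    have h2 : (Ideal.Quotient.mk q Polynomial.X : A[X] ⧸ q) = Ideal.Quotient.mkₐ A q Polynomial.X := rfl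
    rw [h2, Polynomial.aeval_algHom_apply, Polynomial.aeval_X_left_apply]
    rfl
  by_cases hq : q = p.map (Polynomial.C : A →+* A[X])
  · -- transcendental case
    have hht : q.height = p.height := by
      rw [hq]; exact Groth.Agent.H6.PolyPrimes.height_map_C p
    have htr : Algebra.trdeg (A ⧸ p) (A[X] ⧸ q) = 1 := by
      have hinj : Function.Injective (Polynomial.aeval (R := A ⧸ p)
          (Ideal.Quotient.mk q Polynomial.X : A[X] ⧸ q)) := by
        rw [injective_iff_map_eq_zero]
        intro g hg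
        obtain ⟨f, rfl⟩ := Groth.Agent.H6.PolyPrimes.pi_surjective p g
        change Polynomial.aeval _ (f.map (Ideal.Quotient.mk p)) = 0 at hg
        rw [haeval, Ideal.Quotient.eq_zero_iff_mem, hq] at hg
        have := (Groth.Agent.H6.PolyPrimes.ker_pi p).symm ▸ hg
        exact (RingHom.mem_ker).mp this
      have hsurj : Function.Surjective (Polynomial.aeval (R := A ⧸ p)
          (Ideal.Quotient.mk q Polynomial.X : A[X] ⧸ q)) := by
        intro z
        obtain ⟨f, rfl⟩ := Ideal.Quotient.mk_surjective z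
        exact ⟨f.map (Ideal.Quotient.mk p), haeval f⟩
      have e : (A ⧸ p)[X] ≃ₐ[A ⧸ p] (A[X] ⧸ q) := AlgEquiv.ofBijective _ ⟨hinj, hsurj⟩
      rw [← e.trdeg_eq, Polynomial.trdeg_of_isDomain]
    rw [hht, htr]
  · -- algebraic case
    have hht := Groth.Agent.H6.PolyPrimes.height_eq_add_one p q hq
    have hbar : Groth.Agent.H6.PolyPrimes.bar p q ≠ ⊥ :=
      fun h => hq ((Groth.Agent.H6.PolyPrimes.bar_eq_bot_iff p q).mp h)
    obtain ⟨g, hg, hg0⟩ := Submodule.exists_mem_ne_zero_of_ne_bot hbar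
    obtain ⟨f, rfl⟩ := Groth.Agent.H6.PolyPrimes.pi_surjective p g
    rw [← Groth.Agent.H6.PolyPrimes.mem_iff_map_mem_bar] at hg
    have hx : IsAlgebraic (A ⧸ p) (Ideal.Quotient.mk q Polynomial.X : A[X] ⧸ q) := by
      refine ⟨f.map (Ideal.Quotient.mk p), hg0, ?_⟩
      rw [haeval, Ideal.Quotient.eq_zero_iff_mem]
      exact hg
    have htop : Algebra.adjoin (A ⧸ p) {(Ideal.Quotient.mk q Polynomial.X : A[X] ⧸ q)} = ⊤ := by
      rw [eq_top_iff]
      intro z _
      obtain ⟨f', rfl⟩ := Ideal.Quotient.mk_surjective z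
      rw [Algebra.adjoin_singleton_eq_range_aeval]
      exact ⟨f'.map (Ideal.Quotient.mk p), haeval f'⟩
    haveI : Algebra.IsAlgebraic (A ⧸ p) (A[X] ⧸ q) :=
      ⟨fun z => (Algebra.isAlgebraic_adjoin_singleton_iff.mpr hx) z (by rw [htop]; trivial)⟩
    rw [trdeg_eq_zero, add_zero, hht, Cardinal.ofENat_add, Cardinal.ofENat_one]

end Groth.Agent.S4730
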