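import Groth.Statements.S4746
import Groth.Agent.Lib.Helper8.Japanese.RedFib1
import Groth.Agent.Lib.Helper8.Japanese.RedFib2
import Groth.Agent.Lib.Helper8.Japanese.ComplRed7
import Groth.Agent.Lib.Helper8.OneDim.Compl
-- import your own Groth.Agent.* helpers here

set_option autoImplicit false
universe u
open EGA4

namespace Groth.Agent.S4746

/-- For the property 'reduced': let A → B be a local homomorphism of Noetherian local rings making B a
flat A-module, such that the residue field of B is a finite extension of the residue field k of A,
and such that the formal fibres of A are geometrically reduced. If the k-algebra k ⊗_A B̂, where B̂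
is the completion of B, is geometrically reduced over k, then every fibre k(p) ⊗_A B of A → B is
geometrically reduced over k(p). -/
theorem result (A B : Type u) [CommRing A] [CommRing B]
    [IsNoetherianRing A] [IsNoetherianRing B] [IsLocalRing A] [IsLocalRing B] [Algebra A B]
    [IsLocalHom (algebraMap A B)] [Module.Flat A B]
    [Module.Finite (IsLocalRing.ResidueField A) (IsLocalRing.ResidueField B)]
    (hA : EGA4.HasGeomReducedFormalFibres A)
    (h : Algebra.IsGeometricallyReduced (IsLocalRing.maximalIdeal A).ResidueField
      ((IsLocalRing.maximalIdeal A).Fiber (EGA4.Cpl B))) :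
    ∀ (p : Ideal A) [p.IsPrime], Algebra.IsGeometricallyReduced p.ResidueField (p.Fiber B) := by
  open Groth.Agent.H8 Groth.Agent.H8.Jap Groth.Agent.H8.Jap.RedFib Groth.Agent.H8.Jap.ComplRed
    IsLocalRing in
    have hR : CAlg.IsNagata A := isNagata_of_geomReducedFormalFibres A hA
    haveI : IsNoetherianRing (EGA4.Cpl B) := OneDim.isNoetherianRing_adicCompletion B
    haveI : Module.Flat A (EGA4.Cpl B) := Module.Flat.trans A B (EGA4.Cpl B)
    have hfg : (maximalIdeal B).FG := IsNoetherian.noetherian _
    have hmax : maximalIdeal (EGA4.Cpl B) =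
        (maximalIdeal B).map (algebraMap B (EGA4.Cpl B)) :=
      AdicCompletion.maximalIdeal_eq_map_of_fg hfg
    have hjac : (maximalIdeal A).map (algebraMap A (EGA4.Cpl B)) ≤ Ideal.jacobson ⊥ := by
      rw [IsLocalRing.jacobson_eq_maximalIdeal ⊥ bot_ne_top, hmax,
        IsScalarTower.algebraMap_eq A B (EGA4.Cpl B), ← Ideal.map_map]
      apply Ideal.map_mono
      have h1 : IsLocalHom (algebraMap A B) := inferInstance
      have h2 : (maximalIdeal A).map (algebraMap A B) ≤ maximalIdeal B :=
        ((IsLocalRing.local_hom_TFAE (algebraMap A B)).out 0 2).mp h1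
      exact h2
    have hAC : RHC.GeomReducedFibres A (EGA4.Cpl B) :=
      geomReducedFibres_of_closedFibre A (EGA4.Cpl B) hR hjac
        (hfld_of_closedFibre A (EGA4.Cpl B) h)
    haveI : Module.FaithfullyFlat B (EGA4.Cpl B) :=
      Module.FaithfullyFlat.of_flat_of_isLocalHom
    exact RHC.geomReducedFibres_of_comp A B (EGA4.Cpl B) hAC

end Groth.Agent.S4746
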