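import Groth.Statements.S4750
import Groth.Agent.Lib.Helper6.FiberDict

set_option autoImplicit false
universe u
open EGA4

namespace Groth.Agent.S4750

/-- Let A → B → C be homomorphisms of Noetherian rings, both flat and with (S_n) fibres. Then the
composite A → C is flat with (S_n) fibres. -/
theorem result (n : ℕ) (A B C : Type u) [CommRing A] [CommRing B] [CommRing C] [IsNoetherianRing A]
    [IsNoetherianRing B] [IsNoetherianRing C] [Algebra A B] [Algebra B C] [Algebra A C] [IsScalarTower A B C]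
    [Module.Flat A B] [Module.Flat B C]
    (hAB : ∀ (p : Ideal A) [p.IsPrime], LocCoh.HasSk n (p.Fiber B) (p.Fiber B))
    (hBC : ∀ (q : Ideal B) [q.IsPrime], LocCoh.HasSk n (q.Fiber C) (q.Fiber C)) :
    Module.Flat A C ∧ ∀ (p : Ideal A) [p.IsPrime], LocCoh.HasSk n (p.Fiber C) (p.Fiber C) := by
  refine ⟨Module.Flat.trans A B C, ?_⟩
  intro p hp
  rw [Groth.Agent.H6.FiberDict.hasSk_fiber_iff]
  intro t ht htp
  have hrp : (t.comap (algebraMap B C)).comap (algebraMap A B) = p := by
    rw [Ideal.comap_comap, ← IsScalarTower.algebraMap_eq A B C]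
    exact htp
  have h1 := (Groth.Agent.H6.FiberDict.hasSk_fiber_iff p n).mp (hAB p)
    (t.comap (algebraMap B C)) hrp
  have h2 := (Groth.Agent.H6.FiberDict.hasSk_fiber_iff (t.comap (algebraMap B C)) n).mp
    (hBC (t.comap (algebraMap B C))) t rfl
  obtain ⟨h3, h4⟩ := Groth.Agent.H6.FibTrans.depth_and_dim_trans (A := A) (B := B) (C := C) C t
  obtain ⟨h5, h6⟩ := Groth.Agent.H6.FiberDict.depth_and_dim_self (A := A) (B := C) t
  obtain ⟨h7, h8⟩ := Groth.Agent.H6.FiberDict.depth_and_dim_self (A := B) (B := C) t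
  unfold Groth.Agent.H6.FiberDict.FibSkIneq at h1 h2 ⊢
  rw [← h5, ← h6, h3, h4, h7, h8]
  exact Groth.Agent.H6.SkLoc.min_add_le n _ _ _ _ h1 h2

end Groth.Agent.S4750
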