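import Groth.Statements.S4751
import Groth.Agent.Lib.Helper6.FiberDict
import Groth.Agent.Lib.Helper1.FlatSource

set_option autoImplicit false
universe u
open EGA4

namespace Groth.Agent.S4751

/-- Let A → B → C be homomorphisms of Noetherian rings such that B → C is faithfully flat with (S_n)
fibres and the composite A → C is flat with (S_n) fibres. Then A → B is flat with (S_n) fibres. -/
theorem result (n : ℕ) (A B C : Type u) [CommRing A] [CommRing B] [CommRing C]
    [IsNoetherianRing A] [IsNoetherianRing B] [IsNoetherianRing C] [Algebra A B] [Algebra B C] [Algebra A C]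
    [IsScalarTower A B C] [Module.FaithfullyFlat B C] [Module.Flat A C]
    (hBC : ∀ (q : Ideal B) [q.IsPrime], LocCoh.HasSk n (q.Fiber C) (q.Fiber C))
    (hAC : ∀ (p : Ideal A) [p.IsPrime], LocCoh.HasSk n (p.Fiber C) (p.Fiber C)) :
    Module.Flat A B ∧ ∀ (p : Ideal A) [p.IsPrime], LocCoh.HasSk n (p.Fiber B) (p.Fiber B) := by
  haveI hfl : Module.Flat A B := Groth.Agent.H1.flat_of_flat_of_faithfullyFlat A B C
  refine ⟨hfl, ?_⟩
  intro p hp
  rw [Groth.Agent.H6.FiberDict.hasSk_fiber_iff]
  intro r hr hrp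
  obtain ⟨t, ht, htr, hd0, hdim0⟩ := Groth.Agent.H6.FiberDict.exists_fibre_zero (B := B) (C := C) r
  subst htr
  have htp : t.comap (algebraMap A C) = p := by
    rw [IsScalarTower.algebraMap_eq A B C, ← Ideal.comap_comap]
    exact hrp
  have h1 := (Groth.Agent.H6.FiberDict.hasSk_fiber_iff p n).mp (hAC p) t htp
  obtain ⟨h3, h4⟩ := Groth.Agent.H6.FibTrans.depth_and_dim_trans (A := A) (B := B) (C := C) C t
  obtain ⟨h5, h6⟩ := Groth.Agent.H6.FiberDict.depth_and_dim_self (A := A) (B := C) t
  unfold Groth.Agent.H6.FiberDict.FibSkIneq at h1 ⊢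
  rw [← h5, ← h6, h3, h4, hd0, hdim0, add_zero, add_zero] at h1
  exact h1

end Groth.Agent.S4751
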