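import Groth.Statements.S4774
import Groth.Agent.Lib.Helper5.Lim.ReducedLimit

set_option autoImplicit false
universe u
open CategoryTheory AlgebraicGeometry
open Lim8

namespace Groth.Agent.S4774

/-- Let S = lim S_i be a cofiltered limit of schemes with affine transition maps. If S is not reduced,
then there is an index i such that S_j is not reduced for every index j over i. -/
theorem result {I : Type u} [SmallCategory I] [IsCofiltered I]
    (D : I ⥤ Scheme.{u}) (c : Limits.Cone D) (hc : Limits.IsLimit c)
    [∀ (i j : I) (f : i ⟶ j), IsAffineHom (D.map f)] (h : ¬ IsReduced c.pt) :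
    ∃ (i : I), ∀ (j : I) (_ : j ⟶ i), ¬ IsReduced (D.obj j) := by
  by_contra hcon
  push_neg at hcon
  apply h
  refine Groth.Agent.H5.Lim.isReduced_of_cofinal_isReduced D c hc (fun i => ?_)
  obtain ⟨j, φ, hj⟩ := hcon i
  exact ⟨j, φ, hj⟩

end Groth.Agent.S4774
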