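import Groth.Statements.S4776
import Groth.Agent.Lib.Helper5.Lim.Irreducible

set_option autoImplicit false
universe u
open CategoryTheory AlgebraicGeometry
open Lim8

namespace Groth.Agent.S4776

/-- Let S = lim S_i be a cofiltered limit of schemes whose transition maps are affine, flat and
surjective, some stage S_{i₀} being quasi-compact, and assume that the underlying topological space
of S is Noetherian. Then S is integral if and only if there is an index i over i₀ such that S_j is
integral for every j over i. (The published statement carries neither the quasi-compactness nor the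
Noetherian hypothesis; its proof combines the reducedness criterion with the irreducibility
criterion for limits, and the latter is proved only under these two hypotheses, so they are assumed
here.) -/
theorem result {I : Type u} [SmallCategory I] [IsCofiltered I]
    (D : I ⥤ Scheme.{u}) (c : Limits.Cone D) (hc : Limits.IsLimit c)
    [∀ (i j : I) (f : i ⟶ j), IsAffineHom (D.map f)] (i₀ : I)
    [CompactSpace (D.obj i₀)] [TopologicalSpace.NoetherianSpace c.pt]
    (hf : ∀ (i j : I) (φ : i ⟶ j), Flat (D.map φ) ∧ Surjective (D.map φ)) :
    IsIntegral c.pt ↔ ∃ (i : I) (_ : i ⟶ i₀), ∀ (j : I) (_ : j ⟶ i), IsIntegral (D.obj j) := by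
  have hsurj : ∀ i, Surjective (c.π.app i) := fun i => by
    rw [surjective_iff, ← Set.range_eq_univ, Groth.Agent.H5.Lim.range_π_app D c hc i]
    simp only [Set.iInter_eq_univ]
    intro j φ
    exact Set.range_eq_univ.mpr (hf j i φ).2.surj
  have hflat : ∀ i, Flat (c.π.app i) := fun i =>
    Groth.Agent.H5.Lim.flat_π_app D c hc i (fun j φ => (hf j i φ).1)
  have hdom : ∀ i, IsDominant (c.π.app i) := fun i => by
    have := hsurj i
    infer_instance
  constructor
  · intro h
    refine ⟨i₀, 𝟙 i₀, fun j _ => ?_⟩
    have h1 : IsReduced c.pt := inferInstance
    have h2 : IrreducibleSpace c.pt := inferInstance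
    have h0 : IrreducibleSpace ↥(((Functor.const I).obj c.pt).obj j) := h2
    have h3 : IsReduced (D.obj j) :=
      @Groth.Agent.H5.Lim.isReduced_of_flat_of_surjective _ _ (c.π.app j) (hflat j) (hsurj j) h1
    have h4 : IrreducibleSpace (D.obj j) :=
      Groth.Agent.H5.Lim.irreducibleSpace_of_denseRange (c.π.app j)
        (c.π.app j).continuous (hdom j).denseRange
    exact isIntegral_of_irreducibleSpace_of_isReduced (D.obj j)
  · rintro ⟨i, φ₀, hi⟩
    have h1 : IsReduced c.pt := by
      refine Groth.Agent.H5.Lim.isReduced_of_cofinal_isReduced D c hc (fun j => ?_)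
      let a : I := IsCofiltered.min j i
      have : IsIntegral (D.obj a) := hi a (IsCofiltered.minToRight j i)
      exact ⟨a, IsCofiltered.minToLeft j i, inferInstance⟩
    have h2 : IrreducibleSpace c.pt :=
      Groth.Agent.H5.Lim.irreducibleSpace_pt_of_forall D c hc hdom i (fun j φ => by
        have : IsIntegral (D.obj j) := hi j φ
        infer_instance)
    exact isIntegral_of_irreducibleSpace_of_isReduced c.pt

end Groth.Agent.S4776
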