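import Groth.Statements.S9218
import Groth.Agent.Lib.Helper5.Lim.BaseChangeSystem

set_option autoImplicit false
universe u
open CategoryTheory CategoryTheory.Limits AlgebraicGeometry
open Lim

namespace Groth.Agent.S9218

/-- Let S = lim S_i be a cofiltered limit of schemes with affine transition morphisms (the S_i are not
assumed quasi-compact or quasi-separated), i an index, and X_i → S_i, Y_i → S_i morphisms locally of
finite presentation with X_i, Y_i quasi-compact and quasi-separated; let X, Y be their base changes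
to S (pullback squares). Then every S-morphism f : X → Y comes from some stage: for some index j
over i there is an S_j-morphism f_j : X_i ×_{S_i} S_j → Y_i ×_{S_i} S_j whose base change to S is f,
in the sense that the canonical morphisms X → X_i ×_{S_i} S_j and Y → Y_i ×_{S_i} S_j intertwine f
and f_j. This is the fullness part of the equivalence between the colimit of the categories of
quasi-compact quasi-separated schemes locally of finite presentation over the S_i and the
corresponding category over S. -/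
theorem result {I : Type u} [SmallCategory I] [IsCofiltered I]
    (D : I ⥤ Scheme.{u}) (c : Limits.Cone D) (hc : Limits.IsLimit c)
    [∀ (i j : I) (f : i ⟶ j), IsAffineHom (D.map f)] (i : I)
    {Xi Yi : Scheme.{u}} (xi : Xi ⟶ D.obj i) (yi : Yi ⟶ D.obj i)
    [CompactSpace Xi] [QuasiSeparatedSpace Xi] [LocallyOfFinitePresentation xi]
    [CompactSpace Yi] [QuasiSeparatedSpace Yi] [LocallyOfFinitePresentation yi]
    {X Y : Scheme.{u}} (qX : X ⟶ Xi) (pX : X ⟶ c.pt) (hX : IsPullback qX pX xi (c.π.app i))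
    (qY : Y ⟶ Yi) (pY : Y ⟶ c.pt) (hY : IsPullback qY pY yi (c.π.app i))
    (f : X ⟶ Y) (hf : f ≫ pY = pX) :
    ∃ (j : I) (φ : j ⟶ i) (fj : pullback xi (D.map φ) ⟶ pullback yi (D.map φ))
      (sX : X ⟶ pullback xi (D.map φ)) (sY : Y ⟶ pullback yi (D.map φ)),
      fj ≫ pullback.snd yi (D.map φ) = pullback.snd xi (D.map φ) ∧
      sX ≫ pullback.fst xi (D.map φ) = qX ∧ sX ≫ pullback.snd xi (D.map φ) = pX ≫ c.π.app j ∧
      sY ≫ pullback.fst yi (D.map φ) = qY ∧ sY ≫ pullback.snd yi (D.map φ) = pY ≫ c.π.app j ∧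
      sX ≫ fj = f ≫ sY := by
  have hDm : ∀ {j k : I} (f : j ⟶ k), IsAffineHom (D.map f) := fun f => inferInstance
  have hcp : ∀ j : Over i, CompactSpace ↥((Groth.Agent.H5.Lim.bcDiagram D xi).obj j) :=
    fun j => Groth.Agent.H5.Lim.compactSpace_bcDiagram_obj D xi j inferInstance
  have hqs : ∀ j : Over i, QuasiSeparatedSpace ↥((Groth.Agent.H5.Lim.bcDiagram D xi).obj j) :=
    fun j => Groth.Agent.H5.Lim.quasiSeparatedSpace_bcDiagram_obj D xi j inferInstance
  have haff : ∀ {j k : Over i} (φ : j ⟶ k),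
      IsAffineHom ((Groth.Agent.H5.Lim.bcDiagram D xi).map φ) :=
    fun φ => Groth.Agent.H5.Lim.isAffineHom_bcMap D xi φ inferInstance
  let t' : Groth.Agent.H5.Lim.bcDiagram D xi ⟶ (Functor.const (Over i)).obj (D.obj i) :=
    Groth.Agent.H5.Lim.bcDiagramFst D xi ≫ (Functor.const (Over i)).map xi
  let a : pullback xi (c.π.app i) ⟶ Yi := hX.isoPullback.inv ≫ f ≫ qY
  have ha : (Groth.Agent.H5.Lim.bcCone D c xi).π ≫ t' = (Functor.const _).map (a ≫ yi) := by
    ext j
    change Groth.Agent.H5.Lim.bcProj D c xi j ≫ pullback.fst xi (D.map j.hom) ≫ xi =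
      (hX.isoPullback.inv ≫ f ≫ qY) ≫ yi
    rw [Groth.Agent.H5.Lim.bcProj_fst_assoc, pullback.condition, Category.assoc, Category.assoc,
      hY.w, ← Category.assoc f, hf, Iso.eq_inv_comp, hX.isoPullback_hom_snd_assoc]
  obtain ⟨k, g, hg1, hg2⟩ := Scheme.exists_π_app_comp_eq_of_locallyOfFinitePresentation
    (Groth.Agent.H5.Lim.bcDiagram D xi) t' yi (Groth.Agent.H5.Lim.bcCone D c xi)
    (Groth.Agent.H5.Lim.isLimitBcCone D c xi hc) a ha
  obtain ⟨g', hg'⟩ : ∃ g' : pullback xi (D.map k.hom) ⟶ Yi, g' = g := ⟨g, rfl⟩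
  replace hg1 : Groth.Agent.H5.Lim.bcProj D c xi k ≫ g' = hX.isoPullback.inv ≫ f ≫ qY := by
    rw [hg']; exact hg1
  replace hg2 : g' ≫ yi = pullback.fst xi (D.map k.hom) ≫ xi := by
    rw [hg']; exact hg2
  let fj : pullback xi (D.map k.hom) ⟶ pullback yi (D.map k.hom) :=
    pullback.lift g' (pullback.snd xi (D.map k.hom)) (by rw [hg2, pullback.condition])
  let sX : X ⟶ pullback xi (D.map k.hom) :=
    pullback.lift qX (pX ≫ c.π.app k.left) (by rw [Category.assoc, c.w, hX.w])
  let sY : Y ⟶ pullback yi (D.map k.hom) :=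
    pullback.lift qY (pY ≫ c.π.app k.left) (by rw [Category.assoc, c.w, hY.w])
  have hsX : sX = hX.isoPullback.hom ≫ Groth.Agent.H5.Lim.bcProj D c xi k := by
    apply pullback.hom_ext
    · rw [pullback.lift_fst, Category.assoc, Groth.Agent.H5.Lim.bcProj_fst,
        hX.isoPullback_hom_fst]
    · rw [pullback.lift_snd, Category.assoc, Groth.Agent.H5.Lim.bcProj_snd,
        hX.isoPullback_hom_snd_assoc]
  refine ⟨k.left, k.hom, fj, sX, sY, pullback.lift_snd _ _ _, pullback.lift_fst _ _ _,
    pullback.lift_snd _ _ _, pullback.lift_fst _ _ _, pullback.lift_snd _ _ _, ?_⟩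
  apply pullback.hom_ext
  · rw [Category.assoc, pullback.lift_fst, Category.assoc, pullback.lift_fst, hsX, Category.assoc,
      hg1, Iso.hom_inv_id_assoc]
  · rw [Category.assoc, pullback.lift_snd, pullback.lift_snd, Category.assoc, pullback.lift_snd,
      ← Category.assoc, hf]

end Groth.Agent.S9218
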