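import Groth.Statements.S4795
import Groth.Agent.S9218
import Groth.Agent.Lib.Helper5.Lim.DescendIso
import Groth.Agent.Lib.Helper5.EtSrc.OfComp

set_option autoImplicit false
universe u
open CategoryTheory AlgebraicGeometry
open Lim8

namespace Groth.Agent.S4795

/-- Let S = lim S_i be a cofiltered limit of schemes with affine transition maps and S_{i₀} a
quasi-compact quasi-separated stage; let X₀ and Y₀ be schemes of finite presentation over S_{i₀},
and let X, Y be their base changes along S ⟶ S_{i₀} (base changes are expressed by pullback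
squares). Then X and Y are isomorphic over S if and only if, for some index j over i₀, the base
changes X_j and Y_j of X₀ and Y₀ along S_j ⟶ S_{i₀} are isomorphic over S_j. -/
theorem result {I : Type u} [SmallCategory I] [IsCofiltered I]
    (D : I ⥤ Scheme.{u}) (c : Limits.Cone D) (hc : Limits.IsLimit c)
    [∀ (i j : I) (f : i ⟶ j), IsAffineHom (D.map f)] (i₀ : I)
    [CompactSpace (D.obj i₀)] [QuasiSeparatedSpace (D.obj i₀)]
    {X₀ Y₀ : Scheme.{u}} (a₀ : X₀ ⟶ D.obj i₀) (b₀ : Y₀ ⟶ D.obj i₀)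
    [LocallyOfFinitePresentation a₀] [QuasiCompact a₀] [QuasiSeparated a₀]
    [LocallyOfFinitePresentation b₀] [QuasiCompact b₀] [QuasiSeparated b₀]
    {X Y : Scheme.{u}} (a : X ⟶ c.pt) (b : Y ⟶ c.pt) (qX : X ⟶ X₀) (qY : Y ⟶ Y₀)
    (hX : IsPullback qX a a₀ (c.π.app i₀)) (hY : IsPullback qY b b₀ (c.π.app i₀)) :
    (∃ e : X ≅ Y, e.hom ≫ b = a) ↔
      ∃ (j : I) (φ : j ⟶ i₀) (Xj Yj : Scheme.{u}) (aj : Xj ⟶ D.obj j) (bj : Yj ⟶ D.obj j)
        (pX : Xj ⟶ X₀) (pY : Yj ⟶ Y₀), IsPullback pX aj a₀ (D.map φ) ∧ IsPullback pY bj b₀ (D.map φ) ∧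
        ∃ e : Xj ≅ Yj, e.hom ≫ bj = aj := by
  have hDcp : ∀ (j : I) (φ : j ⟶ i₀), CompactSpace (D.obj j) := fun j φ =>
    QuasiCompact.compactSpace_of_compactSpace (D.map φ)
  have hX₀c : CompactSpace X₀ := QuasiCompact.compactSpace_of_compactSpace a₀
  have hX₀q : QuasiSeparatedSpace X₀ := quasiSeparatedSpace_of_quasiSeparated a₀
  have hY₀c : CompactSpace Y₀ := QuasiCompact.compactSpace_of_compactSpace b₀
  have hY₀q : QuasiSeparatedSpace Y₀ := quasiSeparatedSpace_of_quasiSeparated b₀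
  constructor
  · rintro ⟨e, he⟩
    obtain ⟨j, φ, fj, sX, sY, h1, h2, h3, h4, h5, h6⟩ :=
      Groth.Agent.S9218.result D c hc i₀ a₀ b₀ qX a hX qY b hY e.hom he
    -- the squares over the stage `j`
    have SqY : IsPullback sY b (Limits.pullback.snd b₀ (D.map φ)) (c.π.app j) := by
      refine IsPullback.of_right ?_ h5 (IsPullback.of_hasPullback b₀ (D.map φ))
      rw [h4, c.w]; exact hY
    have SqX : IsPullback sX a (Limits.pullback.snd a₀ (D.map φ)) (c.π.app j) := by
      refine IsPullback.of_right ?_ h3 (IsPullback.of_hasPullback a₀ (D.map φ))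
      rw [h2, c.w]; exact hX
    have SqTop : IsPullback sX e.hom fj sY := by
      refine IsPullback.of_bot ?_ h6 SqY
      rw [he, h1]; exact SqX
    -- properties of `fj`
    have hg₀lfp : LocallyOfFinitePresentation (Limits.pullback.snd b₀ (D.map φ)) := inferInstance
    have hg₀qs : QuasiSeparated (Limits.pullback.snd b₀ (D.map φ)) := inferInstance
    have hcomp1 : LocallyOfFinitePresentation (fj ≫ Limits.pullback.snd b₀ (D.map φ)) := by
      rw [h1]; infer_instance
    have hcomp2 : QuasiCompact (fj ≫ Limits.pullback.snd b₀ (D.map φ)) := by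
      rw [h1]; infer_instance
    have hcomp3 : QuasiSeparated (fj ≫ Limits.pullback.snd b₀ (D.map φ)) := by
      rw [h1]; infer_instance
    have hlfp : LocallyOfFinitePresentation fj :=
      Groth.Agent.H5.EtSrc.locallyOfFinitePresentation_of_comp fj (Limits.pullback.snd b₀ (D.map φ))
        hcomp1 inferInstance
    have hqc : QuasiCompact fj := QuasiCompact.of_comp fj (Limits.pullback.snd b₀ (D.map φ))
    have hqs : QuasiSeparated fj := QuasiSeparated.of_comp fj (Limits.pullback.snd b₀ (D.map φ))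
    have : CompactSpace (D.obj j) := hDcp j φ
    have hYjc : CompactSpace ↥(Limits.pullback b₀ (D.map φ)) :=
      QuasiCompact.compactSpace_of_compactSpace (Limits.pullback.snd b₀ (D.map φ))
    obtain ⟨i, φ', Xi, Yi, fi, gi, pY, pX, hYi, hXi, hiso⟩ :=
      Groth.Agent.H5.Lim.exists_descend D c hc
        Groth.Agent.H5.Lim.affineSystemDescent_isomorphisms j fj (Limits.pullback.snd b₀ (D.map φ))
        ⟨hlfp, hqc, hqs⟩ e.hom b sY sX SqY SqTop (inferInstance : IsIso e.hom)
    have hiso' : IsIso fi := hiso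
    refine ⟨i, φ' ≫ φ, Xi, Yi, fi ≫ gi, gi, pX ≫ Limits.pullback.fst a₀ (D.map φ),
      pY ≫ Limits.pullback.fst b₀ (D.map φ), ?_, ?_, asIso fi, rfl⟩
    · have hv := hXi.paste_vert hYi
      rw [h1] at hv
      have := hv.paste_horiz (IsPullback.of_hasPullback a₀ (D.map φ))
      rwa [← D.map_comp] at this
    · have := hYi.paste_horiz (IsPullback.of_hasPullback b₀ (D.map φ))
      rwa [← D.map_comp] at this
  · rintro ⟨j, φ, Xj, Yj, aj, bj, pX, pY, hXj, hYj, ej, hej⟩
    have eX : qX ≫ a₀ = (a ≫ c.π.app j) ≫ D.map φ := by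
      rw [Category.assoc, c.w, hX.w]
    have eY : qY ≫ b₀ = (b ≫ c.π.app j) ≫ D.map φ := by
      rw [Category.assoc, c.w, hY.w]
    let rX : X ⟶ Xj := hXj.lift qX (a ≫ c.π.app j) eX
    let rY : Y ⟶ Yj := hYj.lift qY (b ≫ c.π.app j) eY
    have hrX1 : rX ≫ pX = qX := hXj.lift_fst _ _ _
    have hrX2 : rX ≫ aj = a ≫ c.π.app j := hXj.lift_snd _ _ _
    have hrY1 : rY ≫ pY = qY := hYj.lift_fst _ _ _
    have hrY2 : rY ≫ bj = b ≫ c.π.app j := hYj.lift_snd _ _ _
    have SqX : IsPullback rX a aj (c.π.app j) := by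
      refine IsPullback.of_right ?_ hrX2 hXj
      rw [hrX1, c.w]; exact hX
    have SqY : IsPullback rY b bj (c.π.app j) := by
      refine IsPullback.of_right ?_ hrY2 hYj
      rw [hrY1, c.w]; exact hY
    have hej' : ej.inv ≫ aj = bj := by rw [← hej, Iso.inv_hom_id_assoc]
    let h : X ⟶ Y := SqY.lift (rX ≫ ej.hom) a (by rw [Category.assoc, hej, hrX2])
    let h' : Y ⟶ X := SqX.lift (rY ≫ ej.inv) b (by rw [Category.assoc, hej', hrY2])
    have hh1 : h ≫ rY = rX ≫ ej.hom := SqY.lift_fst _ _ _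
    have hh2 : h ≫ b = a := SqY.lift_snd _ _ _
    have hh'1 : h' ≫ rX = rY ≫ ej.inv := SqX.lift_fst _ _ _
    have hh'2 : h' ≫ a = b := SqX.lift_snd _ _ _
    refine ⟨⟨h, h', ?_, ?_⟩, hh2⟩
    · apply SqX.hom_ext
      · rw [Category.assoc, hh'1, ← Category.assoc, hh1, Category.assoc, Iso.hom_inv_id,
          Category.comp_id, Category.id_comp]
      · rw [Category.assoc, hh'2, hh2, Category.id_comp]
    · apply SqY.hom_ext
      · rw [Category.assoc, hh1, ← Category.assoc, hh'1, Category.assoc, Iso.inv_hom_id,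
          Category.comp_id, Category.id_comp]
      · rw [Category.assoc, hh2, hh'2, Category.id_comp]

end Groth.Agent.S4795
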