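import Groth.Statements.S4817
import Groth.Agent.Lib.Helper5.Lim.DescendFlat

set_option autoImplicit false
universe u
open CategoryTheory AlgebraicGeometry
open Lim8

namespace Groth.Agent.S4817

open CategoryTheory.Limits in
/-- Let S = lim S_i be a cofiltered limit of schemes with affine transition maps and S_{i₀} a
quasi-compact stage; let ι₀ : Z₀ ⟶ S_{i₀} be a subscheme of finite presentation (an immersion which
is locally of finite presentation and quasi-compact). Then the base change Z₀ ×_{S_{i₀}} S ⟶ S of ι₀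
is an open immersion if and only if, for some index j over i₀, the base change Z₀ ×_{S_{i₀}} S_j ⟶
S_j is an open immersion. This is the case of open subschemes. -/
theorem result {I : Type u} [SmallCategory I] [IsCofiltered I]
    (D : I ⥤ Scheme.{u}) (c : Limits.Cone D) (hc : Limits.IsLimit c)
    [∀ (i j : I) (f : i ⟶ j), IsAffineHom (D.map f)] (i₀ : I) [CompactSpace (D.obj i₀)]
    {Z₀ : Scheme.{u}} (ι₀ : Z₀ ⟶ D.obj i₀) [IsImmersion ι₀] [LocallyOfFinitePresentation ι₀] [QuasiCompact ι₀] :
    IsOpenImmersion (pullback.snd ι₀ (c.π.app i₀)) ↔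
      ∃ (j : I) (φ : j ⟶ i₀), IsOpenImmersion (pullback.snd ι₀ (D.map φ)) := by
  have hmono : Mono ι₀ := inferInstance
  have hqs : QuasiSeparated ι₀ := inferInstance
  constructor
  · intro h
    have hflat : Flat (Limits.pullback.snd ι₀ (c.π.app i₀)) := inferInstance
    obtain ⟨j, φ, hj⟩ := Groth.Agent.H5.Lim.exists_bc_of_affineSystemDescent D c hc
      Groth.Agent.H5.Lim.affineSystemDescent_flat i₀ ι₀ ⟨inferInstance, inferInstance, hqs⟩ hflat
    have : Flat (Limits.pullback.snd ι₀ (D.map φ)) := hj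
    exact ⟨j, φ, IsOpenImmersion.of_flat_of_mono _⟩
  · rintro ⟨j, φ, h⟩
    have e : c.π.app i₀ = c.π.app j ≫ D.map φ := (c.w φ).symm
    rw [Groth.Agent.H5.Lim.bc_congr (P := @IsOpenImmersion) ι₀ e]
    exact Groth.Agent.H5.Lim.bc_of_comp (P := @IsOpenImmersion) ι₀ _ _ h

end Groth.Agent.S4817
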