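import Groth.Statements.S4837
import Groth.Agent.Lib.Helper6.Canon2
import Groth.Agent.S8255

set_option autoImplicit false
open CategoryTheory AlgebraicGeometry
universe u
open Lim8

namespace Groth.Agent.S4837

/-- Let f : X ⟶ Y be a quasi-compact quasi-separated morphism, C a quasi-coherent O_Y-algebra with
relative spectrum Z = Spec(C) over Y, g : X ⟶ Z a Y-morphism which is an immersion, and φ : C ⟶
f_*O_X the homomorphism of O_Y-algebras corresponding to g (the canonical identification of C with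
the direct image of O_Z followed by the map induced by g). Then the scheme-theoretic image of g is
the whole of Z, i.e. the kernel ideal of g vanishes, if and only if φ is injective; and when this
holds g is an open immersion. -/
theorem result {X Y : Scheme.{u}} (f : X ⟶ Y)
    [QuasiCompact f] [QuasiSeparated f] (C : RelSpec.QCAlg Y) (g : X ⟶ C.spec) (w : g ≫ C.π = f)
    [IsImmersion g] (φ : C ⟶ RelSpec.QCAlg.directImage f)
    (hφ : C.gammaMap ≫ φ.hom = AffAlg.algHom C.π f g w) :
    (g.ker = ⊥ ↔ ∀ U : Y.Opens, Function.Injective (φ.hom.app (Opposite.op U)).hom) ∧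
      (g.ker = ⊥ → IsOpenImmersion g) := by
  subst w
  haveI hqc : QuasiCompact g := QuasiCompact.of_comp g C.π
  haveI hiso : IsIso C.gammaMap := Groth.Agent.S8255.result C
  -- the key formula
  have key : ∀ (U : Y.Opens) (a : Γ(C.spec, C.π ⁻¹ᵁ U)),
      (φ.hom.app (Opposite.op U)).hom ((C.gammaMap.app (Opposite.op U)).hom a)
        = (g.app (C.π ⁻¹ᵁ U)).hom a := by
    intro U a
    have h1 : (C.gammaMap ≫ φ.hom).app (Opposite.op U)
        = (AffAlg.algHom C.π (g ≫ C.π) g rfl).app (Opposite.op U) := by rw [hφ]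
    rw [Groth.Agent.H6.Canon.algHom_app] at h1
    have h2 : (φ.hom.app (Opposite.op U)).hom ((C.gammaMap.app (Opposite.op U)).hom a)
        = (g.appLE (C.π ⁻¹ᵁ U) ((g ≫ C.π) ⁻¹ᵁ U) le_rfl).hom a :=
      congrArg (fun α => α.hom a) h1
    refine h2.trans ?_
    have h3 : g.appLE (C.π ⁻¹ᵁ U) ((g ≫ C.π) ⁻¹ᵁ U) le_rfl = g.app (C.π ⁻¹ᵁ U) := by
      exact (Scheme.Hom.app_eq_appLE g).symm
    rw [h3]
    rfl
  have hb : ∀ U : Y.Opens, Function.Bijective (C.gammaMap.app (Opposite.op U)).hom := fun U =>
    ConcreteCategory.bijective_of_isIso (C.gammaMap.app (Opposite.op U))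
  have inj_iff : ∀ U : Y.Opens, Function.Injective (φ.hom.app (Opposite.op U)).hom ↔
      Function.Injective (g.app (C.π ⁻¹ᵁ U)).hom := by
    intro U
    constructor
    · intro h a b hab
      rw [← key U a, ← key U b] at hab
      exact (hb U).1 (h hab)
    · intro h a b hab
      obtain ⟨a', rfl⟩ := (hb U).2 a
      obtain ⟨b', rfl⟩ := (hb U).2 b
      rw [key U a', key U b'] at hab
      rw [h hab]
  refine ⟨⟨fun hker U => ?_, fun hinj => ?_⟩, fun hker => ?_⟩
  · rw [inj_iff]
    haveI : IsSchemeTheoreticallyDominant g := ⟨hker⟩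
    exact g.app_injective _
  · let V : Y.affineOpens → C.spec.affineOpens := fun U =>
      ⟨C.π ⁻¹ᵁ U.1, U.2.preimage C.π⟩
    apply Scheme.IdealSheafData.ext_of_iSup_eq_top V
    · rw [eq_top_iff]
      intro z _
      obtain ⟨_, ⟨U, hU, rfl⟩, hzU, -⟩ :=
        Y.isBasis_affineOpens.exists_subset_of_mem_open (Set.mem_univ (C.π z)) isOpen_univ
      exact TopologicalSpace.Opens.mem_iSup.2 ⟨⟨U, hU⟩, hzU⟩
    · intro U
      rw [Scheme.Hom.ker_apply, Scheme.IdealSheafData.ideal_bot]
      exact (RingHom.injective_iff_ker_eq_bot _).1 ((inj_iff U.1).1 (hinj U.1))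
  · haveI : IsIso g.imageι := by
      rw [IsClosedImmersion.isIso_iff_ker_eq_bot, Scheme.Hom.imageι,
        Scheme.IdealSheafData.ker_subschemeι]
      exact hker
    rw [← g.toImage_imageι]
    infer_instance

end Groth.Agent.S4837
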