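import Groth.Statements.S4847
import Groth.Agent.Lib.Helper1.LocalCriterion3
import Groth.Agent.Lib.Helper1.FlatTransfer
import Groth.Agent.Lib.Lead.QC.FlatBC
import Groth.Agent.Lib.Lead.QC.LocFree
import Groth.Agent.Lib.Lead.QC.FinType

set_option autoImplicit false
universe u
open EGA43

namespace Groth.Agent.S4847

open TensorProduct

open AlgebraicGeometry CategoryTheory Limits in
/-- Case 1° (fibrewise flatness criterion for locally Noetherian schemes): let S, X and Y be locally
Noetherian schemes, f : X ⟶ Y and h : Y ⟶ S arbitrary morphisms, F a coherent O_X-module and x a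
point of X with images y in Y and s in S, such that the stalk F_x is nonzero. Then F is flat over S
at x and F_x / m_s F_x is flat over O_{Y,y} / m_s O_{Y,y} (that is, the fibre module F_s is flat
over the fibre Y_s at x) if and only if h is flat at y and F is flat over Y at x. No finiteness
hypothesis on f or h is required in this case. -/
theorem result {X Y S : Scheme.{u}}
    [IsLocallyNoetherian X] [IsLocallyNoetherian Y] [IsLocallyNoetherian S]
    (f : X ⟶ Y) (h : Y ⟶ S) (F : X.Modules) (hF : Coh.IsCoh F) (x : X)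
    (hx : Nontrivial ↑(F.presheaf.stalk x)) :
    letI := FlatMod.moduleStalkOver f F x
    (FlatMod.IsFlatOverAt (f ≫ h) F x ∧
      Module.Flat (↑(Y.presheaf.stalk (f x)) ⧸ Ideal.map (h.stalkMap (f x)).hom (IsLocalRing.maximalIdeal ↑(S.presheaf.stalk (h (f x)))))
        (↑(F.presheaf.stalk x) ⧸ (Ideal.map (h.stalkMap (f x)).hom (IsLocalRing.maximalIdeal ↑(S.presheaf.stalk (h (f x)))) •
          (⊤ : Submodule ↑(Y.presheaf.stalk (f x)) ↑(F.presheaf.stalk x))))) ↔
    ((h.stalkMap (f x)).hom.Flat ∧ FlatMod.IsFlatOverAt f F x) := by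
  classical
  letI algRS : Algebra (S.presheaf.stalk (h (f x))) (Y.presheaf.stalk (f x)) :=
    (h.stalkMap (f x)).hom.toAlgebra
  letI algSS' : Algebra (Y.presheaf.stalk (f x)) (X.presheaf.stalk x) :=
    (f.stalkMap x).hom.toAlgebra
  letI mSM : Module (Y.presheaf.stalk (f x)) (F.presheaf.stalk x) := FlatMod.moduleStalkOver f F x
  letI mRM : Module (S.presheaf.stalk (h (f x))) (F.presheaf.stalk x) :=
    FlatMod.moduleStalkOver (f ≫ h) F x
  haveI twS : IsScalarTower (Y.presheaf.stalk (f x)) (X.presheaf.stalk x) (F.presheaf.stalk x) :=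
    IsScalarTower.of_algebraMap_smul fun _ _ => rfl
  haveI twR : IsScalarTower (S.presheaf.stalk (h (f x))) (Y.presheaf.stalk (f x))
      (F.presheaf.stalk x) := ⟨fun c a m => by
    change (f.stalkMap x) ((h.stalkMap (f x)) c * a) • m =
      ((f ≫ h).stalkMap x) c • ((f.stalkMap x) a • m)
    rw [map_mul, mul_smul, Scheme.Hom.stalkMap_comp]
    rfl⟩
  haveI : IsLocalHom (algebraMap (S.presheaf.stalk (h (f x))) (Y.presheaf.stalk (f x))) :=
    inferInstanceAs (IsLocalHom (h.stalkMap (f x)).hom)
  haveI : IsLocalHom (algebraMap (Y.presheaf.stalk (f x)) (X.presheaf.stalk x)) :=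
    inferInstanceAs (IsLocalHom (f.stalkMap x).hom)
  haveI hqc : F.IsQuasicoherent := hF.1
  haveI : Module.Finite (X.presheaf.stalk x) (F.presheaf.stalk x) := by
    obtain ⟨U, hU, hxU, -⟩ := AlgebraicGeometry.exists_isAffineOpen_mem_and_subset (x := x) (U := ⊤) trivial
    exact Groth.Agent.LD.QC.finite_stalk_of_finite_sections F hU x hxU
      (Groth.Agent.LD.QC.finite_sections_of_isFiniteType F hF.2 hU)
  set J : Ideal (Y.presheaf.stalk (f x)) :=
    Ideal.map (h.stalkMap (f x)).hom (IsLocalRing.maximalIdeal (S.presheaf.stalk (h (f x)))) with hJ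
  have hJ' : J = (IsLocalRing.maximalIdeal (S.presheaf.stalk (h (f x)))).map
      (algebraMap (S.presheaf.stalk (h (f x))) (Y.presheaf.stalk (f x))) := rfl
  constructor
  · rintro ⟨h1, h2⟩
    haveI : Module.Flat (S.presheaf.stalk (h (f x))) (F.presheaf.stalk x) := h1
    haveI : Module.Flat (Y.presheaf.stalk (f x) ⧸ J)
        ((Y.presheaf.stalk (f x) ⧸ J) ⊗[Y.presheaf.stalk (f x)] (F.presheaf.stalk x)) :=
      Module.Flat.of_linearEquiv (Groth.Agent.H1.FlatTransfer.quotTensorEquiv J _)
    obtain ⟨hRS, hSM⟩ := Groth.Agent.H1.flat_and_flat_of_flat_fibre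
      (R := S.presheaf.stalk (h (f x))) (S := Y.presheaf.stalk (f x))
      (S' := X.presheaf.stalk x) (M := F.presheaf.stalk x)
    exact ⟨hRS, hSM⟩
  · rintro ⟨h1, h2⟩
    refine ⟨Groth.Agent.LD.QC.isFlatOverAt_comp f h F x h1 h2, ?_⟩
    haveI : Module.Flat (Y.presheaf.stalk (f x)) (F.presheaf.stalk x) := h2
    exact Module.Flat.of_linearEquiv (Groth.Agent.H1.FlatTransfer.quotTensorEquiv J _).symm

end Groth.Agent.S4847
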