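import Groth.Statements.S4848
import Groth.Agent.Lib.Helper1.LimFlat6
import Groth.Agent.Lib.Helper1.LimColim

set_option autoImplicit false
universe u
open TensorProduct
open EGA43

namespace Groth.Agent.S4848

/-- Let A₀ be a commutative ring, (A_i) a directed system of A₀-algebras with colimit A, B₀ a finitely
presented A₀-algebra and M₀ a finitely presented B₀-module. Then the A-module A ⊗_{A₀} M₀ is flat if
and only if, for some index i, the A_i-module A_i ⊗_{A₀} M₀ is flat. -/
theorem result {A₀ : Type u} [CommRing A₀]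
    {ι : Type u} [Preorder ι] (G : ι → Type u) [∀ i, CommRing (G i)] [∀ i, Algebra A₀ (G i)]
    (g : ∀ i j, i ≤ j → G i →ₐ[A₀] G j)
    (A : Type u) [CommRing A] [Algebra A₀ A] [∀ i, Algebra (G i) A] [∀ i, IsScalarTower A₀ (G i) A]
    (hcolim : FlatCA.IsDirectedColimitRing G (fun i j h => (g i j h).toRingHom) A)
    {B₀ : Type u} [CommRing B₀] [Algebra A₀ B₀] [Algebra.FinitePresentation A₀ B₀]
    (M₀ : Type u) [AddCommGroup M₀] [Module B₀ M₀] [Module A₀ M₀] [IsScalarTower A₀ B₀ M₀]
    [Module.FinitePresentation B₀ M₀] :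
    Module.Flat A (A ⊗[A₀] M₀) ↔ ∃ i : ι, Module.Flat (G i) (G i ⊗[A₀] M₀) := by
  classical
  constructor
  · intro hflat
    obtain ⟨n, r, t, k₀, ⟨e⟩⟩ := Groth.Agent.H1.LimFlat.exists_model_of_fp (R := A₀) (S := B₀)
      (M := M₀)
    haveI : Module.Flat A (Groth.Agent.H1.PolyModel.Mod r t
        (Groth.Agent.H1.PolyModel.kmap A r t k₀)) :=
      (Groth.Agent.H1.LimFlat.flat_tensor_iff_flat_model r t A k₀ e).mp hflat
    obtain ⟨S₂, hS₂, k₂, hk₂, hflat₂⟩ := Groth.Agent.H1.LimFlat.exists_fg_flat_model r t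
      (Groth.Agent.H1.PolyModel.kmap A r t k₀)
    haveI : Algebra.FiniteType ℤ S₂ := (Subalgebra.fg_iff_finiteType S₂).mp hS₂
    haveI : Algebra.FinitePresentation ℤ S₂ := Algebra.FinitePresentation.of_finiteType.mp
      inferInstance
    obtain ⟨i, ψ, hψ⟩ := Groth.Agent.H1.LimColim.exists_lift_of_finitePresentation hcolim S₂
      (algebraMap S₂ A)
    -- the two families over `G i`
    let d : Fin t × Fin r → MvPolynomial (Fin n) (G i) := fun x =>
      MvPolynomial.map ψ (k₂ x.1 x.2) - MvPolynomial.map (algebraMap A₀ (G i)) (k₀ x.1 x.2)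
    have hd : ∀ x, MvPolynomial.map (algebraMap (G i) A) (d x) = 0 := by
      intro x
      simp only [d, map_sub, MvPolynomial.map_map, hψ, ← IsScalarTower.algebraMap_eq]
      rw [sub_eq_zero]
      exact congrFun (congrFun hk₂ x.1) x.2
    obtain ⟨j, hij, hj⟩ := Groth.Agent.H1.LimColim.exists_map_eq_zero_family hcolim i d hd
    refine ⟨j, ?_⟩
    rw [Groth.Agent.H1.LimFlat.flat_tensor_iff_flat_model r t (G j) k₀ e]
    refine Groth.Agent.H1.LimFlat.flat_model_of_ringHom r t ((g i j hij).toRingHom.comp ψ) k₂ _ ?_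
    intro u a
    have h1 := hj (u, a)
    simp only [d, map_sub, MvPolynomial.map_map, sub_eq_zero] at h1
    rw [h1]
    change _ = MvPolynomial.map (algebraMap A₀ (G j)) (k₀ u a)
    congr 2
    exact (g i j hij).comp_algebraMap
  · rintro ⟨i, hi⟩
    exact Module.Flat.of_linearEquiv
      (TensorProduct.AlgebraTensorModule.cancelBaseChange A₀ (G i) A A M₀).symm

end Groth.Agent.S4848
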