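import Groth.Statements.S4853
import Groth.Agent.Lib.Helper1.UnivFlat

set_option autoImplicit false
universe u
open TensorProduct
open EGA43

namespace Groth.Agent.S4853

/-- Let A be a commutative ring and M an A-module such that (A/J) ⊗_A M is free over A/J for some
nilpotent ideal J of A. Then among the ideals R of A such that (A/R) ⊗_A M is free over A/R there is
a least one, R₀, which is also the least ideal R such that (A/R) ⊗_A M is flat over A/R; and for
every commutative A-algebra A', the module A' ⊗_A M is free over A' if and only if it is flat over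
A', if and only if R₀ generates the zero ideal of A'. -/
theorem result {A : Type u} [CommRing A]
    (M : Type u) [AddCommGroup M] [Module A M]
    (J : Ideal A) (hJ : IsNilpotent J) (hfree : Module.Free (A ⧸ J) ((A ⧸ J) ⊗[A] M)) :
    ∃ R₀ : Ideal A,
      IsLeast {R : Ideal A | Module.Free (A ⧸ R) ((A ⧸ R) ⊗[A] M)} R₀ ∧
      IsLeast {R : Ideal A | Module.Flat (A ⧸ R) ((A ⧸ R) ⊗[A] M)} R₀ ∧
      ∀ (A' : Type u) [CommRing A'] [Algebra A A'],
        (Module.Free A' (A' ⊗[A] M) ↔ Ideal.map (algebraMap A A') R₀ = ⊥) ∧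
        (Module.Flat A' (A' ⊗[A] M) ↔ Ideal.map (algebraMap A A') R₀ = ⊥) := by
  obtain ⟨R₀, hR⟩ := Groth.Agent.H1.UnivFlat.exists_univ_flat.{u,u,u} M J hJ hfree
  have hself : Ideal.map (algebraMap A (A ⧸ R₀)) R₀ = ⊥ := by
    rw [Ideal.Quotient.algebraMap_eq, Ideal.map_quotient_self]
  have hle : ∀ R : Ideal A, Ideal.map (algebraMap A (A ⧸ R)) R₀ = ⊥ → R₀ ≤ R := by
    intro R h
    rw [Ideal.Quotient.algebraMap_eq, Ideal.map_eq_bot_iff_le_ker, Ideal.mk_ker] at h
    exact h
  have hfreeself := (hR (A ⧸ R₀)).1 hself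
  refine ⟨R₀, ⟨hfreeself, ?_⟩, ⟨?_, ?_⟩, fun A' _ _ => ⟨⟨?_, (hR A').1⟩, ⟨(hR A').2, ?_⟩⟩⟩
  · intro R hRfree
    have : Module.Free (A ⧸ R) ((A ⧸ R) ⊗[A] M) := hRfree
    exact hle R ((hR (A ⧸ R)).2 inferInstance)
  · show Module.Flat (A ⧸ R₀) ((A ⧸ R₀) ⊗[A] M)
    infer_instance
  · intro R hRflat
    exact hle R ((hR (A ⧸ R)).2 hRflat)
  · intro h
    exact (hR A').2 inferInstance
  · intro h
    have := (hR A').1 h
    infer_instance

end Groth.Agent.S4853
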