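import Groth.Statements.S4856
import Groth.Agent.Lib.Helper3.ArtFlat.Fam

set_option autoImplicit false
universe u
open CategoryTheory AlgebraicGeometry
open EGA43

namespace Groth.Agent.S4856

open CategoryTheory.Limits in
/-- Let A be an Artinian local ring, f : X ⟶ Spec A locally of finite type, F a coherent O_X-module and
x a point of X. Let (u_i : A → A_i) be a family of ring homomorphisms into local rings such that an
element of A killed by every u_i is zero. If, for every i, the pullback of F to X_i = X ×_{Spec A}
Spec A_i is flat over Spec A_i at every point of X_i whose images are x in X and the closed point in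
Spec A_i, then F is f-flat at x. -/
theorem result {A : Type u} [CommRing A]
    [IsArtinianRing A] [IsLocalRing A] {X : Scheme.{u}} (f : X ⟶ Spec (CommRingCat.of A))
    [LocallyOfFiniteType f] (F : X.Modules) (hF : Coh.IsCoh F) (x : X)
    {ι : Type u} (A' : ι → Type u) [∀ i, CommRing (A' i)] [∀ i, IsLocalRing (A' i)] (u : ∀ i, A →+* A' i)
    (hu : ∀ a : A, (∀ i, u i a = 0) → a = 0)
    (hflat : ∀ (i : ι) (x' : ↥(pullback f (Spec.map (CommRingCat.ofHom (u i))))),
      pullback.fst f (Spec.map (CommRingCat.ofHom (u i))) x' = x →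
      pullback.snd f (Spec.map (CommRingCat.ofHom (u i))) x' = IsLocalRing.closedPoint (A' i) →
      FlatMod.IsFlatOverAt (pullback.snd f (Spec.map (CommRingCat.ofHom (u i))))
        ((Scheme.Modules.pullback (pullback.fst f (Spec.map (CommRingCat.ofHom (u i))))).obj F) x') :
    FlatMod.IsFlatOverAt f F x := by
  classical
  haveI : IsLocallyNoetherian X := LocallyOfFiniteType.isLocallyNoetherian f
  -- the rings of global sections
  let eA : A ≃+* Γ(Spec (CommRingCat.of A), ⊤) :=
    (Scheme.ΓSpecIso (CommRingCat.of A)).symm.commRingCatIsoToRingEquiv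
  haveI : IsLocalRing Γ(Spec (CommRingCat.of A), ⊤) := eA.isLocalRing
  haveI : IsArtinianRing Γ(Spec (CommRingCat.of A), ⊤) := eA.isArtinianRing
  have hnil : IsNilpotent (IsLocalRing.maximalIdeal Γ(Spec (CommRingCat.of A), ⊤)) := by
    rw [← IsLocalRing.jacobson_eq_maximalIdeal (⊥ : Ideal Γ(Spec (CommRingCat.of A), ⊤)) bot_ne_top]
    exact IsArtinianRing.isNilpotent_jacobson_bot
  haveI : ∀ i, IsLocalRing Γ(Spec (CommRingCat.of (A' i)), ⊤) := fun i =>
    ((Scheme.ΓSpecIso (CommRingCat.of (A' i))).symm.commRingCatIsoToRingEquiv).isLocalRing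
  refine Groth.Agent.H3.ArtFlat.isFlatOverAt_of_family f hnil F hF x
    (fun i => Spec (CommRingCat.of (A' i))) (fun i => Spec.map (CommRingCat.ofHom (u i))) ?_ ?_
  · intro a ha
    have h0 : (Scheme.ΓSpecIso (CommRingCat.of A)).hom a = 0 := by
      apply hu
      intro i
      have hnat := Scheme.ΓSpecIso_naturality (CommRingCat.ofHom (u i))
      have h1 := congr($hnat a)
      change (Scheme.ΓSpecIso (CommRingCat.of (A' i))).hom
        ((Spec.map (CommRingCat.ofHom (u i))).appTop a) =
          u i ((Scheme.ΓSpecIso (CommRingCat.of A)).hom a) at h1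
      rw [ha i, map_zero] at h1
      exact h1.symm
    have h2 := congrArg (Scheme.ΓSpecIso (CommRingCat.of A)).inv h0
    simpa using h2
  · intro i x' hx1 hx2
    apply hflat i x' hx1
    have hmax : (pullback.snd f (Spec.map (CommRingCat.ofHom (u i))) x' :
        PrimeSpectrum (A' i)).asIdeal.IsMaximal :=
      (PrimeSpectrum.isClosed_singleton_iff_isMaximal _).mp hx2
    apply PrimeSpectrum.ext
    exact IsLocalRing.eq_maximalIdeal hmax

end Groth.Agent.S4856
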