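import Groth.Statements.S4865
import Groth.Agent.Lib.Helper1.LimFlat4

set_option autoImplicit false
universe u
open EGA43

namespace Groth.Agent.S4865

/-- Let A be a commutative ring, B a finitely presented A-algebra, C a finitely presented B-algebra and
M a finitely presented C-module. Then the set of prime ideals q of B such that the localized module
M_q (M regarded as a B-module) is flat over A is open in Spec B. -/
theorem result {A B C : Type u} [CommRing A] [CommRing B] [CommRing C]
    [Algebra A B] [Algebra B C] [Algebra A C] [IsScalarTower A B C]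
    [Algebra.FinitePresentation A B] [Algebra.FinitePresentation B C]
    (M : Type u) [AddCommGroup M] [Module C M] [Module B M] [Module A M]
    [IsScalarTower B C M] [IsScalarTower A C M] [IsScalarTower A B M] [Module.FinitePresentation C M] :
    IsOpen {q : PrimeSpectrum B | Module.Flat A (LocalizedModule q.asIdeal.primeCompl M)} := by
  classical
  haveI : Algebra.FinitePresentation A C := Algebra.FinitePresentation.trans A B C
  have hopen := Groth.Agent.H1.LimFlat.isOpen_flatLocus_of_finitePresentation (R := A) (S := C)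
    (M := M)
  obtain ⟨U, hU⟩ : ∃ U : Set (PrimeSpectrum C),
      U = {P | Module.Flat A (LocalizedModule P.asIdeal.primeCompl M)} := ⟨_, rfl⟩
  rw [← hU] at hopen
  let I := PrimeSpectrum.vanishingIdeal Uᶜ
  have hZ : PrimeSpectrum.zeroLocus (I : Set C) = Uᶜ := by
    rw [PrimeSpectrum.zeroLocus_vanishingIdeal_eq_closure, hopen.isClosed_compl.closure_eq]
  let J : Ideal B := I.comap (algebraMap B C)
  suffices h : {q : PrimeSpectrum B |
      Module.Flat A (LocalizedModule q.asIdeal.primeCompl M)}ᶜ =
        PrimeSpectrum.zeroLocus (J : Set B) by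
    rw [← isClosed_compl_iff, h]
    exact PrimeSpectrum.isClosed_zeroLocus _
  ext q
  rw [Set.mem_compl_iff, Set.mem_setOf_eq, PrimeSpectrum.mem_zeroLocus, SetLike.coe_subset_coe]
  constructor
  · intro hq
    by_contra hJq
    apply hq
    refine Groth.Agent.H1.FlatLocus.flat_of_forall_exists_smul (R := A) (B := B)
      q.asIdeal.primeCompl (LocalizedModule.mkLinearMap q.asIdeal.primeCompl M) fun I₀ x hx => ?_
    by_contra hno
    push_neg at hno
    let Ann : Ideal C := LinearMap.ker (LinearMap.toSpanSingleton C (TensorProduct A M I₀) x)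
    have hAnn : ∀ c : C, c ∈ Ann ↔ c • x = 0 := fun c => by
      rw [LinearMap.mem_ker, LinearMap.toSpanSingleton_apply]
    let T : Submonoid C := Algebra.algebraMapSubmonoid C q.asIdeal.primeCompl
    have hdisj : Disjoint (Ann : Set C) T := by
      rw [Set.disjoint_left]
      rintro _ hc ⟨b, hb, rfl⟩
      apply hno b hb
      rw [← algebraMap_smul C b x]
      exact (hAnn _).mp hc
    obtain ⟨P', hP', hAnnP', hP'T⟩ := Ideal.exists_le_prime_disjoint Ann T hdisj
    have hcomap : P'.comap (algebraMap B C) ≤ q.asIdeal := by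
      intro b hb
      by_contra hbq
      exact Set.disjoint_left.mp hP'T hb ⟨b, hbq, rfl⟩
    have hP'U : (⟨P', hP'⟩ : PrimeSpectrum C) ∈ U := by
      by_contra hnot
      have : (⟨P', hP'⟩ : PrimeSpectrum C) ∈ PrimeSpectrum.zeroLocus (I : Set C) := by
        rw [hZ]; exact hnot
      rw [PrimeSpectrum.mem_zeroLocus, SetLike.coe_subset_coe] at this
      exact hJq ((Ideal.comap_mono this).trans hcomap)
    rw [hU] at hP'U
    haveI : Module.Flat A (LocalizedModule P'.primeCompl M) := hP'U
    obtain ⟨s, hs, hsx⟩ := Groth.Agent.H1.FlatLocus.exists_smul_eq_zero_of_flat (R := A) (B := C)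
      P'.primeCompl (LocalizedModule.mkLinearMap P'.primeCompl M) I₀ x hx
    exact hs (hAnnP' ((hAnn s).mpr hsx))
  · intro hJq hflat
    obtain ⟨q₀, hq₀, hq₀q⟩ := Ideal.exists_minimalPrimes_le hJq
    obtain ⟨P, hP, hIP, hPq₀⟩ := Ideal.exists_comap_eq_of_mem_minimalPrimes (algebraMap B C) q₀ hq₀
    have hPU : (⟨P, hP⟩ : PrimeSpectrum C) ∈ Uᶜ := by
      rw [← hZ, PrimeSpectrum.mem_zeroLocus, SetLike.coe_subset_coe]
      exact hIP
    apply hPU
    rw [hU]
    change Module.Flat A (LocalizedModule P.primeCompl M)
    refine Groth.Agent.H1.FlatLocus.flat_of_forall_exists_smul (R := A) (B := C)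
      P.primeCompl (LocalizedModule.mkLinearMap P.primeCompl M) fun I₀ x hx => ?_
    obtain ⟨b, hb, hbx⟩ := Groth.Agent.H1.FlatLocus.exists_smul_eq_zero_of_flat (R := A) (B := B)
      q.asIdeal.primeCompl (LocalizedModule.mkLinearMap q.asIdeal.primeCompl M) I₀ x hx
    refine ⟨algebraMap B C b, ?_, by rw [algebraMap_smul]; exact hbx⟩
    intro hbP
    apply hb
    apply hq₀q
    rw [← hPq₀]
    exact hbP

end Groth.Agent.S4865
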