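import Groth.Statements.S4866
import Groth.Agent.Lib.Helper1.SchRegFib
import Groth.Agent.Lib.Lead.QC.FinType

set_option autoImplicit false
universe u
open EGA43

namespace Groth.Agent.S4866


open AlgebraicGeometry CategoryTheory Limits in
/-- Let Y be a locally Noetherian scheme, f : X ⟶ Y locally of finite type, F a coherent f-flat
O_X-module and g₁, …, gₙ sections of O_X over X. Then the set of points x of X, with y = f x, such
that the germs (gᵢ)_x form a weakly regular sequence on the fibre module F_x / m_y F_x (each gᵢ is a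
non-zero-divisor on the quotient by the preceding ones; the quotient by all of them may be zero) is
open in X. -/
theorem result {X Y : Scheme.{u}} [IsLocallyNoetherian Y] (f : X ⟶ Y)
    [LocallyOfFiniteType f] (F : X.Modules) (hF : Coh.IsCoh F) (hflat : FlatMod.IsFlatOver f F)
    (n : ℕ) (g : Fin n → Γ(X, ⊤)) :
    IsOpen {x : X |
      RingTheory.Sequence.IsWeaklyRegular
        (↑(F.presheaf.stalk x) ⧸ (Ideal.map (f.stalkMap x).hom (IsLocalRing.maximalIdeal ↑(Y.presheaf.stalk (f x))) •
          (⊤ : Submodule ↑(X.presheaf.stalk x) ↑(F.presheaf.stalk x))))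
        (List.ofFn fun i => (X.presheaf.germ ⊤ x trivial) (g i))} := by
  haveI hqc : F.IsQuasicoherent := hF.1
  haveI : IsLocallyNoetherian X := LocallyOfFiniteType.isLocallyNoetherian f
  refine Groth.Agent.H1.SchFlat.isOpen_setOf_isWeaklyRegular_fibre f F ?_ ?_ hflat n g
  · intro U V hU hV hUV
    haveI : IsNoetherianRing Γ(Y, V) := IsLocallyNoetherian.component_noetherian ⟨V, hV⟩
    exact RingHom.FinitePresentation.of_finiteType.mp (f.finiteType_appLE hV hU hUV)
  · intro U hU
    haveI : IsNoetherianRing Γ(X, U) := IsLocallyNoetherian.component_noetherian ⟨U, hU⟩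
    haveI : Module.Finite Γ(X, U) Γ(F, U) :=
      Groth.Agent.LD.QC.finite_sections_of_isFiniteType F hF.2 hU
    exact Module.finitePresentation_of_finite Γ(X, U) Γ(F, U)

end Groth.Agent.S4866
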