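import Groth.Statements.S4874
-- import your own Groth.Agent.* helpers here

set_option autoImplicit false
universe u
open CategoryTheory AlgebraicGeometry
open EGA43

namespace Groth.Agent.S4874


/-- A flat surjective morphism is injective on sections. -/
theorem app_injective_of_flat_of_surjective {X' X : Scheme.{u}} (g : X' ⟶ X) [Flat g] [Surjective g]
    (V : X.Opens) : Function.Injective (g.app V).hom := by
  rw [injective_iff_map_eq_zero]
  intro t ht
  refine TopCat.Presheaf.section_ext X.sheaf V t 0 ?_
  intro x hx
  obtain ⟨x', rfl⟩ := g.surjective x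
  have hinj : Function.Injective (g.stalkMap x').hom := by
    algebraize [(g.stalkMap x').hom]
    have : Module.FaithfullyFlat (X.presheaf.stalk (g x')) (X'.presheaf.stalk x') :=
      @Module.FaithfullyFlat.of_flat_of_isLocalHom _ _ _ _ _ _ _
        (Flat.stalkMap g x') (g.toLRSHom.prop x')
    exact ‹RingHom.FaithfullyFlat _›.injective
  have h0 : X.presheaf.germ V (g x') hx t = 0 := by
    apply hinj
    rw [map_zero]
    have h1 := Scheme.Hom.germ_stalkMap_apply g V x' hx t
    refine h1.trans ?_
    have h2 : (g.app V) t = 0 := ht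
    rw [h2, map_zero]
  rw [map_zero]
  exact h0

/-- Let (f_i : Z_i ⟶ X) be a family of morphisms, g : X' ⟶ X a faithfully flat morphism and f'_i : Z_i
×_X X' ⟶ X' the base changes. If the family (f'_i) is schematically dominant, then so is the family
(f_i). (Schematically dominant: a section of the structure sheaf over an open whose pullback along
every member of the family vanishes is zero.) -/
theorem result {X X' : Scheme.{u}} {ι : Type u} (Z : ι → Scheme.{u})
    (f : ∀ i, Z i ⟶ X) (g : X' ⟶ X) [Flat g] [Surjective g]
    (h : (∀ (V : (X').Opens) (t : Γ(X', V)), (∀ i, (Limits.pullback.snd (f i) g).app V t = 0) → t = 0)) :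
    (∀ (V : (X).Opens) (t : Γ(X, V)), (∀ i, (f i).app V t = 0) → t = 0) := by
  intro V t ht
  apply app_injective_of_flat_of_surjective g V
  rw [map_zero]
  apply h (g ⁻¹ᵁ V) ((g.app V).hom t)
  intro i
  have hc := Scheme.Hom.congr_app (Limits.pullback.condition (f := f i) (g := g)) V
  have h2 := ConcreteCategory.congr_hom hc t
  have h3 : ((Limits.pullback.fst (f i) g ≫ f i).app V) t = 0 := by
    show (Limits.pullback.fst (f i) g).app _ ((f i).app V t) = 0
    rw [ht i, map_zero]
  rw [h3, CategoryTheory.comp_apply] at h2
  have hinj : Function.Injective ((Limits.pullback (f i) g).presheaf.map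
      (eqToHom (by rw [Limits.pullback.condition] :
        (Limits.pullback.fst (f i) g ≫ f i) ⁻¹ᵁ V = (Limits.pullback.snd (f i) g ≫ g) ⁻¹ᵁ V)).op).hom := by
    have : IsIso ((Limits.pullback (f i) g).presheaf.map
      (eqToHom (by rw [Limits.pullback.condition] :
        (Limits.pullback.fst (f i) g ≫ f i) ⁻¹ᵁ V = (Limits.pullback.snd (f i) g ≫ g) ⁻¹ᵁ V)).op) := inferInstance
    exact ((ConcreteCategory.isIso_iff_bijective _).mp this).1
  have h4 : ((Limits.pullback.snd (f i) g ≫ g).app V) t = 0 :=
    hinj (h2.symm.trans (map_zero _).symm)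
  exact h4

end Groth.Agent.S4874
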