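import Groth.Statements.S4878
import Mathlib.LinearAlgebra.DirectSum.Finsupp
-- import your own Groth.Agent.* helpers here

set_option autoImplicit false
universe u
open TensorProduct
open EGA43

namespace Groth.Agent.S4878


theorem fsr_natural {A : Type u} [CommRing A] {M M' : Type u} [AddCommGroup M] [Module A M]
    [AddCommGroup M'] [Module A M'] (v : M →ₗ[A] M') (κ : Type u) [DecidableEq κ]
    (x : M ⊗[A] (κ →₀ A)) (n : κ) :
    v (TensorProduct.finsuppScalarRight A A M κ x n) =
      TensorProduct.finsuppScalarRight A A M' κ (v.rTensor (κ →₀ A) x) n := by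
  induction x using TensorProduct.induction_on with
  | zero => simp
  | tmul m p => simp
  | add a b ha hb => simp [ha, hb]

/-- Let A be a commutative ring, (u_i : M → M_i) a family of A-linear maps whose kernels have zero
intersection, and N a projective A-module. Then the kernels of the maps u_i ⊗ 1 : M ⊗_A N → M_i ⊗_A
N have zero intersection. -/
theorem result {A : Type u} [CommRing A]
    {M : Type u} [AddCommGroup M] [Module A M] {ι : Type u} (M' : ι → Type u)
    [∀ i, AddCommGroup (M' i)] [∀ i, Module A (M' i)] (u : ∀ i, M →ₗ[A] M' i)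
    (hu : ⨅ i, LinearMap.ker (u i) = ⊥)
    (N : Type u) [AddCommGroup N] [Module A N] [Module.Projective A N] :
    ⨅ i, LinearMap.ker ((u i).rTensor N) = ⊥ := by
  classical
  obtain ⟨s, hs⟩ := Module.projective_def'.mp (inferInstance : Module.Projective A N)
  rw [eq_bot_iff]
  intro x hx
  rw [Submodule.mem_iInf] at hx
  rw [Submodule.mem_bot]
  set x' := (s.lTensor M) x with hx'
  have hx'0 : ∀ i, (u i).rTensor (N →₀ A) x' = 0 := by
    intro i
    have h1 : (u i).rTensor N x = 0 := hx i
    have : (u i).rTensor (N →₀ A) (s.lTensor M x) = s.lTensor (M' i) ((u i).rTensor N x) := by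
      rw [← LinearMap.comp_apply, ← LinearMap.comp_apply, LinearMap.rTensor_comp_lTensor,
        LinearMap.lTensor_comp_rTensor]
    rw [hx', this, h1, map_zero]
  have hy : TensorProduct.finsuppScalarRight A A M N x' = 0 := by
    ext n
    have hmem : TensorProduct.finsuppScalarRight A A M N x' n ∈ ⨅ i, LinearMap.ker (u i) := by
      rw [Submodule.mem_iInf]
      intro i
      rw [LinearMap.mem_ker, fsr_natural (u i) N x' n, hx'0 i, map_zero, Finsupp.zero_apply]
    rw [hu] at hmem
    simpa using hmem
  have hx'z : x' = 0 := (TensorProduct.finsuppScalarRight A A M N).injective (hy.trans (map_zero _).symm)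
  have : x = ((Finsupp.linearCombination A id).lTensor M) x' := by
    rw [hx', ← LinearMap.comp_apply, ← LinearMap.lTensor_comp, hs, LinearMap.lTensor_id,
      LinearMap.id_apply]
  rw [this, hx'z, map_zero]

end Groth.Agent.S4878
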