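import Groth.Statements.S4881
import Mathlib
import Groth.Agent.Lib.Helper1.JacDim
import Groth.Agent.Lib.Helper3.TopDim

set_option autoImplicit false
universe u
open CategoryTheory AlgebraicGeometry
open EGA43

namespace Groth.Agent.S4881

/-- Let X be a locally Noetherian scheme which is Jacobson, whose local rings are universally catenary,
and whose irreducible components X' are equidimensional in the sense that for every closed point x
of X' the dimension of X' equals the dimension of the set of generizations of x in X'. Then for
every dense open subset U of X, dim U = dim X. -/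
theorem result (X : Scheme.{u}) [IsLocallyNoetherian X] [JacobsonSpace X]
    (h2 : ∀ x : X, CAlg.IsUniversallyCatenary (X.presheaf.stalk x))
    (h3 : ∀ X' ∈ irreducibleComponents (X : Type u), ∀ x ∈ X', IsClosed ({x} : Set X) →
      topologicalKrullDim (↥X' : Type u) = topologicalKrullDim ↥{t : X | t ∈ X' ∧ t ⤳ x})
    (U : Set X) (hU : IsOpen U) (hd : Dense U) :
    topologicalKrullDim ↥U = topologicalKrullDim X := by
  apply le_antisymm (topologicalKrullDim_subspace_le X U)
  rw [Groth.Agent.H3.TopDim.dim_eq_iSup_irreducibleComponents]
  apply iSup₂_le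
  intro X' hX'
  obtain ⟨o, hone, hoX'⟩ := Groth.Agent.H1.RelDim.exists_open_subset_irreducibleComponent X' hX'
  set W : X.Opens := o ⊓ ⟨U, hU⟩ with hW
  have hWne : (W : Set X).Nonempty := hd.inter_open_nonempty o o.isOpen hone
  have hWX' : (W : Set X) ⊆ X' := fun z hz => hoX' hz.1
  have hWU : (W : Set X) ⊆ U := fun z hz => hz.2
  have hWirr : IsIrreducible (W : Set X) :=
    ⟨hWne, hX'.1.isPreirreducible.open_subset W.isOpen hWX'⟩
  haveI : IrreducibleSpace ↥W := Subtype.irreducibleSpace hWirr
  haveI : IrreducibleSpace (W.toScheme : Type u) := ‹IrreducibleSpace ↥W›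
  set ξ' : X := W.ι (genericPoint (W.toScheme : Type u)) with hξ'
  have hξ'W : ξ' ∈ W := (genericPoint (W.toScheme : Type u)).2
  have hX'cl : IsClosed X' := isClosed_of_mem_irreducibleComponents _ hX'
  have hcl : closure ({ξ'} : Set X) = X' := by
    apply le_antisymm
    · apply closure_minimal _ hX'cl
      rw [Set.singleton_subset_iff]; exact hWX' hξ'W
    · have h1 : (W : Set X) ⊆ closure ({ξ'} : Set X) := by
        intro z hz
        have h2 : genericPoint (W.toScheme : Type u) ⤳ (⟨z, hz⟩ : W.toScheme) :=
          genericPoint_specializes _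
        have h3 := h2.map W.ι.continuous
        exact h3.mem_closure
      have h2 : X' ⊆ closure (W : Set X) := by
        have := subset_closure_inter_of_isPreirreducible_of_isOpen hX'.1.isPreirreducible W.isOpen
          ⟨hWne.some, hWX' hWne.some_mem, hWne.some_mem⟩
        refine this.trans (closure_mono Set.inter_subset_right)
      exact h2.trans (closure_minimal h1 isClosed_closure)
  have htξ : @Algebra.trdeg (X.residueField (W.ι (genericPoint (W.toScheme : Type u))))
      (W.toScheme.residueField (genericPoint (W.toScheme : Type u))) _ _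
      (W.ι.residueFieldMap (genericPoint (W.toScheme : Type u))).hom.toAlgebra =
        ((0 : ℕ) : Cardinal) := by
    letI := (W.ι.residueFieldMap (genericPoint (W.toScheme : Type u))).hom.toAlgebra
    have hb : Function.Bijective
        (W.ι.residueFieldMap (genericPoint (W.toScheme : Type u))).hom :=
      ConcreteCategory.bijective_of_isIso _
    haveI : Algebra.IsIntegral (X.residueField (W.ι (genericPoint (W.toScheme : Type u))))
        (W.toScheme.residueField (genericPoint (W.toScheme : Type u))) :=
      Algebra.isIntegral_of_surjective hb.2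
    rw [trdeg_eq_zero]; simp
  have hK := Groth.Agent.H1.JacDim.dim_add_eq h2 W.ι X' ξ' hcl (hWX' hξ'W) (h3 X' hX') 0 htξ
  have hset : {t : X | ξ' ⤳ t ∧ t ⤳ W.ι (genericPoint (W.toScheme : Type u))} = {ξ'} := by
    ext t
    simp only [Set.mem_ofPred_eq, Set.mem_singleton_iff]
    constructor
    · rintro ⟨h1, h2⟩
      exact (h2.antisymm h1).eq
    · rintro rfl
      exact ⟨specializes_rfl, specializes_rfl⟩
  rw [hset, Groth.Agent.H1.JacDim.topologicalKrullDim_singleton, add_zero, Nat.cast_zero,
    add_zero] at hK
  rw [← hK]
  exact Groth.Agent.H3.TopDim.dim_mono hWU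

end Groth.Agent.S4881
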