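import Groth.Statements.S4891
import Groth.Agent.Lib.Helper1.FlatNilpotent

set_option autoImplicit false
universe u
open TensorProduct
open EGA43

namespace Groth.Agent.S4891

/-- Let A be a commutative ring, J a nilpotent ideal of A, B a commutative A-algebra and M a B-module.
If M is flat over A, M/JM is flat over B/JB, B/JB is flat over A/J and mM ≠ M for every maximal
ideal m of B containing JB, then B is flat over A. (Under the first two hypotheses M is also flat
over B; that implication is stated elsewhere and not repeated here.) -/
theorem result {A B : Type u} [CommRing A] [CommRing B] [Algebra A B]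
    (J : Ideal A) (hJ : IsNilpotent J) (M : Type u) [AddCommGroup M] [Module B M] [Module A M] [IsScalarTower A B M]
    (hc1 : Module.Flat A M)
    (hc2 : Module.Flat (B ⧸ J.map (algebraMap A B)) ((B ⧸ J.map (algebraMap A B)) ⊗[B] M))
    (hd1 : Module.Flat (A ⧸ J) ((A ⧸ J) ⊗[A] B))
    (hd2 : ∀ m : Ideal B, m.IsMaximal → J.map (algebraMap A B) ≤ m → (m • (⊤ : Submodule B M)) ≠ ⊤) :
    Module.Flat A B := by
  have hflatB : Module.Flat B M :=
    Groth.Agent.H1.flat_of_isNilpotent_of_flat_of_flat_quotient (R := A) (S := B) (I := J) hJ
  have hJB : IsNilpotent (J.map (algebraMap A B)) := by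
    obtain ⟨n, hn⟩ := hJ
    exact ⟨n, by rw [← Ideal.map_pow, hn, Ideal.zero_eq_bot, Ideal.map_bot]; rfl⟩
  have hff : Module.FaithfullyFlat B M := by
    refine ⟨fun m hm => hd2 m hm ?_⟩
    obtain ⟨n, hn⟩ := hJB
    refine hm.isPrime.le_of_pow_le (n := n) ?_
    rw [hn]; exact bot_le
  rw [Module.Flat.iff_lTensor_injectiveₛ]
  intro N _ _ N'
  -- M ⊗[B] (B ⊗[A] N') → M ⊗[B] (B ⊗[A] N)
  have h1 : Function.Injective (N'.subtype.lTensor M) :=
    Module.Flat.lTensor_preserves_injective_linearMap _ Subtype.val_injective
  have key : Function.Injective ((N'.subtype.baseChange B).lTensor M) := by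
    have hcomm : ∀ x : M ⊗[B] (B ⊗[A] N'),
        AlgebraTensorModule.cancelBaseChange A B B M N ((N'.subtype.baseChange B).lTensor M x) =
          N'.subtype.lTensor M (AlgebraTensorModule.cancelBaseChange A B B M N' x) := by
      intro x
      induction x using TensorProduct.induction_on with
      | zero => simp only [map_zero]
      | add x y hx hy => simp only [map_add, hx, hy]
      | tmul m z =>
        induction z using TensorProduct.induction_on with
        | zero => simp only [TensorProduct.tmul_zero, map_zero]
        | add x y hx hy => simp only [TensorProduct.tmul_add, map_add, hx, hy]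
        | tmul b n =>
          simp only [LinearMap.lTensor_tmul, LinearMap.baseChange_tmul,
            AlgebraTensorModule.cancelBaseChange_tmul, Submodule.subtype_apply]
    intro x y hxy
    have h2 := congrArg (AlgebraTensorModule.cancelBaseChange A B B M N) hxy
    rw [hcomm, hcomm] at h2
    exact (AlgebraTensorModule.cancelBaseChange A B B M N').injective (h1 h2)
  have := (Module.FaithfullyFlat.lTensor_injective_iff_injective B M _).mp key
  rwa [LinearMap.baseChange_eq_ltensor] at this

end Groth.Agent.S4891
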