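import Groth.Statements.S4914
-- import your own Groth.Agent.* helpers here

set_option autoImplicit false
open CategoryTheory AlgebraicGeometry
universe u v w
open EGA43

namespace Groth.Agent.S4914

/-- Let ψ : X → Y be a continuous map, x a point of X, and (Y_i) a locally finite covering of Y by
closed subsets. If for every index i with ψ x ∈ Y_i the restriction ψ⁻¹(Y_i) → Y_i of ψ is open at
x, then ψ is open at x. -/
theorem result {α : Type u} {β : Type v} {ι : Type w} [TopologicalSpace α]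
    [TopologicalSpace β] (ψ : α → β) (hψ : Continuous ψ) (x : α) (Y : ι → Set β) (hY : LocallyFinite Y)
    (hcl : ∀ i, IsClosed (Y i)) (hcov : ⋃ i, Y i = Set.univ)
    (h : ∀ i, ∀ hi : ψ x ∈ Y i, EGA43.IsOpenAt ((Y i).restrictPreimage ψ) ⟨x, hi⟩) :
    EGA43.IsOpenAt ψ x := by
  classical
  intro U hU
  obtain ⟨W, hW, hfin⟩ := hY (ψ x)
  have hN : ∀ i, ψ x ∈ Y i → ∃ N ∈ nhds (ψ x), N ∩ Y i ⊆ ψ '' U := by
    intro i hi
    have h1 := h i hi (Subtype.val ⁻¹' U)
      (continuous_subtype_val.continuousAt.preimage_mem_nhds hU)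
    rw [Set.image_restrictPreimage, mem_nhds_subtype] at h1
    obtain ⟨N, hN, hNs⟩ := h1
    exact ⟨N, hN, fun z hz => @hNs ⟨z, hz.2⟩ hz.1⟩
  choose! N hN1 hN2 using hN
  let G : ι → Set β := fun i => if ψ x ∈ Y i then N i else (Y i)ᶜ
  have hG : ∀ i, G i ∈ nhds (ψ x) := by
    intro i
    by_cases hi : ψ x ∈ Y i
    · simp only [G, if_pos hi]; exact hN1 i hi
    · simp only [G, if_neg hi]; exact (hcl i).isOpen_compl.mem_nhds hi
  have hM : W ∩ ⋂ i ∈ {i | (Y i ∩ W).Nonempty}, G i ∈ nhds (ψ x) :=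
    Filter.inter_mem hW ((Filter.biInter_mem hfin).mpr fun i _ => hG i)
  refine Filter.mem_of_superset hM ?_
  rintro z ⟨hzW, hzG⟩
  obtain ⟨i, hzi⟩ : ∃ i, z ∈ Y i := by
    have : z ∈ ⋃ i, Y i := by rw [hcov]; trivial
    exact Set.mem_iUnion.mp this
  have hiF : i ∈ {i | (Y i ∩ W).Nonempty} := ⟨z, hzi, hzW⟩
  have hzGi : z ∈ G i := Set.mem_iInter₂.mp hzG i hiF
  by_cases hi : ψ x ∈ Y i
  · simp only [G, if_pos hi] at hzGi; exact hN2 i hi ⟨hzGi, hzi⟩
  · simp only [G, if_neg hi] at hzGi; exact absurd hzi hzGi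

end Groth.Agent.S4914
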