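import Groth.Statements.S4926
import Groth.Agent.Lib.Helper3.UnivOpenAt
-- import your own Groth.Agent.* helpers here

set_option autoImplicit false
open CategoryTheory AlgebraicGeometry
universe u v w
open EGA43

namespace Groth.Agent.S4926

/-- Let f : X ⟶ Y and g : Y ⟶ Z be morphisms of schemes and x a point of X. If f ≫ g is universally open
at x, then g is universally open at the point f x. -/
theorem result {X Y Z : Scheme.{u}} (f : X ⟶ Y) (g : Y ⟶ Z) (x : X)
    (h : EGA43.IsUnivOpenAt (f ≫ g) x) : EGA43.IsUnivOpenAt g (f.base x) := by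
  intro Z' h' y' hy'
  let k : Limits.pullback (f ≫ g) h' ⟶ Limits.pullback g h' :=
    Limits.pullback.lift (Limits.pullback.fst (f ≫ g) h' ≫ f) (Limits.pullback.snd (f ≫ g) h')
      (by rw [Category.assoc]; exact Limits.pullback.condition)
  have hk1 : k ≫ Limits.pullback.fst g h' = Limits.pullback.fst (f ≫ g) h' ≫ f :=
    Limits.pullback.lift_fst _ _ _
  have hk2 : k ≫ Limits.pullback.snd g h' = Limits.pullback.snd (f ≫ g) h' :=
    Limits.pullback.lift_snd _ _ _
  have sqbig : IsPullback (k ≫ Limits.pullback.snd g h') (Limits.pullback.fst (f ≫ g) h') h' (f ≫ g) := by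
    rw [hk2]; exact (IsPullback.of_hasPullback (f ≫ g) h').flip
  have sq : IsPullback (Limits.pullback.fst (f ≫ g) h') k f (Limits.pullback.fst g h') :=
    (IsPullback.of_right sqbig hk1 (IsPullback.of_hasPullback g h').flip).flip
  have hcomp : (⇑(Limits.pullback.snd g h').base ∘ ⇑k.base) = ⇑(Limits.pullback.snd (f ≫ g) h').base := by
    funext w
    have e1 : (Limits.pullback.snd g h') (k w) = (k ≫ Limits.pullback.snd g h') w :=
      (Scheme.Hom.comp_apply _ _ _).symm
    show (Limits.pullback.snd g h') (k w) = _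
    rw [e1, hk2]
  obtain ⟨x', hx'1, hx'2⟩ := Groth.Agent.H3.exists_preimage_of_isPullback sq x y' hy'.symm
  have h1 : EGA43.IsOpenAt (Limits.pullback.snd (f ≫ g) h').base x' := h Z' h' x' hx'1
  rw [← hcomp] at h1
  have := Groth.Agent.H3.isOpenAt_of_comp _ _ k.continuous x' h1
  rwa [hx'2] at this

end Groth.Agent.S4926
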