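import Groth.Statements.S4940
import Groth.Agent.Lib.Helper2.BrSepF

set_option autoImplicit false
open CategoryTheory AlgebraicGeometry
universe u v w
open EGA43

namespace Groth.Agent.S4940

open CategoryTheory.Limits in
/-- Let Y be a Noetherian scheme, f : X ⟶ Y a morphism locally of finite type, y a point of Y and x a
maximal point of the fibre X_y. Then f is universally open at x if and only if, for every finite
morphism g : Y' ⟶ Y, the base change X ×_Y Y' ⟶ Y' is open at every point of X ×_Y Y' lying over x. -/
theorem result {X Y : Scheme.{u}} [IsNoetherian Y] (f : X ⟶ Y)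
    [LocallyOfFiniteType f] (x : X) (hmax : ∀ x' : X, f.base x' = f.base x → x ∈ closure {x'} → x' = x) :
    EGA43.IsUnivOpenAt f x ↔
      ∀ (Y' : Scheme.{u}) (g : Y' ⟶ Y) [IsFinite g], ∀ x' : ↥(pullback f g), (pullback.fst f g).base x' = x →
        EGA43.IsOpenAt (pullback.snd f g).base x' := by
  constructor
  · intro h Y' g _ x' hx'
    exact h Y' g x' hx'
  · intro h
    refine Groth.Agent.H2.BrSep.isUnivOpenAt_of_finite_baseChange f x {x} ?_ ?_
    · intro Y' g _ x' hx'
      exact h Y' g x' hx'
    · intro P V₁ hP g₁ v' _ _ _ hcomm t ht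
      refine ⟨t, rfl, specializes_rfl, ?_, le_rfl, ht⟩
      intro z' hz' hsp
      have h1 : f.base (hP z') = f.base x := by
        have e1 : f.base (hP z') = v' (g₁ z') := by
          rw [← Scheme.Hom.comp_apply, ← Scheme.Hom.comp_apply, hcomm]
        have e2 : f.base (hP t) = v' (g₁ t) := by
          rw [← Scheme.Hom.comp_apply, ← Scheme.Hom.comp_apply, hcomm]
        rw [e1, hz', ← e2, ht]
      have h2 : hP z' ⤳ x := by
        rw [← ht]
        exact hsp.map hP.continuous
      have h3 : hP z' = x := hmax _ h1 (specializes_iff_mem_closure.mp h2)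
      exact Groth.Agent.H2.BrSep.eq_of_specializes_of_locallyQuasiFinite hP hsp (h3.trans ht.symm)

end Groth.Agent.S4940
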