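import Groth.Statements.S4951
-- import your own Groth.Agent.* helpers here

set_option autoImplicit false
universe u
open EGA43

namespace Groth.Agent.S4951


/-- In a quasi-sober space, a point in the closure of an open Noetherian subspace `W` is a
specialization of some point of `W`. -/
theorem exists_generization_mem_of_mem_closure {X : Type u} [TopologicalSpace X] [QuasiSober X]
    (W : Set X) (hW : IsOpen W) [TopologicalSpace.NoetherianSpace ↥W] (x : X) (hx : x ∈ closure W) :
    ∃ ξ ∈ W, ξ ⤳ x := by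
  have hfin : (irreducibleComponents ↥W).Finite :=
    TopologicalSpace.NoetherianSpace.finite_irreducibleComponents
  have hcov : W = ⋃ C ∈ irreducibleComponents ↥W, Subtype.val '' C := by
    rw [← Set.image_iUnion₂, ← Set.sUnion_eq_biUnion, sUnion_irreducibleComponents, Set.image_univ,
      Subtype.range_coe]
  rw [hcov, hfin.closure_biUnion] at hx
  obtain ⟨C, hC, hxC⟩ := Set.mem_iUnion₂.mp hx
  have hCirr : IsIrreducible C := hC.1
  have hirr : IsIrreducible (Subtype.val '' C : Set X) :=
    hCirr.image _ continuous_subtype_val.continuousOn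
  obtain ⟨ξ, hξ⟩ := QuasiSober.sober hirr.closure isClosed_closure
  refine ⟨ξ, ?_, ?_⟩
  · rw [hξ.mem_open_set_iff hW]
    obtain ⟨c, hc⟩ := hCirr.nonempty
    exact ⟨c.1, subset_closure ⟨c, hc, rfl⟩, c.2⟩
  · rw [specializes_iff_mem_closure, hξ.def]
    exact hxC

/-- Let X be a locally Noetherian topological space in which every irreducible closed subset has a
unique generic point (X quasi-sober and T₀), and Z a closed nowhere dense subset of X such that for
every point x of Z the set of generizations of x distinct from x is connected (possibly empty). If X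
is connected, then X − Z is connected. (Uniqueness of generic points, automatic for the underlying
space of a scheme, is needed: in the four-point space {u, v, z₁, z₂} whose open sets are ∅, {u},
{v}, {u, v} and the whole space, the closed nowhere dense set Z = {z₁, z₂} satisfies the hypothesis,
since z₂ is a generization of z₁ and conversely, yet X − Z = {u, v} is not connected.) -/
theorem result {X : Type u} [TopologicalSpace X]
    [QuasiSober X] [T0Space X] (hloc : ∀ x : X, ∃ U ∈ nhds x, TopologicalSpace.NoetherianSpace ↥U) [ConnectedSpace X]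
    (Z : Set X) (hZ : IsClosed Z) (hZn : IsNowhereDense Z)
    (hgen : ∀ x ∈ Z, IsPreconnected ({x' : X | x' ⤳ x} \ {x})) :
    IsConnected Zᶜ := by
  have hdense : Dense Zᶜ := by
    rw [← interior_eq_empty_iff_dense_compl]
    have : interior (closure Z) = ∅ := hZn
    rwa [hZ.closure_eq] at this
  refine ⟨hdense.nonempty, ?_⟩
  -- local lemma: generization inside an open set
  have hgenz : ∀ (U : Set X), IsOpen U → ∀ x ∈ closure U, ∃ ξ ∈ U, ξ ⤳ x := by
    intro U hU x hx
    obtain ⟨N₀, hN₀, hNoeth⟩ := hloc x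
    have hWsub : U ∩ interior N₀ ⊆ N₀ := fun y hy => interior_subset hy.2
    have : TopologicalSpace.NoetherianSpace ↥(U ∩ interior N₀) :=
      (Topology.IsEmbedding.inclusion hWsub).isInducing.noetherianSpace
    have hx' : x ∈ closure (U ∩ interior N₀) := by
      have := isOpen_interior.inter_closure (s := interior N₀) (t := U)
        ⟨mem_interior_iff_mem_nhds.mpr hN₀, hx⟩
      rwa [Set.inter_comm] at this
    obtain ⟨ξ, hξ, hξx⟩ := exists_generization_mem_of_mem_closure (U ∩ interior N₀)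
      (hU.inter isOpen_interior) x hx'
    exact ⟨ξ, hξ.1, hξx⟩
  intro u v hu hv huv hnu hnv
  by_contra hcon
  rw [Set.not_nonempty_iff_eq_empty] at hcon
  set U₁ := Zᶜ ∩ u with hU₁
  set U₂ := Zᶜ ∩ v with hU₂
  have hU₁o : IsOpen U₁ := hZ.isOpen_compl.inter hu
  have hU₂o : IsOpen U₂ := hZ.isOpen_compl.inter hv
  have hdisj : U₁ ∩ U₂ = ∅ := by
    rw [← hcon]; ext y; simp only [hU₁, hU₂, Set.mem_inter_iff]; tauto
  have hunion : U₁ ∪ U₂ = Zᶜ := by
    ext y
    simp only [hU₁, hU₂, Set.mem_union, Set.mem_inter_iff]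
    constructor
    · rintro (h | h) <;> exact h.1
    · intro hy
      rcases huv hy with h | h
      · exact Or.inl ⟨hy, h⟩
      · exact Or.inr ⟨hy, h⟩
  have hclcov : closure U₁ ∪ closure U₂ = Set.univ := by
    rw [← closure_union, hunion]; exact hdense.closure_eq
  -- F = closure U₁ ∩ closure U₂ is nonempty and contained in Z
  have hFne : (closure U₁ ∩ closure U₂).Nonempty := by
    have := (isPreconnected_closed_iff.mp (isPreconnected_univ (α := X))) (closure U₁) (closure U₂)
      isClosed_closure isClosed_closure (by rw [hclcov])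
      (by obtain ⟨y, hy⟩ := hnu; exact ⟨y, trivial, subset_closure hy⟩)
      (by obtain ⟨y, hy⟩ := hnv; exact ⟨y, trivial, subset_closure hy⟩)
    simpa using this
  have hFZ : closure U₁ ∩ closure U₂ ⊆ Z := by
    intro y hy
    by_contra hyZ
    have hy' : y ∈ U₁ ∪ U₂ := by rw [hunion]; exact hyZ
    rcases hy' with h1 | h2
    · -- U₁ open nbhd of y, disjoint from U₂
      obtain ⟨w, hw1, hw2⟩ := mem_closure_iff.mp hy.2 U₁ hU₁o h1
      have : w ∈ U₁ ∩ U₂ := ⟨hw1, hw2⟩
      rw [hdisj] at this; exact this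
    · obtain ⟨w, hw1, hw2⟩ := mem_closure_iff.mp hy.1 U₂ hU₂o h2
      have : w ∈ U₁ ∩ U₂ := ⟨hw2, hw1⟩
      rw [hdisj] at this; exact this
  -- a maximal point of F
  set F : Set X := closure U₁ ∩ closure U₂ with hF
  have hFcl : IsClosed F := isClosed_closure.inter isClosed_closure
  obtain ⟨x₀, hx₀⟩ := hFne
  have : QuasiSober ↥F := hFcl.isClosedEmbedding_subtypeVal.quasiSober
  obtain ⟨ξ', hξ'⟩ := QuasiSober.sober
    (isIrreducible_irreducibleComponent (x := (⟨x₀, hx₀⟩ : ↥F))) isClosed_irreducibleComponent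
  have hmax : ∀ y ∈ F, y ⤳ ξ'.1 → y = ξ'.1 := by
    intro y hy hyx
    have h1 : (⟨y, hy⟩ : ↥F) ⤳ ξ' := (subtype_specializes_iff _ _).mpr hyx
    have h2 : irreducibleComponent (⟨x₀, hx₀⟩ : ↥F) ⊆ closure {(⟨y, hy⟩ : ↥F)} := by
      rw [← hξ'.def]
      exact closure_minimal (Set.singleton_subset_iff.mpr (specializes_iff_mem_closure.mp h1))
        isClosed_closure
    have h3 := eq_irreducibleComponent (isIrreducible_singleton.closure).isPreirreducible h2
    have h4 : IsGenericPoint (⟨y, hy⟩ : ↥F) (irreducibleComponent (⟨x₀, hx₀⟩ : ↥F)) := h3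
    exact congrArg Subtype.val (h4.eq hξ')
  set x := ξ'.1 with hxdef
  have hxF : x ∈ F := ξ'.2
  have hxZ : x ∈ Z := hFZ hxF
  obtain ⟨ξ₁, hξ₁U, hξ₁x⟩ := hgenz U₁ hU₁o x hxF.1
  obtain ⟨ξ₂, hξ₂U, hξ₂x⟩ := hgenz U₂ hU₂o x hxF.2
  have hne₁ : ξ₁ ≠ x := fun h => hξ₁U.1 (h ▸ hxZ)
  have hne₂ : ξ₂ ≠ x := fun h => hξ₂U.1 (h ▸ hxZ)
  obtain ⟨y, ⟨hyx, hyne⟩, hyF⟩ := (isPreconnected_closed_iff.mp (hgen x hxZ)) (closure U₁) (closure U₂)
    isClosed_closure isClosed_closure (by rw [hclcov]; exact Set.subset_univ _)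
    ⟨ξ₁, ⟨hξ₁x, hne₁⟩, subset_closure hξ₁U⟩ ⟨ξ₂, ⟨hξ₂x, hne₂⟩, subset_closure hξ₂U⟩
  exact hyne (hmax y hyF hyx)

end Groth.Agent.S4951
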