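import Groth.Statements.S4959
-- import your own Groth.Agent.* helpers here

set_option autoImplicit false
open CategoryTheory AlgebraicGeometry
universe u v w
open EGA43

namespace Groth.Agent.S4959

open CategoryTheory.Limits in
/-- Let f : X ⟶ Y be a morphism of schemes and g : Y' ⟶ Y a surjective morphism which is either proper,
or flat and quasi-compact. If the base change f' : X ×_Y Y' ⟶ Y' is universally submersive (all of
its base changes are topological quotient maps), then f is universally submersive. -/
theorem result {X Y Y' : Scheme.{u}} (f : X ⟶ Y) (g : Y' ⟶ Y) [Surjective g]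
    (hg : IsProper g ∨ (Flat g ∧ QuasiCompact g))
    (h : MorphismProperty.universally (topologically @Topology.IsQuotientMap) (pullback.snd f g)) :
    MorphismProperty.universally (topologically @Topology.IsQuotientMap) f := by
  intro X' Z i₁ i₂ f' sq
  -- base change of `g` to `Z`
  have hb : Topology.IsQuotientMap (pullback.snd g i₂) := by
    rcases hg with hprop | ⟨hflat, hqc⟩
    · have : IsProper (pullback.snd g i₂) := MorphismProperty.pullback_snd _ _ inferInstance
      exact (pullback.snd g i₂).isClosedMap.isQuotientMap (pullback.snd g i₂).continuous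
        (pullback.snd g i₂).surjective
    · have : Flat (pullback.snd g i₂) := MorphismProperty.pullback_snd _ _ inferInstance
      have : QuasiCompact (pullback.snd g i₂) := MorphismProperty.pullback_snd _ _ inferInstance
      exact Flat.isQuotientMap_of_surjective (pullback.snd g i₂)
  -- the map `j₁ : X' ×_Z W ⟶ X ×_Y Y'`
  have hw : (pullback.fst f' (pullback.snd g i₂) ≫ i₁) ≫ f =
      (pullback.snd f' (pullback.snd g i₂) ≫ pullback.fst g i₂) ≫ g := by
    rw [Category.assoc, ← sq.w, ← Category.assoc, pullback.condition, Category.assoc,
      Category.assoc, pullback.condition]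
  let j₁ : pullback f' (pullback.snd g i₂) ⟶ pullback f g :=
    pullback.lift (pullback.fst f' (pullback.snd g i₂) ≫ i₁)
      (pullback.snd f' (pullback.snd g i₂) ≫ pullback.fst g i₂) hw
  have hj1 : j₁ ≫ pullback.fst f g = pullback.fst f' (pullback.snd g i₂) ≫ i₁ :=
    pullback.lift_fst _ _ _
  have hj2 : j₁ ≫ pullback.snd f g = pullback.snd f' (pullback.snd g i₂) ≫ pullback.fst g i₂ :=
    pullback.lift_snd _ _ _
  have sbig : IsPullback (pullback.snd f' (pullback.snd g i₂)) (j₁ ≫ pullback.fst f g)
      (pullback.fst g i₂ ≫ g) f := by
    rw [hj1, pullback.condition (f := g) (g := i₂)]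
    exact (IsPullback.of_hasPullback f' (pullback.snd g i₂)).flip.paste_vert sq
  have sq' : IsPullback (pullback.snd f' (pullback.snd g i₂)) j₁ (pullback.fst g i₂)
      (pullback.snd f g) :=
    IsPullback.of_bot sbig hj2.symm (IsPullback.of_hasPullback f g).flip
  have hc : Topology.IsQuotientMap (pullback.snd f' (pullback.snd g i₂)) := h _ _ _ sq'
  have hcomp : (⇑f' ∘ ⇑(pullback.fst f' (pullback.snd g i₂))) =
      (⇑(pullback.snd g i₂) ∘ ⇑(pullback.snd f' (pullback.snd g i₂))) := by
    funext w
    have := congrArg (fun φ : pullback f' (pullback.snd g i₂) ⟶ Z => φ w)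
      (pullback.condition (f := f') (g := pullback.snd g i₂))
    simpa [Scheme.Hom.comp_apply] using this
  have hq : Topology.IsQuotientMap (⇑f' ∘ ⇑(pullback.fst f' (pullback.snd g i₂))) := by
    rw [hcomp]; exact hb.comp hc
  exact Topology.IsQuotientMap.of_comp (pullback.fst f' (pullback.snd g i₂)).continuous
    f'.continuous hq

end Groth.Agent.S4959
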