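import Groth.Statements.S4971
import Mathlib.RingTheory.Nakayama
-- import your own Groth.Agent.* helpers here

set_option autoImplicit false
universe u
open EGA43

namespace Groth.Agent.S4971

/-- Let B be a Noetherian local ring, M, N, P three B-modules with N finitely generated, u : M → N and v
: N → P linear maps with v ∘ u = 0, and t an element of the maximal ideal of B which is P-regular.
If the induced sequence M/tM → N/tN → P/tP is exact, then M → N → P is exact. -/
theorem result {B : Type u} [CommRing B] [IsNoetherianRing B] [IsLocalRing B]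
    {M N P : Type u} [AddCommGroup M] [Module B M] [AddCommGroup N] [Module B N] [Module.Finite B N]
    [AddCommGroup P] [Module B P] (u : M →ₗ[B] N) (v : N →ₗ[B] P) (huv : v ∘ₗ u = 0) (t : B)
    (ht : t ∈ IsLocalRing.maximalIdeal B) (hreg : IsSMulRegular P t)
    (hu : (Ideal.span {t} • ⊤ : Submodule B M) ≤ (Ideal.span {t} • ⊤ : Submodule B N).comap u)
    (hv : (Ideal.span {t} • ⊤ : Submodule B N) ≤ (Ideal.span {t} • ⊤ : Submodule B P).comap v)
    (hex : LinearMap.ker ((Ideal.span {t} • ⊤ : Submodule B N).mapQ (Ideal.span {t} • ⊤ : Submodule B P) v hv) ≤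
      LinearMap.range ((Ideal.span {t} • ⊤ : Submodule B M).mapQ (Ideal.span {t} • ⊤ : Submodule B N) u hu)) :
    LinearMap.ker v ≤ LinearMap.range u := by
  have hNoeth : IsNoetherian B N := inferInstance
  have hKfg : (LinearMap.ker v).FG := IsNoetherian.noetherian _
  have hJ : Ideal.span {t} ≤ Ideal.jacobson (⊥ : Ideal B) := by
    rw [Ideal.span_singleton_le_iff_mem]
    exact (IsLocalRing.maximalIdeal_le_jacobson ⊥) ht
  refine Submodule.le_of_le_smul_of_le_jacobson_bot hKfg hJ ?_
  intro n hn
  rw [LinearMap.mem_ker] at hn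
  have h1 : Submodule.Quotient.mk n ∈ LinearMap.ker
      ((Ideal.span {t} • ⊤ : Submodule B N).mapQ (Ideal.span {t} • ⊤ : Submodule B P) v hv) := by
    rw [LinearMap.mem_ker, Submodule.mapQ_apply, hn, Submodule.Quotient.mk_zero]
  obtain ⟨mbar, hmbar⟩ := hex h1
  obtain ⟨m, rfl⟩ := Submodule.Quotient.mk_surjective _ mbar
  rw [Submodule.mapQ_apply, Submodule.Quotient.eq, Submodule.ideal_span_singleton_smul,
    Submodule.mem_smul_pointwise_iff_exists] at hmbar
  obtain ⟨n₁, -, hn₁⟩ := hmbar
  -- `u m - n = t • n₁`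
  have hvn₁ : v n₁ = 0 := by
    apply hreg
    have : v (t • n₁) = 0 := by
      rw [hn₁, map_sub, hn, sub_zero]
      exact LinearMap.congr_fun huv m
    show t • v n₁ = t • 0
    rw [smul_zero, ← map_smul]; exact this
  have hn_eq : n = u m + t • (-n₁) := by
    rw [smul_neg, hn₁]; abel
  rw [hn_eq]
  refine Submodule.add_mem_sup (LinearMap.mem_range_self u m) ?_
  rw [Submodule.ideal_span_singleton_smul, Submodule.mem_smul_pointwise_iff_exists]
  exact ⟨-n₁, by rw [LinearMap.mem_ker, map_neg, hvn₁, neg_zero], rfl⟩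

end Groth.Agent.S4971
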