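import Groth.Statements.S4974
import Mathlib
import Groth.Agent.S4944
import Groth.Agent.Lib.Helper1.HensFin5
import Groth.Agent.Lib.Helper1.Henselian

set_option linter.style.haveILetI false

set_option autoImplicit false
open CategoryTheory AlgebraicGeometry
universe u v w
open EGA43

namespace Groth.Agent.S4974

/-- Consider a complete Noetherian local domain A and put Y = Spec A. Suppose f : X ⟶ Y is locally of
finite type, and take a point x ∈ X mapping to the closed point of Y, where f is equidimensional at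
x and x is closed in the fibre containing it. Then one can find a local domain A' that contains A
and is finite as an A-algebra, together with a Y-morphism h : Spec A' ⟶ X that is an immersion and
has x in its image. -/
theorem result {A : Type u} [CommRing A] [IsDomain A]
    [IsNoetherianRing A] [IsLocalRing A] [IsAdicComplete (IsLocalRing.maximalIdeal A) A] {X : Scheme.{u}}
    (f : X ⟶ Spec (CommRingCat.of A)) [LocallyOfFiniteType f] (x : X) (hx : f.base x = IsLocalRing.closedPoint A)
    (hf : EGA43.IsEquidimAt f x) (hcl : ∀ x' : X, f.base x' = f.base x → x ⤳ x' → x' = x) :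
    ∃ (A' : Type u) (_ : CommRing A') (_ : IsDomain A') (_ : IsLocalRing A') (_ : Algebra A A') (_ : Module.Finite A A'),
      Function.Injective (algebraMap A A') ∧
      ∃ h : Spec (CommRingCat.of A') ⟶ X, h ≫ f = Spec.map (CommRingCat.ofHom (algebraMap A A')) ∧
        IsImmersion h ∧ x ∈ Set.range h.base := by
  haveI : HenselianLocalRing A :=
    Groth.Agent.H1.henselianLocalRing_of_henselianRing_maximalIdeal A
  haveI : IrreducibleSpace ↥(Spec (CommRingCat.of A)) :=
    inferInstanceAs (IrreducibleSpace (PrimeSpectrum A))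
  obtain ⟨T, i, hi, hTirr, hTred, ⟨t, ht⟩, hlft, hlqf, hqc, hdom⟩ :=
    Groth.Agent.S4944.result f x hf hcl
  haveI : IsIntegral T := isIntegral_of_irreducibleSpace_of_isReduced T
  have hgt : (i ≫ f) t = IsLocalRing.closedPoint A := by
    rw [Scheme.Hom.comp_apply, ht]; exact hx
  obtain ⟨U, hU, htU, hfin, hfinU, hbij⟩ :=
    Groth.Agent.H1.HensFin.exists_local_finite_open_nbhd A (i ≫ f) t hgt ((i ≫ f).quasiFiniteAt t)
  haveI : Nonempty U := ⟨⟨t, htU⟩⟩
  let φ : A →+* Γ(T, U) :=
    ((i ≫ f).appLE ⊤ U le_top).hom.comp (Scheme.ΓSpecIso (CommRingCat.of A)).inv.hom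
  have hφ : CommRingCat.ofHom φ =
      (Scheme.ΓSpecIso (CommRingCat.of A)).inv ≫ (i ≫ f).appLE ⊤ U le_top := rfl
  have hkey : hU.fromSpec ≫ (i ≫ f) = Spec.map (CommRingCat.ofHom φ) := by
    rw [hφ, Spec.map_comp, ← Scheme.isoSpec_Spec_inv, ← IsAffineOpen.fromSpec_top,
      IsAffineOpen.SpecMap_appLE_fromSpec]
  have hφfin : φ.Finite := by
    refine RingHom.Finite.comp hfin (RingHom.Finite.of_surjective _ ?_)
    exact (ConcreteCategory.bijective_of_isIso (Scheme.ΓSpecIso (CommRingCat.of A)).inv).2
  have hdomU : IsDominant (hU.fromSpec ≫ (i ≫ f)) := by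
    haveI : IsDominant hU.fromSpec := by
      constructor
      show Dense (Set.range hU.fromSpec)
      rw [hU.range_fromSpec]
      exact U.2.dense ⟨t, htU⟩
    infer_instance
  refine ⟨Γ(T, U), inferInstance, inferInstance,
    (RingEquiv.ofBijective _ hbij).symm.isLocalRing, φ.toAlgebra, hφfin, ?_, ?_⟩
  · letI := φ.toAlgebra
    show Function.Injective φ
    rw [hkey] at hdomU
    have h1 : DenseRange (PrimeSpectrum.comap φ) := hdomU.1
    rw [PrimeSpectrum.denseRange_comap_iff_ker_le_nilRadical, nilradical_eq_zero] at h1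
    exact (RingHom.injective_iff_ker_eq_bot φ).mpr (le_bot_iff.mp h1)
  · letI := φ.toAlgebra
    refine ⟨hU.fromSpec ≫ i, ?_, inferInstance, ⟨hU.primeIdealOf ⟨t, htU⟩, ?_⟩⟩
    · rw [Category.assoc, hkey]
    · show (hU.fromSpec ≫ i) (hU.primeIdealOf ⟨t, htU⟩) = x
      rw [Scheme.Hom.comp_apply, hU.fromSpec_primeIdealOf ⟨t, htU⟩]
      exact ht

end Groth.Agent.S4974
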