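import Groth.Statements.S4993
import Groth.Agent.S2759
import Groth.Agent.Lib.Helper6.SmoothOI

set_option autoImplicit false
universe u
open CategoryTheory CategoryTheory.Limits AlgebraicGeometry TopologicalSpace
open Unram17

namespace Groth.Agent.S4993

/-- Let f : Y ⟶ S and h : X ⟶ S be smooth and let g : X ⟶ Y satisfy g ≫ f = h. Then g is an open
immersion if and only if g is a monomorphism and, for every point x of X, the local dimension at
g(x) of the fibre of f through g(x) equals the local dimension at x of the fibre of h through x. -/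
theorem result {X Y S : Scheme.{u}} (f : Y ⟶ S) (h : X ⟶ S)
    [Smooth f] [Smooth h] (g : X ⟶ Y) (w : g ≫ f = h) :
    IsOpenImmersion g ↔ Mono g ∧ ∀ x : ↥X, FlatMor.fibreDimAt f (g.base x) = FlatMor.fibreDimAt h x := by
  constructor
  · intro hg
    refine ⟨inferInstance, fun x => ?_⟩
    subst w
    exact (Groth.Agent.H1.FibDimEt.fibreDimAt_comp_of_etale g f x).symm
  · rintro ⟨hmono, hdim⟩
    subst w
    refine ((Groth.Agent.S2759.result f (g ≫ f) g rfl).1).mpr fun s => ?_
    exact Groth.Agent.H6.SmoothOI.isOpenImmersion_of_isPullback (κ := S.residueField s) f g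
      (S.fromSpecResidueField s) (f.fiberι s) (f.fiberToSpecResidueField s)
      (IsPullback.of_hasPullback _ _) (pullback.fst g (f.fiberι s)) (pullback.snd g (f.fiberι s))
      (IsPullback.of_hasPullback _ _) hdim

end Groth.Agent.S4993
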