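import Groth.Statements.S5006
import Mathlib.RingTheory.Nakayama
import Mathlib.RingTheory.Noetherian.Nilpotent
import Mathlib.RingTheory.Nilpotent.Lemmas
-- import your own Groth.Agent.* helpers here

set_option autoImplicit false
universe u
open Nrm16

namespace Groth.Agent.S5006

/-- Let A be a commutative ring, I a finitely generated ideal and p a prime ideal containing I. Then
some basic open neighbourhood of p in Spec A is contained in the closed set V(I) (so that V(I) ⟶
Spec A is a local homeomorphism onto an open set near p) if and only if there is an integer n > 0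
with I^n A_p = I^(n+1) A_p in the local ring at p. Affine form. -/
theorem result (A : Type u) [CommRing A] (I : Ideal A) (hI : I.FG)
    (p : Ideal A) [p.IsPrime] (hp : I ≤ p) :
    (∃ f : A, f ∉ p ∧ ∀ q : Ideal A, q.IsPrime → f ∉ q → I ≤ q) ↔
      ∃ n : ℕ, 0 < n ∧
        (I ^ n).map (algebraMap A (Localization.AtPrime p)) =
          (I ^ (n + 1)).map (algebraMap A (Localization.AtPrime p)) := by
  classical
  set J : Ideal (Localization.AtPrime p) := I.map (algebraMap A (Localization.AtPrime p)) with hJ
  have hJfg : J.FG := hI.map _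
  constructor
  · rintro ⟨f, hfp, hf⟩
    have hJnil : J ≤ nilradical (Localization.AtPrime p) := by
      rw [hJ, Ideal.map_le_iff_le_comap]
      intro x hx
      have hxf : IsNilpotent (x * f) := by
        rw [← mem_nilradical, nilradical_eq_sInf, Ideal.mem_sInf]
        intro q hq
        have hq' : q.IsPrime := hq
        by_cases hfq : f ∈ q
        · exact q.mul_mem_left _ hfq
        · exact q.mul_mem_right _ (hf q hq' hfq hx)
      obtain ⟨k, hk⟩ := hxf
      have hunit : IsUnit (algebraMap A (Localization.AtPrime p) f) :=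
        IsLocalization.map_units (Localization.AtPrime p) (⟨f, hfp⟩ : p.primeCompl)
      refine ⟨k, ?_⟩
      have h1 : (algebraMap A (Localization.AtPrime p) x) ^ k *
          (algebraMap A (Localization.AtPrime p) f) ^ k = 0 := by
        rw [← map_pow, ← map_pow, ← map_mul, ← mul_pow, hk, map_zero]
      exact (hunit.pow k).mul_left_eq_zero.mp h1
    obtain ⟨n, hn⟩ := hJfg.isNilpotent_iff_le_nilradical.mpr hJnil
    refine ⟨n + 1, Nat.succ_pos n, ?_⟩
    have h0 : J ^ n = ⊥ := hn
    rw [Ideal.map_pow, Ideal.map_pow, ← hJ, pow_succ, pow_succ, pow_succ, h0]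
    simp
  · rintro ⟨n, hn0, hn⟩
    rw [Ideal.map_pow, Ideal.map_pow, ← hJ] at hn
    have hJmax : J ≤ IsLocalRing.maximalIdeal (Localization.AtPrime p) := by
      rw [← Localization.AtPrime.map_eq_maximalIdeal]
      exact Ideal.map_mono hp
    have hbot : J ^ n = ⊥ := by
      refine Submodule.eq_bot_of_le_smul_of_le_jacobson_bot J (J ^ n) (hJfg.pow (n := n)) ?_
        (hJmax.trans (IsLocalRing.maximalIdeal_le_jacobson ⊥))
      rw [smul_eq_mul, ← pow_succ', ← hn]
    -- now `I ^ n` is a f.g. ideal whose localization vanishes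
    obtain ⟨s, hs⟩ := hI.pow (n := n)
    have hkill : ∀ g ∈ s, ∃ m : p.primeCompl, (m : A) * g = 0 := by
      intro g hg
      rw [← IsLocalization.map_eq_zero_iff p.primeCompl (Localization.AtPrime p)]
      have : algebraMap A (Localization.AtPrime p) g ∈ J ^ n := by
        rw [hJ, ← Ideal.map_pow]
        exact Ideal.mem_map_of_mem _ (hs ▸ Ideal.subset_span hg)
      rw [hbot] at this
      exact this
    choose! m hm using hkill
    refine ⟨∏ g ∈ s, (m g : A), ?_, ?_⟩
    · have : (∏ g ∈ s, (m g : A)) ∈ p.primeCompl :=
        Submonoid.prod_mem _ (fun g _ => (m g).2)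
      exact this
    · intro q hq hfq x hx
      have hxn : x ^ n ∈ I ^ n := Ideal.pow_mem_pow hx n
      rw [← hs] at hxn
      have hzero : (∏ g ∈ s, (m g : A)) * x ^ n = 0 := by
        refine Submodule.span_induction (p := fun y _ => (∏ g ∈ s, (m g : A)) * y = 0)
          ?_ ?_ ?_ ?_ hxn
        · intro g hg
          obtain ⟨c, hc⟩ := Finset.dvd_prod_of_mem (fun g => (m g : A)) hg
          rw [hc, mul_comm (m g : A) c, mul_assoc, hm g hg, mul_zero]
        · simp
        · intro y z _ _ hy hz
          rw [mul_add, hy, hz, add_zero]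
        · intro a y _ hy
          rw [smul_eq_mul, mul_left_comm, hy, mul_zero]
      have : (∏ g ∈ s, (m g : A)) * x ^ n ∈ q := by rw [hzero]; exact q.zero_mem
      rcases hq.mem_or_mem this with h1 | h1
      · exact absurd h1 hfq
      · exact hq.mem_of_pow_mem n h1

end Groth.Agent.S5006
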