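import Groth.Statements.S5022
import Groth.Agent.Lib.Helper3.SmFlatFree
import Groth.Agent.S8917

set_option autoImplicit false
universe u
open CategoryTheory CategoryTheory.Limits AlgebraicGeometry TopologicalSpace
open Unram17

namespace Groth.Agent.S5022

/-- Let f : X ⟶ Y be locally of finite presentation, (Ω', d) a sheaf of differentials of X over Y (d
universal) and x a point of X. Then f is smooth at x if and only if the stalk map at x is flat and
there are an open neighbourhood U of x and an integer n with Ω' free of rank n on U and n equal to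
the local dimension at x of the fibre of f through x. -/
theorem result {X Y : Scheme.{u}} (f : X ⟶ Y)
    [LocallyOfFinitePresentation f] (Ω' : X.Modules) (d : OmegaSh.Der f Ω') (hd : OmegaSh.IsUniversal d) (x : ↥X) :
    x ∈ f.smoothLocus ↔
      (f.stalkMap x).hom.Flat ∧
        ∃ (U : X.Opens) (n : ℕ), x ∈ U ∧ Nonempty (Ω'.restrict U.ι ≅ FlatMod.freeMod (↑U) n) ∧
          FlatMor.fibreDimAt f x = (n : WithBot ℕ∞) := by
  constructor
  · intro hx
    exact Groth.Agent.H3.SmFlatFree.flat_and_free_of_mem_smoothLocus f hd x hx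
  · rintro ⟨hflat, U, n, hxU, hfree, hdim⟩
    obtain ⟨U₀, V, hU₀, hV, hxU₀, hle, hU₀U⟩ : ∃ (U₀ : X.Opens) (V : Y.Opens),
        IsAffineOpen U₀ ∧ IsAffineOpen V ∧ x ∈ U₀ ∧ U₀ ≤ f ⁻¹ᵁ V ∧ U₀ ≤ U := by
      obtain ⟨_, ⟨V, hV, rfl⟩, hfxV, -⟩ :=
        Y.isBasis_affineOpens.exists_subset_of_mem_open (Set.mem_univ (f x)) isOpen_univ
      obtain ⟨_, ⟨U₀, hU₀, rfl⟩, hxU₀, hU₀sub⟩ :=
        X.isBasis_affineOpens.exists_subset_of_mem_open
          (show x ∈ ((U ⊓ f ⁻¹ᵁ V : X.Opens) : Set X) from ⟨hxU, hfxV⟩) (U ⊓ f ⁻¹ᵁ V).2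
      exact ⟨U₀, V, hU₀, hV, hxU₀, fun z hz => (hU₀sub hz).2, fun z hz => (hU₀sub hz).1⟩
    haveI : IsAffine (U₀ : Scheme.{u}) := hU₀
    haveI : QuasiSeparated (U₀.ι ≫ f) := QuasiSeparated.of_quasiSeparatedSpace _
    haveI : LocallyOfFiniteType (U₀.ι ≫ f) := inferInstance
    exact Groth.Agent.H3.SmFlatFree.mem_smoothLocus_of_flat_of_free f hd x hflat U n hfree hdim
      U₀ hU₀ V hV hle hU₀U hxU₀
      (Groth.Agent.S8917.result (U₀.ι ≫ f) (Y.fromSpecResidueField ((U₀.ι ≫ f) ⟨x, hxU₀⟩)) n)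

end Groth.Agent.S5022
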