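import Groth.Statements.S5024
import Groth.Agent.Lib.Helper2.RkSmooth2
import Groth.Agent.Lib.Helper8.GCI.Smooth

set_option autoImplicit false
universe u
open CategoryTheory CategoryTheory.Limits AlgebraicGeometry TopologicalSpace
open Unram17

namespace Groth.Agent.S5024

/-- Let Y be locally Noetherian and f : X ⟶ Y locally of finite type, smooth on an open neighbourhood of
a point x with image y. Then for every n the local ring of X at x has Serre's property (S_n),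
respectively (R_n), if and only if the local ring of Y at y has it. -/
theorem result {X Y : Scheme.{u}} (f : X ⟶ Y)
    [IsLocallyNoetherian Y] [LocallyOfFiniteType f] (x : ↥X)
    (hx : ∃ U : X.Opens, x ∈ U ∧ Smooth (U.ι ≫ f)) (n : ℕ) :
    (LocCoh.HasSk n ↑(X.presheaf.stalk x) ↑(X.presheaf.stalk x) ↔
        LocCoh.HasSk n ↑(Y.presheaf.stalk (f.base x)) ↑(Y.presheaf.stalk (f.base x))) ∧
      (LocCoh.HasRk n ↑(X.presheaf.stalk x) ↔ LocCoh.HasRk n ↑(Y.presheaf.stalk (f.base x))) := by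
  obtain ⟨W, hxW, hsm⟩ := hx
  haveI := hsm
  obtain ⟨V, hV, hfx, -⟩ :=
    AlgebraicGeometry.exists_isAffineOpen_mem_and_subset (X := Y)
      (x := (W.ι ≫ f).base ⟨x, hxW⟩) (U := ⊤) trivial
  obtain ⟨U, hU, hxU, hUV⟩ :=
    AlgebraicGeometry.exists_isAffineOpen_mem_and_subset (X := W.toScheme) (x := ⟨x, hxW⟩)
      (U := (W.ι ≫ f) ⁻¹ᵁ V) hfx
  have hsmR : ((W.ι ≫ f).appLE V U hUV).hom.Smooth :=
    AlgebraicGeometry.HasRingHomProperty.appLE (P := @AlgebraicGeometry.Smooth) (W.ι ≫ f)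
      inferInstance ⟨V, hV⟩ ⟨U, hU⟩ hUV
  haveI : IsNoetherianRing Γ(Y, V) :=
    AlgebraicGeometry.IsLocallyNoetherian.component_noetherian ⟨V, hV⟩
  letI alg := ((W.ι ≫ f).appLE V U hUV).hom.toAlgebra
  haveI hSm : Algebra.Smooth Γ(Y, V) Γ(W.toScheme, U) := hsmR
  have hs : Synt.IsSyntomic Γ(Y, V) Γ(W.toScheme, U) :=
    ⟨inferInstance, inferInstance, fun p =>
      Groth.Agent.H8.GCI.isLCIOver_of_smooth (p.asIdeal.Fiber Γ(W.toScheme, U))⟩
  haveI : IsNoetherianRing Γ(W.toScheme, U) :=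
    Groth.Agent.H2.SyntCM.isNoetherianRing_of_isSyntomic hs
  have keyS := Groth.Agent.H2.SyntCM.chart_hasSk_iff (W.ι ≫ f) (U := ⟨U, hU⟩) (V := ⟨V, hV⟩)
    hUV ⟨x, hxW⟩ hxU hs n
  have keyR := Groth.Agent.H2.RkSm.chart_hasRk_iff (W.ι ≫ f) (U := ⟨U, hU⟩) (V := ⟨V, hV⟩)
    hUV ⟨x, hxW⟩ hxU hSm n
  let σ : X.presheaf.stalk x ≃+* W.toScheme.presheaf.stalk ⟨x, hxW⟩ :=
    (CategoryTheory.asIso (W.ι.stalkMap ⟨x, hxW⟩)).commRingCatIsoToRingEquiv
  haveI : IsNoetherianRing (Localization.AtPrime (hU.primeIdealOf ⟨⟨x, hxW⟩, hxU⟩).asIdeal) :=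
    IsLocalization.isNoetherianRing (hU.primeIdealOf ⟨⟨x, hxW⟩, hxU⟩).asIdeal.primeCompl _
      inferInstance
  haveI : IsNoetherianRing (W.toScheme.presheaf.stalk ⟨x, hxW⟩) :=
    isNoetherianRing_of_ringEquiv _
      (Groth.Agent.H2.SyntCM.stalkEquiv hU ⟨x, hxW⟩ hxU).symm
  haveI : IsNoetherianRing (X.presheaf.stalk x) := isNoetherianRing_of_ringEquiv _ σ.symm
  constructor
  · refine Iff.trans ⟨Groth.Agent.H2.TenCM.hasSk_of_ringEquiv σ n,
      Groth.Agent.H2.TenCM.hasSk_of_ringEquiv σ.symm n⟩ ?_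
    exact keyS.symm
  · refine Iff.trans ⟨Groth.Agent.H2.RkSm.hasRk_of_ringEquiv σ n,
      Groth.Agent.H2.RkSm.hasRk_of_ringEquiv σ.symm n⟩ ?_
    exact keyR.symm

end Groth.Agent.S5024
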