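import Groth.Statements.S5025
import Groth.Agent.Lib.Helper2.SmCodepth

set_option autoImplicit false
universe u
open CategoryTheory CategoryTheory.Limits AlgebraicGeometry TopologicalSpace
open Unram17

namespace Groth.Agent.S5025

/-- Let Y be locally Noetherian and f : X ⟶ Y locally of finite type, smooth on an open neighbourhood of
a point x with image y. Then the local rings of X at x and of Y at y have the same codepth (Krull
dimension minus depth); written without subtraction: dim O_{X,x} + depth O_{Y,y} = dim O_{Y,y} +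
depth O_{X,x}. -/
theorem result {X Y : Scheme.{u}} (f : X ⟶ Y)
    [IsLocallyNoetherian Y] [LocallyOfFiniteType f] (x : ↥X)
    (hx : ∃ U : X.Opens, x ∈ U ∧ Smooth (U.ι ≫ f)) :
    ringKrullDim ↑(X.presheaf.stalk x) +
        ((LocCoh.depth ↑(Y.presheaf.stalk (f.base x)) ↑(Y.presheaf.stalk (f.base x)) : ℕ∞) : WithBot ℕ∞) =
      ringKrullDim ↑(Y.presheaf.stalk (f.base x)) +
        ((LocCoh.depth ↑(X.presheaf.stalk x) ↑(X.presheaf.stalk x) : ℕ∞) : WithBot ℕ∞) := by
  obtain ⟨W, hxW, hsm⟩ := hx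
  haveI := hsm
  have hsyn := Groth.Agent.S9699.result (W.ι ≫ f)
  obtain ⟨U, V, e, hxU, hs⟩ := hsyn ⟨x, hxW⟩
  haveI : IsNoetherianRing Γ(Y, V.1) := IsLocallyNoetherian.component_noetherian V
  haveI : IsNoetherianRing Γ(W.toScheme, U.1) := by
    letI := ((W.ι ≫ f).appLE V.1 U.1 e).hom.toAlgebra
    exact Groth.Agent.H2.SyntCM.isNoetherianRing_of_isSyntomic hs
  have key := Groth.Agent.H2.SyntCM.chart_codepth_eq (W.ι ≫ f) e ⟨x, hxW⟩ hxU hs
  let σ : X.presheaf.stalk x ≃+* W.toScheme.presheaf.stalk ⟨x, hxW⟩ :=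
    (CategoryTheory.asIso (W.ι.stalkMap ⟨x, hxW⟩)).commRingCatIsoToRingEquiv
  haveI : IsNoetherianRing (Localization.AtPrime (U.2.primeIdealOf ⟨⟨x, hxW⟩, hxU⟩).asIdeal) :=
    IsLocalization.isNoetherianRing (U.2.primeIdealOf ⟨⟨x, hxW⟩, hxU⟩).asIdeal.primeCompl _
      inferInstance
  haveI : IsNoetherianRing (W.toScheme.presheaf.stalk ⟨x, hxW⟩) :=
    isNoetherianRing_of_ringEquiv _
      (Groth.Agent.H2.SyntCM.stalkEquiv U.2 ⟨x, hxW⟩ hxU).symm
  haveI : IsNoetherianRing (X.presheaf.stalk x) := isNoetherianRing_of_ringEquiv _ σ.symm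
  obtain ⟨h1, h2⟩ := Groth.Agent.H2.SyntCM.depth_dim_of_ringEquiv σ
  rw [h1, h2]
  exact key

end Groth.Agent.S5025
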