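import Groth.Statements.S5029
import Groth.Agent.Lib.Helper6.SymU
import Groth.Agent.Lib.Helper6.QCLoc
import Groth.Agent.Lib.Lead.QC.LocFree

set_option autoImplicit false
universe u
open CategoryTheory CategoryTheory.Limits AlgebraicGeometry TopologicalSpace
open Unram17

namespace Groth.Agent.S5029

/-- Let S be a scheme and E a quasi-coherent O_S-module that is finite locally free. If A is a
quasi-coherent O_S-algebra which is the symmetric algebra of E (through j : E ⟶ A), then the
structure morphism of the relative spectrum of A, i.e. of the vector bundle V(E), is smooth. -/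
theorem result {S : Scheme.{u}} (E : S.Modules) (hE : Coh.IsQCoh E)
    (hlf : FlatMod.IsFinLocFree E) (A : RelSpec.QCAlg S) (j : E ⟶ A.toModule) (hA : RelSpec.IsSymAlg E A j) :
    Smooth A.π := by
  haveI : E.IsQuasicoherent := hE
  have h := (Groth.Agent.LD.QC.isFinLocFree_iff E).mp hlf
  refine Groth.Agent.H6.QCLoc.of_charts (P := @Smooth) A.π
    (fun U : {U : S.affineOpens //
      ∃ n : ℕ, Nonempty (Γ(E, U.1) ≃ₗ[Γ(S, U.1)] (Fin n → Γ(S, U.1)))} => U.1.1) ?_
    (fun U => A.ι U.1.1 U.1.2) (fun U => U.1.2.fromSpec)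
    (fun U => Spec.map (A.str.app (Opposite.op U.1.1))) (fun U => A.ι_π U.1.1 U.1.2)
    (fun U => U.1.2.opensRange_fromSpec) (fun U => (A.π_preimage U.1.1 U.1.2).symm) (fun U => ?_)
  · rw [eq_top_iff]
    intro x _
    obtain ⟨U, n, hU, hxU, he⟩ := h x
    exact TopologicalSpace.Opens.mem_iSup.mpr ⟨⟨⟨U, hU⟩, n, he⟩, hxU⟩
  · obtain ⟨⟨U, hU⟩, n, ⟨e⟩⟩ := U
    rw [HasRingHomProperty.Spec_iff (P := @Smooth)]
    have hbij := Groth.Agent.H6.Sym.liftSec_bijective hA U hU
    have h1 : (algebraMap Γ(S, U) (SymmetricAlgebra Γ(S, U) Γ(E, U))).Smooth := by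
      rw [RingHom.smooth_algebraMap]
      haveI : Algebra.Smooth Γ(S, U) (MvPolynomial (Fin n) Γ(S, U)) := {}
      exact Algebra.Smooth.of_equiv
        (SymmetricAlgebra.equivMvPolynomial (Module.Basis.ofEquivFun e)).symm
    have h3 : (A.str.app (Opposite.op U)).hom =
        ((RingEquiv.ofBijective (Groth.Agent.H6.Sym.liftSec E A j U) hbij).toRingHom).comp
          (algebraMap Γ(S, U) (SymmetricAlgebra Γ(S, U) Γ(E, U))) := by
      ext a
      exact (Groth.Agent.H6.Sym.liftSec_algebraMap E A j U a).symm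
    rw [h3]
    exact RingHom.Smooth.respectsIso.1 _ _ h1

end Groth.Agent.S5029
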