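import Groth.Statements.S5033
import Groth.Agent.Lib.Helper1.RegQuot
import Groth.Agent.S5779

set_option autoImplicit false
universe u
open CInt

namespace Groth.Agent.S5033


/-- Let A be a Noetherian local ring and J an ideal such that A/J is a regular local ring. Then A is a
regular local ring if and only if J is generated by a regular sequence of A. -/
theorem result (A : Type u) [CommRing A] [IsNoetherianRing A]
    [IsLocalRing A] (J : Ideal A) [IsRegularLocalRing (A ⧸ J)] :
    IsRegularLocalRing A ↔ CInt.IsRegularIdeal J := by
  classical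
  constructor
  · intro hA
    obtain ⟨r, x, hxJ, hreg, hspan⟩ := Groth.Agent.H1.RegQuot.exists_regular_generators A J
    refine ⟨List.ofFn x, hreg, ?_⟩
    rw [← hspan]
    show Ideal.span {a | a ∈ List.ofFn x} = Ideal.span (Set.range x)
    congr 1
    ext a
    simp [List.mem_ofFn]
  · rintro ⟨rs, hreg, hJ⟩
    have hJtop : J ≠ ⊤ := Ideal.Quotient.nontrivial_iff.mp inferInstance
    have hJm : J ≤ IsLocalRing.maximalIdeal A := IsLocalRing.le_maximalIdeal hJtop
    have hmem : ∀ i : Fin rs.length, rs[i] ∈ IsLocalRing.maximalIdeal A := by
      intro i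
      apply hJm
      rw [← hJ]
      exact Ideal.subset_span (List.getElem_mem i.2)
    let x : Fin rs.length → IsLocalRing.maximalIdeal A := fun i => ⟨rs[i], hmem i⟩
    have hspan : Ideal.span (Set.range fun i => (x i : A)) = J := by
      rw [← hJ]
      show _ = Ideal.span {a | a ∈ rs}
      congr 1
      ext a
      simp only [Set.mem_range, Set.mem_ofPred_eq, x]
      constructor
      · rintro ⟨i, rfl⟩
        exact List.getElem_mem i.2
      · intro ha
        obtain ⟨i, hi, rfl⟩ := List.getElem_of_mem ha
        exact ⟨⟨i, hi⟩, rfl⟩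
    have hdim := ringKrullDim_add_length_eq_ringKrullDim_of_isRegular rs hreg
    rw [hJ] at hdim
    refine ((Groth.Agent.S5779.result A rs.length x).1.mpr ?_).1
    rw [hspan]
    exact ⟨hdim, inferInstance⟩

end Groth.Agent.S5033
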