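import Groth.Statements.S5034
import Groth.Agent.Lib.Helper8.Hens.HenselianFinite
-- import your own Groth.Agent.* helpers here

set_option autoImplicit false
universe u
open Hensel

namespace Groth.Agent.S5034

/-- a') implies a): let R be a local ring such that for every monic polynomial F over R the quotient
ring R[T]/(F) is isomorphic, as a ring, to a finite product of local rings. Then R is henselian. -/
theorem result (R : Type u) [CommRing R] [IsLocalRing R]
    (h : ∀ F : Polynomial R, F.Monic →
      ∃ (ι : Type u) (_ : Fintype ι) (A : ι → Type u) (_ : ∀ i, CommRing (A i)),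
        (∀ i, IsLocalRing (A i)) ∧ Nonempty (AdjoinRoot F ≃+* (∀ i, A i))) :
    HenselianLocalRing R := by
  refine ⟨fun f hf a₀ h1 h2 => ?_⟩
  obtain ⟨ι, _, A, _, hA, ⟨φ⟩⟩ := h f hf
  haveI := hA
  obtain ⟨n, ε, hε, hloc⟩ := Groth.Agent.H8.Hens.exists_completeOrthogonalIdempotents_of_ringEquiv A φ
  exact Groth.Agent.H8.Hens.exists_root_of_decomposition f hf a₀ h1 h2 ε hε hloc

end Groth.Agent.S5034
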