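import Groth.Statements.S5041
import Groth.Agent.Lib.Helper2.HensFC2
import Groth.Agent.S0507
import Groth.Agent.S0508
import Groth.Agent.S0509
import Groth.Agent.S0511

set_option autoImplicit false
universe u
open Hensel

namespace Groth.Agent.S5041

/-- Let R be a Noetherian local ring with henselization S. If R is strictly formally catenary (for every
prime ideal p, every associated prime of the completion of R/p has quotient of dimension dim R/p),
then so is S. -/
theorem result (R S : Type u) [CommRing R] [IsLocalRing R] [IsNoetherianRing R]
    [CommRing S] [IsLocalRing S] [Algebra R S] [IsLocalHom (algebraMap R S)] [Hensel.IsHenselization R S]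
    (h : EGA4.IsFormallyStrictlyCatenary R) : EGA4.IsFormallyStrictlyCatenary S := by
  haveI : IsNoetherianRing S := (Groth.Agent.S0511.result R S).mp inferInstance
  haveI : Module.FaithfullyFlat R S := Groth.Agent.S0509.result R S
  have hm := Groth.Agent.S0507.result R S
  have hbij := Groth.Agent.S0508.result R S
  have hres : ∀ s : S, ∃ r : R, s - algebraMap R S r ∈ IsLocalRing.maximalIdeal S := by
    intro s
    obtain ⟨x, hx⟩ := hbij.2 (IsLocalRing.residue S s)
    obtain ⟨r, rfl⟩ := IsLocalRing.residue_surjective x
    refine ⟨r, ?_⟩
    rw [← Ideal.Quotient.eq]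
    exact hx.symm
  exact Groth.Agent.H2.HensFC.isFormallyStrictlyCatenary_of_unramified R S hm hres
    (Groth.Agent.H8.Hens.fibresDiscrete_of_isHenselization S) h

end Groth.Agent.S5041
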