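import Groth.Statements.S5048
import Groth.Agent.Lib.Helper8.EtaleComponents
-- import your own Groth.Agent.* helpers here

set_option autoImplicit false
open CategoryTheory AlgebraicGeometry
universe u
open Unram

namespace Groth.Agent.S5048

open Groth.Agent.H8 in

/-- Let Y be an irreducible scheme with generic point η and f : X ⟶ Y flat, locally of finite type and
locally quasi-finite. Then a point x of X maps to η if and only if its closure is an irreducible
component of X; thus the irreducible components of X are in canonical bijection with the fibre over
η. -/
theorem result {X Y : Scheme.{u}} [IrreducibleSpace ↥Y] (f : X ⟶ Y)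
    [Flat f] [LocallyOfFiniteType f] [LocallyQuasiFinite f] (x : X) :
    f.base x = genericPoint Y ↔ closure ({x} : Set ↥X) ∈ irreducibleComponents ↥X := by
  constructor
  · intro h
    exact TopComp.closure_mem_irreducibleComponents (EtComp.G f) (EtComp.F1 f) (EtComp.F2 f)
      (show x ∈ EtComp.G f from h)
  · intro h
    obtain ⟨ξ, hξ, hcl⟩ := TopComp.exists_of_mem_irreducibleComponents (EtComp.G f) (EtComp.F1 f) h
    have h1 : x ⤳ ξ := by
      rw [specializes_iff_mem_closure, hcl]; exact subset_closure rfl
    have h2 : ξ ⤳ x := by
      rw [specializes_iff_mem_closure, ← hcl]; exact subset_closure rfl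
    have h3 : x = ξ := h1.antisymm h2 |>.eq
    rw [h3]; exact hξ

end Groth.Agent.S5048
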