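import Groth.Statements.S5050
import Mathlib.RingTheory.Filtration
-- import your own Groth.Agent.* helpers here

set_option autoImplicit false
universe u v
open CInt

namespace Groth.Agent.S5050

/-- Let A be a Noetherian ring, N a finitely generated A-module, E and F submodules of N and Q an ideal
of A. For every natural number k there is h > 0 with E ⊓ (F ⊔ Q^h N) ≤ (E ⊓ F) ⊔ Q^k N. -/
theorem result {A : Type u} [CommRing A] [IsNoetherianRing A] {N : Type v} [AddCommGroup N]
    [Module A N] [Module.Finite A N] (E F : Submodule A N) (Q : Ideal A) (k : ℕ) :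
    ∃ h : ℕ, 0 < h ∧ E ⊓ (F ⊔ Q ^ h • (⊤ : Submodule A N)) ≤ (E ⊓ F) ⊔ Q ^ k • (⊤ : Submodule A N) := by
  classical
  obtain ⟨c, hc⟩ := Ideal.exists_pow_inf_eq_pow_smul Q (E.map F.mkQ)
  refine ⟨c + k + 1, Nat.succ_pos _, ?_⟩
  rintro x ⟨hxE, hxFQ⟩
  obtain ⟨f, hf, y, hy, rfl⟩ := Submodule.mem_sup.mp hxFQ
  -- image of x in N ⧸ F
  have h1 : F.mkQ (f + y) ∈ Q ^ (c + k + 1) • (⊤ : Submodule A (N ⧸ F)) ⊓ E.map F.mkQ := by
    refine ⟨?_, Submodule.mem_map_of_mem hxE⟩
    have : F.mkQ (f + y) = F.mkQ y := by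
      rw [map_add, show F.mkQ f = 0 from (Submodule.Quotient.mk_eq_zero F).mpr hf, zero_add]
    rw [this]
    have h2 : (Q ^ (c + k + 1) • (⊤ : Submodule A N)).map F.mkQ
        = Q ^ (c + k + 1) • (⊤ : Submodule A (N ⧸ F)) := by
      rw [Submodule.map_smul'', Submodule.map_top, Submodule.range_mkQ]
    rw [← h2]
    exact Submodule.mem_map_of_mem hy
  rw [hc (c + k + 1) (by omega)] at h1
  have h3 : Q ^ (c + k + 1 - c) • (Q ^ c • (⊤ : Submodule A (N ⧸ F)) ⊓ E.map F.mkQ)
      ≤ (Q ^ k • E).map F.mkQ := by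
    rw [Submodule.map_smul'']
    have : c + k + 1 - c = k + 1 := by omega
    rw [this]
    refine (Submodule.smul_mono (Ideal.pow_le_pow_right (Nat.le_succ k)) inf_le_right)
  obtain ⟨e', he', hee⟩ := h3 h1
  have hdiff : f + y - e' ∈ F := by
    have : F.mkQ (f + y - e') = 0 := by rw [map_sub, hee, sub_self]
    exact (Submodule.Quotient.mk_eq_zero F).mp this
  have he'E : e' ∈ E := Submodule.smul_le_right he'
  have he'Q : e' ∈ Q ^ k • (⊤ : Submodule A N) :=
    Submodule.smul_mono le_rfl le_top he'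
  have : f + y = (f + y - e') + e' := by abel
  rw [this]
  exact Submodule.add_mem_sup ⟨E.sub_mem hxE he'E, hdiff⟩ he'Q

end Groth.Agent.S5050
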