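import Groth.Statements.S5062
import Groth.Agent.Lib.Helper8.Hens.StrictSection

set_option autoImplicit false
open CategoryTheory AlgebraicGeometry
universe u
open Hensel

namespace Groth.Agent.S5062

open Groth.Agent.H8.Hens in
theorem result (A : Type u) [CommRing A] [IsLocalRing A] :
    (HenselianLocalRing A ∧ IsSepClosed (IsLocalRing.ResidueField A)) ↔
      ∀ (X : Scheme.{u}) (f : X ⟶ Spec (CommRingCat.of A)), Etale f →
        ∀ x : X, f.base x = IsLocalRing.closedPoint A →
          ∃ u : Spec (CommRingCat.of A) ⟶ X, u ≫ f = 𝟙 _ ∧ u.base (IsLocalRing.closedPoint A) = x := by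
  constructor
  · rintro ⟨hH, hS⟩ X f hf x hx
    obtain ⟨V, hV, hxV⟩ : ∃ V : X.Opens, IsAffineOpen V ∧ x ∈ V := by
      obtain ⟨_, ⟨V, hV, rfl⟩, hxV, -⟩ :=
        X.isBasis_affineOpens.exists_subset_of_mem_open (Set.mem_univ x) isOpen_univ
      exact ⟨V, hV, hxV⟩
    let φ : CommRingCat.of A ⟶ Γ(X, V) := Spec.preimage (hV.fromSpec ≫ f)
    have hφ : Spec.map φ = hV.fromSpec ≫ f := Spec.map_preimage _
    have hφet : φ.hom.Etale := by
      have : Etale (Spec.map φ) := by rw [hφ]; infer_instance
      exact (HasRingHomProperty.Spec_iff (P := @Etale)).mp this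
    letI : Algebra A Γ(X, V) := φ.hom.toAlgebra
    haveI : Algebra.Etale A Γ(X, V) := hφet
    let q : PrimeSpectrum Γ(X, V) := hV.primeIdealOf ⟨x, hxV⟩
    have hqx : hV.fromSpec q = x := hV.fromSpec_primeIdealOf ⟨x, hxV⟩
    have hq : q.asIdeal.comap (algebraMap A Γ(X, V)) = IsLocalRing.maximalIdeal A := by
      have h1 : (Spec.map φ) q = IsLocalRing.closedPoint A := by
        rw [hφ, Scheme.Hom.comp_apply, hqx]; exact hx
      exact congrArg PrimeSpectrum.asIdeal h1
    obtain ⟨g, hg⟩ := StrictSec.exists_algHom_comap_eq A Γ(X, V) q.asIdeal hq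
    refine ⟨Spec.map (CommRingCat.ofHom g.toRingHom) ≫ hV.fromSpec, ?_, ?_⟩
    · rw [Category.assoc, ← hφ, ← Spec.map_comp]
      have : φ ≫ CommRingCat.ofHom g.toRingHom = 𝟙 _ := by
        ext a
        exact g.commutes a
      rw [this, Spec.map_id]
    · rw [Scheme.Hom.comp_apply]
      have : (Spec.map (CommRingCat.ofHom g.toRingHom)) (IsLocalRing.closedPoint A) = q := by
        apply PrimeSpectrum.ext
        exact hg
      rw [this, hqx]
  · intro H
    apply StrictSec.henselian_and_isSepClosed_of_sections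
    intro B _ _ _ q _ hq
    have hf : Etale (Spec.map (CommRingCat.ofHom (algebraMap A B))) := by
      rw [HasRingHomProperty.Spec_iff (P := @Etale)]
      exact (RingHom.etale_algebraMap).mpr inferInstance
    obtain ⟨u, hu1, hu2⟩ := H (Spec (CommRingCat.of B)) (Spec.map (CommRingCat.ofHom (algebraMap A B)))
      hf ⟨q, inferInstance⟩ (by
        apply PrimeSpectrum.ext
        exact hq)
    let γ : CommRingCat.of B ⟶ CommRingCat.of A := Spec.preimage u
    have hγ : Spec.map γ = u := Spec.map_preimage u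
    have hcomp : CommRingCat.ofHom (algebraMap A B) ≫ γ = 𝟙 _ := by
      apply Spec.map_injective
      rw [Spec.map_comp, hγ, hu1, Spec.map_id]
    let g : B →ₐ[A] A :=
      { γ.hom with
        commutes' := fun a => by
          have := congrArg (fun h => h.hom a) hcomp
          exact this }
    refine ⟨g, ?_⟩
    have h1 : (Spec.map γ) (IsLocalRing.closedPoint A) = ⟨q, inferInstance⟩ := by
      rw [hγ]; exact hu2
    exact congrArg PrimeSpectrum.asIdeal h1

end Groth.Agent.S5062
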