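import Groth.Statements.S5063
import Mathlib
import Groth.Agent.Lib.Helper1.FlatLocalUnram
import Groth.Agent.Lib.Helper1.EtLocFinal

set_option autoImplicit false
open CategoryTheory CategoryTheory.Limits AlgebraicGeometry
universe u
open Unram

namespace Groth.Agent.S5063

open Groth.Agent.H1 in
theorem exists_etale_closedImmersion {X Y : Scheme.{u}} (f : X ⟶ Y) [LocallyOfFiniteType f]
    [FormallyUnramified f] (x : X) :
    ∃ (Y' : Scheme.{u}) (g : Y' ⟶ Y) (U : (pullback f g).Opens), Etale g ∧
      IsClosedImmersion (U.ι ≫ pullback.snd f g) ∧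
      x ∈ (pullback.fst f g).base '' (U : Set ↥(pullback f g)) := by
  let W : X.Opens := ⊤
  haveI : IsIso W.ι := by
    have : W.ι = X.topIso.hom := rfl
    rw [this]; infer_instance
  haveI : LocallyOfFiniteType (W.ι ≫ f) := inferInstance
  haveI : FormallyUnramified (W.ι ≫ f) :=
    MorphismProperty.comp_mem _ _ _ inferInstance inferInstance
  obtain ⟨U, g, u, hg, hgu, n, lab, V, h1, h2, h3⟩ :=
    EtLocFinal.nonsep_main (Q := @IsClosedImmersion)
      (fun ψ V hψ => by haveI := hψ; infer_instance) f (f x) (fun _ : Unit => x)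
      (fun _ _ _ => rfl) (fun _ => rfl) W (fun _ => trivial)
      (by
        intro U g V u v hfin hv huniq hres
        haveI := hfin
        haveI : FormallyUnramified (pullback.snd (W.ι ≫ f) g) :=
          MorphismProperty.pullback_snd (P := @FormallyUnramified) _ _ inferInstance
        haveI : FormallyUnramified (V.ι ≫ pullback.snd (W.ι ≫ f) g) :=
          MorphismProperty.comp_mem _ _ _ inferInstance inferInstance
        exact SchemeCI.exists_isClosedImmersion _ u v hv huniq hres)
  obtain ⟨w, hw1, hw2⟩ := Scheme.Pullback.exists_preimage_pullback x u hgu.symm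
  obtain ⟨k, -, hk⟩ := h3 w () hw2 hw1
  exact ⟨U, g, V k, hg, (h1 k).1, w, hk, hw1⟩

/-- Let f : X ⟶ Y be locally of finite presentation. If f is unramified then there are étale morphisms
g_a : Y'_a ⟶ Y and opens U_a of the fibre products X ×_Y Y'_a whose images under the first
projections cover X, such that each U_a ⟶ Y'_a (inclusion followed by the second projection) is a
closed immersion. Conversely, the existence of such a family with the g_a only assumed flat implies
that f is unramified. -/
theorem result {X Y : Scheme.{u}} (f : X ⟶ Y) [LocallyOfFinitePresentation f] :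
    (FormallyUnramified f → ∃ (ι : Type u) (Y' : ι → Scheme.{u}) (g : ∀ a, Y' a ⟶ Y) (U : ∀ a, (pullback f (g a)).Opens),
      (∀ a, Etale (g a)) ∧ (∀ x : X, ∃ a, x ∈ (pullback.fst f (g a)).base '' (U a : Set ↥(pullback f (g a)))) ∧
        ∀ a, IsClosedImmersion ((U a).ι ≫ pullback.snd f (g a))) ∧
    ((∃ (ι : Type u) (Y' : ι → Scheme.{u}) (g : ∀ a, Y' a ⟶ Y) (U : ∀ a, (pullback f (g a)).Opens),
      (∀ a, Flat (g a)) ∧ (∀ x : X, ∃ a, x ∈ (pullback.fst f (g a)).base '' (U a : Set ↥(pullback f (g a)))) ∧
        ∀ a, IsClosedImmersion ((U a).ι ≫ pullback.snd f (g a))) → FormallyUnramified f) := by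
  constructor
  · intro hf
    choose Y' g U hg hU hx using fun x : X => exists_etale_closedImmersion f x
    exact ⟨X, Y', g, U, hg, fun x => ⟨x, hx x⟩, hU⟩
  · rintro ⟨ι, Y', g, U, hg, hcov, hU⟩
    refine Groth.Agent.H1.FlatLocalUnram.formallyUnramified_of_flat_local f fun x => ?_
    obtain ⟨a, hx⟩ := hcov x
    have := hU a
    exact ⟨Y' a, g a, U a, hg a, inferInstance, hx⟩

end Groth.Agent.S5063
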