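import Groth.Statements.S5066
import Groth.Agent.Lib.Helper8.Hens.EtaleLift
import Groth.Agent.Lib.Helper8.Hens.Factor
-- import your own Groth.Agent.* helpers here

set_option autoImplicit false
universe u
open Hensel

namespace Groth.Agent.S5066

/-- Case of a local ring, affine étale schemes: a local ring A with maximal ideal m is henselian if and
only if, for every finite A-algebra C and every étale A-algebra E, composing with the projection C →
C/mC is a bijection from the set of A-algebra homomorphisms E → C onto the set of A-algebra
homomorphisms E → C/mC. -/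
theorem result (A : Type u) [CommRing A] [IsLocalRing A] :
    HenselianLocalRing A ↔
      ∀ (C : Type u) [CommRing C] [Algebra A C] [Module.Finite A C] (E : Type u) [CommRing E] [Algebra A E] [Algebra.Etale A E],
        Function.Bijective (fun φ : E →ₐ[A] C =>
          (Ideal.Quotient.mkₐ A (Ideal.map (algebraMap A C) (IsLocalRing.maximalIdeal A))).comp φ) := by
  constructor
  · intro hA C _ _ _ E _ _ _
    haveI : Algebra.IsIntegral A C := Algebra.IsIntegral.of_finite A C
    exact Groth.Agent.H8.Hens.bijective_comp_mk_of_finite E C _
      (Groth.Agent.H8.Hens.map_maximalIdeal_le_jacobson_bot C)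
  · intro h
    refine Groth.Agent.H8.Hens.henselianLocalRing_of_etale_retraction A ?_
    intro S _ _ _ q _ hlo hsurj
    set m' : Ideal A := Ideal.map (algebraMap A A) (IsLocalRing.maximalIdeal A) with hm'
    have hm'eq : m' = IsLocalRing.maximalIdeal A := by
      rw [hm']; exact Ideal.map_id _
    let ρ : A ⧸ m' →ₐ[A] q.ResidueField :=
      Ideal.Quotient.liftₐ m' (Algebra.ofId A q.ResidueField) (fun a ha => by
        rw [hm'eq] at ha
        show algebraMap A q.ResidueField a = 0
        rw [IsScalarTower.algebraMap_apply A S q.ResidueField, Ideal.algebraMap_residueField_eq_zero]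
        have := hlo.over
        rw [this] at ha
        exact ha)
    have hρsurj : Function.Surjective ρ := by
      intro y
      obtain ⟨a, rfl⟩ := hsurj y
      exact ⟨algebraMap A _ a, by rw [AlgHom.commutes]⟩
    haveI : m'.IsMaximal := hm'eq ▸ IsLocalRing.maximalIdeal.isMaximal A
    have hρinj : Function.Injective ρ := by
      letI : Field (A ⧸ m') := Ideal.Quotient.field m'
      exact (ρ : A ⧸ m' →+* q.ResidueField).injective
    let eρ : (A ⧸ m') ≃ₐ[A] q.ResidueField := AlgEquiv.ofBijective ρ ⟨hρinj, hρsurj⟩
    let ψ : S →ₐ[A] A ⧸ m' :=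
      (eρ.symm : q.ResidueField →ₐ[A] A ⧸ m').comp (IsScalarTower.toAlgHom A S q.ResidueField)
    obtain ⟨φ, -⟩ := (h A S).2 ψ
    exact ⟨φ⟩

end Groth.Agent.S5066
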