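import Groth.Statements.S5072
import Groth.Agent.Lib.Helper8.Hens.LocalTensor
-- import your own Groth.Agent.* helpers here

set_option autoImplicit false
open scoped TensorProduct
universe u
open Hensel

namespace Groth.Agent.S5072

open Groth.Agent.H8.Hens.LT IsLocalRing in

/-- Case of a local ring A and a local finite A-algebra B: let S be a strict henselization of A and T a
strict henselization of B. Then there is a maximal ideal q of B ⊗_A S such that T is isomorphic, as
a B-algebra, to the local ring (B ⊗_A S)_q. -/
theorem result (A B S T : Type u) [CommRing A] [IsLocalRing A]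
    [CommRing B] [IsLocalRing B] [Algebra A B] [Module.Finite A B]
    [CommRing S] [IsLocalRing S] [Algebra A S] [IsLocalHom (algebraMap A S)] [Hensel.IsStrictHenselization A S]
    [CommRing T] [IsLocalRing T] [Algebra B T] [IsLocalHom (algebraMap B T)] [Hensel.IsStrictHenselization B T] :
    ∃ (q : Ideal (B ⊗[A] S)) (_ : q.IsMaximal), Nonempty (Localization.AtPrime q ≃ₐ[B] T) := by
  classical
  rename_i hS _ _ _ _ hT
  haveI : IsLocalHom (algebraMap A B) := isLocalHom_of_finite A B
  haveI : HenselianLocalRing T := hT.henselian
  haveI : IsSepClosed (ResidueField T) := hT.isSepClosure.sep_closed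
  haveI : HenselianLocalRing S := hS.henselian
  haveI : IsSepClosed (ResidueField S) := hS.isSepClosure.sep_closed
  haveI : IsLocalHom ((algebraMap B T).comp (algebraMap A B)) := RingHom.isLocalHom_comp _ _
  obtain ⟨ι, hι, hιloc⟩ := exists_lift_of_isSepClosed (A := A) (S := S) T
    ((algebraMap B T).comp (algebraMap A B))
  letI : Algebra A T := ((algebraMap B T).comp (algebraMap A B)).toAlgebra
  haveI : IsScalarTower A B T := IsScalarTower.of_algebraMap_eq fun _ => rfl
  letI : Algebra S T := ι.toAlgebra
  haveI : IsScalarTower A S T :=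
    IsScalarTower.of_algebraMap_eq fun a => (congrArg (fun w => w a) hι).symm
  haveI : IsLocalHom (algebraMap S T) := hιloc
  letI : Algebra S (B ⊗[A] S) := Algebra.TensorProduct.rightAlgebra
  haveI : Module.Finite S (B ⊗[A] S) := finite_tensor_right A B S
  have hcomap : (Q A B S T).comap (algebraMap S (B ⊗[A] S)) = maximalIdeal S := by
    have h1 : (Q A B S T).comap (algebraMap S (B ⊗[A] S)) =
        (maximalIdeal T).comap (algebraMap S T) := by
      ext s
      have h0 : phi A B S T (algebraMap S (B ⊗[A] S) s) = algebraMap S T s := by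
        show phi A B S T ((1 : B) ⊗ₜ[A] s) = algebraMap S T s
        simp [phi]
      rw [Ideal.mem_comap, Ideal.mem_comap, Ideal.mem_comap, h0]
    rw [h1]
    exact ((local_hom_TFAE (algebraMap S T)).out 0 4).mp hιloc
  haveI : (Q A B S T).LiesOver (maximalIdeal S) := ⟨hcomap.symm⟩
  have hmax : (Q A B S T).IsMaximal := by
    apply Ideal.isMaximal_of_isIntegral_of_isMaximal_comap (R := S)
    rw [hcomap]
    infer_instance
  obtain ⟨h1, h2⟩ := strictHenselian_localization_of_finite S (B ⊗[A] S) (Q A B S T)
  have hbij := bijective_vMap A B S T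
  refine ⟨Q A B S T, hmax, ⟨AlgEquiv.ofBijective
    { vMap A B S T with
      commutes' := fun b => ?_ } hbij⟩⟩
  show vMap A B S T (algebraMap B (Localization.AtPrime (Q A B S T)) b) = algebraMap B T b
  rw [IsScalarTower.algebraMap_apply B (B ⊗[A] S) (Localization.AtPrime (Q A B S T)),
    vMap_algebraMap]
  simp [phi, Algebra.TensorProduct.algebraMap_apply]

end Groth.Agent.S5072
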