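import Groth.Statements.S5073
import Mathlib.RingTheory.Ideal.MinimalPrime.Localization
import Mathlib.RingTheory.Ideal.MinimalPrime.Noetherian
-- import your own Groth.Agent.* helpers here

set_option autoImplicit false
universe u
open EGA418

namespace Groth.Agent.S5073

/-- Let A be a Noetherian local ring, p a prime ideal and x an element of A. Then there is an element x'
of A whose image in A_p equals that of x and which belongs to no minimal prime ideal of A not
contained in p. -/
theorem result (A : Type u) [CommRing A] [IsNoetherianRing A] [IsLocalRing A]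
    (p : Ideal A) [p.IsPrime] (x : A) :
    ∃ x' : A, algebraMap A (Localization.AtPrime p) x' = algebraMap A (Localization.AtPrime p) x ∧
      ∀ q ∈ minimalPrimes A, ¬ q ≤ p → x' ∉ q := by
  classical
  set K : Ideal A := RingHom.ker (algebraMap A (Localization.AtPrime p)) with hK
  have hfin : (minimalPrimes A).Finite := minimalPrimes.finite_of_isNoetherianRing A
  let S : Finset (Ideal A) := hfin.toFinset.filter (fun q => ¬ q ≤ p)
  have hS : ∀ q, q ∈ S ↔ q ∈ minimalPrimes A ∧ ¬ q ≤ p := by
    intro q; simp [S]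
  have hSprime : ∀ q ∈ S, q.IsPrime := fun q hq => ((hS q).mp hq).1.1.1
  -- Claim 1: K is not contained in any q ∈ S
  have claim1 : ∀ q ∈ S, ¬ K ≤ q := by
    intro q hq hKq
    obtain ⟨hqmin, hqp⟩ := (hS q).mp hq
    have hqK : q ∈ ((⊥ : Ideal (Localization.AtPrime p)).comap
        (algebraMap A (Localization.AtPrime p))).minimalPrimes := by
      refine ⟨⟨hqmin.1.1, ?_⟩, fun r hr hrq => hqmin.2 ⟨hr.1, bot_le⟩ hrq⟩
      exact hKq
    obtain ⟨p', hp', -, hcomap⟩ := Ideal.exists_comap_eq_of_mem_minimalPrimes _ q hqK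
    apply hqp
    rw [← hcomap]
    intro a ha
    by_contra hap
    have hunit : IsUnit (algebraMap A (Localization.AtPrime p) a) :=
      IsLocalization.map_units (Localization.AtPrime p) (⟨a, hap⟩ : p.primeCompl)
    exact hp'.ne_top (Ideal.eq_top_of_isUnit_mem _ (Ideal.mem_comap.mp ha) hunit)
  let J : Finset (Ideal A) := S.filter (fun q => x ∈ q)
  let J' : Finset (Ideal A) := S.filter (fun q => x ∉ q)
  let I0 : Ideal A := K * J'.prod id
  -- Claim 2
  have claim2 : ∃ a ∈ I0, ∀ q ∈ J, a ∉ q := by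
    by_contra hcon
    push Not at hcon
    have hsub : ((I0 : Set A) ⊆ ⋃ q ∈ (↑J : Set (Ideal A)), ((id q : Ideal A) : Set A)) := by
      intro a ha
      obtain ⟨q, hqJ, haq⟩ := hcon a ha
      exact Set.mem_biUnion (show q ∈ (↑J : Set (Ideal A)) from hqJ) haq
    have hpr : ∀ q ∈ J, q ≠ (⊥ : Ideal A) → q ≠ (⊥ : Ideal A) → (id q : Ideal A).IsPrime :=
      fun q hq _ _ => hSprime q (Finset.mem_of_mem_filter q hq)
    obtain ⟨q, hqJ, hle⟩ := (Ideal.subset_union_prime (s := J) (f := id) (⊥ : Ideal A) (⊥ : Ideal A)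
      hpr (I := I0)).mp hsub
    have hqS : q ∈ S := Finset.mem_of_mem_filter q hqJ
    have hxq : x ∈ q := (Finset.mem_filter.mp hqJ).2
    have hqprime := hSprime q hqS
    rcases (hqprime.mul_le).mp hle with h | h
    · exact claim1 q hqS h
    · obtain ⟨q', hq'J', hq'q⟩ := (hqprime.prod_le).mp h
      have hq'S : q' ∈ S := Finset.mem_of_mem_filter q' hq'J'
      have hxq' : x ∉ q' := (Finset.mem_filter.mp hq'J').2
      have hqmin := ((hS q).mp hqS).1
      have hq'min := ((hS q').mp hq'S).1
      have : q ≤ q' := hqmin.2 ⟨hq'min.1.1, bot_le⟩ hq'q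
      exact hxq' (this hxq)
  obtain ⟨a, haI0, hanot⟩ := claim2
  have haK : a ∈ K := (Ideal.mul_le_left : K * J'.prod id ≤ K) haI0
  have haJ' : ∀ q ∈ J', a ∈ q := by
    intro q hq
    have h1 : a ∈ J'.prod id := (Ideal.mul_le_right : K * J'.prod id ≤ J'.prod id) haI0
    have h2 := Ideal.prod_le_inf h1
    exact (Finset.inf_le hq : J'.inf id ≤ id q) h2
  refine ⟨x + a, ?_, ?_⟩
  · rw [map_add, (RingHom.mem_ker).mp haK, add_zero]
  · intro q hqmin hqp hmem
    have hqS : q ∈ S := (hS q).mpr ⟨hqmin, hqp⟩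
    by_cases hxq : x ∈ q
    · have hqJ : q ∈ J := Finset.mem_filter.mpr ⟨hqS, hxq⟩
      apply hanot q hqJ
      have : a = (x + a) - x := by ring
      rw [this]
      exact q.sub_mem hmem hxq
    · have hqJ' : q ∈ J' := Finset.mem_filter.mpr ⟨hqS, hxq⟩
      apply hxq
      have : x = (x + a) - a := by ring
      rw [this]
      exact q.sub_mem hmem (haJ' q hqJ')

end Groth.Agent.S5073
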