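import Groth.Statements.S5078
import Mathlib.RingTheory.Finiteness.Cardinality
import Mathlib.Algebra.Module.Projective
-- import your own Groth.Agent.* helpers here

set_option autoImplicit false
universe u v
open Hensel

namespace Groth.Agent.S5078

theorem map_mem_pow_smul_top {A : Type u} [CommRing A] (I : Ideal A)
    {P : Type*} {Q : Type*} [AddCommGroup P] [AddCommGroup Q] [Module A P]
    [Module A Q] (φ : P →ₗ[A] Q) (k : ℕ) (x : P)
    (hx : x ∈ I ^ k • (⊤ : Submodule A P)) : φ x ∈ I ^ k • (⊤ : Submodule A Q) := by
  have h1 : φ x ∈ (I ^ k • (⊤ : Submodule A P)).map φ := Submodule.mem_map_of_mem hx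
  rw [Submodule.map_smul''] at h1
  exact Submodule.smul_mono le_rfl le_top h1

/-- Let A be a ring, I an ideal such that A is I-adically separated and complete, and M a finitely
generated projective A-module. Then M is I-adically separated and complete. -/
theorem result {A : Type u} [CommRing A] (I : Ideal A) [IsAdicComplete I A]
    (M : Type v) [AddCommGroup M] [Module A M] [Module.Finite A M] [Module.Projective A M] :
    IsAdicComplete I M := by
  classical
  obtain ⟨n, f, hf⟩ := Module.Finite.exists_fin' A M
  obtain ⟨g, hg⟩ := Module.projective_lifting_property f LinearMap.id hf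
  have hfg : ∀ x, f (g x) = x := fun x => by
    have := LinearMap.congr_fun hg x
    simpa using this
  have hcoord : ∀ (k : ℕ) (y : Fin n → A), y ∈ I ^ k • (⊤ : Submodule A (Fin n → A)) →
      ∀ j, y j ∈ I ^ k := by
    intro k y hy j
    have := map_mem_pow_smul_top I (LinearMap.proj (R := A) (φ := fun _ : Fin n => A) j) k y hy
    simpa using this
  have hcoord' : ∀ (k : ℕ) (y : Fin n → A), (∀ j, y j ∈ I ^ k) →
      y ∈ I ^ k • (⊤ : Submodule A (Fin n → A)) := by
    intro k y hy
    rw [pi_eq_sum_univ y]
    refine Submodule.sum_mem _ fun j _ => ?_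
    exact Submodule.smul_mem_smul (hy j) Submodule.mem_top
  refine { toIsHausdorff := ⟨?_⟩, toIsPrecomplete := ⟨?_⟩ }
  · intro x hx
    have h0 : g x = 0 := by
      funext j
      refine IsHausdorff.haus (inferInstance : IsHausdorff I A) _ fun k => ?_
      rw [SModEq.zero]
      have h1 : g x ∈ I ^ k • (⊤ : Submodule A (Fin n → A)) :=
        map_mem_pow_smul_top I g k x (SModEq.zero.mp (hx k))
      have := hcoord k _ h1 j
      simpa using this
    rw [← hfg x, h0, map_zero]
  · intro s hs
    have hC : ∀ j, ∃ L : A, ∀ k, (g (s k)) j ≡ L [SMOD (I ^ k • ⊤ : Submodule A A)] := by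
      intro j
      refine IsPrecomplete.prec (inferInstance : IsPrecomplete I A) ?_
      intro a b hab
      rw [SModEq.sub_mem]
      have h1 : s a - s b ∈ I ^ a • (⊤ : Submodule A M) := SModEq.sub_mem.mp (hs hab)
      have h2 := hcoord a _ (map_mem_pow_smul_top I g a _ h1) j
      simpa using h2
    choose L hL using hC
    refine ⟨f L, fun k => ?_⟩
    rw [SModEq.sub_mem]
    have h1 : g (s k) - L ∈ I ^ k • (⊤ : Submodule A (Fin n → A)) := by
      refine hcoord' k _ fun j => ?_
      have := SModEq.sub_mem.mp (hL j k)
      simpa using this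
    have h2 := map_mem_pow_smul_top I f k _ h1
    rwa [map_sub, hfg] at h2

end Groth.Agent.S5078
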