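import Groth.Statements.S5081
import Mathlib.Algebra.Polynomial.Derivation
import Mathlib.RingTheory.Kaehler.Basic
-- import your own Groth.Agent.* helpers here

set_option autoImplicit false
universe u
open Unram

namespace Groth.Agent.S5081

/-- Let B be a finite A-algebra generated by a single element u and F a polynomial with coefficients in
A such that F(u) = 0. Then the ideal generated by F'(u) is contained in the annihilator of the
module of differentials of B over A, and equals it when the kernel of the surjection A[T] → B
sending T to u is generated by F. -/
theorem result (A B : Type u) [CommRing A] [CommRing B] [Algebra A B]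
    [Module.Finite A B] (u : B) (hu : Algebra.adjoin A ({u} : Set B) = ⊤) (F : Polynomial A) (hF : Polynomial.aeval u F = 0) :
    Ideal.span {Polynomial.aeval u (Polynomial.derivative F)} ≤ Module.annihilator B (KaehlerDifferential A B) ∧
      (RingHom.ker (Polynomial.aeval u : Polynomial A →ₐ[A] B) = Ideal.span {F} →
        Module.annihilator B (KaehlerDifferential A B) = Ideal.span {Polynomial.aeval u (Polynomial.derivative F)}) := by
  classical
  have hsurj : Function.Surjective (Polynomial.aeval u : Polynomial A →ₐ[A] B) := by
    rw [← AlgHom.range_eq_top, ← Algebra.adjoin_singleton_eq_range_aeval, hu]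
  set c : B := Polynomial.aeval u (Polynomial.derivative F) with hc
  have hcDu : c • KaehlerDifferential.D A B u = 0 := by
    rw [hc, ← Derivation.comp_aeval_eq, hF, map_zero]
  have part1 : c ∈ Module.annihilator B (KaehlerDifferential A B) := by
    rw [Module.mem_annihilator]
    intro ω
    have hω : ω ∈ Submodule.span B (Set.range (KaehlerDifferential.D A B)) := by
      rw [KaehlerDifferential.span_range_derivation]; exact Submodule.mem_top
    induction hω using Submodule.span_induction with
    | mem x hx =>
      obtain ⟨b, rfl⟩ := hx
      obtain ⟨g, rfl⟩ := hsurj b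
      rw [Derivation.comp_aeval_eq, smul_comm, hcDu, smul_zero]
    | zero => exact smul_zero _
    | add x y _ _ hx hy => rw [smul_add, hx, hy, add_zero]
    | smul b x _ hx => rw [smul_comm, hx, smul_zero]
  refine ⟨(Ideal.span_singleton_le_iff_mem _).mpr part1, fun hker => ?_⟩
  refine le_antisymm ?_ ((Ideal.span_singleton_le_iff_mem _).mpr part1)
  intro b hb
  rw [Module.mem_annihilator] at hb
  set I : Ideal B := Ideal.span {c} with hI
  -- the map d₀ : B → B ⧸ I
  let sec : B → Polynomial A := Function.surjInv hsurj
  have hsec : ∀ b, Polynomial.aeval u (sec b) = b := Function.surjInv_eq hsurj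
  let d₀ : B → B ⧸ I := fun b => Ideal.Quotient.mk I (Polynomial.aeval u (Polynomial.derivative (sec b)))
  have key : ∀ g : Polynomial A,
      Ideal.Quotient.mk I (Polynomial.aeval u (Polynomial.derivative g)) = d₀ (Polynomial.aeval u g) := by
    intro g
    have h1 : g - sec (Polynomial.aeval u g) ∈ RingHom.ker (Polynomial.aeval u : Polynomial A →ₐ[A] B) := by
      rw [RingHom.mem_ker, map_sub, hsec, sub_self]
    rw [hker, Ideal.mem_span_singleton'] at h1
    obtain ⟨h, hh⟩ := h1
    show _ = Ideal.Quotient.mk I (Polynomial.aeval u (Polynomial.derivative (sec (Polynomial.aeval u g))))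
    generalize sec (Polynomial.aeval u g) = g₀ at hh ⊢
    have h2 : g = g₀ + h * F := by rw [hh]; ring
    subst h2
    rw [Ideal.Quotient.eq]
    rw [Polynomial.derivative_add, Polynomial.derivative_mul, map_add, map_add, map_mul, map_mul, hF,
      mul_zero, zero_add, add_sub_cancel_left]
    exact Ideal.mul_mem_left _ _ (Ideal.subset_span rfl)
  let L : B →ₗ[A] B ⧸ I :=
    { toFun := d₀
      map_add' := fun x y => by
        have := key (sec x + sec y)
        have e : Polynomial.aeval u (sec x + sec y) = x + y := by rw [map_add, hsec, hsec]
        rw [e] at this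
        rw [← this, Polynomial.derivative_add, map_add, map_add]
      map_smul' := fun a x => by
        have := key (Polynomial.C a * sec x)
        have e : Polynomial.aeval u (Polynomial.C a * sec x) = a • x := by
          rw [map_mul, Polynomial.aeval_C, hsec, ← Algebra.smul_def]
        rw [e] at this
        rw [← this, Polynomial.derivative_C_mul, map_mul, Polynomial.aeval_C, ← Algebra.smul_def]
        rfl }
  have hL : ∀ x y : B, L (x * y) = x • L y + y • L x := by
    intro x y
    have := key (sec x * sec y)
    have e : Polynomial.aeval u (sec x * sec y) = x * y := by rw [map_mul, hsec, hsec]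
    rw [e] at this
    show d₀ (x * y) = x • d₀ y + y • d₀ x
    rw [← this, Polynomial.derivative_mul, map_add, map_mul, map_mul, hsec, hsec, map_add]
    show _ = x • Ideal.Quotient.mk I _ + y • Ideal.Quotient.mk I _
    rw [Algebra.smul_def, Algebra.smul_def, add_comm]
    simp only [Ideal.Quotient.algebraMap_eq, map_mul]
    ring
  let d : Derivation A B (B ⧸ I) := Derivation.mk' L hL
  have hdu : d u = 1 := by
    have := key Polynomial.X
    rw [Polynomial.aeval_X, Polynomial.derivative_X, map_one, map_one] at this
    exact this.symm
  have h3 := hb (KaehlerDifferential.D A B u)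
  have h4 : d.liftKaehlerDifferential (b • KaehlerDifferential.D A B u) = 0 := by rw [h3, map_zero]
  rw [map_smul, Derivation.liftKaehlerDifferential_comp_D, hdu, Algebra.smul_def, mul_one,
    Ideal.Quotient.algebraMap_eq, Ideal.Quotient.eq_zero_iff_mem] at h4
  exact h4

end Groth.Agent.S5081
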