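import Groth.Statements.S5085
-- import your own Groth.Agent.* helpers here

set_option autoImplicit false
universe u
open CategoryTheory CategoryTheory.Limits AlgebraicGeometry TopologicalSpace
open Mero

namespace Groth.Agent.S5085

/-- Let X be a scheme, U an open subset and V an open subset of U which is schematically dense in U (for
every open W ⊆ U, restriction of functions from W to W ∩ V is injective). Then restriction of
sections of the sheaf of meromorphic functions K_X from U to V is injective: the canonical map from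
meromorphic functions to pseudo-functions is injective. -/
theorem result (X : Scheme.{u}) (U V : X.Opens) (hVU : V ≤ U)
    (hV : ∀ W : X.Opens, W ≤ U →
      Function.Injective ⇑(X.presheaf.map (homOfLE (inf_le_left : W ⊓ V ≤ W)).op)) :
    Function.Injective ⇑((Mero.kmod X).presheaf.map (homOfLE hVU).op) := by
  rw [injective_iff_map_eq_zero ((Mero.kmod X).presheaf.map (homOfLE hVU).op).hom]
  intro s hs
  refine Subtype.ext (funext fun x => ?_)
  obtain ⟨W, hxW, i, a, b, hab⟩ := s.2 x
  have hWU : W ≤ U := i.le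
  -- the germ of a vanishes at every point of W ⊓ V
  have hgerm : ∀ y : ↥(W ⊓ V), X.presheaf.germ W y.1 y.2.1 a = 0 := by
    intro y
    have h1 : s.1 ⟨y.1, hVU y.2.2⟩ = 0 := by
      have := congrArg (fun t => t.1 ⟨y.1, y.2.2⟩) hs
      exact this
    have h2 := hab ⟨y.1, y.2.1⟩
    have h3 : (LocalizedModule.mk (X.presheaf.germ W y.1 y.2.1 a) (regGerm ⟨y.1, y.2.1⟩ b) :
        KStalk X y.1) = 0 := by
      rw [← h2]; exact h1
    rw [← LocalizedModule.zero_mk (regGerm ⟨y.1, y.2.1⟩ b), LocalizedModule.mk_eq] at h3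
    obtain ⟨c, hc⟩ := h3
    simp only [smul_zero, Submonoid.smul_def, smul_eq_mul] at hc
    rw [← mul_assoc] at hc
    have hnzd : (c : X.presheaf.stalk y.1) * (regGerm ⟨y.1, y.2.1⟩ b : X.presheaf.stalk y.1) ∈
        nonZeroDivisors (X.presheaf.stalk y.1) :=
      Submonoid.mul_mem _ (regStalk_le_nonZeroDivisors _ c.2)
        (regStalk_le_nonZeroDivisors _ (regGerm ⟨y.1, y.2.1⟩ b).2)
    exact (mul_left_mem_nonZeroDivisors_eq_zero_iff hnzd).mp hc
  have ha0 : X.presheaf.map (homOfLE (inf_le_left : W ⊓ V ≤ W)).op a = 0 := by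
    refine TopCat.Presheaf.section_ext X.sheaf (W ⊓ V) _ 0 fun y hy => ?_
    have h5 : X.presheaf.germ (W ⊓ V) y hy (X.presheaf.map (homOfLE (inf_le_left : W ⊓ V ≤ W)).op a)
        = 0 := by
      rw [TopCat.Presheaf.germ_res_apply]
      exact hgerm ⟨y, hy⟩
    exact h5.trans (map_zero (X.presheaf.germ (W ⊓ V) y hy).hom).symm
  have ha : a = 0 := hV W hWU (ha0.trans (map_zero _).symm)
  have h4 := hab ⟨x.1, hxW⟩
  subst ha
  rw [map_zero, LocalizedModule.zero_mk] at h4
  exact h4

end Groth.Agent.S5085
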