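import Groth.Statements.S5094
import Groth.Agent.Lib.Helper8.LocalIso
-- import your own Groth.Agent.* helpers here

set_option autoImplicit false
universe u
open CategoryTheory CategoryTheory.Limits AlgebraicGeometry TopologicalSpace
open Lim8

namespace Groth.Agent.S5094

/-- Let X and Y be integral schemes and f : X → Y a separated morphism, locally of finite type and
birational (f sends the generic point of X to the generic point of Y and its stalk map there, the
induced homomorphism of function fields, is an isomorphism). Let y be a normal point of Y (the local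
ring O_{Y,y} is integrally closed) and suppose that some point of the fibre f⁻¹(y) is isolated in
that fibre. Then y has an open neighbourhood U such that the restriction f⁻¹(U) → U of f is an
isomorphism. -/
theorem result {X Y : Scheme.{u}} [IsIntegral X]
    [IsIntegral Y] (f : X ⟶ Y) [IsSeparated f] [LocallyOfFiniteType f]
    (hgen : f (genericPoint X) = genericPoint Y) (hbir : IsIso (f.stalkMap (genericPoint X)))
    (y : ↥Y) (hy : IsIntegrallyClosed ↑(Y.presheaf.stalk y))
    (x : ↥(f.fiber y)) (hx : IsOpen ({x} : Set ↥(f.fiber y))) :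
    ∃ U : Y.Opens, y ∈ U ∧ IsIso (f ∣_ U) := by
  obtain ⟨x₀, hx₀⟩ : ∃ x₀ : X, f.fiberι y x = x₀ := ⟨_, rfl⟩
  have hfx : f x₀ = y := by
    have : x₀ ∈ Set.range (f.fiberι y) := ⟨x, hx₀⟩
    rw [f.range_fiberι] at this
    exact this
  subst hfx
  have hxa : x = f.asFiber x₀ :=
    (f.fiberι _).isEmbedding.injective (by rw [hx₀, f.fiberι_asFiber])
  have hqf : f.QuasiFiniteAt x₀ :=
    Scheme.Hom.quasiFiniteAt_iff_isOpen_singleton_asFiber.mpr (hxa ▸ hx)
  have := hy
  have hiso := Groth.Agent.H8.LocalIso.isIso_stalkMap_of_birational f x₀ hqf hgen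
  obtain ⟨U', hxU', hU'⟩ := Groth.Agent.H8.LocalIso.exists_isOpenImmersion_of_isIso_stalkMap f x₀
  exact ⟨(U'.ι ≫ f).opensRange, ⟨⟨x₀, hxU'⟩, rfl⟩,
    Groth.Agent.H8.LocalIso.isIso_morphismRestrict_of_isOpenImmersion f U' ⟨x₀, hxU'⟩⟩

end Groth.Agent.S5094
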