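import Groth.Statements.S5114
import Mathlib
import Groth.Agent.Lib.Helper1.HensFin5
import Groth.Agent.Lib.Helper1.Henselian
import Groth.Agent.Lib.Helper1.QFIsolated

set_option autoImplicit false
universe u
open SGA1

namespace Groth.Agent.S5114

namespace S5114aux

open AlgebraicGeometry CategoryTheory CategoryTheory.Limits

/-- a morphism which is universally closed on each member of a finite open cover of the source is
universally closed on closed sets, after any base change. -/
theorem isClosedMap_of_cover {X Y X' Y' : Scheme.{u}} (f : X ⟶ Y) {ι : Type*} [Finite ι]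
    (U : ι → X.Opens) (hcov : ∀ x : X, ∃ i, x ∈ U i)
    (hU : ∀ i, UniversallyClosed ((U i).ι ≫ f))
    (i₁ : X' ⟶ X) (i₂ : Y' ⟶ Y) (f' : X' ⟶ Y') (sq : IsPullback f' i₁ i₂ f) :
    IsClosedMap f' := by
  have key : ∀ i, IsClosedMap ((i₁ ⁻¹ᵁ U i).ι ≫ f') := by
    intro i
    have sq2 : IsPullback ((i₁ ⁻¹ᵁ U i).ι ≫ f') (i₁ ∣_ U i) i₂ ((U i).ι ≫ f) :=
      ((isPullback_morphismRestrict i₁ (U i)).flip.paste_horiz sq)
    exact (hU i).universally_isClosedMap _ _ _ sq2
  intro C hC
  have hunion : f' '' C = ⋃ i, ((i₁ ⁻¹ᵁ U i).ι ≫ f') '' ((i₁ ⁻¹ᵁ U i).ι ⁻¹' C) := by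
    ext y
    constructor
    · rintro ⟨c, hc, rfl⟩
      obtain ⟨i, hi⟩ := hcov (i₁ c)
      refine Set.mem_iUnion.mpr ⟨i, ⟨⟨c, hi⟩, hc, rfl⟩⟩
    · intro hy
      obtain ⟨i, ⟨c, hc, rfl⟩⟩ := Set.mem_iUnion.mp hy
      exact ⟨c.1, hc, rfl⟩
  rw [hunion]
  exact isClosed_iUnion_of_finite fun i => key i _ (hC.preimage (i₁ ⁻¹ᵁ U i).ι.continuous)

end S5114aux

open AlgebraicGeometry CategoryTheory CategoryTheory.Limits in
/-- Let A be a complete Noetherian local ring, S = Spec A, and g : S' ⟶ S a surjective morphism of
finite type whose fibre over the closed point s is finite. If every point of S' specialises to some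
point of the fibre over s (equivalently: the disjoint union of the spectra of the local rings of S'
at the points over s maps onto S'), then g is universally submersive. (The published statement
asserts an equivalence and does not mention surjectivity of g; the converse fails: for A a complete
discrete valuation ring with fraction field K, S' = S ⊔ Spec K ⟶ S has a section, hence is
universally submersive, while the isolated point Spec K specialises to no point over s. This row
states the implication the published proof establishes, with the surjectivity it uses.) -/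
theorem result (A : Type u) [CommRing A]
    [IsNoetherianRing A] [IsLocalRing A] [IsAdicComplete (IsLocalRing.maximalIdeal A) A]
    {S' : Scheme.{u}} (g : S' ⟶ Spec (CommRingCat.of A)) [LocallyOfFiniteType g] [QuasiCompact g]
    [Surjective g]
    (hfin : (g.base ⁻¹' {IsLocalRing.closedPoint A}).Finite)
    (hsp : ∀ t : S', ∃ s' : S', g.base s' = IsLocalRing.closedPoint A ∧ t ⤳ s') :
    SGA1.UnivSubmersive g := by
  haveI : HenselianLocalRing A := Groth.Agent.H1.henselianLocalRing_of_henselianRing_maximalIdeal A
  let s := IsLocalRing.closedPoint A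
  -- the closed fibre is discrete
  have hqf : ∀ x : S', g x = s → g.QuasiFiniteAt x := by
    intro x hx
    haveI : Finite ↥(g.fiber s) := by
      haveI : Finite ↥(g ⁻¹' {s}) := hfin
      exact Finite.of_equiv _ (g.fiberHomeo s).symm.toEquiv
    haveI : LocallyOfFiniteType (g.fiberToSpecResidueField s) :=
      MorphismProperty.pullback_snd _ _ inferInstance
    haveI : LocallyQuasiFinite (g.fiberToSpecResidueField s) :=
      LocallyQuasiFinite.of_finite_preimage_singleton _ fun _ => Set.toFinite _
    have hdisc := (g.fiberToSpecResidueField s).isDiscrete_preimage_singleton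
      (g.fiberToSpecResidueField s ((g.fiberHomeo s).symm ⟨x, hx⟩))
    let z : g.fiber s := (g.fiberHomeo s).symm ⟨x, hx⟩
    have hz : g.fiberι s z = x := g.fiberι_fiberHomeo_symm s _
    rw [← hz, ← Groth.Agent.H1.QFIsolated.isOpen_singleton_fiber_iff]
    have huniv : (g.fiberToSpecResidueField s) ⁻¹' {g.fiberToSpecResidueField s z} = Set.univ := by
      ext w
      simp only [Set.mem_preimage, Set.mem_singleton_iff, Set.mem_univ, iff_true]
      exact Subsingleton.elim _ _
    rw [huniv] at hdisc
    have : DiscreteTopology ↥(g.fiber s) := by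
      have := isDiscrete_iff_discreteTopology.mp hdisc
      exact (Homeomorph.Set.univ _).symm.isEmbedding.discreteTopology
    exact isOpen_discrete _
  -- local pieces
  haveI : Finite ↥(g ⁻¹' {s}) := hfin
  have hex : ∀ x : ↥(g ⁻¹' {s}), ∃ U : S'.Opens, x.1 ∈ U ∧ IsFinite (U.ι ≫ g) := by
    intro x
    obtain ⟨U, -, hxU, -, hfinU, -⟩ :=
      Groth.Agent.H1.HensFin.exists_local_finite_open_nbhd A g x.1 x.2 (hqf x.1 x.2)
    exact ⟨U, hxU, hfinU⟩
  choose U hxU hUfin using hex
  have hcov : ∀ t : S', ∃ i, t ∈ U i := by
    intro t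
    obtain ⟨s', hs', hts'⟩ := hsp t
    exact ⟨⟨s', hs'⟩, hts'.mem_open (U ⟨s', hs'⟩).2 (hxU ⟨s', hs'⟩)⟩
  intro X' Y' i₁ i₂ f' sq
  have hcl : IsClosedMap f' := S5114aux.isClosedMap_of_cover g U hcov
    (fun i => by haveI := hUfin i; infer_instance) i₁ i₂ f' sq
  have hsurj : Function.Surjective f' := by
    have : Surjective f' := MorphismProperty.of_isPullback (P := @Surjective) sq.flip inferInstance
    exact this.surj
  exact hcl.isQuotientMap f'.continuous hsurj

end Groth.Agent.S5114
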