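import Groth.Statements.S5118
import Groth.Agent.S5081
import Mathlib.RingTheory.Etale.StandardEtale
-- import your own Groth.Agent.* helpers here

set_option autoImplicit false
universe u
open SGA1t

namespace Groth.Agent.S5118

open Polynomial in
/-- The etaleness criterion for the Kummer group scheme: Let A be a commutative ring and n ≥ 1. The
group scheme μ_n over Spec A is the spectrum of A[t]/(t^n − 1), a free A-module of rank n; it is
etale over A if and only if n is a unit of A (equivalently, n is prime to the characteristic of the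
residue field at every point of Spec A). -/
theorem result (A : Type u) [CommRing A] (n : ℕ) (hn : 1 ≤ n) :
    Algebra.Etale A (AdjoinRoot ((X : A[X]) ^ n - 1)) ↔ IsUnit ((n : ℕ) : A) := by
  have hn0 : n ≠ 0 := by omega
  have hmonic : ((X : A[X]) ^ n - 1).Monic := by
    have := monic_X_pow_sub_C (1 : A) hn0
    simpa using this
  have hderiv : derivative ((X : A[X]) ^ n - 1) = C (n : A) * X ^ (n - 1) := by
    rw [derivative_sub, derivative_one, sub_zero, derivative_X_pow]
  constructor
  · intro hE
    haveI : Module.Finite A (AdjoinRoot ((X : A[X]) ^ n - 1)) := hmonic.finite_adjoinRoot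
    have h81 := Groth.Agent.S5081.result A (AdjoinRoot ((X : A[X]) ^ n - 1))
      (AdjoinRoot.root _) AdjoinRoot.adjoinRoot_eq_top ((X : A[X]) ^ n - 1)
      (by rw [AdjoinRoot.aeval_eq, AdjoinRoot.mk_self])
    have hker : RingHom.ker (aeval (AdjoinRoot.root ((X : A[X]) ^ n - 1)) :
        A[X] →ₐ[A] AdjoinRoot ((X : A[X]) ^ n - 1)) = Ideal.span {(X : A[X]) ^ n - 1} := by
      ext p
      rw [RingHom.mem_ker, AdjoinRoot.aeval_eq, AdjoinRoot.mk_eq_zero, Ideal.mem_span_singleton]
    have hann := h81.2 hker
    have hsub : Subsingleton (KaehlerDifferential A (AdjoinRoot ((X : A[X]) ^ n - 1))) :=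
      inferInstance
    have htop : Module.annihilator (AdjoinRoot ((X : A[X]) ^ n - 1))
        (KaehlerDifferential A (AdjoinRoot ((X : A[X]) ^ n - 1))) = ⊤ :=
      Module.annihilator_eq_top_iff.mpr hsub
    rw [htop] at hann
    have hunit : IsUnit (aeval (AdjoinRoot.root ((X : A[X]) ^ n - 1))
        (derivative ((X : A[X]) ^ n - 1))) := Ideal.span_singleton_eq_top.mp hann.symm
    rw [hderiv, map_mul, aeval_C] at hunit
    have hunit2 : IsUnit (algebraMap A (AdjoinRoot ((X : A[X]) ^ n - 1)) (n : A)) :=
      isUnit_of_mul_isUnit_left hunit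
    let φ : AdjoinRoot ((X : A[X]) ^ n - 1) →+* A :=
      AdjoinRoot.lift (RingHom.id A) 1 (by simp)
    have := hunit2.map φ
    have hφ : φ (algebraMap A (AdjoinRoot ((X : A[X]) ^ n - 1)) (n : A)) = (n : A) := by
      simp [φ]
    rwa [hφ] at this
  · intro hu
    obtain ⟨v, hv⟩ := hu.exists_right_inv
    let P : StandardEtalePair A :=
      { f := (X : A[X]) ^ n - 1
        monic_f := hmonic
        g := 1
        cond := ⟨C v * X, -1, 1, by
          rw [hderiv]
          have hX : (X : A[X]) ^ (n - 1) * X = X ^ n := by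
            rw [← pow_succ, Nat.sub_add_cancel hn]
          have : C (n : A) * X ^ (n - 1) * (C v * X) = C ((n : A) * v) * (X ^ (n - 1) * X) := by
            rw [C_mul]; ring
          rw [this, hv, hX]
          simp⟩ }
    have hg : AdjoinRoot.mk P.f P.g = 1 := map_one _
    haveI : IsLocalization.Away (1 : AdjoinRoot P.f) (Localization.Away (AdjoinRoot.mk P.f P.g)) := by
      rw [hg]; infer_instance
    let e2 : AdjoinRoot P.f ≃ₐ[A] Localization.Away (AdjoinRoot.mk P.f P.g) :=
      (IsLocalization.atOne (AdjoinRoot P.f) (Localization.Away (AdjoinRoot.mk P.f P.g))).restrictScalars A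
    exact Algebra.Etale.of_equiv (P.equivAwayAdjoinRoot.trans e2.symm)

end Groth.Agent.S5118
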