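import Groth.Statements.S5132
import Mathlib.AlgebraicGeometry.Morphisms.UnderlyingMap
import Mathlib.AlgebraicGeometry.Morphisms.QuasiCompact
-- import your own Groth.Agent.* helpers here

set_option autoImplicit false
open CategoryTheory AlgebraicGeometry
universe u
open SGA1

namespace Groth.Agent.S5132

/-- Quasi-compactness of a morphism descends along a surjective and quasi-compact base change; flatness
of the base change is not needed for this property. -/
theorem result :
    MorphismProperty.DescendsAlong @QuasiCompact (@Surjective ⊓ @QuasiCompact : MorphismProperty Scheme.{u}) := by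
  refine ⟨?_⟩
  intro A X Y Z fst snd f g hpb hf hfst
  obtain ⟨hfsurj, hfqc⟩ := hf
  have : Surjective f := hfsurj
  have : QuasiCompact f := hfqc
  have : QuasiCompact fst := hfst
  have : Surjective snd := MorphismProperty.of_isPullback (P := @Surjective) hpb hfsurj
  refine ⟨fun U hUo hUc => ?_⟩
  have h1 : IsCompact (f ⁻¹' U) := QuasiCompact.isCompact_preimage U hUo hUc
  have h2 : IsCompact (fst ⁻¹' (f ⁻¹' U)) :=
    QuasiCompact.isCompact_preimage _ (hUo.preimage f.continuous) h1
  have h3 : snd '' (fst ⁻¹' (f ⁻¹' U)) = g ⁻¹' U := by
    ext y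
    constructor
    · rintro ⟨a, ha, rfl⟩
      show g (snd a) ∈ U
      have : g (snd a) = f (fst a) := by
        rw [← Scheme.Hom.comp_apply, ← Scheme.Hom.comp_apply, hpb.w]
      rw [this]; exact ha
    · intro hy
      obtain ⟨a, rfl⟩ := snd.surjective y
      refine ⟨a, ?_, rfl⟩
      show f (fst a) ∈ U
      have : g (snd a) = f (fst a) := by
        rw [← Scheme.Hom.comp_apply, ← Scheme.Hom.comp_apply, hpb.w]
      rw [← this]; exact hy
  rw [← h3]
  exact h2.image snd.continuous

end Groth.Agent.S5132
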