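import Groth.Statements.S5133
import Groth.Agent.Lib.Helper2.QCClosure
import Mathlib.AlgebraicGeometry.Morphisms.UniversallyOpen
import Mathlib.AlgebraicGeometry.PullbackCarrier
-- import your own Groth.Agent.* helpers here

set_option autoImplicit false
open CategoryTheory CategoryTheory.Limits AlgebraicGeometry
universe u
open SGA1

namespace Groth.Agent.S5133

/-- Variant of helper2's `isEmbedding_of_isPullback_of_flat`: the flat surjective base change `f`
need not be quasi-compact if `g` itself is assumed quasi-compact. -/
theorem isEmbedding_of_isPullback_of_flat' {A X Y Z : Scheme.{u}} {fst : A ⟶ X}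
    {snd : A ⟶ Y} {f : X ⟶ Z} {g : Y ⟶ Z} (h : IsPullback fst snd f g)
    [Surjective f] [Flat f] [QuasiCompact g]
    (hfst : Topology.IsEmbedding fst) : Topology.IsEmbedding g := by
  have hsnd : Function.Surjective snd := by
    intro y
    obtain ⟨x, hx⟩ := f.surjective (g y)
    obtain ⟨a, -, ha⟩ := Scheme.exists_preimage_of_isPullback h x y hx
    exact ⟨a, ha⟩
  have hinj : Function.Injective g := by
    intro y₁ y₂ hy
    obtain ⟨x, hx⟩ := f.surjective (g y₁)
    obtain ⟨a₁, ha₁, hb₁⟩ := Scheme.exists_preimage_of_isPullback h x y₁ hx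
    obtain ⟨a₂, ha₂, hb₂⟩ := Scheme.exists_preimage_of_isPullback h x y₂ (hx.trans hy)
    have : a₁ = a₂ := hfst.injective (ha₁.trans ha₂.symm)
    rw [← hb₁, ← hb₂, this]
  refine ⟨⟨?_⟩, hinj⟩
  refine TopologicalSpace.ext_isClosed fun T => ?_
  rw [isClosed_induced_iff]
  constructor
  · intro hT
    refine ⟨closure (g '' T), isClosed_closure, ?_⟩
    apply subset_antisymm
    · intro y hy
      obtain ⟨a, rfl⟩ := hsnd y
      have hfa : f (fst a) = g (snd a) := by
        rw [← Scheme.Hom.comp_apply, ← Scheme.Hom.comp_apply, h.w]
      have h1 : fst a ∈ f ⁻¹' closure (g '' T) := by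
        show f (fst a) ∈ closure (g '' T)
        rw [hfa]; exact hy
      rw [Groth.Agent.H2.preimage_closure_image_eq f (Flat.generalizingMap f) g hT,
        ← Scheme.image_preimage_eq_of_isPullback h.flip T] at h1
      have h2 : a ∈ closure (snd ⁻¹' T) := by
        rw [hfst.isInducing.closure_eq_preimage_closure_image]
        exact h1
      rw [(hT.preimage snd.continuous).closure_eq] at h2
      exact h2
    · intro y hy
      exact subset_closure ⟨y, hy, rfl⟩
  · rintro ⟨C, hC, rfl⟩
    exact hC.preimage g.continuous

/-- For a quasi-compact morphism f : X ⟶ Y and a flat surjective base change g : Y' ⟶ Y, with no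
quasi-compactness asked of g, if the base change of f along g is a homeomorphism onto its image then
f is a homeomorphism onto its image. -/
theorem result {X Y Y' : Scheme.{u}} (f : X ⟶ Y)
    (g : Y' ⟶ Y) [QuasiCompact f] [Flat g] [Surjective g]
    (h : Topology.IsEmbedding (pullback.snd f g).base) : Topology.IsEmbedding f.base := by
  exact isEmbedding_of_isPullback_of_flat' (IsPullback.of_hasPullback f g).flip h

end Groth.Agent.S5133
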