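import Groth.Statements.S5147
import Mathlib
import Groth.Agent.Lib.Helper1.Gal2

set_option autoImplicit false
universe u v w
open CategoryTheory PreGaloisCategory
open Pi1

namespace Groth.Agent.S5147


open CategoryTheory.Limits in
/-- In the situation of the first assertion, the stabilizer U of a contains the normal subgroup
generated by the image of u (hence also its closure, U being open) if and only if H(X) is isomorphic
to a finite coproduct of copies of the final object of C'. -/
theorem result {C C' : Type u} [Category.{v} C] [Category.{v} C']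
    [GaloisCategory C] [GaloisCategory C'] (H : C ⥤ C') [PreservesFiniteLimits H] [PreservesFiniteColimits H]
    (F' : C' ⥤ FintypeCat.{w}) [FiberFunctor F'] [FiberFunctor (H ⋙ F')] (X : C) [IsConnected X]
    (a : (H ⋙ F').obj X) :
    Subgroup.normalClosure ((Pi1X.autWhisker H F').range : Set (Aut (H ⋙ F'))) ≤ MulAction.stabilizer (Aut (H ⋙ F')) a ↔
      ∃ n : ℕ, Nonempty (H.obj X ≅ ∐ fun _ : Fin n => ⊤_ C') := by
  constructor
  · intro h
    refine Groth.Agent.Lib.Helper1.Gal.exists_iso_sigma_terminal_of_trivial_action F'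
      (H.obj X) (fun σ' y => ?_)
    obtain ⟨τ, hτ⟩ := Groth.Agent.Lib.Helper1.Gal.pretransitive_of_isConnected (H ⋙ F') X a y
    have h1 : τ⁻¹ * Pi1X.autWhisker H F' σ' * τ ∈
        Subgroup.normalClosure ((Pi1X.autWhisker H F').range : Set (Aut (H ⋙ F'))) := by
      have h0 : Pi1X.autWhisker H F' σ' ∈
          Subgroup.normalClosure ((Pi1X.autWhisker H F').range : Set (Aut (H ⋙ F'))) :=
        Subgroup.subset_normalClosure ⟨σ', rfl⟩
      have := Subgroup.normalClosure_normal.conj_mem _ h0 τ⁻¹
      simpa using this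
    have h2 := h h1
    rw [MulAction.mem_stabilizer_iff, mul_smul, mul_smul, hτ, inv_smul_eq_iff, hτ] at h2
    exact h2
  · rintro ⟨n, ⟨i⟩⟩
    have htriv : ∀ (σ' : Aut F') (y : F'.obj (H.obj X)), σ' • y = y := fun σ' y =>
      Groth.Agent.Lib.Helper1.Gal.trivial_action_of_iso_sigma_terminal F' (H.obj X) n i σ' y
    rw [Subgroup.normalClosure, Subgroup.closure_le]
    intro g hg
    rw [Group.mem_conjugatesOfSet_iff] at hg
    obtain ⟨b, ⟨σ', rfl⟩, hconj⟩ := hg
    obtain ⟨c, rfl⟩ := isConj_iff.1 hconj
    show _ ∈ MulAction.stabilizer (Aut (H ⋙ F')) a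
    rw [MulAction.mem_stabilizer_iff, mul_smul, mul_smul]
    have := htriv σ' (c⁻¹ • a)
    have h3 : Pi1X.autWhisker H F' σ' • (c⁻¹ • a) = c⁻¹ • a := this
    rw [h3, smul_inv_smul]

end Groth.Agent.S5147
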