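import Groth.Statements.S5149
import Mathlib
import Groth.Agent.Lib.Helper1.Gal3

set_option autoImplicit false
universe u v w
open CategoryTheory PreGaloisCategory
open Pi1

namespace Groth.Agent.S5149


open CategoryTheory.Limits in
/-- For exact functors H : C ⥤ C', H' : C' ⥤ C'' of Galois categories with compatible fibre functors and
induced homomorphisms u' and u of fundamental groups, the kernel of u is contained in the image of
u' if and only if every pointed connected object (X', a') of C' for which H'(X') has a section from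
the final object through a' admits a morphism from a connected subobject of some H(X). (The
published statement writes this inclusion as Ker u ⊇ Im u', which is the condition that u ∘ u' be
trivial; this row states Ker u ⊆ Im u', which is what the published argument establishes.) -/
theorem result {C C' C'' : Type u} [Category.{v} C] [Category.{v} C'] [Category.{v} C'']
    [GaloisCategory C] [GaloisCategory C'] [GaloisCategory C'']
    (H : C ⥤ C') [PreservesFiniteLimits H] [PreservesFiniteColimits H]
    (H' : C' ⥤ C'') [PreservesFiniteLimits H'] [PreservesFiniteColimits H']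
    (F'' : C'' ⥤ FintypeCat.{w}) [FiberFunctor F''] [FiberFunctor (H' ⋙ F'')] [FiberFunctor (H ⋙ (H' ⋙ F''))] :
    (Pi1X.autWhisker H (H' ⋙ F'')).ker ≤ (Pi1X.autWhisker H' F'').range ↔
      ∀ (X' : C') (a' : (H' ⋙ F'').obj X'), IsConnected X' →
        (∃ s : ⊤_ C'' ⟶ H'.obj X', ∀ t : F''.obj (⊤_ C''), F''.map s t = a') →
          ∃ (X : C) (Y' : C') (i : Y' ⟶ H.obj X) (q : Y' ⟶ X'), Mono i ∧ IsConnected Y' := by
  constructor
  · rintro h X' a' hX' ⟨s, hs⟩
    have hle : (Pi1X.autWhisker H (H' ⋙ F'')).ker ≤
        MulAction.stabilizer (Aut (H' ⋙ F'')) a' := by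
      refine h.trans ?_
      rintro _ ⟨σ'', rfl⟩
      rw [MulAction.mem_stabilizer_iff]
      exact Groth.Agent.Lib.Helper1.Gal.fixed_of_section H' F'' X' a' terminalIsTerminal s hs σ''
    obtain ⟨X, Y', i, q, y, hmono, hconn, -⟩ :=
      Groth.Agent.Lib.Helper1.Gal.exists_of_ker_le H (H' ⋙ F'') X' a' hle
    exact ⟨X, Y', i, q, hmono, hconn⟩
  · intro h
    let K : ClosedSubgroup (Aut (H' ⋙ F'')) :=
      { toSubgroup := (Pi1X.autWhisker H' F'').range
        isClosed' := Groth.Agent.Lib.Helper1.Gal.isClosed_range_autWhisker H' F'' }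
    have hK := ProfiniteGrp.closedSubgroup_eq_sInf_open K
    show _ ≤ (K : Subgroup (Aut (H' ⋙ F'')))
    rw [hK]
    refine le_sInf ?_
    rintro N ⟨hNopen, hKN⟩
    obtain ⟨X', a', hX', hstab⟩ :=
      Groth.Agent.Lib.Helper1.Gal.exists_connected_of_openSubgroup (H' ⋙ F'') N hNopen
    have hfix : ∀ σ'' : Aut F'', σ'' • (show F''.obj (H'.obj X') from a') = a' := by
      intro σ''
      have h1 : Pi1X.autWhisker H' F'' σ'' ∈ N := hKN ⟨σ'', rfl⟩
      rw [← hstab, MulAction.mem_stabilizer_iff] at h1
      exact h1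
    obtain ⟨s, hs⟩ := Groth.Agent.Lib.Helper1.Gal.exists_section_of_fixed H' F'' X' a' hfix (⊤_ C'')
    obtain ⟨X, Y', i, q, hmono, hconn⟩ := h X' a' hX' ⟨s, hs⟩
    rw [← hstab]
    exact Groth.Agent.Lib.Helper1.Gal.ker_le_of_exists H (H' ⋙ F'') X' a' X Y' i q

end Groth.Agent.S5149
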