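import Groth.Statements.S5163
import Mathlib.Algebra.Module.FinitePresentation
import Mathlib.RingTheory.TensorProduct.Finite
import Mathlib.RingTheory.Support
import Mathlib.RingTheory.Ideal.AssociatedPrime.Basic
-- import your own Groth.Agent.* helpers here

set_option autoImplicit false
universe u
open LocCoh

namespace Groth.Agent.S5163

/-- For modules over a Noetherian ring. Let P be a finite A-module and H any A-module with Supp H ⊆ Supp
P. If Hom_A(P, H) = 0 then H = 0. (The published lemma is stated over an arbitrary prescheme; its
proof uses that a nonzero module has an associated prime, so the ring is taken Noetherian here.) -/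
theorem result (A : Type u) [CommRing A] [IsNoetherianRing A] (P H : Type u) [AddCommGroup P] [Module A P] [Module.Finite A P] [AddCommGroup H] [Module A H] (hsupp : Module.support A H ⊆ Module.support A P) (hhom : Subsingleton (P →ₗ[A] H)) : Subsingleton H := by
  classical
  by_contra hsub
  rw [not_subsingleton_iff_nontrivial] at hsub
  obtain ⟨p, hp⟩ := associatedPrimes.nonempty A H
  obtain ⟨hpprime, h, hph⟩ := (isAssociatedPrime_iff).mp hp
  have hmem : ∀ a : A, a ∈ p ↔ a • h = 0 := by
    intro a
    rw [hph]
    simp [Submodule.mem_colon_singleton]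
  let 𝔭 : PrimeSpectrum A := ⟨p, hpprime⟩
  have hpH : 𝔭 ∈ Module.support A H := by
    rw [Module.mem_support_iff_exists_annihilator]
    refine ⟨h, fun a ha => ?_⟩
    rw [Submodule.mem_annihilator_span_singleton] at ha
    exact (hmem a).mpr ha
  have hpP : 𝔭 ∈ Module.support A P := hsupp hpH
  rw [Module.mem_support_iff] at hpP
  -- notation
  let S := p.primeCompl
  let R := Localization.AtPrime p
  let Pp := LocalizedModule S P
  let Hp := LocalizedModule S H
  have : Nontrivial Pp := hpP
  obtain ⟨I, f, hI, hf⟩ := Module.exists_surjective_quotient_of_finite R Pp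
  have hIm : I ≤ IsLocalRing.maximalIdeal R := IsLocalRing.le_maximalIdeal hI
  let e : Hp := LocalizedModule.mk h 1
  have hme : ∀ r ∈ IsLocalRing.maximalIdeal R, r • e = 0 := by
    intro r hr
    obtain ⟨a, s, rfl⟩ := IsLocalization.exists_mk'_eq S r
    rw [IsLocalization.AtPrime.mk'_mem_maximal_iff R p] at hr
    show IsLocalization.mk' R a s • LocalizedModule.mk h 1 = 0
    rw [← Localization.mk_eq_mk', LocalizedModule.mk_smul_mk, (hmem a).mp hr, LocalizedModule.zero_mk]
  let ψ : (R ⧸ I) →ₗ[R] Hp := Submodule.liftQ I (LinearMap.toSpanSingleton R Hp e) (by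
    intro r hr
    rw [LinearMap.mem_ker, LinearMap.toSpanSingleton_apply]
    exact hme r (hIm hr))
  let g : P →ₗ[A] Hp := ((ψ.comp f).restrictScalars A).comp (LocalizedModule.mkLinearMap S P)
  have : Module.FinitePresentation A P := Module.finitePresentation_of_finite A P
  obtain ⟨h', s, hs⟩ := Module.FinitePresentation.exists_lift_of_isLocalizedModule S
    (LocalizedModule.mkLinearMap S H) g
  have h'0 : h' = 0 := Subsingleton.elim _ _
  rw [h'0, LinearMap.comp_zero] at hs
  -- g is nonzero
  obtain ⟨y, hy⟩ := hf (Submodule.Quotient.mk 1)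
  induction y using LocalizedModule.induction_on with
  | h x t =>
    have h1 : f (LocalizedModule.mk x 1) = Submodule.Quotient.mk (algebraMap A R t) := by
      have : (LocalizedModule.mk x 1 : Pp) = (algebraMap A R t) • (LocalizedModule.mk x t : Pp) := by
        rw [algebraMap_smul, LocalizedModule.smul'_mk]
        exact (LocalizedModule.mk_cancel t x).symm
      rw [this, map_smul, hy, ← Submodule.Quotient.mk_smul, smul_eq_mul, mul_one]
    have h2 : g x = LocalizedModule.mk ((t : A) • h) 1 := by
      show ψ (f (LocalizedModule.mk x 1)) = _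
      rw [h1]
      show (algebraMap A R t) • e = _
      rw [algebraMap_smul, LocalizedModule.smul'_mk]
    have h3 : (s • g) x = 0 := by rw [← hs]; rfl
    rw [LinearMap.smul_apply, h2] at h3
    have h4 : (LocalizedModule.mk ((s : A) • (t : A) • h) 1 : Hp) = 0 := by
      rw [← h3]
      show _ = (s : A) • LocalizedModule.mk ((t : A) • h) 1
      rw [LocalizedModule.smul'_mk]
    rw [← LocalizedModule.zero_mk (1 : S), LocalizedModule.mk_eq] at h4
    obtain ⟨u, hu⟩ := h4
    simp only [one_smul, smul_zero, Submonoid.smul_def] at hu
    rw [← mul_smul, ← mul_smul] at hu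
    have := (hmem _).mpr hu
    exact (u * s * t).2 (by simpa using this)

end Groth.Agent.S5163
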