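import Groth.Statements.S5166
import Mathlib.RingTheory.Ideal.KrullsHeightTheorem
import Mathlib.RingTheory.Ideal.MinimalPrime.Noetherian
-- import your own Groth.Agent.* helpers here

set_option autoImplicit false
universe u
open LocCoh

namespace Groth.Agent.S5166

/-- A Noetherian local domain containing a nonzero element of the maximal ideal lying in every
nonzero prime has maximal ideal of height at most one. -/
theorem height_maximalIdeal_le_one (B : Type u) [CommRing B] [IsDomain B] [IsNoetherianRing B]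
    [IsLocalRing B] (x : B) (hx0 : x ≠ 0) (hxm : x ∈ IsLocalRing.maximalIdeal B)
    (hall : ∀ Q : Ideal B, Q.IsPrime → Q ≠ ⊥ → x ∈ Q) :
    (IsLocalRing.maximalIdeal B).height ≤ 1 := by
  classical
  by_cases hm : IsLocalRing.maximalIdeal B ∈ (Ideal.span {x}).minimalPrimes
  · exact Ideal.height_le_one_of_isPrincipal_of_mem_minimalPrimes _ _ hm
  · exfalso
    have hfin := Ideal.finite_minimalPrimes_of_isNoetherianRing B (Ideal.span {x})
    have hxle : Ideal.span {x} ≤ IsLocalRing.maximalIdeal B :=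
      (Ideal.span_singleton_le_iff_mem _).mpr hxm
    have hav : ¬ ((IsLocalRing.maximalIdeal B : Set B) ⊆
        ⋃ Q ∈ (↑hfin.toFinset : Set (Ideal B)), ((id Q : Ideal B) : Set B)) := by
      intro hsub
      have hpr : ∀ Q ∈ hfin.toFinset, Q ≠ (⊥ : Ideal B) → Q ≠ (⊥ : Ideal B) → (id Q : Ideal B).IsPrime :=
        fun Q hQ _ _ => (hfin.mem_toFinset.mp hQ).1.1
      obtain ⟨Q, hQ, hle⟩ := (Ideal.subset_union_prime (s := hfin.toFinset) (f := id)
        (⊥ : Ideal B) (⊥ : Ideal B) hpr (I := IsLocalRing.maximalIdeal B)).mp hsub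
      have hQ' := hfin.mem_toFinset.mp hQ
      have : Q = IsLocalRing.maximalIdeal B :=
        le_antisymm (IsLocalRing.le_maximalIdeal hQ'.1.1.ne_top) hle
      exact hm (this ▸ hQ')
    obtain ⟨y, hym, hy⟩ := Set.not_subset.mp hav
    have hynot : ∀ Q ∈ (Ideal.span {x}).minimalPrimes, y ∉ Q := by
      intro Q hQ hyQ
      exact hy (Set.mem_biUnion (show Q ∈ (↑hfin.toFinset : Set (Ideal B)) from
        hfin.mem_toFinset.mpr hQ) hyQ)
    have hyle : Ideal.span {y} ≤ IsLocalRing.maximalIdeal B :=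
      (Ideal.span_singleton_le_iff_mem _).mpr hym
    obtain ⟨Q', hQ'min, -⟩ := Ideal.exists_minimalPrimes_le hyle
    have hQ'prime := hQ'min.1.1
    have hyQ' : y ∈ Q' := hQ'min.1.2 (Ideal.mem_span_singleton_self y)
    obtain ⟨Q₀, hQ₀min, -⟩ := Ideal.exists_minimalPrimes_le hxle
    have hQ'ne : Q' ≠ ⊥ := by
      intro h
      rw [h, Ideal.mem_bot] at hyQ'
      exact hynot Q₀ hQ₀min (hyQ' ▸ Q₀.zero_mem)
    have hxQ' : x ∈ Q' := hall Q' hQ'prime hQ'ne
    obtain ⟨Q, hQmin, hQle⟩ := Ideal.exists_minimalPrimes_le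
      ((Ideal.span_singleton_le_iff_mem _).mpr hxQ')
    have hQprime := hQmin.1.1
    have hQne : Q ≠ ⊥ := by
      intro h
      have : x ∈ Q := hQmin.1.2 (Ideal.mem_span_singleton_self x)
      rw [h, Ideal.mem_bot] at this
      exact hx0 this
    have hQ'h : Q'.height ≤ 1 :=
      Ideal.height_le_one_of_isPrincipal_of_mem_minimalPrimes _ _ hQ'min
    have hQh : 1 ≤ Q.height := by
      rw [Order.one_le_iff_ne_zero]
      intro h
      exact hQne (Ideal.height_eq_zero_iff_eq_bot.mp h)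
    have : Q = Q' := Ideal.eq_of_le_of_height_le Q hQle (hQ'h.trans hQh)
    exact hynot Q hQmin (this ▸ hyQ')

/-- In its local form at a point y ∈ Y (A = O_{X,y}). Let A be a Noetherian local ring and I ≠ A an
ideal contained in no minimal prime of A. Then some prime p ⊉ I has dim A/p = 1. -/
theorem result (A : Type u) [CommRing A] [IsLocalRing A] [IsNoetherianRing A] (I : Ideal A) (hI : I ≠ ⊤) (hdense : ∀ q ∈ minimalPrimes A, ¬ I ≤ q) : ∃ p : PrimeSpectrum A, ¬ I ≤ p.asIdeal ∧ ringKrullDim (A ⧸ p.asIdeal) = 1 := by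
  classical
  have hIm : I ≤ IsLocalRing.maximalIdeal A := IsLocalRing.le_maximalIdeal hI
  let Sg : Set (Ideal A) := {p | p.IsPrime ∧ ¬ I ≤ p}
  have hne : Sg.Nonempty := by
    obtain ⟨q, hq⟩ := Ideal.nonempty_minimalPrimes (bot_ne_top (α := Ideal A))
    exact ⟨q, hq.1.1, hdense q hq⟩
  obtain ⟨p, ⟨hpprime, hpI⟩, hpmax⟩ :=
    (set_has_maximal_iff_noetherian (R := A) (M := A)).mpr inferInstance Sg hne
  have := hpprime
  obtain ⟨a, haI, hap⟩ := Set.not_subset.mp hpI
  have : IsLocalRing (A ⧸ p) :=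
    IsLocalRing.of_surjective' (Ideal.Quotient.mk p) Ideal.Quotient.mk_surjective
  have hcomap : (IsLocalRing.maximalIdeal (A ⧸ p)).comap (Ideal.Quotient.mk p) =
      IsLocalRing.maximalIdeal A :=
    IsLocalRing.eq_maximalIdeal
      (Ideal.comap_isMaximal_of_surjective _ Ideal.Quotient.mk_surjective)
  have hx0 : Ideal.Quotient.mk p a ≠ 0 := fun h => hap (Ideal.Quotient.eq_zero_iff_mem.mp h)
  have hxm : Ideal.Quotient.mk p a ∈ IsLocalRing.maximalIdeal (A ⧸ p) := by
    have : a ∈ (IsLocalRing.maximalIdeal (A ⧸ p)).comap (Ideal.Quotient.mk p) := by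
      rw [hcomap]; exact hIm haI
    exact this
  have hall : ∀ Q : Ideal (A ⧸ p), Q.IsPrime → Q ≠ ⊥ → Ideal.Quotient.mk p a ∈ Q := by
    intro Q hQ hQne
    have hq : (Q.comap (Ideal.Quotient.mk p)).IsPrime := Ideal.comap_isPrime _ _
    have hple : p ≤ Q.comap (Ideal.Quotient.mk p) := by
      intro z hz
      rw [Ideal.mem_comap, Ideal.Quotient.eq_zero_iff_mem.mpr hz]
      exact Q.zero_mem
    have hpne : p ≠ Q.comap (Ideal.Quotient.mk p) := by
      intro h
      apply hQne
      rw [← Ideal.map_comap_of_surjective _ Ideal.Quotient.mk_surjective Q, ← h,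
        Ideal.map_quotient_self]
    have hlt : p < Q.comap (Ideal.Quotient.mk p) := lt_of_le_of_ne hple hpne
    have : I ≤ Q.comap (Ideal.Quotient.mk p) := by
      by_contra hcon
      exact hpmax _ ⟨hq, hcon⟩ hlt
    exact this haI
  have h1 := height_maximalIdeal_le_one (A ⧸ p) _ hx0 hxm hall
  have h2 : 1 ≤ (IsLocalRing.maximalIdeal (A ⧸ p)).height := by
    rw [Order.one_le_iff_ne_zero]
    intro h
    have := Ideal.height_eq_zero_iff_eq_bot.mp h
    rw [this, Ideal.mem_bot] at hxm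
    exact hx0 hxm
  refine ⟨⟨p, hpprime⟩, hpI, ?_⟩
  rw [← IsLocalRing.maximalIdeal_height_eq_ringKrullDim, le_antisymm h1 h2]
  rfl

end Groth.Agent.S5166
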