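import Groth.Statements.S5167
import Groth.Agent.Lib.Helper6.LDLoc6
import Groth.Agent.S0342

set_option autoImplicit false
universe u
open LocCoh

namespace Groth.Agent.S5167

/-- Let A be a Noetherian local ring which is a quotient of a regular local ring, m its maximal ideal, M
a finite A-module and n ≥ 0. Then H^i_m(M) is of finite length for all i ≤ n if and only if
depth(M_p) > n − dim(A/p) for every prime p ≠ m. -/
theorem result (R : Type u) [CommRing R] [IsRegularLocalRing R] (A : Type u) [CommRing A] [IsLocalRing A] [IsNoetherianRing A] (π : R →+* A) (hπ : Function.Surjective π) (M : Type u) [AddCommGroup M] [Module A M] [Module.Finite A M] (n : ℕ) : (∀ i : ℕ, i ≤ n → IsFiniteLength A (LocCoh.H (IsLocalRing.maximalIdeal A) i M)) ↔ ∀ p : PrimeSpectrum A, p.asIdeal ≠ IsLocalRing.maximalIdeal A → ∀ e : ℕ, ringKrullDim (A ⧸ p.asIdeal) = e → (n : ℕ∞) < LocCoh.depth (Localization.AtPrime p.asIdeal) (LocalizedModule p.asIdeal.primeCompl M) + e := by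
  letI : Algebra R A := π.toAlgebra
  letI : Module R M := Module.compHom M π
  haveI : IsScalarTower R A M := ⟨fun r a m => by
    change (π r * a) • m = π r • (a • m)
    rw [mul_smul]⟩
  haveI : LocCoh.IsGorensteinLocalRing R := Groth.Agent.S0342.result R
  have hπ' : Function.Surjective (algebraMap R A) := hπ
  rw [Groth.Agent.H6.LDL.fl_le_iff_A hπ' M n]
  constructor
  · intro h p hp
    exact h p.asIdeal hp
  · intro h p hp hpm
    exact h ⟨p, hp⟩ hpm

end Groth.Agent.S5167
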