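import Groth.Statements.S5168
import Mathlib.RingTheory.Filtration
import Mathlib.LinearAlgebra.Isomorphisms
-- import your own Groth.Agent.* helpers here

set_option autoImplicit false
universe u
open InjHull

namespace Groth.Agent.S5168

/-- Let A be a Noetherian ring, J an ideal and H a J-power torsion A-module. Then H is injective if and
only if Hom_A(−, H) is exact on finite A-modules killed by a power of J, i.e. every linear map to H
from a submodule of such a module M extends to M. -/
theorem result (A : Type u) [CommRing A] [IsNoetherianRing A] (J : Ideal A) (H : Type u) [AddCommGroup H] [Module A H] (hH : LocCoh.IsPowerTorsion J H) : Module.Injective A H ↔ ∀ (M : Type u) [AddCommGroup M] [Module A M], Module.Finite A M → (∃ k : ℕ, (J ^ k) • (⊤ : Submodule A M) = ⊥) → ∀ (N : Submodule A M) (g : N →ₗ[A] H), ∃ g' : M →ₗ[A] H, g'.comp N.subtype = g := by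
  classical
  constructor
  · intro hinj M _ _ _ _ N g
    exact Module.Injective.extension_property A H N M N.subtype N.injective_subtype g
  · intro hext
    refine Module.Baer.injective fun 𝔞 φ => ?_
    -- Step 1: a uniform power of J kills the image of φ
    have hfg : (⊤ : Submodule A 𝔞).FG := Module.Finite.fg_top
    obtain ⟨S, hS⟩ := hfg
    choose n hn using hH
    let k : ℕ := S.sup fun s => n (φ s)
    have hk : ∀ x : 𝔞, ∀ b ∈ J ^ k, b • φ x = 0 := by
      intro x
      have hx : x ∈ Submodule.span A (S : Set 𝔞) := by rw [hS]; exact Submodule.mem_top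
      induction hx using Submodule.span_induction with
      | mem y hy =>
        intro b hb
        refine hn (φ y) b (Ideal.pow_le_pow_right ?_ hb)
        exact Finset.le_sup (f := fun s => n (φ s)) hy
      | zero => intro b _; rw [map_zero, smul_zero]
      | add y z _ _ hy hz => intro b hb; rw [map_add, smul_add, hy b hb, hz b hb, add_zero]
      | smul a y _ hy => intro b hb; rw [map_smul, smul_comm, hy b hb, smul_zero]
    -- Step 2: Artin–Rees
    obtain ⟨c, hc⟩ := Ideal.exists_pow_inf_eq_pow_smul J (𝔞 : Submodule A A)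
    have hAR : ∀ x : 𝔞, (x : A) ∈ J ^ (c + k) → φ x = 0 := by
      intro x hx
      have h1 : (x : A) ∈ J ^ (c + k) • (⊤ : Submodule A A) ⊓ (𝔞 : Submodule A A) := by
        refine ⟨?_, x.2⟩
        rw [Ideal.smul_top_eq_map, Algebra.algebraMap_self, Ideal.map_id]
        exact hx
      rw [hc (c + k) (Nat.le_add_right c k), Nat.add_sub_cancel_left] at h1
      have h2 : (x : A) ∈ J ^ k • (𝔞 : Submodule A A) := Submodule.smul_mono le_rfl inf_le_right h1
      -- induct
      have key : ∀ y ∈ J ^ k • (𝔞 : Submodule A A), ∀ hy : y ∈ 𝔞, φ ⟨y, hy⟩ = 0 := by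
        intro y hy
        refine Submodule.smul_induction_on' (p := fun y _ => ∀ hy : y ∈ 𝔞, φ ⟨y, hy⟩ = 0) hy ?_ ?_
        · intro b hb z hz hy'
          have : (⟨b • z, hy'⟩ : 𝔞) = b • (⟨z, hz⟩ : 𝔞) := rfl
          rw [this, map_smul]
          exact hk ⟨z, hz⟩ b hb
        · intro y hy z hz ihy ihz hyz
          have hy' : y ∈ 𝔞 := Submodule.smul_le_right hy
          have hz' : z ∈ 𝔞 := Submodule.smul_le_right hz
          have : (⟨y + z, hyz⟩ : 𝔞) = ⟨y, hy'⟩ + ⟨z, hz'⟩ := rfl
          rw [this, map_add, ihy hy', ihz hz', add_zero]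
      exact key x h2 x.2
    -- Step 3: the module M = A ⧸ J^(c+k)
    let M := A ⧸ J ^ (c + k)
    let π : 𝔞 →ₗ[A] M := (Submodule.mkQ (J ^ (c + k))).comp (Submodule.subtype 𝔞)
    have hker : LinearMap.ker π ≤ LinearMap.ker φ := by
      intro x hx
      rw [LinearMap.mem_ker] at hx ⊢
      apply hAR
      have : Submodule.Quotient.mk (p := J ^ (c + k)) (x : A) = 0 := hx
      exact (Submodule.Quotient.mk_eq_zero _).mp this
    let g : LinearMap.range π →ₗ[A] H :=
      ((LinearMap.ker π).liftQ φ hker).comp (LinearMap.quotKerEquivRange π).symm.toLinearMap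
    have hg : ∀ x : 𝔞, g ⟨π x, LinearMap.mem_range_self π x⟩ = φ x := by
      intro x
      show ((LinearMap.ker π).liftQ φ hker) ((LinearMap.quotKerEquivRange π).symm ⟨π x, _⟩) = φ x
      rw [LinearMap.quotKerEquivRange_symm_apply_image]
      rfl
    have hMk : ∃ k' : ℕ, (J ^ k') • (⊤ : Submodule A M) = ⊥ := by
      refine ⟨c + k, eq_bot_iff.mpr (Submodule.smul_le.mpr fun b hb m _ => ?_)⟩
      obtain ⟨a, rfl⟩ := Submodule.Quotient.mk_surjective _ m
      rw [Submodule.mem_bot, ← Submodule.Quotient.mk_smul, Submodule.Quotient.mk_eq_zero]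
      exact Ideal.mul_mem_right _ _ hb
    obtain ⟨g', hg'⟩ := hext M inferInstance hMk (LinearMap.range π) g
    refine ⟨g'.comp (Submodule.mkQ (J ^ (c + k))), fun x hx => ?_⟩
    have h3 := LinearMap.congr_fun hg' ⟨π ⟨x, hx⟩, LinearMap.mem_range_self π _⟩
    rw [hg] at h3
    rw [← h3]
    rfl

end Groth.Agent.S5168
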