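import Groth.Statements.S5171
import Groth.Agent.Lib.Helper6.DepthInf

set_option autoImplicit false
universe u
open LocCoh

namespace Groth.Agent.S5171

/-- Let A be a Noetherian ring, J an ideal, n ≥ 0 and G a finite Cohen–Macaulay A-module (each
localization G_p is zero or Cohen–Macaulay). Then H^i_J(G) = 0 for i < n if and only if codim(V(J) ∩
Supp G, Supp G) ≥ n, i.e. dim Supp(G_p) ≥ n for every p ∈ V(J) ∩ Supp G. -/
theorem result (A : Type u) [CommRing A] [IsNoetherianRing A] (J : Ideal A) (G : Type u) [AddCommGroup G] [Module A G] [Module.Finite A G] (hCM : ∀ p : PrimeSpectrum A, Subsingleton (LocalizedModule p.asIdeal.primeCompl G) ∨ LocCoh.IsCohenMacaulayModule (Localization.AtPrime p.asIdeal) (LocalizedModule p.asIdeal.primeCompl G)) (n : ℕ) : (∀ i : ℕ, i < n → Subsingleton (LocCoh.H J i G)) ↔ ∀ p : PrimeSpectrum A, J ≤ p.asIdeal → p ∈ Module.support A G → (n : WithBot ℕ∞) ≤ Module.supportDim (Localization.AtPrime p.asIdeal) (LocalizedModule p.asIdeal.primeCompl G) := by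
  constructor
  · intro h p hJp hpS
    have h1 := H6.Depth.locDepthGE_of_subsingleton_H J G p.asIdeal hJp n h
    rw [H6.Depth.locDepthGE_iff] at h1
    rcases hCM p with hsub | hcm
    · exfalso
      rw [Module.mem_support_iff] at hpS
      exact not_subsingleton _ hsub
    · unfold LocCoh.IsCohenMacaulayModule at hcm
      rw [hcm]
      exact_mod_cast WithBot.coe_le_coe.mpr h1
  · intro h
    apply H6.Depth.subsingleton_H_of_locDepthGE J n G
    intro p hp hJp
    rw [H6.Depth.locDepthGE_iff]
    rcases hCM ⟨p, hp⟩ with hsub | hcm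
    · have : LocCoh.depth (Localization.AtPrime p) (LocalizedModule p.primeCompl G) = ⊤ := by
        unfold LocCoh.depth LocCoh.idealDepth
        rw [if_pos (Subsingleton.elim _ _)]
      rw [this]
      exact le_top
    · by_cases hpS : (⟨p, hp⟩ : PrimeSpectrum A) ∈ Module.support A G
      · have h1 := h ⟨p, hp⟩ hJp hpS
        unfold LocCoh.IsCohenMacaulayModule at hcm
        rw [hcm] at h1
        have h2 : ((n : ℕ∞) : WithBot ℕ∞) ≤ ((LocCoh.depth (Localization.AtPrime p)
            (LocalizedModule p.primeCompl G) : ℕ∞) : WithBot ℕ∞) := by exact_mod_cast h1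
        exact WithBot.coe_le_coe.mp h2
      · rw [Module.mem_support_iff, not_nontrivial_iff_subsingleton] at hpS
        have : LocCoh.depth (Localization.AtPrime p) (LocalizedModule p.primeCompl G) = ⊤ := by
          unfold LocCoh.depth LocCoh.idealDepth
          rw [if_pos (Subsingleton.elim _ _)]
        rw [this]
        exact le_top

end Groth.Agent.S5171
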