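import Groth.Statements.S5174
import Groth.Agent.Lib.Helper6.ExtRep

set_option autoImplicit false
universe u
open CategoryTheory Opposite
open LocCoh

namespace Groth.Agent.S5174

/-- Affine case with Z = X. Let A be a Noetherian ring, J an ideal, G any A-module and n ≥ 0 with
Ext^{n−1}_A(F', G) = 0 for all finite F' supported in V(J). Then for every finite A-module F with
Supp F ⊆ V(J) there is an A-linear isomorphism Ext^n_A(F, G) ≅ Hom_A(F, H^n_J(G)). (Existence of the
isomorphism is asserted; in the source it is the canonical one expressing that Ext^n_A(−, G), left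
exact on such F, is represented by H^n_J(G).) -/
theorem result (A : Type u) [CommRing A] [IsNoetherianRing A] (J : Ideal A) (G : Type u) [AddCommGroup G] [Module A G] (n : ℕ) (hvan : ∀ (F' : Type u) [AddCommGroup F'] [Module A F'], Module.Finite A F' → Module.support A F' ⊆ PrimeSpectrum.zeroLocus (J : Set A) → ∀ i : ℕ, i + 1 = n → Subsingleton (((Ext A (ModuleCat.{u} A) i).obj (op (ModuleCat.of A F'))).obj (ModuleCat.of A G))) (F : Type u) [AddCommGroup F] [Module A F] [Module.Finite A F] (hF : Module.support A F ⊆ PrimeSpectrum.zeroLocus (J : Set A)) : Nonempty ((((Ext A (ModuleCat.{u} A) n).obj (op (ModuleCat.of A F))).obj (ModuleCat.of A G)) ≃ₗ[A] (F →ₗ[A] LocCoh.H J n G)) := by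
  obtain ⟨k, hk⟩ := Groth.Agent.H6.LC.exists_pow_smul_eq_zero_of_support_subset J F hF
  have hV : Groth.Agent.H6.ExtRep.Van J (ModuleCat.of A G) n := by
    intro F' _ _ hfin ⟨k', hk'⟩ i hi
    have hsupp : Module.support A F' ⊆ PrimeSpectrum.zeroLocus (J : Set A) := by
      rw [Module.support_eq_zeroLocus]
      intro 𝔭 h𝔭
      rw [PrimeSpectrum.mem_zeroLocus] at h𝔭 ⊢
      intro a ha
      have h1 : a ^ k' ∈ Module.annihilator A F' := by
        rw [Module.mem_annihilator]
        exact hk' _ (Ideal.pow_mem_pow ha k')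
      exact 𝔭.isPrime.mem_of_pow_mem k' (h𝔭 h1)
    have := hvan F' hfin hsupp i hi
    exact (Groth.Agent.H6.ExtCmp.cmp i (ModuleCat.of A F') (ModuleCat.of A G)).symm.toEquiv.subsingleton
  have hkF : Groth.Agent.H6.ExtRep.Killed J k F := hk
  exact ⟨(Groth.Agent.H6.ExtCmp.cmp n (ModuleCat.of A F) (ModuleCat.of A G)).trans
    (LinearEquiv.ofBijective (Groth.Agent.H6.ExtRep.Phi (ModuleCat.of A G) n hkF)
      ⟨Groth.Agent.H6.ExtRep.Phi_injective hV hkF, Groth.Agent.H6.ExtRep.Phi_surjective hV hkF⟩)⟩

end Groth.Agent.S5174
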