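import Groth.Statements.S5210
import Groth.Agent.Lib.Helper3.UnivEffEpi

set_option autoImplicit false
open CategoryTheory CategoryTheory.Limits
universe w v₁ u₁
open DescCat

namespace Groth.Agent.S5210

/-- In a category with pullbacks, let `f : S' ⟶ S` be a universal effective epimorphism (all of its base
changes are effective epimorphisms) and `Y ⟶ S` a monomorphism. Then an object `X` over `S` admits a
morphism to `Y` over `S` if and only if it does so after base change along `f`. -/
theorem result {C : Type u₁} [Category.{v₁} C] [HasPullbacks C]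
    {S' S : C} (f : S' ⟶ S) (hf : (MorphismProperty.universally (fun (A B : C) (p : A ⟶ B) => EffectiveEpi p)) f) (X Y : Over S) [Mono Y.hom] :
    Nonempty (X ⟶ Y) ↔ Nonempty ((Over.pullback f).obj X ⟶ (Over.pullback f).obj Y) := by
  refine ⟨fun ⟨k⟩ => ⟨(Over.pullback f).map k⟩, fun ⟨h⟩ => ?_⟩
  have hb : Groth.Agent.H3.UEE C (pullback.fst X.hom f) :=
    Groth.Agent.H3.UEE.of_isPullback (f := f) hf (IsPullback.of_hasPullback X.hom f)
  have := hb.effectiveEpi
  have hw : h.left ≫ pullback.snd Y.hom f = pullback.snd X.hom f := Over.w h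
  have cX : pullback.fst X.hom f ≫ X.hom = pullback.snd X.hom f ≫ f := pullback.condition
  have cY : pullback.fst Y.hom f ≫ Y.hom = pullback.snd Y.hom f ≫ f := pullback.condition
  have he : (h.left ≫ pullback.fst Y.hom f) ≫ Y.hom = pullback.fst X.hom f ≫ X.hom := by
    rw [Category.assoc, cY, ← Category.assoc, hw, cX]
  have hc : ∀ {Z : C} (g₁ g₂ : Z ⟶ pullback X.hom f),
      g₁ ≫ pullback.fst X.hom f = g₂ ≫ pullback.fst X.hom f →
      g₁ ≫ (h.left ≫ pullback.fst Y.hom f) = g₂ ≫ (h.left ≫ pullback.fst Y.hom f) := by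
    intro Z g₁ g₂ h12
    rw [← cancel_mono Y.hom]
    calc (g₁ ≫ h.left ≫ pullback.fst Y.hom f) ≫ Y.hom
        = g₁ ≫ (h.left ≫ pullback.fst Y.hom f) ≫ Y.hom := by simp only [Category.assoc]
      _ = (g₁ ≫ pullback.fst X.hom f) ≫ X.hom := by rw [he, Category.assoc]
      _ = g₂ ≫ (h.left ≫ pullback.fst Y.hom f) ≫ Y.hom := by rw [h12, he, Category.assoc]
      _ = (g₂ ≫ h.left ≫ pullback.fst Y.hom f) ≫ Y.hom := by simp only [Category.assoc]
  refine ⟨Over.homMk (EffectiveEpi.desc (pullback.fst X.hom f) (h.left ≫ pullback.fst Y.hom f) hc) ?_⟩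
  rw [← cancel_epi (pullback.fst X.hom f), ← Category.assoc, EffectiveEpi.fac, he]

end Groth.Agent.S5210
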