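import Groth.Statements.S5211
import Groth.Agent.Lib.Helper3.UnivEffEpi

set_option autoImplicit false
open CategoryTheory CategoryTheory.Limits
universe w v₁ u₁
open DescCat

namespace Groth.Agent.S5211

/-- In a category with pullbacks: if `f : S' ⟶ S` is a universal effective epimorphism and the canonical
map `S' ×_S S' ⟶ S' ×_T S'` induced by `g : S ⟶ T` is an isomorphism, then `g` is a monomorphism. -/
theorem result {C : Type u₁} [Category.{v₁} C] [HasPullbacks C]
    {S' S T : C} (f : S' ⟶ S) (hf : (MorphismProperty.universally (fun (A B : C) (p : A ⟶ B) => EffectiveEpi p)) f) (g : S ⟶ T)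
    [IsIso (pullback.mapDesc f f g)] : Mono g := by
  refine ⟨fun {Z} s t hst => ?_⟩
  have hE : ∀ {W : C} (r : W ⟶ S), Epi (pullback.fst r f) := fun r =>
    (Groth.Agent.H3.UEE.of_isPullback (f := f) hf (IsPullback.of_hasPullback r f)).epi
  have := hE s
  have := hE (pullback.fst s f ≫ t)
  have c1 : pullback.fst s f ≫ s = pullback.snd s f ≫ f := pullback.condition
  have c2 : pullback.fst (pullback.fst s f ≫ t) f ≫ pullback.fst s f ≫ t =
      pullback.snd (pullback.fst s f ≫ t) f ≫ f := pullback.condition
  -- the two maps `Q ⟶ S'`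
  have hab : (pullback.fst (pullback.fst s f ≫ t) f ≫ pullback.snd s f) ≫ f ≫ g =
      pullback.snd (pullback.fst s f ≫ t) f ≫ f ≫ g := by
    calc (pullback.fst (pullback.fst s f ≫ t) f ≫ pullback.snd s f) ≫ f ≫ g
        = pullback.fst (pullback.fst s f ≫ t) f ≫ (pullback.snd s f ≫ f) ≫ g := by
          simp only [Category.assoc]
      _ = pullback.fst (pullback.fst s f ≫ t) f ≫ (pullback.fst s f ≫ s) ≫ g := by rw [c1]
      _ = (pullback.fst (pullback.fst s f ≫ t) f ≫ pullback.fst s f ≫ t) ≫ g := by
          simp only [Category.assoc, hst]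
      _ = pullback.snd (pullback.fst s f ≫ t) f ≫ f ≫ g := by rw [c2, Category.assoc]
  let k : pullback (pullback.fst s f ≫ t) f ⟶ pullback (f ≫ g) (f ≫ g) :=
    pullback.lift _ _ hab
  let k' : pullback (pullback.fst s f ≫ t) f ⟶ pullback f f := k ≫ inv (pullback.mapDesc f f g)
  have hk'1 : k' ≫ pullback.fst f f = pullback.fst (pullback.fst s f ≫ t) f ≫ pullback.snd s f := by
    have : pullback.fst f f = pullback.mapDesc f f g ≫ pullback.fst (f ≫ g) (f ≫ g) := by
      rw [pullback.mapDesc, pullback.map, pullback.lift_fst, Category.comp_id]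
    rw [this]
    simp only [k', Category.assoc, IsIso.inv_hom_id_assoc]
    exact pullback.lift_fst _ _ _
  have hk'2 : k' ≫ pullback.snd f f = pullback.snd (pullback.fst s f ≫ t) f := by
    have : pullback.snd f f = pullback.mapDesc f f g ≫ pullback.snd (f ≫ g) (f ≫ g) := by
      rw [pullback.mapDesc, pullback.map, pullback.lift_snd, Category.comp_id]
    rw [this]
    simp only [k', Category.assoc, IsIso.inv_hom_id_assoc]
    exact pullback.lift_snd _ _ _
  have hfin : (pullback.fst (pullback.fst s f ≫ t) f ≫ pullback.snd s f) ≫ f =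
      pullback.snd (pullback.fst s f ≫ t) f ≫ f := by
    have hc : pullback.fst f f ≫ f = pullback.snd f f ≫ f := pullback.condition
    calc (pullback.fst (pullback.fst s f ≫ t) f ≫ pullback.snd s f) ≫ f
        = (k' ≫ pullback.fst f f) ≫ f := by rw [hk'1]
      _ = k' ≫ pullback.snd f f ≫ f := by rw [Category.assoc, hc]
      _ = pullback.snd (pullback.fst s f ≫ t) f ≫ f := by rw [← Category.assoc, hk'2]
  rw [← cancel_epi (pullback.fst s f), ← cancel_epi (pullback.fst (pullback.fst s f ≫ t) f)]
  rw [c2, ← hfin, Category.assoc, c1]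

end Groth.Agent.S5211
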