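import Groth.Statements.S5212
import Mathlib.LinearAlgebra.Charpoly.BaseChange

set_option autoImplicit false
universe u
open GrpQ

namespace Groth.Agent.S5212

/-- For `A'` finite and free as an `A`-module, a prime `p` of `A` and `a ∈ A'`, the element `a` belongs
to some prime of `A'` lying over `p` if and only if its norm belongs to `p`. (The published
statement allows `A'` projective of constant rank over `A`; this row takes `A'` free, where the norm
is the determinant of multiplication.) -/
theorem result {A A' : Type u} [CommRing A] [CommRing A'] [Algebra A A']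
    [Module.Free A A'] [Module.Finite A A'] (p : Ideal A) [p.IsPrime] (a : A') :
    (∃ q : Ideal A', q.IsPrime ∧ q.LiesOver p ∧ a ∈ q) ↔ Algebra.norm A a ∈ p := by
  classical
  constructor
  · rintro ⟨q, hq, hqp, haq⟩
    -- Cayley–Hamilton: the constant term of the characteristic polynomial lies in `a A'`
    have hCH := Algebra.aeval_self_charpoly_lmul (R := A) a
    have hdecomp := Polynomial.divX_mul_X_add (Algebra.lmul A A' a).charpoly
    rw [← hdecomp] at hCH
    simp only [map_add, map_mul, Polynomial.aeval_X, Polynomial.aeval_C] at hCH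
    have hc0 : algebraMap A A' ((Algebra.lmul A A' a).charpoly.coeff 0) ∈ q := by
      have : algebraMap A A' ((Algebra.lmul A A' a).charpoly.coeff 0) =
          -(Polynomial.aeval a (Algebra.lmul A A' a).charpoly.divX * a) :=
        eq_neg_of_add_eq_zero_right hCH
      rw [this]
      exact q.neg_mem (q.mul_mem_left _ haq)
    have hnorm : algebraMap A A' (Algebra.norm A a) ∈ q := by
      rw [Algebra.norm_apply, LinearMap.det_eq_sign_charpoly_coeff, map_mul]
      exact q.mul_mem_left _ hc0
    have hover : p = q.comap (algebraMap A A') := hqp.over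
    rw [hover]
    exact hnorm
  · intro hn
    let b := Module.Free.chooseBasis A A'
    -- the ring homomorphism `A' → Mat_n(A/p)`
    let φ : A' →+* Matrix (Module.Free.ChooseBasisIndex A A') (Module.Free.ChooseBasisIndex A A')
        (A ⧸ p) :=
      (RingHom.mapMatrix (Ideal.Quotient.mk p)).comp (Algebra.leftMulMatrix b).toRingHom
    have hφp : Ideal.map (algebraMap A A') p ≤ RingHom.ker φ := by
      rw [Ideal.map_le_iff_le_comap]
      intro r hr
      rw [Ideal.mem_comap, RingHom.mem_ker]
      change (RingHom.mapMatrix (Ideal.Quotient.mk p)) (Algebra.leftMulMatrix b (algebraMap A A' r)) = 0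
      rw [AlgHom.commutes, Matrix.algebraMap_eq_diagonal, RingHom.mapMatrix_apply,
        Matrix.diagonal_map (map_zero _)]
      have : (Ideal.Quotient.mk p) r = 0 := Ideal.Quotient.eq_zero_iff_mem.mpr hr
      ext i j
      by_cases hij : i = j
      · subst hij; simp [this]
      · simp [Matrix.diagonal_apply_ne _ hij]
    have hdetφ : (φ a).det = 0 := by
      change ((RingHom.mapMatrix (Ideal.Quotient.mk p)) (Algebra.leftMulMatrix b a)).det = 0
      rw [← RingHom.map_det, ← Algebra.norm_eq_matrix_det b a]
      exact Ideal.Quotient.eq_zero_iff_mem.mpr hn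
    -- the ideal `pA' + aA'` is disjoint from `A ∖ p`
    have hdisj : Disjoint ((Ideal.map (algebraMap A A') p ⊔ Ideal.span {a} : Ideal A') : Set A')
        ((Submonoid.map (algebraMap A A') p.primeCompl : Submonoid A') : Set A') := by
      rw [Set.disjoint_left]
      rintro z hz ⟨s, hs, rfl⟩
      obtain ⟨x, hx, y', hy', hxy⟩ := Submodule.mem_sup.mp hz
      obtain ⟨y, rfl⟩ := Ideal.mem_span_singleton'.mp hy'
      have hφx : φ x = 0 := hφp hx
      have hφs : φ (algebraMap A A' s) = φ y * φ a := by
        rw [← hxy, map_add, hφx, zero_add, map_mul]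
      have hdet : (φ (algebraMap A A' s)).det = 0 := by
        rw [hφs, Matrix.det_mul, hdetφ, mul_zero]
      have hφs' : φ (algebraMap A A' s) =
          Matrix.diagonal (fun _ => (Ideal.Quotient.mk p) s) := by
        change (RingHom.mapMatrix (Ideal.Quotient.mk p))
          (Algebra.leftMulMatrix b (algebraMap A A' s)) = _
        rw [AlgHom.commutes, Matrix.algebraMap_eq_diagonal, RingHom.mapMatrix_apply,
          Matrix.diagonal_map (map_zero _)]
        rfl
      rw [hφs', Matrix.det_diagonal, Finset.prod_const] at hdet
      have : (Ideal.Quotient.mk p) s = 0 := eq_zero_of_pow_eq_zero hdet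
      exact hs (Ideal.Quotient.eq_zero_iff_mem.mp this)
    obtain ⟨q, hq, hIq, hqS⟩ := Ideal.exists_le_prime_disjoint _ _ hdisj
    refine ⟨q, hq, ⟨?_⟩, ?_⟩
    · apply le_antisymm
      · intro r hr
        rw [Ideal.mem_comap]
        exact hIq (Ideal.mem_sup_left (Ideal.mem_map_of_mem _ hr))
      · intro r hr
        rw [Ideal.mem_comap] at hr
        by_contra hrp
        exact Set.disjoint_left.mp hqS hr ⟨r, hrp, rfl⟩
    · exact hIq (Ideal.mem_sup_right (Ideal.mem_span_singleton_self a))

end Groth.Agent.S5212
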