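import Groth.Statements.S5214
import Groth.Agent.Lib.Helper3.UnivEffEpi

set_option autoImplicit false
open CategoryTheory CategoryTheory.Limits
universe w v₁ u₁
open DescCat

namespace Groth.Agent.S5214

/-- In a category with pullbacks and binary products: the product `u × u'` of two universal effective
epimorphisms (morphisms all of whose base changes are effective epimorphisms) is a universal
effective epimorphism. -/
theorem result {C : Type u₁} [Category.{v₁} C] [HasPullbacks C] [HasBinaryProducts C]
    {X Y X' Y' : C} (u : X ⟶ Y) (u' : X' ⟶ Y')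
    (hu : (MorphismProperty.universally (fun (A B : C) (p : A ⟶ B) => EffectiveEpi p)) u) (hu' : (MorphismProperty.universally (fun (A B : C) (p : A ⟶ B) => EffectiveEpi p)) u') :
    (MorphismProperty.universally (fun (A B : C) (p : A ⟶ B) => EffectiveEpi p)) (prod.map u u') := by
  have h1 : Groth.Agent.H3.UEE C (prod.map u (𝟙 X')) :=
    Groth.Agent.H3.UEE.of_isPullback (f := u) hu (IsPullback.of_prod_fst_with_id u X').flip
  have h2' : Groth.Agent.H3.UEE C (prod.map u' (𝟙 Y)) :=
    Groth.Agent.H3.UEE.of_isPullback (f := u') hu' (IsPullback.of_prod_fst_with_id u' Y).flip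
  have e2 : prod.map (𝟙 Y) u' =
      (prod.braiding Y X').hom ≫ prod.map u' (𝟙 Y) ≫ (prod.braiding Y' Y).hom := by
    ext
    · rw [prod.map_fst, Category.comp_id, Category.assoc, Category.assoc, prod.braiding_hom,
        prod.braiding_hom, prod.lift_fst, prod.map_snd, Category.comp_id, prod.lift_snd]
    · rw [prod.map_snd, Category.assoc, Category.assoc, prod.braiding_hom,
        prod.braiding_hom, prod.lift_snd, prod.map_fst, ← Category.assoc, prod.lift_fst]
  have h2 : Groth.Agent.H3.UEE C (prod.map (𝟙 Y) u') := by
    rw [e2]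
    exact (Groth.Agent.H3.UEE.of_isIso _).comp (h2'.comp (Groth.Agent.H3.UEE.of_isIso _))
  have e : prod.map u u' = prod.map u (𝟙 X') ≫ prod.map (𝟙 Y) u' := by
    ext <;> simp
  rw [e]
  exact h1.comp h2

end Groth.Agent.S5214
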