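import Groth.Statements.S5220


set_option autoImplicit false
open CategoryTheory CategoryTheory.Limits
universe w v₁ u₁
open GrpQ

namespace Groth.Agent.S5220

/-- In a category with pullbacks: let `d₀ d₁ : X₁ ⇉ X₀` admit a common section and let `f₀ : Y₀ ⟶ X₀` be
an effective epimorphism which is also a universal epimorphism. For the inverse-image pair `Y₁ :=
(Y₀ ×_{X₀,d₁} X₁) ×_{d₀,X₀} Y₀ ⇉ Y₀`, every morphism out of `Y₀` equalized by the two projections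
descends uniquely to a morphism out of `X₀` equalized by `d₀, d₁`. (Only the common section of the
groupoid structure is used.) -/
theorem result {C : Type u₁} [Category.{v₁} C] [HasPullbacks C]
    {X₁ X₀ Y₀ : C} (d₀ d₁ : X₁ ⟶ X₀) (s : X₀ ⟶ X₁) (hs₀ : s ≫ d₀ = 𝟙 X₀) (hs₁ : s ≫ d₁ = 𝟙 X₀)
    (f₀ : Y₀ ⟶ X₀) [EffectiveEpi f₀]
    (hf : MorphismProperty.universally (MorphismProperty.epimorphisms C) f₀)
    {T : C} (g : Y₀ ⟶ T)
    (hg : (pullback.fst (pullback.snd f₀ d₁ ≫ d₀) f₀ ≫ pullback.fst f₀ d₁) ≫ g =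
      pullback.snd (pullback.snd f₀ d₁ ≫ d₀) f₀ ≫ g) :
    ∃! h : X₀ ⟶ T, d₁ ≫ h = d₀ ≫ h ∧ f₀ ≫ h = g := by
  have c1 : pullback.fst f₀ d₁ ≫ f₀ = pullback.snd f₀ d₁ ≫ d₁ := pullback.condition
  have c2 : pullback.fst (pullback.snd f₀ d₁ ≫ d₀) f₀ ≫ pullback.snd f₀ d₁ ≫ d₀ =
      pullback.snd (pullback.snd f₀ d₁ ≫ d₀) f₀ ≫ f₀ := pullback.condition
  -- `g` is compatible with the kernel pair of `f₀`
  have hc : ∀ {Z : C} (a b : Z ⟶ Y₀), a ≫ f₀ = b ≫ f₀ → a ≫ g = b ≫ g := by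
    intro Z a b hab
    let k₁ : Z ⟶ pullback f₀ d₁ := pullback.lift a (a ≫ f₀ ≫ s) (by
      rw [Category.assoc, Category.assoc, hs₁, Category.comp_id])
    have hk₁1 : k₁ ≫ pullback.fst f₀ d₁ = a := pullback.lift_fst _ _ _
    have hk₁2 : k₁ ≫ pullback.snd f₀ d₁ = a ≫ f₀ ≫ s := pullback.lift_snd _ _ _
    let k : Z ⟶ pullback (pullback.snd f₀ d₁ ≫ d₀) f₀ := pullback.lift k₁ b (by
      rw [← Category.assoc, hk₁2, Category.assoc, Category.assoc, hs₀, Category.comp_id, hab])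
    have hk1 : k ≫ pullback.fst (pullback.snd f₀ d₁ ≫ d₀) f₀ = k₁ := pullback.lift_fst _ _ _
    have hk2 : k ≫ pullback.snd (pullback.snd f₀ d₁ ≫ d₀) f₀ = b := pullback.lift_snd _ _ _
    have h3 : k ≫ (pullback.fst (pullback.snd f₀ d₁ ≫ d₀) f₀ ≫ pullback.fst f₀ d₁) ≫ g =
        k ≫ pullback.snd (pullback.snd f₀ d₁ ≫ d₀) f₀ ≫ g := by rw [hg]
    rw [← Category.assoc, ← Category.assoc, hk1, hk₁1, ← Category.assoc, hk2] at h3
    exact h3
  -- the projection `Y₁ ⟶ X₁` is an epimorphism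
  have e1 : Epi (pullback.snd f₀ d₁) :=
    hf _ _ _ (IsPullback.of_hasPullback f₀ d₁).flip
  have e2 : Epi (pullback.fst (pullback.snd f₀ d₁ ≫ d₀) f₀) :=
    hf _ _ _ (IsPullback.of_hasPullback (pullback.snd f₀ d₁ ≫ d₀) f₀)
  have hfac : f₀ ≫ EffectiveEpi.desc f₀ g hc = g := EffectiveEpi.fac f₀ g hc
  refine ⟨EffectiveEpi.desc f₀ g hc, ⟨?_, hfac⟩, ?_⟩
  · rw [← cancel_epi (pullback.snd f₀ d₁),
      ← cancel_epi (pullback.fst (pullback.snd f₀ d₁ ≫ d₀) f₀)]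
    calc pullback.fst (pullback.snd f₀ d₁ ≫ d₀) f₀ ≫ pullback.snd f₀ d₁ ≫ d₁ ≫
          EffectiveEpi.desc f₀ g hc
        = (pullback.fst (pullback.snd f₀ d₁ ≫ d₀) f₀ ≫ pullback.fst f₀ d₁) ≫ f₀ ≫
            EffectiveEpi.desc f₀ g hc := by
          rw [← Category.assoc (pullback.snd f₀ d₁), ← c1]; simp only [Category.assoc]
      _ = pullback.snd (pullback.snd f₀ d₁ ≫ d₀) f₀ ≫ f₀ ≫ EffectiveEpi.desc f₀ g hc := by
          rw [hfac, hg]
      _ = pullback.fst (pullback.snd f₀ d₁ ≫ d₀) f₀ ≫ pullback.snd f₀ d₁ ≫ d₀ ≫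
            EffectiveEpi.desc f₀ g hc := by
          rw [← Category.assoc _ f₀, ← c2]; simp only [Category.assoc]
  · rintro h' ⟨-, h2⟩
    exact EffectiveEpi.uniq f₀ g hc h' h2

end Groth.Agent.S5220
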