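import Groth.Statements.S5221
import Groth.Agent.S5220

set_option autoImplicit false
open CategoryTheory CategoryTheory.Limits
universe w v₁ u₁
open GrpQ

namespace Groth.Agent.S5221

/-- Existence part: in a category with pullbacks: with `d₀ d₁ : X₁ ⇉ X₀` admitting a common section and
`f₀ : Y₀ ⟶ X₀` an effective and universal epimorphism, the pair `(d₀, d₁)` has a coequalizer if and
only if its inverse-image pair on `Y₀` has one. -/
theorem result {C : Type u₁} [Category.{v₁} C] [HasPullbacks C]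
    {X₁ X₀ Y₀ : C} (d₀ d₁ : X₁ ⟶ X₀) (s : X₀ ⟶ X₁) (hs₀ : s ≫ d₀ = 𝟙 X₀) (hs₁ : s ≫ d₁ = 𝟙 X₀)
    (f₀ : Y₀ ⟶ X₀) [EffectiveEpi f₀]
    (hf : MorphismProperty.universally (MorphismProperty.epimorphisms C) f₀) :
    HasCoequalizer d₁ d₀ ↔
      HasCoequalizer (pullback.fst (pullback.snd f₀ d₁ ≫ d₀) f₀ ≫ pullback.fst f₀ d₁)
        (pullback.snd (pullback.snd f₀ d₁ ≫ d₀) f₀) := by
  have c1 : pullback.fst f₀ d₁ ≫ f₀ = pullback.snd f₀ d₁ ≫ d₁ := pullback.condition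
  have c2 : pullback.fst (pullback.snd f₀ d₁ ≫ d₀) f₀ ≫ pullback.snd f₀ d₁ ≫ d₀ =
      pullback.snd (pullback.snd f₀ d₁ ≫ d₀) f₀ ≫ f₀ := pullback.condition
  have key : ∀ {T : C} (k : X₀ ⟶ T), d₁ ≫ k = d₀ ≫ k →
      (pullback.fst (pullback.snd f₀ d₁ ≫ d₀) f₀ ≫ pullback.fst f₀ d₁) ≫ f₀ ≫ k =
        pullback.snd (pullback.snd f₀ d₁ ≫ d₀) f₀ ≫ f₀ ≫ k := by
    intro T k hk
    calc (pullback.fst (pullback.snd f₀ d₁ ≫ d₀) f₀ ≫ pullback.fst f₀ d₁) ≫ f₀ ≫ k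
        = pullback.fst (pullback.snd f₀ d₁ ≫ d₀) f₀ ≫ (pullback.fst f₀ d₁ ≫ f₀) ≫ k := by
          simp only [Category.assoc]
      _ = pullback.fst (pullback.snd f₀ d₁ ≫ d₀) f₀ ≫ pullback.snd f₀ d₁ ≫ d₀ ≫ k := by
          rw [c1, Category.assoc, hk]
      _ = pullback.snd (pullback.snd f₀ d₁ ≫ d₀) f₀ ≫ f₀ ≫ k := by
          rw [← Category.assoc _ d₀, ← Category.assoc, c2, Category.assoc]
  have hepi : Epi f₀ := inferInstance
  constructor
  · intro _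
    have hc : d₁ ≫ coequalizer.π d₁ d₀ = d₀ ≫ coequalizer.π d₁ d₀ := coequalizer.condition d₁ d₀
    have H : ∀ t : Cofork (pullback.fst (pullback.snd f₀ d₁ ≫ d₀) f₀ ≫ pullback.fst f₀ d₁)
        (pullback.snd (pullback.snd f₀ d₁ ≫ d₀) f₀),
        ∃! h : X₀ ⟶ t.pt, d₁ ≫ h = d₀ ≫ h ∧ f₀ ≫ h = t.π := fun t =>
      Groth.Agent.S5220.result d₀ d₁ s hs₀ hs₁ f₀ hf t.π t.condition
    refine HasColimit.mk ⟨Cofork.ofπ (f₀ ≫ coequalizer.π d₁ d₀) (key _ hc),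
      Cofork.IsColimit.mk' _ (fun t =>
        ⟨coequalizer.desc (H t).exists.choose (H t).exists.choose_spec.1, ?_, ?_⟩)⟩
    · change (f₀ ≫ coequalizer.π d₁ d₀) ≫ coequalizer.desc _ _ = t.π
      rw [Category.assoc, coequalizer.π_desc, (H t).exists.choose_spec.2]
    · intro m hm
      change (f₀ ≫ coequalizer.π d₁ d₀) ≫ m = t.π at hm
      change coequalizer d₁ d₀ ⟶ t.pt at m
      refine coequalizer.hom_ext (f := d₁) (g := d₀) ?_
      rw [coequalizer.π_desc]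
      refine (H t).unique ⟨?_, ?_⟩ (H t).exists.choose_spec
      · rw [← Category.assoc, hc, Category.assoc]
      · rw [← hm, Category.assoc]
  · intro _
    obtain ⟨h, ⟨hh1, hh2⟩, huniq⟩ :=
      Groth.Agent.S5220.result d₀ d₁ s hs₀ hs₁ f₀ hf
        (coequalizer.π (pullback.fst (pullback.snd f₀ d₁ ≫ d₀) f₀ ≫ pullback.fst f₀ d₁)
          (pullback.snd (pullback.snd f₀ d₁ ≫ d₀) f₀)) (coequalizer.condition _ _)
    refine HasColimit.mk ⟨Cofork.ofπ h hh1, Cofork.IsColimit.mk' _ (fun t => ?_)⟩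
    refine ⟨coequalizer.desc (f₀ ≫ t.π) (key t.π t.condition), ?_, ?_⟩
    · change h ≫ coequalizer.desc (f₀ ≫ t.π) (key t.π t.condition) = t.π
      rw [← cancel_epi f₀, ← Category.assoc, hh2, coequalizer.π_desc]
    · intro m hm
      change h ≫ m = t.π at hm
      refine coequalizer.hom_ext
        (f := pullback.fst (pullback.snd f₀ d₁ ≫ d₀) f₀ ≫ pullback.fst f₀ d₁)
        (g := pullback.snd (pullback.snd f₀ d₁ ≫ d₀) f₀) ?_
      rw [coequalizer.π_desc, ← hh2, Category.assoc, hm]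

end Groth.Agent.S5221
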