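import Groth.Statements.S5223
import Groth.Agent.Lib.Lead.QC.FlatBC

set_option autoImplicit false
open CategoryTheory CategoryTheory.Limits AlgebraicGeometry
universe u
open GrpQ

namespace Groth.Agent.S5223

/-- In a cartesian square of schemes `F₂ = F₁ ×_{X₀} X₁` whose bottom map `u : X₁ ⟶ X₀` is flat, the
base-changed map `d' : F₂ ⟶ X₁` is flat at a point `x` if and only if `d : F₁ ⟶ X₀` is flat at the
image of `x` in `F₁`. -/
theorem result {F₂ F₁ X₁ X₀ : Scheme.{u}}
    {v : F₂ ⟶ F₁} {d' : F₂ ⟶ X₁} {d : F₁ ⟶ X₀} {u : X₁ ⟶ X₀}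
    (h : IsPullback v d' d u) [Flat u] (x : F₂) :
    (d'.stalkMap x).hom.Flat ↔ (d.stalkMap (v.base x)).hom.Flat := by
  have hu : (u.stalkMap (d' x)).hom.Flat := Flat.stalkMap u (d' x)
  have hv : (v.stalkMap x).hom.Flat := Groth.Agent.LD.QC.stalkMap_flat_of_isPullback h x hu
  constructor
  · intro hd'
    have hcomp : ((v ≫ d).stalkMap x).hom.Flat := by
      rw [h.w, Scheme.Hom.stalkMap_comp]
      exact RingHom.Flat.comp hu hd'
    rw [Scheme.Hom.stalkMap_comp] at hcomp
    -- algebra structures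
    letI aAB : Algebra (X₀.presheaf.stalk (d (v x))) (F₁.presheaf.stalk (v x)) :=
      (d.stalkMap (v x)).hom.toAlgebra
    letI aBD : Algebra (F₁.presheaf.stalk (v x)) (F₂.presheaf.stalk x) :=
      (v.stalkMap x).hom.toAlgebra
    letI aAD : Algebra (X₀.presheaf.stalk (d (v x))) (F₂.presheaf.stalk x) :=
      ((v.stalkMap x).hom.comp (d.stalkMap (v x)).hom).toAlgebra
    haveI : IsScalarTower (X₀.presheaf.stalk (d (v x))) (F₁.presheaf.stalk (v x))
        (F₂.presheaf.stalk x) := IsScalarTower.of_algebraMap_eq fun c => rfl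
    haveI hfl : Module.Flat (F₁.presheaf.stalk (v x)) (F₂.presheaf.stalk x) := hv
    haveI : IsLocalHom (algebraMap (F₁.presheaf.stalk (v x)) (F₂.presheaf.stalk x)) :=
      inferInstanceAs (IsLocalHom (v.stalkMap x).hom)
    haveI : Module.FaithfullyFlat (F₁.presheaf.stalk (v x)) (F₂.presheaf.stalk x) :=
      Module.FaithfullyFlat.of_flat_of_isLocalHom
    haveI hAD : Module.Flat (X₀.presheaf.stalk (d (v x))) (F₂.presheaf.stalk x) := hcomp
    change Module.Flat (X₀.presheaf.stalk (d (v x))) (F₁.presheaf.stalk (v x))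
    apply Groth.Agent.LD.QC.flat_of_flat_tensor_of_faithfullyFlat
      (C := X₀.presheaf.stalk (d (v x))) (A := F₁.presheaf.stalk (v x))
      (B := F₂.presheaf.stalk x) (M := F₁.presheaf.stalk (v x))
    exact Module.Flat.of_linearEquiv
      ((TensorProduct.AlgebraTensorModule.rid (F₁.presheaf.stalk (v x))
        (F₂.presheaf.stalk x) (F₂.presheaf.stalk x)).restrictScalars
          (X₀.presheaf.stalk (d (v x))))
  · intro hd
    exact Groth.Agent.LD.QC.stalkMap_flat_of_isPullback h.flip x hd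

end Groth.Agent.S5223
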