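import Groth.Statements.S5226
import Groth.Agent.S5218
import Groth.Agent.Lib.Helper3.UnivEffEpi

set_option autoImplicit false
open CategoryTheory CategoryTheory.Limits
universe w v₁ u₁
open ShfCat

namespace Groth.Agent.S5226

/-- For sheaves of sets on a site with sheafification: if `R ⇉ X` is an equivalence relation with
(universally effective) quotient `X/R` and `Y ⊆ X` is a subsheaf with induced relation `R_Y`, then
the canonical map `Y/R_Y ⟶ X/R` is a monomorphism. Here `R_Y` is built as the iterated pullback of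
`R` along `Y ⟶ X` on both sides. -/
theorem result {C : Type u₁} [Category.{v₁} C]
    (J : GrothendieckTopology C) [HasSheafify J (Type w)]
    {R X Y : Sheaf J (Type w)} {p₁ p₂ : R ⟶ X} (e : UniversallyEffectiveEquivalenceRelation p₁ p₂)
    (ι : Y ⟶ X) [Mono ι]
    [HasCoequalizer (pullback.fst (pullback.fst p₁ ι ≫ p₂) ι ≫ pullback.snd p₁ ι)
      (pullback.snd (pullback.fst p₁ ι ≫ p₂) ι)]
    (g : coequalizer (pullback.fst (pullback.fst p₁ ι ≫ p₂) ι ≫ pullback.snd p₁ ι)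
      (pullback.snd (pullback.fst p₁ ι ≫ p₂) ι) ⟶ e.B)
    (hg : coequalizer.π _ _ ≫ g = ι ≫ e.π) :
    Mono g := by
  have hπ : Groth.Agent.H3.UEE (Sheaf J (Type w))
      (coequalizer.π (pullback.fst (pullback.fst p₁ ι ≫ p₂) ι ≫ pullback.snd p₁ ι)
        (pullback.snd (pullback.fst p₁ ι ≫ p₂) ι)) :=
    Groth.Agent.S5218.result J _
  refine Groth.Agent.H3.mono_of_universally_epi _ hπ.universally_epi g ?_
  intro Q a b hab
  rw [hg] at hab
  -- `(a ≫ ι, b ≫ ι)` factors through `R`, the kernel pair of `e.π`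
  have hab' : (a ≫ ι) ≫ e.π = (b ≫ ι) ≫ e.π := by simpa only [Category.assoc] using hab
  let r : Q ⟶ R := e.isKernelPair.lift (a ≫ ι) (b ≫ ι) hab'
  have hr1 : r ≫ p₁ = a ≫ ι := e.isKernelPair.lift_fst _ _ _
  have hr2 : r ≫ p₂ = b ≫ ι := e.isKernelPair.lift_snd _ _ _
  let k₁ : Q ⟶ pullback p₁ ι := pullback.lift r a hr1
  have hk₁1 : k₁ ≫ pullback.fst p₁ ι = r := pullback.lift_fst _ _ _
  have hk₁2 : k₁ ≫ pullback.snd p₁ ι = a := pullback.lift_snd _ _ _
  let k : Q ⟶ pullback (pullback.fst p₁ ι ≫ p₂) ι := pullback.lift k₁ b (by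
    rw [← Category.assoc, hk₁1, hr2])
  have hk1 : k ≫ pullback.fst (pullback.fst p₁ ι ≫ p₂) ι = k₁ := pullback.lift_fst _ _ _
  have hk2 : k ≫ pullback.snd (pullback.fst p₁ ι ≫ p₂) ι = b := pullback.lift_snd _ _ _
  have hc := coequalizer.condition (pullback.fst (pullback.fst p₁ ι ≫ p₂) ι ≫ pullback.snd p₁ ι)
    (pullback.snd (pullback.fst p₁ ι ≫ p₂) ι)
  have h3 : k ≫ (pullback.fst (pullback.fst p₁ ι ≫ p₂) ι ≫ pullback.snd p₁ ι) ≫
      coequalizer.π (pullback.fst (pullback.fst p₁ ι ≫ p₂) ι ≫ pullback.snd p₁ ι)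
        (pullback.snd (pullback.fst p₁ ι ≫ p₂) ι) =
      k ≫ pullback.snd (pullback.fst p₁ ι ≫ p₂) ι ≫
      coequalizer.π (pullback.fst (pullback.fst p₁ ι ≫ p₂) ι ≫ pullback.snd p₁ ι)
        (pullback.snd (pullback.fst p₁ ι ≫ p₂) ι) := by rw [hc]
  rw [← Category.assoc, ← Category.assoc, hk1, hk₁2, ← Category.assoc, hk2] at h3
  exact h3

end Groth.Agent.S5226
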