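import Groth.Statements.S5231


set_option autoImplicit false
open CategoryTheory
universe w v₁ u₁
open ShfCat

namespace Groth.Agent.S5231

/-- (iii) ⇒ (i): a morphism `f` of sheaves of sets on a site is a monomorphism (resp. an epimorphism) as
soon as, for every object `S`, the morphisms `T ⟶ S` over which the restriction of `f` to the
induced site `C/T` is a monomorphism (resp. an epimorphism) form a covering sieve. No sheafification
is assumed. (The published statement also treats isomorphisms in the same way; that case is left out
here.) -/
theorem result {C : Type u₁} [Category.{v₁} C]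
    (J : GrothendieckTopology C) {F G : Sheaf J (Type w)} (f : F ⟶ G) :
    ((∀ S : C, ∃ R : Sieve S, R ∈ J S ∧ ∀ ⦃T : C⦄ (g : T ⟶ S), R g →
        Mono ((J.overPullback (Type w) T).map f)) → Mono f) ∧
    ((∀ S : C, ∃ R : Sieve S, R ∈ J S ∧ ∀ ⦃T : C⦄ (g : T ⟶ S), R g →
        Epi ((J.overPullback (Type w) T).map f)) → Epi f) := by
  constructor
  · intro hyp
    refine ⟨fun {H} a b hab => ?_⟩
    ext ⟨S⟩ x
    obtain ⟨R, hR, hRm⟩ := hyp S
    apply (((isSheaf_iff_isSheaf_of_type J F.obj).1 F.property).isSeparated R hR).ext
    intro T g hg
    have := hRm g hg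
    have heq : (J.overPullback (Type w) T).map a = (J.overPullback (Type w) T).map b := by
      rw [← cancel_mono ((J.overPullback (Type w) T).map f), ← Functor.map_comp,
        ← Functor.map_comp, hab]
    have h1 := ConcreteCategory.congr_hom
      (NatTrans.congr_app (congrArg (fun t => t.hom) heq) (Opposite.op (Over.mk (𝟙 T))))
      (H.obj.map g.op x)
    have n1 := NatTrans.naturality_apply a.hom g.op x
    have n2 := NatTrans.naturality_apply b.hom g.op x
    exact n1.symm.trans (h1.trans n2)
  · intro hyp
    refine ⟨fun {H} a b hab => ?_⟩
    ext ⟨S⟩ x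
    obtain ⟨R, hR, hRm⟩ := hyp S
    apply (((isSheaf_iff_isSheaf_of_type J H.obj).1 H.property).isSeparated R hR).ext
    intro T g hg
    have := hRm g hg
    have heq : (J.overPullback (Type w) T).map a = (J.overPullback (Type w) T).map b := by
      rw [← cancel_epi ((J.overPullback (Type w) T).map f), ← Functor.map_comp,
        ← Functor.map_comp, hab]
    have h1 := ConcreteCategory.congr_hom
      (NatTrans.congr_app (congrArg (fun t => t.hom) heq) (Opposite.op (Over.mk (𝟙 T))))
      (G.obj.map g.op x)
    have n1 := NatTrans.naturality_apply a.hom g.op x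
    have n2 := NatTrans.naturality_apply b.hom g.op x
    exact n1.symm.trans (h1.trans n2)

end Groth.Agent.S5231
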