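import Groth.Statements.S5263
import Mathlib
import Groth.Agent.S6064
import Groth.Agent.H4.HfC

set_option autoImplicit false
open CategoryTheory MonoidalCategory CartesianMonoidalCategory MonObj GrpObj AlgebraicGeometry
universe u
open SGA3x

namespace Groth.Agent.S5263

/-- Let G and H be S-groups of multiplicative type which are finite over S. Then the functor of group
homomorphisms from G to H is representable by an S-scheme which is finite and etale over S (with its
universal family of homomorphisms). -/
theorem result {S : Scheme.{u}} (G H : Over S) [GrpObj G] [GrpObj H]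
    (hG : SGA3x.IsMultTypeFT G) [IsFinite G.hom] (hH : SGA3x.IsMultTypeFT H) [IsFinite H.hom] :
    ∃ (A : Over S) (υ : G ⊗ A ⟶ H), AutFam.RepresentsHom G H A υ ∧ IsFinite A.hom ∧ Etale A.hom := by
  haveI : IsAffineHom H.hom := inferInstance
  obtain ⟨A, υ, hrep, haff, hft, -⟩ := Groth.Agent.S6064.result G H hG
  haveI := haff
  haveI : LocallyOfFiniteType A.hom := hft inferInstance
  obtain ⟨h1, h2⟩ := Groth.Agent.H4.HfC.finite_etale_of_rep G H hG hH A υ hrep
  exact ⟨A, υ, hrep, h1, h2⟩

end Groth.Agent.S5263
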