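import Groth.Statements.S5270
import Mathlib

set_option autoImplicit false
universe u
open TensorProduct SGA3b
open SGA3b

namespace Groth.Agent.S5270

/-- Injectivity of the map to formal homomorphisms. Let A be a Noetherian ring, separated and complete
for the I-adic topology, H = Spec B an isotrivial A-group of multiplicative type and G = Spec C an
affine A-group. If two homomorphisms H ⟶ G, given by bialgebra maps φ, ψ : C → B, have the same
reduction modulo I^(n+1) for every n ≥ 0, then φ = ψ. (Affine group schemes over an affine base are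
taken in Hopf-algebra form; base change is the tensor product; a homomorphism of groups Spec A ⟶
Spec C is a bialgebra map C → A.) -/
theorem result (A : Type u) [CommRing A] [IsNoetherianRing A] (I : Ideal A) [IsAdicComplete I A]
    (B : Type u) [CommRing B] [HopfAlgebra A B] (hH : IsIsotrivial A B)
    (C : Type u) [CommRing C] [HopfAlgebra A C] (φ ψ : C →ₐc[A] B)
    (h : ∀ (n : ℕ) (c : C), (1 : A ⧸ I ^ (n + 1)) ⊗ₜ[A] (φ c) = (1 : A ⧸ I ^ (n + 1)) ⊗ₜ[A] (ψ c)) :
    φ = ψ := by
  obtain ⟨R', _, _, het, hfin, hff, M, _, ⟨e⟩⟩ := hH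
  apply BialgHom.ext
  intro c
  rw [← sub_eq_zero]
  set z : B := φ c - ψ c with hz
  -- z lies in I^(n+1) B for all n
  have hzmem : ∀ n : ℕ, z ∈ (I ^ (n + 1) • ⊤ : Submodule A B) := by
    intro n
    have h1 : (1 : A ⧸ I ^ (n + 1)) ⊗ₜ[A] z = 0 := by
      rw [hz, TensorProduct.tmul_sub, h n c, sub_self]
    have h2 := congrArg (TensorProduct.quotTensorEquivQuotSMul B (I ^ (n + 1))) h1
    rw [map_zero, ← map_one (Ideal.Quotient.mk (I ^ (n + 1))),
      TensorProduct.quotTensorEquivQuotSMul_mk_tmul, one_smul,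
      Submodule.Quotient.mk_eq_zero] at h2
    exact h2
  -- coefficients
  have hcoeff : ∀ (m : M) (k : ℕ) (x : B), x ∈ (I ^ k • ⊤ : Submodule A B) →
      (e ((1 : R') ⊗ₜ[A] x)).coeff m ∈ (I ^ k • ⊤ : Submodule A R') := by
    intro m k x hx
    refine Submodule.smul_induction_on hx ?_ ?_
    · intro r hr b _
      have h3 : e ((1 : R') ⊗ₜ[A] (r • b)) = algebraMap A R' r • e ((1 : R') ⊗ₜ[A] b) := by
        rw [TensorProduct.tmul_smul, ← algebraMap_smul R' r ((1 : R') ⊗ₜ[A] b), map_smul e]
      rw [h3, MonoidAlgebra.coeff_smul, Finsupp.smul_apply, smul_eq_mul, ← Algebra.smul_def]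
      exact Submodule.smul_mem_smul hr Submodule.mem_top
    · intro x y hx hy
      rw [TensorProduct.tmul_add, map_add e, MonoidAlgebra.coeff_add, Finsupp.add_apply]
      exact add_mem hx hy
  have hkrull : (⨅ i : ℕ, I ^ i • ⊤ : Submodule A R') = ⊥ :=
    Ideal.iInf_pow_smul_eq_bot_of_le_jacobson I (IsAdicComplete.le_jacobson_bot I)
  have hzero : e ((1 : R') ⊗ₜ[A] z) = 0 := by
    apply MonoidAlgebra.coeff_injective
    ext m
    rw [MonoidAlgebra.coeff_zero, Finsupp.zero_apply]
    have : (e ((1 : R') ⊗ₜ[A] z)).coeff m ∈ (⨅ i : ℕ, I ^ i • ⊤ : Submodule A R') := by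
      rw [Submodule.mem_iInf]
      intro i
      rcases i with _ | i
      · rw [pow_zero, Ideal.one_eq_top, Submodule.top_smul]
        exact Submodule.mem_top
      · exact hcoeff m (i + 1) z (hzmem i)
    rw [hkrull] at this
    exact (Submodule.mem_bot A).1 this
  have h4 : (1 : R') ⊗ₜ[A] z = 0 := by
    apply EquivLike.injective e
    rw [hzero, map_zero e]
  exact (Module.FaithfullyFlat.one_tmul_eq_zero_iff A B z).1 h4

end Groth.Agent.S5270
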