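import Groth.Statements.S5339
import Mathlib
import Groth.Agent.H4.LdC

set_option autoImplicit false
universe u
open CategoryTheory CategoryTheory.Limits MonoidalCategory CartesianMonoidalCategory MonObj GrpObj AlgebraicGeometry
open SGA3

namespace Groth.Agent.S5339

/-- Let A be a local artinian ring and G a flat A-group scheme (not assumed locally of finite type). If
G is locally quasi-finite and locally of finite type (resp. unramified, resp. smooth, resp. etale)
over A on some nonempty open subscheme, then G is locally quasi-finite and locally of finite type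
(resp. unramified, resp. smooth, resp. etale) over A. -/
theorem result (A : Type u) [CommRing A] [IsArtinianRing A] [IsLocalRing A] (G : Over (Spec (CommRingCat.of A))) [GrpObj G] [Flat G.hom]
    (W : G.left.Opens) (hW : (W : Set G.left).Nonempty) :
    (LocallyQuasiFinite (W.ι ≫ G.hom) → LocallyOfFiniteType (W.ι ≫ G.hom) → LocallyQuasiFinite G.hom ∧ LocallyOfFiniteType G.hom) ∧
    (FormallyUnramified (W.ι ≫ G.hom) → LocallyOfFinitePresentation (W.ι ≫ G.hom) →
      FormallyUnramified G.hom ∧ LocallyOfFinitePresentation G.hom) ∧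
    (Smooth (W.ι ≫ G.hom) → Smooth G.hom) ∧ (Etale (W.ι ≫ G.hom) → Etale G.hom) := by
  have hlft : LocallyOfFiniteType (W.ι ≫ G.hom) → LocallyOfFiniteType G.hom :=
    Groth.Agent.H4.LdC.s5340 A G W hW
  have hu : (toUnit G).left = G.hom := rfl
  refine ⟨?_, ?_, ?_, ?_⟩
  · intro h1 h2
    haveI := hlft h2
    exact ⟨(Groth.Agent.H1.GrpArt.s5337 A G (𝟙_ _) (toUnit G) W hW).1 h1, inferInstance⟩
  · intro h1 h2
    haveI := h2
    haveI := hlft inferInstance
    exact (Groth.Agent.H1.GrpArt.s5337 A G (𝟙_ _) (toUnit G) W hW).2.1 h1 h2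
  · intro h1
    haveI := h1
    haveI := hlft inferInstance
    exact (Groth.Agent.H1.GrpArt.s5337 A G (𝟙_ _) (toUnit G) W hW).2.2.1 h1
  · intro h1
    haveI := h1
    haveI := hlft inferInstance
    exact (Groth.Agent.H1.GrpArt.s5337 A G (𝟙_ _) (toUnit G) W hW).2.2.2 h1

end Groth.Agent.S5339
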