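import Groth.Statements.S5343
import Groth.Agent.Lib.Helper5.ProjClopen.A

set_option autoImplicit false
universe u
open CategoryTheory CategoryTheory.Limits MonoidalCategory CartesianMonoidalCategory MonObj GrpObj AlgebraicGeometry
open SGA3

namespace Groth.Agent.S5343

/-- Let R be a commutative ring and B a commutative R-algebra which is projective as an R-module. Then
the image of Spec B → Spec R is an open and closed subset of Spec R. (The published statement
concerns a quasi-coherent algebra on any scheme which is a direct summand of a free module; this row
is the affine case.) -/
theorem result (R B : Type u) [CommRing R] [CommRing B] [Algebra R B] [Module.Projective R B] :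
    IsClopen (Set.range (PrimeSpectrum.comap (algebraMap R B))) := by
  exact Groth.Agent.Lib.Helper5.ProjClopen.main5343

end Groth.Agent.S5343
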