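import Groth.Statements.S5366
import Mathlib
import Groth.Agent.H4.WdA
import Groth.Agent.H4.WdB
import Groth.Agent.H4.WdC

set_option autoImplicit false
universe u
open CategoryTheory CategoryTheory.Limits MonoidalCategory CartesianMonoidalCategory MonObj GrpObj AlgebraicGeometry
open SGA3

namespace Groth.Agent.S5366

/-- (i) ⟺ (iii): let G be a smooth group scheme of finite type over a field k, Ω an algebraically closed
extension field of k and n a natural number. Then G is solvable of class n (the n-th term of the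
derived series of the group G(T) is trivial for every k-scheme T) if and only if the n-th term of
the derived series of the group of Ω-points G(Ω) is trivial; and G is nilpotent of class n (the n-th
term of the lower central series of G(T) is trivial for every T) if and only if the n-th term of the
lower central series of G(Ω) is trivial. -/
theorem result (k : Type u) [Field k] (G : Over (Spec (CommRingCat.of k))) [GrpObj G]
    [Smooth G.hom] [QuasiCompact G.hom] (Ω : Type u) [Field Ω] [Algebra k Ω] [IsAlgClosed Ω] (n : ℕ) :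
    ((∀ T : Over (Spec (CommRingCat.of k)), derivedSeries (T ⟶ G) n = ⊥) ↔ derivedSeries ((Over.mk (Spec.map (CommRingCat.ofHom (algebraMap k Ω))) : Over (Spec (CommRingCat.of k))) ⟶ G) n = ⊥) ∧
    ((∀ T : Over (Spec (CommRingCat.of k)), Subgroup.lowerCentralSeries (⊤ : Subgroup (T ⟶ G)) n = ⊥) ↔ Subgroup.lowerCentralSeries (⊤ : Subgroup (((Over.mk (Spec.map (CommRingCat.ofHom (algebraMap k Ω))) : Over (Spec (CommRingCat.of k))) ⟶ G))) n = ⊥) := by
  have key : ∀ (P : Over (Spec (CommRingCat.of k))) (w : P ⟶ G), Smooth P.hom →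
      (∀ a : (Over.mk (Spec.map (CommRingCat.ofHom (algebraMap k Ω))) :
        Over (Spec (CommRingCat.of k))) ⟶ P, a ≫ w = 1) → w = 1 := by
    intro P w hP h
    haveI := hP
    apply Over.OverMorphism.ext
    apply Groth.Agent.H4.WdC.hom_ext_of_geom_points k Ω P.hom
    intro a ha
    let a' : (Over.mk (Spec.map (CommRingCat.ofHom (algebraMap k Ω))) :
        Over (Spec (CommRingCat.of k))) ⟶ P := Over.homMk a ha
    have h1 : a ≫ w.left = (1 : (Over.mk (Spec.map (CommRingCat.ofHom (algebraMap k Ω))) :
        Over (Spec (CommRingCat.of k))) ⟶ G).left := congrArg CommaMorphism.left (h a')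
    have h2 : a ≫ (1 : P ⟶ G).left = (1 : (Over.mk (Spec.map (CommRingCat.ofHom (algebraMap k Ω))) :
        Over (Spec (CommRingCat.of k))) ⟶ G).left :=
      congrArg CommaMorphism.left (MonObj.comp_one (M := G) a')
    exact h1.trans h2.symm
  have hPG : Smooth G.hom := inferInstance
  have hPP : ∀ X Y : Over (Spec (CommRingCat.of k)), Smooth X.hom → Smooth Y.hom →
      Smooth (X ⊗ Y).hom := by
    intro X Y hX hY
    haveI := hX
    haveI := hY
    rw [Over.tensorObj_hom]
    infer_instance
  refine ⟨⟨fun h => h _, fun h T => ?_⟩, ⟨fun h => h _, fun h T => ?_⟩⟩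
  · obtain ⟨P, w, hP, hw⟩ := Groth.Agent.H4.WdB.exists_dWord G (fun P => Smooth P.hom) hPG hPP n
    have hw1 : w = 1 := key P w hP (fun a => by
      have hmem : a ≫ w ∈ derivedSeries (_ ⟶ G) n := by
        rw [Groth.Agent.H4.WdA.derivedSeries_eq_closure, hw]
        exact Subgroup.subset_closure ⟨a, rfl⟩
      rw [h] at hmem
      exact Subgroup.mem_bot.mp hmem)
    rw [Groth.Agent.H4.WdA.derivedSeries_eq_closure, hw T, Subgroup.closure_eq_bot_iff]
    rintro _ ⟨a, rfl⟩
    show a ≫ w = 1
    rw [hw1]
    exact MonObj.comp_one a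
  · obtain ⟨P, w, hP, hw⟩ := Groth.Agent.H4.WdB.exists_lWord G (fun P => Smooth P.hom) hPG hPP n
    have hw1 : w = 1 := key P w hP (fun a => by
      have hmem : a ≫ w ∈ Subgroup.lowerCentralSeries (⊤ : Subgroup (_ ⟶ G)) n := by
        rw [Groth.Agent.H4.WdA.lowerCentralSeries_eq_closure, hw]
        exact Subgroup.subset_closure ⟨a, rfl⟩
      rw [h] at hmem
      exact Subgroup.mem_bot.mp hmem)
    rw [Groth.Agent.H4.WdA.lowerCentralSeries_eq_closure, hw T, Subgroup.closure_eq_bot_iff]
    rintro _ ⟨a, rfl⟩
    show a ≫ w = 1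
    rw [hw1]
    exact MonObj.comp_one a

end Groth.Agent.S5366
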