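import Groth.Statements.S5375
import Mathlib
import Groth.Agent.Lib.Helper9.FF.FGSub

set_option autoImplicit false
universe u
open CategoryTheory CategoryTheory.Limits MonoidalCategory CartesianMonoidalCategory MonObj GrpObj AlgebraicGeometry
open SGA3

namespace Groth.Agent.S5375

/-- Let A be a commutative Hopf algebra over a field k (an affine k-group, not necessarily of finite
type) and x an element of A. Then there is a subalgebra B of A of finite type over k containing x
which is a sub-Hopf-algebra: the comultiplication sends B into B ⊗ B and the antipode preserves B. -/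
theorem result (k : Type u) [Field k] (A : Type u) [CommRing A] [HopfAlgebra k A] (x : A) :
    ∃ B : Subalgebra k A, x ∈ B ∧ B.FG ∧ SGA3.IsHopfSubalgebra k A B := by
  obtain ⟨B, hB, hfg, hsub⟩ := Groth.Agent.H9.FF.exists_fg_isHopfSub (k := k) (A := A) {x}
  exact ⟨B, hsub (by simp), hfg, ⟨hB.1, hB.2⟩⟩

end Groth.Agent.S5375
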