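import Groth.Statements.S5376
import Mathlib
import Groth.Agent.Lib.Helper9.CocommDiag.Semisimple
import Groth.Agent.Lib.Helper9.ComodStab
import Groth.Agent.Lib.Helper9.FF.Conv

set_option autoImplicit false
universe u
open CategoryTheory CategoryTheory.Limits MonoidalCategory CartesianMonoidalCategory MonObj GrpObj AlgebraicGeometry
open SGA3

namespace Groth.Agent.S5376

/-- Let k be an algebraically closed field, A a finitely generated commutative Hopf algebra over k which
is reduced (a reduced affine algebraic k-group G), V a finite-dimensional A-comodule and v a vector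
of V. Let E be the k-subspace of V spanned by the vectors g·v for g running over the k-points of G
(algebra maps A → k). Then E is a subcomodule of V containing v, and it is the smallest one. -/
theorem result (k : Type u) [Field k] [IsAlgClosed k] (A : Type u) [CommRing A] [HopfAlgebra k A]
    [Algebra.FiniteType k A] [IsReduced A] (V : Type u) [AddCommGroup V] [Module k V] [HopfRep.Comod k A V]
    [Module.Finite k V] (v : V) :
    letI E : Submodule k V := Submodule.span k (Set.range fun g : A →ₐ[k] k => HopfRep.Comod.act k A V g v)
    HopfRep.IsSubcomod (k := k) (A := A) E ∧ v ∈ E ∧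
      ∀ W : Submodule k V, HopfRep.IsSubcomod (k := k) (A := A) W → v ∈ W → E ≤ W := by
  classical
  set E : Submodule k V := Submodule.span k (Set.range fun g : A →ₐ[k] k => HopfRep.Comod.act k A V g v) with hE
  have hact : ∀ (g : A →ₐ[k] k) (w : V), HopfRep.Comod.act k A V g w =
      Groth.Agent.H9.Comod.slice g.toLinearMap (HopfRep.Comod.coact (k := k) (A := A) w) :=
    fun _ _ => rfl
  have hmemE : ∀ g : A →ₐ[k] k, HopfRep.Comod.act k A V g v ∈ E := fun g =>
    Submodule.subset_span ⟨g, rfl⟩
  have hconv : ∀ h g : A →ₐ[k] k,
      Groth.Agent.H9.Comod.conv h.toLinearMap g.toLinearMap =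
        (Groth.Agent.H9.FF.Conv.cmul h g).toLinearMap := by
    intro h g
    apply LinearMap.ext
    intro a
    show Groth.Agent.H9.Comod.pair h.toLinearMap g.toLinearMap (Coalgebra.comul (R := k) a) =
      Groth.Agent.H9.FF.Conv.cmul h g a
    rw [Groth.Agent.H9.FF.Conv.cmul_apply]
    generalize Coalgebra.comul (R := k) a = x
    induction x using TensorProduct.induction_on with
    | zero => simp
    | tmul a b => simp
    | add x y hx hy => simp only [map_add, hx, hy]
  refine ⟨?_, ?_, ?_⟩
  · -- subcomodule
    intro w hw
    induction hw using Submodule.span_induction with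
    | mem w hw =>
      obtain ⟨g, rfl⟩ := hw
      rw [Groth.Agent.H9.Stab.mem_range_rTensor_iff_sliceL]
      intro ψ hψ
      apply Groth.Agent.H9.CocommDiag.eq_zero_of_forall_point (k := k)
      intro h
      have h1 : h (Groth.Agent.H9.Comod.sliceL ψ
          (HopfRep.Comod.coact (k := k) (A := A) (HopfRep.Comod.act k A V g v))) =
          ψ (Groth.Agent.H9.Comod.slice h.toLinearMap
            (HopfRep.Comod.coact (k := k) (A := A) (HopfRep.Comod.act k A V g v))) :=
        Groth.Agent.H9.Comod.apply_sliceL h.toLinearMap ψ _
      show h _ = 0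
      rw [h1, hact g v, Groth.Agent.H9.Comod.slice_coact_slice_coact, hconv, ← hact]
      exact hψ _ (hmemE _)
    | zero => rw [map_zero]; exact Submodule.zero_mem _
    | add x y _ _ hx hy => rw [map_add]; exact Submodule.add_mem _ hx hy
    | smul c x _ hx => rw [map_smul]; exact Submodule.smul_mem _ c hx
  · -- v ∈ E
    have h1 : HopfRep.Comod.act k A V (Bialgebra.counitAlgHom k A) v = v := by
      rw [hact]
      exact Groth.Agent.H9.Comod.slice_counit_coact v
    rw [← h1]
    exact hmemE _
  · intro W hW hv
    apply Submodule.span_le.mpr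
    rintro _ ⟨g, rfl⟩
    show HopfRep.Comod.act k A V g v ∈ W
    rw [hact]
    exact Groth.Agent.H9.Comod.slice_mem_of_mem_range W (hW v hv) _

end Groth.Agent.S5376
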