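import Groth.Statements.S5381
import Mathlib.RingTheory.Flat.TorsionFree

set_option autoImplicit false
universe u
open CategoryTheory CategoryTheory.Limits MonoidalCategory CartesianMonoidalCategory MonObj GrpObj AlgebraicGeometry
open SGA3

namespace Groth.Agent.S5381

/-- For S the spectrum of a Dedekind domain R: let X be a scheme which is flat, quasi-compact and
quasi-separated over R. Then the ring of global sections Γ(X, O_X) is a flat R-module. (The
published remark takes S locally noetherian and regular of dimension 1 and also observes, when S is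
local with closed point s and uniformizer π, that Γ(X, O_X)/πΓ(X, O_X) → Γ(X_s, O_{X_s}) is
injective; this row takes S the spectrum of a Dedekind domain and omits the injectivity.) -/
theorem result (R : Type u) [CommRing R] [IsDedekindDomain R]
    (X : Scheme.{u}) (f : X ⟶ Spec (CommRingCat.of R)) [Flat f] [QuasiCompact f] [QuasiSeparated f] :
    letI := ((Scheme.ΓSpecIso (CommRingCat.of R)).inv ≫ f.appTop).hom.toAlgebra
    Module.Flat R Γ(X, ⊤) := by
  letI alg := ((Scheme.ΓSpecIso (CommRingCat.of R)).inv ≫ f.appTop).hom.toAlgebra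
  have key : ∀ (r : R), IsRegular r → ∀ s : Γ(X, ⊤), r • s = 0 → s = 0 := by
    intro r hr s hs
    refine TopCat.Presheaf.section_ext X.sheaf ⊤ s 0 ?_
    intro x _
    obtain ⟨U, hU, hxU, -⟩ := (TopologicalSpace.Opens.isBasis_iff_nbhd.mp X.isBasis_affineOpens)
      (show x ∈ (⊤ : X.Opens) from trivial)
    suffices hs0 : X.presheaf.map (homOfLE (le_top : U ≤ ⊤)).op s = 0 by
      have h5 : X.presheaf.germ ⊤ x trivial s = 0 := by
        rw [← TopCat.Presheaf.germ_res_apply X.presheaf (homOfLE (le_top : U ≤ ⊤)) x hxU s, hs0,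
          map_zero]
      exact h5.trans (map_zero (X.presheaf.germ ⊤ x trivial).hom).symm
    -- the flat ring hom `R → Γ(X, U)`
    have e : U ≤ f ⁻¹ᵁ ⊤ := le_top
    have hflat : ((Scheme.ΓSpecIso (CommRingCat.of R)).inv ≫ f.appLE ⊤ U e).hom.Flat := by
      rw [CommRingCat.hom_comp]
      refine RingHom.Flat.comp (RingHom.Flat.of_bijective ?_) (f.flat_appLE (isAffineOpen_top _) hU e)
      exact ConcreteCategory.bijective_of_isIso (Scheme.ΓSpecIso (CommRingCat.of R)).inv
    letI algU := ((Scheme.ΓSpecIso (CommRingCat.of R)).inv ≫ f.appLE ⊤ U e).hom.toAlgebra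
    have hflat' : Module.Flat R Γ(X, U) := hflat
    have htf : Module.IsTorsionFree R Γ(X, U) := inferInstance
    have hres : r • (X.presheaf.map (homOfLE (le_top : U ≤ ⊤)).op s) = 0 := by
      have h1 : X.presheaf.map (homOfLE (le_top : U ≤ ⊤)).op (r • s) = 0 := by
        rw [hs, map_zero]
      rw [Algebra.smul_def, map_mul] at h1
      rw [Algebra.smul_def]
      convert h1 using 2
      change ((Scheme.ΓSpecIso (CommRingCat.of R)).inv ≫ f.appLE ⊤ U e).hom r = _
      rw [Scheme.Hom.appLE]
      rfl
    have hinj := htf.isSMulRegular hr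
    exact hinj (by
      change r • (X.presheaf.map (homOfLE (le_top : U ≤ ⊤)).op s) = r • (0 : Γ(X, U))
      rw [hres, smul_zero])
  haveI : Module.IsTorsionFree R Γ(X, ⊤) := by
    refine ⟨fun r hr => ?_⟩
    intro s t hst
    have : r • (s - t) = 0 := by
      change r • s = r • t at hst
      rw [smul_sub, hst, sub_self]
    exact sub_eq_zero.mp (key r hr _ this)
  infer_instance

end Groth.Agent.S5381
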