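import Groth.Statements.S5451
import Groth.Agent.Lib.Lead.RootD7

set_option autoImplicit false
open RootD

namespace Groth.Agent.S5451

/-- If a root is a positive integer combination of roots α_i, then it can be reached from 0 by
successively adding roots taken among the α_i in such a way that every partial sum is a root. -/
theorem result {ι M N : Type*} [AddCommGroup M] [AddCommGroup N]
    (P : RootPairing ι ℤ M N) [Finite ι] {n : ℕ} (a : Fin n → ι) (m : Fin n → ℕ)
    (hm : ∀ i, 0 < m i) (k : ι) (hk : P.root k = ∑ i, m i • P.root (a i)) :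
    ∃ (l : ℕ) (b : Fin l → Fin n), 0 < l ∧
      (∀ p : Fin l, ∃ j : ι, P.root j = ∑ q ∈ Finset.univ.filter (fun q : Fin l => q.val ≤ p.val), P.root (a (b q))) ∧
      P.root k = ∑ q, P.root (a (b q)) := by
  classical
  set c : ι →₀ ℕ := ∑ i, Finsupp.single (a i) (m i) with hc
  have hlc : Finsupp.linearCombination ℕ P.root c = P.root k := by
    rw [hc, map_sum, hk]
    exact Finset.sum_congr rfl fun i _ => by simp
  have hsupp : (↑c.support : Set ι) ⊆ Set.range a := by
    intro j hj
    by_contra hcon
    have : c j = 0 := by
      rw [hc, Finsupp.finsetSum_apply]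
      refine Finset.sum_eq_zero fun i _ => ?_
      rw [Finsupp.single_apply, if_neg]
      intro h; exact hcon ⟨i, h⟩
    exact (Finsupp.mem_support_iff.1 hj) this
  have hreach := (Groth.Agent.LD.RD.reach_of_lc _ c k rfl hlc).mono hsupp
  exact Groth.Agent.LD.RD.reach_fin a hreach

end Groth.Agent.S5451
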