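import Groth.Statements.S5457
import Groth.Agent.Lib.Lead.RootD2

set_option autoImplicit false
open RootD

namespace Groth.Agent.S5457

/-- Given a translation-invariant partial order (pulled back along an additive map to an ordered abelian
group) for which every root is > 0 or < 0, the roots > 0 form a system of positive roots. -/
theorem result {ι M N : Type*} [AddCommGroup M] [AddCommGroup N]
    (P : RootPairing ι ℤ M N) [Finite ι] {G : Type*} [AddCommGroup G] [PartialOrder G]
    [IsOrderedAddMonoid G] (φ : M →+ G) (hφ : ∀ i : ι, 0 < φ (P.root i) ∨ φ (P.root i) < 0) :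
    RootD.IsPosSys P {i : ι | 0 < φ (P.root i)} := by
  refine ⟨?_, ?_, ?_⟩
  · intro i hi h2
    have hi' : 0 < φ (P.root i) := hi
    have h2' : 0 < φ (P.root (P.reflectionPerm i i)) := h2
    rw [Groth.Agent.LD.RD.root_neg, map_neg] at h2'
    exact lt_irrefl _ (lt_trans hi' (neg_pos.1 h2'))
  · intro i
    rcases hφ i with h | h
    · exact Or.inl h
    · right
      show 0 < φ (P.root (P.reflectionPerm i i))
      rw [Groth.Agent.LD.RD.root_neg, map_neg]
      exact neg_pos.2 h
  · intro k n hn h
    have h0 : 0 ≤ φ (n • P.root k) :=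
      Groth.Agent.LD.RD.map_nonneg_of_mem_natSpan P φ (fun i hi => le_of_lt hi) h
    rw [map_nsmul] at h0
    rcases hφ k with h' | h'
    · exact h'
    · exfalso
      have h1 : 0 < n • (-(φ (P.root k))) := nsmul_pos (neg_pos.2 h') hn.ne'
      rw [smul_neg, neg_pos] at h1
      exact lt_irrefl _ (lt_of_le_of_lt h0 h1)

end Groth.Agent.S5457
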