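import Groth.Statements.S5468
import Groth.Agent.Lib.Lead.RootD3

set_option autoImplicit false
open RootD

namespace Groth.Agent.S5468

/-- Two roots whose reflections are distinct and commute are orthogonal. -/
theorem result {ι M N : Type*} [AddCommGroup M] [AddCommGroup N]
    (P : RootPairing ι ℤ M N) [Finite ι] (i j : ι)
    (hne : P.reflection i ≠ P.reflection j) (hc : Commute (P.reflection i) (P.reflection j)) :
    P.IsOrthogonal i j := by
  have hM := Groth.Agent.LD.RD.isAddTorsionFree_left P
  set a := P.pairing i j with ha
  set b := P.pairing j i with hb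
  -- the commutation relation on a general element
  have hm : ∀ m : M, (P.coroot' j m * b) • P.root i = (P.coroot' i m * a) • P.root j := by
    intro m
    have h := LinearEquiv.congr_fun hc.eq m
    simp only [LinearEquiv.mul_apply, P.reflection_apply, map_sub, map_smul] at h
    rw [P.root_coroot'_eq_pairing, P.root_coroot'_eq_pairing] at h
    simp only [smul_eq_mul] at h
    rw [← sub_eq_zero] at h ⊢
    rw [← h]
    module
  have h1 := hm (P.root j)
  have h2 := hm (P.root i)
  rw [P.root_coroot'_eq_pairing, P.root_coroot'_eq_pairing, P.pairing_same, ← hb] at h1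
  rw [P.root_coroot'_eq_pairing, P.root_coroot'_eq_pairing, P.pairing_same, ← ha] at h2
  -- pair `h1` with the coroot of `i`
  have h3 : 2 * b * 2 = b * a * b := by
    have := congrArg (P.coroot' i) h1
    simpa [P.root_coroot'_eq_pairing, P.pairing_same, ← hb] using this
  by_cases hb0 : b = 0
  · have ha0 : a = 0 := (P.pairing_eq_zero_iff (i := j) (j := i)).1 hb0
    exact ⟨ha0, hb0⟩
  · exfalso
    have hab : a * b = 4 := by
      have : b * (a * b - 4) = 0 := by linear_combination -h3
      rcases mul_eq_zero.1 this with h | h
      · exact absurd h hb0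
      · linarith
    apply hne
    ext m
    rw [P.reflection_apply, P.reflection_apply]
    congr 1
    have h4 : (4 : ℤ) • (P.toLinearMap.flip (P.coroot i) m • P.root i) =
        (4 : ℤ) • (P.toLinearMap.flip (P.coroot j) m • P.root j) := by
      have hmm := hm m
      have e1 : (4 : ℤ) • P.root j = (2 * b) • P.root i := by
        rw [h1, mul_comm b a, hab]
      have e2 : (4 : ℤ) • P.root i = (2 * a) • P.root j := by
        rw [← h2, hab]
      calc (4 : ℤ) • (P.toLinearMap.flip (P.coroot i) m • P.root i)
          = P.toLinearMap.flip (P.coroot i) m • ((4 : ℤ) • P.root i) := by rw [smul_comm]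
        _ = (2 : ℤ) • ((P.coroot' i m * a) • P.root j) := by rw [e2]; module
        _ = (2 : ℤ) • ((P.coroot' j m * b) • P.root i) := by rw [hmm]
        _ = P.toLinearMap.flip (P.coroot j) m • ((2 * b) • P.root i) := by module
        _ = (4 : ℤ) • (P.toLinearMap.flip (P.coroot j) m • P.root j) := by rw [← e1, smul_comm]
    exact smul_right_injective M (by norm_num : (4 : ℤ) ≠ 0) h4

end Groth.Agent.S5468
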