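import Groth.Statements.S5479
import Groth.Agent.Lib.Lead.RootD6

set_option autoImplicit false
open RootPairing
open scoped Pointwise
open RootD

namespace Groth.Agent.S5479

/-- Aut(R) is the semidirect product of the Weyl group by the stabiliser E_Δ of a system of simple
roots: every automorphism is uniquely w · e with w ∈ W and e(Δ) = Δ. -/
theorem result {ι M N : Type*} [AddCommGroup M] [AddCommGroup N]
    (P : RootPairing ι ℤ M N) [Finite ι] (Δ : Set ι) (hΔ : RootD.IsSimpleSys P Δ) (u : P.Aut) :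
    ∃! w : P.weylGroup, (fun i : ι => ((w : P.Aut)⁻¹ * u) • i) '' Δ = Δ := by
  have hfix : ∀ g : P.Aut, g ∈ P.weylGroup → Groth.Agent.LD.RD.gimg g Δ = Δ → g = 1 := by
    intro g hg hgΔ
    refine Groth.Agent.LD.RD.eq_one_of_gimg_posOf_subset hΔ hg fun k hk => ?_
    have h1 := Groth.Agent.LD.RD.posOf_gimg g Δ
    rw [hgΔ] at h1
    rw [h1]
    exact Groth.Agent.LD.RD.smul_mem_gimg hk
  obtain ⟨g, hg, -, hgΔ⟩ := Groth.Agent.LD.RD.exists_weyl_gimg_posOf_eq hΔ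
    (Groth.Agent.LD.RD.IsSimpleSys.gimg u hΔ)
  refine ⟨⟨g, hg⟩, ?_, ?_⟩
  · show Groth.Agent.LD.RD.gimg (g⁻¹ * u) Δ = Δ
    rw [Groth.Agent.LD.RD.gimg_mul, ← hgΔ, Groth.Agent.LD.RD.gimg_inv_gimg]
  · rintro ⟨w, hw⟩ hwΔ
    have hwΔ' : Groth.Agent.LD.RD.gimg (w⁻¹ * u) Δ = Δ := hwΔ
    rw [Groth.Agent.LD.RD.gimg_mul] at hwΔ'
    have h2 : Groth.Agent.LD.RD.gimg u Δ = Groth.Agent.LD.RD.gimg w Δ := by
      have := congrArg (Groth.Agent.LD.RD.gimg w) hwΔ'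
      rwa [Groth.Agent.LD.RD.gimg_gimg_inv] at this
    have h3 : Groth.Agent.LD.RD.gimg (g⁻¹ * w) Δ = Δ := by
      rw [Groth.Agent.LD.RD.gimg_mul, ← h2, ← hgΔ, Groth.Agent.LD.RD.gimg_inv_gimg]
    have h4 := hfix (g⁻¹ * w) (mul_mem (inv_mem hg) hw) h3
    apply Subtype.ext
    show w = g
    rw [inv_mul_eq_one] at h4
    exact h4.symm

end Groth.Agent.S5479
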