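import Groth.Statements.S5488
import Groth.Agent.Lib.Lead.RootD5

set_option autoImplicit false
open RootPairing
open scoped Pointwise
open RootD

namespace Groth.Agent.S5488

/-- The reduced datum of indivisible roots has the same Weyl group: the reflections in indivisible roots
generate W. -/
theorem result {ι M N : Type*} [AddCommGroup M] [AddCommGroup N]
    (P : RootPairing ι ℤ M N) [Finite ι] :
    Subgroup.closure ((fun i : ι => Equiv.reflection P i) '' {i : ι | RootD.IsIndiv P i}) = P.weylGroup := by
  apply le_antisymm
  · refine (Subgroup.closure_le _).2 ?_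
    rintro _ ⟨i, -, rfl⟩
    exact P.reflection_mem_weylGroup i
  · refine (Subgroup.closure_le _).2 ?_
    rintro _ ⟨k, rfl⟩
    obtain ⟨k₀, hind, hk₀⟩ := Groth.Agent.LD.RD.exists_indiv_half (P := P) k
    have h1 : RootPairing.Equiv.reflection P k = RootPairing.Equiv.reflection P k₀ := by
      rcases hk₀ with h | h
      · rw [h]
      · exact Groth.Agent.LD.RD.reflection_eq_of_two_smul h
    rw [h1]
    exact Subgroup.subset_closure ⟨k₀, hind, rfl⟩

end Groth.Agent.S5488
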