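import Groth.Statements.S5489
import Groth.Agent.Lib.Lead.RootD6

set_option autoImplicit false
open RootD

namespace Groth.Agent.S5489

/-- If a root α, distinct from roots α_1, ..., α_n, is a non-negative rational combination of them, then
some α_l with non-zero coefficient has (α^v, α_l) > 0 and α - α_l a root. -/
theorem result {ι M N : Type*} [AddCommGroup M] [AddCommGroup N]
    (P : RootPairing ι ℤ M N) [Finite ι] {n : ℕ} (a : Fin n → ι) (m : Fin n → ℕ)
    (k : ι) (hne : ∀ l, a l ≠ k) (c : ℕ) (hc : 0 < c) (hk : c • P.root k = ∑ l, m l • P.root (a l)) :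
    ∃ l : Fin n, m l ≠ 0 ∧ 0 < P.pairing (a l) k ∧ P.root k - P.root (a l) ∈ Set.range P.root := by
  have h2 : (c : ℤ) * 2 = ∑ l, (m l : ℤ) * P.pairing (a l) k := by
    have := congrArg (P.coroot' k) hk
    rw [map_nsmul, P.root_coroot'_eq_pairing, P.pairing_same, map_sum] at this
    simp only [map_nsmul, P.root_coroot'_eq_pairing, nsmul_eq_mul] at this
    exact this
  have hex : ∃ l, 0 < (m l : ℤ) * P.pairing (a l) k := by
    by_contra hcon
    simp only [not_exists, not_lt] at hcon
    have : ∑ l, (m l : ℤ) * P.pairing (a l) k ≤ 0 := Finset.sum_nonpos fun l _ => hcon l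
    have hc' : (0 : ℤ) < c := by exact_mod_cast hc
    omega
  obtain ⟨l, hl⟩ := hex
  have hml : m l ≠ 0 := by
    intro h0; rw [h0] at hl; simp at hl
  have hp : 0 < P.pairing (a l) k := by
    have hm0 : (0 : ℤ) < m l := by
      have : 0 < m l := Nat.pos_of_ne_zero hml
      exact_mod_cast this
    exact (mul_pos_iff_of_pos_left hm0).1 hl
  refine ⟨l, hml, hp, ?_⟩
  exact Groth.Agent.LD.RD.root_sub_root_mem (Groth.Agent.LD.RD.pairing_pos_symm hp) (hne l).symm

end Groth.Agent.S5489
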