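import Groth.Statements.S5497
import Groth.Agent.Lib.Lead.RootD3

set_option autoImplicit false
open RootD

namespace Groth.Agent.S5497

/-- For a partition of the roots into two closed symmetric subsets, whenever α, β, α + β are roots they
lie in the same part. -/
theorem result {ι M N : Type*} [AddCommGroup M] [AddCommGroup N]
    (P : RootPairing ι ℤ M N) [Finite ι] (R' : Set ι) (hc : RootD.IsClosedSub P R')
    (hs : RootD.IsSymmSub P R') (hc' : RootD.IsClosedSub P R'ᶜ) (hs' : RootD.IsSymmSub P R'ᶜ)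
    (i j k : ι) (h : P.root k = P.root i + P.root j) :
    (i ∈ R' ∧ j ∈ R' ∧ k ∈ R') ∨ (i ∉ R' ∧ j ∉ R' ∧ k ∉ R') := by
  by_cases hi : i ∈ R'
  · left
    have := Groth.Agent.LD.RD.part_aux hc hs hc' hs' (fun x hx hx' => hx' hx)
      (fun x => by by_cases hx : x ∈ R'; exacts [Or.inl hx, Or.inr hx]) h hi
    exact ⟨hi, this.1, this.2⟩
  · right
    have := Groth.Agent.LD.RD.part_aux hc' hs' hc hs (fun x hx hx' => hx hx')
      (fun x => by by_cases hx : x ∈ R'; exacts [Or.inr hx, Or.inl hx]) h hi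
    exact ⟨hi, this.1, this.2⟩

end Groth.Agent.S5497
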