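import Groth.Statements.S5580
import Groth.Agent.Lib.Helper2.ToposFinCoprod2

set_option autoImplicit false
open CategoryTheory CategoryTheory.Limits Opposite
universe u
open ToposFin

namespace Groth.Agent.S5580

/-- Quasi-compact and coherent cases: for the topos of sheaves of sets on a small site: let (X_i) be a
finite family of objects with coproduct X (given as a colimit cofan) and f : X -> Y a morphism with
components f_i : X_i -> Y. Then f is quasi-compact (resp. coherent) if and only if every f_i is. -/
theorem result {C : Type u} [SmallCategory C] {J : GrothendieckTopology C}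
    {Y : ToposFin.Sh J} {n : ℕ} (X : Fin n → ToposFin.Sh J) (c : Cofan X) (hc : IsColimit c)
    (f : c.pt ⟶ Y) :
    (ToposFin.IsQCHom f ↔ ∀ i, ToposFin.IsQCHom (c.inj i ≫ f)) ∧
    (ToposFin.IsCohHom f ↔ ∀ i, ToposFin.IsCohHom (c.inj i ≫ f)) := by
  have hcov := Groth.Agent.H2.TF.isDisjointCover_cofan c hc
  have hinj : ∀ i, ToposFin.IsQCHom (c.inj i) := fun i T t hT => (hcov.pullback t).isQC hT i
  have hqc : ToposFin.IsQCHom f ↔ ∀ i, ToposFin.IsQCHom (c.inj i ≫ f) := by
    constructor
    · intro h i
      exact Groth.Agent.H2.TF.IsQCHom.comp (hinj i) h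
    · intro h T t hT
      exact Groth.Agent.H2.TF.isQC_pullback_of_finite_cover_left f t c.inj hcov.jepi
        (fun k => h k T t hT)
  have hqs : ToposFin.IsQSHom f ↔ ∀ i, ToposFin.IsQSHom (c.inj i ≫ f) := by
    constructor
    · intro h i
      have := hcov.mono i
      exact Groth.Agent.H2.TF.IsQSHom.comp (Groth.Agent.H2.TF.IsQSHom.of_mono (c.inj i)) h
    · intro h
      exact hcov.isQSHom f h
  refine ⟨hqc, ?_⟩
  constructor
  · intro h i
    exact ⟨hqc.1 h.1 i, hqs.1 h.2 i⟩
  · intro h
    exact ⟨hqc.2 (fun i => (h i).1), hqs.2 (fun i => (h i).2)⟩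

end Groth.Agent.S5580
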