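import Groth.Statements.S5582
import Groth.Agent.Lib.Helper2.ToposFinPres4

set_option autoImplicit false
open CategoryTheory CategoryTheory.Limits Opposite
universe u
open ToposFin

namespace Groth.Agent.S5582

/-- Equivalence of (i), (ii bis) and (iii), for the topos of sheaves of sets on a small site admitting a
generating family of coherent objects: the coequalizer of every pair of arrows between coherent
objects is coherent if and only if every object X for which Hom(X, -) commutes with small filtered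
colimits is coherent; and every object is a small filtered colimit of coherent objects if and only
if that same condition holds. -/
theorem result {C : Type u} [SmallCategory C]
    {J : GrothendieckTopology C} (hE : ToposFin.HasCoherentGenerators J) :
    ((∀ (X₀ X₁ : ToposFin.Sh J) (a b : X₁ ⟶ X₀), ToposFin.IsCoherent X₀ → ToposFin.IsCoherent X₁ →
        ToposFin.IsCoherent (coequalizer a b)) ↔
      (∀ X : ToposFin.Sh J, ToposFin.IsFP X → ToposFin.IsCoherent X)) ∧
    ((∀ X : ToposFin.Sh J, ∃ (I : Type u) (_ : SmallCategory I) (_ : IsFiltered I) (D : I ⥤ ToposFin.Sh J),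
        (∀ i, ToposFin.IsCoherent (D.obj i)) ∧ Nonempty (X ≅ colimit D)) ↔
      (∀ X : ToposFin.Sh J, ToposFin.IsFP X → ToposFin.IsCoherent X)) := by
  have hgen := Groth.Agent.H2.TF.gen_of_hasCoherentGenerators hE
  have hgenQC : Groth.Agent.H2.TF.Gen (J := J) ToposFin.IsQC := hgen.mono (fun _ h => h.1)
  have hcoeqFP : ∀ (X₀ X₁ : ToposFin.Sh J) (a b : X₁ ⟶ X₀), ToposFin.IsCoherent X₀ →
      ToposFin.IsCoherent X₁ → ToposFin.IsFP (coequalizer a b) := fun X₀ X₁ a b h₀ h₁ =>
    Groth.Agent.H2.TF.isFP_coequalizer (Groth.Agent.H2.TF.isFP_of_isCoherent hgenQC h₀)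
      (Groth.Agent.H2.TF.isFP_of_isCoherent hgenQC h₁) a b
  refine ⟨⟨fun hA X hX => ?_, fun hB X₀ X₁ a b h₀ h₁ => hB _ (hcoeqFP X₀ X₁ a b h₀ h₁)⟩,
    ⟨fun hC X hX => ?_, fun hB X => ?_⟩⟩
  · obtain ⟨X₀, X₁, a, b, i, p, h₀, h₁, h⟩ := (Groth.Agent.H2.TF.isFP_iff_retract hE X).1 hX
    exact Groth.Agent.H2.TF.isCoherent_of_retract i p h (hA X₀ X₁ a b h₀ h₁)
  · obtain ⟨I, instI, instF, D, hD, ⟨e⟩⟩ := hC X
    obtain ⟨i, n, hn⟩ := Groth.Agent.H2.TF.exists_retract_of_isFP hX D (colimit.cocone D)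
      (colimit.isColimit D) e
    exact Groth.Agent.H2.TF.isCoherent_of_retract n _ hn (hD i)
  · obtain ⟨I, instI, instF, D, hD, he⟩ := Groth.Agent.H2.TF.exists_filtered_presentation hgen
      (fun F hF => Groth.Agent.H2.TF.isCoherent_sigma_finite F hF) X
    refine ⟨I, instI, instF, D, fun i => ?_, he⟩
    obtain ⟨X₀, X₁, a, b, h₀, h₁, hi⟩ := hD i
    rw [hi]
    exact hB _ (hcoeqFP X₀ X₁ a b h₀ h₁)

end Groth.Agent.S5582
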