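import Groth.Statements.S5586
import Groth.Agent.Lib.Helper2.ToposFinAlg

set_option autoImplicit false
open CategoryTheory CategoryTheory.Limits Opposite
universe u
open ToposFin

namespace Groth.Agent.S5586

/-- Quasi-separated and coherent cases: for an algebraic topos of sheaves of sets on a small site: let f
: X -> Y be a morphism and (Y_i -> Y) a jointly epimorphic family. If the Y_i are quasi-separated
(resp. coherent), then f is quasi-separated (resp. coherent) if and only if every X x_Y Y_i is a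
quasi-separated (resp. coherent) object. -/
theorem result {C : Type u} [SmallCategory C]
    {J : GrothendieckTopology C} (hE : ToposFin.IsAlgebraic J) {X Y : ToposFin.Sh J} (f : X ⟶ Y)
    {ι : Type u} (Yi : ι → ToposFin.Sh J) (g : ∀ i, Yi i ⟶ Y)
    (hg : ∀ (Z : ToposFin.Sh J) (a b : Y ⟶ Z), (∀ i, g i ≫ a = g i ≫ b) → a = b) :
    ((∀ i, ToposFin.IsQS (Yi i)) → (ToposFin.IsQSHom f ↔ ∀ i, ToposFin.IsQS (pullback f (g i)))) ∧
    ((∀ i, ToposFin.IsCoherent (Yi i)) →
      (ToposFin.IsCohHom f ↔ ∀ i, ToposFin.IsCoherent (pullback f (g i)))) := by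
  have hgenQC := Groth.Agent.H2.TF.gen_isQC_of_isAlgebraic hE
  have sq : ∀ i, IsPullback (pullback.fst f (g i)) (pullback.snd f (g i)) f (g i) :=
    fun i => IsPullback.of_hasPullback f (g i)
  refine ⟨fun hY => ⟨fun h i => ?_, fun h => ?_⟩, fun hY => ⟨fun h i => ⟨?_, ?_⟩, fun h => ⟨?_, ?_⟩⟩⟩
  · exact Groth.Agent.H2.TF.isQS_of_isQSHom (pullback.snd f (g i))
      (Groth.Agent.H2.TF.IsQSHom.of_isPullback (sq i) h) (hY i)
  · exact Groth.Agent.H2.TF.IsQSHom.of_local hgenQC f g hg _ _ sq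
      (fun i => Groth.Agent.H2.TF.isQSHom_of_isQS_of_isAlgebraic hE _ (h i))
  · exact Groth.Agent.H2.TF.IsQCHom.isQC_source
      (Groth.Agent.H2.TF.IsQCHom.of_isPullback (sq i) h.1) (hY i).1
  · exact Groth.Agent.H2.TF.isQS_of_isQSHom (pullback.snd f (g i))
      (Groth.Agent.H2.TF.IsQSHom.of_isPullback (sq i) h.2) (hY i).2
  · exact Groth.Agent.H2.TF.IsQCHom.of_local hgenQC f g hg _ _ sq
      (fun i => Groth.Agent.H2.TF.IsQCHom.of_isQC_of_isQS _ (h i).1 (hY i).2)
  · exact Groth.Agent.H2.TF.IsQSHom.of_local hgenQC f g hg _ _ sq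
      (fun i => Groth.Agent.H2.TF.isQSHom_of_isQS_of_isAlgebraic hE _ (h i).2)

end Groth.Agent.S5586
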