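import Groth.Statements.S5587
import Groth.Agent.Lib.Helper2.ToposFinAlg

set_option autoImplicit false
open CategoryTheory CategoryTheory.Limits Opposite
universe u
open ToposFin

namespace Groth.Agent.S5587

/-- For a locally coherent topos of sheaves of sets on a small site (given by a generating set of
quasi-compact objects stable under fibre products): a morphism f : X -> Y is quasi-separated if and
only if for every quasi-separated object Y' over Y the fibre product X x_Y Y' is quasi-separated. -/
theorem result {C : Type u} [SmallCategory C]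
    {J : GrothendieckTopology C} (S : Set (ToposFin.Sh J)) (hqc : ∀ K ∈ S, ToposFin.IsQC K)
    (hgen : ToposFin.IsGenerating S) (hpb : ToposFin.ClosedUnderPullbacks S) {X Y : ToposFin.Sh J} (f : X ⟶ Y) :
    ToposFin.IsQSHom f ↔
      ∀ (Y' : ToposFin.Sh J) (g : Y' ⟶ Y), ToposFin.IsQS Y' → ToposFin.IsQS (pullback f g) := by
  have hgen' := Groth.Agent.H2.TF.gen_of_isGenerating hgen
  have hgenQC : Groth.Agent.H2.TF.Gen (J := J) ToposFin.IsQC := hgen'.mono hqc
  constructor
  · intro h Y' g hY'
    exact Groth.Agent.H2.TF.isQS_of_isQSHom (pullback.snd f g)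
      (Groth.Agent.H2.TF.IsQSHom.of_isPullback (IsPullback.of_hasPullback f g) h) hY'
  · intro h
    obtain ⟨ι, K, g, hK, hg⟩ := hgen' Y
    exact Groth.Agent.H2.TF.IsQSHom.of_local hgenQC f g hg _ _
      (fun i => IsPullback.of_hasPullback f (g i))
      (fun i => Groth.Agent.H2.TF.isQSHom_to_mem hqc hgen hpb (hK i) (pullback.snd f (g i))
        (h _ (g i) (Groth.Agent.H2.TF.isCoherent_of_mem hqc hgen hpb (hK i)).2))

end Groth.Agent.S5587
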