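import Groth.Statements.S5624
import Mathlib.CategoryTheory.Abelian.Refinements

set_option autoImplicit false
universe v u
open CategoryTheory CategoryTheory.Limits
open PCoh

namespace Groth.Agent.S5624

/-- Punctual site: let C be an abelian category and C₀ a strictly full additive subcategory,
quasi-liftable in C, and let 0 → F → G → H → 0 be a short exact sequence. If F and H are precoherent
relative to C₀ then G is precoherent; if F and H are of C₀-finite type then G is of C₀-finite type. -/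
theorem result {C : Type u} [Category.{v} C] [Abelian C]
    (P : ObjectProperty C) [P.IsClosedUnderIsomorphisms] [P.ContainsZero] (hsum : ∀ X Y : C, P X → P Y → P (X ⨯ Y))
    (hql : PCoh.IsQuasiLiftable P)
    (S : ShortComplex C) (hS : S.ShortExact) :
    ((∀ (E : C) (u : E ⟶ S.X₁), P E → PCoh.IsOfFiniteType P (kernel u)) → (∀ (E : C) (u : E ⟶ S.X₃), P E → PCoh.IsOfFiniteType P (kernel u)) →
        (∀ (E : C) (u : E ⟶ S.X₂), P E → PCoh.IsOfFiniteType P (kernel u))) ∧
      (PCoh.IsOfFiniteType P S.X₁ → PCoh.IsOfFiniteType P S.X₃ → PCoh.IsOfFiniteType P S.X₂) := by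
  have hmono : Mono S.f := hS.mono_f
  have hepi : Epi S.g := hS.epi_g
  have hex : S.Exact := hS.exact
  refine ⟨fun h₁ h₃ E u hE => ?_, fun h₁ h₃ => ?_⟩
  · -- precoherent
    obtain ⟨E', p, hE', hp⟩ := h₃ E (u ≫ S.g) hE
    let k : kernel (u ≫ S.g) ⟶ S.X₁ := hex.lift (kernel.ι (u ≫ S.g) ≫ u) (by
      rw [Category.assoc, kernel.condition])
    have hk : k ≫ S.f = kernel.ι (u ≫ S.g) ≫ u := hex.lift_f _ _
    obtain ⟨E'', q, hE'', hq⟩ := h₁ E' (p ≫ k) hE'
    have hm0 : (kernel.ι (p ≫ k) ≫ p ≫ kernel.ι (u ≫ S.g)) ≫ u = 0 := by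
      rw [Category.assoc, Category.assoc, ← hk, ← Category.assoc p, kernel.condition_assoc, zero_comp]
    let m : kernel (p ≫ k) ⟶ kernel u := kernel.lift u _ hm0
    have hm : m ≫ kernel.ι u = kernel.ι (p ≫ k) ≫ p ≫ kernel.ι (u ≫ S.g) := kernel.lift_ι _ _ _
    have hmepi : Epi m := by
      rw [epi_iff_surjective_up_to_refinements]
      intro A y
      have hy0 : (y ≫ kernel.ι u) ≫ (u ≫ S.g) = 0 := by
        rw [Category.assoc, kernel.condition_assoc, zero_comp, comp_zero]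
      let y' : A ⟶ kernel (u ≫ S.g) := kernel.lift _ _ hy0
      have hy' : y' ≫ kernel.ι (u ≫ S.g) = y ≫ kernel.ι u := kernel.lift_ι _ _ _
      have hy'k : y' ≫ k = 0 := by
        rw [← cancel_mono S.f, Category.assoc, hk, reassoc_of% hy', kernel.condition, comp_zero, zero_comp]
      obtain ⟨A', π', hπ', x, hx⟩ := surjective_up_to_refinements_of_epi p y'
      have hx0 : x ≫ (p ≫ k) = 0 := by
        rw [← Category.assoc, ← hx, Category.assoc, hy'k, comp_zero]
      refine ⟨A', π', hπ', kernel.lift _ x hx0, ?_⟩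
      rw [← cancel_mono (kernel.ι u), Category.assoc, Category.assoc, hm, kernel.lift_ι_assoc,
        ← reassoc_of% hx, hy']
    exact ⟨E'', q ≫ m, hE'', epi_comp _ _⟩
  · -- finite type
    obtain ⟨E₁, π₁, hE₁, hπ₁⟩ := h₁
    obtain ⟨E₃, π₃, hE₃, hπ₃⟩ := h₃
    have hsnd : Epi (pullback.snd S.g π₃) := inferInstance
    obtain ⟨F', v, hF', hv⟩ := hql _ _ (pullback.snd S.g π₃) hsnd hE₃
    refine ⟨E₁ ⨯ F', prod.fst ≫ π₁ ≫ S.f + prod.snd ≫ v ≫ pullback.fst S.g π₃, hsum _ _ hE₁ hF', ?_⟩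
    rw [epi_iff_surjective_up_to_refinements]
    intro A y
    haveI : Epi ((v ≫ pullback.snd S.g π₃) ≫ π₃) := epi_comp _ _
    obtain ⟨A', π', hπ', x, hx⟩ := surjective_up_to_refinements_of_epi
      ((v ≫ pullback.snd S.g π₃) ≫ π₃) (y ≫ S.g)
    have hx' : π' ≫ y ≫ S.g = x ≫ v ≫ pullback.fst S.g π₃ ≫ S.g := by
      rw [hx, pullback.condition]; simp only [Category.assoc]
    have h0 : (π' ≫ y - x ≫ v ≫ pullback.fst S.g π₃) ≫ S.g = 0 := by
      rw [Preadditive.sub_comp]; simp only [Category.assoc]; rw [hx', sub_self]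
    obtain ⟨A2, π2, hπ2, z, hz⟩ := hex.exact_up_to_refinements _ h0
    obtain ⟨A3, π3, hπ3, t, ht⟩ := surjective_up_to_refinements_of_epi π₁ z
    refine ⟨A3, π3 ≫ π2 ≫ π', epi_comp _ _, prod.lift t (π3 ≫ π2 ≫ x), ?_⟩
    rw [Preadditive.comp_add, prod.lift_fst_assoc, prod.lift_snd_assoc, ← reassoc_of% ht, ← hz,
      Preadditive.comp_sub, Preadditive.comp_sub]
    simp only [Category.assoc]
    abel

end Groth.Agent.S5624
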