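import Groth.Statements.S5642
import Groth.Agent.Lib.Helper5.Snap.CycleAbs
import Groth.Agent.Lib.Helper1.ChevLoc
import Groth.Agent.Lib.Lead.QC.AModPush
import Groth.Agent.H4.K0Coh
import Groth.Agent.Lib.Lead.QC.DimLt

set_option autoImplicit false
universe u
open CategoryTheory CategoryTheory.Limits AlgebraicGeometry
open Classical
open SGA6
open Groth.Agent.LD Groth.Agent.LD.QC Groth.Agent.H5.Curve4 Groth.Agent.H5.DegC Groth.Agent.H5.Snap

namespace Groth.Agent.S5642

/-- Let X be a Noetherian scheme, K the Grothendieck group of coherent O_X-modules and Filt_m ⊆ K the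
subgroup generated by the classes of coherent modules whose support has dimension ≤ m. Let F be
coherent with dim Supp(F) ≤ n. Then for the points x of X whose closure Z(x) has dimension n the
stalk F_x has finite length, nonzero for only finitely many such x, and [F] ≡ Σ_x length(F_x)
[O_{Z(x)}] modulo Filt_{n-1}, where O_{Z(x)} is the structure sheaf of the reduced closed subscheme
Z(x) viewed as an O_X-module. -/
theorem result (X : Scheme.{u}) [IsNoetherian X] (n : ℕ) (F : X.Modules) (hF : Coh.IsCoh F)
    (hsupp : topologicalKrullDim ↥(CohB1.support F) ≤ n) :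
    KZero.clSub (fun M : X.Modules => Coh.IsCoh M) F -
        (finsum fun x : ↥X => if topologicalKrullDim ↥(closure ({x} : Set ↥X)) = n then
          (Module.length (X.presheaf.stalk x) (F.presheaf.stalk x)).toNat • KZero.clSub (fun M : X.Modules => Coh.IsCoh M) (Cyc.closureStructureSheaf x) else 0) ∈
      AddSubgroup.closure {c : KZero.K0sub (fun M : X.Modules => Coh.IsCoh M) |
        ∃ G : X.Modules, Coh.IsCoh G ∧ topologicalKrullDim ↥(CohB1.support G) < n ∧ c = KZero.clSub (fun M : X.Modules => Coh.IsCoh M) G} := by
  classical
  set Pc : ObjectProperty X.Modules := (fun M : X.Modules => Coh.IsCoh M) with hPc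
  haveI : Pc.IsClosedUnderIsomorphisms :=
    inferInstanceAs (Groth.Agent.H4.K0Coh.PCoh X).IsClosedUnderIsomorphisms
  haveI : Pc.ContainsZero :=
    inferInstanceAs (Groth.Agent.H4.K0Coh.PCoh X).ContainsZero
  set N : AddSubgroup (KZero.K0sub Pc) := AddSubgroup.closure {c : KZero.K0sub Pc |
        ∃ G : X.Modules, Coh.IsCoh G ∧ topologicalKrullDim ↥(CohB1.support G) < n ∧
          c = KZero.clSub Pc G} with hN
  have hmemN : ∀ G : X.Modules, Coh.IsCoh G → topologicalKrullDim ↥(CohB1.support G) < n →
      KZero.clSub Pc G ∈ N := fun G hG hlt => AddSubgroup.subset_closure ⟨G, hG, hlt, rfl⟩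
  rcases isEmpty_or_nonempty (X : Type u) with hE | hNE
  · rw [finsum_of_isEmpty, sub_zero]
    apply hmemN F hF
    have hb : topologicalKrullDim ↥(CohB1.support F) = ⊥ := by
      unfold topologicalKrullDim
      haveI : IsEmpty (TopologicalSpace.IrreducibleCloseds ↥(CohB1.support F)) :=
        ⟨fun Z => by
          obtain ⟨x, _⟩ := Z.isIrreducible.nonempty
          exact isEmptyElim (x : X)⟩
      exact Order.krullDim_eq_bot
    rw [hb]
    exact bot_lt_iff_ne_bot.mpr (WithBot.natCast_ne_bot n)
  · have hiso : ∀ M M' : X.Modules, (M ≅ M') → KZero.clSub Pc M = KZero.clSub Pc M' := by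
      intro M M' e
      by_cases hM : Pc M
      · exact Groth.Agent.H2.KThick.cl_iso Pc e hM
      · have hM' : ¬ Pc M' := fun h => hM (Pc.prop_of_iso e.symm h)
        unfold KZero.clSub
        rw [dif_neg hM, dif_neg hM']
    have hadd : ∀ S : ShortComplex X.Modules, S.ShortExact → Coh.IsCoh S.X₁ → Coh.IsCoh S.X₂ →
        Coh.IsCoh S.X₃ → KZero.clSub Pc S.X₂ = KZero.clSub Pc S.X₁ + KZero.clSub Pc S.X₃ :=
      fun S hS h1 h2 h3 => Groth.Agent.H2.KThick.cl_ses Pc S hS h1 h2 h3
    have hzero : ∀ Z : X.Modules, IsZero Z → KZero.clSub Pc Z = 0 :=
      fun Z hZ => Groth.Agent.H2.KThick.cl_zero Pc hZ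
    have hint : ∀ (C : X.IdealSheafData) [IsIntegral C.subscheme] (I : C.subscheme.Modules)
        (ι : I ⟶ unitMod C.subscheme) [Mono ι], I.IsQuasicoherent → ¬ IsTors I →
        topologicalKrullDim (closure ({C.subschemeι (genericPoint C.subscheme)} : Set X)) ≤
          (n : WithBot ℕ∞) →
        (topologicalKrullDim (closure ({C.subschemeι (genericPoint C.subscheme)} : Set X)) =
            (n : WithBot ℕ∞) →
          KZero.clSub Pc ((Scheme.Modules.pushforward C.subschemeι).obj I) -
            KZero.clSub Pc (ClSub.quotMod C) ∈ N) ∧
        (topologicalKrullDim (closure ({C.subschemeι (genericPoint C.subscheme)} : Set X)) ≠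
            (n : WithBot ℕ∞) →
          KZero.clSub Pc ((Scheme.Modules.pushforward C.subschemeι).obj I) ∈ N) := by
      intro C hC I ι hι hI ht hdim
      haveI := hC
      haveI := hι
      haveI : IsLocallyNoetherian C.subscheme :=
        LocallyOfFiniteType.isLocallyNoetherian C.subschemeι
      haveI : CompactSpace C.subscheme := C.subschemeι.isClosedEmbedding.compactSpace
      haveI : IsNoetherian C.subscheme := {}
      have hUc : Coh.IsCoh (unitMod C.subscheme) := Groth.Agent.LD.PF.isCoh_unitMod C.subscheme
      have hIc : Coh.IsCoh I := isCoh_of_mono ι hI hUc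
      have hQc : Coh.IsCoh (cokernel ι) := isCoh_cokernel ι hIc hUc
      have hpush : ∀ G : C.subscheme.Modules, Coh.IsCoh G →
          Coh.IsCoh ((Scheme.Modules.pushforward C.subschemeι).obj G) := by
        intro G hG
        haveI := hG.1
        exact ⟨QC.qc_pushforward C.subschemeι G,
          QC.isFiniteType_pushforward_of_isFinite C.subschemeι G hG.2⟩
      have hrange : Set.range C.subschemeι =
          closure ({C.subschemeι (genericPoint C.subscheme)} : Set X) := by
        rw [C.range_subschemeι]
        exact support_eq_closure_of_isIntegral C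
      have hsub : ∀ G : C.subscheme.Modules,
          CohB1.support ((Scheme.Modules.pushforward C.subschemeι).obj G) ⊆
            closure ({C.subschemeι (genericPoint C.subscheme)} : Set X) := by
        intro G
        rw [← hrange]
        exact Groth.Agent.LD.PS.support_pushforward_subset C.subschemeι G
      refine ⟨fun hd => ?_, fun hd => ?_⟩
      · let S : ShortComplex C.subscheme.Modules :=
          ShortComplex.mk ι (cokernel.π ι) (cokernel.condition ι)
        have hS : S.ShortExact :=
          { exact := ShortComplex.exact_cokernel ι
            mono_f := inferInstanceAs (Mono ι)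
            epi_g := inferInstanceAs (Epi (cokernel.π ι)) }
        have hS' : (S.map (Scheme.Modules.pushforward C.subschemeι)).ShortExact := by
          haveI : PreservesLimitsOfSize.{0, 0} (Scheme.Modules.pushforward C.subschemeι) :=
            (Scheme.Modules.pullbackPushforwardAdjunction C.subschemeι).rightAdjoint_preservesLimits
          haveI : PreservesFiniteLimits (Scheme.Modules.pushforward C.subschemeι) :=
            PreservesLimitsOfSize.preservesFiniteLimits.{0, 0} _
          haveI : Mono (S.map (Scheme.Modules.pushforward C.subschemeι)).f := by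
            change Mono ((Scheme.Modules.pushforward C.subschemeι).map ι)
            infer_instance
          haveI : Epi (S.map (Scheme.Modules.pushforward C.subschemeι)).g := by
            change Epi ((Scheme.Modules.pushforward C.subschemeι).map (cokernel.π ι))
            exact QC.epi_pushforward_of_affine C.subschemeι hUc.1 hQc.1 (cokernel.π ι)
          exact ShortComplex.ShortExact.mk
            (hS.exact.map_of_mono_of_preservesKernel _ hS.mono_f inferInstance)
        have h := hadd _ hS' (hpush I hIc) (hpush _ hUc) (hpush _ hQc)
        have h' : KZero.clSub Pc (ClSub.quotMod C) =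
            KZero.clSub Pc ((Scheme.Modules.pushforward C.subschemeι).obj I) +
              KZero.clSub Pc ((Scheme.Modules.pushforward C.subschemeι).obj (cokernel ι)) := h
        rw [h']
        have hab : KZero.clSub Pc ((Scheme.Modules.pushforward C.subschemeι).obj I) -
            (KZero.clSub Pc ((Scheme.Modules.pushforward C.subschemeι).obj I) +
              KZero.clSub Pc ((Scheme.Modules.pushforward C.subschemeι).obj (cokernel ι))) =
            - KZero.clSub Pc ((Scheme.Modules.pushforward C.subschemeι).obj (cokernel ι)) := by
          abel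
        rw [hab]
        apply N.neg_mem
        apply hmemN _ (hpush _ hQc)
        have htQ := isTors_cokernel_of_not_isTors I ι hIc ht
        have hηnot : C.subschemeι (genericPoint C.subscheme) ∉
            CohB1.support ((Scheme.Modules.pushforward C.subschemeι).obj (cokernel ι)) :=
          Groth.Agent.H1.Chev.notMem_support_pushforward C.subschemeι (cokernel ι)
            (genericPoint C.subscheme) (fun h => h htQ)
        exact Groth.Agent.LD.QC.dim_lt_of_closed_subset_closure
          (C.subschemeι (genericPoint C.subscheme)) _
          (QC.isClosed_support_of_isFiniteType _ (hpush _ hQc).2) (hsub _) hηnot n hdim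
      · apply hmemN _ (hpush I hIc)
        have h1 : topologicalKrullDim
              ↥(CohB1.support ((Scheme.Modules.pushforward C.subschemeι).obj I)) ≤
            topologicalKrullDim
              ↥(closure ({C.subschemeι (genericPoint C.subscheme)} : Set X)) :=
          (Topology.IsEmbedding.inclusion (hsub I)).isInducing.topologicalKrullDim_le
        exact lt_of_le_of_lt h1 (lt_of_le_of_ne hdim hd)
    have key := Groth.Agent.H5.Snap.goodA_of_isCoh N n (fun M => KZero.clSub Pc M)
      (fun C => KZero.clSub Pc (ClSub.quotMod C)) hiso hadd hzero hint F hF hsupp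
    obtain ⟨_, _, h3⟩ := key
    have hcyc : (finsum fun x : ↥X =>
          if topologicalKrullDim ↥(closure ({x} : Set ↥X)) = n then
            (Module.length (X.presheaf.stalk x) (F.presheaf.stalk x)).toNat •
              KZero.clSub Pc (Cyc.closureStructureSheaf x) else 0) =
        Groth.Agent.H5.Snap.cycA n (fun C => KZero.clSub Pc (ClSub.quotMod C)) F := by
      unfold Groth.Agent.H5.Snap.cycA
      apply finsum_congr
      intro x
      unfold Groth.Agent.H5.Snap.mult
      split_ifs with hc
      · rfl
      · rw [zero_smul]
    rw [hcyc]
    exact h3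

end Groth.Agent.S5642
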