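import Groth.Statements.S5643
import Groth.Agent.Lib.Lead.QC.DevissageStep
import Groth.Agent.Lib.Lead.QC.QuotTorsion
import Groth.Agent.Lib.Lead.QC.QuotSupp
import Groth.Agent.H4.K0Coh

set_option autoImplicit false
universe u
open CategoryTheory CategoryTheory.Limits AlgebraicGeometry
open Classical
open SGA6

namespace Groth.Agent.S5643

/-- Let X be a Noetherian scheme and K the Grothendieck group of coherent O_X-modules. For every n, the
subgroup of K generated by the classes of coherent modules whose support has dimension ≤ n coincides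
with the subgroup generated by the classes [O_Z] of the structure sheaves (as O_X-modules) of the
integral closed subschemes Z ⊆ X of dimension ≤ n, Z running over the reduced closures of points of
X. -/
theorem result (X : Scheme.{u}) [IsNoetherian X] (n : ℕ) :
    AddSubgroup.closure {c : KZero.K0sub (fun M : X.Modules => Coh.IsCoh M) |
        ∃ G : X.Modules, Coh.IsCoh G ∧ topologicalKrullDim ↥(CohB1.support G) ≤ n ∧ c = KZero.clSub (fun M : X.Modules => Coh.IsCoh M) G} =
      AddSubgroup.closure {c : KZero.K0sub (fun M : X.Modules => Coh.IsCoh M) |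
        ∃ x : ↥X, topologicalKrullDim ↥(closure ({x} : Set ↥X)) ≤ n ∧ c = KZero.clSub (fun M : X.Modules => Coh.IsCoh M) (Cyc.closureStructureSheaf x)} := by
  classical
  set Pc : ObjectProperty X.Modules := (fun M : X.Modules => Coh.IsCoh M) with hPc
  haveI : Pc.IsClosedUnderIsomorphisms :=
    inferInstanceAs (Groth.Agent.H4.K0Coh.PCoh X).IsClosedUnderIsomorphisms
  haveI : Pc.ContainsZero :=
    inferInstanceAs (Groth.Agent.H4.K0Coh.PCoh X).ContainsZero
  have hsuppG : ∀ x : X, CohB1.support (Cyc.closureStructureSheaf x) = closure ({x} : Set X) := by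
    intro x
    show CohB1.support (ClSub.quotMod (Scheme.IdealSheafData.vanishingIdeal
      (⟨closure {x}, isClosed_closure⟩ : TopologicalSpace.Closeds X))) = closure ({x} : Set X)
    rw [Groth.Agent.LD.QC.support_quotMod, Scheme.IdealSheafData.coe_support_vanishingIdeal]
    rfl
  have hcohG : ∀ x : X, Coh.IsCoh (Cyc.closureStructureSheaf x) := fun x =>
    Groth.Agent.LD.QC.isCoh_quotMod (Scheme.IdealSheafData.vanishingIdeal
      (⟨closure {x}, isClosed_closure⟩ : TopologicalSpace.Closeds X))
  apply le_antisymm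
  · rw [AddSubgroup.closure_le]
    rintro c ⟨G₁, hG₁, hdim, rfl⟩
    set H : AddSubgroup (KZero.K0sub Pc) := AddSubgroup.closure {c : KZero.K0sub Pc |
        ∃ x : ↥X, topologicalKrullDim ↥(closure ({x} : Set ↥X)) ≤ n ∧
          c = KZero.clSub Pc (Cyc.closureStructureSheaf x)} with hH
    show KZero.clSub Pc G₁ ∈ H
    have hses : ∀ S : ShortComplex X.Modules, S.ShortExact → Coh.IsCoh S.X₁ →
        Coh.IsCoh S.X₂ → Coh.IsCoh S.X₃ →
        KZero.clSub Pc S.X₂ = KZero.clSub Pc S.X₁ + KZero.clSub Pc S.X₃ := by
      intro S hS h1 h2 h3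
      exact Groth.Agent.H2.KThick.cl_ses Pc S hS h1 h2 h3
    refine Groth.Agent.LD.QC.devissage_master (fun G : X.Modules => KZero.clSub Pc G ∈ H)
      ?_ (CohB1.support G₁) ?_ ?_ ?_ G₁ hG₁ (subset_refl _)
    · intro A B e hA hPA
      have := Groth.Agent.H2.KThick.cl_iso Pc e hA
      show KZero.clSub Pc B ∈ H
      rw [← this]
      exact hPA
    · intro Z hZ
      show KZero.clSub Pc Z ∈ H
      rw [Groth.Agent.H2.KThick.cl_zero Pc hZ]
      exact H.zero_mem
    · intro S hS h1 h2 h3 _ p1 p3
      show KZero.clSub Pc S.X₂ ∈ H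
      rw [hses S hS h1 h2 h3]
      exact H.add_mem p1 p3
    · intro Y hYc hirr hYY₀ IH Q hQ hQY
      obtain ⟨ξ, hξ⟩ := QuasiSober.sober hirr hYc
      have hξcl : closure {ξ} = Y := hξ.def
      have hξY : ξ ∈ Y := hξcl ▸ subset_closure rfl
      let Yc : TopologicalSpace.Closeds X := ⟨closure {ξ}, isClosed_closure⟩
      have hGc : Coh.IsCoh (ClSub.quotMod (Scheme.IdealSheafData.vanishingIdeal Yc)) :=
        Groth.Agent.LD.QC.isCoh_quotMod _
      have hGs : CohB1.support (ClSub.quotMod (Scheme.IdealSheafData.vanishingIdeal Yc)) = Y := by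
        rw [← hξcl]
        exact hsuppG ξ
      have hdimξ : topologicalKrullDim ↥(closure ({ξ} : Set ↥X)) ≤ n := by
        have hsub : closure ({ξ} : Set X) ⊆ CohB1.support G₁ := hξcl ▸ hYY₀
        exact (Topology.IsEmbedding.inclusion hsub).isInducing.topologicalKrullDim_le.trans hdim
      have hPG : KZero.clSub Pc (ClSub.quotMod (Scheme.IdealSheafData.vanishingIdeal Yc)) ∈ H :=
        AddSubgroup.subset_closure ⟨ξ, hdimξ, rfl⟩
      have hQ0 : ¬ IsZero Q := by
        intro hz
        have := Groth.Agent.LD.QC.support_eq_empty_of_isZero hz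
        rw [hQY] at this
        exact (this ▸ hξY : ξ ∈ (∅ : Set X))
      refine Groth.Agent.LD.QC.exists_sub_of_subs (fun G : X.Modules => KZero.clSub Pc G ∈ H)
        (CohB1.support G₁) ?_ (ClSub.quotMod (Scheme.IdealSheafData.vanishingIdeal Yc)) Q hGc hQ hQ0
        (by rw [hQY, hGs]) (hGs ▸ hYY₀) ?_
      · intro S hS h1 h2 h3 _ p1 p2
        show KZero.clSub Pc S.X₃ ∈ H
        have h3' : KZero.clSub Pc S.X₃ = KZero.clSub Pc S.X₂ - KZero.clSub Pc S.X₁ := by
          rw [hses S hS h1 h2 h3, add_sub_cancel_left]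
        rw [h3']
        exact H.sub_mem p2 p1
      · intro K k hk hK
        haveI := hk
        by_cases hKz : IsZero K
        · show KZero.clSub Pc K ∈ H
          rw [Groth.Agent.H2.KThick.cl_zero Pc hKz]
          exact H.zero_mem
        · haveI : K.IsQuasicoherent := hK.1
          haveI : (ClSub.quotMod (Scheme.IdealSheafData.vanishingIdeal Yc)).IsQuasicoherent := hGc.1
          have hnot : ξ ∉ CohB1.support (cokernel k) :=
            Groth.Agent.LD.QC.notMem_support_cokernel_of_sub_quotMod Yc ξ rfl K
              (ClSub.quotMod (Scheme.IdealSheafData.vanishingIdeal Yc)) k (𝟙 _) hKz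
          have hCc : Coh.IsCoh (cokernel k) := Groth.Agent.LD.QC.isCoh_cokernel k hK hGc
          have hCY : CohB1.support (cokernel k) ⊆ Y :=
            hGs ▸ Groth.Agent.LD.QC.support_subset_of_epi (cokernel.π k)
          have hPC : KZero.clSub Pc (cokernel k) ∈ H :=
            IH _ hCc hCY (fun h => hnot (h ▸ hξY))
          have hS : (ShortComplex.mk k (cokernel.π k) (cokernel.condition k)).ShortExact :=
            { exact := ShortComplex.exact_of_g_is_cokernel _ (cokernelIsCokernel k)
              mono_f := inferInstanceAs (Mono k)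
              epi_g := inferInstanceAs (Epi (cokernel.π k)) }
          have h := hses _ hS hK hGc hCc
          show KZero.clSub Pc K ∈ H
          have h1' : KZero.clSub Pc K =
              KZero.clSub Pc (ClSub.quotMod (Scheme.IdealSheafData.vanishingIdeal Yc)) -
                KZero.clSub Pc (cokernel k) := by
            rw [show KZero.clSub Pc (ClSub.quotMod (Scheme.IdealSheafData.vanishingIdeal Yc)) =
              KZero.clSub Pc K + KZero.clSub Pc (cokernel k) from h, add_sub_cancel_right]
          rw [h1']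
          exact H.sub_mem hPG hPC
  · rw [AddSubgroup.closure_le]
    rintro c ⟨x, hx, rfl⟩
    apply AddSubgroup.subset_closure
    refine ⟨Cyc.closureStructureSheaf x, hcohG x, ?_, rfl⟩
    rw [hsuppG x]
    exact hx

end Groth.Agent.S5643
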