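import Groth.Statements.S5656
import Groth.Agent.Lib.Helper3.PolyMapAux

set_option autoImplicit false
universe u
open W4sga6xxiii
open Polynomial

namespace Groth.Agent.S5656

/-- Let G be an abelian group and G' ⊆ G a subgroup which is divisible by some prime number p (every
element of G' is p times an element of G') and such that G/G' is a torsion group. Then every
polynomial map f : G → ℚ (admitting binomial expansions f(Σ n_i x_i) = Σ_k Π_i C(n_i, k_i) y_k along
every finite sequence x) which takes only integer values is constant. -/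
theorem result {G : Type u} [AddCommGroup G] (G' : AddSubgroup G)
    (p : ℕ) (hp : p.Prime) (hdiv : ∀ x ∈ G', ∃ y ∈ G', p • y = x) (htor : ∀ x : G, ∃ n : ℤ, n ≠ 0 ∧ n • x ∈ G')
    (f : G → ℚ) (hf : W4sga6xxiii.IsPolyMap f) (hint : ∀ x, ∃ z : ℤ, f x = z) (x : G) : f x = f 0 := by
  obtain ⟨N, hN0, hNx⟩ := htor x
  set z := N • x with hz
  -- p-power roots
  have hroot : ∀ j : ℕ, ∃ w ∈ G', (p ^ j) • w = z := by
    intro j
    induction j with
    | zero => exact ⟨z, hNx, by simp⟩
    | succ j ih =>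
      obtain ⟨w, hw, hwz⟩ := ih
      obtain ⟨w', hw', hw'w⟩ := hdiv w hw
      refine ⟨w', hw', ?_⟩
      rw [pow_succ, mul_smul, hw'w, hwz]
  obtain ⟨Q0, hQ0⟩ := H3.PolyMapAux.exists_poly f hf z
  -- Q0 is constant
  have hconst : Q0.natDegree = 0 := by
    by_contra hd
    have hd1 : 1 ≤ Q0.natDegree := Nat.one_le_iff_ne_zero.2 hd
    obtain ⟨c, hc⟩ := H3.PolyMapAux.factorial_mul_leadingCoeff_int Q0 (fun n => by
      obtain ⟨v, hv⟩ := hint (((n : ℕ) : ℤ) • z)
      exact ⟨v, by rw [← hv, hQ0]; simp⟩)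
    have hdvd : ∀ j : ℕ, ((p : ℤ) ^ (j * Q0.natDegree)) ∣ c := by
      intro j
      obtain ⟨w, hw, hwz⟩ := hroot j
      obtain ⟨Qj, hQj⟩ := H3.PolyMapAux.exists_poly f hf w
      have hpj : ((p : ℚ) ^ j) ≠ 0 := pow_ne_zero _ (Nat.cast_ne_zero.2 hp.ne_zero)
      have hcomp : Q0 = Qj.comp (C ((p : ℚ) ^ j) * X) := by
        apply Polynomial.eq_of_infinite_eval_eq
        refine Set.infinite_of_injective_forall_mem (f := fun n : ℤ => (n : ℚ)) Int.cast_injective ?_
        intro n
        simp only [Set.mem_setOf_eq, eval_comp, eval_mul, eval_C, eval_X]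
        rw [← hQ0]
        have : ((p : ℚ) ^ j) * (n : ℚ) = (((p ^ j : ℕ) : ℤ) * n : ℤ) := by push_cast; ring
        rw [this, ← hQj]
        congr 1
        rw [mul_comm, mul_smul, ← hwz, natCast_zsmul]
      have hdeg : Q0.natDegree = Qj.natDegree := by
        rw [hcomp, natDegree_comp, natDegree_C_mul_X _ hpj, mul_one]
      have hlc : Q0.leadingCoeff = Qj.leadingCoeff * ((p : ℚ) ^ j) ^ Qj.natDegree := by
        rw [hcomp, leadingCoeff_comp (by rw [natDegree_C_mul_X _ hpj]; exact one_ne_zero),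
          leadingCoeff_C_mul_X]
      obtain ⟨cj, hcj⟩ := H3.PolyMapAux.factorial_mul_leadingCoeff_int Qj (fun n => by
        obtain ⟨v, hv⟩ := hint (((n : ℕ) : ℤ) • w)
        exact ⟨v, by rw [← hv, hQj]; simp⟩)
      refine ⟨cj, ?_⟩
      have : (c : ℚ) = ((p : ℤ) ^ (j * Q0.natDegree) * cj : ℤ) := by
        rw [← hc, hlc, hdeg]
        push_cast
        rw [← hcj, pow_mul]
        ring
      exact_mod_cast this
    -- c = 0
    have hc0 : c = 0 := by
      by_contra hcne
      have hlt : c.natAbs < p ^ (c.natAbs * Q0.natDegree) := by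
        calc c.natAbs < 2 ^ c.natAbs := Nat.lt_two_pow_self
          _ ≤ p ^ c.natAbs := Nat.pow_le_pow_left hp.two_le _
          _ ≤ p ^ (c.natAbs * Q0.natDegree) :=
              Nat.pow_le_pow_right hp.pos (Nat.le_mul_of_pos_right _ hd1)
      have h1 := hdvd c.natAbs
      have h2 : (p ^ (c.natAbs * Q0.natDegree)) ∣ c.natAbs := by
        have := Int.natAbs_dvd_natAbs.2 h1
        simpa [Int.natAbs_pow] using this
      have h3 := Nat.le_of_dvd (Int.natAbs_pos.2 hcne) h2
      omega
    have : Q0.leadingCoeff = 0 := by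
      have h1 : (Q0.natDegree.factorial : ℚ) * Q0.leadingCoeff = 0 := by rw [hc, hc0]; simp
      rcases mul_eq_zero.1 h1 with h | h
      · exact absurd h (Nat.cast_ne_zero.2 (Nat.factorial_ne_zero _))
      · exact h
    rw [leadingCoeff_eq_zero] at this
    rw [this] at hd
    simp at hd
  -- polynomial for x
  obtain ⟨Qx, hQx⟩ := H3.PolyMapAux.exists_poly f hf x
  have hQ0c : ∀ n : ℤ, Q0.eval (n : ℚ) = f 0 := by
    intro n
    rw [eq_C_of_natDegree_eq_zero hconst, eval_C]
    have := hQ0 0
    rw [zero_smul, eq_C_of_natDegree_eq_zero hconst] at this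
    simpa using this.symm
  have hQxC : Qx = C (f 0) := by
    apply Polynomial.eq_of_infinite_eval_eq
    refine Set.infinite_of_injective_forall_mem (f := fun n : ℤ => ((n * N : ℤ) : ℚ)) ?_ ?_
    · intro a b hab
      simp only [Int.cast_inj] at hab
      exact mul_right_cancel₀ hN0 hab
    · intro n
      simp only [Set.mem_setOf_eq, eval_C]
      rw [← hQx, mul_smul, ← hz, hQ0, hQ0c]
  have h1 := hQx 1
  rw [one_smul] at h1
  rw [h1, hQxC, eval_C]

end Groth.Agent.S5656
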