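import Groth.Statements.S5657
import Groth.Agent.Lib.Helper3.BinomUnit
import Mathlib.RingTheory.Ideal.Operations
import Mathlib.LinearAlgebra.TensorProduct.Basic
import Mathlib.Algebra.BigOperators.Ring.Finset

set_option autoImplicit false
universe u
open TensorProduct
open W4sga6xxiii

namespace Groth.Agent.S5657

/-- Let A be a commutative ring, I an ideal of A with I^{m+1} = 0, and P ⊆ Aˣ the subgroup of units of
the form 1 + y with y ∈ I. Then the map P → A ⊗_ℤ ℚ, x ↦ x ⊗ 1, is a polynomial map of degree ≤ m on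
the abelian group P (written additively): along every finite sequence x_1, …, x_r in P one has
x_1^{n_1}⋯x_r^{n_r} ⊗ 1 = Σ_k Π_i C(n_i, k_i) y_k with y_k = 0 whenever k_1 + ⋯ + k_r > m. -/
theorem result (A : Type u) [CommRing A] (I : Ideal A) (m : ℕ) (hI : I ^ (m + 1) = ⊥)
    (P : Subgroup Aˣ) (hP : ∀ u : Aˣ, u ∈ P ↔ (u : A) - 1 ∈ I) :
    W4sga6xxiii.IsPolyMapLE (fun u : Additive P => (((Additive.toMul u : P) : Aˣ) : A) ⊗ₜ[ℤ] (1 : ℚ)) m := by
  intro r x
  let u : Fin r → Aˣ := fun i => ((Additive.toMul (x i) : P) : Aˣ)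
  let yv : Fin r → A := fun i => (u i : A) - 1
  have hyv : ∀ i, yv i ∈ I := fun i => (hP (u i)).1 (Additive.toMul (x i) : P).2
  have hyv0 : ∀ i, yv i ^ (m + 1) = 0 := by
    intro i
    have : yv i ^ (m + 1) ∈ I ^ (m + 1) := Ideal.pow_mem_pow (hyv i) _
    rw [hI] at this
    exact this
  refine ⟨fun k => (∏ i, yv i ^ (k i : ℕ)) ⊗ₜ[ℤ] (1 : ℚ), ?_, ?_⟩
  · intro k hk
    have h1 : ∏ i, yv i ^ (k i : ℕ) ∈ ∏ i : Fin r, I ^ (k i : ℕ) :=
      Ideal.prod_mem_prod (fun i _ => Ideal.pow_mem_pow (hyv i) _)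
    rw [Finset.prod_pow_eq_pow_sum] at h1
    have h2 : I ^ (∑ i, (k i : ℕ)) ≤ I ^ (m + 1) := Ideal.pow_le_pow_right hk
    have h3 := h2 h1
    rw [hI] at h3
    have h4 : ∏ i, yv i ^ (k i : ℕ) = 0 := h3
    change (∏ i, yv i ^ (k i : ℕ)) ⊗ₜ[ℤ] (1 : ℚ) = 0
    rw [h4, TensorProduct.zero_tmul]
  · intro n
    have e1 : (((Additive.toMul (∑ i, n i • x i) : P) : Aˣ) : A) = ∏ i, (((u i) ^ (n i) : Aˣ) : A) := by
      rw [toMul_sum]
      simp only [toMul_zsmul]
      rw [Subgroup.val_finset_prod, Units.coe_prod]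
      rfl
    change (((Additive.toMul (∑ i, n i • x i) : P) : Aˣ) : A) ⊗ₜ[ℤ] (1 : ℚ) = _
    rw [e1]
    have e2 : ∀ i, (((u i) ^ (n i) : Aˣ) : A) = ∑ j : Fin (m + 1), Ring.choose (n i) (j : ℕ) • yv i ^ (j : ℕ) := by
      intro i
      rw [H3.BinomUnit.unit_zpow_eq (u i) m (hyv0 i) (n i)]
      unfold H3.BinomUnit.g
      rw [Finset.sum_range]
    simp_rw [e2]
    rw [Finset.prod_univ_sum, Fintype.piFinset_univ, TensorProduct.sum_tmul]
    refine Finset.sum_congr rfl (fun k _ => ?_)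
    rw [TensorProduct.smul_tmul']
    congr 1
    simp only [zsmul_eq_mul]
    rw [Finset.prod_mul_distrib]
    push_cast
    rfl

end Groth.Agent.S5657
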