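import Groth.Statements.S5666
import Mathlib
import Groth.Agent.Lib.Helper1.ExtKos1
import Groth.Agent.Lib.Helper1.ExtKos2
import Groth.Agent.Lib.Helper2.ExtReg3

set_option autoImplicit false
universe u
open CategoryTheory
open Dual

namespace Groth.Agent.S5666

open CategoryTheory.Abelian CohIII Groth.Agent.Lib.Helper1.TorKos Groth.Agent.Lib.Helper1.ExtKos in
theorem ext_succ_aux {A : Type u} [CommRing A] (xs : List A) (hreg : RingTheory.Sequence.IsWeaklyRegular A xs) (M : Type u) [AddCommGroup M] [Module A M] (hJM : Ideal.ofList xs • (⊤ : Submodule A M) = ⊥) (n : ℕ) :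
    Nonempty (Abelian.Ext (ModuleCat.of A (A ⧸ (Ideal.ofList xs • (⊤ : Submodule A A)))) (ModuleCat.of A M) (n + 1) ≃ₗ[A] (Fin (xs.length.choose (n + 1)) → M)) := by
  obtain ⟨P, hP⟩ := exists_projRes xs hreg
  have hl : ∀ a ∈ xs, a • 𝟙 (ModuleCat.of A M) = 0 := by
    intro a ha
    apply ModuleCat.hom_ext
    apply LinearMap.ext
    intro m
    show a • m = 0
    have : a • m ∈ Ideal.ofList xs • (⊤ : Submodule A M) :=
      Submodule.smul_mem_smul (Ideal.subset_span ha) Submodule.mem_top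
    rw [hJM] at this
    exact this
  have key : ∀ (C : ChainComplex (ModuleCat.{u} A) ℕ), C = toChain (koszulCx (ModuleCat.of A A) xs) →
      (∀ (k : ℕ) (φ : C.X k ⟶ ModuleCat.of A M), C.d (k + 1) k ≫ φ = 0) ∧
      Nonempty ((C.X (n + 1) ⟶ ModuleCat.of A M) ≃ₗ[A] (Fin (xs.length.choose (n + 1)) → M)) := by
    rintro _ rfl
    refine ⟨fun k φ => ?_, ?_⟩
    · rw [toChain_d]
      exact koszul_d_comp_eq_zero _ _ xs hl _ _ φ
    · obtain ⟨e⟩ := nonempty_hom_X_equiv xs (-((n + 1 : ℕ) : ℤ)) M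
      rw [cnt_neg] at e
      exact ⟨e⟩
  obtain ⟨h, ⟨e2⟩⟩ := key P.complex hP
  obtain ⟨e1⟩ := nonempty_hom_equiv_ext_succ P h n
  exact ⟨e1.symm ≪≫ₗ e2⟩

/-- `Hom(A/J, M) = M` when `J` kills `M`. -/
noncomputable def quotHomEquiv {A : Type u} [CommRing A] (J : Ideal A) (M : Type u) [AddCommGroup M] [Module A M]
    (h : ∀ a ∈ J, ∀ m : M, a • m = 0) : ((A ⧸ J) →ₗ[A] M) ≃ₗ[A] M where
  toFun f := f 1
  map_add' f g := rfl
  map_smul' r f := rfl
  invFun m := Submodule.liftQ J (LinearMap.toSpanSingleton A M m) (fun a ha => by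
    rw [LinearMap.mem_ker, LinearMap.toSpanSingleton_apply]
    exact h a ha m)
  left_inv f := by
    apply Submodule.linearMap_qext
    apply LinearMap.ext_ring
    show (1 : A) • f 1 = f (Submodule.Quotient.mk 1)
    rw [one_smul]
    rfl
  right_inv m := by
    show (1 : A) • m = m
    rw [one_smul]

/-- All degrees, for a module killed by `J`: let `A` be a commutative ring, `xs = (x_1, …, x_p)` a
sequence in `A` such that each `x_i` is a non-zero-divisor on `A/(x_1, …, x_{i-1})`, `J` the ideal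
generated by the `x_i`, and `M` an `A`-module with `JM = 0`. Then for every `i`, `Ext^i_A(A/J, M)`
is isomorphic as an `A`-module to `M^(p choose i)` (so it vanishes for `i > p`). (Existence of an
`A`-linear isomorphism only; the published one is `Ext^i_A(A/J, M) ≅ Hom_A(Λ^i(J/J^2), M)` with
`J/J^2` free of rank `p` over `A/J`.) -/
theorem result (A : Type u) [CommRing A] (xs : List A) (hreg : RingTheory.Sequence.IsWeaklyRegular A xs) (M : Type u) [AddCommGroup M] [Module A M] (hJM : Ideal.ofList xs • (⊤ : Submodule A M) = ⊥) (i : ℕ) : Nonempty (Abelian.Ext (ModuleCat.of A (A ⧸ Ideal.ofList xs)) (ModuleCat.of A M) i ≃ₗ[A] (Fin (xs.length.choose i) → M)) := by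
  cases i with
  | zero =>
    rw [Nat.choose_zero_right]
    have h : ∀ a ∈ Ideal.ofList xs, ∀ m : M, a • m = 0 := by
      intro a ha m
      have : a • m ∈ Ideal.ofList xs • (⊤ : Submodule A M) :=
        Submodule.smul_mem_smul ha Submodule.mem_top
      rw [hJM] at this
      exact this
    exact ⟨Abelian.Ext.linearEquiv₀ ≪≫ₗ ModuleCat.homLinearEquiv ≪≫ₗ
      quotHomEquiv (Ideal.ofList xs) M h ≪≫ₗ (LinearEquiv.funUnique (Fin 1) A M).symm⟩
  | succ n =>
    obtain ⟨e⟩ := ext_succ_aux xs hreg M hJM n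
    have hI2 : (Ideal.ofList xs • (⊤ : Submodule A A)) = Ideal.ofList xs := by
      rw [smul_eq_mul, Ideal.mul_top]
    let e0 : ModuleCat.of A (A ⧸ Ideal.ofList xs) ≅
        ModuleCat.of A (A ⧸ (Ideal.ofList xs • (⊤ : Submodule A A))) :=
      (Submodule.quotEquivOfEq _ _ hI2.symm).toModuleIso
    exact ⟨Groth.Agent.H2.ExtReg.extCongrLeft e0 (ModuleCat.of A M) (n + 1) ≪≫ₗ e⟩

end Groth.Agent.S5666
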