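import Groth.Statements.S5671
import Groth.Agent.Lib.Helper6.Ischebeck
import Groth.Agent.Lib.Helper1.AusBuchReg
import Groth.Agent.Lib.Helper6.LCTop

set_option autoImplicit false
universe u
open CategoryTheory
open Dual

namespace Groth.Agent.S5671

/-- First assertion, in the local-algebra form to which its proof reduces it: let `A` be a regular local
ring of dimension `n`, `p ≥ 0`, and `M` a finite `A`-module whose support has dimension at most `n -
p`. Then `Ext^i_A(M, A) = 0` for every `i < p`. (The geometric statement: on a nonsingular
`n`-dimensional variety the sheaves `Ext^i(F, L)` vanish for `i < p` when `F` is coherent with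
support of dimension `≤ n - p` and `L` is locally free.) -/
theorem result (A : Type u) [CommRing A] [IsRegularLocalRing A] (M : Type u) [AddCommGroup M] [Module A M] [Module.Finite A M] (p : ℕ) (hdim : Module.supportDim A M + p ≤ ringKrullDim A) (i : ℕ) (hi : i < p) : Subsingleton (Abelian.Ext (ModuleCat.of A M) (ModuleCat.of A A) i) := by
  haveI : IsNoetherianRing A := inferInstance
  by_cases hsub : Subsingleton M
  · haveI := hsub
    exact Groth.Agent.H6.Isch.ext_subsingleton_of_subsingleton (ModuleCat.of A M) (ModuleCat.of A A) i
  rw [not_subsingleton_iff_nontrivial] at hsub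
  haveI := hsub
  obtain ⟨n, hn⟩ := Groth.Agent.H6.LC.exists_supportDim_eq (R := A) A
  rw [Module.supportDim_self_eq_ringKrullDim] at hn
  obtain ⟨r, hr⟩ := Groth.Agent.H6.LC.exists_supportDim_eq (R := A) M
  have hd := Groth.Agent.H1.AB.depth_eq_of_isRegularLocalRing (R := A) n hn
  rw [hn, hr] at hdim
  have hle : r + p ≤ n := by exact_mod_cast hdim
  exact Groth.Agent.H6.Isch.ischebeck A n hd r M hr.le i (by omega)

end Groth.Agent.S5671
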