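import Groth.Statements.S5674
import Groth.Agent.Lib.Lead.XS.CodimExt2

set_option autoImplicit false
universe u
open CategoryTheory CategoryTheory.Limits AlgebraicGeometry
open ProjDual

namespace Groth.Agent.S5674

/-- Let `k` be an algebraically closed field, `X` a nonsingular algebraic set of dimension `n` over `k`
— here: a quasi-compact `k`-scheme smooth of relative dimension `n` over `k` — `F` a coherent
`O_X`-module whose support has dimension at most `n - p`, and `L` a finite locally free
`O_X`-module. Then the (global) groups `Ext^i_{O_X}(F, L)` vanish for `i < p`. (All components of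
`X` have dimension `n`; for a nonsingular algebraic set with a component of smaller dimension the
conclusion fails. The Ext instance on the category of `O_X`-modules is taken as a hypothesis; it
holds since that category is Grothendieck abelian.) -/
theorem result (k : Type u) [Field k] [IsAlgClosed k] (n : ℕ) (X : Scheme.{u}) [X.Over (Spec (CommRingCat.of k))] [SmoothOfRelativeDimension n (X ↘ Spec (CommRingCat.of k))] [CompactSpace X] [HasExt.{u} X.Modules] (F : X.Modules) (hF : Coh.IsCoh F) (L : X.Modules) (hL : FlatMod.IsFinLocFree L) (p : ℕ) (hsupp : topologicalKrullDim ↥(CohB1.support F) + p ≤ n) (i : ℕ) (hi : i < p) : Subsingleton (Abelian.Ext F L i) := by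
  haveI : HasInjectiveResolutions (ModSite.Mod X.sheaf) := Groth.Agent.LD.QCQS.hasInjRes X
  haveI : Smooth (X ↘ Spec (CommRingCat.of k)) := SmoothOfRelativeDimension.smooth n _
  have hloc : ∀ x : X, FlatMor.localDim X x = (n : WithBot ℕ∞) := fun x =>
    (Groth.Agent.H1.DimFormula.fibreDimAt_eq_localDim_of_field
      (X ↘ Spec (CommRingCat.of k)) x).symm.trans
      (Groth.Agent.H1.SmoothDim.fibreDimAt_of_smoothOfRelativeDimension n
        (X ↘ Spec (CommRingCat.of k)) x)
  have hCM : ∀ x : X, LocCoh.IsCohenMacaulayLocalRing (X.presheaf.stalk x) := fun x => by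
    haveI : IsRegularLocalRing (X.presheaf.stalk x) :=
      Groth.Agent.H1.SmoothDepth.isRegularLocalRing_stalk_of_smooth k
        (X ↘ Spec (CommRingCat.of k)) x
    exact Groth.Agent.H1.CMFlat.isCohenMacaulayLocalRing_of_isRegularLocalRing _
  apply Groth.Agent.LD.XS.CodimExt.subsingleton_ext_of_isZero_extSh F L i
  intro q hq
  exact Groth.Agent.LD.XS.CodimExt.isZero_extSh_of_codim (X ↘ Spec (CommRingCat.of k)) n hloc hCM
    F hF L hL p hsupp q (by omega)

end Groth.Agent.S5674
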