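import Groth.Statements.S5754
import Mathlib.RingTheory.Ideal.AssociatedPrime.Localization
import Mathlib.Algebra.Module.Torsion.Basic
open Pointwise

set_option autoImplicit false
universe u
open EGA41

namespace Groth.Agent.S5754

/-- Let A be a Noetherian ring, M a finitely generated A-module and t an element of A which is
M-regular. For every associated prime p of M, every prime ideal minimal among those containing p +
tA is an associated prime of M/tM. -/
theorem result (A : Type u) [CommRing A]
    [IsNoetherianRing A] (M : Type u) [AddCommGroup M] [Module A M] [Module.Finite A M] (t : A)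
    (ht : IsSMulRegular M t) (p : Ideal A) (hp : p ∈ associatedPrimes A M) (q : Ideal A)
    (hq : q ∈ (p ⊔ Ideal.span {t}).minimalPrimes) : q ∈ associatedPrimes A (QuotSMulTop t M) := by
  rw [AssociatedPrimes.mem_iff, isAssociatedPrime_iff] at hp
  obtain ⟨hpp, x, hx⟩ := hp
  -- the submodule of elements killed by `p`
  let N : Submodule A M := Submodule.torsionBySet A M (p : Set A)
  have hxN : x ∈ N := by
    rw [Submodule.mem_torsionBySet_iff]
    rintro ⟨a, ha⟩
    have : a ∈ Submodule.colon (⊥ : Submodule A M) {x} := hx ▸ ha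
    simpa [Submodule.mem_colon_singleton] using this
  have hannN : Module.annihilator A N = p := by
    apply le_antisymm
    · intro a ha
      rw [Module.mem_annihilator] at ha
      have h1 := ha ⟨x, hxN⟩
      rw [hx, Submodule.mem_colon_singleton, Submodule.mem_bot]
      simpa using congrArg Subtype.val h1
    · intro a ha
      rw [Module.mem_annihilator]
      rintro ⟨n, hn⟩
      rw [Submodule.mem_torsionBySet_iff] at hn
      ext
      simpa using hn ⟨a, ha⟩
  -- the map N → M/tM
  let φ : N →ₗ[A] QuotSMulTop t M := (Submodule.mkQ _).comp N.subtype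
  have hker : (t • (⊤ : Submodule A N)) = LinearMap.ker φ := by
    ext ⟨n, hn⟩
    rw [LinearMap.mem_ker]
    simp only [φ, LinearMap.comp_apply, Submodule.subtype_apply, Submodule.mkQ_apply,
      Submodule.Quotient.mk_eq_zero]
    rw [Submodule.mem_smul_pointwise_iff_exists, Submodule.mem_smul_pointwise_iff_exists]
    constructor
    · rintro ⟨⟨m, hm⟩, -, h⟩
      exact ⟨m, trivial, by simpa using congrArg Subtype.val h⟩
    · rintro ⟨m, -, h⟩
      have hmN : m ∈ N := by
        rw [Submodule.mem_torsionBySet_iff] at hn ⊢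
        rintro ⟨a, ha⟩
        apply ht
        have := hn ⟨a, ha⟩
        simp only [smul_zero]
        rw [smul_comm, h]
        exact this
      exact ⟨⟨m, hmN⟩, trivial, by ext; simpa using h⟩
  let ψ : QuotSMulTop t N →ₗ[A] QuotSMulTop t M :=
    Submodule.liftQ _ φ hker.le
  have hψ : Function.Injective ψ := by
    rw [← LinearMap.ker_eq_bot]
    exact Submodule.ker_liftQ_eq_bot _ _ _ hker.ge
  apply associatedPrimes.subset_of_injective hψ
  apply Module.associatedPrimes.minimalPrimes_annihilator_subset_associatedPrimes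
  -- compare minimal primes
  have hsupp : ∀ r : PrimeSpectrum A, Module.annihilator A (QuotSMulTop t N) ≤ r.asIdeal ↔
      p ⊔ Ideal.span {t} ≤ r.asIdeal := by
    intro r
    have h1 : r ∈ Module.support A (QuotSMulTop t N) ↔
        Module.annihilator A (QuotSMulTop t N) ≤ r.asIdeal := by
      rw [Module.support_eq_zeroLocus]; rfl
    rw [← h1, Module.support_quotSMulTop, Module.support_eq_zeroLocus, hannN]
    simp only [Set.mem_inter_iff, PrimeSpectrum.mem_zeroLocus, SetLike.coe_subset_coe,
      Set.singleton_subset_iff, SetLike.mem_coe, sup_le_iff, Ideal.span_singleton_le_iff_mem]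
  unfold Ideal.minimalPrimes at hq ⊢
  have : ∀ r : Ideal A, (r.IsPrime ∧ Module.annihilator A (QuotSMulTop t N) ≤ r) ↔
      (r.IsPrime ∧ p ⊔ Ideal.span {t} ≤ r) := by
    intro r
    constructor
    · rintro ⟨hr, h⟩; exact ⟨hr, (hsupp ⟨r, hr⟩).mp h⟩
    · rintro ⟨hr, h⟩; exact ⟨hr, (hsupp ⟨r, hr⟩).mpr h⟩
  have h2 : (fun r : Ideal A => r.IsPrime ∧ Module.annihilator A (QuotSMulTop t N) ≤ r) =
      (fun r : Ideal A => r.IsPrime ∧ p ⊔ Ideal.span {t} ≤ r) := funext fun r => propext (this r)
  show q ∈ {r | Minimal (fun r : Ideal A => r.IsPrime ∧ Module.annihilator A (QuotSMulTop t N) ≤ r) r}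
  rw [h2]
  exact hq

end Groth.Agent.S5754
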