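import Groth.Statements.S5755
import Groth.Agent.Lib.Helper3.DepthAux

set_option autoImplicit false
universe u
open EGA41

namespace Groth.Agent.S5755

/-- A reduced Noetherian local ring A has depth 0 if and only if A is a field. -/
theorem result (A : Type u) [CommRing A] [IsLocalRing A]
    [IsNoetherianRing A] [IsReduced A] : LocCoh.depth A A = 0 ↔ IsField A := by
  rw [Groth.Agent.H3.DepthAux.depth_eq_zero_iff_mem_associatedPrimes A A,
    AssociatedPrimes.mem_iff, isAssociatedPrime_iff]
  constructor
  · rintro ⟨_, x, hx⟩
    rw [IsLocalRing.isField_iff_maximalIdeal_eq]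
    by_cases hxu : IsUnit x
    · rw [hx, eq_bot_iff]
      intro a ha
      rw [Submodule.mem_colon_singleton, Submodule.mem_bot, smul_eq_mul] at ha
      rw [Submodule.mem_bot]
      exact (hxu.mul_left_eq_zero).mp ha
    · exfalso
      have hxm : x ∈ IsLocalRing.maximalIdeal A := (IsLocalRing.mem_maximalIdeal x).mpr hxu
      rw [hx, Submodule.mem_colon_singleton, Submodule.mem_bot, smul_eq_mul] at hxm
      have hx0 : x = 0 := by
        have : IsNilpotent x := ⟨2, by rw [pow_two]; exact hxm⟩
        exact this.eq_zero
      subst hx0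
      have : (1 : A) ∈ Submodule.colon (⊥ : Submodule A A) {(0 : A)} := by
        rw [Submodule.mem_colon_singleton]; simp
      rw [← hx] at this
      exact (IsLocalRing.maximalIdeal.isMaximal A).ne_top ((Ideal.eq_top_iff_one _).mpr this)
  · intro hf
    refine ⟨inferInstance, 1, ?_⟩
    rw [IsLocalRing.isField_iff_maximalIdeal_eq.mp hf]
    ext a
    rw [Submodule.mem_colon_singleton, Submodule.mem_bot, smul_eq_mul, mul_one, Submodule.mem_bot]

end Groth.Agent.S5755
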