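import Groth.Statements.S5766
import Groth.Agent.Lib.Helper3.DimAux
import Mathlib.RingTheory.Ideal.Over
import Mathlib.RingTheory.Noetherian.Basic
import Mathlib.RingTheory.IntegralClosure.IsIntegralClosure.Basic

set_option autoImplicit false
universe u
open EGA41

namespace Groth.Agent.S5766

/-- Let A be a Noetherian ring, ρ : A → B a ring homomorphism and M a B-module which is finitely
generated as an A-module via ρ. Then the dimension of M as an A-module equals its dimension as a
B-module. -/
theorem result (A B : Type u) [CommRing A] [CommRing B] [IsNoetherianRing A]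
    [Algebra A B] (M : Type u) [AddCommGroup M] [Module B M] [Module A M] [IsScalarTower A B M]
    [Module.Finite A M] : Module.supportDim A M = Module.supportDim B M := by
  have : Module.Finite B M := Module.Finite.of_restrictScalars_finite A B M
  rw [Module.supportDim_eq_ringKrullDim_quotient_annihilator,
    Module.supportDim_eq_ringKrullDim_quotient_annihilator]
  set I := Module.annihilator A M with hI
  set J := Module.annihilator B M with hJ
  have hlies : J.LiesOver I := by
    constructor
    ext a
    rw [Ideal.mem_comap, hI, hJ, Module.mem_annihilator, Module.mem_annihilator]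
    simp only [algebraMap_smul]
  have : SMulCommClass B A M := IsScalarTower.to_smulCommClass'
  let ψ : B →ₐ[A] Module.End A M := Algebra.lsmul A A M
  have hψ : ∀ b ∈ J, ψ b = 0 := by
    intro b hb
    ext m
    exact Module.mem_annihilator.mp hb m
  let φ : (B ⧸ J) →ₐ[A] Module.End A M := Ideal.Quotient.liftₐ J ψ hψ
  have hφ : Function.Injective φ := by
    rw [injective_iff_map_eq_zero]
    intro x hx
    obtain ⟨b, rfl⟩ := Ideal.Quotient.mk_surjective x
    rw [Ideal.Quotient.eq_zero_iff_mem, hJ, Module.mem_annihilator]
    intro m
    have : φ (Ideal.Quotient.mk J b) m = b • m := rfl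
    rw [← this, hx]; rfl
  have : IsNoetherian A M := isNoetherian_of_isNoetherianRing_of_finite A M
  have hfin : Module.Finite A (B ⧸ J) := Module.Finite.of_injective φ.toLinearMap hφ
  have hint : Algebra.IsIntegral A (B ⧸ J) := Algebra.IsIntegral.of_finite A (B ⧸ J)
  have hint' : Algebra.IsIntegral (A ⧸ I) (B ⧸ J) := Algebra.IsIntegral.tower_top A
  exact (Groth.Agent.H3.DimAux.dim_eq_of_integral_injective (A ⧸ I) (B ⧸ J) (FaithfulSMul.algebraMap_injective _ _)).symm

end Groth.Agent.S5766
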