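import Groth.Statements.S5771
import Groth.Agent.Lib.Helper1.FlatDim

set_option autoImplicit false
universe u
open EGA41

namespace Groth.Agent.S5771


/-- Let φ : A → B be a local homomorphism of Noetherian local rings, m the maximal ideal of A, and
suppose mB is an ideal of definition of B (equivalently dim(B/mB) = 0). Then dim(B) ≤ dim(A); if
moreover A is an integral domain and dim(A) = dim(B), then φ is injective. -/
theorem result (A B : Type u) [CommRing A] [CommRing B]
    [IsLocalRing A] [IsLocalRing B] [IsNoetherianRing A] [IsNoetherianRing B] [Algebra A B]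
    [IsLocalHom (algebraMap A B)]
    (hdef : ringKrullDim (B ⧸ (IsLocalRing.maximalIdeal A).map (algebraMap A B)) = 0) :
    ringKrullDim B ≤ ringKrullDim A ∧
      (IsDomain A → ringKrullDim A = ringKrullDim B → Function.Injective (algebraMap A B)) := by
  have hle : ringKrullDim B ≤ ringKrullDim A := by
    have := Groth.Agent.H1.FlatDim.ringKrullDim_le_add_fiber A B
    rwa [hdef, add_zero] at this
  refine ⟨hle, ?_⟩
  intro hdom heq
  rw [injective_iff_map_eq_zero]
  intro x hx
  by_contra hx0
  -- factor through A/(x)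
  have hxm : x ∈ IsLocalRing.maximalIdeal A := by
    rw [IsLocalRing.mem_maximalIdeal, mem_nonunits_iff]
    intro hu
    have := hu.map (algebraMap A B)
    rw [hx] at this
    exact not_isUnit_zero this
  have hne : Ideal.span {x} ≠ ⊤ := by
    intro h
    have : x ∈ IsLocalRing.maximalIdeal A := hxm
    have h2 : Ideal.span {x} ≤ IsLocalRing.maximalIdeal A :=
      (Ideal.span_singleton_le_iff_mem _).mpr hxm
    rw [h] at h2
    exact (IsLocalRing.maximalIdeal.isMaximal A).ne_top (top_le_iff.mp h2)
  haveI : Nontrivial (A ⧸ Ideal.span {x}) := Ideal.Quotient.nontrivial_iff.mpr hne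
  haveI : IsLocalRing (A ⧸ Ideal.span {x}) :=
    IsLocalRing.of_surjective' (Ideal.Quotient.mk _) Ideal.Quotient.mk_surjective
  let g : A ⧸ Ideal.span {x} →+* B := Ideal.Quotient.lift (Ideal.span {x}) (algebraMap A B)
    (by
      intro a ha
      obtain ⟨c, rfl⟩ := Ideal.mem_span_singleton'.mp ha
      rw [map_mul, hx, mul_zero])
  letI : Algebra (A ⧸ Ideal.span {x}) B := g.toAlgebra
  have hg : algebraMap (A ⧸ Ideal.span {x}) B = g := rfl
  haveI : IsLocalHom (algebraMap (A ⧸ Ideal.span {x}) B) := by
    constructor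
    intro a ha
    obtain ⟨a', rfl⟩ := Ideal.Quotient.mk_surjective a
    have h1 : IsUnit (algebraMap A B a') := by
      rw [hg] at ha
      simpa [g] using ha
    exact (isUnit_of_map_unit (algebraMap A B) a' h1).map _
  have hmapeq : (IsLocalRing.maximalIdeal (A ⧸ Ideal.span {x})).map
      (algebraMap (A ⧸ Ideal.span {x}) B) = (IsLocalRing.maximalIdeal A).map (algebraMap A B) := by
    have hsurj : Function.Surjective (Ideal.Quotient.mk (Ideal.span {x})) :=
      Ideal.Quotient.mk_surjective
    haveI : IsLocalHom (Ideal.Quotient.mk (Ideal.span {x})) := IsLocalHom.of_surjective _ hsurj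
    have h1 : IsLocalRing.maximalIdeal (A ⧸ Ideal.span {x}) =
        (IsLocalRing.maximalIdeal A).map (Ideal.Quotient.mk (Ideal.span {x})) := by
      rw [← IsLocalRing.maximalIdeal_comap (Ideal.Quotient.mk (Ideal.span {x})),
        Ideal.map_comap_of_surjective _ hsurj]
    rw [h1, Ideal.map_map]
    congr 1
  have h2 := Groth.Agent.H1.FlatDim.ringKrullDim_le_add_fiber (A ⧸ Ideal.span {x}) B
  rw [hmapeq, hdef, add_zero] at h2
  have h3 := ringKrullDim_quotient_succ_le_of_nonZeroDivisor
    (mem_nonZeroDivisors_of_ne_zero hx0)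
  have h4 : ringKrullDim B + 1 ≤ ringKrullDim B := by
    calc ringKrullDim B + 1 ≤ ringKrullDim (A ⧸ Ideal.span {x}) + 1 := by gcongr
      _ ≤ ringKrullDim A := h3
      _ = ringKrullDim B := heq
  haveI : FiniteRingKrullDim B := inferInstance
  obtain ⟨hb, ht⟩ := finiteRingKrullDim_iff_ne_bot_and_top.mp (inferInstance : FiniteRingKrullDim B)
  obtain ⟨n, hn⟩ := WithBot.ne_bot_iff_exists.mp hb
  rw [← hn] at h4 ht
  have h5 : ((n + 1 : ℕ∞) : WithBot ℕ∞) ≤ (n : WithBot ℕ∞) := by exact_mod_cast h4
  rw [WithBot.coe_le_coe] at h5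
  have hnt : n ≠ ⊤ := by
    intro h
    apply ht
    rw [h]
    rfl
  obtain ⟨k, rfl⟩ := ENat.ne_top_iff_exists.mp hnt
  have : ((k + 1 : ℕ) : ℕ∞) ≤ (k : ℕ∞) := by exact_mod_cast h5
  have := ENat.natCast_le_natCast.mp this
  omega

end Groth.Agent.S5771
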