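import Groth.Statements.S5772
import Mathlib.RingTheory.Filtration
import Mathlib.RingTheory.Regular.IsSMulRegular
open Pointwise

set_option autoImplicit false
universe u
open scoped Pointwise
open EGA41

namespace Groth.Agent.S5772

/-- Let A be a Noetherian ring, M a finitely generated A-module and f an element of A. Then f is
M-regular (multiplication by f on M is injective) if and only if f is M-quasi-regular, i.e. the
canonical surjection (M/fM)[T] → gr(M) for the (f)-adic filtration is bijective, which amounts to:
for every k ≥ 0 and x ∈ M, f^k x ∈ f^(k+1) M implies x ∈ fM. -/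
theorem result (A : Type u) [CommRing A] [IsNoetherianRing A] (M : Type u)
    [AddCommGroup M] [Module A M] [Module.Finite A M] (f : A) :
    IsSMulRegular M f ↔
      ∀ (k : ℕ) (x : M), f ^ k • x ∈ f ^ (k + 1) • (⊤ : Submodule A M) → x ∈ f • (⊤ : Submodule A M) := by
  constructor
  · intro hreg k x hx
    rw [Submodule.mem_smul_pointwise_iff_exists] at hx ⊢
    obtain ⟨y, -, hy⟩ := hx
    refine ⟨y, trivial, ?_⟩
    have hk : IsSMulRegular M (f ^ k) := hreg.pow k
    apply hk
    show f ^ k • f • y = f ^ k • x
    rw [← hy, pow_succ, mul_smul]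
  · intro H
    rw [isSMulRegular_iff_right_eq_zero_of_smul]
    intro x hx
    have key : ∀ n : ℕ, ∃ y : M, x = f ^ n • y ∧ f ^ (n + 1) • y = 0 := by
      intro n
      induction n with
      | zero => exact ⟨x, by simp, by simpa using hx⟩
      | succ n ih =>
        obtain ⟨y, hy1, hy2⟩ := ih
        have : y ∈ f • (⊤ : Submodule A M) := by
          apply H (n + 1) y
          rw [hy2]
          exact Submodule.zero_mem _
        rw [Submodule.mem_smul_pointwise_iff_exists] at this
        obtain ⟨z, -, rfl⟩ := this
        refine ⟨z, ?_, ?_⟩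
        · rw [hy1, pow_succ, mul_smul]
        · rw [pow_succ, mul_smul]; exact hy2
    have hmem : x ∈ (⨅ i : ℕ, (Ideal.span {f}) ^ i • ⊤ : Submodule A M) := by
      rw [Submodule.mem_iInf]
      intro i
      obtain ⟨y, hy, -⟩ := key i
      rw [Ideal.span_singleton_pow, Submodule.ideal_span_singleton_smul,
        Submodule.mem_smul_pointwise_iff_exists]
      exact ⟨y, trivial, hy.symm⟩
    rw [Ideal.mem_iInf_smul_pow_eq_bot_iff] at hmem
    obtain ⟨⟨r, hr⟩, hrx⟩ := hmem
    rw [Ideal.mem_span_singleton'] at hr
    obtain ⟨g, rfl⟩ := hr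
    rw [← hrx]
    show (g * f) • x = 0
    rw [mul_smul, hx, smul_zero]

end Groth.Agent.S5772
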