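import Groth.Statements.S5773
import Groth.Agent.Lib.Helper1.FlatRegQuot

set_option autoImplicit false
universe u
open EGA41

namespace Groth.Agent.S5773

namespace Groth.Agent.S5773

theorem ofList_take_succ_smul {B : Type u} [CommRing B] (M : Type u) [AddCommGroup M] [Module B M]
    (fs : List B) (i : ℕ) (hi : i < fs.length) :
    (Ideal.ofList (fs.take (i + 1)) • ⊤ : Submodule B M) =
      (Ideal.ofList (fs.take i) • ⊤ : Submodule B M) ⊔ (Ideal.span {fs[i]} • ⊤ : Submodule B M) := by
  rw [List.take_succ_eq_append_getElem hi, Ideal.ofList_append, Ideal.ofList_singleton,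
    Submodule.sup_smul]

end Groth.Agent.S5773

/-- Let A → B be a local homomorphism of Noetherian local rings, M a finitely generated B-module and
f_1, ..., f_n elements of the maximal ideal of B forming an M-regular sequence. If the quotient
M/(f_1 M + ... + f_n M) is flat over A, then all the quotients M/(f_1 M + ... + f_i M) for 0 ≤ i ≤ n
(in particular M) are flat over A. -/
theorem result (A B : Type u) [CommRing A] [CommRing B]
    [IsLocalRing A] [IsLocalRing B] [IsNoetherianRing A] [IsNoetherianRing B] [Algebra A B]
    [IsLocalHom (algebraMap A B)] (M : Type u) [AddCommGroup M] [Module B M] [Module A M]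
    [IsScalarTower A B M] [Module.Finite B M] (fs : List B) (hfs : ∀ f ∈ fs, f ∈ IsLocalRing.maximalIdeal B)
    (hreg : RingTheory.Sequence.IsWeaklyRegular M fs)
    (hflat : Module.Flat A (M ⧸ (Ideal.ofList fs • (⊤ : Submodule B M)))) (i : ℕ) (hi : i ≤ fs.length) :
    Module.Flat A (M ⧸ (Ideal.ofList (fs.take i) • (⊤ : Submodule B M))) := by
  -- downward induction
  have key : ∀ j : ℕ, j ≤ fs.length →
      Module.Flat A (M ⧸ (Ideal.ofList (fs.take (fs.length - j)) • (⊤ : Submodule B M))) := by
    intro j
    induction j with
    | zero =>
      intro _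
      rw [Nat.sub_zero, List.take_length]
      exact hflat
    | succ j ih =>
      intro hj
      have hj' : j ≤ fs.length := by omega
      have hP := ih hj'
      set k := fs.length - (j + 1) with hk
      have hk1 : fs.length - j = k + 1 := by omega
      have hklt : k < fs.length := by omega
      rw [hk1] at hP
      have hregk := hreg.regular_mod_prev k hklt
      have hle : (Ideal.ofList (fs.take k) • ⊤ : Submodule B M) ≤
          (Ideal.ofList (fs.take (k + 1)) • ⊤ : Submodule B M) := by
        rw [Groth.Agent.S5773.ofList_take_succ_smul M fs k hklt]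
        exact le_sup_left
      let π : (M ⧸ (Ideal.ofList (fs.take k) • ⊤ : Submodule B M)) →ₗ[B]
          (M ⧸ (Ideal.ofList (fs.take (k + 1)) • ⊤ : Submodule B M)) :=
        Submodule.mapQ _ _ LinearMap.id hle
      have hπ : Function.Surjective π := by
        intro y
        obtain ⟨x, rfl⟩ := Submodule.Quotient.mk_surjective _ y
        exact ⟨Submodule.Quotient.mk x, rfl⟩
      have hker : ∀ x, π x = 0 ↔ ∃ y, x = fs[k] • y := by
        intro x
        obtain ⟨x, rfl⟩ := Submodule.Quotient.mk_surjective _ x
        have h1 : π (Submodule.Quotient.mk x) = Submodule.Quotient.mk x := rfl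
        rw [h1, Submodule.Quotient.mk_eq_zero, Groth.Agent.S5773.ofList_take_succ_smul M fs k hklt,
          Submodule.mem_sup]
        constructor
        · rintro ⟨s, hs, t, ht, rfl⟩
          rw [Submodule.ideal_span_singleton_smul] at ht
          obtain ⟨y, -, rfl⟩ := ht
          refine ⟨Submodule.Quotient.mk y, ?_⟩
          rw [← Submodule.Quotient.mk_smul, Submodule.Quotient.eq]
          simpa using hs
        · rintro ⟨y, hy⟩
          obtain ⟨y, rfl⟩ := Submodule.Quotient.mk_surjective _ y
          rw [← Submodule.Quotient.mk_smul, Submodule.Quotient.eq] at hy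
          refine ⟨x - fs[k] • y, hy, fs[k] • y, ?_, by abel⟩
          rw [Submodule.ideal_span_singleton_smul]
          exact ⟨y, Submodule.mem_top, rfl⟩
      exact Groth.Agent.H1.FlatRegQuot.flat_of_regular_of_flat_quotient (A := A) (B := B) fs[k]
        (hfs _ (List.getElem_mem hklt)) hregk π hπ hker
  have := key (fs.length - i) (by omega)
  rwa [Nat.sub_sub_self hi] at this

end Groth.Agent.S5773
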