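import Groth.Statements.S5774
import Groth.Agent.Lib.Helper6.FlatDepth

set_option autoImplicit false
universe u
open EGA41

namespace Groth.Agent.S5774

namespace Groth.Agent.S5774

open RingTheory.Sequence Groth.Agent.H6.FlatDepth

theorem main {A B : Type u} [CommRing A] [CommRing B] [IsLocalRing A] [IsLocalRing B]
    [IsNoetherianRing B] [Algebra A B] [IsLocalHom (algebraMap A B)] (fs : List B) :
    ∀ (M : Type u) [AddCommGroup M] [Module B M] [Module A M] [IsScalarTower A B M]
      [Module.Finite B M] [Module.Flat A M],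
      IsWeaklyRegular (M ⧸ ((IsLocalRing.maximalIdeal A).map (algebraMap A B) • (⊤ : Submodule B M))) fs →
      IsWeaklyRegular M fs ∧
        ∀ i ≤ fs.length, Module.Flat A (M ⧸ (Ideal.ofList (fs.take i) • (⊤ : Submodule B M))) := by
  induction fs with
  | nil =>
    intro M _ _ _ _ _ _ _
    refine ⟨IsWeaklyRegular.nil B M, ?_⟩
    intro i _
    have hbot : (Ideal.ofList (([] : List B).take i) • (⊤ : Submodule B M)) = ⊥ := by
      rw [List.take_nil, Ideal.ofList_nil, Submodule.bot_smul]
    let e : (M ⧸ (Ideal.ofList (([] : List B).take i) • (⊤ : Submodule B M))) ≃ₗ[B] M :=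
      Submodule.quotEquivOfEqBot _ hbot
    exact Module.Flat.of_linearEquiv (e.restrictScalars A)
  | cons y rs ih =>
    intro M _ _ _ _ _ _ h
    rw [isWeaklyRegular_cons_iff] at h
    obtain ⟨hy, hrs⟩ := h
    obtain ⟨hreg, hflat, -⟩ := regular_of_regular_fibre (R := A) (S := B) M y hy
    haveI := hflat
    obtain ⟨e⟩ := nonempty_fib_quotSMulTop_equiv (R := A) (S := B) M y
    obtain ⟨h1, h2⟩ := ih (QuotSMulTop y M) ((e.isWeaklyRegular_congr rs).mp hrs)
    refine ⟨(isWeaklyRegular_cons_iff M y rs).mpr ⟨hreg, h1⟩, ?_⟩
    intro i hi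
    rcases i with _ | j
    · have hbot : (Ideal.ofList ((y :: rs).take 0) • (⊤ : Submodule B M)) = ⊥ := by
        rw [List.take_zero, Ideal.ofList_nil, Submodule.bot_smul]
      let e' : (M ⧸ (Ideal.ofList ((y :: rs).take 0) • (⊤ : Submodule B M))) ≃ₗ[B] M :=
        Submodule.quotEquivOfEqBot _ hbot
      exact Module.Flat.of_linearEquiv (e'.restrictScalars A)
    · have hj : j ≤ rs.length := by simpa using hi
      have := h2 j hj
      rw [List.take_succ_cons]
      let e' := Submodule.quotOfListConsSMulTopEquivQuotSMulTopInner M y (rs.take j)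
      exact Module.Flat.of_linearEquiv (e'.restrictScalars A)

end Groth.Agent.S5774

/-- Let A → B be a local homomorphism of Noetherian local rings, m the maximal ideal of A and k = A/m, M
a finitely generated B-module which is flat over A, and f_1, ..., f_n elements of B whose images g_i
in B ⊗_A k form an (M ⊗_A k)-regular sequence. Then (f_i) is an M-regular sequence and the quotients
M/(f_1 M + ... + f_i M), 0 ≤ i ≤ n, are flat over A. (The f_i are not required to lie in the maximal
ideal of B.) -/
theorem result (A B : Type u) [CommRing A] [CommRing B]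
    [IsLocalRing A] [IsLocalRing B] [IsNoetherianRing A] [IsNoetherianRing B] [Algebra A B]
    [IsLocalHom (algebraMap A B)] (M : Type u) [AddCommGroup M] [Module B M] [Module A M]
    [IsScalarTower A B M] [Module.Finite B M] [Module.Flat A M] (fs : List B)
    (hreg : RingTheory.Sequence.IsWeaklyRegular
      (M ⧸ ((IsLocalRing.maximalIdeal A).map (algebraMap A B) • (⊤ : Submodule B M))) fs) :
    RingTheory.Sequence.IsWeaklyRegular M fs ∧
      ∀ i ≤ fs.length, Module.Flat A (M ⧸ (Ideal.ofList (fs.take i) • (⊤ : Submodule B M))) := by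
  exact Groth.Agent.S5774.main fs M hreg

end Groth.Agent.S5774
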