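import Groth.Statements.S5775
import Groth.Agent.S5774

set_option autoImplicit false
universe u
open EGA41

namespace Groth.Agent.S5775

namespace Groth.Agent.S5775

open TensorProduct

/-- If `M/N` is flat then `IM ∩ N = IN`. -/
theorem mem_smul_top_of_flat_quotient {A : Type u} [CommRing A] {M : Type u} [AddCommGroup M]
    [Module A M] (N : Submodule A M) [Module.Flat A (M ⧸ N)] (I : Ideal A) (z : N)
    (hz : (z : M) ∈ I • (⊤ : Submodule A M)) : z ∈ I • (⊤ : Submodule A N) := by
  have hinj : Function.Injective (N.subtype.lTensor (A ⧸ I)) :=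
    LinearMap.lTensor_injective_of_exact_of_flat N.mkQ (Submodule.mkQ_surjective N) N.subtype
      Subtype.val_injective (LinearMap.exact_subtype_mkQ N) (A ⧸ I)
  have h1 : N.subtype.lTensor (A ⧸ I) ((1 : A ⧸ I) ⊗ₜ[A] z) = 0 := by
    rw [LinearMap.lTensor_tmul]
    apply (TensorProduct.quotTensorEquivQuotSMul M I).injective
    rw [TensorProduct.quotTensorEquivQuotSMul_mk_one_tmul, map_zero, Submodule.Quotient.mk_eq_zero]
    exact hz
  have h2 : ((1 : A ⧸ I) ⊗ₜ[A] z : (A ⧸ I) ⊗[A] N) = 0 := hinj (by rw [h1, map_zero])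
  have h3 := congrArg (TensorProduct.quotTensorEquivQuotSMul N I) h2
  rw [TensorProduct.quotTensorEquivQuotSMul_mk_one_tmul, map_zero,
    Submodule.Quotient.mk_eq_zero] at h3
  exact h3

end Groth.Agent.S5775

/-- Let A → B be a local homomorphism of Noetherian local rings, m the maximal ideal of A, M a finitely
generated B-module flat over A and R a B-submodule of M such that M/R is flat over A. Let f_1, ...,
f_n be elements of the maximal ideal of B such that (i) f_i M ⊆ R for all i, (ii) the images of the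
f_i form an (M/mM)-regular sequence, and (iii) the submodule f_1 (M/mM) + ... + f_n (M/mM) is the
image of R in M/mM. Then (f_i) is an M-regular sequence and R = f_1 M + ... + f_n M. -/
theorem result (A B : Type u) [CommRing A] [CommRing B] [IsLocalRing A]
    [IsLocalRing B] [IsNoetherianRing A] [IsNoetherianRing B] [Algebra A B] [IsLocalHom (algebraMap A B)]
    (M : Type u) [AddCommGroup M] [Module B M] [Module A M] [IsScalarTower A B M] [Module.Finite B M]
    [Module.Flat A M] (R : Submodule B M) (hR : Module.Flat A (M ⧸ R)) (fs : List B)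
    (hfs : ∀ f ∈ fs, f ∈ IsLocalRing.maximalIdeal B) (h1 : Ideal.ofList fs • (⊤ : Submodule B M) ≤ R)
    (h2 : RingTheory.Sequence.IsWeaklyRegular
      (M ⧸ ((IsLocalRing.maximalIdeal A).map (algebraMap A B) • (⊤ : Submodule B M))) fs)
    (h3 : Ideal.ofList fs • (⊤ : Submodule B
        (M ⧸ ((IsLocalRing.maximalIdeal A).map (algebraMap A B) • (⊤ : Submodule B M)))) =
      R.map ((IsLocalRing.maximalIdeal A).map (algebraMap A B) • (⊤ : Submodule B M)).mkQ) :
    RingTheory.Sequence.IsWeaklyRegular M fs ∧ R = Ideal.ofList fs • (⊤ : Submodule B M) := by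
  refine ⟨(Groth.Agent.S5774.Groth.Agent.S5774.main fs M h2).1, le_antisymm ?_ h1⟩
  set mB := (IsLocalRing.maximalIdeal A).map (algebraMap A B) with hmB
  set R₀ : Submodule B M := Ideal.ofList fs • (⊤ : Submodule B M) with hR₀
  -- `R ≤ R₀ ⊔ mB M`
  have hle1 : R ≤ R₀ ⊔ (mB • (⊤ : Submodule B M)) := by
    have h4 : R₀.map (mB • (⊤ : Submodule B M)).mkQ = R.map (mB • (⊤ : Submodule B M)).mkQ := by
      rw [← h3, hR₀, Submodule.map_smul'', Submodule.map_top, Submodule.range_mkQ]
    have h5 := congrArg (Submodule.comap (mB • (⊤ : Submodule B M)).mkQ) h4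
    rw [Submodule.comap_map_eq, Submodule.comap_map_eq, Submodule.ker_mkQ] at h5
    calc R ≤ R ⊔ (mB • (⊤ : Submodule B M)) := le_sup_left
      _ = R₀ ⊔ (mB • (⊤ : Submodule B M)) := h5.symm
  -- `R ≤ R₀ ⊔ mB R`
  have hle2 : R ≤ R₀ ⊔ mB • R := by
    intro r hr
    obtain ⟨r₀, hr₀, z, hz, rfl⟩ := Submodule.mem_sup.mp (hle1 hr)
    have hzR : z ∈ R := by
      have := R.sub_mem hr (h1 hr₀)
      simpa using this
    refine Submodule.mem_sup.mpr ⟨r₀, hr₀, z, ?_, rfl⟩
    -- use flatness of `M/R`
    haveI : Module.Flat A (M ⧸ R.restrictScalars A) := hR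
    have hzA : z ∈ (IsLocalRing.maximalIdeal A) • (⊤ : Submodule A M) :=
      (Groth.Agent.H6.FlatDepth.mem_map_smul_top_iff (S := B) M _ z).mp hz
    have h6 := Groth.Agent.S5775.mem_smul_top_of_flat_quotient (R.restrictScalars A)
      (IsLocalRing.maximalIdeal A) ⟨z, hzR⟩ hzA
    -- transport to `mB • R`
    have key : ∀ w : (R.restrictScalars A),
        w ∈ (IsLocalRing.maximalIdeal A) • (⊤ : Submodule A (R.restrictScalars A)) →
        (w : M) ∈ mB • R := by
      intro w hw
      refine Submodule.smul_induction_on hw ?_ ?_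
      · intro a ha n _
        have : ((a • n : (R.restrictScalars A)) : M) = (algebraMap A B a) • (n : M) := by
          rw [algebraMap_smul]
          rfl
        rw [this]
        exact Submodule.smul_mem_smul (Ideal.mem_map_of_mem _ ha) n.2
      · intro x y hx hy
        exact Submodule.add_mem _ hx hy
    exact key ⟨z, hzR⟩ h6
  have hfg : R.FG := IsNoetherian.noetherian R
  have hjac : mB ≤ Ideal.jacobson (⊥ : Ideal B) :=
    Groth.Agent.H1.map_le_jacobson_of_isLocalHom _ (IsLocalRing.maximalIdeal.isMaximal A).ne_top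
  exact Submodule.le_of_le_smul_of_le_jacobson_bot hfg hjac hle2

end Groth.Agent.S5775
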