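import Groth.Statements.S5777
import Groth.Agent.Lib.Helper1.FlatTransfer

set_option autoImplicit false
universe u
open EGA41

namespace Groth.Agent.S5777


/-- Let φ : A → B be a local homomorphism of Noetherian local rings, M a finitely generated B-module and
(f_i)_{1 ≤ i ≤ n} an A-regular sequence of elements of the maximal ideal of A, generating the ideal
J. Then M is flat over A if and only if M/JM is flat over A/J and (f_i) is an M-regular sequence. -/
theorem result (A B : Type u) [CommRing A] [CommRing B]
    [IsLocalRing A] [IsLocalRing B] [IsNoetherianRing A] [IsNoetherianRing B] [Algebra A B]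
    [IsLocalHom (algebraMap A B)] (M : Type u) [AddCommGroup M] [Module B M] [Module A M]
    [IsScalarTower A B M] [Module.Finite B M] (fs : List A) (hfs : ∀ f ∈ fs, f ∈ IsLocalRing.maximalIdeal A)
    (hA : RingTheory.Sequence.IsWeaklyRegular A fs) :
    Module.Flat A M ↔
      Module.Flat (A ⧸ Ideal.ofList fs) (M ⧸ (Ideal.ofList fs • (⊤ : Submodule A M))) ∧
        RingTheory.Sequence.IsWeaklyRegular M fs := by
  have hle : Ideal.ofList fs ≤ IsLocalRing.maximalIdeal A := by
    unfold Ideal.ofList
    rw [Ideal.span_le]
    exact fun f hf => hfs f hf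
  have hne : Ideal.ofList fs ≠ ⊤ := by
    intro h
    rw [h] at hle
    exact (IsLocalRing.maximalIdeal.isMaximal A).ne_top (top_le_iff.mp hle)
  exact Groth.Agent.H1.FlatTransfer.flat_iff_flat_quotient_and_isWeaklyRegular' B fs
    (Groth.Agent.H1.map_le_jacobson_of_isLocalHom _ hne) hA M

end Groth.Agent.S5777
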