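import Groth.Statements.S5780
import Mathlib.RingTheory.Ideal.AssociatedPrime.Finiteness
import Mathlib.RingTheory.Nakayama

set_option autoImplicit false
universe u
open EGA41

namespace Groth.Agent.S5780

/-- Let A be a Noetherian local ring with maximal ideal m. If every element of m which is not in m² is a
zero divisor in A, then there is a nonzero c in A with c m = 0, i.e. m is an associated prime of A. -/
theorem result (A : Type u) [CommRing A]
    [IsLocalRing A] [IsNoetherianRing A]
    (h : ∀ a ∈ IsLocalRing.maximalIdeal A, a ∉ IsLocalRing.maximalIdeal A ^ 2 → ¬ IsSMulRegular A a) :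
    IsLocalRing.maximalIdeal A ∈ associatedPrimes A A := by
  classical
  set m := IsLocalRing.maximalIdeal A with hm
  have hfin : (associatedPrimes A A).Finite := associatedPrimes.finite A A
  let s : Finset (Ideal A) := insert (m ^ 2) hfin.toFinset
  have hsub : (m : Set A) ⊆ ⋃ i ∈ (↑s : Set (Ideal A)), ((id i : Ideal A) : Set A) := by
    intro a ha
    by_cases ha2 : a ∈ m ^ 2
    · refine Set.mem_biUnion (x := m ^ 2) ?_ ha2
      simp [s]
    · have hnr := h a ha ha2
      have : a ∈ {r : A | IsSMulRegular A r}ᶜ := hnr
      rw [← biUnion_associatedPrimes_eq_compl_regular A A] at this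
      obtain ⟨p, hp, hap⟩ := Set.mem_iUnion₂.mp this
      refine Set.mem_biUnion (x := p) ?_ hap
      simp [s, hp]
  rw [Ideal.subset_union_prime (m ^ 2) (m ^ 2)] at hsub
  · obtain ⟨p, hp, hmp⟩ := hsub
    simp only [Finset.mem_insert, Set.Finite.mem_toFinset, s] at hp
    rcases hp with rfl | hp
    · -- m ≤ m^2, so m = ⊥
      have hbot : m = ⊥ := by
        have h1 : m ≤ m • m := by simpa [pow_two] using hmp
        exact Submodule.eq_bot_of_le_smul_of_le_jacobson_bot m m (IsNoetherian.noetherian m) h1
          (IsLocalRing.maximalIdeal_le_jacobson _)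
      rw [AssociatedPrimes.mem_iff, isAssociatedPrime_iff]
      refine ⟨inferInstance, 1, ?_⟩
      rw [hbot]
      ext a
      rw [Submodule.mem_colon_singleton, Submodule.mem_bot, smul_eq_mul, mul_one, Submodule.mem_bot]
    · have hpp : p.IsPrime := (AssociatedPrimes.mem_iff.mp hp).isPrime
      have : m = p := (IsLocalRing.maximalIdeal.isMaximal A).eq_of_le hpp.ne_top hmp
      rw [this]; exact hp
  · intro i hi hne _
    simp only [Finset.mem_insert, Set.Finite.mem_toFinset, s] at hi
    rcases hi with rfl | hi
    · exact absurd rfl hne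
    · exact (AssociatedPrimes.mem_iff.mp hi).isPrime

end Groth.Agent.S5780
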