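import Groth.Statements.S5781
import Mathlib.RingTheory.Ideal.Cotangent
import Mathlib.LinearAlgebra.Dual.Lemmas
import Mathlib.RingTheory.LocalRing.ResidueField.Basic
open Pointwise

set_option autoImplicit false
universe u
open EGA41

namespace Groth.Agent.S5781

/-- Suppose A is a Noetherian local ring whose maximal ideal is m, and take a ∈ m with a ∉ m². Then the
quotient m/am contains a direct summand isomorphic to m/Aa: concretely, one can find A-linear maps f
: m/Aa → m/am and g : m/am → m/Aa such that g ∘ f is the identity. -/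
theorem result (A : Type u) [CommRing A] [IsLocalRing A]
    [IsNoetherianRing A] (a : A) (ha : a ∈ IsLocalRing.maximalIdeal A) (ha2 : a ∉ IsLocalRing.maximalIdeal A ^ 2) :
    ∃ (f : (↥(IsLocalRing.maximalIdeal A) ⧸ Submodule.span A {(⟨a, ha⟩ : ↥(IsLocalRing.maximalIdeal A))}) →ₗ[A]
          QuotSMulTop a ↥(IsLocalRing.maximalIdeal A))
      (g : QuotSMulTop a ↥(IsLocalRing.maximalIdeal A) →ₗ[A]
          (↥(IsLocalRing.maximalIdeal A) ⧸ Submodule.span A {(⟨a, ha⟩ : ↥(IsLocalRing.maximalIdeal A))})),
      g.comp f = LinearMap.id := by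
  set m := IsLocalRing.maximalIdeal A with hm
  let a' : m := ⟨a, ha⟩
  have hne : m.toCotangent a' ≠ 0 := by
    rw [Ne, Ideal.toCotangent_eq_zero]; exact ha2
  obtain ⟨l, hl⟩ := Module.Projective.exists_dual_eq_one (IsLocalRing.ResidueField A)
    (V := IsLocalRing.CotangentSpace A) hne
  let l' : m →ₗ[A] IsLocalRing.ResidueField A := (l.restrictScalars A).comp m.toCotangent
  have hl' : l' a' = 1 := hl
  let Q := QuotSMulTop a m
  let q0 : Q := Submodule.Quotient.mk a'
  have hq0 : ∀ c ∈ m, c • q0 = 0 := by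
    intro c hc
    show c • (Submodule.Quotient.mk a' : Q) = 0
    rw [← Submodule.Quotient.mk_smul, Submodule.Quotient.mk_eq_zero,
      Submodule.mem_smul_pointwise_iff_exists]
    refine ⟨⟨c, hc⟩, trivial, ?_⟩
    ext
    simp [a', mul_comm]
  let μ0 : (A ⧸ m) →ₗ[A] Q :=
    Submodule.liftQ m (LinearMap.toSpanSingleton A Q q0) (by
      intro c hc
      rw [LinearMap.mem_ker, LinearMap.toSpanSingleton_apply]
      exact hq0 c hc)
  have hμ0 : ∀ c : A, μ0 (Submodule.Quotient.mk c) = c • q0 := by
    intro c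
    simp only [μ0, Submodule.liftQ_apply, LinearMap.toSpanSingleton_apply]
  let e : IsLocalRing.ResidueField A →ₗ[A] (A ⧸ m) :=
    { toFun := id
      map_add' := fun _ _ => rfl
      map_smul' := by
        intro c x
        obtain ⟨x, rfl⟩ := Ideal.Quotient.mk_surjective x
        rfl }
  let μ : IsLocalRing.ResidueField A →ₗ[A] Q := μ0.comp e
  have hμ : ∀ c : A, μ (IsLocalRing.residue A c) = c • q0 := fun c => hμ0 c
  have hμ1 : μ 1 = q0 := by
    have := hμ 1
    rwa [map_one, one_smul] at this
  let h : m →ₗ[A] Q := Submodule.mkQ _ - μ.comp l'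
  have hha : h a' = 0 := by
    simp only [h, LinearMap.sub_apply, LinearMap.comp_apply, hl', hμ1, Submodule.mkQ_apply]
    exact sub_self _
  let f : (m ⧸ Submodule.span A {a'}) →ₗ[A] Q :=
    Submodule.liftQ _ h (by
      rw [Submodule.span_le, Set.singleton_subset_iff]
      exact hha)
  have hle : a • (⊤ : Submodule A m) ≤ Submodule.span A {a'} := by
    intro x hx
    rw [Submodule.mem_smul_pointwise_iff_exists] at hx
    obtain ⟨y, -, rfl⟩ := hx
    rw [Submodule.mem_span_singleton]
    refine ⟨(y : A), ?_⟩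
    ext
    simp [a', mul_comm]
  let g : Q →ₗ[A] (m ⧸ Submodule.span A {a'}) :=
    Submodule.liftQ _ (Submodule.mkQ _) (by rw [Submodule.ker_mkQ]; exact hle)
  have hgμ : ∀ c, g (μ c) = 0 := by
    intro c
    obtain ⟨c, rfl⟩ := IsLocalRing.residue_surjective c
    rw [hμ, map_smul]
    have : g q0 = 0 := by
      have h1 : g q0 = Submodule.mkQ (Submodule.span A {a'}) a' :=
        Submodule.liftQ_apply _ _ _
      rw [h1, Submodule.mkQ_apply, Submodule.Quotient.mk_eq_zero]
      exact Submodule.mem_span_singleton_self _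
    rw [this, smul_zero]
  refine ⟨f, g, ?_⟩
  apply LinearMap.ext
  intro x
  obtain ⟨x, rfl⟩ := Submodule.Quotient.mk_surjective _ x
  simp only [LinearMap.comp_apply, LinearMap.id_apply, f, Submodule.liftQ_apply, h,
    LinearMap.sub_apply, map_sub, hgμ, sub_zero, Submodule.mkQ_apply]
  simp only [g, Submodule.liftQ_apply, Submodule.mkQ_apply]

end Groth.Agent.S5781
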