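import Groth.Statements.S5782
import Groth.Agent.Lib.Helper1.RegCR

set_option autoImplicit false
universe u
open CategoryTheory
open EGA41

namespace Groth.Agent.S5782

open Pointwise in
noncomputable def quotEquiv (A : Type u) [CommRing A] (E : Type u) [AddCommGroup E] [Module A E]
    (a : A) :
    (E ⧸ (Ideal.span {a} • (⊤ : Submodule A E))) ≃ₗ[A ⧸ Ideal.span {a}] QuotSMulTop a E :=
  (Submodule.quotEquivOfEq (Ideal.span {a} • (⊤ : Submodule A E)) (a • (⊤ : Submodule A E))
    (Submodule.ideal_span_singleton_smul a ⊤)).extendScalarsOfSurjective
      Ideal.Quotient.mk_surjective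

/-- Let A be a Noetherian local ring with maximal ideal m, E a finitely generated A-module of finite
projective dimension, and a ∈ m an element which is A-regular and E-regular. Then E/aE, as a module
over A/aA, has finite projective dimension at most the projective dimension of E over A. -/
theorem result (A : Type u) [CommRing A] [IsLocalRing A]
    [IsNoetherianRing A] (E : Type u) [AddCommGroup E] [Module A E] [Module.Finite A E]
    (hfin : projectiveDimension (ModuleCat.of A E) ≠ ⊤) (a : A) (ha : a ∈ IsLocalRing.maximalIdeal A)
    (hA : IsSMulRegular A a) (hE : IsSMulRegular E a) :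
    projectiveDimension (ModuleCat.of (A ⧸ Ideal.span {a}) (E ⧸ (Ideal.span {a} • (⊤ : Submodule A E)))) ≤
      projectiveDimension (ModuleCat.of A E) := by
  rw [projectiveDimension_eq_of_iso (quotEquiv A E a).toModuleIso]
  have key : ∀ n : ℕ, projectiveDimension (ModuleCat.of A E) ≤ n →
      projectiveDimension (ModuleCat.of (A ⧸ Ideal.span {a}) (QuotSMulTop a E)) ≤ n := by
    intro n hn
    rw [projectiveDimension_le_iff] at hn ⊢
    exact Groth.Agent.H1.Reg.hasProjectiveDimensionLT_quotSMulTop a hA n E hE hn
  generalize hd : projectiveDimension (ModuleCat.of A E) = d at *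
  induction d with
  | bot =>
    rw [projectiveDimension_eq_bot_iff] at hd
    have : Subsingleton E := ModuleCat.subsingleton_of_isZero hd
    rw [le_bot_iff, projectiveDimension_eq_bot_iff]
    have : Subsingleton (QuotSMulTop a E) := inferInstance
    exact ModuleCat.isZero_of_subsingleton _
  | coe d =>
    induction d with
    | top => exact absurd rfl hfin
    | coe n => exact key n le_rfl

end Groth.Agent.S5782
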