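import Groth.Statements.S5786
import Groth.Agent.Lib.Helper1.RegGlobal
import Groth.Agent.Lib.Helper2.ProjDimFFlat

set_option autoImplicit false
universe u
open CategoryTheory
open EGA41

namespace Groth.Agent.S5786


/-- Let φ : A → B be a local homomorphism of Noetherian local rings making B a flat A-module. Then the
global (cohomological) dimension of A is at most that of B: if every B-module has projective
dimension at most n, then so does every A-module. -/
theorem result (A B : Type u) [CommRing A] [CommRing B] [IsLocalRing A]
    [IsLocalRing B] [IsNoetherianRing A] [IsNoetherianRing B] [Algebra A B] [IsLocalHom (algebraMap A B)]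
    [Module.Flat A B] (n : ℕ)
    (hB : ∀ (N : Type u) [AddCommGroup N] [Module B N], HasProjectiveDimensionLT (ModuleCat.of B N) (n + 1))
    (M : Type u) [AddCommGroup M] [Module A M] : HasProjectiveDimensionLT (ModuleCat.of A M) (n + 1) := by
  haveI : Module.FaithfullyFlat A B := Module.FaithfullyFlat.of_flat_of_isLocalHom
  apply Groth.Agent.H1.Reg.hasProjectiveDimensionLT_of_cyclic n
  intro I
  have h := (Groth.Agent.H2.hasProjectiveDimensionLE_extendScalars_iff A B n
    (ModuleCat.of A (A ⧸ I))).mp
  apply h
  exact @hB ((ModuleCat.extendScalars.{_, _, u} (algebraMap A B)).obj (ModuleCat.of A (A ⧸ I)))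
    (ModuleCat.isAddCommGroup _) (ModuleCat.isModule _)

end Groth.Agent.S5786
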