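import Groth.Statements.S5787
import Groth.Agent.Lib.Helper2.ExtReg2

set_option autoImplicit false
universe u
open CategoryTheory
open EGA41

namespace Groth.Agent.S5787

/-- Let A be a Noetherian local ring with maximal ideal m and residue field k, M an A-module and
(x_i)_{1 ≤ i ≤ n} an M-regular sequence of elements of m. Then Hom_A(k, M/(x_1 M + ... + x_n M)) and
Ext^n_A(k, M) are isomorphic (existence of an isomorphism; stated for the underlying abelian
groups). -/
theorem result (A : Type u) [CommRing A] [IsLocalRing A]
    [IsNoetherianRing A] (M : Type u) [AddCommGroup M] [Module A M] (xs : List A)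
    (hxs : ∀ x ∈ xs, x ∈ IsLocalRing.maximalIdeal A) (hreg : RingTheory.Sequence.IsWeaklyRegular M xs) :
    Nonempty ((IsLocalRing.ResidueField A →ₗ[A] (M ⧸ (Ideal.ofList xs • (⊤ : Submodule A M)))) ≃+
      Abelian.Ext (ModuleCat.of A (IsLocalRing.ResidueField A)) (ModuleCat.of A M) xs.length) := by
  refine Groth.Agent.H2.ExtReg.nonempty_hom_equiv_ext (IsLocalRing.maximalIdeal A)
    (IsLocalRing.ResidueField A) ?_ xs M hreg hxs
  intro a ha n
  obtain ⟨b, rfl⟩ := IsLocalRing.residue_surjective n
  rw [Algebra.smul_def]
  have : algebraMap A (IsLocalRing.ResidueField A) a = 0 := by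
    rw [IsLocalRing.ResidueField.algebraMap_eq]
    exact (IsLocalRing.residue_eq_zero_iff a).mpr ha
  rw [this, zero_mul]

end Groth.Agent.S5787
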