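import Groth.Statements.S5791
import Mathlib

set_option autoImplicit false
universe u
open CategoryTheory
open EGA41

namespace Groth.Agent.S5791

theorem pd_shrink_iff (A : Type u) [CommRing A] (M : Type u) [AddCommGroup M] [Module A M]
    (p : Ideal A) [p.IsPrime] (n : ℕ) :
    HasProjectiveDimensionLT ((ModuleCat.of A M).localizedModule p.primeCompl) n ↔
      HasProjectiveDimensionLT
        (ModuleCat.of (Localization.AtPrime p) (LocalizedModule p.primeCompl M)) n := by
  constructor
  · intro h1
    exact @hasProjectiveDimensionLT_of_iso _ _ _ _ _
      (Shrink.linearEquiv.{u} (Localization p.primeCompl)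
        (LocalizedModule p.primeCompl M)).toModuleIso n h1
  · intro h1
    exact @hasProjectiveDimensionLT_of_iso _ _ _ _ _
      (Shrink.linearEquiv.{u} (Localization p.primeCompl)
        (LocalizedModule p.primeCompl M)).symm.toModuleIso n h1

/-- Let A be a Noetherian ring and M a finitely generated A-module. The projective dimension of M is the
supremum over the prime ideals p of the projective dimensions of M_p over A_p; equivalently, for
every n, M has projective dimension at most n if and only if every M_p has projective dimension at
most n over A_p. -/
theorem result (A : Type u) [CommRing A] [IsNoetherianRing A]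
    (M : Type u) [AddCommGroup M] [Module A M] [Module.Finite A M] (n : ℕ) :
    HasProjectiveDimensionLT (ModuleCat.of A M) (n + 1) ↔
      ∀ p : PrimeSpectrum A, HasProjectiveDimensionLT
        (ModuleCat.of (Localization.AtPrime p.asIdeal) (LocalizedModule p.asIdeal.primeCompl M)) (n + 1) := by
  have h := ModuleCat.hasProjectiveDimensionLE_iff_forall_primeSpectrum n (ModuleCat.of A M)
  change HasProjectiveDimensionLT (ModuleCat.of A M) (n + 1) ↔ _ at h
  rw [h]
  refine forall_congr' fun p => ?_
  exact pd_shrink_iff A M p.asIdeal (n + 1)

end Groth.Agent.S5791
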