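import Groth.Statements.S5801
import Mathlib.RingTheory.Regular.IsSMulRegular
import Mathlib.Algebra.Module.Submodule.Pointwise
open Pointwise

set_option autoImplicit false
universe u
open scoped Pointwise
open EGA41

namespace Groth.Agent.S5801

/-- Let A be a ring, M an A-module and f ∈ A, and consider the canonical surjection (M/fM)[T] → gr(M)
for the (f)-adic filtration, whose injectivity says: for all k ≥ 0 and x ∈ M, f^k x ∈ f^(k+1) M
implies x ∈ fM. If f is M-regular this map is bijective; conversely, if it is bijective and M is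
separated for the (f)-adic topology (the intersection of the f^k M is zero), then f is M-regular. -/
theorem result (A : Type u) [CommRing A] (M : Type u)
    [AddCommGroup M] [Module A M] (f : A) :
    (IsSMulRegular M f →
        ∀ (k : ℕ) (x : M), f ^ k • x ∈ f ^ (k + 1) • (⊤ : Submodule A M) → x ∈ f • (⊤ : Submodule A M)) ∧
      ((⨅ k : ℕ, f ^ k • (⊤ : Submodule A M)) = ⊥ →
        (∀ (k : ℕ) (x : M), f ^ k • x ∈ f ^ (k + 1) • (⊤ : Submodule A M) → x ∈ f • (⊤ : Submodule A M)) →
          IsSMulRegular M f) := by
  constructor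
  · intro hreg k x hx
    rw [Submodule.mem_smul_pointwise_iff_exists] at hx ⊢
    obtain ⟨y, -, hy⟩ := hx
    refine ⟨y, trivial, ?_⟩
    have hk : IsSMulRegular M (f ^ k) := hreg.pow k
    apply hk
    show f ^ k • f • y = f ^ k • x
    rw [← hy, pow_succ, mul_smul]
  · intro hsep H
    rw [isSMulRegular_iff_right_eq_zero_of_smul]
    intro x hx
    have key : ∀ n : ℕ, ∃ y : M, x = f ^ n • y ∧ f ^ (n + 1) • y = 0 := by
      intro n
      induction n with
      | zero => exact ⟨x, by simp, by simpa using hx⟩
      | succ n ih =>
        obtain ⟨y, hy1, hy2⟩ := ih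
        have : y ∈ f • (⊤ : Submodule A M) := by
          apply H (n + 1) y
          rw [hy2]
          exact Submodule.zero_mem _
        rw [Submodule.mem_smul_pointwise_iff_exists] at this
        obtain ⟨z, -, rfl⟩ := this
        refine ⟨z, ?_, ?_⟩
        · rw [hy1, pow_succ, mul_smul]
        · rw [pow_succ, mul_smul]; exact hy2
    have hmem : x ∈ (⨅ k : ℕ, f ^ k • (⊤ : Submodule A M)) := by
      rw [Submodule.mem_iInf]
      intro i
      obtain ⟨y, hy, -⟩ := key i
      rw [Submodule.mem_smul_pointwise_iff_exists]
      exact ⟨y, trivial, hy.symm⟩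
    rw [hsep] at hmem
    exact (Submodule.mem_bot A).mp hmem

end Groth.Agent.S5801
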