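import Groth.Statements.S5805
import Groth.Agent.Lib.Helper1.RegConv
import Groth.Agent.Lib.Helper1.RegPd
import Groth.Agent.Lib.Helper1.RegGlobal

set_option autoImplicit false
universe u
open CategoryTheory
open EGA41

namespace Groth.Agent.S5805


/-- Let A be a Noetherian local ring with residue field k and n ≥ 0. Then the global dimension of A is
at most n as soon as the projective dimension of the A-module k is at most n: every A-module then
has projective dimension at most n. (The published statement phrases the criterion through the
vanishing of Tor^A_{n+1}(k, k), to which dim.proj_A(k) ≤ n is equivalent for finitely generated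
modules over a Noetherian local ring; this row states the projective-dimension form that the
published proof establishes.) -/
theorem result (A : Type u) [CommRing A] [IsLocalRing A]
    [IsNoetherianRing A] (n : ℕ)
    (hk : HasProjectiveDimensionLT (ModuleCat.of A (IsLocalRing.ResidueField A)) (n + 1)) (M : Type u)
    [AddCommGroup M] [Module A M] : HasProjectiveDimensionLT (ModuleCat.of A M) (n + 1) := by
  haveI : IsRegularLocalRing A :=
    Groth.Agent.H1.Reg.isRegularLocalRing_of_hasProjectiveDimensionLT (n + 1) hk
  have hd : ringKrullDim A = ((IsLocalRing.maximalIdeal A).spanFinrank : ℕ) :=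
    (IsRegularLocalRing.spanFinrank_maximalIdeal (R := A)).symm
  have hpd := Groth.Agent.H1.Reg.projectiveDimension_residueField A _ hd
  have hlt := (projectiveDimension_lt_iff (X := ModuleCat.of A (IsLocalRing.ResidueField A))
    (n := n + 1)).mpr hk
  rw [hpd] at hlt
  have hle : (IsLocalRing.maximalIdeal A).spanFinrank < n + 1 := by exact_mod_cast hlt
  have := Groth.Agent.H1.Reg.hasProjectiveDimensionLT_of_isRegularLocalRing A _ hd
    (ModuleCat.of A M)
  exact hasProjectiveDimensionLT_of_ge _ ((IsLocalRing.maximalIdeal A).spanFinrank + 1) (n + 1)
    (by omega)

end Groth.Agent.S5805
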