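import Groth.Statements.S5806
import Groth.Agent.Lib.Helper2.FlatQuot

set_option autoImplicit false
universe u
open EGA41

namespace Groth.Agent.S5806

open TensorProduct in
/-- Let A be a ring, B a commutative A-algebra, (f_i)_{1 ≤ i ≤ n} elements of B and M a B-module.
Suppose (f_i) is M-regular and each of the A-modules M/(f_1 M + ... + f_i M), 0 ≤ i ≤ n, is flat.
Then for every ring homomorphism A → A', writing M' = M ⊗_A A' and f'_i = f_i ⊗ 1, the sequence
(f'_i) is M'-regular and the A'-modules M'/(f'_1 M' + ... + f'_{i-1} M') are flat: concretely,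
identifying M'/(f'_1 M' + ... + f'_{i-1} M') with A' ⊗_A (M/(f_1 M + ... + f_{i-1} M)),
multiplication by f_i on the latter is injective and the latter is A'-flat, for 1 ≤ i ≤ n. (The
published hypothesis lists only the flatness of M/(f_1 M + ... + f_{i-1} M) for 1 ≤ i ≤ n, omitting
M/(f_1 M + ... + f_n M); with that omission the case n = 1, A = B = k[t], M = k[t], f_1 = t, A' =
k[t]/(t) fails, since t acts as zero on k ⊗_A M = k, and the published proof uses the flatness of
M/(f_1 M + ... + f_i M) for every i ≤ n; so flatness of all these quotients is assumed here.) -/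
theorem result (A B : Type u) [CommRing A]
    [CommRing B] [Algebra A B] (M : Type u) [AddCommGroup M] [Module B M] [Module A M] [IsScalarTower A B M]
    (fs : List B) (hreg : RingTheory.Sequence.IsWeaklyRegular M fs)
    (hflat : ∀ i : ℕ, i ≤ fs.length → Module.Flat A (M ⧸ (Ideal.ofList (fs.take i) • (⊤ : Submodule B M))))
    (A' : Type u) [CommRing A'] [Algebra A A'] (i : Fin fs.length) :
    Function.Injective (LinearMap.lTensor A'
        (((LinearMap.lsmul B (M ⧸ (Ideal.ofList (fs.take i) • (⊤ : Submodule B M)))) (fs.get i)).restrictScalars A)) ∧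
      Module.Flat A' (A' ⊗[A] (M ⧸ (Ideal.ofList (fs.take i) • (⊤ : Submodule B M)))) := by
  have hi : (i : ℕ) < fs.length := i.2
  refine ⟨?_, ?_⟩
  · have hP' : (Ideal.ofList (fs.take ((i : ℕ) + 1)) • (⊤ : Submodule B M)) =
        Ideal.ofList (fs.take i) • (⊤ : Submodule B M) ⊔
          Ideal.span {fs.get i} • (⊤ : Submodule B M) := by
      rw [List.take_succ_eq_append_getElem hi, Ideal.ofList_append, Submodule.sup_smul,
        Ideal.ofList_singleton]
      rfl
    have hle : (Ideal.ofList (fs.take i) • (⊤ : Submodule B M)) ≤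
        Ideal.ofList (fs.take ((i : ℕ) + 1)) • (⊤ : Submodule B M) := hP' ▸ le_sup_left
    have : Module.Flat A (M ⧸ (Ideal.ofList (fs.take ((i : ℕ) + 1)) • (⊤ : Submodule B M))) :=
      hflat ((i : ℕ) + 1) hi
    have hinj : Function.Injective
        (((LinearMap.lsmul B (M ⧸ (Ideal.ofList (fs.take i) • (⊤ : Submodule B M)))) (fs.get i)).restrictScalars A) :=
      hreg.regular_mod_prev i hi
    have hex : Function.Exact
        (((LinearMap.lsmul B (M ⧸ (Ideal.ofList (fs.take i) • (⊤ : Submodule B M)))) (fs.get i)).restrictScalars A)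
        ((Submodule.factor hle).restrictScalars A) :=
      Groth.Agent.H2.FlatQuot.exact_smul_factor _ _ (fs.get i) hP' hle
    have hsurj : Function.Surjective ((Submodule.factor hle).restrictScalars A) := by
      intro y
      obtain ⟨m, rfl⟩ := Submodule.Quotient.mk_surjective _ y
      exact ⟨Submodule.Quotient.mk m, rfl⟩
    exact Groth.Agent.H2.FlatQuot.lTensor_injective_of_flat_quotient _ _ hinj hex hsurj A'
  · have : Module.Flat A (M ⧸ (Ideal.ofList (fs.take i) • (⊤ : Submodule B M))) :=
      hflat i hi.le
    infer_instance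

end Groth.Agent.S5806
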