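import Groth.Statements.S5810
import Groth.Agent.Lib.Helper1.ComplDepth
import Groth.Agent.S0543

set_option autoImplicit false
universe u
open EGA41

namespace Groth.Agent.S5810


/-- Let A be a Noetherian local ring with maximal ideal m and M a finitely generated A-module; write Â
and M̂ for the m-adic completions. Then prof_A(M) = prof_Â(M̂). -/
theorem result (A : Type u) [CommRing A] [IsLocalRing A] [IsNoetherianRing A] (M : Type u)
    [AddCommGroup M] [Module A M] [Module.Finite A M] :
    LocCoh.depth (AdicCompletion (IsLocalRing.maximalIdeal A) A) (AdicCompletion (IsLocalRing.maximalIdeal A) M) =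
      LocCoh.depth A M := by
  haveI : IsLocalRing (AdicCompletion (IsLocalRing.maximalIdeal A) A) :=
    Groth.Agent.H1.ComplDepth.isLocalRing_adicCompletion A _
      (Ideal.IsPrime.ne_top inferInstance)
  haveI : IsNoetherianRing (AdicCompletion (IsLocalRing.maximalIdeal A) A) :=
    Groth.Agent.S0543.result A _
  haveI : IsLocalHom (algebraMap A (AdicCompletion (IsLocalRing.maximalIdeal A) A)) :=
    Groth.Agent.H1.ComplDepth.isLocalHom_adicCompletion A _
  let e := AdicCompletion.ofTensorProductEquivOfFiniteNoetherian (IsLocalRing.maximalIdeal A) M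
  haveI : Module.Finite (AdicCompletion (IsLocalRing.maximalIdeal A) A)
      (AdicCompletion (IsLocalRing.maximalIdeal A) M) := Module.Finite.equiv e
  have h1 := Groth.Agent.S2062.result (R := A) (S := AdicCompletion (IsLocalRing.maximalIdeal A) A)
    (M := M) (N := AdicCompletion (IsLocalRing.maximalIdeal A) A)
  rw [Groth.Agent.H1.ComplDepth.depth_fiber_eq_zero _
    (Groth.Agent.H1.FlatDim.map_maximalIdeal_ne_top A _)
    (Groth.Agent.H1.ComplDepth.ringKrullDim_fiber_eq_zero A _), add_zero] at h1
  rw [← h1]
  exact (Groth.Agent.H6.CM.idealDepth_eq_of_linearEquiv _ e).symm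

end Groth.Agent.S5810
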