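import Groth.Statements.S5815
import Groth.Agent.Lib.Helper3.ExalAux
import Mathlib.RingTheory.Smooth.Basic
open Groth.Agent.H3.ExalAux

set_option autoImplicit false
universe u
open EGA41

namespace Groth.Agent.S5815

/-- Discrete case. A commutative A-algebra B is formally smooth if and only if every A-extension of B by
a B-module L is trivial (has an A-algebra section). A and B are taken in one universe and L ranges
over that universe. (The published statement is for topological rings, with direct-limit classes of
extensions; this row is its discrete case.) -/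
theorem result (A B : Type u) [CommRing A] [CommRing B] [Algebra A B] :
    Algebra.FormallySmooth A B ↔
      ∀ (L : Type u) [AddCommGroup L] [Module B L] (X : Exal.Ext A B L), X.IsTrivial := by
  constructor
  · intro hsm L _ _ X
    let J : Ideal X.E := RingHom.ker X.proj.toRingHom
    have hJ : J ^ 2 = ⊥ := ker_sq X
    let eqv : (X.E ⧸ J) ≃ₐ[A] B := Ideal.quotientKerAlgEquivOfSurjective X.isExtension.proj_surjective
    have heqv : ∀ x : X.E, eqv (Ideal.Quotient.mk J x) = X.proj x := fun x => rfl
    obtain ⟨v, hv⟩ := Algebra.FormallySmooth.comp_surjective A B J hJ (eqv.symm : B →ₐ[A] X.E ⧸ J)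
    refine ⟨v, ?_⟩
    intro b
    have h1 : Ideal.Quotient.mk J (v b) = eqv.symm b := AlgHom.congr_fun hv b
    rw [← heqv, h1, AlgEquiv.apply_symm_apply]
  · intro h
    rw [Algebra.FormallySmooth.iff_comp_surjective]
    intro C _ _ J hJ u₀
    obtain ⟨inst, X, h1, -⟩ := exists_ext_of_sqZero J hJ u₀
    exact h1 (@h J.Cotangent _ inst X)

end Groth.Agent.S5815
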