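import Groth.Statements.S5816
import Groth.Agent.Lib.Helper3.ExalAux
open Groth.Agent.H3.ExalAux

set_option autoImplicit false
universe u
open EGA41

namespace Groth.Agent.S5816

/-- Discrete case. For ring maps Λ → A → B, B is formally smooth over A relative to Λ (square-zero test
ideals) if and only if every A-extension of B by a B-module L which is Λ-trivial is A-trivial. Λ, A,
B are taken in one universe and L ranges over it. (The published statement is for topological rings;
this row is its discrete case.) -/
theorem result (Λ A B : Type u) [CommRing Λ]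
    [CommRing A] [CommRing B] [Algebra Λ A] [Algebra Λ B] [Algebra A B] [IsScalarTower Λ A B] :
    EGA41.IsFormallySmoothRel Λ A B ↔
      ∀ (L : Type u) [AddCommGroup L] [Module B L] (X : Exal.Ext A B L),
        X.IsTrivialOver Λ → X.IsTrivial := by
  constructor
  · intro hsm L _ _ X hX
    obtain ⟨s, hs⟩ := hX
    let J : Ideal X.E := RingHom.ker X.proj.toRingHom
    have hJ : J ^ 2 = ⊥ := ker_sq X
    let eqv : (X.E ⧸ J) ≃ₐ[A] B := Ideal.quotientKerAlgEquivOfSurjective X.isExtension.proj_surjective
    have heqv : ∀ x : X.E, eqv (Ideal.Quotient.mk J x) = X.proj x := fun x => rfl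
    let algΛ : Algebra Λ X.E := ((algebraMap A X.E).comp (algebraMap Λ A)).toAlgebra
    have : IsScalarTower Λ A X.E := IsScalarTower.of_algebraMap_eq (fun _ => rfl)
    let w : B →ₐ[Λ] X.E :=
      { toFun := s
        map_one' := map_one s
        map_mul' := map_mul s
        map_zero' := map_zero s
        map_add' := map_add s
        commutes' := s.commutes }
    have hw : ∀ b, X.proj (w b) = b := hs
    obtain ⟨v, hv⟩ := hsm X.E J hJ (eqv.symm : B →ₐ[A] X.E ⧸ J) ⟨w, by
      ext b
      show Ideal.Quotient.mk J (w b) = eqv.symm b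
      rw [AlgEquiv.eq_symm_apply, heqv, hw]⟩
    refine ⟨v, ?_⟩
    intro b
    have h1 : Ideal.Quotient.mk J (v b) = eqv.symm b := AlgHom.congr_fun hv b
    rw [← heqv, h1, AlgEquiv.apply_symm_apply]
  · intro h C _ _ _ _ J hJ u₀ hw
    obtain ⟨inst, X, h1, h2⟩ := exists_ext_of_sqZero J hJ u₀
    exact h1 (@h J.Cotangent _ inst X (h2 Λ hw))

end Groth.Agent.S5816
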