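import Groth.Statements.S5817
attribute [local instance] Exal.opModule Exal.isCentralScalar_opModule

set_option autoImplicit false
universe u v
open EGA41

namespace Groth.Agent.S5817

/-- Commutative rings, exactness at Der_A(B, L). For ring maps A → B → C and a C-module L, the
B-extension of C by L attached to an A-derivation D : B → L (middle ring C ⊕ L, made a B-algebra
through x ↦ (x, D x)) is trivial if and only if D is the composite of B → C with an A-derivation C →
L. -/
theorem result {A : Type u} {B C L : Type v} [CommRing A] [CommRing B] [CommRing C]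
    [Algebra A B] [Algebra B C] [Algebra A C] [IsScalarTower A B C]
    [AddCommGroup L] [Module C L] [Module B L] [IsScalarTower B C L] [Module A L] [IsScalarTower A B L]
    [IsScalarTower A C L]
    (D : Derivation A B L) :
    (Exal.Ext.ofDerivation (C := C) D).IsTrivial ↔
      ∃ D' : Derivation A C L, D'.compAlgebraMap B = D := by
  constructor
  · rintro ⟨s, hs⟩
    -- s : C →ₐ[B] DerCarrier D
    have hfst : ∀ c : C, TrivSqZeroExt.fst (s c : TrivSqZeroExt C L) = c := hs
    have halg : ∀ b : B, (s (algebraMap B C b) : TrivSqZeroExt C L) =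
        (TrivSqZeroExt.inl (algebraMap B C b) + TrivSqZeroExt.inr (D b) : TrivSqZeroExt C L) :=
      fun b => s.commutes b
    let D0 : C → L := fun c => TrivSqZeroExt.snd (s c : TrivSqZeroExt C L)
    have hadd : ∀ c c', D0 (c + c') = D0 c + D0 c' := by
      intro c c'
      show TrivSqZeroExt.snd (s (c + c') : TrivSqZeroExt C L) = _
      rw [map_add]; rfl
    have hmul : ∀ c c', D0 (c * c') = c • D0 c' + c' • D0 c := by
      intro c c'
      show TrivSqZeroExt.snd (s (c * c') : TrivSqZeroExt C L) = _
      rw [map_mul]
      have : TrivSqZeroExt.snd ((s c : TrivSqZeroExt C L) * (s c' : TrivSqZeroExt C L)) =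
          TrivSqZeroExt.fst (s c : TrivSqZeroExt C L) • TrivSqZeroExt.snd (s c' : TrivSqZeroExt C L) +
          MulOpposite.op (TrivSqZeroExt.fst (s c' : TrivSqZeroExt C L)) • TrivSqZeroExt.snd (s c : TrivSqZeroExt C L) :=
        TrivSqZeroExt.snd_mul _ _
      refine this.trans ?_
      rw [hfst, hfst, op_smul_eq_smul]
    have hD0alg : ∀ b : B, D0 (algebraMap B C b) = D b := by
      intro b
      show TrivSqZeroExt.snd (s (algebraMap B C b) : TrivSqZeroExt C L) = _
      rw [halg, TrivSqZeroExt.snd_add, TrivSqZeroExt.snd_inl, TrivSqZeroExt.snd_inr, zero_add]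
    let Dl : C →ₗ[A] L :=
      { toFun := D0
        map_add' := hadd
        map_smul' := by
          intro a c
          rw [Algebra.smul_def, hmul, IsScalarTower.algebraMap_apply A B C, hD0alg,
            Derivation.map_algebraMap, smul_zero, add_zero, RingHom.id_apply,
            ← IsScalarTower.algebraMap_apply A B C, algebraMap_smul] }
    refine ⟨Derivation.mk' Dl hmul, ?_⟩
    ext b
    exact hD0alg b
  · rintro ⟨D', rfl⟩
    let s0 : C →+* TrivSqZeroExt C L := Exal.Ext.derivationHom (B := C) (C := C) D'
    let s : C →ₐ[B] (Exal.Ext.ofDerivation (C := C) (D'.compAlgebraMap B)).E :=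
      { toFun := s0
        map_one' := map_one s0
        map_mul' := map_mul s0
        map_zero' := map_zero s0
        map_add' := map_add s0
        commutes' := fun b => rfl }
    refine ⟨s, ?_⟩
    intro c
    show TrivSqZeroExt.fst (s0 c) = c
    simp [s0, Exal.Ext.derivationHom]

end Groth.Agent.S5817
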