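import Groth.Statements.S5818
import Groth.Agent.Lib.Helper3.ExalAux
open Groth.Agent.H3.ExalAux
attribute [local instance] Exal.opModule Exal.isCentralScalar_opModule

set_option autoImplicit false
universe u v
open EGA41

namespace Groth.Agent.S5818

/-- Commutative rings, exactness at Exalcom_B(C, L) on underlying pointed sets. For ring maps A → B → C
and a C-module L, a B-extension of C by L is A-trivial if and only if it is equivalent to the
extension attached to some A-derivation B → L. -/
theorem result {A : Type u} {B C L : Type v} [CommRing A] [CommRing B] [CommRing C]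
    [Algebra A B] [Algebra B C] [Algebra A C] [IsScalarTower A B C]
    [AddCommGroup L] [Module C L] [Module B L] [IsScalarTower B C L] [Module A L] [IsScalarTower A B L]
    [IsScalarTower A C L]
    (X : Exal.Ext B C L) :
    X.IsTrivialOver A ↔
      ∃ D : Derivation A B L, Nonempty (X.Equiv (Exal.Ext.ofDerivation (C := C) D)) := by
  constructor
  · rintro ⟨s, hs⟩
    -- s : C →ₐ[A] X.RestrictCarrier A
    let s' : C →+* X.E := s.toRingHom
    have hs' : ∀ c, X.proj (s' c) = c := hs
    have hsA : ∀ a : A, s' (algebraMap A C a) = algebraMap B X.E (algebraMap A B a) := fun a => s.commutes a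
    have hker : ∀ b : B, X.proj (algebraMap B X.E b - s' (algebraMap B C b)) = 0 := by
      intro b
      rw [map_sub, hs', AlgHom.commutes, sub_self]
    let D0 : B → L := fun b => X.kerLift _ (hker b)
    have hD0 : ∀ b, X.incl (D0 b) = algebraMap B X.E b - s' (algebraMap B C b) :=
      fun b => X.incl_kerLift _ _
    have hadd : ∀ b b', D0 (b + b') = D0 b + D0 b' := by
      intro b b'
      apply X.isExtension.incl_injective
      rw [map_add, hD0, hD0, hD0, map_add, map_add, map_add]
      abel
    have hmul : ∀ b b', D0 (b * b') = b • D0 b' + b' • D0 b := by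
      intro b b'
      apply X.isExtension.incl_injective
      have e1 : X.incl (b • D0 b') = s' (algebraMap B C b) * X.incl (D0 b') := by
        rw [X.isExtension.mul_incl, hs', algebraMap_smul]
      have e2 : X.incl (b' • D0 b) = X.incl (D0 b) * algebraMap B X.E b' := by
        rw [incl_mul, AlgHom.commutes, algebraMap_smul]
      rw [map_add, e1, e2, hD0, hD0, hD0, map_mul, map_mul, map_mul]
      ring
    have hsmul : ∀ (a : A) b, D0 (a • b) = a • D0 b := by
      intro a b
      have h1 : a • b = algebraMap A B a * b := Algebra.smul_def a b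
      rw [h1, hmul]
      have h0 : D0 (algebraMap A B a) = 0 := by
        apply X.isExtension.incl_injective
        rw [hD0, map_zero, ← IsScalarTower.algebraMap_apply A B C, hsA, sub_self]
      rw [h0, smul_zero, add_zero, algebraMap_smul]
    let Dl : B →ₗ[A] L := { toFun := D0, map_add' := hadd, map_smul' := hsmul }
    let D : Derivation A B L := Derivation.mk' Dl hmul
    have hD : ∀ b, D b = D0 b := fun b => rfl
    refine ⟨D, ?_⟩
    -- g : DerCarrier D → X.E
    let g0 : TrivSqZeroExt C L → X.E := fun t => s' (TrivSqZeroExt.fst t) + X.incl (TrivSqZeroExt.snd t)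
    have hg0p : ∀ t, X.proj (g0 t) = TrivSqZeroExt.fst t := by
      intro t
      show X.proj (s' _ + X.incl _) = _
      rw [map_add, hs', proj_incl, add_zero]
    let g1 : TrivSqZeroExt C L →+* X.E :=
      { toFun := g0
        map_one' := by
          show s' (TrivSqZeroExt.fst (1 : TrivSqZeroExt C L)) + X.incl (TrivSqZeroExt.snd (1 : TrivSqZeroExt C L)) = 1
          rw [TrivSqZeroExt.fst_one, TrivSqZeroExt.snd_one, map_one, map_zero, add_zero]
        map_mul' := by
          intro t t'
          show s' (TrivSqZeroExt.fst (t * t')) + X.incl (TrivSqZeroExt.snd (t * t')) =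
            (s' (TrivSqZeroExt.fst t) + X.incl (TrivSqZeroExt.snd t)) *
            (s' (TrivSqZeroExt.fst t') + X.incl (TrivSqZeroExt.snd t'))
          rw [TrivSqZeroExt.fst_mul, TrivSqZeroExt.snd_mul, map_mul, map_add, op_smul_eq_smul, add_mul,
            mul_add, mul_add, incl_mul_incl, add_zero, X.isExtension.mul_incl, incl_mul, hs', hs']
          abel
        map_zero' := by
          show s' (TrivSqZeroExt.fst (0 : TrivSqZeroExt C L)) + X.incl (TrivSqZeroExt.snd (0 : TrivSqZeroExt C L)) = 0
          rw [TrivSqZeroExt.fst_zero, TrivSqZeroExt.snd_zero, map_zero, map_zero, add_zero]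
        map_add' := by
          intro t t'
          show s' (TrivSqZeroExt.fst (t + t')) + X.incl (TrivSqZeroExt.snd (t + t')) =
            (s' (TrivSqZeroExt.fst t) + X.incl (TrivSqZeroExt.snd t)) +
            (s' (TrivSqZeroExt.fst t') + X.incl (TrivSqZeroExt.snd t'))
          rw [TrivSqZeroExt.fst_add, TrivSqZeroExt.snd_add, map_add, map_add]
          abel }
    let g : (Exal.Ext.ofDerivation (C := C) D).E →ₐ[B] X.E :=
      { toFun := g1
        map_one' := map_one g1
        map_mul' := map_mul g1
        map_zero' := map_zero g1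
        map_add' := map_add g1
        commutes' := by
          intro b
          show s' (TrivSqZeroExt.fst (TrivSqZeroExt.inl (algebraMap B C b) + TrivSqZeroExt.inr (D b) : TrivSqZeroExt C L)) +
            X.incl (TrivSqZeroExt.snd (TrivSqZeroExt.inl (algebraMap B C b) + TrivSqZeroExt.inr (D b) : TrivSqZeroExt C L)) = _
          rw [TrivSqZeroExt.fst_add, TrivSqZeroExt.snd_add, TrivSqZeroExt.fst_inl, TrivSqZeroExt.fst_inr,
            TrivSqZeroExt.snd_inl, TrivSqZeroExt.snd_inr, add_zero, zero_add, hD, hD0]
          abel }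
    have hginj : Function.Injective g := by
      rw [injective_iff_map_eq_zero]
      intro t ht
      have h1 : TrivSqZeroExt.fst (t : TrivSqZeroExt C L) = 0 := by
        rw [← hg0p t]
        show X.proj (g t) = 0
        rw [ht, map_zero]
      have h2 : X.incl (TrivSqZeroExt.snd (t : TrivSqZeroExt C L)) = 0 := by
        have : g0 t = 0 := ht
        simp only [g0, h1, map_zero, zero_add] at this
        exact this
      have h3 : TrivSqZeroExt.snd (t : TrivSqZeroExt C L) = 0 :=
        X.isExtension.incl_injective (by rw [h2, map_zero])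
      exact TrivSqZeroExt.ext h1 h3
    have hgsurj : Function.Surjective g := by
      intro x
      have hk : X.proj (x - s' (X.proj x)) = 0 := by rw [map_sub, hs', sub_self]
      refine ⟨(TrivSqZeroExt.inl (X.proj x) + TrivSqZeroExt.inr (X.kerLift _ hk) : TrivSqZeroExt C L), ?_⟩
      show s' (TrivSqZeroExt.fst (TrivSqZeroExt.inl (X.proj x) + TrivSqZeroExt.inr (X.kerLift _ hk) : TrivSqZeroExt C L)) +
        X.incl (TrivSqZeroExt.snd (TrivSqZeroExt.inl (X.proj x) + TrivSqZeroExt.inr (X.kerLift _ hk) : TrivSqZeroExt C L)) = x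
      rw [TrivSqZeroExt.fst_add, TrivSqZeroExt.snd_add, TrivSqZeroExt.fst_inl, TrivSqZeroExt.fst_inr,
        TrivSqZeroExt.snd_inl, TrivSqZeroExt.snd_inr, add_zero, zero_add, X.incl_kerLift]
      abel
    let ge : (Exal.Ext.ofDerivation (C := C) D).E ≃ₐ[B] X.E := AlgEquiv.ofBijective g ⟨hginj, hgsurj⟩
    have hge : ∀ t, ge t = g0 t := fun t => rfl
    refine ⟨{ toAlgEquiv := ge.symm
              proj_apply := ?_
              apply_incl := ?_ }⟩
    · intro x
      obtain ⟨t, rfl⟩ := ge.surjective x
      rw [AlgEquiv.symm_apply_apply, hge, hg0p]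
      rfl
    · intro z
      rw [AlgEquiv.symm_apply_eq, hge]
      show X.incl z = s' (TrivSqZeroExt.fst (TrivSqZeroExt.inr z : TrivSqZeroExt C L)) +
        X.incl (TrivSqZeroExt.snd (TrivSqZeroExt.inr z : TrivSqZeroExt C L))
      rw [TrivSqZeroExt.fst_inr, TrivSqZeroExt.snd_inr, map_zero, zero_add]
  · rintro ⟨D, ⟨e⟩⟩
    let inlH : C →+* (Exal.Ext.ofDerivation (C := C) D).E := TrivSqZeroExt.inlHom C L
    let s0 : C →+* X.E := (e.toAlgEquiv.symm : (Exal.Ext.ofDerivation (C := C) D).E →+* X.E).comp inlH
    have hs0 : ∀ c, s0 c = e.toAlgEquiv.symm (inlH c) := fun c => rfl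
    have hcomm : ∀ a : A, s0 (algebraMap A C a) = algebraMap B X.E (algebraMap A B a) := by
      intro a
      rw [hs0, AlgEquiv.symm_apply_eq, AlgEquiv.commutes]
      show (TrivSqZeroExt.inl (algebraMap A C a) : TrivSqZeroExt C L) =
        TrivSqZeroExt.inl (algebraMap B C (algebraMap A B a)) + TrivSqZeroExt.inr (D (algebraMap A B a))
      rw [Derivation.map_algebraMap, TrivSqZeroExt.inr_zero, add_zero,
        ← IsScalarTower.algebraMap_apply A B C]
    let s : C →ₐ[A] (X.restrictBase A).E :=
      { toFun := s0
        map_one' := map_one s0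
        map_mul' := map_mul s0
        map_zero' := map_zero s0
        map_add' := map_add s0
        commutes' := hcomm }
    refine ⟨s, ?_⟩
    intro c
    show X.proj (s0 c) = c
    rw [hs0, ← e.proj_apply, AlgEquiv.apply_symm_apply]
    rfl

end Groth.Agent.S5818
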