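import Groth.Statements.S5819
import Groth.Agent.Lib.Helper3.ExalAux
open Groth.Agent.H3.ExalAux

set_option autoImplicit false
universe u v
open EGA41

namespace Groth.Agent.S5819

/-- Commutative rings, exactness at Exalcom_A(C, L) on underlying pointed sets. For ring maps A → B → C
and a C-module L, an A-extension Y of C by L pulls back to a trivial A-extension of B if and only if
Y is equivalent to some B-extension of C by L viewed as an A-extension. -/
theorem result {A : Type u} {B C L : Type v} [CommRing A]
    [CommRing B] [CommRing C] [Algebra A B] [Algebra B C] [Algebra A C] [IsScalarTower A B C]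
    [AddCommGroup L] [Module C L] [Module B L] [IsScalarTower B C L]
    (Y : Exal.Ext A C L) :
    (Y.pullback B).IsTrivial ↔
      ∃ X : Exal.Ext B C L, Nonempty ((X.restrictBase A).Equiv Y) := by
  constructor
  · rintro ⟨s, hs⟩
    -- t : B →ₐ[A] Y.E
    let t : B →ₐ[A] Y.E := (AlgHom.fst A Y.E B).comp ((Y.fiberProd B).val.comp s)
    let sb : B → ↥(Y.fiberProd B) := fun b => s b
    have hsnd : ∀ b, (sb b).1.2 = b := hs
    have ht : ∀ b, Y.proj (t b) = algebraMap B C b := by
      intro b
      have h : (sb b).1 ∈ AlgHom.equalizer (Y.proj.comp (AlgHom.fst A Y.E B))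
          ((IsScalarTower.toAlgHom A B C).comp (AlgHom.snd A Y.E B)) := (sb b).2
      rw [AlgHom.mem_equalizer] at h
      have h' : Y.proj (sb b).1.1 = algebraMap B C (sb b).1.2 := h
      rw [hsnd] at h'
      exact h'
    let algB : Algebra B Y.E := t.toRingHom.toAlgebra
    have halg : ∀ b, algebraMap B Y.E b = t b := fun b => rfl
    let X : Exal.Ext B C L :=
      { E := Y.E
        commRing := inferInstance
        algebra := algB
        proj :=
          { toFun := Y.proj
            map_one' := map_one Y.proj
            map_mul' := map_mul Y.proj
            map_zero' := map_zero Y.proj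
            map_add' := map_add Y.proj
            commutes' := fun b => ht b }
        incl := Y.incl
        isExtension :=
          { proj_surjective := Y.isExtension.proj_surjective
            incl_injective := Y.isExtension.incl_injective
            exact := Y.isExtension.exact
            mul_incl := Y.isExtension.mul_incl } }
    refine ⟨X, ⟨?_⟩⟩
    let e0 : (X.restrictBase A).E ≃+* Y.E := RingEquiv.refl Y.E
    refine { toAlgEquiv := AlgEquiv.ofRingEquiv (f := e0) ?_
             proj_apply := fun x => rfl
             apply_incl := fun z => rfl }
    intro a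
    show t (algebraMap A B a) = algebraMap A Y.E a
    exact t.commutes a
  · rintro ⟨X, ⟨e⟩⟩
    let t0 : B →+* Y.E := (e.toAlgEquiv : (X.restrictBase A).E →+* Y.E).comp (algebraMap B X.E)
    have ht0 : ∀ b, t0 b = e.toAlgEquiv (algebraMap B X.E b) := fun b => rfl
    let t : B →ₐ[A] Y.E :=
      { toFun := t0
        map_one' := map_one t0
        map_mul' := map_mul t0
        map_zero' := map_zero t0
        map_add' := map_add t0
        commutes' := by
          intro a
          rw [ht0]
          have : algebraMap B X.E (algebraMap A B a) = algebraMap A (X.restrictBase A).E a := rfl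
          rw [this, AlgEquiv.commutes] }
    have htp : ∀ b, Y.proj (t b) = algebraMap B C b := by
      intro b
      show Y.proj (e.toAlgEquiv (algebraMap B X.E b)) = _
      rw [e.proj_apply]
      show X.proj (algebraMap B X.E b) = _
      rw [AlgHom.commutes]
    refine ⟨AlgHom.codRestrict (AlgHom.prod t (AlgHom.id A B)) _ ?_, ?_⟩
    · intro b
      show _ ∈ AlgHom.equalizer _ _
      rw [AlgHom.mem_equalizer]
      simp only [AlgHom.comp_apply, AlgHom.fst_apply, AlgHom.snd_apply, AlgHom.prod_apply,
        AlgHom.id_apply]
      exact htp b
    · intro b
      rfl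

end Groth.Agent.S5819
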