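import Groth.Statements.S5825
import Mathlib.Topology.Algebra.Group.Basic
import Mathlib.Topology.DenseEmbedding
import Mathlib.Algebra.Algebra.Operations

set_option autoImplicit false
universe u v w
open EGA41

namespace Groth.Agent.S5825

/-- Let A be a topological ring, M, N topological A-modules with the topologies deduced from that of A,
and u : M → N a continuous linear map with dense image (a formal epimorphism). Then u is a formal
bimorphism (dense image and inducing) if and only if, for every open ideal J of A, the induced map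
M/JM → N/JN is bijective (injectivity and surjectivity are written out elementwise). -/
theorem result {A : Type u} {M : Type v} {N : Type w} [CommRing A]
    [TopologicalSpace A] [AddCommGroup M] [Module A M] [TopologicalSpace M] [AddCommGroup N] [Module A N]
    [TopologicalSpace N] (hM : TopMod.IsDeduced A M) (hN : TopMod.IsDeduced A N) (u : M →L[A] N)
    (hu : DenseRange u) :
    IsDenseInducing u ↔
      ∀ J : Ideal A, IsOpen (J : Set A) →
        (∀ x : M, u x ∈ (J • ⊤ : Submodule A N) → x ∈ (J • ⊤ : Submodule A M)) ∧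
          ∀ y : N, ∃ x : M, y - u x ∈ (J • ⊤ : Submodule A N) := by
  have hMg := hM.1
  have hNg := hN.1
  have hdense : ∀ J : Ideal A, IsOpen (J : Set A) → ∀ y : N, ∃ x : M, y - u x ∈ (J • ⊤ : Submodule A N) := by
    intro J hJ y
    have hnb : ((J • ⊤ : Submodule A N) : Set N) ∈ nhds (0 : N) := hN.2.mem_of_mem hJ
    have hc : Filter.Tendsto (fun n : N => y - n) (nhds y) (nhds (0 : N)) := by
      have : Continuous (fun n : N => y - n) := continuous_const.sub continuous_id
      have h2 := this.tendsto y
      rwa [sub_self] at h2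
    have h3 : (fun n : N => y - n) ⁻¹' ((J • ⊤ : Submodule A N) : Set N) ∈ nhds y := hc hnb
    obtain ⟨_, hz, ⟨x, rfl⟩⟩ := mem_closure_iff_nhds.mp (hu y) _ h3
    exact ⟨x, hz⟩
  have hmap : ∀ (J : Ideal A) (x : M), x ∈ (J • ⊤ : Submodule A M) → u x ∈ (J • ⊤ : Submodule A N) := by
    intro J x hx
    have h1 : u x ∈ Submodule.map u.toLinearMap (J • ⊤ : Submodule A M) := ⟨x, hx, rfl⟩
    rw [Submodule.map_smul''] at h1
    exact Submodule.smul_mono le_rfl le_top h1
  constructor
  · intro h J hJ
    refine ⟨?_, hdense J hJ⟩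
    have hind : nhds (0 : M) = (nhds (0 : N)).comap u :=
      IsTopologicalAddGroup.isInducing_iff_nhds_zero.mp h.toIsInducing
    have h1 : ((J • ⊤ : Submodule A M) : Set M) ∈ nhds (0 : M) := hM.2.mem_of_mem hJ
    rw [hind, Filter.mem_comap] at h1
    obtain ⟨S, hS, hSJ⟩ := h1
    obtain ⟨J', hJ', hJ'S⟩ := hN.2.mem_iff.mp hS
    let J'' : Ideal A := J' ⊓ J
    have hJ'' : IsOpen (J'' : Set A) := hJ'.inter hJ
    have key : ∀ n ∈ (J • ⊤ : Submodule A N), ∃ m ∈ (J • ⊤ : Submodule A M),
        n - u m ∈ (J'' • ⊤ : Submodule A N) := by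
      intro n hn
      refine Submodule.smul_induction_on hn ?_ ?_
      · intro a ha n _
        obtain ⟨m0, hm0⟩ := hdense J'' hJ'' n
        refine ⟨a • m0, Submodule.smul_mem_smul ha trivial, ?_⟩
        rw [map_smul, ← smul_sub]
        exact Submodule.smul_mem _ a hm0
      · rintro n n' ⟨m, hm, h1⟩ ⟨m', hm', h1'⟩
        refine ⟨m + m', Submodule.add_mem _ hm hm', ?_⟩
        rw [map_add]
        have : n + n' - (u m + u m') = (n - u m) + (n' - u m') := by abel
        rw [this]
        exact Submodule.add_mem _ h1 h1'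
    intro x hx
    obtain ⟨m, hm, h2⟩ := key (u x) hx
    have h3 : u (x - m) ∈ (J' • ⊤ : Submodule A N) := by
      rw [map_sub]
      exact Submodule.smul_mono_left inf_le_left h2
    have h4 : x - m ∈ (J • ⊤ : Submodule A M) := hSJ (hJ'S h3)
    have : x = (x - m) + m := by abel
    rw [this]
    exact Submodule.add_mem _ h4 hm
  · intro h
    refine ⟨?_, hu⟩
    rw [IsTopologicalAddGroup.isInducing_iff_nhds_zero]
    refine hM.2.ext (hN.2.comap u) ?_ ?_
    · intro J hJ
      exact ⟨J, hJ, fun x hx => (h J hJ).1 x hx⟩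
    · intro J hJ
      exact ⟨J, hJ, fun x hx => hmap J x hx⟩

end Groth.Agent.S5825
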