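import Groth.Statements.S5828
import Groth.Agent.Lib.Helper3.ExalAux
import Mathlib.Tactic.LinearCombination
open Groth.Agent.H3.ExalAux

set_option autoImplicit false
universe u v
open EGA41

namespace Groth.Agent.S5828

/-- Commutative case. For an A-extension X of C by a C-module L, with middle ring E, projection p and
inclusion i, the A-derivations D : C → L and the self-equivalences of X correspond under D ↦ (x ↦ x
+ i (D (p x))): every derivation defines a self-equivalence with this formula, and every
self-equivalence is of this form for exactly one derivation. (Bijection of sets; the published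
statement also records compatibility with the group laws.) -/
theorem result {A : Type u} {C L : Type v} [CommRing A] [CommRing C] [Algebra A C]
    [AddCommGroup L] [Module C L] [Module A L] [IsScalarTower A C L] (X : Exal.Ext A C L) :
    (∀ D : Derivation A C L, ∃ e : X.Equiv X, ∀ x : X.E, e.toAlgEquiv x = x + X.incl (D (X.proj x))) ∧
      ∀ e : X.Equiv X, ∃! D : Derivation A C L, ∀ x : X.E, e.toAlgEquiv x = x + X.incl (D (X.proj x)) := by
  constructor
  · intro D
    -- the algebra hom attached to a derivation
    have mk : ∀ D : Derivation A C L, ∃ f : X.E →ₐ[A] X.E, ∀ x, f x = x + X.incl (D (X.proj x)) := by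
      intro D
      refine ⟨{ toFun := fun x => x + X.incl (D (X.proj x))
                map_one' := by simp
                map_mul' := ?_
                map_zero' := by simp
                map_add' := ?_
                commutes' := ?_ }, fun x => rfl⟩
      · intro x y
        simp only [map_mul, Derivation.leibniz, map_add]
        rw [add_mul, mul_add, mul_add, incl_mul_incl, add_zero, X.isExtension.mul_incl, incl_mul]
        abel
      · intro x y
        simp only [map_add]
        abel
      · intro a
        simp
    obtain ⟨f, hf⟩ := mk D
    obtain ⟨g, hg⟩ := mk (-D)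
    have hpf : ∀ x, X.proj (f x) = X.proj x := by
      intro x; rw [hf, map_add, proj_incl, add_zero]
    have hpg : ∀ x, X.proj (g x) = X.proj x := by
      intro x; rw [hg, map_add, proj_incl, add_zero]
    have hfg : f.comp g = AlgHom.id A X.E := by
      ext x
      rw [AlgHom.comp_apply, hf, hpg, hg, AlgHom.id_apply, Derivation.neg_apply, map_neg]
      abel
    have hgf : g.comp f = AlgHom.id A X.E := by
      ext x
      rw [AlgHom.comp_apply, hg, hpf, hf, AlgHom.id_apply, Derivation.neg_apply, map_neg]
      abel
    refine ⟨{ toAlgEquiv := AlgEquiv.ofAlgHom f g hfg hgf
              proj_apply := ?_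
              apply_incl := ?_ }, fun x => hf x⟩
    · intro x
      show X.proj (f x) = _
      rw [hf, map_add, proj_incl, add_zero]
    · intro z
      show f (X.incl z) = _
      rw [hf, proj_incl, map_zero, map_zero, add_zero]
  · intro e
    have hproj : ∀ x : X.E, X.proj (e.toAlgEquiv x - x) = 0 := by
      intro x
      rw [map_sub, e.proj_apply, sub_self]
    -- the function on E
    let δ : X.E → L := fun x => X.kerLift (e.toAlgEquiv x - x) (hproj x)
    have hδ : ∀ x, X.incl (δ x) = e.toAlgEquiv x - x := fun x => X.incl_kerLift _ _
    have hδwd : ∀ x y, X.proj x = X.proj y → δ x = δ y := by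
      intro x y hxy
      apply X.isExtension.incl_injective
      rw [hδ, hδ]
      obtain ⟨z, hz⟩ := exists_incl_eq_sub X hxy
      have : x = y + X.incl z := by rw [hz]; abel
      rw [this, map_add, e.apply_incl]
      abel
    let sec : C → X.E := fun c => (X.isExtension.proj_surjective c).choose
    have hsec : ∀ c, X.proj (sec c) = c := fun c => (X.isExtension.proj_surjective c).choose_spec
    let D0 : C → L := fun c => δ (sec c)
    have hD0 : ∀ x, D0 (X.proj x) = δ x := fun x => hδwd _ _ (hsec _)
    have hform : ∀ x, e.toAlgEquiv x = x + X.incl (D0 (X.proj x)) := by
      intro x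
      rw [hD0, hδ]; abel
    have hadd : ∀ c c', D0 (c + c') = D0 c + D0 c' := by
      intro c c'
      apply X.isExtension.incl_injective
      have h1 := hform (sec c + sec c')
      rw [map_add, hform, hform, map_add, hsec, hsec] at h1
      rw [map_add]
      linear_combination (-1 : X.E) * h1
    have hmul : ∀ c c', D0 (c * c') = c • D0 c' + c' • D0 c := by
      intro c c'
      apply X.isExtension.incl_injective
      have h1 := hform (sec c * sec c')
      rw [map_mul, hform, hform, map_mul, hsec, hsec, add_mul, mul_add, mul_add, incl_mul_incl,
        add_zero, X.isExtension.mul_incl, incl_mul, hsec, hsec] at h1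
      rw [map_add]
      linear_combination (-1 : X.E) * h1
    have hsmul : ∀ (a : A) c, D0 (a • c) = a • D0 c := by
      intro a c
      apply X.isExtension.incl_injective
      have h1 := hform (a • sec c)
      rw [map_smul, hform, map_smul, hsec, smul_add, smul_incl] at h1
      linear_combination (-1 : X.E) * h1
    let Dl : C →ₗ[A] L := { toFun := D0, map_add' := hadd, map_smul' := hsmul }
    refine ⟨Derivation.mk' Dl hmul, hform, ?_⟩
    intro D' hD'
    ext c
    apply X.isExtension.incl_injective
    have h1 := hform (sec c)
    rw [hD' (sec c), hsec] at h1
    exact add_left_cancel h1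

end Groth.Agent.S5828
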