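import Groth.Statements.S5831
import Mathlib.RingTheory.Smooth.Basic
import Mathlib.RingTheory.Ideal.Cotangent
import Mathlib.Tactic.LinearCombination

set_option autoImplicit false
universe u
open EGA41

namespace Groth.Agent.S5831

/-- Discrete case. Let B be an A-algebra which is a projective A-module (A and B in one universe). If
for every B-module L in that universe every A-bilinear symmetric Hochschild 2-cocycle B × B → L is a
coboundary, then B is formally smooth over A. (The published statement assumes B formally projective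
as a topological A-module; for discrete rings this is projectivity.) -/
theorem result {A B : Type u} [CommRing A]
    [CommRing B] [Algebra A B] [Module.Projective A B]
    (h : ∀ (L : Type u) [AddCommGroup L] [Module B L] [Module A L] [IsScalarTower A B L]
      (f : B →ₗ[A] B →ₗ[A] L), (∀ x y : B, f x y = f y x) →
        (∀ x y z : B, f (x * y) z + z • f x y = x • f y z + f x (y * z)) →
          ∃ g : B →ₗ[A] L, ∀ x y : B, f x y = x • g y - g (x * y) + y • g x) :
    Algebra.FormallySmooth A B := by
  rw [Algebra.FormallySmooth.iff_comp_surjective]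
  intro C _ _ I hI u₀
  obtain ⟨σ, hσ⟩ := Module.projective_lifting_property (Ideal.Quotient.mkₐ A I).toLinearMap
    u₀.toLinearMap Ideal.Quotient.mk_surjective
  have hσ' : ∀ b, Ideal.Quotient.mk I (σ b) = u₀ b := fun b => LinearMap.congr_fun hσ b
  let instB : Module B I.Cotangent := Module.compHom I.Cotangent (u₀ : B →+* C ⧸ I)
  have hBsmul : ∀ (b : B) (z : I.Cotangent), b • z = σ b • z := by
    intro b z
    show u₀ b • z = σ b • z
    rw [← hσ']
    exact IsScalarTower.algebraMap_smul (C ⧸ I) (σ b) z
  have hAsmul : ∀ (a : A) (z : I.Cotangent), a • z = algebraMap A C a • z :=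
    fun a z => (algebraMap_smul C a z).symm
  have tower : IsScalarTower A B I.Cotangent := ⟨fun a b z => by
    show u₀ (a • b) • z = a • (u₀ b • z)
    rw [Algebra.smul_def, map_mul, mul_smul, AlgHom.commutes, hAsmul]
    exact IsScalarTower.algebraMap_smul (C ⧸ I) (algebraMap A C a) (u₀ b • z)⟩
  have hbij : Function.Bijective I.toCotangent := by
    refine ⟨?_, I.toCotangent_surjective⟩
    rw [injective_iff_map_eq_zero]
    intro x hx
    rw [Ideal.toCotangent_eq_zero, hI] at hx
    exact Subtype.ext hx
  let τ : I ≃ₗ[C] I.Cotangent := LinearEquiv.ofBijective I.toCotangent hbij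
  have hmem : ∀ x y, σ x * σ y - σ (x * y) ∈ I := by
    intro x y
    rw [← Ideal.Quotient.eq_zero_iff_mem, map_sub, map_mul, hσ', hσ', hσ', map_mul, sub_self]
  let F : B → B → I := fun x y => ⟨σ x * σ y - σ (x * y), hmem x y⟩
  have hF : ∀ x y, ((F x y : I) : C) = σ x * σ y - σ (x * y) := fun x y => rfl
  have hFadd1 : ∀ x x' y, F (x + x') y = F x y + F x' y := by
    intro x x' y
    apply Subtype.ext
    rw [Submodule.coe_add, hF, hF, hF, add_mul, map_add, map_add, add_mul]
    ring
  have hFadd2 : ∀ x y y', F x (y + y') = F x y + F x y' := by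
    intro x y y'
    apply Subtype.ext
    rw [Submodule.coe_add, hF, hF, hF, mul_add, map_add, map_add, mul_add]
    ring
  have hFsmul1 : ∀ (a : A) x y, F (a • x) y = algebraMap A C a • F x y := by
    intro a x y
    apply Subtype.ext
    rw [Submodule.coe_smul, hF, hF, smul_mul_assoc, map_smul, map_smul, smul_eq_mul, Algebra.smul_def,
      Algebra.smul_def]
    ring
  have hFsmul2 : ∀ (a : A) x y, F x (a • y) = algebraMap A C a • F x y := by
    intro a x y
    apply Subtype.ext
    rw [Submodule.coe_smul, hF, hF, mul_smul_comm, map_smul, map_smul, smul_eq_mul, Algebra.smul_def,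
      Algebra.smul_def]
    ring
  let f : B →ₗ[A] B →ₗ[A] I.Cotangent :=
    LinearMap.mk₂ A (fun x y => τ (F x y))
      (fun x x' y => by rw [hFadd1, map_add])
      (fun a x y => by rw [hFsmul1, map_smul, hAsmul])
      (fun x y y' => by rw [hFadd2, map_add])
      (fun a x y => by rw [hFsmul2, map_smul, hAsmul])
  have hf : ∀ x y, f x y = τ (F x y) := fun x y => rfl
  have hsymm : ∀ x y : B, f x y = f y x := by
    intro x y
    rw [hf, hf]
    congr 1
    apply Subtype.ext
    rw [hF, hF, mul_comm x y, mul_comm (σ x)]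
  have hcoc : ∀ x y z : B, f (x * y) z + z • f x y = x • f y z + f x (y * z) := by
    intro x y z
    rw [hf, hf, hf, hf, hBsmul, hBsmul, ← map_smul, ← map_smul, ← map_add, ← map_add]
    congr 1
    apply Subtype.ext
    rw [Submodule.coe_add, Submodule.coe_add, Submodule.coe_smul, Submodule.coe_smul, hF, hF, hF, hF,
      smul_eq_mul, smul_eq_mul, mul_assoc x y z]
    ring
  obtain ⟨g, hg⟩ := h I.Cotangent f hsymm hcoc
  let γ : B →ₗ[A] C :=
    { toFun := fun b => ((τ.symm (g b) : I) : C)
      map_add' := fun b b' => by rw [map_add, map_add, Submodule.coe_add]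
      map_smul' := fun a b => by
        rw [map_smul, hAsmul, map_smul, Submodule.coe_smul, smul_eq_mul, RingHom.id_apply,
          Algebra.smul_def] }
  have hγ : ∀ b, γ b = ((τ.symm (g b) : I) : C) := fun b => rfl
  have hγI : ∀ b, γ b ∈ I := fun b => (τ.symm (g b)).2
  have hγγ : ∀ b b', γ b * γ b' = 0 := by
    intro b b'
    have : γ b * γ b' ∈ I ^ 2 := by
      rw [pow_two]; exact Ideal.mul_mem_mul (hγI b) (hγI b')
    rw [hI] at this
    exact this
  have key : ∀ x y, σ x * σ y - σ (x * y) = σ x * γ y - γ (x * y) + σ y * γ x := by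
    intro x y
    have h1 := hg x y
    rw [hf, hBsmul, hBsmul] at h1
    have h2 := congrArg (fun w => ((τ.symm w : I) : C)) h1
    simp only [LinearEquiv.symm_apply_apply, map_add, map_sub, map_smul, Submodule.coe_add,
      Submodule.coe_sub, Submodule.coe_smul, smul_eq_mul] at h2
    rw [hF] at h2
    exact h2
  let v0 : B →ₗ[A] C := σ - γ
  have hv0 : ∀ b, v0 b = σ b - γ b := fun b => rfl
  have hmul : ∀ x y, v0 (x * y) = v0 x * v0 y := by
    intro x y
    rw [hv0, hv0, hv0]
    have := key x y
    have h3 := hγγ x y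
    linear_combination (-1 : C) * this - h3
  have hmk : ∀ b, Ideal.Quotient.mk I (v0 b) = u₀ b := by
    intro b
    rw [hv0, map_sub, hσ', Ideal.Quotient.eq_zero_iff_mem.mpr (hγI b), sub_zero]
  have hone : v0 1 = 1 := by
    have h1 : v0 1 * v0 1 = v0 1 := by rw [← hmul, mul_one]
    have h2 : v0 1 - 1 ∈ I := by
      rw [← Ideal.Quotient.eq_zero_iff_mem, map_sub, hmk, map_one, map_one, sub_self]
    have h3 : (v0 1 - 1) * (v0 1 - 1) = 0 := by
      have : (v0 1 - 1) * (v0 1 - 1) ∈ I ^ 2 := by
        rw [pow_two]; exact Ideal.mul_mem_mul h2 h2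
      rw [hI] at this
      exact this
    linear_combination h1 - h3
  refine ⟨AlgHom.ofLinearMap v0 hone hmul, ?_⟩
  ext b
  exact hmk b

end Groth.Agent.S5831
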