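import Groth.Statements.S5832
import Groth.Agent.Lib.Helper3.ExalAux
open Groth.Agent.H3.ExalAux
attribute [local instance] Exal.opModule Exal.isCentralScalar_opModule

set_option autoImplicit false
universe u u' v
open EGA41

namespace Groth.Agent.S5832

/-- Surjectivity at the end of the sequence. For ring maps Λ → A → B → C and a C-module L, every
Λ-trivial A-extension of B by L is equivalent to the inverse image along B → C of a Λ-trivial
A-extension of C by L. (Exactness at the other places is that of the six-term derivation-extension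
sequence restricted to Λ-trivial classes.) -/
theorem result {Λ : Type u} {A : Type u'} {B C L : Type v}
    [CommRing Λ] [CommRing A] [CommRing B] [CommRing C] [Algebra Λ A] [Algebra Λ B] [Algebra Λ C]
    [Algebra A B] [Algebra B C] [Algebra A C] [IsScalarTower Λ A B] [IsScalarTower Λ A C] [IsScalarTower A B C]
    [AddCommGroup L] [Module C L] [Module B L] [IsScalarTower B C L]
    (Y : Exal.Ext A B L) (hY : Y.IsTrivialOver Λ) :
    ∃ X : Exal.Ext A C L, X.IsTrivialOver Λ ∧ Nonempty ((X.pullback B).Equiv Y) := by
  obtain ⟨s, hs⟩ := hY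
  let s' : B →+* Y.E := s.toRingHom
  have hs' : ∀ b, Y.proj (s' b) = b := hs
  have hsΛ : ∀ l : Λ, s' (algebraMap Λ B l) = algebraMap A Y.E (algebraMap Λ A l) := fun l => s.commutes l
  have hker : ∀ a : A, Y.proj (algebraMap A Y.E a - s' (algebraMap A B a)) = 0 := by
    intro a
    rw [map_sub, hs', AlgHom.commutes, sub_self]
  let d : A → L := fun a => Y.kerLift _ (hker a)
  have hd : ∀ a, Y.incl (d a) = algebraMap A Y.E a - s' (algebraMap A B a) := fun a => Y.incl_kerLift _ _
  have hdadd : ∀ a a', d (a + a') = d a + d a' := by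
    intro a a'
    apply Y.isExtension.incl_injective
    rw [map_add, hd, hd, hd, map_add, map_add, map_add]
    abel
  have hdmul : ∀ a a', d (a * a') = algebraMap A B a • d a' + algebraMap A B a' • d a := by
    intro a a'
    apply Y.isExtension.incl_injective
    have e1 : Y.incl (algebraMap A B a • d a') = s' (algebraMap A B a) * Y.incl (d a') := by
      rw [Y.isExtension.mul_incl, hs']
    have e2 : Y.incl (algebraMap A B a' • d a) = Y.incl (d a) * algebraMap A Y.E a' := by
      rw [incl_mul, AlgHom.commutes]
    rw [map_add, e1, e2, hd, hd, hd, map_mul, map_mul, map_mul]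
    ring
  have hd1 : d 1 = 0 := by
    apply Y.isExtension.incl_injective
    rw [hd, map_one, map_one, map_one, sub_self, map_zero]
  have hd0 : d 0 = 0 := by
    apply Y.isExtension.incl_injective
    rw [hd, map_zero, map_zero, map_zero, sub_self, map_zero]
  have hdΛ : ∀ l : Λ, d (algebraMap Λ A l) = 0 := by
    intro l
    apply Y.isExtension.incl_injective
    rw [hd, ← IsScalarTower.algebraMap_apply Λ A B, hsΛ, sub_self, map_zero]
  let φ : A →+* TrivSqZeroExt C L :=
    { toFun := fun a => TrivSqZeroExt.inl (algebraMap A C a) + TrivSqZeroExt.inr (d a)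
      map_one' := by rw [hd1, map_one, TrivSqZeroExt.inr_zero, add_zero, TrivSqZeroExt.inl_one]
      map_mul' := by
        intro a a'
        apply TrivSqZeroExt.ext
        · simp
        · simp only [TrivSqZeroExt.snd_add, TrivSqZeroExt.snd_inl, TrivSqZeroExt.snd_inr, zero_add,
            TrivSqZeroExt.snd_mul, TrivSqZeroExt.fst_add, TrivSqZeroExt.fst_inl, TrivSqZeroExt.fst_inr,
            add_zero, op_smul_eq_smul]
          rw [hdmul, IsScalarTower.algebraMap_apply A B C, IsScalarTower.algebraMap_apply A B C a',
            IsScalarTower.algebraMap_smul C (algebraMap A B a) (d a'),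
            IsScalarTower.algebraMap_smul C (algebraMap A B a') (d a)]
      map_zero' := by rw [hd0, map_zero, TrivSqZeroExt.inl_zero, TrivSqZeroExt.inr_zero, add_zero]
      map_add' := by
        intro a a'
        rw [hdadd, map_add, TrivSqZeroExt.inl_add, TrivSqZeroExt.inr_add]
        abel }
  have hφ : ∀ a, TrivSqZeroExt.fst (φ a) = algebraMap A C a := by
    intro a
    show TrivSqZeroExt.fst (TrivSqZeroExt.inl (algebraMap A C a) + TrivSqZeroExt.inr (d a) : TrivSqZeroExt C L) = _
    rw [TrivSqZeroExt.fst_add, TrivSqZeroExt.fst_inl, TrivSqZeroExt.fst_inr, add_zero]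
  let X : Exal.Ext A C L := twist φ hφ
  refine ⟨X, ?_, ?_⟩
  · -- Λ-trivial
    let inlH : C →+* X.E := TrivSqZeroExt.inlHom C L
    let t : C →ₐ[Λ] (X.restrictBase Λ).E :=
      { toFun := inlH
        map_one' := map_one inlH
        map_mul' := map_mul inlH
        map_zero' := map_zero inlH
        map_add' := map_add inlH
        commutes' := by
          intro l
          show (TrivSqZeroExt.inl (algebraMap Λ C l) : TrivSqZeroExt C L) =
            TrivSqZeroExt.inl (algebraMap A C (algebraMap Λ A l)) + TrivSqZeroExt.inr (d (algebraMap Λ A l))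
          rw [hdΛ, TrivSqZeroExt.inr_zero, add_zero, ← IsScalarTower.algebraMap_apply Λ A C] }
    exact ⟨t, fun c => rfl⟩
  · -- the equivalence
    have hmem : ∀ w : ↥(X.fiberProd B), TrivSqZeroExt.fst (w.1.1 : TrivSqZeroExt C L) =
        algebraMap B C w.1.2 := by
      intro w
      have h : w.1 ∈ AlgHom.equalizer (X.proj.comp (AlgHom.fst A X.E B))
          ((IsScalarTower.toAlgHom A B C).comp (AlgHom.snd A X.E B)) := w.2
      rw [AlgHom.mem_equalizer] at h
      exact h
    let g0 : ↥(X.fiberProd B) → Y.E := fun w =>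
      s' w.1.2 + Y.incl (TrivSqZeroExt.snd (w.1.1 : TrivSqZeroExt C L))
    have hg0p : ∀ w, Y.proj (g0 w) = w.1.2 := by
      intro w
      show Y.proj (s' _ + Y.incl _) = _
      rw [map_add, hs', proj_incl, add_zero]
    let g : ↥(X.fiberProd B) →ₐ[A] Y.E :=
      { toFun := g0
        map_one' := by
          show s' (1 : B) + Y.incl (TrivSqZeroExt.snd (1 : TrivSqZeroExt C L)) = 1
          rw [TrivSqZeroExt.snd_one, map_one, map_zero, add_zero]
        map_mul' := by
          intro w w'
          have key : TrivSqZeroExt.snd ((w * w' : ↥(X.fiberProd B)).1.1 : TrivSqZeroExt C L) =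
              w.1.2 • TrivSqZeroExt.snd (w'.1.1 : TrivSqZeroExt C L) +
              w'.1.2 • TrivSqZeroExt.snd (w.1.1 : TrivSqZeroExt C L) := by
            have h0 : TrivSqZeroExt.snd ((w.1.1 : TrivSqZeroExt C L) * (w'.1.1 : TrivSqZeroExt C L)) = _ :=
              TrivSqZeroExt.snd_mul _ _
            refine h0.trans ?_
            rw [hmem, hmem, op_smul_eq_smul, algebraMap_smul, algebraMap_smul]
          show s' (w.1.2 * w'.1.2) + Y.incl (TrivSqZeroExt.snd ((w * w' : ↥(X.fiberProd B)).1.1 : TrivSqZeroExt C L)) =
            (s' w.1.2 + Y.incl (TrivSqZeroExt.snd (w.1.1 : TrivSqZeroExt C L))) *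
            (s' w'.1.2 + Y.incl (TrivSqZeroExt.snd (w'.1.1 : TrivSqZeroExt C L)))
          rw [key, map_mul, map_add, add_mul,
            mul_add, mul_add, incl_mul_incl, add_zero, Y.isExtension.mul_incl, incl_mul, hs', hs']
          abel
        map_zero' := by
          show s' (0 : B) + Y.incl (TrivSqZeroExt.snd (0 : TrivSqZeroExt C L)) = 0
          rw [TrivSqZeroExt.snd_zero, map_zero, map_zero, add_zero]
        map_add' := by
          intro w w'
          have key : TrivSqZeroExt.snd ((w + w' : ↥(X.fiberProd B)).1.1 : TrivSqZeroExt C L) =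
              TrivSqZeroExt.snd (w.1.1 : TrivSqZeroExt C L) +
              TrivSqZeroExt.snd (w'.1.1 : TrivSqZeroExt C L) := by
            have h0 : TrivSqZeroExt.snd ((w.1.1 : TrivSqZeroExt C L) + (w'.1.1 : TrivSqZeroExt C L)) = _ :=
              TrivSqZeroExt.snd_add _ _
            exact h0
          show s' (w.1.2 + w'.1.2) + Y.incl (TrivSqZeroExt.snd ((w + w' : ↥(X.fiberProd B)).1.1 : TrivSqZeroExt C L)) =
            (s' w.1.2 + Y.incl (TrivSqZeroExt.snd (w.1.1 : TrivSqZeroExt C L))) +
            (s' w'.1.2 + Y.incl (TrivSqZeroExt.snd (w'.1.1 : TrivSqZeroExt C L)))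
          rw [key, map_add, map_add]
          abel
        commutes' := by
          intro a
          show s' (algebraMap A B a) + Y.incl (TrivSqZeroExt.snd
            (TrivSqZeroExt.inl (algebraMap A C a) + TrivSqZeroExt.inr (d a) : TrivSqZeroExt C L)) = _
          rw [TrivSqZeroExt.snd_add, TrivSqZeroExt.snd_inl, TrivSqZeroExt.snd_inr, zero_add, hd]
          abel }
    have hginj : Function.Injective g := by
      rw [injective_iff_map_eq_zero]
      intro w hw
      have h1 : w.1.2 = 0 := by
        rw [← hg0p w]
        show Y.proj (g w) = 0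
        rw [hw, map_zero]
      have h2 : Y.incl (TrivSqZeroExt.snd (w.1.1 : TrivSqZeroExt C L)) = 0 := by
        have : g0 w = 0 := hw
        simp only [g0, h1, map_zero, zero_add] at this
        exact this
      have h3 : TrivSqZeroExt.snd (w.1.1 : TrivSqZeroExt C L) = 0 :=
        Y.isExtension.incl_injective (by rw [h2, map_zero])
      have h4 : TrivSqZeroExt.fst (w.1.1 : TrivSqZeroExt C L) = 0 := by
        rw [hmem, h1, map_zero]
      apply Subtype.ext
      apply Prod.ext
      · exact TrivSqZeroExt.ext h4 h3
      · exact h1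
    have hgsurj : Function.Surjective g := by
      intro y
      have hk : Y.proj (y - s' (Y.proj y)) = 0 := by rw [map_sub, hs', sub_self]
      let t : TrivSqZeroExt C L :=
        TrivSqZeroExt.inl (algebraMap B C (Y.proj y)) + TrivSqZeroExt.inr (Y.kerLift _ hk)
      have ht1 : TrivSqZeroExt.fst t = algebraMap B C (Y.proj y) := by
        simp [t]
      have ht2 : TrivSqZeroExt.snd t = Y.kerLift _ hk := by
        simp [t]
      refine ⟨⟨((t : X.E), Y.proj y), ?_⟩, ?_⟩
      · show _ ∈ AlgHom.equalizer _ _
        rw [AlgHom.mem_equalizer]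
        exact ht1
      · show s' (Y.proj y) + Y.incl (TrivSqZeroExt.snd t) = y
        rw [ht2, Y.incl_kerLift]
        abel
    let ge : ↥(X.fiberProd B) ≃ₐ[A] Y.E := AlgEquiv.ofBijective g ⟨hginj, hgsurj⟩
    refine ⟨{ toAlgEquiv := ge
              proj_apply := ?_
              apply_incl := ?_ }⟩
    · intro w
      exact hg0p w
    · intro z
      show s' (0 : B) + Y.incl (TrivSqZeroExt.snd (TrivSqZeroExt.inr z : TrivSqZeroExt C L)) = Y.incl z
      rw [TrivSqZeroExt.snd_inr, map_zero, zero_add]

end Groth.Agent.S5832
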