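import Groth.Statements.S5857
import Mathlib
import Groth.Agent.Lib.Helper2.DepthRes2
import Groth.Agent.Lib.Helper3.ZClosCover
import Groth.Agent.Lib.Helper3.ZClosNoeth

set_option autoImplicit false
universe u
open ZClos

namespace Groth.Agent.S5857

open CategoryTheory CategoryTheory.Limits AlgebraicGeometry in
/-- For a locally Noetherian scheme X, a subset Z of X stable under specialization and a coherent
O_X-module F whose Z-closure H⁰_{X/Z}(F) is coherent, the stalk of H⁰_{X/Z}(F) at every point of Z
has depth at least 2. -/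
theorem result (X : Scheme.{u}) [IsLocallyNoetherian X] (Z : Set X)
    (hZ : StableUnderSpecialization Z) (F : X.Modules) (hF : Coh.IsCoh F)
    (hH : Coh.IsCoh ((ZClos.H0 Z).obj F)) (x : X) (hx : x ∈ Z) :
    (2 : ℕ∞) ≤ LocCoh.depth (X.presheaf.stalk x) (((ZClos.H0 Z).obj F).presheaf.stalk x) := by
  have hcl := Groth.Agent.H3.ZClosNoeth.isZClosed_H0_obj Z F
  rw [Groth.Agent.H3.ZClosCover.isZClosed_iff_sections_all] at hcl
  let T : ZClos.Cl Z := ⟨⟨closure {x}, isClosed_closure⟩, fun y hy =>
    hZ (specializes_iff_mem_closure.mpr hy) hx⟩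
  refine Groth.Agent.H2.DepthRes.two_le_depth_of_res_bijective _ hH T.U (fun V => hcl T V) x ?_
  intro hxU
  exact hxU (subset_closure (Set.mem_singleton x))

end Groth.Agent.S5857
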