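import Groth.Statements.S5862
import Groth.Agent.Lib.Helper3.PIAux

set_option autoImplicit false
universe u
open RadPt

namespace Groth.Agent.S5862

open CategoryTheory AlgebraicGeometry in
/-- Let f : X → Y and g : Y → Z be morphisms of schemes and y a point of Y. If f is radicial at y (fibre
with at most one point, purely inseparable residue field extension) and g is radicial at g(y), then
g ∘ f is radicial at g(y). Conversely, if f is surjective and g ∘ f is radicial at g(y), then f is
radicial at y and g is radicial at g(y). -/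
theorem result {X Y Z : Scheme.{u}} (f : X ⟶ Y) (g : Y ⟶ Z) (y : Y) :
    (RadPt.IsRadicialAt f y → RadPt.IsRadicialAt g (g y) → RadPt.IsRadicialAt (f ≫ g) (g y)) ∧
      (Surjective f → RadPt.IsRadicialAt (f ≫ g) (g y) →
        RadPt.IsRadicialAt f y ∧ RadPt.IsRadicialAt g (g y)) := by
  have hcomp : ∀ x : X, ((f ≫ g).residueFieldMap x).hom =
      (f.residueFieldMap x).hom.comp (g.residueFieldMap (f x)).hom := by
    intro x
    rw [Scheme.residueFieldMap_comp]
    rfl
  constructor
  · rintro ⟨hf1, hf2⟩ ⟨hg1, hg2⟩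
    have hfy : ∀ x : X, (f ≫ g) x = g y → f x = y := fun x hx => hg1 (f x) y hx rfl
    refine ⟨fun x x' hx hx' => hf1 x x' (hfy x hx) (hfy x' hx'), ?_⟩
    intro x hx
    have h1 := hfy x hx
    subst h1
    rw [hcomp]
    exact (hg2 (f x) rfl).comp (hf2 x rfl)
  · rintro hsurj ⟨h1, h2⟩
    refine ⟨⟨fun x x' hx hx' => h1 x x' (by show g (f x) = g y; rw [hx]) (by show g (f x') = g y; rw [hx']), ?_⟩,
      ⟨?_, ?_⟩⟩
    · intro x hx
      subst hx
      have := h2 x rfl
      rw [hcomp] at this
      exact Groth.Agent.H3.PIAux.pi_of_comp_top this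
    · intro y' y'' hy' hy''
      obtain ⟨x', rfl⟩ := hsurj.surj y'
      obtain ⟨x'', rfl⟩ := hsurj.surj y''
      rw [h1 x' x'' hy' hy'']
    · intro y' hy'
      obtain ⟨x', rfl⟩ := hsurj.surj y'
      have := h2 x' hy'
      rw [hcomp] at this
      exact Groth.Agent.H3.PIAux.pi_of_comp_bot this

end Groth.Agent.S5862
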