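import Groth.Statements.S5913
import Mathlib
import Groth.Agent.Lib.Helper3.CA.GoldmanDomain

set_option autoImplicit false
universe u
open CategoryTheory AlgebraicGeometry
open EGA43

namespace Groth.Agent.S5913

/-- A locally closed embedding into a Jacobson space has Jacobson source. -/
theorem jacobsonSpace_of_isEmbedding_of_isLocallyClosed {X Y : Type*} [TopologicalSpace X]
    [TopologicalSpace Y] [JacobsonSpace Y] (f : X → Y) (hf : Topology.IsEmbedding f)
    (hlc : IsLocallyClosed (Set.range f)) : JacobsonSpace X := by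
  obtain ⟨O, C, hO, hC, hOC⟩ := hlc
  haveI : JacobsonSpace ↥O := JacobsonSpace.of_isOpenEmbedding hO.isOpenEmbedding_subtypeVal
  have hmem : ∀ x, f x ∈ O := fun x => by
    have : f x ∈ Set.range f := ⟨x, rfl⟩
    rw [hOC] at this; exact this.1
  let g : X → ↥O := fun x => ⟨f x, hmem x⟩
  have hg : Topology.IsEmbedding g := by
    refine Topology.IsEmbedding.of_comp ?_ continuous_subtype_val hf
    exact hf.continuous.subtype_mk _
  have hrange : Set.range g = Subtype.val ⁻¹' C := by
    ext ⟨y, hy⟩
    constructor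
    · rintro ⟨x, hx⟩
      have : f x = y := congrArg Subtype.val hx
      have h2 : f x ∈ Set.range f := ⟨x, rfl⟩
      rw [hOC] at h2
      change y ∈ C
      rw [← this]; exact h2.2
    · intro hyC
      have : y ∈ Set.range f := by rw [hOC]; exact ⟨hy, hyC⟩
      obtain ⟨x, rfl⟩ := this
      exact ⟨x, rfl⟩
  have hcl : Topology.IsClosedEmbedding g :=
    ⟨hg, by rw [hrange]; exact hC.preimage continuous_subtype_val⟩
  exact JacobsonSpace.of_isClosedEmbedding hcl

/-- If `{p}` is locally closed in `Spec R`, then `R ⧸ p` becomes a field after inverting one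
nonzero element. -/
theorem exists_isField_away_of_isLocallyClosed (R : Type u) [CommRing R] (p : PrimeSpectrum R)
    (hlc : IsLocallyClosed ({p} : Set (PrimeSpectrum R))) :
    ∃ f : R ⧸ p.asIdeal, f ≠ 0 ∧ IsField (Localization.Away f) := by
  obtain ⟨O, C, hO, hC, hOC⟩ := hlc
  have hpO : p ∈ O := by
    have : p ∈ ({p} : Set _) := rfl
    rw [hOC] at this; exact this.1
  have hpC : p ∈ C := by
    have : p ∈ ({p} : Set _) := rfl
    rw [hOC] at this; exact this.2
  obtain ⟨_, ⟨_, ⟨f, rfl⟩, rfl⟩, hpf, hfO⟩ :=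
    PrimeSpectrum.isBasis_basic_opens.exists_subset_of_mem_open hpO hO
  have key : ∀ q : PrimeSpectrum R, p ≤ q → f ∉ q.asIdeal → q = p := by
    intro q hpq hfq
    have hqC : q ∈ C := by
      have : closure ({p} : Set (PrimeSpectrum R)) ⊆ C := hC.closure_subset_iff.mpr (by simpa using hpC)
      apply this
      rw [← specializes_iff_mem_closure, ← PrimeSpectrum.le_iff_specializes]
      exact hpq
    have : q ∈ ({p} : Set _) := by rw [hOC]; exact ⟨hfO hfq, hqC⟩
    exact this
  let B := R ⧸ p.asIdeal
  let fb : B := Ideal.Quotient.mk _ f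
  have hfb : fb ≠ 0 := by
    intro h
    exact hpf (Ideal.Quotient.eq_zero_iff_mem.mp h)
  have hfield : IsField (Localization.Away fb) := by
    haveI : Nontrivial (Localization.Away fb) := by
      have := IsLocalization.injective (Localization.Away fb) (M := Submonoid.powers fb)
        (powers_le_nonZeroDivisors_of_noZeroDivisors hfb)
      exact this.nontrivial
    rw [Ring.isField_iff_maximal_bot]
    obtain ⟨M, hM⟩ := Ideal.exists_maximal (Localization.Away fb)
    suffices M = ⊥ by rw [← this]; exact hM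
    have hMp : M.IsPrime := hM.isPrime
    let Q : Ideal B := M.comap (algebraMap B (Localization.Away fb))
    have hQp : Q.IsPrime := Ideal.comap_isPrime _ _
    have hfQ : fb ∉ Q := by
      intro h
      have hu : IsUnit (algebraMap B (Localization.Away fb) fb) :=
        IsLocalization.map_units _ (⟨fb, Submonoid.mem_powers _⟩ : Submonoid.powers fb)
      exact hMp.ne_top (Ideal.eq_top_of_isUnit_mem _ h hu)
    let q : PrimeSpectrum R := ⟨Q.comap (Ideal.Quotient.mk p.asIdeal), Ideal.comap_isPrime _ _⟩
    have hpq : p ≤ q := by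
      intro r hr
      change Ideal.Quotient.mk p.asIdeal r ∈ Q
      rw [Ideal.Quotient.eq_zero_iff_mem.mpr hr]
      exact Q.zero_mem
    have hq := key q hpq hfQ
    have hQ0 : Q = ⊥ := by
      rw [eq_bot_iff]
      intro b hb
      obtain ⟨r, rfl⟩ := Ideal.Quotient.mk_surjective b
      have : r ∈ q.asIdeal := hb
      rw [hq] at this
      exact Ideal.Quotient.eq_zero_iff_mem.mpr this
    rw [← IsLocalization.map_under (Submonoid.powers fb) (Localization.Away fb) M]
    change Ideal.map _ Q = ⊥
    rw [hQ0, Ideal.map_bot]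
  exact ⟨fb, hfb, hfield⟩

/-- In the locally Noetherian form: a locally Noetherian scheme X is Jacobson if and only if it has no
subscheme isomorphic to the spectrum of a semi-local integral domain of dimension 1, i.e. there is
no immersion Spec R ⟶ X with R an integral domain having finitely many maximal ideals and Krull
dimension 1. -/
theorem result (X : Scheme.{u}) [IsLocallyNoetherian X] :
    JacobsonSpace X ↔
      ∀ (R : CommRingCat.{u}) [IsDomain R] (i : Spec R ⟶ X) [IsImmersion i],
        ¬ (Finite (MaximalSpectrum R) ∧ ringKrullDim R = 1) := by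
  constructor
  · intro hJ R _ i _ ⟨hfin, hdim⟩
    haveI : IsLocallyNoetherian (Spec R) := LocallyOfFiniteType.isLocallyNoetherian i
    haveI : IsNoetherianRing R := isLocallyNoetherian_Spec.mp ‹_›
    haveI : JacobsonSpace (PrimeSpectrum R) :=
      jacobsonSpace_of_isEmbedding_of_isLocallyClosed i.base i.isEmbedding
        i.isLocallyClosed_range
    have hfinspec : Finite (PrimeSpectrum R) := by
      have h := (Groth.Agent.H3.GoldmanDomain.tfae R).out 2 1
      exact h.mp ⟨hfin, hdim.le⟩
    haveI : DiscreteTopology (PrimeSpectrum R) := inferInstance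
    have hcl : IsClosed ({⟨⊥, Ideal.isPrime_bot⟩} : Set (PrimeSpectrum R)) := isClosed_discrete _
    rw [PrimeSpectrum.isClosed_singleton_iff_isMaximal] at hcl
    have hfield : IsField R := Ring.isField_iff_maximal_bot.mpr hcl
    rw [ringKrullDim_eq_zero_of_isField hfield] at hdim
    exact zero_ne_one hdim
  · intro H
    by_contra hJ
    rw [jacobsonSpace_iff_locallyClosed] at hJ
    push Not at hJ
    obtain ⟨Z, ⟨z₀, hz₀⟩, ⟨O, C, hO, hC, rfl⟩, hZ⟩ := hJ
    have hz₀O : z₀ ∈ O := hz₀.1
    have hz₀C : z₀ ∈ C := hz₀.2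
    obtain ⟨_, ⟨D, hD, rfl⟩, hz₀D, hDO⟩ :=
      X.isBasis_affineOpens.exists_subset_of_mem_open hz₀O hO
    haveI : CompactSpace ↥D := isCompact_iff_compactSpace.mp hD.isCompact
    have hS : IsClosed {d : ↥D | d.1 ∈ C} := hC.preimage continuous_subtype_val
    obtain ⟨d, hdS, hdcl⟩ := hS.exists_closed_singleton ⟨⟨z₀, hz₀D⟩, hz₀C⟩
    have hdO : d.1 ∈ O := hDO d.2
    have hlc : IsLocallyClosed ({d.1} : Set X) := by
      obtain ⟨C'', hC'', hC''d⟩ := isClosed_induced_iff.mp hdcl
      refine ⟨D, C'', D.2, hC'', ?_⟩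
      ext w
      constructor
      · rintro rfl
        refine ⟨d.2, ?_⟩
        have : d ∈ Subtype.val ⁻¹' C'' := by rw [hC''d]; rfl
        exact this
      · rintro ⟨hwD, hwC⟩
        have : (⟨w, hwD⟩ : ↥D) ∈ Subtype.val ⁻¹' C'' := hwC
        rw [hC''d] at this
        exact congrArg Subtype.val this
    have hdncl : ¬ IsClosed ({d.1} : Set X) := by
      intro hcl
      have : (O ∩ C ∩ closedPoints X).Nonempty := ⟨d.1, ⟨hdO, hdS⟩, hcl⟩
      exact (Set.not_nonempty_iff_eq_empty.mpr hZ) this
    obtain ⟨u, hu, hne⟩ : ∃ u ∈ closure ({d.1} : Set X), u ≠ d.1 := by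
      by_contra hcon
      push Not at hcon
      apply hdncl
      rw [← closure_subset_iff_isClosed]
      intro w hw
      exact hcon w hw
    have hsp : d.1 ⤳ u := specializes_iff_mem_closure.mpr hu
    obtain ⟨_, ⟨V, hV, rfl⟩, huV, -⟩ :=
      X.isBasis_affineOpens.exists_subset_of_mem_open (Set.mem_univ u) isOpen_univ
    have hdV : d.1 ∈ V := hsp.mem_open V.2 huV
    haveI : IsNoetherianRing Γ(X, V) := IsLocallyNoetherian.component_noetherian ⟨V, hV⟩
    let e : ↥V ≃ₜ PrimeSpectrum Γ(X, V) := hV.isoSpec.hom.homeomorph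
    let y : ↥V := ⟨d.1, hdV⟩
    let y' : ↥V := ⟨u, huV⟩
    have hy1 : y ⤳ y' := (subtype_specializes_iff y y').mpr hsp
    have hp1 : e y ≤ e y' := (PrimeSpectrum.le_iff_specializes _ _).mpr (hy1.map e.continuous)
    have hlt1 : e y < e y' :=
      lt_of_le_of_ne hp1 (fun h => hne (congrArg Subtype.val (e.injective h)).symm)
    have hlcV : IsLocallyClosed ({y} : Set ↥V) := by
      have := hlc.preimage (continuous_subtype_val : Continuous (Subtype.val : ↥V → X))
      convert this using 1
      ext w
      simp only [Set.mem_singleton_iff, Set.mem_preimage]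
      exact ⟨fun h => by rw [h], fun h => Subtype.ext h⟩
    have hlcp : IsLocallyClosed ({e y} : Set (PrimeSpectrum Γ(X, V))) := by
      have := hlcV.preimage e.symm.continuous
      convert this using 1
      ext q
      simp only [Set.mem_singleton_iff, Set.mem_preimage]
      exact ⟨fun h => by rw [h, e.symm_apply_apply], fun h => by rw [← h, e.apply_symm_apply]⟩
    set p := e y with hp
    have h0 := exists_isField_away_of_isLocallyClosed Γ(X, V) p hlcp
    have h3 := ((Groth.Agent.H3.GoldmanDomain.tfae (Γ(X, V) ⧸ p.asIdeal)).out 0 2).mp h0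
    let R : CommRingCat.{u} := CommRingCat.of (Γ(X, V) ⧸ p.asIdeal)
    let i : Spec R ⟶ X :=
      Spec.map (CommRingCat.ofHom (Ideal.Quotient.mk p.asIdeal)) ≫ hV.fromSpec
    haveI : IsClosedImmersion (Spec.map (CommRingCat.ofHom (Ideal.Quotient.mk p.asIdeal))) :=
      IsClosedImmersion.spec_of_surjective _ Ideal.Quotient.mk_surjective
    haveI : IsImmersion i := inferInstance
    haveI : IsDomain R := inferInstanceAs (IsDomain (Γ(X, V) ⧸ p.asIdeal))
    refine H R i ⟨h3.1, le_antisymm h3.2 ?_⟩
    by_contra hlt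
    rw [not_le] at hlt
    have h00 : ringKrullDim (Γ(X, V) ⧸ p.asIdeal) ≤ 0 := Order.le_of_lt_succ hlt
    haveI : Ring.KrullDimLE 0 (Γ(X, V) ⧸ p.asIdeal) := (Ring.krullDimLE_iff).mpr h00
    have hfield : IsField (Γ(X, V) ⧸ p.asIdeal) := Ring.KrullDimLE.isField_of_isDomain
    have hmax : p.asIdeal.IsMaximal := Ideal.Quotient.maximal_of_isField _ hfield
    have : p.asIdeal = (e y').asIdeal :=
      hmax.eq_of_le (e y').isPrime.ne_top hlt1.le
    exact hlt1.ne (PrimeSpectrum.ext this)

end Groth.Agent.S5913
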