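import Groth.Statements.S5918
import Groth.Agent.Lib.Helper3.ArtFlat.Fam2

set_option autoImplicit false
universe u
open CategoryTheory AlgebraicGeometry
open EGA43

namespace Groth.Agent.S5918

open CategoryTheory.Limits in
/-- Let A be an Artinian local ring, f : X ⟶ Spec A locally of finite type, F a coherent O_X-module and
x a point of X. Let (g_i : Y_i ⟶ Spec A) be a family of A-schemes such that an element of A whose
image in every Γ(Y_i, O_{Y_i}) is zero is itself zero. If, for every i, the pullback of F to X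
×_{Spec A} Y_i is flat over Y_i at every point lying over x, then F is f-flat at x. -/
theorem result {A : Type u} [CommRing A]
    [IsArtinianRing A] [IsLocalRing A] {X : Scheme.{u}} (f : X ⟶ Spec (CommRingCat.of A))
    [LocallyOfFiniteType f] (F : X.Modules) (hF : Coh.IsCoh F) (x : X)
    {ι : Type u} (Y : ι → Scheme.{u}) (g : ∀ i, Y i ⟶ Spec (CommRingCat.of A))
    (hg : ∀ a : A, (∀ i, (g i).appTop ((Scheme.ΓSpecIso (CommRingCat.of A)).inv a) = 0) → a = 0)
    (hflat : ∀ (i : ι) (x' : ↥(pullback f (g i))), pullback.fst f (g i) x' = x →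
      FlatMod.IsFlatOverAt (pullback.snd f (g i)) ((Scheme.Modules.pullback (pullback.fst f (g i))).obj F) x') :
    FlatMod.IsFlatOverAt f F x := by
  classical
  haveI : IsLocallyNoetherian X := LocallyOfFiniteType.isLocallyNoetherian f
  let eA : A ≃+* Γ(Spec (CommRingCat.of A), ⊤) :=
    (Scheme.ΓSpecIso (CommRingCat.of A)).symm.commRingCatIsoToRingEquiv
  haveI : IsLocalRing Γ(Spec (CommRingCat.of A), ⊤) := eA.isLocalRing
  haveI : IsArtinianRing Γ(Spec (CommRingCat.of A), ⊤) := eA.isArtinianRing
  have hnil : IsNilpotent (IsLocalRing.maximalIdeal Γ(Spec (CommRingCat.of A), ⊤)) := by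
    rw [← IsLocalRing.jacobson_eq_maximalIdeal (⊥ : Ideal Γ(Spec (CommRingCat.of A), ⊤)) bot_ne_top]
    exact IsArtinianRing.isNilpotent_jacobson_bot
  refine Groth.Agent.H3.ArtFlat.isFlatOverAt_of_scheme_family f hnil F hF x Y g ?_ hflat
  intro a ha
  have h0 : (Scheme.ΓSpecIso (CommRingCat.of A)).hom a = 0 := by
    apply hg
    intro i
    have h1 : (Scheme.ΓSpecIso (CommRingCat.of A)).inv
        ((Scheme.ΓSpecIso (CommRingCat.of A)).hom a) = a := by
      rw [← CommRingCat.comp_apply, Iso.hom_inv_id]; rfl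
    rw [h1]
    exact ha i
  have h2 := congrArg (Scheme.ΓSpecIso (CommRingCat.of A)).inv h0
  simpa using h2

end Groth.Agent.S5918
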