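import Groth.Statements.S5929
import Groth.Agent.Lib.Helper1.FPKer
import Groth.Agent.Lib.Helper2.FinFreeRes
import Groth.Agent.Lib.Helper9.Flat

set_option autoImplicit false
universe u
open TensorProduct CategoryTheory
open EGA43

namespace Groth.Agent.S5929

open Groth.Agent.H2 in
/-- the step of the recursion -/
lemma step_aux (A B : Type u) [CommRing A] [CommRing B] [Algebra A B]
    [Algebra.FinitePresentation A B] [Module.Flat A B]
    (s : ResRec.Stage B)
    (hs : Module.FinitePresentation B s.K ∧ Module.Flat A s.K) :
    Nonempty (ResRec.Next (fun s : ResRec.Stage B => Module.FinitePresentation B s.K ∧ Module.Flat A s.K)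
      (fun _ _ _ _ _ => True) s) := by
  obtain ⟨hfp, hfl⟩ := hs
  have hfg : s.K.FG := Module.Finite.iff_fg.mp inferInstance
  obtain ⟨m, g, hg⟩ := Submodule.fg_iff_exists_fin_generating_family.1 hfg
  let D : Matrix (Fin s.n) (Fin m) B := Matrix.of (fun a b => g b a)
  have hD : LinearMap.range (Matrix.mulVecLin D) = s.K := by
    rw [Matrix.range_mulVecLin, ← hg]
    congr 1
  let p : (Fin m → B) →ₗ[B] s.K := (Matrix.mulVecLin D).codRestrict s.K (fun v => by
    rw [← hD]; exact ⟨v, rfl⟩)
  have hp : Function.Surjective p := by
    rintro ⟨x, hx⟩
    rw [← hD] at hx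
    obtain ⟨v, rfl⟩ := hx
    exact ⟨v, rfl⟩
  have hker : LinearMap.ker p = LinearMap.ker (Matrix.mulVecLin D) := LinearMap.ker_codRestrict _ _ _
  haveI : Module.Flat A (Fin m → B) := Module.Flat.trans A B (Fin m → B)
  have h1 : Module.FinitePresentation B (LinearMap.ker p) :=
    Groth.Agent.H1.FPKer.finitePresentation_ker (A := A) p hp
  have h2 : Module.Flat A (LinearMap.ker (p.restrictScalars A)) :=
    Groth.Agent.H9.flat_ker_of_surjective (p.restrictScalars A) hp
  have h3 : Module.Flat A (LinearMap.ker p) := by
    refine Module.Flat.of_linearEquiv (M := LinearMap.ker (p.restrictScalars A)) ?_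
    exact
      { toFun := fun x => ⟨x.1, x.2⟩
        invFun := fun x => ⟨x.1, x.2⟩
        map_add' := fun x y => rfl
        map_smul' := fun c x => rfl
        left_inv := fun x => rfl
        right_inv := fun x => rfl }
  refine ⟨⟨m, fun _ => 0, D, hD, trivial, ?_⟩⟩
  change Module.FinitePresentation B (LinearMap.ker (Matrix.mulVecLin D)) ∧
    Module.Flat A (LinearMap.ker (Matrix.mulVecLin D))
  rw [← hker]
  exact ⟨h1, h3⟩

/-- Let A be a commutative ring, B a finitely presented A-algebra which is flat as an A-module, and M a
finitely presented B-module which is flat as an A-module. Then M admits a left resolution by free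
B-modules of finite type: there is a projective resolution of M in the category of B-modules (a
chain complex of projective modules with a quasi-isomorphism to M in degree 0) every term of which
is a finitely generated free B-module. -/
theorem result (A B M : Type u) [CommRing A] [CommRing B] [Algebra A B]
    [Algebra.FinitePresentation A B] [Module.Flat A B] [AddCommGroup M] [Module B M] [Module A M]
    [IsScalarTower A B M] [Module.FinitePresentation B M] [Module.Flat A M] :
    ∃ P : ProjectiveResolution (ModuleCat.of B M),
      ∀ n : ℕ, Module.Finite B (P.complex.X n) ∧ Module.Free B (P.complex.X n) := by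
  obtain ⟨n0, aug0, haug0⟩ := Module.Finite.exists_fin (R := B) (M := M)
  have hsurj : Function.Surjective (Fintype.linearCombination B aug0) := by
    rw [← LinearMap.range_eq_top, Fintype.range_linearCombination, haug0]
  have hInv : Module.FinitePresentation B (LinearMap.ker (Fintype.linearCombination B aug0)) ∧
      Module.Flat A (LinearMap.ker (Fintype.linearCombination B aug0)) := by
    haveI : Module.Flat A (Fin n0 → B) := Module.Flat.trans A B (Fin n0 → B)
    refine ⟨Groth.Agent.H1.FPKer.finitePresentation_ker (A := A) _ hsurj, ?_⟩
    have h2 : Module.Flat A (LinearMap.ker ((Fintype.linearCombination B aug0).restrictScalars A)) :=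
      Groth.Agent.H9.flat_ker_of_surjective
        ((Fintype.linearCombination B aug0).restrictScalars A) hsurj
    refine Module.Flat.of_linearEquiv
      (M := LinearMap.ker ((Fintype.linearCombination B aug0).restrictScalars A)) ?_
    exact
      { toFun := fun x => ⟨x.1, x.2⟩
        invFun := fun x => ⟨x.1, x.2⟩
        map_add' := fun x y => rfl
        map_smul' := fun c x => rfl
        left_inv := fun x => rfl
        right_inv := fun x => rfl }
  obtain ⟨rk, deg, d, aug, h0, hz, hs, -⟩ := Groth.Agent.H2.ResRec.exists_resolution
    (R := B) (Inv := fun s => Module.FinitePresentation B s.K ∧ Module.Flat A s.K)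
    (Good := fun _ _ _ _ _ => True)
    (fun s hs => step_aux A B s hs)
    (fun n _ aug => Function.Surjective (Fintype.linearCombination B aug))
    n0 (fun _ => 0) aug0 hsurj hInv
  let G : Groth.Agent.H2.MatRes B M :=
    { rk := rk, d := d, aug := aug, aug_surjective := h0, exact_zero := hz, exact_succ := hs }
  refine ⟨G.projRes, fun n => ?_⟩
  show Module.Finite B (Fin (G.rk n) → B) ∧ Module.Free B (Fin (G.rk n) → B)
  exact ⟨inferInstance, inferInstance⟩

end Groth.Agent.S5929
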