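import Groth.Statements.S5961
import Groth.Agent.Lib.Helper3.PP11
import Groth.Agent.Lib.Helper3.PP9
import Groth.Agent.Lib.Helper3.OmFrob1
import Groth.Agent.Lib.Helper3.OmUniq

set_option autoImplicit false
universe u
open CategoryTheory CategoryTheory.Limits AlgebraicGeometry TopologicalSpace Opposite
open Nrm16

namespace Groth.Agent.S5961

/-- Let f : X ⟶ S be a morphism of schemes, G an O_X-module and D : O_X ⟶ G a differential operator of
order at most 1 relative to S. Then D can be written in exactly one way as v + d with v : O_X ⟶ G an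
O_X-linear map and d an S-derivation of O_X into G. -/
theorem result {X S : Scheme.{u}} (f : X ⟶ S) (G : X.Modules)
    (D : (Coh.structureModule X).presheaf ⟶ G.presheaf)
    (hD : PrinPart.IsDiffOpLE f (Coh.structureModule X) G 1 D) :
    ∃! p : (Coh.structureModule X ⟶ G) × OmegaSh.Der f G,
      ∀ (U : X.Opens) (a : Γ(X, U)),
        D.app (op U) (OmegaSh.strSect X U a) = p.1.app U (OmegaSh.strSect X U a) + p.2.app U a := by
  obtain ⟨u, hu⟩ := hD
  -- values of `D` through `d^1`
  have hDdn : ∀ (U : X.Opens) (a : Γ(X, U)),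
      D.app (op U) (OmegaSh.strSect X U a) = u.app U (PrinPart.dn f 1 U a) := fun U a => hu U _
  -- naturality of `D`
  have hDnat : ∀ {U V : X.Opens} (i : V ⟶ U) (a : Γ(X, U)),
      D.app (op V) (OmegaSh.strSect X V (X.presheaf.map i.op a)) =
        G.presheaf.map i.op (D.app (op U) (OmegaSh.strSect X U a)) := by
    intro U V i a
    exact congr($(D.naturality i.op) (OmegaSh.strSect X U a))
  -- Leibniz for `D`
  have hDmul : ∀ (U : X.Opens) (a b : Γ(X, U)),
      D.app (op U) (OmegaSh.strSect X U (a * b)) =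
        a • D.app (op U) (OmegaSh.strSect X U b) + b • D.app (op U) (OmegaSh.strSect X U a) -
          (a * b) • D.app (op U) (OmegaSh.strSect X U 1) := by
    intro U a b
    rw [hDdn, hDdn, hDdn, hDdn, Groth.Agent.H3.PP.dn_one_mul, map_sub, map_add, Scheme.Modules.Hom.app_smul,
      Scheme.Modules.Hom.app_smul, Scheme.Modules.Hom.app_smul]
  have hDbase : ∀ (V : S.Opens) (s : Γ(S, V)),
      D.app (op (f ⁻¹ᵁ V)) (OmegaSh.strSect X (f ⁻¹ᵁ V) (f.app V s)) =
        (f.app V s) • D.app (op (f ⁻¹ᵁ V)) (OmegaSh.strSect X (f ⁻¹ᵁ V) 1) := by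
    intro V s
    rw [hDdn, hDdn, Groth.Agent.H3.PP.dn_app_base, Scheme.Modules.Hom.app_smul]
  -- the linear part
  let D1 : ∀ U : X.Opens, Γ(G, U) := fun U => D.app (op U) (OmegaSh.strSect X U 1)
  have hD1 : ∀ U : X.Opens, D1 U = D.app (op U) (OmegaSh.strSect X U 1) := fun U => rfl
  have hD1nat : ∀ {U V : X.Opens} (i : V ⟶ U), D1 V = G.presheaf.map i.op (D1 U) := by
    intro U V i
    have h1 := hDnat i (1 : Γ(X, U))
    rw [map_one] at h1
    exact h1
  let vpre : (Coh.structureModule X).presheaf ⟶ G.presheaf :=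
    { app := fun U => AddCommGrpCat.ofHom
        { toFun := fun a => (OmegaSh.fnSect X U.unop a) • D1 U.unop
          map_zero' := zero_smul Γ(X, U.unop) (D1 U.unop)
          map_add' := fun a b =>
            add_smul (OmegaSh.fnSect X U.unop a) (OmegaSh.fnSect X U.unop b) (D1 U.unop) }
      naturality := fun U V j => by
        ext a
        have hj : j = (homOfLE (leOfHom j.unop)).op := Subsingleton.elim _ _
        change OmegaSh.fnSect X V.unop ((Coh.structureModule X).presheaf.map j a) • D1 V.unop =
          G.presheaf.map j (OmegaSh.fnSect X U.unop a • D1 U.unop)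
        rw [hj, Scheme.Modules.map_smul, hD1nat (homOfLE (leOfHom j.unop))]
        rfl }
  have hvlin : ∀ (U : X.Opens) (a : Γ(X, U)) (t : Γ(Coh.structureModule X, U)),
      vpre.app (op U) (a • t) = a • vpre.app (op U) t := by
    intro U a t
    change OmegaSh.fnSect X U (a • t) • D1 U = a • (OmegaSh.fnSect X U t • D1 U)
    rw [smul_smul]
    rfl
  let v : Coh.structureModule X ⟶ G := Groth.Agent.H3.PP.homOfLinear vpre hvlin
  have hv : ∀ (U : X.Opens) (a : Γ(X, U)),
      v.app U (OmegaSh.strSect X U a) = a • D.app (op U) (OmegaSh.strSect X U 1) := fun U a => rfl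
  -- the derivation part
  let δ : ∀ U : X.Opens, Γ(X, U) →+ Γ(G, U) := fun U =>
    { toFun := fun a => D.app (op U) (OmegaSh.strSect X U a) -
        a • D.app (op U) (OmegaSh.strSect X U 1)
      map_zero' := by rw [map_zero, map_zero, zero_smul, sub_zero]
      map_add' := fun a b => by rw [map_add, map_add, add_smul]; abel }
  have hδ : ∀ (U : X.Opens) (a : Γ(X, U)), δ U a = D.app (op U) (OmegaSh.strSect X U a) -
        a • D.app (op U) (OmegaSh.strSect X U 1) := fun U a => rfl
  let d : OmegaSh.Der f G := Groth.Agent.H3.Om.Der.mk' f G δ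
    (by
      intro U a b
      rw [hδ, hδ, hδ, hDmul, smul_sub, smul_sub, smul_smul, smul_smul, mul_comm b a]
      abel)
    (by
      intro U V i s
      rw [hδ, hδ, hDnat, map_sub, Scheme.Modules.map_smul]
      have h1 := hDnat i (1 : Γ(X, U))
      rw [map_one] at h1
      rw [← h1])
    (by
      intro V s
      rw [hδ, hDbase, sub_self])
  have hd : ∀ (U : X.Opens) (a : Γ(X, U)), d.app U a = δ U a := fun U a => rfl
  refine ⟨(v, d), ?_, ?_⟩
  · intro U a
    change _ = v.app U (OmegaSh.strSect X U a) + d.app U a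
    rw [hv, hd, hδ]
    abel
  · rintro ⟨v', d'⟩ h
    have h' : ∀ (U : X.Opens) (a : Γ(X, U)),
        D.app (op U) (OmegaSh.strSect X U a) = v'.app U (OmegaSh.strSect X U a) + d'.app U a := h
    have hv'1 : ∀ U : X.Opens, v'.app U (OmegaSh.strSect X U 1) =
        D.app (op U) (OmegaSh.strSect X U 1) := by
      intro U
      rw [h' U 1, Groth.Agent.H3.Om.Der.app_one, add_zero]
    have hv'a : ∀ (U : X.Opens) (a : Γ(X, U)), v'.app U (OmegaSh.strSect X U a) =
        a • D.app (op U) (OmegaSh.strSect X U 1) := by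
      intro U a
      have : OmegaSh.strSect X U a = a • OmegaSh.strSect X U 1 := by
        rw [← OmegaSh.strSect_mul, mul_one]
      rw [this, Scheme.Modules.Hom.app_smul, hv'1]
    have e1 : v' = v := by
      apply Scheme.Modules.hom_ext
      intro U
      ext t
      exact (hv'a U t).trans (hv U t).symm
    have e2 : d' = d := by
      apply Groth.Agent.H3.Om.Der.ext'
      intro U a
      have := h' U a
      rw [hv'a] at this
      rw [hd, hδ, this]
      abel
    rw [e1, e2]

end Groth.Agent.S5961
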