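import Groth.Statements.S5972
import Groth.Agent.Lib.Helper3.PP6

set_option autoImplicit false
universe u
open CategoryTheory CategoryTheory.Limits AlgebraicGeometry TopologicalSpace Opposite
open Nrm16

namespace Groth.Agent.S5972

/-- Let A → B be a ring homomorphism, X = Spec B, S = Spec A with f : X ⟶ S the induced morphism, and n
a natural number; identify B with the ring of global functions on X through the canonical
isomorphism. If ψ : B ⊗_A B → Γ(X, P^n_{X/S}) is the additive map with ψ(b ⊗ b') = b · d^n(b') for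
all b, b' in B, then ψ is surjective with kernel the (n+1)-st power of the kernel I of the
multiplication map B ⊗_A B → B. -/
theorem result (A B : Type u) [CommRing A] [CommRing B] [Algebra A B] (n : ℕ)
    (ψ : TensorProduct A B B →+
      Γ(PrinPart.P (Spec.map (CommRingCat.ofHom (algebraMap A B))) n, (⊤ : (Spec (CommRingCat.of B)).Opens)))
    (hψ : ∀ b b' : B, ψ (b ⊗ₜ[A] b') =
      (Scheme.ΓSpecIso (CommRingCat.of B)).inv b •
        PrinPart.dn (Spec.map (CommRingCat.ofHom (algebraMap A B))) n ⊤
          ((Scheme.ΓSpecIso (CommRingCat.of B)).inv b')) :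
    Function.Surjective ψ ∧ ψ.ker = (KaehlerDifferential.ideal A B ^ (n + 1)).toAddSubgroup := by
  have e : (⊤ : (Spec (CommRingCat.of B)).Opens) ≤
      (Spec.map (CommRingCat.ofHom (algebraMap A B))) ⁻¹ᵁ (⊤ : (Spec (CommRingCat.of A)).Opens) :=
    le_rfl
  have hαβ : (Scheme.ΓSpecIso (CommRingCat.of A)).symm.hom ≫
      (Spec.map (CommRingCat.ofHom (algebraMap A B))).appLE ⊤ ⊤ e =
      CommRingCat.ofHom (algebraMap A B) ≫ (Scheme.ΓSpecIso (CommRingCat.of B)).symm.hom := by
    have := Scheme.ΓSpecIso_inv_naturality (CommRingCat.ofHom (algebraMap A B))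
    rw [Iso.symm_hom, Iso.symm_hom, this]
    rfl
  let Ψ := Groth.Agent.H3.PP.psiG (Spec.map (CommRingCat.ofHom (algebraMap A B))) (isAffineOpen_top _) (isAffineOpen_top _) e n
    (Scheme.ΓSpecIso (CommRingCat.of A)).symm (Scheme.ΓSpecIso (CommRingCat.of B)).symm hαβ
  have key : ∀ x : TensorProduct A B B, ψ x = Ψ (Ideal.Quotient.mk _ x) := by
    intro x
    induction x using TensorProduct.induction_on with
    | zero => simp
    | tmul b b' =>
      rw [hψ, Groth.Agent.H3.PP.psiG_mk_tmul]
      rfl
    | add x y hx hy => rw [map_add, hx, hy, map_add, map_add]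
  refine ⟨?_, ?_⟩
  · intro y
    obtain ⟨z, rfl⟩ := Ψ.surjective y
    obtain ⟨x, rfl⟩ := Ideal.Quotient.mk_surjective z
    exact ⟨x, key x⟩
  · ext x
    rw [AddMonoidHom.mem_ker, key]
    constructor
    · intro h
      have h2 : Ideal.Quotient.mk (KaehlerDifferential.ideal A B ^ (n + 1)) x = 0 :=
        Ψ.injective (h.trans (map_zero Ψ).symm)
      exact Ideal.Quotient.eq_zero_iff_mem.mp h2
    · intro h
      have h2 : Ideal.Quotient.mk (KaehlerDifferential.ideal A B ^ (n + 1)) x = 0 :=
        Ideal.Quotient.eq_zero_iff_mem.mpr h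
      rw [h2, map_zero]

end Groth.Agent.S5972
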