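import Groth.Statements.S5973
import Groth.Agent.Lib.Lead.QC.IdealMod
import Groth.Agent.Lib.Lead.QC.Pullback
import Groth.Agent.Lib.Lead.QC.FinType

set_option autoImplicit false
universe u
open CategoryTheory CategoryTheory.Limits AlgebraicGeometry TopologicalSpace Opposite
open Nrm16

namespace Groth.Agent.S5973

/-- Let f : Y ⟶ X be a closed immersion which is locally of finite presentation. Then for every n the
n-th graded piece Gr_n(f) = I^n/I^(n+1) of the ideal of f, as an O_Y-module, is quasi-coherent of
finite type. (The published statement allows any immersion locally of finite presentation; this row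
states the case of a closed immersion.) -/
theorem result {Y X : Scheme.{u}} (f : Y ⟶ X) [IsClosedImmersion f]
    [LocallyOfFinitePresentation f] (n : ℕ) :
    Coh.IsCoh (PrinPart.grMod f n) := by
  have hft : (ClSub.idealMod (f.ker ^ n)).IsFiniteType := by
    apply Groth.Agent.LD.QC.isFiniteType_of_finite_sections
    intro x
    obtain ⟨U, hU, hxU, -⟩ := exists_isAffineOpen_mem_and_subset (x := x) (U := ⊤) trivial
    refine ⟨U, hU, hxU, ?_⟩
    have hfg : (f.ker.ideal ⟨U, hU⟩).FG := by
      rw [Scheme.Hom.ker_apply]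
      letI := (f.app U).hom.toAlgebra
      have hfp : (f.app U).hom.FinitePresentation := by
        rw [Scheme.Hom.app_eq_appLE]
        exact f.finitePresentation_appLE hU (hU.preimage f) le_rfl
      haveI : Algebra.FinitePresentation Γ(X, U) Γ(Y, f ⁻¹ᵁ U) := hfp
      have hs : Function.Surjective (Algebra.ofId Γ(X, U) Γ(Y, f ⁻¹ᵁ U)) := f.app_surjective U hU
      exact Algebra.FinitePresentation.ker_fG_of_surjective (Algebra.ofId Γ(X, U) Γ(Y, f ⁻¹ᵁ U)) hs
    have hfg' : ((f.ker ^ n).ideal ⟨U, hU⟩).FG := by
      rw [Scheme.IdealSheafData.ideal_pow]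
      exact hfg.pow
    haveI : Module.Finite Γ(X, U) ((f.ker ^ n).ideal ⟨U, hU⟩) := Module.Finite.iff_fg.2 hfg'
    exact Module.Finite.equiv (Groth.Agent.LD.QC.idealModSectionsEquiv (f.ker ^ n) ⟨U, hU⟩).symm
  exact ⟨Groth.Agent.LD.QC.qc_pullback f _, Groth.Agent.LD.QC.isFiniteType_pullback f _ hft⟩

end Groth.Agent.S5973
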