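import Groth.Statements.S5977
import Groth.Agent.Lib.Helper3.PP7

set_option autoImplicit false
universe u
open CategoryTheory CategoryTheory.Limits AlgebraicGeometry TopologicalSpace Opposite
open Nrm16

namespace Groth.Agent.S5977

/-- Let f : Y ⟶ Z be a morphism and j : X ⟶ Y a closed immersion, and let φ : j^* P^n_{Y/Z} ⟶ P^n_{X/Z}
be the canonical O_X-linear map of sheaves of principal parts of order n, the one sending the
pullback of d^n b to d^n (j♯ b). Then φ is an epimorphism. (The published statement also identifies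
the kernel of φ as the ideal generated by the pullback of d^n of the ideal of j; this row states the
surjectivity.) -/
theorem result {X Y Z : Scheme.{u}} (f : Y ⟶ Z) (j : X ⟶ Y) [IsClosedImmersion j] (n : ℕ)
    (φ : (Scheme.Modules.pullback j).obj (PrinPart.P f n) ⟶ PrinPart.P (j ≫ f) n)
    (hφ : PrinPart.IsPMap f (j ≫ f) j n φ) :
    Epi φ := by
  refine Groth.Agent.H3.PP.epi_of_isPMap f (j ≫ f) j n φ hφ ?_
  intro x U' hx
  obtain ⟨O, hO, hOU⟩ := j.isEmbedding.isInducing.isOpen_iff.mp U'.isOpen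
  obtain ⟨V', hV', hxV', -⟩ := exists_isAffineOpen_mem_and_subset (x := f (j x)) (U := ⊤) trivial
  have hxO : j x ∈ (⟨O, hO⟩ : Y.Opens) ⊓ f ⁻¹ᵁ V' := by
    refine ⟨?_, hxV'⟩
    change x ∈ j ⁻¹' O
    rw [hOU]; exact hx
  obtain ⟨W, hW, hxW, hWO⟩ := exists_isAffineOpen_mem_and_subset hxO
  refine ⟨W, V', hW.preimage j, hV', ?_, hxW, ?_, j.app_surjective W hW⟩
  · intro y hy
    exact (hWO hy).2
  · intro y hy
    have : y ∈ j ⁻¹' O := (hWO hy).1
    rw [hOU] at this
    exact this

end Groth.Agent.S5977
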