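import Groth.Statements.S5985
import Mathlib
import Groth.Agent.Lib.Helper1.EtLoc3

set_option autoImplicit false
universe u
open CategoryTheory AlgebraicGeometry
open Unram

namespace Groth.Agent.S5985

namespace H1.S5985aux

open Limits Groth.Agent.H1.EtLoc

theorem quasiFiniteAt_of_finite_fibre {X Y : Scheme.{u}} (f : X ⟶ Y) [LocallyOfFiniteType f]
    (y : Y) (hfin : (f ⁻¹' {y}).Finite) (x : X) (hx : f x = y) : f.QuasiFiniteAt x := by
  subst hx
  have : Finite (f.fiber (f x)) := (f.fiberHomeo (f x)).finite_iff.mpr hfin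
  exact Scheme.Hom.quasiFiniteAt_iff_isOpen_singleton_asFiber.mpr (isOpen_discrete _)

theorem main {X Y : Scheme.{u}} (f : X ⟶ Y)
    [LocallyOfFiniteType f] [IsSeparated f] (y : Y) (hfin : (f ⁻¹' {y}).Finite) :
    ∃ (Y' : Scheme.{u}) (g : Y' ⟶ Y) (y' : Y'), Etale g ∧ g y' = y ∧
      IsIso (g.residueFieldMap y') ∧
      ∃ (V W : (Limits.pullback f g).Opens), IsCompl V W ∧
        IsFinite (V.ι ≫ Limits.pullback.snd f g) ∧
        ∀ x : ↥(Limits.pullback f g), Limits.pullback.snd f g x = y' → x ∈ V := by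
  haveI : Finite (f ⁻¹' {y}) := hfin
  obtain ⟨n, ⟨e⟩⟩ := Finite.exists_equiv_fin (f ⁻¹' {y})
  let x : Fin n → X := fun i => (e.symm i).1
  have hs : ∀ i, f (x i) = y := fun i => (e.symm i).2
  have hx : ∀ i, f.QuasiFiniteAt (x i) := fun i =>
    quasiFiniteAt_of_finite_fibre f y hfin (x i) (hs i)
  obtain ⟨U, g, u, hg, H⟩ := exists_finPart_multi f y x hs hx
  choose V v hV using H
  have hclosed : IsClosed ((⨆ i, V i : (pullback f g).Opens) : Set ↑(pullback f g)) := by
    rw [TopologicalSpace.Opens.coe_iSup]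
    exact isClosed_iUnion_of_finite fun i => (hV i).isClosed
  let W : (pullback f g).Opens := ⟨((⨆ i, V i : (pullback f g).Opens) : Set ↑(pullback f g))ᶜ,
    hclosed.isOpen_compl⟩
  refine ⟨U, g, u, hg.etale, hg.eq, ?_, ⨆ i, V i, W, ?_, ?_, ?_⟩
  · rw [ConcreteCategory.isIso_iff_bijective]
    exact hg.bij
  · simp only [isCompl_iff, disjoint_iff, codisjoint_iff, SetLike.ext'_iff, W,
      TopologicalSpace.Opens.coe_inf, TopologicalSpace.Opens.coe_sup,
      TopologicalSpace.Opens.coe_mk, TopologicalSpace.Opens.coe_bot, TopologicalSpace.Opens.coe_top]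
    exact ⟨Set.inter_compl_self _, Set.union_compl_self _⟩
  · exact isFinite_iSup _ V fun i => (hV i).finite
  · intro t ht
    have h1 : f (pullback.fst f g t) = y := by
      rw [← Scheme.Hom.comp_apply, pullback.condition, Scheme.Hom.comp_apply, ht, hg.eq]
    let i : Fin n := e ⟨pullback.fst f g t, h1⟩
    have hxi : x i = pullback.fst f g t := by simp [x, i]
    have : t = v i := by
      apply Groth.Agent.H1.PBU.eq_of_fst_eq_of_snd_eq
      · exact (Groth.Agent.H1.PBU.bij_congr_point g ht).mpr hg.bij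
      · rw [(hV i).fst_eq, hxi]
      · rw [(hV i).snd_eq, ht]
    rw [this]
    exact TopologicalSpace.Opens.mem_iSup.mpr ⟨i, (hV i).mem⟩

end H1.S5985aux

/-- Let f : X ⟶ Y be separated and locally of finite type, and y a point of Y whose fibre f⁻¹(y) is
finite (hence discrete). Then there are an étale morphism g : Y' ⟶ Y, a point y' of Y' with g(y') =
y inducing an isomorphism of residue fields κ(y) ≅ κ(y'), and two complementary open subschemes V, W
of X' = X ×_Y Y' such that V ⟶ Y' is finite and W contains no point of X' lying over y'. -/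
theorem result {X Y : Scheme.{u}} (f : X ⟶ Y)
    [LocallyOfFiniteType f] [IsSeparated f] (y : Y) (hfin : (f ⁻¹' {y}).Finite) :
    ∃ (Y' : Scheme.{u}) (g : Y' ⟶ Y) (y' : Y'), Etale g ∧ g y' = y ∧
      IsIso (g.residueFieldMap y') ∧
      ∃ (V W : (Limits.pullback f g).Opens), IsCompl V W ∧
        IsFinite (V.ι ≫ Limits.pullback.snd f g) ∧
        ∀ x : ↥(Limits.pullback f g), Limits.pullback.snd f g x = y' → x ∈ V := by
  exact H1.S5985aux.main f y hfin

end Groth.Agent.S5985
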