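import Groth.Statements.S6005
import Groth.Agent.Lib.Helper8.Tors.ZarM
import Groth.Agent.H4.GaGm
-- import your own Groth.Agent.* helpers here

set_option autoImplicit false
universe u
open CategoryTheory AlgebraicGeometry
open SGA1

namespace Groth.Agent.S6005

/-- Every principal homogeneous bundle under the multiplicative group over S (a pseudo-torsor which
acquires sections on the members of some fpqc covering family of S) is locally trivial, i.e. is a
torsor for the Zariski topology: S is covered by open subschemes over which it acquires sections.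
(The published statement covers every S-group isomorphic to the general linear group of any rank;
this row is the rank-one case.) -/
theorem result {S : Scheme.{u}} (X : Over S)
    (a : AlgGrp.Action (Red.Gm S) X) (h : NonAbH1.IsTorsorFor Scheme.fpqcPrecoverage a) :
    NonAbH1.IsTorsorFor Scheme.zariskiPrecoverage a := by
  haveI : IsAffine (Red.diag (ULift.{u} ℤ) ℤ).left := inferInstanceAs (IsAffine (Spec _))
  haveI : IsAffineHom (Red.diag (ULift.{u} ℤ) ℤ).hom := inferInstance
  haveI : IsAffineHom (Red.Gm S).hom :=
    MorphismProperty.pullback_snd (P := @IsAffineHom) (Red.diag (ULift.{u} ℤ) ℤ).hom _ inferInstance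
  haveI : Flat (Red.diag (ULift.{u} ℤ) ℤ).hom := by
    have h1 : (algebraMap (ULift.{u} ℤ) (MonoidAlgebra (ULift.{u} ℤ) (Multiplicative ℤ))).Flat :=
      RingHom.flat_algebraMap_iff.mpr inferInstance
    exact (HasRingHomProperty.Spec_iff (P := @Flat)).mpr h1
  haveI : Flat (Red.Gm S).hom :=
    MorphismProperty.pullback_snd (P := @Flat) (Red.diag (ULift.{u} ℤ) ℤ).hom _ inferInstance
  let c : Groth.Agent.H8.Tors.CoordM (Red.Gm S) :=
    { fn := fun x => Red.gmFn x
      fn_mul := fun x y => Groth.Agent.H4.GaGm.gmFn_mul x y
      fn_unit := fun x => Groth.Agent.H4.GaGm.isUnit_gmFn x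
      fn_inj := fun {_} => Groth.Agent.H4.GaGm.gmFn_injective
      fn_surj := fun v hv => Groth.Agent.H4.GaGm.exists_gmFn_eq v hv
      fn_comp := fun π x => by
        unfold Red.gmFn
        rw [Over.comp_left, Category.assoc, Scheme.Hom.comp_appTop]
        rfl }
  exact Groth.Agent.H8.Tors.isTorsorFor_zariski_of_coordM a c h

end Groth.Agent.S6005
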