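import Groth.Statements.S6006
import Groth.Agent.Lib.Helper8.Tors.Zar
import Groth.Agent.H4.GaGmCover
-- import your own Groth.Agent.* helpers here

set_option autoImplicit false
universe u
open CategoryTheory AlgebraicGeometry
open SGA1

namespace Groth.Agent.S6006

/-- Every principal homogeneous bundle under the additive group over S (a pseudo-torsor which acquires
sections on the members of some fpqc covering family of S) is locally trivial, i.e. is a torsor for
the Zariski topology: S is covered by open subschemes over which it acquires sections. -/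
theorem result {S : Scheme.{u}} (X : Over S)
    (a : AlgGrp.Action (Red.Ga S) X) (h : NonAbH1.IsTorsorFor Scheme.fpqcPrecoverage a) :
    NonAbH1.IsTorsorFor Scheme.zariskiPrecoverage a := by
  haveI : IsAffine Red.GaZ.left := inferInstanceAs (IsAffine (Spec _))
  haveI : IsAffineHom Red.GaZ.hom := inferInstance
  haveI : IsAffineHom (Red.Ga S).hom :=
    MorphismProperty.pullback_snd (P := @IsAffineHom) Red.GaZ.hom _ inferInstance
  haveI : Flat Red.GaZ.hom := by
    have h1 : (algebraMap (ULift.{u} ℤ) (SymmetricAlgebra (ULift.{u} ℤ) (ULift.{u} ℤ))).Flat :=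
      RingHom.flat_algebraMap_iff.mpr inferInstance
    exact (HasRingHomProperty.Spec_iff (P := @Flat)).mpr h1
  haveI : Flat (Red.Ga S).hom :=
    MorphismProperty.pullback_snd (P := @Flat) Red.GaZ.hom _ inferInstance
  let c : Groth.Agent.H8.Tors.Coord (Red.Ga S) :=
    { fn := fun x => Red.gaFn x
      fn_mul := fun x y => Groth.Agent.H4.GaGm.gaFn_mul x y
      fn_inj := fun {_} => Groth.Agent.H4.GaGm.gaFn_injective
      fn_surj := fun {_} => Groth.Agent.H4.GaGm.gaFn_surjective
      fn_comp := fun π x => Groth.Agent.H4.GaGm.gaFn_comp π x }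
  exact Groth.Agent.H8.Tors.isTorsorFor_zariski_of_coord a c h

end Groth.Agent.S6006
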