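import Groth.Statements.S6009
import Groth.Agent.Lib.Helper8.Tors.Exact
-- import your own Groth.Agent.* helpers here

set_option autoImplicit false
universe u
open CategoryTheory AlgebraicGeometry MonoidalCategory CartesianMonoidalCategory MonObj GrpObj
open SGA1

namespace Groth.Agent.S6009

/-- Exactness of the cohomology sequence at H^1(S, G'): let u : G' → G and v : G → G'' be homomorphisms
of affine commutative S-groups forming a sequence 1 → G' → G → G'' → 1 which is exact for the fpqc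
topology, and let Q be a principal homogeneous bundle under G' (fpqc torsor). Then the bundle
deduced from Q by extension of the structure group along u is trivial, in the sense that Q admits a
u-equivariant S-morphism to G acting on itself by left translation, if and only if Q is the boundary
of some section f of G'' over S: there is a morphism i : Q → G making Q the inverse image of f under
v, with G' acting through right translation by inverses. -/
theorem result {S : Scheme.{u}}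
    {G G' G'' : Over S} [GrpObj G] [GrpObj G'] [GrpObj G'']
    [IsCommMonObj G] [IsCommMonObj G'] [IsCommMonObj G'']
    [IsAffineHom G.hom] [IsAffineHom G'.hom] [IsAffineHom G''.hom]
    (u : G' ⟶ G) (v : G ⟶ G'') (hex : NonAbH1.IsExactSeq Scheme.fpqcPrecoverage u v)
    (Q : NonAbH1.TorsorSch G' Scheme.fpqcPrecoverage) :
    NonAbH1.IsPushforwardAlongSch u Q.act (NonAbH1.trivialAction G) ↔
      ∃ (f : 𝟙_ (Over S) ⟶ G'') (i : Q.X ⟶ G), NonAbH1.IsPullbackTorsor u v f i Q.act := by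
  obtain ⟨hmu, hmv, huv, hkp, hloc⟩ := hex
  haveI := hmu
  haveI := hmv
  have hpt : NonAbH1.IsPseudoTorsorSch Q.act := Q.isTorsor.1
  have hQloc := Q.isTorsor.2
  haveI := Groth.Agent.H8.Tors.mono_u u v hkp
  constructor
  · rintro ⟨j, hj⟩
    have hj' : ∀ {T : Over S} (g' : T ⟶ G') (p : T ⟶ Q.X),
        Groth.Agent.H8.Tors.sm Q.act g' p ≫ j = (g' ≫ u) * (p ≫ j) := by
      intro T g' p
      rw [Groth.Agent.H8.Tors.sm, Category.assoc, hj]
      change lift g' p ≫ lift (fst G' Q.X ≫ u) (snd G' Q.X ≫ j) ≫ μ[G] = _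
      rw [← Category.assoc, comp_lift, ← Category.assoc, lift_fst, ← Category.assoc, lift_snd,
        Hom.mul_def]
    have hi : ∀ {T : Over S} (g' : T ⟶ G') (p : T ⟶ Q.X),
        Groth.Agent.H8.Tors.sm Q.act g' p ≫ j⁻¹ = (p ≫ j⁻¹) * (g' ≫ u)⁻¹ := by
      intro T g' p
      rw [GrpObj.comp_inv, GrpObj.comp_inv, hj', _root_.mul_inv_rev]
    have hiv : ∀ {T : Over S} (g' : T ⟶ G') (p : T ⟶ Q.X),
        (Groth.Agent.H8.Tors.sm Q.act g' p ≫ j⁻¹) ≫ v = (p ≫ j⁻¹) ≫ v := by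
      intro T g' p
      rw [hi, MonObj.mul_comp, GrpObj.inv_comp, Groth.Agent.H8.Tors.comp_u_comp_v u v huv,
        inv_one, _root_.mul_one]
    haveI : EffectiveEpi (toUnit Q.X) := Groth.Agent.H8.Tors.effectiveEpi_toUnit Q.X hQloc
    have hdesc : ∀ {Z : Over S} (g₁ g₂ : Z ⟶ Q.X), g₁ ≫ toUnit Q.X = g₂ ≫ toUnit Q.X →
        g₁ ≫ j⁻¹ ≫ v = g₂ ≫ j⁻¹ ≫ v := by
      intro Z g₁ g₂ _
      have h1 := hiv (Groth.Agent.H8.Tors.diff Q.act hpt g₁ g₂) g₂
      rw [Groth.Agent.H8.Tors.sm_diff] at h1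
      rw [← Category.assoc, h1, Category.assoc]
    have hfac : toUnit Q.X ≫ EffectiveEpi.desc (toUnit Q.X) (j⁻¹ ≫ v) hdesc = j⁻¹ ≫ v :=
      EffectiveEpi.fac _ _ hdesc
    have hinj : ∀ {T : Over S} (φ φ' : T ⟶ Q.X), φ ≫ j⁻¹ = φ' ≫ j⁻¹ → φ = φ' := by
      intro T φ φ' h
      have h1 := hi (Groth.Agent.H8.Tors.diff Q.act hpt φ φ') φ'
      rw [Groth.Agent.H8.Tors.sm_diff, h] at h1
      have h2 : (1 : T ⟶ G) = (Groth.Agent.H8.Tors.diff Q.act hpt φ φ' ≫ u)⁻¹ :=
        mul_left_cancel (a := φ' ≫ j⁻¹) (by rw [_root_.mul_one]; exact h1)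
      have h3 : Groth.Agent.H8.Tors.diff Q.act hpt φ φ' ≫ u = 1 := by
        rw [← inv_inj, ← h2, inv_one]
      have h4 : Groth.Agent.H8.Tors.diff Q.act hpt φ φ' = 1 := by
        rw [← cancel_mono u, h3, MonObj.one_comp]
      have h5 := Groth.Agent.H8.Tors.sm_diff Q.act hpt φ φ'
      rw [h4, Groth.Agent.H8.Tors.sm_one] at h5
      exact h5.symm
    refine ⟨EffectiveEpi.desc (toUnit Q.X) (j⁻¹ ≫ v) hdesc, j⁻¹, hmu, hmv, ?_, ?_⟩
    · refine IsPullback.mk' hfac.symm (fun T φ φ' h1 _ => hinj φ φ' h1) ?_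
      intro T x y hxy
      haveI : EffectiveEpi (fst T Q.X) := Groth.Agent.H8.Tors.effectiveEpi_fst Q.X hQloc T
      have hx' : (fst T Q.X ≫ x) ≫ v = (snd T Q.X ≫ j⁻¹) ≫ v := by
        have e1 : fst T Q.X ≫ y = snd T Q.X ≫ toUnit Q.X := toUnit_unique _ _
        calc (fst T Q.X ≫ x) ≫ v
            = fst T Q.X ≫ y ≫ EffectiveEpi.desc (toUnit Q.X) (j⁻¹ ≫ v) hdesc := by
              rw [Category.assoc, hxy]
          _ = snd T Q.X ≫ toUnit Q.X ≫ EffectiveEpi.desc (toUnit Q.X) (j⁻¹ ≫ v) hdesc := by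
              rw [← Category.assoc, e1, Category.assoc]
          _ = (snd T Q.X ≫ j⁻¹) ≫ v := by rw [hfac, Category.assoc]
      obtain ⟨d, hd⟩ := Groth.Agent.H8.Tors.exists_of_comp_v_eq_one u v hkp
        ((fst T Q.X ≫ x)⁻¹ * (snd T Q.X ≫ j⁻¹)) (by
          rw [MonObj.mul_comp, GrpObj.inv_comp, hx', inv_mul_cancel])
      have hp' : Groth.Agent.H8.Tors.sm Q.act d (snd T Q.X) ≫ j⁻¹ = fst T Q.X ≫ x := by
        rw [hi, ← hd, _root_.mul_inv_rev, _root_.inv_inv, mul_inv_cancel_left]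
      have hdesc' : ∀ {Z : Over S} (g₁ g₂ : Z ⟶ T ⊗ Q.X), g₁ ≫ fst T Q.X = g₂ ≫ fst T Q.X →
          g₁ ≫ Groth.Agent.H8.Tors.sm Q.act d (snd T Q.X) =
            g₂ ≫ Groth.Agent.H8.Tors.sm Q.act d (snd T Q.X) := by
        intro Z g₁ g₂ hg
        apply hinj
        rw [Category.assoc, Category.assoc, hp', ← Category.assoc, hg, Category.assoc]
      refine ⟨EffectiveEpi.desc (fst T Q.X) (Groth.Agent.H8.Tors.sm Q.act d (snd T Q.X)) hdesc',
        ?_, toUnit_unique _ _⟩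
      rw [← cancel_epi (fst T Q.X), ← Category.assoc, EffectiveEpi.fac, hp']
    · intro T g' p
      rw [← Category.assoc]
      exact hi g' p
  · rintro ⟨f, i, -, -, -, heq⟩
    refine ⟨i⁻¹, ?_⟩
    change Q.act.act ≫ i⁻¹ = lift (fst G' Q.X ≫ u) (snd G' Q.X ≫ i⁻¹) ≫ μ[G]
    have h1 := heq (G' ⊗ Q.X) (fst G' Q.X) (snd G' Q.X)
    rw [lift_fst_snd, Category.id_comp] at h1
    have e1 : Q.act.act ≫ i⁻¹ = (fst G' Q.X ≫ u) * (snd G' Q.X ≫ i)⁻¹ := by
      rw [GrpObj.comp_inv, h1, _root_.mul_inv_rev, _root_.inv_inv]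
    rw [e1, Hom.mul_def, GrpObj.comp_inv]

end Groth.Agent.S6009
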