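import Groth.Statements.S6020
import Groth.Agent.Lib.Lead.LCZ.LES

set_option autoImplicit false
universe u
open CategoryTheory CategoryTheory.Limits TopologicalSpace
open LocCohZ

namespace Groth.Agent.S6020

/-- Consider a topological space X carrying a sheaf F of abelian groups, an open subset U whose
complement is the closed set Z, and a natural number N. The local cohomology sheaves ℋ^i_Z(F) are
zero for all i ≤ N exactly when, for each open V of X, restricting H^i(V, F) → H^i(V ∩ U, F) gives a
bijection whenever i < N and an injection when i = N. -/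
theorem result {X : TopCat.{u}} (F : CohTop.Ab X) (U : Opens X) (N : ℕ) :
    (∀ i : ℕ, i ≤ N → IsZero ((LocCohZ.HZsh U i).obj F)) ↔
      ∀ V : Opens X, (∀ i : ℕ, i < N → Function.Bijective (CohTop.res F i (inf_le_left : V ⊓ U ≤ V))) ∧
        Function.Injective (CohTop.res F N (inf_le_left : V ⊓ U ≤ V)) := by
  have key := Groth.Agent.LD.LCZ.isZero_HZsh_iff F U (N + 1)
  constructor
  · intro h V
    have hz : ∀ i, i ≤ N → Subsingleton (LocCohZ.HZ F i (inf_le_left : V ⊓ U ≤ V)) :=
      fun i hi => key.1 (fun j hj => h j (by omega)) V i (by omega)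
    have hinj : ∀ i, i ≤ N → Function.Injective (CohTop.res F i (inf_le_left : V ⊓ U ≤ V)) := by
      intro i hi
      rw [injective_iff_map_eq_zero]
      intro y hy
      obtain ⟨x, rfl⟩ := Groth.Agent.LD.LCZ.exists_toHU_eq (inf_le_left : V ⊓ U ≤ V) F i y hy
      haveI := hz i hi
      rw [Subsingleton.elim x 0, map_zero]
    refine ⟨fun i hi => ⟨hinj i (by omega), ?_⟩, hinj N le_rfl⟩
    intro y
    haveI := hz (i + 1) (by omega)
    exact Groth.Agent.LD.LCZ.exists_res_eq (inf_le_left : V ⊓ U ≤ V) F i y
      (Subsingleton.elim (α := LocCohZ.HZ F (i + 1) (inf_le_left : V ⊓ U ≤ V)) _ _)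
  · intro h i hi
    refine key.2 ?_ i (by omega)
    intro V j hj
    obtain ⟨hbij, hinjN⟩ := h V
    have hinj : Function.Injective (CohTop.res F j (inf_le_left : V ⊓ U ≤ V)) := by
      rcases Nat.lt_or_ge j N with hlt | hge
      · exact (hbij j hlt).1
      · obtain rfl : j = N := by omega
        exact hinjN
    suffices hz : ∀ x : LocCohZ.HZ F j (inf_le_left : V ⊓ U ≤ V), x = 0 from
      ⟨fun a b => (hz a).trans (hz b).symm⟩
    intro x
    have hx : LocCohZ.toHU F j (inf_le_left : V ⊓ U ≤ V) x = 0 := by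
      apply hinj
      rw [Groth.Agent.LD.LCZ.res_toHU, map_zero]
    cases j with
    | zero =>
      apply Groth.Agent.LD.LCZ.toHU_zero_injective (inf_le_left : V ⊓ U ≤ V) F
      rw [hx, map_zero]
    | succ k =>
      obtain ⟨y, rfl⟩ := Groth.Agent.LD.LCZ.exists_delta_eq (inf_le_left : V ⊓ U ≤ V) F k x hx
      obtain ⟨z, rfl⟩ := (hbij k (by omega)).2 y
      exact Groth.Agent.LD.LCZ.delta_res _ F k z

end Groth.Agent.S6020
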