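import Groth.Statements.S6024
import Groth.Agent.Lib.Lead.SC.CohPsh3
import Groth.Agent.Lib.Lead.Cech.TopH0

set_option autoImplicit false
universe u
open CategoryTheory CategoryTheory.Limits TopologicalSpace
open LocCohZ

namespace Groth.Agent.S6024

/-- Consider a topological space X carrying a sheaf of abelian groups F, and assume that H^1_Z(X, F)
vanishes for each closed subset Z of X (writing Z = X − U with U open). Under this assumption, F is
flasque. -/
theorem result {X : TopCat.{u}} (F : CohTop.Ab X)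
    (h : ∀ U : Opens X, Subsingleton (LocCohZ.HZc F 1 U)) : TopCat.Sheaf.IsFlasque F := by
  refine ⟨fun {V₁ V₂} i => ?_⟩
  rw [AddCommGrpCat.epi_iff_surjective]
  intro t
  have hS := LocCohZ.zqSeq_shortExact (le_top : V₂.unop ≤ (⊤ : Opens X))
  let x₁ : CategoryTheory.Abelian.Ext (Groth.Agent.LD.SC.ZU (Opens.grothendieckTopology X) V₂.unop) F 0 :=
    (Groth.Agent.LD.SC.H0Equiv V₂.unop F).symm t
  haveI := h V₂.unop
  obtain ⟨x₂, hx₂⟩ := CategoryTheory.Abelian.Ext.contravariant_sequence_exact₁ hS F x₁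
    (rfl : 1 + 0 = 1) (Subsingleton.elim (α := LocCohZ.HZc F 1 V₂.unop) _ _)
  refine ⟨F.obj.map (homOfLE le_top : V₁.unop ⟶ (⊤ : Opens X)).op
    (Groth.Agent.LD.SC.H0Equiv (⊤ : Opens X) F x₂), ?_⟩
  have h1 := Groth.Agent.LD.SC.H0Equiv_Hres (homOfLE le_top : V₂.unop ⟶ (⊤ : Opens X)) F x₂
  have h2 : Groth.Agent.LD.SC.Hres (homOfLE le_top : V₂.unop ⟶ (⊤ : Opens X)) x₂ = x₁ := hx₂
  rw [h2] at h1
  have h3 : Groth.Agent.LD.SC.H0Equiv V₂.unop F x₁ = t := AddEquiv.apply_symm_apply _ t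
  rw [h3] at h1
  rw [h1]
  exact Groth.Agent.LD.CH.res_res F.obj _ _ _ _

end Groth.Agent.S6024
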