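import Groth.Statements.S6033
import Groth.Agent.Lib.Helper8.CK.FlasqueIff
-- import your own Groth.Agent.* helpers here

set_option autoImplicit false
universe u
open CategoryTheory CategoryTheory.Limits TopologicalSpace AlgebraicGeometry
open LocCohZ

namespace Groth.Agent.S6033

/-- Let A be a commutative ring such that the underlying space of X = Spec A is Noetherian. Then M~ is
flasque for every injective A-module M if and only if colim_n H^1(f^n, M) = 0 (direct limit of
Koszul cohomology of the powers) for every finite family f of elements of A and every injective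
A-module M; and in that case colim_n H^i(f^n, M) = 0 for all i > 0 as well. -/
theorem result (A : Type u) [CommRing A]
    [NoetherianSpace (PrimeSpectrum A)] :
    ((∀ (M : Type u) [AddCommGroup M] [Module A M], Module.Injective A M →
        TopCat.Sheaf.IsFlasque (Coh.toAb (AlgebraicGeometry.tilde (R := CommRingCat.of A) (ModuleCat.of A M)))) ↔
      ∀ (fs : List A) (M : Type u) [AddCommGroup M] [Module A M], Module.Injective A M →
        Subsingleton (CohIII.koszulHLim fs (ModuleCat.of A M) 1)) ∧
    ((∀ (M : Type u) [AddCommGroup M] [Module A M], Module.Injective A M →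
        TopCat.Sheaf.IsFlasque (Coh.toAb (AlgebraicGeometry.tilde (R := CommRingCat.of A) (ModuleCat.of A M)))) →
      ∀ (fs : List A) (M : Type u) [AddCommGroup M] [Module A M], Module.Injective A M →
        ∀ i : ℕ, 0 < i → Subsingleton (CohIII.koszulHLim fs (ModuleCat.of A M) i)) := by
  have key1 : ∀ (M : Type u) [AddCommGroup M] [Module A M],
      TopCat.Sheaf.IsFlasque (Coh.toAb (AlgebraicGeometry.tilde (R := CommRingCat.of A) (ModuleCat.of A M))) →
      ∀ (fs : List A) (k : ℕ), Subsingleton (CohIII.koszulHLim fs (ModuleCat.of A M) (k+1)) := by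
    intro M _ _ hfl fs k
    exact Groth.Agent.H8.CK.subsingleton_koszulHLim_of_isFlasque (CommRingCat.of A) (ModuleCat.of A M) fs k
  refine ⟨⟨fun hfl fs M _ _ hM => key1 M (hfl M hM) fs 0, fun H M _ _ hM => ?_⟩,
    fun hfl fs M _ _ hM i hi => ?_⟩
  · apply Groth.Agent.H8.CK.isFlasque_of_surjective_resTop
    intro U
    obtain ⟨fs, rfl⟩ := Groth.Agent.H8.CK.exists_list_eq_iSup_cov A U
    exact Groth.Agent.H8.CK.surjective_resTop_of_subsingleton (CommRingCat.of A) (ModuleCat.of A M) fs (H fs M hM)
  · obtain ⟨k, rfl⟩ : ∃ k, i = k + 1 := ⟨i - 1, by omega⟩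
    exact key1 M (hfl M hM) fs k

end Groth.Agent.S6033
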