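import Groth.Statements.S6040
import Groth.Agent.Lib.Lead.SC.ExtZero
import Groth.Agent.Lib.Lead.SC.MapResNat

set_option autoImplicit false
universe u
open CategoryTheory CategoryTheory.Limits TopologicalSpace
open LocCohZ

namespace Groth.Agent.S6040

/-- Let X be a topological space, U an open subset and j : U → X the inclusion, so that the sheaf of
sections with supports in the open U is Γ_U(F) = j_*(F|_U). For every q the local cohomology sheaf
functor ℋ^q_U, i.e. the q-th right derived functor of F ↦ j_*(F|_U), is isomorphic to F ↦ R^q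
j_*(F|_U). (Existence of an isomorphism of functors for each q.) -/
theorem result {X : TopCat.{u}} (U : Opens X) (q : ℕ) :
    Nonempty (CohCx.RpushOn (𝟙 X) U q ≅ CohTop.restrFunctor U ⋙ CohTop.Rpush (CohCx.incl U) q) := by
  have e0 : CohCx.incl U ≫ 𝟙 X = CohCx.incl U := Category.comp_id _
  haveI : (CohTop.push (CohCx.incl U)).Additive := {}
  haveI : (CohTop.push (CohCx.incl U ≫ 𝟙 X)).Additive := {}
  let e : CohTop.restrFunctor U ⋙ CohTop.push (CohCx.incl U) ≅
      CohTop.restrFunctor U ⋙ CohTop.push (CohCx.incl U ≫ 𝟙 X) :=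
    Functor.isoWhiskerLeft _ (eqToIso (by rw [e0]))
  exact ⟨(Groth.Agent.LD.SC.rightDerivedCompNatIso (CohTop.restrFunctor U)
    (CohTop.push (CohCx.incl U))
    (CohTop.restrFunctor U ⋙ CohTop.push (CohCx.incl U ≫ 𝟙 X)) e q).symm⟩

end Groth.Agent.S6040
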