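import Groth.Statements.S6056
import Groth.Agent.Lib.Helper3.GrpQuotThird
import Groth.Agent.Lib.Helper3.OverUEE
import Groth.Agent.Lib.Helper1.FlatSource
import Groth.Agent.S0114

set_option autoImplicit false
open CategoryTheory CategoryTheory.Limits AlgebraicGeometry MonoidalCategory
universe u
open RedSub

namespace Groth.Agent.S6056

open MonObj CartesianMonoidalCategory SemiCartesianMonoidalCategory in
/-- For group schemes and fppf quotients: let `K ⊆ G` be a subgroup scheme and `H ⊆ K` a subgroup scheme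
normal in `K`; suppose `G/H` is represented by `q_H : G ⟶ Q_H` and `K/H` by a homomorphism `K ⟶ K'`
of group schemes, and let `act : Q_H ×_S K' ⟶ Q_H` be the right action induced by the multiplication
of `G`. Then: (i) if `G/K` is represented by `q_K : G ⟶ Q_K`, the map `Q_H ⟶ Q_K` under `G` is an
fppf covering whose kernel pair is `Q_H ×_S K' ⇉ Q_H` (projection, action), i.e. `Q_K =
(G/H)/(K/H)`; (ii) conversely, if `p : Q_H ⟶ Y` is an fppf covering with that kernel pair, then `q_H
≫ p` represents `G/K`. -/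
theorem result {S : Scheme.{u}} {H K G QH Kb : Over S}
    [hH : GrpObj H] [hK : GrpObj K] [hG : GrpObj G] [hKb : GrpObj Kb]
    (h : H ⟶ K) (k : K ⟶ G) [Mono h] [Mono k] [IsMonHom h] [IsMonHom k]
    (hn : AlgGrp.IsNormalHom h)
    (qH : G ⟶ QH) (hqH : RedSub.IsQuotient (h ≫ k) qH)
    (qKb : K ⟶ Kb) [IsMonHom qKb] (hqKb : RedSub.IsQuotient h qKb)
    (act : QH ⊗ Kb ⟶ QH) (hact : (qH ⊗ₘ qKb) ≫ act = (G ◁ k) ≫ μ[G] ≫ qH) :
    (∀ (QK : Over S) (qK : G ⟶ QK), RedSub.IsQuotient k qK →
      ∀ qbar : QH ⟶ QK, qH ≫ qbar = qK →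
        Surjective qbar.left ∧ Flat qbar.left ∧ LocallyOfFinitePresentation qbar.left ∧
          IsPullback (fst QH Kb) act qbar qbar) ∧
    (∀ (Y : Over S) (p : QH ⟶ Y),
      Surjective p.left → Flat p.left → LocallyOfFinitePresentation p.left →
      IsPullback (fst QH Kb) act p p → RedSub.IsQuotient k (qH ≫ p)) := by
  obtain ⟨hsH, hfH, hpH, hkpH⟩ := hqH
  obtain ⟨hsKb, hfKb, hpKb, hkpKb⟩ := hqKb
  have hueeH := Groth.Agent.H3.OverUEE.uee_of_fppf qH hsH hfH hpH
  have hueeKb := Groth.Agent.H3.OverUEE.uee_of_fppf qKb hsKb hfKb hpKb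
  have hact' : (qH ⊗ₘ qKb) ≫ act = Groth.Agent.H3.GrpQuot.mmul k ≫ qH := by
    simpa only [Groth.Agent.H3.GrpQuot.mmul, Category.assoc] using hact
  refine ⟨?_, ?_⟩
  · intro QK qK hqK qbar hq
    obtain ⟨hsK, hfK, hpK, hkpK⟩ := hqK
    have e : qH.left ≫ qbar.left = qK.left := by rw [← Over.comp_left, hq]
    haveI : Surjective (qH.left ≫ qbar.left) := e ▸ hsK
    haveI : Flat (qH.left ≫ qbar.left) := e ▸ hfK
    haveI : LocallyOfFinitePresentation (qH.left ≫ qbar.left) := e ▸ hpK
    refine ⟨Surjective.of_comp qH.left qbar.left, ?_, ?_, ?_⟩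
    · exact Groth.Agent.H1.flat_of_flat_comp_of_surjective qH.left qbar.left
    · exact Groth.Agent.S0114.result qH.left qbar.left
    · exact Groth.Agent.H3.GrpQuot.isPullback_of_quot h k qH hkpH hueeH qKb hkpKb hueeKb act hact'
        qK hkpK qbar hq
  · intro Y p hs hf hp hkp
    refine ⟨?_, ?_, ?_, ?_⟩
    · rw [Over.comp_left]; infer_instance
    · rw [Over.comp_left]; infer_instance
    · rw [Over.comp_left]; infer_instance
    · exact Groth.Agent.H3.GrpQuot.isKernelPair_comp h k qH hkpH qKb hueeKb act hact' p hkp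

end Groth.Agent.S6056
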