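import Groth.Statements.S6072
import Groth.Agent.Lib.Helper9.Misc.DES12
import Groth.Agent.Lib.Helper9.Misc.DUA4

set_option autoImplicit false
universe u
open TensorProduct SGA3b
open SGA3b

namespace Groth.Agent.S6072

/-- Let R be a henselian local ring with residue field k and H₀ = Spec C₀ a k-group of multiplicative
type which is finite over k. Then H₀ lifts to R: there is an R-group H = Spec C of multiplicative
type, finite over R and isotrivial, together with an isomorphism of k-groups H ×_R k ≅ H₀, i.e. a
bialgebra isomorphism k ⊗_R C ≅ C₀ (existence of an isomorphism; the lift is determined up to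
isomorphism only). (Affine group schemes over an affine base are taken in Hopf-algebra form; base
change is the tensor product.) -/
theorem result (R : Type u) [CommRing R] [HenselianLocalRing R]
    (C₀ : Type u) [CommRing C₀] [HopfAlgebra (IsLocalRing.ResidueField R) C₀] [Module.Finite (IsLocalRing.ResidueField R) C₀]
    (h₀ : IsMultType (IsLocalRing.ResidueField R) C₀) :
    ∃ (C : Type u) (_ : CommRing C) (_ : HopfAlgebra R C), Module.Finite R C ∧ IsIsotrivial R C ∧
      Nonempty ((IsLocalRing.ResidueField R ⊗[R] C) ≃ₐc[IsLocalRing.ResidueField R] C₀) := by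
  have hiso := Groth.Agent.H9.DUA.isIsotrivial_of_finite_isMultType
    (IsLocalRing.ResidueField R) C₀ h₀
  obtain ⟨R', _, _, het, hfin, hff, M, _, ⟨θ₀⟩⟩ := hiso
  haveI := het
  haveI := hfin
  haveI := hff
  obtain ⟨C, _, _, S, _, _, hC, hSet, hSfin, hSff, hθ, hφ⟩ :=
    Groth.Agent.H9.DES.lifts_finite_of_henselianLocal R C₀ R' M θ₀
  exact ⟨C, _, _, hC, ⟨S, _, _, hSet, hSfin, hSff, ⟨M, _, hθ⟩⟩, hφ⟩

end Groth.Agent.S6072
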