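import Groth.Statements.S6121
import Mathlib

set_option autoImplicit false
open CategoryTheory
universe v₁ v₂ u₁ u₂
open SGA4

namespace Groth.Agent.S6121

/-- For a fibered functor `p : E ⥤ B` (every morphism of `B` has a cartesian lift with prescribed
codomain, and cartesian morphisms compose), `p` reflects isomorphisms if and only if every fibre
category of `p` (objects over `b`, morphisms lying over the identity of `b`) is a groupoid. -/
theorem result
    {B : Type u₁} [Category.{v₁} B] {E : Type u₂} [Category.{v₂} E] (p : E ⥤ B) [p.IsFibered] :
    p.ReflectsIsomorphisms ↔ ∀ b : B, IsGroupoid (p.Fiber b) := by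
  open CategoryTheory.Functor CategoryTheory.Limits Opposite in
  (
    constructor
    · intro hp b
      refine ⟨?_⟩
      intro x y φ
      have h1 : IsIso (p.map (Fiber.fiberInclusion.map φ)) := by
        rw [IsHomLift.fac' p (𝟙 b) (Fiber.fiberInclusion.map φ)]
        infer_instance
      have h2 : IsIso (Fiber.fiberInclusion.map φ) := isIso_of_reflects_iso _ p
      refine ⟨Fiber.homMk p b (inv (Fiber.fiberInclusion.map φ)), ?_, ?_⟩
      · apply Fiber.hom_ext
        exact (Functor.map_comp _ _ _).trans (IsIso.hom_inv_id (Fiber.fiberInclusion.map φ))
      · apply Fiber.hom_ext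
        exact (Functor.map_comp _ _ _).trans (IsIso.inv_hom_id (Fiber.fiberInclusion.map φ))
    · intro h
      refine ⟨?_⟩
      intro x y f hf
      let u := p.map f
      let χ := IsPreFibered.pullbackMap (p := p) (rfl : p.obj y = p.obj y) u
      have hχ : IsIso χ := IsStronglyCartesian.isIso_of_base_isIso p u χ
      let f' := IsCartesian.map p u χ f
      have hf' : f' ≫ χ = f := IsCartesian.fac p u χ f
      have := h (p.obj x)
      have h3 : IsIso (Fiber.homMk p (p.obj x) f') := IsGroupoid.all_isIso _
      have h4 : IsIso f' := by
        have := (Fiber.fiberInclusion (p := p) (S := p.obj x)).map_isIso (Fiber.homMk p (p.obj x) f')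
        simpa using this
      rw [← hf']
      infer_instance
  )

end Groth.Agent.S6121
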