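import Groth.Statements.S6122
import Mathlib

set_option autoImplicit false
open CategoryTheory
universe v₁ v₂ u₁ u₂
open SGA4

namespace Groth.Agent.S6122

/-- For a fibered functor `p : E ⥤ B` (every morphism of `B` has a cartesian lift with prescribed
codomain, and cartesian morphisms compose), `p` is faithful if and only if every fibre category of
`p` (objects over `b`, morphisms lying over the identity of `b`) has at most one morphism between
any two objects. -/
theorem result
    {B : Type u₁} [Category.{v₁} B] {E : Type u₂} [Category.{v₂} E] (p : E ⥤ B) [p.IsFibered] :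
    p.Faithful ↔ ∀ (b : B) (x y : p.Fiber b), Subsingleton (x ⟶ y) := by
  open CategoryTheory.Functor CategoryTheory.Limits Opposite in
  (
    constructor
    · intro hp b x y
      refine ⟨fun φ ψ => ?_⟩
      apply Fiber.hom_ext
      apply p.map_injective
      rw [IsHomLift.fac' p (𝟙 b) (Fiber.fiberInclusion.map φ),
        IsHomLift.fac' p (𝟙 b) (Fiber.fiberInclusion.map ψ)]
    · intro h
      refine ⟨?_⟩
      intro x y f g hfg
      let u := p.map f
      let χ := IsPreFibered.pullbackMap (p := p) (rfl : p.obj y = p.obj y) u
      have hg : p.IsHomLift u g := by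
        change p.IsHomLift (p.map f) g
        rw [hfg]
        infer_instance
      let f' := IsCartesian.map p u χ f
      let g' := IsCartesian.map p u χ g
      have hf' : f' ≫ χ = f := IsCartesian.fac p u χ f
      have hg' : g' ≫ χ = g := IsCartesian.fac p u χ g
      have := h (p.obj x) (Fiber.mk (IsHomLift.domain_eq p (𝟙 (p.obj x)) f'))
        (Fiber.mk (IsHomLift.codomain_eq p (𝟙 (p.obj x)) f'))
      have e : Fiber.homMk p (p.obj x) f' = Fiber.homMk p (p.obj x) g' := Subsingleton.elim _ _
      have e' : f' = g' := congrArg (fun t => Fiber.fiberInclusion.map t) e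
      rw [← hf', ← hg', e']
  )

end Groth.Agent.S6122
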