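import Groth.Statements.S6123
import Mathlib

set_option autoImplicit false
open CategoryTheory CategoryTheory.Limits Opposite
universe w v₁ v₂ u₁ u₂
open SGA4

namespace Groth.Agent.S6123

/-- For a single functor. Let `E` have pullbacks and let `φ : E ⥤ F` preserve them. If every
monomorphism `u` of `E` with `φ u` invertible is invertible, then `φ` reflects all isomorphisms. -/
theorem result
    {E : Type u₁} [Category.{v₁} E] {F : Type u₂} [Category.{v₂} F] (φ : E ⥤ F)
    [HasPullbacks E] [PreservesLimitsOfShape WalkingCospan φ]
    (h : ∀ ⦃X Y : E⦄ (u : X ⟶ Y), Mono u → IsIso (φ.map u) → IsIso u) :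
    φ.ReflectsIsomorphisms := by
  open CategoryTheory.Functor CategoryTheory.Limits Opposite in
  (
    refine ⟨?_⟩
    intro X Y f hf
    have hΔ : IsIso (φ.map (pullback.diagonal f)) := by
      have e : φ.map (pullback.diagonal f) ≫ (PreservesPullback.iso φ f f).hom =
          pullback.diagonal (φ.map f) := by
        apply pullback.hom_ext
        · simp [← Functor.map_comp]
        · simp [← Functor.map_comp]
      have : φ.map (pullback.diagonal f) =
          pullback.diagonal (φ.map f) ≫ (PreservesPullback.iso φ f f).inv := by
        rw [← e, Category.assoc, Iso.hom_inv_id, Category.comp_id]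
      rw [this]
      infer_instance
    have h1 : IsIso (pullback.diagonal f) := h _ inferInstance hΔ
    have h2 : Mono f := (pullback.isIso_diagonal_iff f).mp h1
    exact h f h2 hf
  )

end Groth.Agent.S6123
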