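import Groth.Statements.S6124
import Mathlib

set_option autoImplicit false
open CategoryTheory CategoryTheory.Limits Opposite
universe w v₁ v₂ u₁ u₂
open SGA4

namespace Groth.Agent.S6124

/-- Let `E` have pullbacks, let `P` be a detecting family of objects of `E` (a morphism `f` is
invertible as soon as every map out of an object of `P` factors uniquely through `f`), and let `φ i
: E ⥤ E' i` be functors preserving pullbacks. Then the `φ i` jointly reflect isomorphisms if and
only if, for every `X` with `P X` and every subobject `X'` of `X` other than `⊤`, some `φ i` takes
the inclusion `X' ⟶ X` to a morphism that is not invertible. -/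
theorem result
    {E : Type u₁} [Category.{v₁} E] [HasPullbacks E] (P : ObjectProperty E) (hP : P.IsDetecting)
    {κ : Type w} {E' : κ → Type u₂} [∀ k, Category.{v₂} (E' k)] (φ : ∀ k, E ⥤ E' k)
    [∀ k, PreservesLimitsOfShape WalkingCospan (φ k)] :
    (∀ ⦃X Y : E⦄ (f : X ⟶ Y), (∀ k, IsIso ((φ k).map f)) → IsIso f) ↔
      ∀ (X : E), P X → ∀ (X' : Subobject X), X' ≠ ⊤ → ∃ k, ¬ IsIso ((φ k).map X'.arrow) := by
  open CategoryTheory.Functor CategoryTheory.Limits Opposite in
  (
    constructor
    · intro h X _ X' hX'
      by_contra hcon
      push Not at hcon
      exact hX' ((Subobject.isIso_arrow_iff_eq_top X').mp (h X'.arrow hcon))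
    · intro H
      -- step 1: monos
      have step1 : ∀ ⦃A Y : E⦄ (m : A ⟶ Y), Mono m → (∀ k, IsIso ((φ k).map m)) → IsIso m := by
        intro A Y m hm hiso
        rw [hP.isIso_iff_of_mono]
        intro G hG (h : G ⟶ Y)
        -- pull back m along h
        have hsnd : ∀ k, IsIso ((φ k).map (pullback.snd m h)) := by
          intro k
          haveI := hiso k
          haveI := hasPullback_of_preservesPullback (φ k) m h
          have e : (φ k).map (pullback.snd m h) =
              (PreservesPullback.iso (φ k) m h).hom ≫ pullback.snd ((φ k).map m) ((φ k).map h) := by
            simp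
          rw [e]
          infer_instance
        have htop : Subobject.mk (pullback.snd m h) = ⊤ := by
          by_contra hne
          obtain ⟨k, hk⟩ := H G hG _ hne
          apply hk
          rw [← Subobject.underlyingIso_hom_comp_eq_mk (pullback.snd m h), Functor.map_comp]
          haveI := hsnd k
          infer_instance
        haveI : IsIso (pullback.snd m h) := (Subobject.isIso_iff_mk_eq_top _).mpr htop
        refine ⟨inv (pullback.snd m h) ≫ pullback.fst m h, ?_⟩
        change (inv (pullback.snd m h) ≫ pullback.fst m h) ≫ m = h
        rw [Category.assoc, pullback.condition, IsIso.inv_hom_id_assoc]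
      intro X Y f hf
      have hΔ : ∀ k, IsIso ((φ k).map (pullback.diagonal f)) := by
        intro k
        haveI := hf k
        have e : (φ k).map (pullback.diagonal f) ≫ (PreservesPullback.iso (φ k) f f).hom =
            pullback.diagonal ((φ k).map f) := by
          apply pullback.hom_ext
          · simp [← Functor.map_comp]
          · simp [← Functor.map_comp]
        have : (φ k).map (pullback.diagonal f) =
            pullback.diagonal ((φ k).map f) ≫ (PreservesPullback.iso (φ k) f f).inv := by
          rw [← e, Category.assoc, Iso.hom_inv_id, Category.comp_id]
        rw [this]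
        infer_instance
      have h1 : IsIso (pullback.diagonal f) := step1 _ inferInstance hΔ
      have h2 : Mono f := (pullback.isIso_diagonal_iff f).mp h1
      exact step1 f h2 hf
  )

end Groth.Agent.S6124
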