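import Groth.Statements.S6131
import Groth.Agent.Lib.Helper3.SGA4Aux

set_option autoImplicit false
open CategoryTheory CategoryTheory.Limits
universe u
open SGA4

namespace Groth.Agent.S6131

/-- For a small site `(C, J)` and an object `X` of `C`, the sheaf associated to the presheaf represented
by `X` is an initial object of the category of sheaves of sets if and only if the empty sieve covers
`X`. -/
theorem result
    {C : Type u} [SmallCategory C] (J : GrothendieckTopology C) (X : C) :
    Nonempty (IsInitial ((presheafToSheaf J (Type u)).obj (yoneda.obj X))) ↔ (⊥ : Sieve X) ∈ J X := by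
  open CategoryTheory.Functor CategoryTheory.Limits Opposite in
  (
    let e : ∀ F : Sheaf J (Type u), ((presheafToSheaf J (Type u)).obj (yoneda.obj X) ⟶ F) ≃
        F.obj.obj (op X) := fun F =>
      ((sheafificationAdjunction J (Type u)).homEquiv (yoneda.obj X) F).trans yonedaEquiv
    constructor
    · rintro ⟨hI⟩
      rw [J.mem_iff_isSheafFor_closedSieves, Groth.Agent.H3.SGA4Aux.isSheafFor_bot_iff]
      let F : Sheaf J (Type u) := ⟨(Functor.closedSieves J).toFunctor,
        (isSheaf_iff_isSheaf_of_type J _).mpr (classifier_isSheaf J)⟩
      haveI : Unique ((presheafToSheaf J (Type u)).obj (yoneda.obj X) ⟶ F) :=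
        ⟨⟨hI.to F⟩, fun a => hI.hom_ext _ _⟩
      exact ⟨(e F).symm.unique⟩
    · intro h
      have hu : ∀ F : Sheaf J (Type u), Nonempty (Unique (F.obj.obj (op X))) := by
        intro F
        rw [← Groth.Agent.H3.SGA4Aux.isSheafFor_bot_iff]
        exact (isSheaf_iff_isSheaf_of_type J _).mp F.property _ h
      haveI : ∀ F : Sheaf J (Type u),
          Unique ((presheafToSheaf J (Type u)).obj (yoneda.obj X) ⟶ F) := fun F => by
        haveI := (hu F).some
        exact (e F).unique
      exact ⟨IsInitial.ofUnique _⟩
  )

end Groth.Agent.S6131
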