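import Groth.Statements.S6138
import Mathlib
import Groth.Agent.Lib.Helper3.UnivEffEpi

set_option autoImplicit false
open CategoryTheory CategoryTheory.Limits Opposite
universe v u
open SGA4

namespace Groth.Agent.S6138

/-- Let `C` have coequalizers and pullbacks, let `F` be a presheaf of sets on `C` taking coequalizers of
`C` to equalizers, and let `u ∈ F(X)`, viewed as a morphism `h_X ⟶ F`. Then this morphism is a
monomorphism (the map `v ↦ F(v)(u)` is injective on `Hom(Y, X)` for every `Y`) if and only if `u` is
minimal: whenever `u = F(p)(u')` for an effective epimorphism `p : X ⟶ X'` and some `u' ∈ F(X')`,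
`p` is an isomorphism. (Coequalizers are used for one implication and pullbacks for the other; both
are assumed here.) -/
theorem result
    {C : Type u} [Category.{v} C] [HasCoequalizers C] [HasPullbacks C]
    (F : Cᵒᵖ ⥤ Type v) [PreservesLimitsOfShape WalkingParallelPair F]
    {X : C} (u : F.obj (op X)) :
    (∀ (Y : C) (v v' : Y ⟶ X), F.map v.op u = F.map v'.op u → v = v') ↔
      ∀ (X' : C) (p : X ⟶ X') (u' : F.obj (op X')),
        EffectiveEpi p → F.map p.op u' = u → IsIso p := by
  open CategoryTheory.Functor CategoryTheory.Limits Opposite in
  (
    constructor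
    · intro h X' p u' hp hu
      have hab : pullback.fst p p = pullback.snd p p := by
        apply h
        rw [← hu]
        simp only [← Functor.map_comp_apply, ← op_comp, pullback.condition]
      haveI : Mono p := by
        refine ⟨fun {Z} a b hab' => ?_⟩
        have h1 : pullback.lift a b hab' ≫ pullback.fst p p = a := pullback.lift_fst _ _ _
        have h2 : pullback.lift a b hab' ≫ pullback.snd p p = b := pullback.lift_snd _ _ _
        exact h1.symm.trans ((congrArg (fun t => pullback.lift a b hab' ≫ t) hab).trans h2)
      exact Groth.Agent.H3.isIso_of_effectiveEpi_of_mono p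
    · intro h Y v v' hvv'
      let p := coequalizer.π v v'
      have hl : IsLimit (Fork.ofι p.op (by rw [← op_comp, ← op_comp, coequalizer.condition] :
          p.op ≫ v.op = p.op ≫ v'.op)) :=
        Cofork.isColimitOfπEquivIsLimitOp p p (coequalizer.condition v v') _ rfl
          (coequalizerIsCoequalizer v v')
      have hl' := isLimitForkMapOfIsLimit F _ hl
      obtain ⟨u', hu', -⟩ := Types.unique_of_type_equalizer _ _ hl' u hvv'
      haveI : IsIso p := h _ p u' inferInstance hu'
      rw [← cancel_mono p]
      exact coequalizer.condition v v'
  )

end Groth.Agent.S6138
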