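import Groth.Statements.S6139
-- import your own Groth.Agent.* helpers here

set_option autoImplicit false
open CategoryTheory CategoryTheory.Limits
universe v u
open SGA4

namespace Groth.Agent.S6139

/-- For an object `X` of a category `C`, the empty sieve on `X` is covering for the canonical topology
of `C` (the finest topology for which every representable presheaf is a sheaf) if and only if `X` is
a strict initial object: `X` is initial and every morphism with target `X` is an isomorphism. (The
source phrases the first condition as: for some topology coarser than the canonical one the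
associated sheaf of `h_X` is initial; that sheaf is initial exactly when the empty sieve covers `X`,
and coverage by the empty sieve passes to the finer canonical topology.) -/
theorem result
    {C : Type u} [Category.{v} C] (X : C) :
    (⊥ : Sieve X) ∈ Sheaf.canonicalTopology C X ↔
      (Nonempty (IsInitial X) ∧ ∀ (Y : C) (f : Y ⟶ X), IsIso f) := by
  have hpb : ∀ {Y : C} (f : Y ⟶ X), (⊥ : Sieve X).pullback f = ⊥ := by
    intro Y f
    ext Z g
    simp
  constructor
  · intro h
    have key : ∀ (Y : C) (f : Y ⟶ X) (Z : C), ∃! t : Y ⟶ Z, True := by
      intro Y f Z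
      have h1 := Sheaf.isSheaf_yoneda_obj Z _ ((Sheaf.canonicalTopology C).pullback_stable f h)
      rw [hpb] at h1
      obtain ⟨t, -, ht⟩ := h1 (fun W g hg => False.elim hg) (fun _ _ _ _ _ _ _ h₁ => False.elim h₁)
      refine ⟨t, trivial, fun t' _ => ht t' ?_⟩
      intro W g hg
      exact False.elim hg
    have init : ∀ (Y : C) (f : Y ⟶ X), IsInitial Y := by
      intro Y f
      refine IsInitial.ofUniqueHom (fun Z => (key Y f Z).choose) ?_
      intro Z m
      exact (key Y f Z).unique trivial trivial
    refine ⟨⟨init X (𝟙 X)⟩, ?_⟩
    intro Y f
    refine ⟨(init X (𝟙 X)).to Y, (init Y f).hom_ext _ _, (init X (𝟙 X)).hom_ext _ _⟩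
  · rintro ⟨⟨hX⟩, hiso⟩
    refine Sheaf.mem_finestTopology_of_forall_isSheafFor ?_
    rintro _ ⟨Z, rfl⟩ Y f
    rw [hpb]
    haveI := hiso Y f
    have hY : IsInitial Y := hX.ofIso (asIso f).symm
    intro x _
    refine ⟨hY.to Z, ?_, ?_⟩
    · intro W g hg
      exact False.elim hg
    · intro t _
      exact hY.hom_ext _ _

end Groth.Agent.S6139
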