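import Groth.Statements.S6144
import Mathlib
import Groth.Agent.Lib.Helper3.SGA4Aux
import Groth.Agent.S6124

set_option autoImplicit false
open CategoryTheory CategoryTheory.Limits
universe w v u
open SGA4

namespace Groth.Agent.S6144

/-- Let `E` be a category with `v`-small hom-sets and pullbacks, admitting a detecting family of objects
indexed by a `v`-small type (maps out of the family jointly reflect isomorphisms). Then every
detecting family `Y : I → E`, indexed by an arbitrary type, contains a detecting subfamily indexed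
by a `v`-small subset of `I`. -/
theorem result
    {E : Type u} [Category.{v} E] [HasPullbacks E] {κ : Type v} (G : κ → E)
    (hG : (ObjectProperty.ofObj G).IsDetecting) {I : Type w} (Y : I → E)
    (hY : (ObjectProperty.ofObj Y).IsDetecting) :
    ∃ J : Set I, Small.{v} J ∧ (ObjectProperty.ofObj (fun j : J => Y j)).IsDetecting := by
  open CategoryTheory.Functor CategoryTheory.Limits Opposite in
  (
    classical
    haveI : ∀ k, Small.{v} (Subobject (G k)) := fun k =>
      small_of_injective (Groth.Agent.H3.SGA4Aux.subobject_ext_of_detecting G hG (G k))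
    let T := Σ k : κ, {X' : Subobject (G k) // X' ≠ ⊤}
    have hchoose : ∀ t : T, ∃ (i : I) (h : Y i ⟶ G t.1), ¬ t.2.1.Factors h := by
      rintro ⟨k, X', hX'⟩
      by_contra hcon
      push Not at hcon
      apply hX'
      rw [← Subobject.isIso_arrow_iff_eq_top, hY.isIso_iff_of_mono]
      rintro _ ⟨i⟩ (h : Y i ⟶ G k)
      exact ⟨X'.factorThru h (hcon i h), Subobject.factorThru_arrow _ _ _⟩
    choose i h hh using hchoose
    refine ⟨Set.range i, inferInstance, ?_⟩
    -- apply S6124 with the coyoneda functors of the `Y j`, `j ∈ J`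
    have H := (Groth.Agent.S6124.result (ObjectProperty.ofObj G) hG
      (φ := fun j : Set.range i => coyoneda.obj (op (Y j)))).mpr ?_
    · intro A B f hf
      apply H
      rintro ⟨j, hj⟩
      rw [isIso_iff_bijective]
      constructor
      · intro a b hab
        exact (hf _ ⟨⟨j, hj⟩⟩ (a ≫ f)).unique rfl hab.symm
      · intro b
        obtain ⟨a, ha, -⟩ := hf _ ⟨⟨j, hj⟩⟩ b
        exact ⟨a, ha⟩
    · rintro _ ⟨k⟩ X' hX'
      refine ⟨⟨i ⟨k, X', hX'⟩, Set.mem_range_self _⟩, ?_⟩
      intro hiso
      rw [isIso_iff_bijective] at hiso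
      obtain ⟨a, ha⟩ := hiso.2 (h ⟨k, X', hX'⟩)
      have hf := Subobject.factors_comp_arrow (P := X') a
      have ha' : a ≫ X'.arrow = h ⟨k, X', hX'⟩ := ha
      rw [ha'] at hf
      exact hh ⟨k, X', hX'⟩ hf
  )

end Groth.Agent.S6144
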