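import Groth.Statements.S6149
import Groth.Agent.Lib.Lead.MS.AcycTensor

set_option autoImplicit false
universe u
open CategoryTheory
open ModSite

namespace Groth.Agent.S6149

open CategoryTheory.Limits in
/-- Ringed topos of sheaves on a small site with commutative structure sheaf O: let M be an acyclic
chain complex of flat O-modules with M_i = 0 for i below some bound. Then for every O-module F the
complex M (x)_O F (tensoring termwise with F) is acyclic. The instance binder on the tensor functor
(it preserves zero morphisms) always holds and is only needed to form the complex. -/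
theorem result {C : Type u} [SmallCategory C] {J : GrothendieckTopology C}
    (O : Sheaf J CommRingCat.{u}) (M : ChainComplex (ModSite.Mod O) ℤ) (F : ModSite.Mod O)
    [((ModSite.tensorBi O).flip.obj F).PreservesZeroMorphisms]
    (hb : ∃ i₀ : ℤ, ∀ i, i < i₀ → IsZero (M.X i)) (hM : ∀ i, ModSite.IsFlat (M.X i)) (hac : M.Acyclic) :
    ((((ModSite.tensorBi O).flip.obj F).mapHomologicalComplex (ComplexShape.down ℤ)).obj M).Acyclic := by
  refine Groth.Agent.LD.MS.acyclic_map_of_class ((ModSite.tensorBi O).flip.obj F)
    (fun X => ModSite.IsFlat X) ?_ ?_ ?_ M hb hM hac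
  · intro X hX
    rw [Groth.Agent.LD.MS.isFlat_iff_preservesMono]
    constructor
    intro G' G m hm
    have hz : CategoryTheory.Limits.IsZero (((ModSite.tensorBi O).flip.obj X).obj G') :=
      Functor.map_isZero ((ModSite.tensorBi O).obj G') hX
    exact ⟨fun g h _ => hz.eq_of_tgt _ _⟩
  · intro S hS h2 h3
    exact Groth.Agent.LD.MS.isFlat_X₁ S hS h2 h3
  · intro S hS h3
    exact Groth.Agent.LD.MS.shortExact_map_flip_of_flat S hS h3 F

end Groth.Agent.S6149
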