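import Groth.Statements.S6152
import Groth.Agent.Lib.Lead.EZ.HomLoc

set_option autoImplicit false
universe u
open CategoryTheory
open ModSite

namespace Groth.Agent.S6152

/-- Second assertion (ringed topos of sheaves on a small site (C, J) with commutative structure sheaf
O): if G is a topologically generating family of objects (every object of C admits a covering family
by members of G), then the free O-modules A_X = j_{X!}(O|X), X in G, form a generating family of the
category of O-modules; stated as: this family detects isomorphisms and is separating. -/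
theorem result {C : Type u} [SmallCategory C] {J : GrothendieckTopology C}
    (O : Sheaf J CommRingCat.{u}) (G : Set C)
    (hG : ∀ X : C, ∃ (ι : Type u) (Y : ι → C) (f : ∀ i, Y i ⟶ X), Sieve.ofArrows Y f ∈ J X ∧ ∀ i, Y i ∈ G) :
    (ObjectProperty.ofObj fun X : G => ModSite.freeOn O (X : C)).IsDetecting ∧
    (ObjectProperty.ofObj fun X : G => ModSite.freeOn O (X : C)).IsSeparating := by
  have hsep : (ObjectProperty.ofObj fun X : G => ModSite.freeOn O (X : C)).IsSeparating := by
    intro M N f g hfg
    -- sections over members of `G`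
    have key : ∀ (Y : C) (_ : Y ∈ G) (t : M.val.obj (Opposite.op Y)),
        (f.val.app (Opposite.op Y)).hom t = (g.val.app (Opposite.op Y)).hom t := by
      intro Y hY t
      let e := Groth.Agent.LD.EZ.unitHomAddEquivOfTerminal ((ModSite.ringSh O).over Y)
        ((ModSite.restr O Y).obj M) (Over.mk (𝟙 Y)) Over.mkIdTerminal
      let one : ((ModSite.ringSh O).over Y).obj.obj (Opposite.op (Over.mk (𝟙 Y))) := 1
      let σ : SheafOfModules.unit ((ModSite.ringSh O).over Y) ⟶ (ModSite.restr O Y).obj M :=
        e.symm t
      have hσ : (σ.val.app (Opposite.op (Over.mk (𝟙 Y)))).hom one = t := e.apply_symm_apply t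
      let h : ModSite.freeOn O Y ⟶ M := ((ModSite.extZeroAdj O Y).homEquiv _ _).symm σ
      have h1 := hfg _ (ObjectProperty.ofObj_apply _ ⟨Y, hY⟩) h
      have h2 := congrArg ((ModSite.extZeroAdj O Y).homEquiv _ _) h1
      rw [Adjunction.homEquiv_naturality_right, Adjunction.homEquiv_naturality_right,
        Equiv.apply_symm_apply] at h2
      have h3 := congrArg (fun ψ : SheafOfModules.unit ((ModSite.ringSh O).over Y) ⟶
        (ModSite.restr O Y).obj N => (ψ.val.app (Opposite.op (Over.mk (𝟙 Y)))).hom one) h2
      change (f.val.app (Opposite.op Y)).hom ((σ.val.app (Opposite.op (Over.mk (𝟙 Y)))).hom one) =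
        (g.val.app (Opposite.op Y)).hom ((σ.val.app (Opposite.op (Over.mk (𝟙 Y)))).hom one) at h3
      rw [hσ] at h3
      exact h3
    apply (SheafOfModules.toSheaf _).map_injective
    ext W s
    obtain ⟨ι, Yf, k, hcov, hY⟩ := hG W.unop
    refine ((SheafOfModules.toSheaf (ModSite.ringSh O)).obj N).property.isSeparated W.unop _ hcov
      _ _ (fun W' a ha => ?_)
    obtain ⟨Z, b, c, ⟨i⟩, rfl⟩ := ha
    have e1 := NatTrans.naturality_apply
      ((SheafOfModules.toSheaf (ModSite.ringSh O)).map f).hom (k i).op s
    have e2 := NatTrans.naturality_apply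
      ((SheafOfModules.toSheaf (ModSite.ringSh O)).map g).hom (k i).op s
    have n3 : ((SheafOfModules.toSheaf (ModSite.ringSh O)).map f).hom.app (Opposite.op (Yf i))
          (((SheafOfModules.toSheaf (ModSite.ringSh O)).obj M).obj.map (k i).op s) =
        ((SheafOfModules.toSheaf (ModSite.ringSh O)).map g).hom.app (Opposite.op (Yf i))
          (((SheafOfModules.toSheaf (ModSite.ringSh O)).obj M).obj.map (k i).op s) :=
      key _ (hY i) _
    rw [op_comp, Functor.map_comp, ConcreteCategory.comp_apply, ConcreteCategory.comp_apply,
      ← e1, ← e2, n3]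
  exact ⟨hsep.isDetecting, hsep⟩

end Groth.Agent.S6152
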