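import Groth.Statements.S6160
import Mathlib
import Groth.Agent.Lib.Helper3.ModSiteAux

set_option autoImplicit false
universe u
open CategoryTheory
open ModSite

namespace Groth.Agent.S6160

open CategoryTheory.Limits in
/-- Ringed topos of sheaves on a small site; u : A -> B a morphism of sheaves of rings: the
restriction-of-scalars functor from B-Modules to A-Modules commutes with all u-small limits and
colimits and is conservative. -/
theorem result {C : Type u} [SmallCategory C]
    {J : GrothendieckTopology C} {A B : Sheaf J RingCat.{u}} (φ : A ⟶ B) :
    PreservesLimitsOfSize.{u, u} (SheafOfModules.restrictScalars.{u} φ) ∧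
    PreservesColimitsOfSize.{u, u} (SheafOfModules.restrictScalars.{u} φ) ∧
    (SheafOfModules.restrictScalars.{u} φ).ReflectsIsomorphisms := by
  open CategoryTheory.Functor CategoryTheory.Limits Opposite Groth.Agent.H3.ModSiteAux in
  (
    have hA1 : ReflectsLimitsOfSize.{u, u} (SheafOfModules.toSheaf.{u} A) :=
      reflectsLimits_of_reflectsIsomorphisms
    have hA2 : ReflectsColimitsOfSize.{u, u} (SheafOfModules.toSheaf.{u} A) :=
      reflectsColimits_of_reflectsIsomorphisms
    have e : SheafOfModules.restrictScalars.{u} φ ⋙ SheafOfModules.toSheaf.{u} A =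
        SheafOfModules.toSheaf.{u} B := rfl
    refine ⟨?_, ?_, ?_⟩
    · have : PreservesLimitsOfSize.{u, u}
          (SheafOfModules.restrictScalars.{u} φ ⋙ SheafOfModules.toSheaf.{u} A) := by
        rw [e]; infer_instance
      exact preservesLimits_of_reflects_of_preserves _ (SheafOfModules.toSheaf.{u} A)
    · have : PreservesColimitsOfSize.{u, u}
          (SheafOfModules.restrictScalars.{u} φ ⋙ SheafOfModules.toSheaf.{u} A) := by
        rw [e]; infer_instance
      exact preservesColimits_of_reflects_of_preserves _ (SheafOfModules.toSheaf.{u} A)
    · have : (SheafOfModules.restrictScalars.{u} φ ⋙ SheafOfModules.toSheaf.{u} A).ReflectsIsomorphisms := by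
        rw [e]; infer_instance
      exact reflectsIsomorphisms_of_comp _ (SheafOfModules.toSheaf.{u} A)
  )

end Groth.Agent.S6160
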