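import Groth.Statements.S6166
import Groth.Agent.Lib.Lead.AbPull.LerayDeg

set_option autoImplicit false
universe u
open CategoryTheory
open CohSite

namespace Groth.Agent.S6166

open CategoryTheory.Limits in
/-- Let u : D -> C be a continuous functor between small sites with exact pullback on sheaves of sets (a
morphism of topoi), and take the topologically generating families to be all objects of C, resp. of
D, so that the inverse image of the second lies in the first. For an abelian sheaf F on C: if H^q(U,
F) = 0 for all objects U of C and all q > 0, then H^q(V, u_* F) = 0 for all objects V of D and all q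
> 0, where u_* F = F o u. -/
theorem result {C D : Type u} [SmallCategory C] [SmallCategory D]
    (J : GrothendieckTopology C) (K : GrothendieckTopology D) (u : D ⥤ C) [u.IsContinuous K J]
    [PreservesFiniteLimits (u.sheafPullback (Type u) K J)] (F : Sheaf J AddCommGrpCat.{u})
    (hF : ∀ (U : C) (q : ℕ), Subsingleton (CohSite.HU F (q + 1) U)) (V : D) (q : ℕ) :
    Subsingleton (CohSite.HU ((CohSite.push J K u).obj F) (q + 1) V) := by
  have h0 : ∀ (U : C) (q : ℕ), Subsingleton (Abelian.Ext.{u} (Groth.Agent.LD.SC.ZU J U) F (q + 1)) :=
    fun U q => hF U q
  obtain ⟨e⟩ := Groth.Agent.LD.AbPull.leray_site_of_isZero_rightDerived J K u F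
    (fun q => Groth.Agent.LD.AbPull.isZero_rightDerived_push_of_subsingleton J K u F h0 q) V (q + 1)
  haveI := h0 (u.obj V) q
  exact e.symm.toEquiv.subsingleton

end Groth.Agent.S6166
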