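import Groth.Statements.S6196
import Mathlib
import Groth.Agent.H4.Spread1

set_option autoImplicit false
universe u
open CategoryTheory CategoryTheory.Limits AlgebraicGeometry
attribute [local instance] HasDerivedCategory.standard
open KSix

namespace Groth.Agent.S6196

/-- Let X be a scheme, x ∈ X and P a perfect object of the derived category of the local ring of X at x.
Then there are an open neighbourhood U of x and a cochain complex F' of O_X-modules, perfect over U,
whose complex of stalks at x is isomorphic to P in that derived category. (The published statement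
is for a point of a ringed topos; this row is the case of schemes, the complex being taken on all of
X and asked to be perfect over U.) -/
theorem result {X : Scheme.{u}} (x : X) (P : Dual.D ((X.presheaf.stalk x) : Type u))
    (hP : DRing.IsPerfect ((X.presheaf.stalk x) : Type u) P) :
    ∃ (U : X.Opens) (F' : CochainComplex X.Modules ℤ), x ∈ U ∧
      DCoh.IsPerfect (DerivedCategory.Q.obj ((DCoh.restrictCx U).obj F')) ∧
      Nonempty (DRing.toD (((DerSch.stalkFunctor X x).mapHomologicalComplex (ComplexShape.up ℤ)).obj F') ≅ P) := by
  obtain ⟨E, a, c, hE, hp, ⟨e⟩⟩ := hP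
  obtain ⟨W, hxW, G, hG, ⟨θ⟩⟩ := Groth.Agent.H4.Spread1.exists_spread x E a c hE hp
  exact ⟨W, (DerSch.pushCx W.ι).obj G, hxW, Groth.Agent.H4.Spread1.isPerfect_restrict_pushCx W G hG,
    ⟨DerivedCategory.Q.mapIso θ ≪≫ e⟩⟩

end Groth.Agent.S6196
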