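import Groth.Statements.S6239
import Mathlib
import Groth.Agent.Lib.Helper3.KSixAux

set_option autoImplicit false
universe u
open CategoryTheory CategoryTheory.Limits AlgebraicGeometry
attribute [local instance] HasDerivedCategory.standard
open KSix

namespace Groth.Agent.S6239

/-- Let f : X ⟶ Y be a morphism with X quasi-compact and F a cochain complex of O_X-modules which is
perfect relative to f (pseudo-coherent relative to f in chart form, and locally on X of finite
stalkwise tor amplitude over the local rings of Y). Then F has finite perfect amplitude relative to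
f: one interval [a, b] works at every point of X. -/
theorem result {X Y : Scheme.{u}} [CompactSpace X] (f : X ⟶ Y)
    (F : CochainComplex X.Modules ℤ) (hF : DerSch.IsPerfectRel f F) :
    DerSch.HasFinitePerfAmplitudeRel f F := by
  open Groth.Agent.H3.KSixAux in
  (
    obtain ⟨h1, h2⟩ := hF
    choose V a b hxV hV using h2
    obtain ⟨t, ht⟩ := isCompact_univ.elim_finite_subcover (fun x => ((V x : X.Opens) : Set X))
      (fun x => (V x).isOpen) (fun x _ => Set.mem_iUnion.mpr ⟨x, hxV x⟩)
    -- lower bound / upper bound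
    obtain ⟨a0, ha0⟩ : ∃ a0 : ℤ, ∀ x ∈ t, a0 ≤ a x := by
      by_cases hne : t.Nonempty
      · exact ⟨t.inf' hne a, fun x hx => Finset.inf'_le a hx⟩
      · exact ⟨0, fun x hx => absurd ⟨x, hx⟩ hne⟩
    obtain ⟨b0, hb0⟩ : ∃ b0 : ℤ, ∀ x ∈ t, b x ≤ b0 := by
      by_cases hne : t.Nonempty
      · exact ⟨t.sup' hne b, fun x hx => Finset.le_sup' b hx⟩
      · exact ⟨0, fun x hx => absurd ⟨x, hx⟩ hne⟩
    refine ⟨a0, b0, h1, fun x => ?_⟩
    have hx := ht (Set.mem_univ x)
    simp only [Set.mem_iUnion] at hx
    obtain ⟨y, hy, hxy⟩ := hx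
    exact hasTorAmplitudeIn_mono _ _ (hV y x hxy) (ha0 y hy) (hb0 y hy)
  )

end Groth.Agent.S6239
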