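import Groth.Statements.S6267
import Mathlib
import Groth.Agent.Lib.Helper3.CAlgAux

set_option autoImplicit false
universe u
open CAlg

namespace Groth.Agent.S6267

/-- Let R be a ring and f : M → M' a map of R-modules with M' flat. Then f is universally injective
exactly when, for each finitely generated ideal I of R, the induced map M ⊗ R/I → M' ⊗ R/I (that is,
M/IM → M'/IM') is injective. -/
theorem result {R : Type u} [CommRing R] {M M' : Type u} [AddCommGroup M] [Module R M] [AddCommGroup M'] [Module R M'] [Module.Flat R M'] (f : M →ₗ[R] M') : CAlgX.UniversallyInjective R f ↔ ∀ I : Ideal R, I.FG → Function.Injective (f.rTensor (R ⧸ I)) := by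
  open TensorProduct Groth.Agent.H3.CAlgAux in
  (
    constructor
    · intro h I _
      exact h (R ⧸ I)
    · intro h
      -- f is injective
      have hinj : Function.Injective f := by
        have h0 := h ⊥ Submodule.fg_bot
        rw [injective_iff_map_eq_zero]
        intro x hx
        have h1 : (f.rTensor (R ⧸ (⊥ : Ideal R))) (x ⊗ₜ[R] 1) = 0 := by
          rw [LinearMap.rTensor_tmul, hx, zero_tmul]
        have h2 : x ⊗ₜ[R] (1 : R ⧸ (⊥ : Ideal R)) = 0 := h0 (by rw [h1, map_zero])
        let e : (R ⧸ (⊥ : Ideal R)) ≃ₗ[R] R := Submodule.quotEquivOfEqBot ⊥ rfl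
        have h3 := congrArg (fun t => (TensorProduct.rid R M) ((e.toLinearMap.lTensor M) t)) h2
        simp only [LinearMap.lTensor_tmul, map_zero] at h3
        have he : e (1 : R ⧸ (⊥ : Ideal R)) = 1 := by
          have : (1 : R ⧸ (⊥ : Ideal R)) = Submodule.Quotient.mk (1 : R) := rfl
          rw [this]
          exact Submodule.quotEquivOfEqBot_apply_mk _ _ _
        simpa [he] using h3
      set N := M' ⧸ LinearMap.range f with hN
      have hex : Function.Exact f (LinearMap.range f).mkQ := LinearMap.exact_map_mkQ_range f
      have hsurj : Function.Surjective (LinearMap.range f).mkQ := Submodule.mkQ_surjective _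
      have hflat : Module.Flat R N := by
        rw [Module.Flat.iff_lTensor_injective]
        intro I hI
        refine lTensor_injective_of_exact f (LinearMap.range f).mkQ hex hsurj I.subtype I.mkQ
          ?_ (Submodule.mkQ_surjective I) ?_ (h I hI)
        · exact LinearMap.exact_subtype_mkQ I
        · exact Module.Flat.lTensor_preserves_injective_linearMap _ (Submodule.injective_subtype I)
      intro Q _ _
      exact rTensor_injective_of_flat_coker f (LinearMap.range f).mkQ hinj hex hsurj Q
  )

end Groth.Agent.S6267
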