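import Groth.Statements.S6268
import Mathlib

set_option autoImplicit false
universe u
open CAlg

namespace Groth.Agent.S6268

/-- Suppose the structure map R → S of an R-algebra S is universally injective as an R-linear map. Then
tensoring with S detects injectivity and surjectivity of R-linear maps (and hence reflects
isomorphisms): for an R-linear g : M → N, if S ⊗ g is injective then so is g, and if S ⊗ g is
surjective then so is g. -/
theorem result {R S : Type u} [CommRing R] [CommRing S] [Algebra R S] (hS : CAlgX.UniversallyInjective R (Algebra.linearMap R S)) {M N : Type u} [AddCommGroup M] [Module R M] [AddCommGroup N] [Module R N] (g : M →ₗ[R] N) : (Function.Injective (g.lTensor S) → Function.Injective g) ∧ (Function.Surjective (g.lTensor S) → Function.Surjective g) := by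
  open TensorProduct in
  (
    have key : ∀ (Q : Type u) [AddCommGroup Q] [Module R Q] (x : Q), (1 : S) ⊗ₜ[R] x = 0 → x = 0 := by
      intro Q _ _ x hx
      have h1 : ((Algebra.linearMap R S).rTensor Q) ((1 : R) ⊗ₜ[R] x) = 0 := by
        rw [LinearMap.rTensor_tmul, Algebra.linearMap_apply, map_one, hx]
      have h2 : (1 : R) ⊗ₜ[R] x = 0 := hS Q (by rw [h1, map_zero])
      have := congrArg (TensorProduct.lid R Q) h2
      simpa using this
    constructor
    · intro hinj
      rw [injective_iff_map_eq_zero]
      intro x hx
      apply key M x
      apply hinj
      rw [LinearMap.lTensor_tmul, hx, tmul_zero, map_zero]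
    · intro hsurj
      set Q := N ⧸ LinearMap.range g with hQ
      have hsub : ∀ y : N, (LinearMap.range g).mkQ y = 0 := by
        intro y
        apply key Q
        obtain ⟨z, hz⟩ := hsurj ((1 : S) ⊗ₜ[R] y)
        have : (1 : S) ⊗ₜ[R] ((LinearMap.range g).mkQ y) = ((LinearMap.range g).mkQ.lTensor S) ((g.lTensor S) z) := by
          rw [hz, LinearMap.lTensor_tmul]
        rw [this, ← LinearMap.comp_apply, ← LinearMap.lTensor_comp]
        have : (LinearMap.range g).mkQ ∘ₗ g = 0 := by
          ext m; simp
        rw [this, LinearMap.lTensor_zero, LinearMap.zero_apply]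
      intro y
      have := hsub y
      rw [Submodule.mkQ_apply, Submodule.Quotient.mk_eq_zero] at this
      exact this
  )

end Groth.Agent.S6268
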