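import Groth.Statements.S6269
import Mathlib

set_option autoImplicit false
universe u
open CAlg

namespace Groth.Agent.S6269

/-- Let 0 → M₁ → M₂ → M₃ → 0 be a universally exact sequence of R-modules (a short exact sequence whose
first map is universally injective) with M₂ flat. Then M₁ and M₃ are flat. -/
theorem result {R : Type u} [CommRing R] {M₁ M₂ M₃ : Type u} [AddCommGroup M₁] [Module R M₁] [AddCommGroup M₂] [Module R M₂] [AddCommGroup M₃] [Module R M₃] (f : M₁ →ₗ[R] M₂) (g : M₂ →ₗ[R] M₃) (hexact : Function.Exact f g) (hg : Function.Surjective g) (hf : CAlgX.UniversallyInjective R f) [Module.Flat R M₂] : Module.Flat R M₁ ∧ Module.Flat R M₃ := by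
  open TensorProduct in
  (
    constructor
    · rw [Module.Flat.iff_lTensor_preserves_injective_linearMap'.{u}]
      intro N' N _ _ _ _ i hi
      have h1 : Function.Injective ((i.lTensor M₂) ∘ₗ (f.rTensor N')) :=
        (Module.Flat.lTensor_preserves_injective_linearMap i hi).comp (hf N')
      have h2 : (i.lTensor M₂) ∘ₗ (f.rTensor N') = (f.rTensor N) ∘ₗ (i.lTensor M₁) := by
        rw [LinearMap.lTensor_comp_rTensor, LinearMap.rTensor_comp_lTensor]
      rw [h2] at h1
      exact Function.Injective.of_comp h1
    · rw [Module.Flat.iff_lTensor_preserves_injective_linearMap'.{u}]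
      intro N' N _ _ _ _ i hi
      rw [injective_iff_map_eq_zero]
      intro x hx
      -- step 1
      obtain ⟨y, rfl⟩ := LinearMap.rTensor_surjective N' hg x
      -- step 2
      have e2 : (g.rTensor N) ((i.lTensor M₂) y) = 0 := by
        rw [← LinearMap.comp_apply, LinearMap.rTensor_comp_lTensor, ← LinearMap.lTensor_comp_rTensor,
          LinearMap.comp_apply, hx]
      obtain ⟨z, hz⟩ := (rTensor_exact N hexact hg _).mp e2
      -- step 3
      set Q := N ⧸ LinearMap.range i with hQ
      set π := (LinearMap.range i).mkQ with hπ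
      have hiπ : Function.Exact i π := LinearMap.exact_map_mkQ_range i
      have hπs : Function.Surjective π := Submodule.mkQ_surjective _
      have e3 : (f.rTensor Q) ((π.lTensor M₁) z) = 0 := by
        rw [← LinearMap.comp_apply, LinearMap.rTensor_comp_lTensor, ← LinearMap.lTensor_comp_rTensor,
          LinearMap.comp_apply, hz, ← LinearMap.comp_apply, ← LinearMap.lTensor_comp]
        have : π ∘ₗ i = 0 := hiπ.linearMap_comp_eq_zero
        rw [this, LinearMap.lTensor_zero, LinearMap.zero_apply]
      have e3' : (π.lTensor M₁) z = 0 := hf Q (by rw [e3, map_zero])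
      obtain ⟨w, hw⟩ := (lTensor_exact M₁ hiπ hπs _).mp e3'
      -- step 4
      have e4 : (i.lTensor M₂) ((f.rTensor N') w) = (i.lTensor M₂) y := by
        rw [← LinearMap.comp_apply, LinearMap.lTensor_comp_rTensor, ← LinearMap.rTensor_comp_lTensor,
          LinearMap.comp_apply, hw, hz]
      have e4' : (f.rTensor N') w = y :=
        Module.Flat.lTensor_preserves_injective_linearMap i hi e4
      -- step 5
      rw [← e4', ← LinearMap.comp_apply, ← LinearMap.rTensor_comp]
      have : g ∘ₗ f = 0 := hexact.linearMap_comp_eq_zero
      rw [this, LinearMap.rTensor_zero, LinearMap.zero_apply]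
  )

end Groth.Agent.S6269
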