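import Groth.Statements.S6273
import Mathlib

set_option autoImplicit false
universe u
open CAlg

namespace Groth.Agent.S6273

/-- Let R be a ring, S ⊆ R a multiplicative subset and A = S⁻¹R. If the image of Spec(A) → Spec(R) is
closed, then the localization map R → A is surjective; in particular A is isomorphic to R/I for the
ideal I = ker(R → A). -/
theorem result {R : Type u} [CommRing R] (S : Submonoid R) (A : Type u) [CommRing A] [Algebra R A] [IsLocalization S A] (hcl : IsClosed (Set.range (PrimeSpectrum.comap (algebraMap R A)))) : Function.Surjective (algebraMap R A) := by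
  open TensorProduct in
  (
    set I := RingHom.ker (algebraMap R A) with hI
    have hV : PrimeSpectrum.zeroLocus (I : Set R) = Set.range (PrimeSpectrum.comap (algebraMap R A)) := by
      rw [← PrimeSpectrum.closure_range_comap, hcl.closure_eq]
    -- each s ∈ S is a unit mod I
    have hunit : ∀ s ∈ S, ∃ r : R, algebraMap R A (s * r) = 1 := by
      intro s hs
      have hu : IsUnit (Ideal.Quotient.mk I s) := by
        by_contra hnu
        obtain ⟨m, hm, hsm⟩ := exists_max_ideal_of_mem_nonunits (mem_nonunits_iff.mpr hnu)
        have hmp : (m.comap (Ideal.Quotient.mk I)).IsPrime := Ideal.comap_isPrime _ _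
        let P : PrimeSpectrum R := ⟨m.comap (Ideal.Quotient.mk I), hmp⟩
        have hP : P ∈ PrimeSpectrum.zeroLocus (I : Set R) := by
          intro x hx
          change Ideal.Quotient.mk I x ∈ m
          rw [Ideal.Quotient.eq_zero_iff_mem.mpr hx]
          exact m.zero_mem
        rw [hV] at hP
        obtain ⟨q, hq⟩ := hP
        have hsq : algebraMap R A s ∈ q.asIdeal := by
          have : s ∈ P.asIdeal := hsm
          rw [← hq] at this
          exact this
        exact q.2.ne_top (Ideal.eq_top_of_isUnit_mem _ hsq (IsLocalization.map_units A ⟨s, hs⟩))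
      obtain ⟨u, hu'⟩ := hu.exists_right_inv
      obtain ⟨r, rfl⟩ := Ideal.Quotient.mk_surjective u
      refine ⟨r, ?_⟩
      rw [← map_mul, ← map_one (Ideal.Quotient.mk I), Ideal.Quotient.eq] at hu'
      have : algebraMap R A (s * r - 1) = 0 := hu'
      rw [map_sub, map_one, sub_eq_zero] at this
      exact this
    intro a
    obtain ⟨⟨x, s⟩, hxs⟩ := IsLocalization.surj S a
    obtain ⟨r, hr⟩ := hunit s.1 s.2
    refine ⟨x * r, ?_⟩
    simp only at hxs
    rw [map_mul, ← hxs, mul_assoc, ← map_mul, hr, mul_one]
  )

end Groth.Agent.S6273
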