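import Groth.Statements.S6275
-- import your own Groth.Agent.* helpers here

set_option autoImplicit false
universe u
open CAlg

namespace Groth.Agent.S6275

/-- Let R be a Noetherian ring and p ⊆ R a prime. Then there is f ∈ R, f ∉ p, such that R_f → R_p is
injective; equivalently every x ∈ R mapping to zero in R_p maps to zero in R_f. (The cases of a
domain and of a reduced ring with finitely many minimal primes are not included here.) -/
theorem result {R : Type u} [CommRing R] [IsNoetherianRing R] (p : Ideal R) [p.IsPrime] : ∃ f : R, f ∉ p ∧ ∀ x : R, algebraMap R (Localization.AtPrime p) x = 0 → algebraMap R (Localization.Away f) x = 0 := by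
  let K : Ideal R := RingHom.ker (algebraMap R (Localization.AtPrime p))
  obtain ⟨s, hs⟩ := (isNoetherianRing_iff_ideal_fg R).mp inferInstance K
  have h1 : ∀ x ∈ K, ∃ t : R, t ∉ p ∧ t * x = 0 := by
    intro x hx
    rw [RingHom.mem_ker, IsLocalization.map_eq_zero_iff p.primeCompl] at hx
    obtain ⟨m, hm⟩ := hx
    exact ⟨m.1, m.2, hm⟩
  have h2 : ∃ f : R, f ∉ p ∧ ∀ x ∈ s, f * x = 0 := by
    classical
    have : ∀ x ∈ s, ∃ t : R, t ∉ p ∧ t * x = 0 := fun x hx => h1 x (hs ▸ Ideal.subset_span hx)
    choose! t ht1 ht2 using this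
    refine ⟨∏ x ∈ s, t x, ?_, ?_⟩
    · intro hmem
      obtain ⟨x, hx, hx'⟩ := (Ideal.IsPrime.prod_mem_iff (hp := inferInstance)).mp hmem
      exact ht1 x hx hx'
    · intro x hx
      rw [← Finset.mul_prod_erase s t hx, mul_comm (t x), mul_assoc, ht2 x hx, mul_zero]
  obtain ⟨f, hf, hfs⟩ := h2
  refine ⟨f, hf, fun x hx => ?_⟩
  have hxK : x ∈ K := hx
  have hfx : f * x = 0 := by
    rw [← hs] at hxK
    refine Submodule.span_induction (p := fun x _ => f * x = 0) ?_ ?_ ?_ ?_ hxK
    · intro y hy; exact hfs y hy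
    · simp
    · intro a b _ _ ha hb; rw [mul_add, ha, hb, add_zero]
    · intro a b _ hb; rw [smul_eq_mul, mul_left_comm, hb, mul_zero]
  rw [IsLocalization.map_eq_zero_iff (Submonoid.powers f)]
  exact ⟨⟨f, Submonoid.mem_powers f⟩, hfx⟩

end Groth.Agent.S6275
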