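import Groth.Statements.S6278
import Groth.Agent.Lib.Helper3.CA.NorTotFrac

set_option autoImplicit false
universe u
open CAlg

namespace Groth.Agent.S6278

/-- A normal ring R (all localizations at primes are integrally closed domains) is integrally closed in
its total ring of fractions. -/
theorem result (R : Type u) [CommRing R] (hR : EGA4.IsNormalRing R) : IsIntegrallyClosedIn R (FractionRing R) := by
  exact Groth.Agent.H3.NorTotFrac.main R hR

end Groth.Agent.S6278
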