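import Groth.Statements.S6281
import Mathlib

set_option autoImplicit false
universe u
open CAlg

namespace Groth.Agent.S6281

/-- For an R-algebra S and an S-module M, flatness of S over R follows once M is both flat over R and
faithfully flat over S. -/
theorem result {R S : Type u} [CommRing R] [CommRing S] [Algebra R S] (M : Type u) [AddCommGroup M] [Module S M] [Module R M] [IsScalarTower R S M] [Module.Flat R M] [Module.FaithfullyFlat S M] : Module.Flat R S := by
  open TensorProduct in
  (
    rw [Module.Flat.iff_lTensor_preserves_injective_linearMap'.{u}]
    intro N' N _ _ _ _ i hi
    have h1 : Function.Injective (i.baseChange S) := by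
      rw [← Module.FaithfullyFlat.lTensor_injective_iff_injective S M]
      have key : ∀ t : M ⊗[S] (S ⊗[R] N'),
          (AlgebraTensorModule.cancelBaseChange R S S M N) (((i.baseChange S).lTensor M) t) =
          (i.lTensor M) ((AlgebraTensorModule.cancelBaseChange R S S M N') t) := by
        intro t
        induction t using TensorProduct.induction_on with
        | zero => simp
        | add x y hx hy => simp only [map_add, hx, hy]
        | tmul m y =>
          induction y using TensorProduct.induction_on with
          | zero => simp
          | add x y hx hy => simp only [tmul_add, map_add, hx, hy]
          | tmul s n => simp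
      intro a b hab
      have h2 := congrArg (AlgebraTensorModule.cancelBaseChange R S S M N) hab
      rw [key, key] at h2
      have h3 := Module.Flat.lTensor_preserves_injective_linearMap (M := M) i hi h2
      exact (AlgebraTensorModule.cancelBaseChange R S S M N').injective h3
    exact h1
  )

end Groth.Agent.S6281
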