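import Groth.Statements.S6289
import Mathlib

set_option autoImplicit false
universe u
open CAlg

namespace Groth.Agent.S6289

/-- Let A' be a valuation ring with residue field K and A ⊆ K a valuation ring with fraction field K.
Then the subring C of A' consisting of the elements whose residue class lies in A is a valuation
ring. -/
theorem result (A' : Type u) [CommRing A'] [IsDomain A'] [ValuationRing A'] (A : ValuationSubring (IsLocalRing.ResidueField A')) : ValuationRing (A.toSubring.comap (IsLocalRing.residue A')) := by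
  -- key: for c : A', either c ∈ C or (c is a unit and c⁻¹ ∈ C)
  have key : ∀ c : A', c ∈ A.toSubring.comap (IsLocalRing.residue A') ∨
      ∃ d : A', d ∈ A.toSubring.comap (IsLocalRing.residue A') ∧ c * d = 1 := by
    intro c
    by_cases hc : IsLocalRing.residue A' c ∈ A
    · exact Or.inl hc
    · right
      have hinv : (IsLocalRing.residue A' c)⁻¹ ∈ A := (A.mem_or_inv_mem _).resolve_left hc
      have hne : IsLocalRing.residue A' c ≠ 0 := by
        intro h0; apply hc; rw [h0]; exact A.zero_mem
      have hu : IsUnit c := by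
        by_contra hnu
        exact hne ((IsLocalRing.residue_eq_zero_iff c).mpr ((IsLocalRing.mem_maximalIdeal c).mpr hnu))
      obtain ⟨u, rfl⟩ := hu
      refine ⟨(u⁻¹ : A'ˣ), ?_, by simp⟩
      change IsLocalRing.residue A' ((u⁻¹ : A'ˣ) : A') ∈ A
      have : IsLocalRing.residue A' ((u⁻¹ : A'ˣ) : A') = (IsLocalRing.residue A' (u : A'))⁻¹ := by
        apply eq_inv_of_mul_eq_one_left
        rw [← map_mul]; simp
      rw [this]; exact hinv
  refine { cond' := fun a b => ?_ }
  obtain ⟨c, hc | hc⟩ := ValuationRing.cond (a : A') (b : A')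
  · rcases key c with hcC | ⟨d, hdC, hcd⟩
    · exact ⟨⟨c, hcC⟩, Or.inl (Subtype.ext hc)⟩
    · refine ⟨⟨d, hdC⟩, Or.inr (Subtype.ext ?_)⟩
      change (b : A') * d = a
      rw [← hc, mul_assoc, hcd, mul_one]
  · rcases key c with hcC | ⟨d, hdC, hcd⟩
    · exact ⟨⟨c, hcC⟩, Or.inr (Subtype.ext hc)⟩
    · refine ⟨⟨d, hdC⟩, Or.inl (Subtype.ext ?_)⟩
      change (a : A') * d = b
      rw [← hc, mul_assoc, hcd, mul_one]

end Groth.Agent.S6289
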