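import Groth.Statements.S6290
import Mathlib

set_option autoImplicit false
universe u
open CAlg

namespace Groth.Agent.S6290

/-- Let R be a Noetherian ring, I ⊆ R an ideal, M a finite R-module and N = ⋂ₙ IⁿM. Then for every prime
p ⊇ I there is f ∈ R, f ∉ p, with N_f = 0, i.e. every element of N is annihilated by some power of
f. -/
theorem result {R : Type u} [CommRing R] [IsNoetherianRing R] (I : Ideal R) (M : Type u) [AddCommGroup M] [Module R M] [Module.Finite R M] (p : Ideal R) [p.IsPrime] (hIp : I ≤ p) : ∃ f : R, f ∉ p ∧ ∀ x ∈ (⨅ n : ℕ, I ^ n • (⊤ : Submodule R M)), ∃ k : ℕ, f ^ k • x = 0 := by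
  classical
  set N : Submodule R M := ⨅ n : ℕ, I ^ n • (⊤ : Submodule R M) with hN
  have hfg : N.FG := IsNoetherian.noetherian N
  obtain ⟨s, hs⟩ := hfg
  have h1 : ∀ x ∈ s, ∃ r : R, r ∈ I ∧ (1 - r) • x = 0 := by
    intro x hx
    have hxN : x ∈ N := hs ▸ Submodule.subset_span hx
    obtain ⟨r, hr⟩ := (I.mem_iInf_smul_pow_eq_bot_iff x).mp hxN
    exact ⟨r.1, r.2, by rw [sub_smul, one_smul, hr, sub_self]⟩
  choose! r hr1 hr2 using h1
  refine ⟨∏ x ∈ s, (1 - r x), ?_, ?_⟩
  · intro hmem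
    obtain ⟨x, hx, hx'⟩ := (Ideal.IsPrime.prod_mem_iff (hp := inferInstance)).mp hmem
    have : (1 : R) ∈ p := by
      have := p.add_mem hx' (hIp (hr1 x hx))
      simpa using this
    exact (Ideal.ne_top_iff_one p).mp (Ideal.IsPrime.ne_top inferInstance) this
  · intro x hx
    refine ⟨1, ?_⟩
    rw [pow_one]
    rw [← hs] at hx
    refine Submodule.span_induction (p := fun x _ => (∏ x ∈ s, (1 - r x)) • x = 0) ?_ ?_ ?_ ?_ hx
    · intro y hy
      rw [← Finset.mul_prod_erase s _ hy, mul_comm, mul_smul, hr2 y hy, smul_zero]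
    · simp
    · intro a b _ _ ha hb; rw [smul_add, ha, hb, add_zero]
    · intro a b _ hb; rw [smul_comm, hb, smul_zero]

end Groth.Agent.S6290
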