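import Groth.Statements.S6292
import Mathlib
import Groth.Agent.Lib.Helper3.CAlgAux

set_option autoImplicit false
universe u
open CAlg

namespace Groth.Agent.S6292

/-- Let R be a ring and m ⊆ R a finitely generated maximal ideal (for instance R Noetherian). If M is a
finite R-module with mⁿM = 0 for some n, then M has finite length. -/
theorem result {R : Type u} [CommRing R] (m : Ideal R) [m.IsMaximal] (hm : m.FG) (M : Type u) [AddCommGroup M] [Module R M] [Module.Finite R M] (n : ℕ) (hn : m ^ n • (⊤ : Submodule R M) = ⊥) : IsFiniteLength R M := by
  open Groth.Agent.H3.CAlgAux in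
  (
    induction n generalizing M with
    | zero =>
      rw [pow_zero, Ideal.one_eq_top, Submodule.top_smul] at hn
      have : Subsingleton M := by
        refine ⟨fun a b => ?_⟩
        have ha : a ∈ (⊤ : Submodule R M) := trivial
        have hb : b ∈ (⊤ : Submodule R M) := trivial
        rw [hn] at ha hb
        rw [(Submodule.mem_bot R).mp ha, (Submodule.mem_bot R).mp hb]
      exact IsFiniteLength.of_subsingleton
    | succ n ih =>
      set N : Submodule R M := m • (⊤ : Submodule R M) with hN
      have hNfg : N.FG := Submodule.FG.smul hm Module.Finite.fg_top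
      haveI : Module.Finite R N := Module.Finite.iff_fg.mpr hNfg
      have h1 : m ^ n • (⊤ : Submodule R N) = ⊥ := by
        apply Submodule.map_injective_of_injective (Submodule.injective_subtype N)
        rw [Submodule.map_smul'', Submodule.map_top, Submodule.range_subtype, Submodule.map_bot,
          hN, ← mul_smul, ← pow_succ]
        exact hn
      have h2 : m • (⊤ : Submodule R (M ⧸ N)) = ⊥ := by
        have : (⊤ : Submodule R (M ⧸ N)) = Submodule.map N.mkQ ⊤ := by
          rw [Submodule.map_top, Submodule.range_mkQ]
        rw [this, ← Submodule.map_smul'', ← hN]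
        simp
      have hlN := ih N h1
      have hlQ := isFiniteLength_of_maximal_smul_top_eq_bot m (M ⧸ N) h2
      rw [← Module.length_ne_top_iff] at hlN hlQ ⊢
      rw [Module.length_eq_add_of_exact N.subtype N.mkQ (Submodule.injective_subtype N)
        (Submodule.mkQ_surjective N) (LinearMap.exact_subtype_mkQ N)]
      exact WithTop.add_ne_top.mpr ⟨hlN, hlQ⟩
  )

end Groth.Agent.S6292
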