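import Groth.Statements.S6295
import Mathlib
import Groth.Agent.Lib.Helper3.CAlgAux

set_option autoImplicit false
universe u
open CAlg

namespace Groth.Agent.S6295

/-- Let R be a reduced ring. Then every localization R_p at a minimal prime p is a field and the map R →
∏_{p minimal} R_p is injective (so R is a subring of a product of fields); moreover the set of
zerodivisors of R is the union of the minimal primes. -/
theorem result (R : Type u) [CommRing R] [IsReduced R] : (∀ p : PrimeSpectrum R, p.asIdeal ∈ minimalPrimes R → IsField (Localization.AtPrime p.asIdeal)) ∧ Function.Injective (algebraMap R (∀ p : {p : PrimeSpectrum R // p.asIdeal ∈ minimalPrimes R}, Localization.AtPrime p.1.asIdeal)) ∧ (∀ x : R, x ∉ nonZeroDivisors R ↔ ∃ p ∈ minimalPrimes R, x ∈ p) := by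
  open TensorProduct Groth.Agent.H3.CAlgAux in
  (
    refine ⟨?_, ?_, ?_⟩
    · intro p hp
      have : Ring.KrullDimLE 0 (Localization.AtPrime p.asIdeal) := .of_isLocalization _ hp _
      exact Ring.KrullDimLE.isField_of_isReduced
    · rw [injective_iff_map_eq_zero]
      intro x hx
      by_contra hne
      obtain ⟨p, hp, hxp⟩ := exists_minimalPrime_notMem_of_ne_zero hne
      have hpp : p.IsPrime := hp.1.1
      let P : {p : PrimeSpectrum R // p.asIdeal ∈ minimalPrimes R} := ⟨⟨p, hpp⟩, hp⟩
      have h1 : algebraMap R (Localization.AtPrime p) x = 0 := congrFun hx P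
      rw [IsLocalization.map_eq_zero_iff p.primeCompl] at h1
      obtain ⟨s, hs⟩ := h1
      rcases hpp.mem_or_mem (show (s : R) * x ∈ p by rw [hs]; exact p.zero_mem) with h | h
      · exact s.2 h
      · exact hxp h
    · intro x
      constructor
      · intro hx
        rw [mem_nonZeroDivisors_iff_right] at hx
        push Not at hx
        obtain ⟨y, hxy, hy⟩ := hx
        obtain ⟨p, hp, hyp⟩ := exists_minimalPrime_notMem_of_ne_zero hy
        refine ⟨p, hp, ?_⟩
        have hpp : p.IsPrime := hp.1.1
        rcases hpp.mem_or_mem (show x * y ∈ p by rw [mul_comm, hxy]; exact p.zero_mem) with h | h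
        · exact h
        · exact absurd h hyp
      · rintro ⟨p, hp, hxp⟩
        exact notMem_nonZeroDivisors_of_mem_mem_minimalPrimes hxp hp
  )

end Groth.Agent.S6295
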