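import Groth.Statements.S6298
import Mathlib

set_option autoImplicit false
universe u
open CAlg

namespace Groth.Agent.S6298

/-- Let R be a ring, x ∈ R, I ⊆ R an ideal and p₁, …, p_r prime ideals such that for each i the coset x
+ I is not contained in p_i. Then there is y ∈ I with x + y ∉ p_i for all i. -/
theorem result {R : Type u} [CommRing R] (x : R) (I : Ideal R) {r : ℕ} (p : Fin r → Ideal R) [∀ i, (p i).IsPrime] (h : ∀ i, ∃ y ∈ I, x + y ∉ p i) : ∃ y ∈ I, ∀ i, x + y ∉ p i := by
  open TensorProduct in
  (
    classical
    -- strong induction on the number of bad primes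
    suffices H : ∀ n : ℕ, ∀ x : R, (∀ i, ∃ y ∈ I, x + y ∉ p i) →
        (Finset.univ.filter fun i => x ∈ p i).card = n → ∃ y ∈ I, ∀ i, x + y ∉ p i from
      H _ x h rfl
    intro n
    induction n using Nat.strong_induction_on with
    | _ n ih =>
      intro x h hn
      by_cases hbad : ∃ s, x ∈ p s
      · obtain ⟨s, hs⟩ := hbad
        -- y₀ ∈ I \ p s
        obtain ⟨y₀, hy₀I, hy₀⟩ := h s
        have hy₀s : y₀ ∉ p s := fun hc => hy₀ ((p s).add_mem hs hc)
        -- G' : good i with p i ⊄ p s
        let G' : Finset (Fin r) := Finset.univ.filter fun i => x ∉ p i ∧ ¬ (p i ≤ p s)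
        have hf : ∀ i ∈ G', ∃ f ∈ p i, f ∉ p s := by
          intro i hi
          have := (Finset.mem_filter.mp hi).2.2
          exact SetLike.not_le_iff_exists.mp this
        choose! f hf1 hf2 using hf
        let F : R := ∏ i ∈ G', f i
        have hFs : F ∉ p s := by
          intro hc
          obtain ⟨i, hi, hi'⟩ := (Ideal.IsPrime.prod_mem_iff (hp := inferInstance)).mp hc
          exact hf2 i hi hi'
        have hFi : ∀ i ∈ G', F ∈ p i := fun i hi => Ideal.prod_mem (p i) hi (hf1 i hi)
        set x' := x + F * y₀ with hx'
        have hFy : F * y₀ ∉ p s := fun hc =>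
          (Ideal.IsPrime.mem_or_mem inferInstance hc).elim hFs hy₀s
        have hx's : x' ∉ p s := fun hc => hFy (by
          have := (p s).sub_mem hc hs
          simpa [hx'] using this)
        -- good primes stay good
        have hgood : ∀ i, x ∉ p i → x' ∉ p i := by
          intro i hi
          by_cases hle : p i ≤ p s
          · exact fun hc => hx's (hle hc)
          · have hiG : i ∈ G' := Finset.mem_filter.mpr ⟨Finset.mem_univ i, hi, hle⟩
            intro hc
            apply hi
            have := (p i).sub_mem hc ((p i).mul_mem_right y₀ (hFi i hiG))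
            simpa [hx'] using this
        have hsub : (Finset.univ.filter fun i => x' ∈ p i) ⊂ (Finset.univ.filter fun i => x ∈ p i) := by
          rw [Finset.ssubset_iff_of_subset]
          · exact ⟨s, Finset.mem_filter.mpr ⟨Finset.mem_univ s, hs⟩,
              fun hc => hx's (Finset.mem_filter.mp hc).2⟩
          · intro i hi
            rw [Finset.mem_filter] at hi ⊢
            refine ⟨hi.1, ?_⟩
            by_contra hc
            exact hgood i hc hi.2
        have hcard := Finset.card_lt_card hsub
        rw [hn] at hcard
        have h' : ∀ i, ∃ y ∈ I, x' + y ∉ p i := by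
          intro i
          obtain ⟨y, hyI, hy⟩ := h i
          refine ⟨y - F * y₀, I.sub_mem hyI (I.mul_mem_left F hy₀I), ?_⟩
          have : x' + (y - F * y₀) = x + y := by rw [hx']; ring
          rw [this]; exact hy
        obtain ⟨y', hy'I, hy'⟩ := ih _ hcard x' h' rfl
        refine ⟨F * y₀ + y', I.add_mem (I.mul_mem_left F hy₀I) hy'I, fun i => ?_⟩
        have : x + (F * y₀ + y') = x' + y' := by rw [hx']; ring
        rw [this]; exact hy' i
      · push Not at hbad
        exact ⟨0, I.zero_mem, fun i => by rw [add_zero]; exact hbad i⟩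
  )

end Groth.Agent.S6298
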