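import Groth.Statements.S6305
import Mathlib
import Groth.Agent.Lib.Helper3.CAlgAux

set_option autoImplicit false
universe u
open CAlg

namespace Groth.Agent.S6305

/-- An R-module M is flat exactly when every short exact sequence 0 → M₁ → M₂ → M → 0 of R-modules is
universally exact, i.e. its first map M₁ → M₂ is universally injective. -/
theorem result {R : Type u} [CommRing R] (M : Type u) [AddCommGroup M] [Module R M] : Module.Flat R M ↔ ∀ (M₁ M₂ : Type u) [AddCommGroup M₁] [Module R M₁] [AddCommGroup M₂] [Module R M₂] (f : M₁ →ₗ[R] M₂) (g : M₂ →ₗ[R] M), Function.Injective f → Function.Exact f g → Function.Surjective g → CAlgX.UniversallyInjective R f := by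
  open TensorProduct Groth.Agent.H3.CAlgAux in
  (
    constructor
    · intro hM M₁ M₂ _ _ _ _ f g hf hex hg Q _ _
      exact rTensor_injective_of_flat_coker f g hf hex hg Q
    · intro h
      let p : (M →₀ R) →ₗ[R] M := Finsupp.linearCombination R id
      have hp : Function.Surjective p := Finsupp.linearCombination_id_surjective R M
      let K := LinearMap.ker p
      have hKp : Function.Exact K.subtype p := LinearMap.exact_subtype_ker_map p
      have hu := h K (M →₀ R) K.subtype p (Submodule.injective_subtype K) hKp hp
      rw [Module.Flat.iff_lTensor_preserves_injective_linearMap'.{u}]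
      intro N' N _ _ _ _ i hi
      have hfl : Function.Injective (i.lTensor (M →₀ R)) :=
        Module.Flat.lTensor_preserves_injective_linearMap i hi
      refine lTensor_injective_of_exact (R := R) (M₁ := K) (M₂ := M →₀ R) (M₃ := M) (N' := N') (N := N)
        (Q := N ⧸ LinearMap.range i) K.subtype p hKp hp i (LinearMap.range i).mkQ
        (LinearMap.exact_map_mkQ_range i) (Submodule.mkQ_surjective _) hfl ?_
      intro a b hab
      exact hu (N ⧸ LinearMap.range i) hab
  )

end Groth.Agent.S6305
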