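import Groth.Statements.S6310
import Groth.Agent.Lib.Helper2.NakLocGen

set_option autoImplicit false
universe u
open CAlg

namespace Groth.Agent.S6310

/-- Let R be a ring, S ⊆ R a multiplicative subset, I ⊆ R an ideal and M a finite R-module. If x₁, …,
x_r ∈ M have images generating S⁻¹(M/IM) as an S⁻¹R-module, then there is f ∈ S + I (f = s + i with
s ∈ S, i ∈ I) such that x₁, …, x_r generate M_f as an R_f-module. -/
theorem result {R : Type u} [CommRing R] (S : Submonoid R) (I : Ideal R) (M : Type u) [AddCommGroup M] [Module R M] [Module.Finite R M] {r : ℕ} (x : Fin r → M) (hx : Submodule.span (Localization S) (Set.range fun j => LocalizedModule.mkLinearMap S (M ⧸ (I • (⊤ : Submodule R M))) (Submodule.Quotient.mk (x j))) = ⊤) : ∃ (s : R) (i : R), s ∈ S ∧ i ∈ I ∧ Submodule.span (Localization.Away (s + i)) (Set.range fun j => LocalizedModule.mkLinearMap (Submonoid.powers (s + i)) M (x j)) = ⊤ := by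
  classical
  set N : Submodule R M := Submodule.span R (Set.range x) with hN
  set IM : Submodule R M := I • (⊤ : Submodule R M) with hIM
  -- Step 1
  have step1 : ∀ m : M, ∃ s ∈ S, s • m ∈ N ⊔ IM := by
    intro m
    let fb := LocalizedModule.mkLinearMap S (M ⧸ IM)
    let Nb : Submodule R (M ⧸ IM) := Submodule.span R (Set.range fun j => Submodule.Quotient.mk (x j))
    have hloc : Nb.localized' (Localization S) S fb = ⊤ := by
      rw [Submodule.localized'_span, ← Set.range_comp]
      exact hx
    have hm : fb (Submodule.Quotient.mk m) ∈ Nb.localized' (Localization S) S fb := by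
      rw [hloc]; exact Submodule.mem_top
    rw [Submodule.mem_localized'] at hm
    obtain ⟨nb, hnb, s, hs⟩ := hm
    rw [IsLocalizedModule.mk'_eq_iff, Submonoid.smul_def, ← map_smul] at hs
    obtain ⟨c, hc⟩ := IsLocalizedModule.exists_of_eq (S := S) (f := fb) hs
    -- c • nb = c • s • mk m
    have hNb : Nb = N.map IM.mkQ := by
      rw [hN, Submodule.map_span, ← Set.range_comp]
      rfl
    have hcn : c • nb ∈ Nb := Nb.smul_mem _ hnb
    rw [hNb] at hcn
    obtain ⟨n', hn', hn'eq⟩ := hcn
    refine ⟨(c : R) * (s : R), S.mul_mem c.2 s.2, ?_⟩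
    have hdiff : ((c : R) * (s : R)) • m - n' ∈ IM := by
      rw [← Submodule.Quotient.mk_eq_zero, Submodule.Quotient.mk_sub, Submodule.Quotient.mk_smul,
        mul_smul]
      have : (Submodule.Quotient.mk n' : M ⧸ IM) = c • nb := hn'eq
      rw [this, hc]
      simp [Submonoid.smul_def]
    have : ((c : R) * (s : R)) • m = n' + (((c : R) * (s : R)) • m - n') := by abel
    rw [this]
    exact Submodule.add_mem_sup hn' hdiff
  obtain ⟨s, hsS, hs⟩ := H2.NakLocGen.exists_uniform_smul_mem S (N ⊔ IM) step1
  -- Step 3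
  have hC : ∀ c : M ⧸ N, s • c ∈ I • (⊤ : Submodule R (M ⧸ N)) := by
    intro c
    obtain ⟨m, rfl⟩ := Submodule.Quotient.mk_surjective N c
    obtain ⟨n, hn, y, hy, hny⟩ := Submodule.mem_sup.1 (hs m)
    rw [← Submodule.Quotient.mk_smul, ← hny, Submodule.Quotient.mk_add,
      (Submodule.Quotient.mk_eq_zero N).2 hn, zero_add]
    have : (I • (⊤ : Submodule R M)).map N.mkQ ≤ I • (⊤ : Submodule R (M ⧸ N)) := by
      rw [Submodule.map_smul'']
      exact Submodule.smul_mono le_rfl le_top
    exact this ⟨y, hy, rfl⟩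
  obtain ⟨d, i, hiI, hkill⟩ := H2.NakLocGen.exists_pow_add_mem_smul_eq_zero I s hC
  refine ⟨s ^ d, i, S.pow_mem hsS d, hiI, ?_⟩
  have hg : ∀ m : M, (s ^ d + i) • m ∈ N := by
    intro m
    rw [← Submodule.Quotient.mk_eq_zero, Submodule.Quotient.mk_smul]
    exact hkill _
  have := H2.NakLocGen.localized'_eq_top_of_smul_le N (s ^ d + i) hg
  rw [hN, Submodule.localized'_span, ← Set.range_comp] at this
  exact this

end Groth.Agent.S6310
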