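import Groth.Statements.S6321
import Groth.Agent.Lib.Helper2.DirLimFlat

set_option autoImplicit false
universe u
open CAlg

namespace Groth.Agent.S6321

/-- Let R be a ring and (Sᵢ, φᵢⱼ) a directed system of faithfully flat R-algebras whose transition maps
are R-algebra maps. Then S = colim Sᵢ is a faithfully flat R-algebra: for any index i the composite
R → Sᵢ → S is faithfully flat. -/
theorem result {R : Type u} [CommRing R] {ι : Type u} [Preorder ι] [Nonempty ι] [IsDirected ι (· ≤ ·)] (G : ι → Type u) [∀ i, CommRing (G i)] [∀ i, Algebra R (G i)] (f : ∀ i j, i ≤ j → G i →+* G j) [DirectedSystem G fun i j h => f i j h] (hcompat : ∀ i j (h : i ≤ j), (f i j h).comp (algebraMap R (G i)) = algebraMap R (G j)) (hff : ∀ i, (algebraMap R (G i)).FaithfullyFlat) (i : ι) : ((Ring.DirectLimit.of G (fun i j h => f i j h) i).comp (algebraMap R (G i))).FaithfullyFlat := by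
  classical
  have hofc : ∀ (j : ι) (r : R), Ring.DirectLimit.of G (fun i j h => f i j h) j (algebraMap R (G j) r) =
      Ring.DirectLimit.of G (fun i j h => f i j h) i (algebraMap R (G i) r) := by
    intro j r
    obtain ⟨k, hik, hjk⟩ := exists_ge_ge i j
    have e1 := Ring.DirectLimit.of_f (G := G) (f := fun i j h => f i j h) hjk (algebraMap R (G j) r)
    have e2 := Ring.DirectLimit.of_f (G := G) (f := fun i j h => f i j h) hik (algebraMap R (G i) r)
    have c1 : f j k hjk (algebraMap R (G j) r) = algebraMap R (G k) r :=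
      RingHom.congr_fun (hcompat j k hjk) r
    have c2 : f i k hik (algebraMap R (G i) r) = algebraMap R (G k) r :=
      RingHom.congr_fun (hcompat i k hik) r
    rw [← e1, ← e2]
    change Ring.DirectLimit.of G (fun i j h => f i j h) k (f j k hjk (algebraMap R (G j) r)) =
      Ring.DirectLimit.of G (fun i j h => f i j h) k (f i k hik (algebraMap R (G i) r))
    rw [c1, c2]
  letI alg : Algebra R (Ring.DirectLimit G (fun i j h => f i j h)) :=
    ((Ring.DirectLimit.of G (fun i j h => f i j h) i).comp (algebraMap R (G i))).toAlgebra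
  change Module.FaithfullyFlat R (Ring.DirectLimit G (fun i j h => f i j h))
  have hffj : ∀ j, Module.FaithfullyFlat R (G j) := fun j =>
    RingHom.faithfullyFlat_algebraMap_iff.1 (hff j)
  let fl : ∀ i j, i ≤ j → G i →ₗ[R] G j := fun i j h =>
    { toFun := f i j h
      map_add' := map_add _
      map_smul' := fun r x => by
        have c1 : f i j h (algebraMap R (G i) r) = algebraMap R (G j) r :=
          RingHom.congr_fun (hcompat i j h) r
        rw [Algebra.smul_def, map_mul, c1, RingHom.id_apply, Algebra.smul_def] }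
  let ofl : ∀ j, G j →ₗ[R] Ring.DirectLimit G (fun i j h => f i j h) := fun j =>
    { toFun := Ring.DirectLimit.of G (fun i j h => f i j h) j
      map_add' := map_add _
      map_smul' := fun r x => by
        rw [Algebra.smul_def, map_mul, hofc, RingHom.id_apply, Algebra.smul_def]
        rfl }
  have hof : ∀ i j (h : i ≤ j) (x : G i), ofl j (fl i j h x) = ofl i x := fun i j h x =>
    Ring.DirectLimit.of_f (G := G) (f := fun i j h => f i j h) h x
  have hsurj : ∀ s : Ring.DirectLimit G (fun i j h => f i j h), ∃ (i : ι) (x : G i), ofl i x = s :=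
    fun s => Ring.DirectLimit.exists_of s
  have hzero : ∀ (i : ι) (x : G i), ofl i x = 0 → ∃ (j : ι) (h : i ≤ j), fl i j h x = 0 :=
    fun i x hx => Ring.DirectLimit.of.zero_exact hx
  have hflat : Module.Flat R (Ring.DirectLimit G (fun i j h => f i j h)) :=
    H2.DirLimFlat.flat_of_directed G fl ofl hof hsurj hzero (fun j => inferInstance)
  refine { toFlat := hflat, submodule_ne_top := ?_ }
  intro m hm htop
  have h1 : (1 : Ring.DirectLimit G (fun i j h => f i j h)) ∈
      m • (⊤ : Submodule R (Ring.DirectLimit G (fun i j h => f i j h))) := by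
    rw [htop]; exact Submodule.mem_top
  obtain ⟨j, t, ht, ht1⟩ := H2.DirLimFlat.exists_mem_smul_top G fl ofl hof hsurj m 1 h1
  have h2 : Ring.DirectLimit.of G (fun i j h => f i j h) j (t - 1) = 0 := by
    rw [map_sub, map_one]
    exact sub_eq_zero.2 ht1
  obtain ⟨k, hjk, hk⟩ := Ring.DirectLimit.of.zero_exact h2
  rw [map_sub, map_one, sub_eq_zero] at hk
  have h3 : (1 : G k) ∈ m • (⊤ : Submodule R (G k)) := by
    rw [← hk]
    have : (m • (⊤ : Submodule R (G j))).map (fl j k hjk) ≤ m • (⊤ : Submodule R (G k)) := by
      rw [Submodule.map_smul'']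
      exact Submodule.smul_mono le_rfl le_top
    exact this ⟨t, ht, rfl⟩
  apply (hffj k).submodule_ne_top hm
  rw [eq_top_iff]
  intro x _
  have h4 : ∀ y ∈ m • (⊤ : Submodule R (G k)), x * y ∈ m • (⊤ : Submodule R (G k)) := by
    intro y hy
    refine Submodule.smul_induction_on hy ?_ ?_
    · intro a ha z _
      rw [mul_smul_comm]
      exact Submodule.smul_mem_smul ha Submodule.mem_top
    · intro y₁ y₂ h₁ h₂
      rw [mul_add]
      exact add_mem h₁ h₂
  simpa using h4 1 h3

end Groth.Agent.S6321
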