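import Groth.Statements.S6327
import Groth.Agent.Lib.Helper2.FPSysCat

set_option autoImplicit false
universe u
open CategoryTheory CategoryTheory.Limits
open CAlg

namespace Groth.Agent.S6327

/-- Let R be a ring and N an R-module such that whenever M is the colimit of a filtered diagram (Mᵢ) of
R-modules (indexed by a filtered category in the same universe), the comparison map colim Hom_R(N,
Mᵢ) → Hom_R(N, M) is bijective. Then N is finitely presented. (The implication from finite
presentation back to this bijectivity also holds; only the characterizing direction is stated here.) -/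
theorem result (R : Type u) [CommRing R] (N : Type u) [AddCommGroup N] [Module R N] (h : ∀ (J : Type u) [SmallCategory J] [IsFiltered J] (F : J ⥤ ModuleCat.{u} R), Function.Bijective (colimit.post F (coyoneda.obj (Opposite.op (ModuleCat.of R N))))) : Module.FinitePresentation R N := by
  obtain ⟨i, s, hs⟩ := Groth.Agent.H2.HomColim.exists_section
    (Groth.Agent.H2.FPSysCat.functor (R := R) N) (ModuleCat.of R N)
    (Groth.Agent.H2.FPSysCat.cocone N) (Groth.Agent.H2.FPSysCat.isColimit N) (Iso.refl _)
    (h _ _).2
  let r : Groth.Agent.H2.FPSys.G i →ₗ[R] N := Groth.Agent.H2.FPSys.toM i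
  let σ : N →ₗ[R] Groth.Agent.H2.FPSys.G i := s.hom
  have hs' : ∀ x : N, r (σ x) = x := by
    intro x
    have := congrArg (fun g => g.hom x) hs
    simp only [Groth.Agent.H2.FPSysCat.cocone, Iso.refl_hom, Category.comp_id, ModuleCat.hom_comp,
      LinearMap.coe_comp, Function.comp_apply, ModuleCat.hom_id, LinearMap.id_coe, id_eq] at this
    exact this
  have hsurj : Function.Surjective r := fun x => ⟨σ x, hs' x⟩
  refine Module.finitePresentation_of_surjective r hsurj ?_
  have hker : LinearMap.ker r = LinearMap.range (LinearMap.id - σ ∘ₗ r) := by
    ext y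
    constructor
    · intro hy
      refine ⟨y, ?_⟩
      rw [LinearMap.sub_apply, LinearMap.comp_apply, LinearMap.mem_ker.1 hy, map_zero, sub_zero,
        LinearMap.id_apply]
    · rintro ⟨z, rfl⟩
      rw [LinearMap.mem_ker, LinearMap.sub_apply, LinearMap.comp_apply, map_sub, hs',
        LinearMap.id_apply, sub_self]
  rw [hker]
  exact Submodule.fg_range _

end Groth.Agent.S6327
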