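import Groth.Statements.S6329
import Mathlib
import Groth.Agent.Lib.Helper1.SemiLocLen

set_option autoImplicit false
universe u
open CAlg

namespace Groth.Agent.S6329

open Groth.Agent.H1.SemiLocLen in
open scoped Classical in
theorem covBy_step {R : Type u} [CommRing R] {M : Type u} [AddCommGroup M] [Module R M]
    {p q : Submodule R M} (h : p ⋖ q) (m : Ideal R) [hm : m.IsMaximal] :
    L m q = L m p + (if p.colon (q : Set M) = m then 1 else 0) := by
  let f : p →ₗ[R] q := Submodule.inclusion h.le
  have key : IsSimpleModule R (q ⧸ LinearMap.range f) := by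
    rwa [Submodule.range_inclusion, ← covBy_iff_quot_is_simple h.le]
  obtain ⟨m', hm', ⟨e⟩⟩ := isSimpleModule_iff_quot_maximal.mp key
  haveI := hm'
  let g : q →ₗ[R] R ⧸ m' := e.toLinearMap.comp (LinearMap.range f).mkQ
  have hf : Function.Injective f := Submodule.inclusion_injective _
  have hg : Function.Surjective g := e.surjective.comp (LinearMap.range f).mkQ_surjective
  have hex : Function.Exact f g :=
    LinearMap.exact_iff.mpr ((e.ker_comp (LinearMap.range f).mkQ).trans (LinearMap.range f).ker_mkQ)
  have hcolon : p.colon (q : Set M) = m' := by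
    ext r
    rw [Submodule.mem_colon]
    constructor
    · intro hr
      obtain ⟨x, hx⟩ := hg 1
      have h1 : r • (x : M) ∈ p := hr x.1 x.2
      have h2 : g (r • x) = 0 := by
        rw [hex (r • x)]
        exact ⟨⟨r • (x : M), h1⟩, rfl⟩
      rw [map_smul, hx, Algebra.smul_def, mul_one, Ideal.Quotient.algebraMap_eq] at h2
      exact Ideal.Quotient.eq_zero_iff_mem.mp h2
    · intro hr x hx
      have h2 : g (r • ⟨x, hx⟩) = 0 := by
        rw [map_smul, Algebra.smul_def, Ideal.Quotient.algebraMap_eq,
          Ideal.Quotient.eq_zero_iff_mem.mpr hr, zero_mul]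
      obtain ⟨y, hy⟩ := (hex _).mp h2
      have : (y : M) = r • x := congrArg Subtype.val hy
      rw [← this]
      exact y.2
  rw [L_add m f g hf hg hex, hcolon]
  congr 1
  split_ifs with hn
  · subst hn
    exact L_quot_self m'
  · apply L_quot_ne
    intro hle
    exact hn (hm'.eq_of_le hm.ne_top hle)

/-- Let R be a ring, M an R-module and 0 = M₀ ⊂ M₁ ⊂ … ⊂ Mₙ = M a maximal chain of submodules (a
composition series; each Mᵢ/Mᵢ₋₁ is simple, of the form R/mᵢ with mᵢ = (Mᵢ₋₁ : Mᵢ) maximal). Then
for every maximal ideal m of R the number of indices i with mᵢ = m equals length_{R_m}(M_m). -/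
theorem result {R : Type u} [CommRing R] (M : Type u) [AddCommGroup M] [Module R M] (s : CompositionSeries (Submodule R M)) (h0 : s.head = ⊥) (h1 : s.last = ⊤) (m : Ideal R) [m.IsMaximal] : ((Finset.univ.filter fun i : Fin s.length => (s i.castSucc).colon (s i.succ : Set M) = m).card : ℕ∞) = Module.length (Localization.AtPrime m) (LocalizedModule m.primeCompl M) := by
  classical
  have key : ∀ k : Fin (s.length + 1),
      ((Finset.univ.filter fun i : Fin s.length => (i : ℕ) < (k : ℕ) ∧
        (s i.castSucc).colon (s i.succ : Set M) = m).card : ℕ∞) =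
      Groth.Agent.H1.SemiLocLen.L m (s k) := by
    intro k
    induction k using Fin.induction with
    | zero =>
      have h00 : s 0 = ⊥ := h0
      rw [h00, Groth.Agent.H1.SemiLocLen.L_of_subsingleton]
      simp
    | succ i hi =>
      rw [covBy_step (s.step i) m, ← hi]
      have hsplit : (Finset.univ.filter fun j : Fin s.length => (j : ℕ) < (i.succ : ℕ) ∧
          (s j.castSucc).colon (s j.succ : Set M) = m) =
          (Finset.univ.filter fun j : Fin s.length => (j : ℕ) < (i.castSucc : ℕ) ∧
            (s j.castSucc).colon (s j.succ : Set M) = m) ∪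
          (if (s i.castSucc).colon (s i.succ : Set M) = m then {i} else ∅) := by
        ext j
        simp only [Finset.mem_filter, Finset.mem_univ, true_and, Finset.mem_union, Fin.val_succ,
          Fin.val_castSucc]
        constructor
        · rintro ⟨hj, hP⟩
          rcases Nat.lt_succ_iff_lt_or_eq.mp hj with hlt | heq
          · left; exact ⟨hlt, hP⟩
          · right
            have : j = i := Fin.ext heq
            subst this
            rw [if_pos hP]; exact Finset.mem_singleton_self _
        · rintro (⟨hj, hP⟩ | hj)
          · exact ⟨Nat.lt_succ_of_lt hj, hP⟩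
          · split_ifs at hj with hP
            · rw [Finset.mem_singleton] at hj
              subst hj
              exact ⟨Nat.lt_succ_self _, hP⟩
            · simp at hj
      have hdisj : Disjoint (Finset.univ.filter fun j : Fin s.length => (j : ℕ) < (i.castSucc : ℕ) ∧
            (s j.castSucc).colon (s j.succ : Set M) = m)
          (if (s i.castSucc).colon (s i.succ : Set M) = m then {i} else ∅) := by
        split_ifs with hP
        · rw [Finset.disjoint_singleton_right]
          simp
        · exact Finset.disjoint_empty_right _
      rw [hsplit, Finset.card_union_of_disjoint hdisj]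
      push_cast
      congr 1
      split_ifs <;> simp
  have hlast : s (Fin.last s.length) = ⊤ := h1
  have h2 := key (Fin.last s.length)
  rw [hlast] at h2
  have e : (⊤ : Submodule R M) ≃ₗ[R] M := Submodule.topEquiv
  rw [Groth.Agent.H1.SemiLocLen.L_congr m e] at h2
  change _ = Groth.Agent.H1.SemiLocLen.L m M
  rw [← h2]
  congr 2
  ext i
  simp only [Finset.mem_filter, Finset.mem_univ, true_and, Fin.val_last]
  exact ⟨fun h => ⟨i.2, h⟩, fun h => h.2⟩

end Groth.Agent.S6329
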