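import Groth.Statements.S6332
import Mathlib

set_option autoImplicit false
universe u
open Fields

namespace Groth.Agent.S6332

open IntermediateField in
/-- Let L/K be a finite Galois extension of fields of characteristic p > 0 whose degree equals the prime
p (equivalently, the Galois group is cyclic of order p). Then there is an element z of L with z ^ p
- z in K which generates L over K. -/
theorem result {K L : Type u} [Field K] [Field L] [Algebra K L] (p : ℕ)
    [Fact p.Prime] [CharP K p] [FiniteDimensional K L] [IsGalois K L]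
    (hdeg : Module.finrank K L = p) :
    ∃ z : L, z ^ p - z ∈ Set.range (algebraMap K L) ∧ K⟮z⟯ = ⊤ := by
  classical
  have hp : p.Prime := Fact.out
  have hpL : CharP L p := charP_of_injective_algebraMap (algebraMap K L).injective p
  have hcard : Nat.card (L ≃ₐ[K] L) = p := by rw [IsGalois.card_aut_eq_finrank, hdeg]
  have hcyc : IsCyclic (L ≃ₐ[K] L) := isCyclic_of_prime_card hcard
  obtain ⟨σ, hσ⟩ := hcyc.exists_generator
  have hord : orderOf σ = p := by rw [orderOf_eq_card_of_forall_mem_zpowers hσ, hcard]
  have hσp : σ ^ p = 1 := hord ▸ pow_orderOf_eq_one σ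
  have himg := IsCyclic.image_range_orderOf hσ
  rw [hord] at himg
  -- fixed by σ implies in K
  have hfix : ∀ x : L, σ x = x → x ∈ Set.range (algebraMap K L) := by
    intro x hx
    rw [IsGalois.mem_range_algebraMap_iff_fixed]
    intro τ
    have hτ : τ ∈ Finset.image (fun i => σ ^ i) (Finset.range p) := by
      rw [himg]; exact Finset.mem_univ _
    obtain ⟨k, -, rfl⟩ := Finset.mem_image.1 hτ
    change (σ ^ k) x = x
    clear hτ
    induction k with
    | zero => rfl
    | succ k ih => rw [pow_succ, AlgEquiv.mul_apply, hx, ih]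
  -- trace formula
  have htr : ∀ x : L, algebraMap K L (Algebra.trace K L x) = ∑ i ∈ Finset.range p, (σ ^ i) x := by
    intro x
    rw [trace_eq_sum_automorphisms, ← himg, Finset.sum_image]
    intro i hi j hj hij
    rw [Finset.coe_range, ← hord] at hi hj
    exact pow_injOn_Iio_orderOf hi hj hij
  obtain ⟨θ, hθ⟩ := Algebra.trace_surjective K L 1
  have hsum1 : ∑ i ∈ Finset.range p, (σ ^ i) θ = 1 := by rw [← htr, hθ, map_one]
  set a : ℕ → L := fun j => (σ ^ j) θ with ha
  have ha0 : a 0 = θ := rfl
  have hap : a p = θ := by simp only [ha, hσp]; rfl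
  have hσa : ∀ j, σ (a j) = a (j + 1) := by
    intro j
    simp only [ha]
    rw [pow_succ', AlgEquiv.mul_apply]
  set S : L := ∑ i ∈ Finset.range p, (i : L) * a i with hSdef
  have hpz : ((p : ℕ) : L) = 0 := CharP.cast_eq_zero L p
  have hS : σ S = S - 1 := by
    have e1 : σ S = ∑ i ∈ Finset.range p, (i : L) * a (i + 1) := by
      rw [hSdef, map_sum]
      refine Finset.sum_congr rfl fun i _ => ?_
      rw [map_mul, map_natCast, hσa]
    have e2 : ∑ i ∈ Finset.range p, (i : L) * a (i + 1) =
        ∑ i ∈ Finset.range p, ((i + 1 : ℕ) : L) * a (i + 1) - ∑ i ∈ Finset.range p, a (i + 1) := by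
      rw [← Finset.sum_sub_distrib]
      refine Finset.sum_congr rfl fun i _ => ?_
      push_cast
      ring
    have e3 : ∑ i ∈ Finset.range p, ((i + 1 : ℕ) : L) * a (i + 1) = S := by
      have := Finset.sum_range_succ' (fun j => ((j : ℕ) : L) * a j) p
      rw [Finset.sum_range_succ] at this
      simp only [Nat.cast_zero, zero_mul, add_zero, hpz] at this
      rw [← this, hSdef]
    have e4 : ∑ i ∈ Finset.range p, a (i + 1) = 1 := by
      have := Finset.sum_range_succ' (fun j => a j) p
      rw [Finset.sum_range_succ, hap, ha0] at this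
      have h5 : ∑ i ∈ Finset.range p, a i = 1 := hsum1
      rw [h5] at this
      exact (add_right_cancel this).symm
    rw [e1, e2, e3, e4]
  set z : L := -S with hz
  have hσz : σ z = z + 1 := by
    rw [hz, map_neg, hS]; ring
  have hzK : z ∉ Set.range (algebraMap K L) := by
    rintro ⟨k, hk⟩
    have : σ z = z := by rw [← hk]; exact σ.commutes k
    rw [hσz] at this
    exact one_ne_zero (add_left_cancel (this.trans (add_zero z).symm))
  refine ⟨z, ?_, ?_⟩
  · apply hfix
    rw [map_sub, map_pow, hσz, add_pow_char, one_pow]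
    ring
  · have hz' : z ∉ (⊥ : IntermediateField K L) := by
      intro h
      exact hzK (IntermediateField.mem_bot.1 h)
    have hne : K⟮z⟯ ≠ ⊥ := by
      intro h
      apply hz'
      rw [← h]
      exact IntermediateField.mem_adjoin_simple_self K z
    have hdvd : Module.finrank K K⟮z⟯ ∣ p := by
      rw [← hdeg, ← Module.finrank_mul_finrank K K⟮z⟯ L]
      exact dvd_mul_right _ _
    rcases (Nat.dvd_prime hp).1 hdvd with h1 | h1
    · exact absurd (IntermediateField.finrank_eq_one_iff.1 h1) hne
    · apply IntermediateField.eq_of_le_of_finrank_eq le_top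
      rw [IntermediateField.finrank_top', h1, hdeg]

end Groth.Agent.S6332
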