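import Groth.Statements.S6335
import Mathlib

set_option autoImplicit false
universe u
open Fields

namespace Groth.Agent.S6335

/-- Let K be a field of characteristic p > 0, L/K a separable algebraic extension and a an element of L.
If a is a root of a polynomial P over K which is separable (pairwise distinct roots in an algebraic
closure) and all of whose coefficients are p-th powers in K, then a is a p-th power in L. (Part (1),
the case where P is the minimal polynomial of a, is a special case.) -/
theorem result {K L : Type u} [Field K] [Field L] [Algebra K L]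
    (p : ℕ) [Fact p.Prime] [CharP K p] [Algebra.IsSeparable K L] (a : L) (P : Polynomial K)
    (hroot : Polynomial.aeval a P = 0) (hsep : P.Separable) (hcoeff : ∀ i : ℕ, ∃ b : K, b ^ p = P.coeff i) :
    ∃ c : L, c ^ p = a := by
  classical
  have hpL : CharP L p := charP_of_injective_algebraMap (algebraMap K L).injective p
  let F : Subfield L := (frobenius L p).fieldRange
  have hFchar : CharP F p := (RingHom.charP_iff (algebraMap F L) (algebraMap F L).injective p).2 hpL
  have hFexp : ExpChar F p := ExpChar.prime (Fact.out)
  choose b hb using hcoeff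
  -- the polynomial over `F`
  have hl : P.map (algebraMap K L) ∈ Polynomial.lifts (algebraMap F L) := by
    rw [Polynomial.lifts_iff_coeff_lifts]
    intro n
    rw [Polynomial.coeff_map, ← hb n, map_pow]
    exact ⟨⟨(algebraMap K L (b n)) ^ p, ⟨algebraMap K L (b n), rfl⟩⟩, rfl⟩
  obtain ⟨PF, hPF0⟩ := hl
  have hPF : PF.map (algebraMap F L) = P.map (algebraMap K L) := hPF0
  have hPFsep : PF.Separable := by
    rw [← Polynomial.separable_map (algebraMap F L), hPF]
    exact hsep.map
  have hPFroot : Polynomial.aeval a PF = 0 := by
    rw [Polynomial.aeval_def, Polynomial.eval₂_eq_eval_map, hPF, Polynomial.eval_map,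
      ← Polynomial.aeval_def, hroot]
  have hasep : IsSeparable F a := hPFsep.of_dvd (minpoly.dvd F a hPFroot)
  have hpi : IsPurelyInseparable F L := by
    rw [isPurelyInseparable_iff_pow_mem F p]
    intro x
    exact ⟨1, ⟨⟨x ^ p, ⟨x, rfl⟩⟩, by rw [pow_one]; rfl⟩⟩
  obtain ⟨⟨y, ⟨c, hc⟩⟩, hy⟩ := IsPurelyInseparable.inseparable F a hasep
  refine ⟨c, ?_⟩
  rw [← hy]
  exact hc

end Groth.Agent.S6335
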