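import Groth.Statements.S6353
-- import your own Groth.Agent.* helpers here

set_option autoImplicit false
universe u
open CAlg

namespace Groth.Agent.S6353

open PrimeSpectrum in
/-- For a commutative ring R, I ↦ V(I) is a bijection between pure ideals (R/I flat over R) and closed
subsets of Spec R stable under generalization. Stated here as: V(I) is stable under generalization
for I pure, and every closed generalization-stable subset is V(I) for some pure I (injectivity on
pure ideals being the standard fact that pure ideals with the same zero locus coincide). -/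
theorem result (R : Type u) [CommRing R] :
    (∀ I : Ideal R, I.Pure → StableUnderGeneralization (zeroLocus (I : Set R))) ∧
      ∀ Z : Set (PrimeSpectrum R), IsClosed Z → StableUnderGeneralization Z →
        ∃ I : Ideal R, I.Pure ∧ zeroLocus (I : Set R) = Z := by
  constructor
  · intro I hI p q hqp hp
    -- `q ⤳ p` means `p ∈ closure {q}`, i.e. `q ≤ p` as ideals
    rw [← PrimeSpectrum.le_iff_specializes] at hqp
    rw [PrimeSpectrum.mem_zeroLocus] at hp ⊢
    intro x hx
    obtain ⟨y, hy, hxy⟩ := Ideal.exists_eq_mul_of_pure (I := I) hx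
    have h0 : x * (1 - y) = 0 := by rw [mul_sub, mul_one, ← hxy, sub_self]
    have h1 : (1 - y) ∉ p.asIdeal := fun h => p.isPrime.ne_top
      ((Ideal.eq_top_iff_one _).2 (by simpa using p.asIdeal.add_mem h (hp hy)))
    have h2 : (1 - y) ∉ q.asIdeal := fun h => h1 (hqp h)
    have h3 : x * (1 - y) ∈ q.asIdeal := by rw [h0]; exact q.asIdeal.zero_mem
    exact (q.isPrime.mem_or_mem h3).resolve_right h2
  · intro Z hZ hgen
    obtain ⟨J0, rfl⟩ := (PrimeSpectrum.isClosed_iff_zeroLocus_ideal Z).1 hZ
    -- replace by the radical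
    set J : Ideal R := J0.radical with hJ
    have hZJ : zeroLocus (J : Set R) = zeroLocus (J0 : Set R) := PrimeSpectrum.zeroLocus_radical J0
    rw [← hZJ] at hgen ⊢
    have hJrad : J.radical = J := Ideal.radical_idem J0
    let I : Ideal R :=
      { carrier := {x | ∃ y ∈ J, x = x * y}
        zero_mem' := ⟨0, J.zero_mem, by simp⟩
        add_mem' := by
          rintro a b ⟨f, hf, haf⟩ ⟨g, hg, hbg⟩
          refine ⟨f + g - f * g, J.sub_mem (J.add_mem hf hg) (J.mul_mem_right _ hf), ?_⟩
          have e1 : a * (f + g - f * g) = a * f + (a - a * f) * g := by ring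
          have e2 : b * (f + g - f * g) = b * g + (b - b * g) * f := by ring
          rw [add_mul, e1, e2, ← haf, ← hbg, sub_self, sub_self, zero_mul, zero_mul, add_zero,
            add_zero]
        smul_mem' := by
          rintro c a ⟨f, hf, haf⟩
          refine ⟨f, hf, ?_⟩
          rw [smul_eq_mul, mul_assoc, ← haf] }
    have hImem : ∀ x, x ∈ I ↔ ∃ y ∈ J, x = x * y := fun x => Iff.rfl
    have hIJ : I ≤ J := by
      rintro x ⟨y, hy, hxy⟩
      rw [hxy]
      exact J.mul_mem_left _ hy
    have hV : zeroLocus (I : Set R) = zeroLocus (J : Set R) := by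
      apply le_antisymm
      · intro p hp
        rw [PrimeSpectrum.mem_zeroLocus] at hp
        -- the multiplicative set S = (R \ p)(1 + J)
        let S : Submonoid R :=
          { carrier := {s | ∃ a ∉ p.asIdeal, ∃ j ∈ J, s = a * (1 + j)}
            one_mem' := ⟨1, fun h => p.isPrime.ne_top ((Ideal.eq_top_iff_one _).2 h), 0, J.zero_mem,
              by simp⟩
            mul_mem' := by
              rintro s t ⟨a, ha, j, hj, rfl⟩ ⟨b, hb, k, hk, rfl⟩
              refine ⟨a * b, fun h => (p.isPrime.mem_or_mem h).elim ha hb, j + k + j * k,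
                J.add_mem (J.add_mem hj hk) (J.mul_mem_left _ hk), by ring⟩ }
        have h0 : (0 : R) ∉ S := by
          rintro ⟨a, ha, j, hj, h0⟩
          -- a = a * (-j), so a ∈ I ⊆ p
          have : a ∈ I := ⟨-j, J.neg_mem hj, by linear_combination (-1 : R) * h0⟩
          exact ha (hp this)
        obtain ⟨q, hq, hqS⟩ : ∃ q : Ideal R, q.IsPrime ∧ Disjoint (q : Set R) (S : Set R) := by
          obtain ⟨q, hq, -, hqS⟩ := Ideal.exists_le_prime_disjoint (⊥ : Ideal R) S (by
            rw [Set.disjoint_left]
            rintro x hx hxS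
            rw [SetLike.mem_coe, Ideal.mem_bot] at hx
            exact h0 (hx ▸ hxS))
          exact ⟨q, hq, hqS⟩
        have hqp : q ≤ p.asIdeal := by
          intro x hx
          by_contra hxp
          exact Set.disjoint_left.1 hqS hx ⟨x, hxp, 0, J.zero_mem, by simp⟩
        have hqJ : q ⊔ J ≠ ⊤ := by
          intro htop
          rw [Ideal.eq_top_iff_one, Submodule.mem_sup] at htop
          obtain ⟨a, ha, j, hj, haj⟩ := htop
          refine Set.disjoint_left.1 hqS ha ⟨1, fun h => p.isPrime.ne_top
            ((Ideal.eq_top_iff_one _).2 h), -j, J.neg_mem hj, ?_⟩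
          linear_combination haj
        obtain ⟨m, hm, hle⟩ := Ideal.exists_le_maximal _ hqJ
        have hmZ : (⟨m, hm.isPrime⟩ : PrimeSpectrum R) ∈ zeroLocus (J : Set R) := by
          rw [PrimeSpectrum.mem_zeroLocus]
          exact fun x hx => hle (Ideal.mem_sup_right hx)
        have hqZ : (⟨q, hq⟩ : PrimeSpectrum R) ∈ zeroLocus (J : Set R) := by
          refine hgen ?_ hmZ
          rw [← PrimeSpectrum.le_iff_specializes]
          exact fun x hx => hle (Ideal.mem_sup_left hx)
        rw [PrimeSpectrum.mem_zeroLocus] at hqZ ⊢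
        exact fun x hx => hqp (hqZ hx)
      · exact PrimeSpectrum.zeroLocus_anti_mono hIJ
    refine ⟨I, ?_, hV⟩
    -- purity
    have hrad : J = I.radical := by
      rw [← hJrad, ← PrimeSpectrum.vanishingIdeal_zeroLocus_eq_radical,
        ← PrimeSpectrum.vanishingIdeal_zeroLocus_eq_radical, hV]
    apply Ideal.Pure.of_inf_eq_mul
    intro K _
    apply le_antisymm _ Ideal.mul_le_inf
    rintro x ⟨hxI, hxK⟩
    obtain ⟨y, hy, hxy⟩ := hxI
    rw [hrad] at hy
    obtain ⟨n, hn⟩ := hy
    have hpow : ∀ k : ℕ, x = x * y ^ k := by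
      intro k
      induction k with
      | zero => simp
      | succ k ih => rw [pow_succ, ← mul_assoc, ← ih, ← hxy]
    have h5 : y ^ n * x ∈ I * K := Ideal.mul_mem_mul hn hxK
    rw [mul_comm (y ^ n) x] at h5
    exact (hpow n) ▸ h5

end Groth.Agent.S6353
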