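import Groth.Statements.S6354
-- import your own Groth.Agent.* helpers here

set_option autoImplicit false
universe u
open CAlg

namespace Groth.Agent.S6354

open PrimeSpectrum in
/-- For an ideal I of a commutative ring R these four conditions are equivalent: (1) I is finitely
generated and pure; (2) I = (e) for some idempotent e; (3) I is pure with V(I) open in Spec R; (4)
R/I is projective as an R-module. -/
theorem result (R : Type u) [CommRing R] (I : Ideal R) :
    List.TFAE [I.Pure ∧ I.FG, ∃ e : R, IsIdempotentElem e ∧ I = Ideal.span {e},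
      I.Pure ∧ IsOpen (zeroLocus (I : Set R)), Module.Projective R (R ⧸ I)] := by
  have pure_span : ∀ e : R, IsIdempotentElem e → (Ideal.span {e} : Ideal R).Pure := by
    intro e he
    apply Ideal.Pure.of_isIdempotentElem ⟨{e}, by simp⟩
    rw [Ideal.isIdempotentElem_iff_of_fg _ ⟨{e}, by simp⟩]
    exact ⟨e, he, rfl⟩
  tfae_have 1 → 2 := by
    rintro ⟨hp, hfg⟩
    exact (Ideal.isIdempotentElem_iff_of_fg I hfg).1 (Ideal.isIdempotentElem_of_pure I)
  tfae_have 2 → 1 := by
    rintro ⟨e, he, rfl⟩
    exact ⟨pure_span e he, ⟨{e}, by simp⟩⟩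
  tfae_have 2 → 3 := by
    rintro ⟨e, he, rfl⟩
    refine ⟨pure_span e he, ?_⟩
    rw [PrimeSpectrum.zeroLocus_span, PrimeSpectrum.zeroLocus_eq_basicOpen_of_isIdempotentElem e he]
    exact (PrimeSpectrum.basicOpen (1 - e)).2
  tfae_have 3 → 2 := by
    rintro ⟨hp, ho⟩
    have hc : IsClopen (zeroLocus (I : Set R)) := ⟨PrimeSpectrum.isClosed_zeroLocus _, ho⟩
    obtain ⟨e, he, hz⟩ := PrimeSpectrum.isClopen_iff_zeroLocus.1 hc
    refine ⟨e, he, ?_⟩
    have := pure_span e he
    rw [← Ideal.zeroLocus_inj_of_pure, hz, PrimeSpectrum.zeroLocus_span]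
  tfae_have 2 → 4 := by
    rintro ⟨e, he, rfl⟩
    -- section `R ⧸ (e) → R`, `x ↦ (1 - e) x`
    let s : (R ⧸ Ideal.span {e}) →ₗ[R] R :=
      Submodule.liftQ _ (LinearMap.mulLeft R (1 - e)) (by
        rw [Ideal.span_le]
        rintro x hx
        rw [Set.mem_singleton_iff] at hx
        subst hx
        change (1 - x) * x = 0
        rw [sub_mul, one_mul, he.eq, sub_self])
    refine Module.Projective.of_split s (Submodule.mkQ _) ?_
    ext
    change Ideal.Quotient.mk _ ((1 - e) * 1) = Ideal.Quotient.mk _ 1
    rw [Ideal.Quotient.eq, mul_one, sub_sub_cancel_left]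
    exact neg_mem (Ideal.subset_span rfl)
  tfae_have 4 → 2 := by
    intro hproj
    obtain ⟨s, hs⟩ := Module.projective_lifting_property (Submodule.mkQ I) LinearMap.id
      (Submodule.mkQ_surjective I)
    set e' := s (Submodule.Quotient.mk 1) with he'
    have h1 : 1 - e' ∈ I := by
      have := LinearMap.congr_fun hs (Submodule.Quotient.mk 1)
      rw [LinearMap.comp_apply, Submodule.mkQ_apply, LinearMap.id_apply] at this
      rw [← Submodule.Quotient.mk_eq_zero I, Submodule.Quotient.mk_sub, this, sub_self]
    have h2 : ∀ x ∈ I, x * e' = 0 := by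
      intro x hx
      have : x • e' = s (x • Submodule.Quotient.mk 1) := (map_smul s x _).symm
      have h3 : (Submodule.Quotient.mk (x • (1 : R)) : R ⧸ I) = 0 := by
        rw [Submodule.Quotient.mk_eq_zero, smul_eq_mul, mul_one]
        exact hx
      rw [← Submodule.Quotient.mk_smul, h3, map_zero, smul_eq_mul] at this
      exact this
    refine ⟨1 - e', ?_, ?_⟩
    · have := h2 _ h1
      change (1 - e') * (1 - e') = 1 - e'
      rw [mul_sub, mul_one, this, sub_zero]
    · apply le_antisymm
      · intro x hx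
        rw [Ideal.mem_span_singleton']
        exact ⟨x, by rw [mul_sub, mul_one, h2 x hx, sub_zero]⟩
      · rw [Ideal.span_le]
        rintro x hx
        rw [Set.mem_singleton_iff] at hx
        subst hx
        exact h1
  tfae_finish

end Groth.Agent.S6354
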