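import Groth.Statements.S6362
import Mathlib

set_option autoImplicit false
universe u
open scoped TensorProduct
open Fields

namespace Groth.Agent.S6362

/-- Let K/F be a finite separable extension and L/F an extension with L algebraically closed. Then the
L-algebra map K ⊗_F L → ∏_σ L, indexed by the F-algebra maps σ : K → L and sending a ⊗ b to (σ(a)
b)_σ, is an isomorphism; stated as bijectivity of that map. -/
theorem result {F K L : Type u} [Field F] [Field K] [Field L]
    [Algebra F K] [Algebra F L] [FiniteDimensional F K] [Algebra.IsSeparable F K] [IsAlgClosed L] :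
    Function.Bijective (fun x : K ⊗[F] L => fun σ : K →ₐ[F] L =>
      Algebra.TensorProduct.lift σ (AlgHom.id F L) (fun a b => Commute.all (σ a) b) x) := by
  classical
  have hcard : Fintype.card (K →ₐ[F] L) = Module.finrank F K := AlgHom.card F K L
  let b : Module.Basis (K →ₐ[F] L) F K :=
    (Module.finBasis F K).reindex (Fintype.equivOfCardEq (by rw [Fintype.card_fin, hcard]))
  let M : Matrix (K →ₐ[F] L) (K →ₐ[F] L) L := Matrix.of fun σ i => σ (b i)
  -- the evaluation map on the basis, `L`-linear
  let Ψ : (K →ₗ[F] L) →ₗ[L] ((K →ₐ[F] L) → L) :=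
    { toFun := fun g i => g (b i)
      map_add' := fun g g' => rfl
      map_smul' := fun c g => rfl }
  have hΨ : LinearMap.ker Ψ = ⊥ := by
    rw [LinearMap.ker_eq_bot]
    intro g g' h
    apply b.ext
    intro i
    exact congrFun h i
  have hM : IsUnit M := by
    rw [← Matrix.linearIndependent_rows_iff_isUnit]
    have h1 := (linearIndependent_toLinearMap F K L).map' Ψ hΨ
    exact h1
  -- the parametrization of the tensor product
  let T : ((K →ₐ[F] L) → L) → K ⊗[F] L := fun l => ∑ i, b i ⊗ₜ[F] l i
  have hT : Function.Surjective T := by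
    intro x
    induction x using TensorProduct.induction_on with
    | zero => exact ⟨0, by simp [T]⟩
    | tmul k l =>
      refine ⟨fun i => b.repr k i • l, ?_⟩
      simp only [T]
      conv_rhs => rw [← b.sum_repr k, TensorProduct.sum_tmul]
      refine Finset.sum_congr rfl fun i _ => ?_
      rw [TensorProduct.smul_tmul]
    | add x y hx hy =>
      obtain ⟨lx, rfl⟩ := hx
      obtain ⟨ly, rfl⟩ := hy
      refine ⟨lx + ly, ?_⟩
      simp only [T, Pi.add_apply, TensorProduct.tmul_add, Finset.sum_add_distrib]
  have hΦT : ∀ l : (K →ₐ[F] L) → L,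
      (fun σ : K →ₐ[F] L => Algebra.TensorProduct.lift σ (AlgHom.id F L)
        (fun a b => Commute.all (σ a) b) (T l)) = M.mulVec l := by
    intro l
    funext σ
    simp only [T, map_sum, Algebra.TensorProduct.lift_tmul, AlgHom.coe_id, id_eq, Matrix.mulVec,
      dotProduct, M, Matrix.of_apply]
  constructor
  · intro x y hxy
    obtain ⟨lx, rfl⟩ := hT x
    obtain ⟨ly, rfl⟩ := hT y
    have h2 : M.mulVec lx = M.mulVec ly := by
      rw [← hΦT, ← hΦT]
      exact hxy
    rw [(Matrix.mulVec_injective_iff_isUnit.2 hM) h2]
  · intro y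
    obtain ⟨l, hl⟩ := (Matrix.mulVec_surjective_iff_isUnit.2 hM) y
    exact ⟨T l, by rw [← hl, ← hΦT]⟩

end Groth.Agent.S6362
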