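import Groth.Statements.S6363
import Mathlib

set_option autoImplicit false
universe u
open scoped TensorProduct
open Fields

namespace Groth.Agent.S6363

/-- For a finite field extension L/K and a normal closure M of L/K, some K-algebra homomorphism from the
n-fold tensor power L ⊗_K ⋯ ⊗_K L to M is surjective, where n = [L : K]_s is the separable degree
(so n ≤ [L : K]). -/
theorem result {K L M : Type u} [Field K] [Field L] [Field M]
    [Algebra K L] [Algebra K M] [Algebra L M] [IsScalarTower K L M] [FiniteDimensional K L]
    [IsNormalClosure K L M] :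
    ∃ f : (⨂[K] _ : Fin (Field.finSepDegree K L), L) →ₐ[K] M, Function.Surjective f := by
  classical
  have hsplit : ∀ x : L, ((minpoly K x).map (algebraMap K M)).Splits :=
    IsNormalClosure.splits
  haveI : Normal K M := IsNormalClosure.normal (K := L)
  have hcard : Field.finSepDegree K L = Nat.card (L →ₐ[K] M) :=
    Field.finSepDegree_eq_of_adjoin_splits K L M (IntermediateField.adjoin_univ K L)
      (fun s _ => ⟨Algebra.IsIntegral.isIntegral s, hsplit s⟩)
  haveI : Finite (L →ₐ[K] M) := inferInstance
  let σ : Fin (Field.finSepDegree K L) ≃ (L →ₐ[K] M) :=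
    (Finite.equivFinOfCardEq hcard.symm).symm
  let f0 : MultilinearMap K (fun _ : Fin (Field.finSepDegree K L) => L) M :=
    (MultilinearMap.mkPiAlgebra K (Fin (Field.finSepDegree K L)) M).compLinearMap
      (fun i => (σ i).toLinearMap)
  have hf0 : ∀ x, f0 x = ∏ i, σ i (x i) := fun x => by simp [f0]
  let f : (⨂[K] _ : Fin (Field.finSepDegree K L), L) →ₐ[K] M :=
    PiTensorProduct.liftAlgHom f0 (by rw [hf0]; simp)
      (by intro x y; rw [hf0, hf0, hf0]; simp [Finset.prod_mul_distrib])
  refine ⟨f, ?_⟩
  have hsingle : ∀ (i : Fin (Field.finSepDegree K L)) (a : L),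
      f (PiTensorProduct.singleAlgHom i a) = σ i a := by
    intro i a
    change PiTensorProduct.lift f0 (PiTensorProduct.tprod K (MonoidHom.mulSingle _ i a)) = _
    rw [PiTensorProduct.lift.tprod, hf0]
    rw [Finset.prod_eq_single i]
    · simp
    · intro j _ hji
      simp [MonoidHom.mulSingle_apply, Pi.mulSingle_eq_of_ne hji]
    · intro h
      exact absurd (Finset.mem_univ i) h
  have hfield : IsField f.range := Subalgebra.isField_of_algebraic _
  let E : IntermediateField K M := f.range.toIntermediateField' hfield
  have hE : E = ⊤ := by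
    rw [eq_top_iff, ← IsNormalClosure.adjoin_rootSet (F := K) (K := L) (L := M)]
    refine iSup_le fun x => ?_
    rw [IntermediateField.adjoin_le_iff]
    intro r hr
    rw [← Algebra.IsAlgebraic.range_eval_eq_rootSet_minpoly_of_splits M hsplit x] at hr
    obtain ⟨ψ, rfl⟩ := hr
    obtain ⟨i, rfl⟩ := σ.surjective ψ
    exact ⟨PiTensorProduct.singleAlgHom i x, hsingle i x⟩
  intro m
  have hm : m ∈ E := by rw [hE]; trivial
  exact hm

end Groth.Agent.S6363
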