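import Groth.Statements.S6371
import Mathlib

set_option autoImplicit false
universe u
open CAlg

namespace Groth.Agent.S6371

/-- A ring map R → S is an epimorphism of rings if and only if for every prime p of R the localized map
R_p → S_p is an epimorphism, where S_p is S localized at the image of R ∖ p. -/
theorem result (R S : Type u) [CommRing R] [CommRing S] [Algebra R S] :
    Algebra.IsEpi R S ↔ ∀ (p : Ideal R) [p.IsPrime],
      Algebra.IsEpi (Localization.AtPrime p) (Localization (Algebra.algebraMapSubmonoid S p.primeCompl)) := by
  have key : ∀ (p : Ideal R) [p.IsPrime],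
      (∀ b : Localization (Algebra.algebraMapSubmonoid S p.primeCompl),
        (1 : Localization (Algebra.algebraMapSubmonoid S p.primeCompl)) ⊗ₜ[Localization.AtPrime p] b
          = b ⊗ₜ[Localization.AtPrime p] 1) ↔
      (∀ b : Localization (Algebra.algebraMapSubmonoid S p.primeCompl),
        (1 : Localization (Algebra.algebraMapSubmonoid S p.primeCompl)) ⊗ₜ[R] b = b ⊗ₜ[R] 1) := by
    intro p _
    let e := IsLocalization.moduleTensorEquiv p.primeCompl (Localization.AtPrime p)
      (Localization (Algebra.algebraMapSubmonoid S p.primeCompl))
      (Localization (Algebra.algebraMapSubmonoid S p.primeCompl))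
    have he : ∀ x y, e (x ⊗ₜ y) = x ⊗ₜ y := fun x y => rfl
    constructor
    · intro h b
      have := congrArg e (h b)
      rwa [he, he] at this
    · intro h b
      apply e.injective
      rw [he, he]
      exact h b
  have hloc : ∀ (p : Ideal R) [p.IsPrime], IsLocalizedModule p.primeCompl
      (IsScalarTower.toAlgHom R S
        (Localization (Algebra.algebraMapSubmonoid S p.primeCompl))).toLinearMap := by
    intro p _
    exact (isLocalizedModule_iff_isLocalization (S := p.primeCompl) (A := S)
        (Aₛ := Localization (Algebra.algebraMapSubmonoid S p.primeCompl))).2 inferInstance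
  constructor
  · intro h p _
    rw [Algebra.isEpi_iff_forall_one_tmul_eq] at h ⊢
    rw [key p]
    intro b
    let f : S →ₗ[R] Localization (Algebra.algebraMapSubmonoid S p.primeCompl) :=
      (IsScalarTower.toAlgHom R S (Localization (Algebra.algebraMapSubmonoid S p.primeCompl))).toLinearMap
    haveI : IsLocalizedModule p.primeCompl f := hloc p
    obtain ⟨a, s, rfl⟩ := IsLocalization.exists_mk'_eq
      (Algebra.algebraMapSubmonoid S p.primeCompl) b
    obtain ⟨s, hs⟩ := s
    obtain ⟨r, hr, rfl⟩ := hs
    apply IsLocalizedModule.smul_injective (TensorProduct.map f f) (⟨r, hr⟩ : p.primeCompl)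
    have h1 : r • IsLocalization.mk' (Localization (Algebra.algebraMapSubmonoid S p.primeCompl)) a
        (⟨algebraMap R S r, ⟨r, hr, rfl⟩⟩ : Algebra.algebraMapSubmonoid S p.primeCompl) = f a := by
      rw [Algebra.smul_def, IsScalarTower.algebraMap_apply R S, mul_comm]
      exact IsLocalization.mk'_spec _ a _
    beta_reduce
    rw [Submonoid.mk_smul, Submonoid.mk_smul, ← TensorProduct.tmul_smul, TensorProduct.smul_tmul', h1]
    have := congrArg (TensorProduct.map f f) (h a)
    simpa [f] using this
  · intro h
    rw [Algebra.isEpi_iff_forall_one_tmul_eq]
    intro a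
    haveI : ∀ (P : Ideal R) [P.IsMaximal], IsLocalizedModule P.primeCompl
        (TensorProduct.map
        (IsScalarTower.toAlgHom R S (Localization (Algebra.algebraMapSubmonoid S P.primeCompl))).toLinearMap
        (IsScalarTower.toAlgHom R S (Localization (Algebra.algebraMapSubmonoid S P.primeCompl))).toLinearMap) := by
      intro P _
      haveI := hloc P
      infer_instance
    refine Module.eq_of_localization_maximal
      (fun P _ => TensorProduct R (Localization (Algebra.algebraMapSubmonoid S P.primeCompl))
        (Localization (Algebra.algebraMapSubmonoid S P.primeCompl)))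
      (fun P _ => TensorProduct.map
        (IsScalarTower.toAlgHom R S (Localization (Algebra.algebraMapSubmonoid S P.primeCompl))).toLinearMap
        (IsScalarTower.toAlgHom R S (Localization (Algebra.algebraMapSubmonoid S P.primeCompl))).toLinearMap)
      _ _ ?_
    intro P hP
    have hP' := h P
    rw [Algebra.isEpi_iff_forall_one_tmul_eq, key P] at hP'
    have := hP' (algebraMap S _ a)
    simpa using this

end Groth.Agent.S6371
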