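import Groth.Statements.S6378
import Mathlib
import Groth.Agent.H4.TorLES

set_option autoImplicit false
universe u
open CategoryTheory
open CAlg

namespace Groth.Agent.S6378

open CategoryTheory CategoryTheory.Limits

open Groth.Agent.H4.TorLES

theorem shortExact_of {R : Type u} [CommRing R] {M₁ M₂ M₃ : Type u} [AddCommGroup M₁] [AddCommGroup M₂]
    [AddCommGroup M₃] [Module R M₁] [Module R M₂] [Module R M₃] (a : M₁ →ₗ[R] M₂) (b : M₂ →ₗ[R] M₃)
    (hinj : Function.Injective a) (hex : Function.Exact a b) (hsurj : Function.Surjective b) :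
    (ShortComplex.mk (ModuleCat.ofHom a) (ModuleCat.ofHom b) (by
      ext x; exact hex.apply_apply_eq_zero x)).ShortExact where
  exact := (ShortComplex.ShortExact.moduleCat_exact_iff_function_exact _).2 hex
  mono_f := (ModuleCat.mono_iff_injective _).2 hinj
  epi_g := (ModuleCat.epi_iff_surjective _).2 hsurj

/-- Let (R, m, κ) be a local ring and M an R-module with Tor_1^R(κ, M) = 0. Then Tor_1^R(N, M) = 0 for
every finite length R-module N. -/
theorem result (R : Type u) [CommRing R] [IsLocalRing R]
    (M : Type u) [AddCommGroup M] [Module R M]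
    (h : Limits.IsZero (((CategoryTheory.Tor (ModuleCat.{u} R) 1).obj (ModuleCat.of R (IsLocalRing.ResidueField R))).obj (ModuleCat.of R M)))
    (N : Type u) [AddCommGroup N] [Module R N] (hN : IsFiniteLength R N) :
    Limits.IsZero (((CategoryTheory.Tor (ModuleCat.{u} R) 1).obj (ModuleCat.of R N)).obj (ModuleCat.of R M)) := by
  induction hN with
  | of_subsingleton =>
    rw [isZero_Tor_iff]
    exact isZero_of_flat _ _ 0
  | @of_simple_quotient N _ _ N₀ hsimple hN₀ ih =>
    rw [isZero_Tor_iff]
    have hT := shortExact_of (R := R) N₀.subtype N₀.mkQ N₀.subtype_injective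
      (by
        intro x
        rw [Submodule.mkQ_apply, Submodule.Quotient.mk_eq_zero]
        constructor
        · intro hx; exact ⟨⟨x, hx⟩, rfl⟩
        · rintro ⟨y, rfl⟩; exact y.2) N₀.mkQ_surjective
    refine isZero_mid _ hT (ModuleCat.of R M) 1 ((isZero_Tor_iff _ _ _).1 ih) ?_
    rw [← isZero_Tor_iff]
    obtain ⟨I, hI, ⟨e⟩⟩ := isSimpleModule_iff_quot_maximal.1 hsimple
    have hI' : I = IsLocalRing.maximalIdeal R := IsLocalRing.eq_maximalIdeal hI
    subst hI'
    let e' : ModuleCat.of R (N ⧸ N₀) ≅ ModuleCat.of R (IsLocalRing.ResidueField R) := e.toModuleIso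
    exact IsZero.of_iso h ((((Tor (ModuleCat.{u} R) 1).mapIso e').app (ModuleCat.of R M)))


end Groth.Agent.S6378
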