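import Groth.Statements.S6391
import Groth.Agent.Lib.Helper8.IndLift
-- import your own Groth.Agent.* helpers here

set_option autoImplicit false
universe u
open CAlg

namespace Groth.Agent.S6391

open Groth.Agent.H8.IndLift Groth.Agent.H4.IndEtCrit

/-- Let R be a ring, S and S' henselian local rings which are filtered colimits of étale R-algebras, and
K a field together with R-algebra maps S → K and S' → K identifying K with the residue field of each
(surjective with kernel the maximal ideal). Then exactly one isomorphism of R-algebras S → S'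
commutes with the two maps to K. -/
theorem result (R S S' K : Type u) [CommRing R]
    [CommRing S] [CommRing S'] [Field K] [HenselianLocalRing S] [HenselianLocalRing S']
    [Algebra R S] [Algebra R S'] [Algebra R K] (hS : EtPBC.IsIndEtale R S) (hS' : EtPBC.IsIndEtale R S')
    (u : S →ₐ[R] K) (u' : S' →ₐ[R] K) (hu : Function.Surjective u) (hu' : Function.Surjective u')
    (hku : RingHom.ker u.toRingHom = IsLocalRing.maximalIdeal S)
    (hku' : RingHom.ker u'.toRingHom = IsLocalRing.maximalIdeal S') :
    ∃! e : S ≃ₐ[R] S', u'.comp (e : S →ₐ[R] S') = u := by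
  have cS : Crit R S := crit_of_isIndEtale hS
  have cS' : Crit R S' := crit_of_isIndEtale hS'
  obtain ⟨f, hf, hfu⟩ := existsUnique_algHom cS u u' hu' hku'
  obtain ⟨f', hf', hfu'⟩ := existsUnique_algHom cS' u' u hu hku
  -- compositions are identities
  obtain ⟨i, hi, hiu⟩ := existsUnique_algHom cS u u hu hku
  obtain ⟨i', hi', hiu'⟩ := existsUnique_algHom cS' u' u' hu' hku'
  have h1 : f'.comp f = AlgHom.id R S := by
    rw [hiu (f'.comp f) (by show u.comp (f'.comp f) = u; rw [← AlgHom.comp_assoc, hf', hf]),
    hiu (AlgHom.id R S) (AlgHom.comp_id _)]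
  have h2 : f.comp f' = AlgHom.id R S' := by
    rw [hiu' (f.comp f') (by show u'.comp (f.comp f') = u'; rw [← AlgHom.comp_assoc, hf, hf']),
      hiu' (AlgHom.id R S') (AlgHom.comp_id _)]
  refine ⟨AlgEquiv.ofAlgHom f f' h2 h1, ?_, ?_⟩
  · ext x
    exact congrArg (fun w => w x) hf
  · intro e he
    ext x
    have : (e : S →ₐ[R] S') = f := hfu _ he
    exact congrArg (fun w => w x) this

end Groth.Agent.S6391
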