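import Groth.Statements.S6426
import Groth.Agent.Lib.Helper2.ColimSpan

set_option autoImplicit false
open CategoryTheory CategoryTheory.Limits
universe v
open CatLim

namespace Groth.Agent.S6426

/-- Over a nonempty index category in which any two objects map to a common object, the set-theoretic
colimit of a diagram of abelian groups surjects onto its colimit in abelian groups. (The published
statement does not require the index category to be nonempty; this row assumes it, because for the
empty index category the colimit of sets is empty while the colimit of abelian groups is the zero
group.) -/
theorem result {I : Type v} [SmallCategory I] [Nonempty I]
    (hI : ∀ x y : I, ∃ (z : I) (_ : x ⟶ z) (_ : y ⟶ z), True) (M : I ⥤ AddCommGrpCat.{v}) :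
    Function.Surjective (colimit.post M (forget AddCommGrpCat.{v})) := by
  exact Groth.Agent.H2.ColimSpan.colimit_post_forget_surjective hI M

end Groth.Agent.S6426
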