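import Groth.Statements.S6459
import Mathlib
import Groth.Agent.Lib.Helper1.DimFun
import Groth.Agent.Lib.Helper1.DimLocD

set_option autoImplicit false
universe u
open CategoryTheory AlgebraicGeometry
open Cyc

namespace Groth.Agent.S6459

theorem delta_generic_eq (X : Scheme.{u}) [IsIntegral X] (δ : X → ℤ) (hX : Cyc.IsSetup X δ) (ξ : X) :
    ∃ n : ℕ, ringKrullDim (X.presheaf.stalk ξ) = n ∧ δ (genericPoint X) = δ ξ + n := by
  obtain ⟨hN, hUC, hδ⟩ := hX
  haveI := hN
  obtain ⟨V, hV, hξV⟩ : ∃ V : X.Opens, IsAffineOpen V ∧ ξ ∈ V := by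
    obtain ⟨_, ⟨V, hV : IsAffineOpen V, rfl⟩, hzV, -⟩ :=
      X.isBasis_affineOpens.exists_subset_of_mem_open (Set.mem_univ ξ) isOpen_univ
    exact ⟨V, hV, hzV⟩
  have hη : genericPoint X ∈ V :=
    ((genericPoint_spec X).specializes (Set.mem_univ ξ)).mem_open V.2 hξV
  haveI : IsNoetherianRing (X.presheaf.stalk ξ) := inferInstance
  have hfin : ringKrullDim (X.presheaf.stalk ξ) ≠ ⊤ := ringKrullDim_ne_top
  have h1 := Groth.Agent.H1.DimLoc.height_map_mk_genericPoint hV ξ hξV hη hfin
  have h2 := Groth.Agent.H1.DimIneq.ringKrullDim_stalk_eq_height hV ξ hξV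
  haveI := Groth.Agent.H1.DimLoc.finiteHeight_primeIdealOf hV ξ hξV hfin
  obtain ⟨n, hn⟩ : ∃ n : ℕ, (hV.primeIdealOf ⟨ξ, hξV⟩).asIdeal.height = n :=
    ⟨_, (ENat.natCast_toNat (Ideal.height_ne_top (hV.primeIdealOf ⟨ξ, hξV⟩).isPrime.ne_top)).symm⟩
  refine ⟨n, ?_, ?_⟩
  · rw [h2, hn]; rfl
  · exact Groth.Agent.H1.DimFun.dimFun_eq_add_height δ hδ hV ξ (genericPoint X) hξV hη
      ((genericPoint_spec X).specializes (Set.mem_univ ξ)) n (by rw [h1, hn])


/-- (b) ⇔ (c): let X be integral with generic point η and Z ⊂ X an integral closed subscheme with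
generic point ξ. Then Z has codimension 1 in X (the local ring O_{X,ξ} is one-dimensional; Z is a
prime divisor) if and only if dim_δ(Z) = dim_δ(X) − 1. Here a pair (X, δ) with Cyc.IsSetup plays the
role of a scheme locally of finite type over the base (S, δ) (X locally Noetherian with universally
catenary local rings, δ a dimension function). -/
theorem result (X : Scheme.{u}) [IsIntegral X] (δ : X → ℤ) (hX : Cyc.IsSetup X δ) (ξ : X) : ringKrullDim ↑(X.presheaf.stalk ξ) = 1 ↔ δ ξ = δ (genericPoint X) - 1 := by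
  obtain ⟨n, h1, h2⟩ := delta_generic_eq X δ hX ξ
  rw [h1, h2]
  constructor
  · intro h
    have : n = 1 := by exact_mod_cast h
    subst this
    simp
  · intro h
    have : n = 1 := by omega
    subst this
    simp

end Groth.Agent.S6459
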