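import Groth.Statements.S6460
import Mathlib

set_option autoImplicit false
universe u
open CategoryTheory AlgebraicGeometry
open Cyc

namespace Groth.Agent.S6460

open TopologicalSpace

section top
variable {α : Type*} [TopologicalSpace α] [T0Space α] [QuasiSober α]

lemma exists_max_gen (y : α) : ∃ ξ : α, (∀ ξ' : α, ξ' ⤳ ξ → ξ' = ξ) ∧ ξ ⤳ y ∧
    closure {ξ} ∈ irreducibleComponents α := by
  let Z : irreducibleComponents α := ⟨_, irreducibleComponent_mem_irreducibleComponents y⟩
  have hg := genericPoints.isGenericPoint_ofComponent Z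
  refine ⟨(genericPoints.ofComponent Z).1, ?_, ?_, (genericPoints.ofComponent Z).2⟩
  · intro ξ' h
    have h1 : closure {(genericPoints.ofComponent Z).1} ⊆ closure {ξ'} :=
      (specializes_iff_closure_subset.1 h)
    have h2 : closure {ξ'} ≤ closure {(genericPoints.ofComponent Z).1} :=
      (genericPoints.ofComponent Z).2.2 (isIrreducible_singleton.closure) h1
    have h3 : (genericPoints.ofComponent Z).1 ⤳ ξ' := specializes_iff_closure_subset.2 h2
    exact (h.antisymm h3).eq
  · rw [specializes_iff_mem_closure, hg.def]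
    exact mem_irreducibleComponent

lemma closure_mem_of_max (ξ : α) (h : ∀ ξ' : α, ξ' ⤳ ξ → ξ' = ξ) :
    closure {ξ} ∈ irreducibleComponents α := by
  obtain ⟨η, -, h2, h3⟩ := exists_max_gen ξ
  rw [← h η h2]; exact h3

end top


/-- (3) ⇒ (1): suppose that for every x ∈ X there is an integer n_x with δ(ξ) = n_x for every generic
point ξ of an irreducible component of X containing x. Then X decomposes into open and closed
subschemes X_n (n ∈ ℤ) such that every irreducible component of X_n has δ-dimension n; stated as the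
existence of a locally constant c : X → ℤ with δ(ξ) = c(ξ) for every point ξ that is maximal under
specialization. (The converse implications are immediate and not stated.) Here a pair (X, δ) with
Cyc.IsSetup plays the role of a scheme locally of finite type over the base (S, δ) (X locally
Noetherian with universally catenary local rings, δ a dimension function). -/
theorem result (X : Scheme.{u}) (δ : X → ℤ) (hX : Cyc.IsSetup X δ) (h3 : ∀ x : X, ∃ n : ℤ, ∀ ξ : X, (∀ ξ' : X, ξ' ⤳ ξ → ξ' = ξ) → ξ ⤳ x → δ ξ = n) : ∃ c : X → ℤ, IsLocallyConstant c ∧ ∀ ξ : X, (∀ ξ' : X, ξ' ⤳ ξ → ξ' = ξ) → δ ξ = c ξ := by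
  obtain ⟨hN, -, -⟩ := hX
  choose c hc using h3
  refine ⟨c, ?_, fun ξ hξ => hc ξ ξ hξ specializes_rfl⟩
  rw [IsLocallyConstant.iff_exists_open]
  intro x
  obtain ⟨_, ⟨W, hWaff, rfl⟩, hxW, -⟩ := X.isBasis_affineOpens.exists_subset_of_mem_open
    (Set.mem_univ x) isOpen_univ
  replace hxW : x ∈ W := hxW
  have hNW : NoetherianSpace W := by
    have : IsNoetherianRing Γ(X, W) := IsLocallyNoetherian.component_noetherian ⟨W, hWaff⟩
    exact noetherianSpace_of_isAffineOpen W hWaff
  let xW : W := ⟨x, hxW⟩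
  let 𝒯 : Set (Set W) := {Z | Z ∈ irreducibleComponents W ∧ xW ∉ Z}
  have h𝒯fin : 𝒯.Finite := (NoetherianSpace.finite_irreducibleComponents (α := W)).subset
    (fun Z hZ => hZ.1)
  have hclosed : IsClosed (⋃₀ 𝒯) := by
    rw [Set.sUnion_eq_biUnion]
    exact h𝒯fin.isClosed_biUnion (fun Z hZ => isClosed_of_mem_irreducibleComponents Z hZ.1)
  refine ⟨Subtype.val '' (⋃₀ 𝒯)ᶜ, W.isOpenEmbedding.isOpenMap _ hclosed.isOpen_compl,
    ⟨xW, ?_, rfl⟩, ?_⟩
  · rintro ⟨Z, hZ, hxZ⟩
    exact hZ.2 hxZ
  · rintro _ ⟨y, hy, rfl⟩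
    obtain ⟨ξ, hξmax, hξy, hξc⟩ := exists_max_gen (y : X)
    have hξW : ξ ∈ W := hξy.mem_open W.isOpen y.2
    have hcomp : Subtype.val ⁻¹' closure {ξ} ∈ irreducibleComponents W :=
      preimage_mem_irreducibleComponents hξc W.isOpenEmbedding
        ⟨ξ, subset_closure rfl, ⟨⟨ξ, hξW⟩, rfl⟩⟩
    have hyC : y ∈ Subtype.val ⁻¹' closure {ξ} := specializes_iff_mem_closure.1 hξy
    have hxC : xW ∈ Subtype.val ⁻¹' closure {ξ} := by
      by_contra hcon
      exact hy ⟨_, ⟨hcomp, hcon⟩, hyC⟩
    have hξx : ξ ⤳ x := specializes_iff_mem_closure.2 hxC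
    rw [← hc _ ξ hξmax hξy, ← hc _ ξ hξmax hξx]

end Groth.Agent.S6460
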