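import Groth.Statements.S6462
import Mathlib
import Groth.Agent.Lib.Helper1.LocQuotDim
import Groth.Agent.Lib.Helper1.JacDim
import Groth.Agent.Lib.Helper1.DimFun
import Groth.Agent.H4.Caten2
import Groth.Agent.Lib.Helper3.TopDim

set_option autoImplicit false
universe u
open CategoryTheory AlgebraicGeometry
open Cyc

namespace Groth.Agent.S6462

/-- Assume in addition that X is Jacobson and δ(x) = 0 for every closed point x. For a point ξ of X with
closure Z (an integral closed subscheme whose generic point is ξ) one then has δ(ξ) = dim Z = dim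
O_{Z,z} for every closed point z of Z; here Z is the closure of ξ and O_{Z,z} = O_{X,z}/𝔭_ξ
(Cyc.LocQuot). (The published statement takes X locally of finite type over a Jacobson base with δ
zero on the base's closed points; this row assumes instead that X is Jacobson and δ vanishes on the
closed points of X, which follows from the published hypotheses.) Here a pair (X, δ) with
Cyc.IsSetup plays the role of a scheme locally of finite type over the base (S, δ) (X locally
Noetherian with universally catenary local rings, δ a dimension function). -/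
theorem result (X : Scheme.{u}) [JacobsonSpace X] (δ : X → ℤ) (hX : Cyc.IsSetup X δ) (h0 : ∀ x : X, IsClosed ({x} : Set X) → δ x = 0) (ξ : X) : (topologicalKrullDim ↥(closure ({ξ} : Set X)) = ((δ ξ).toNat : WithBot ℕ∞) ∧ 0 ≤ δ ξ) ∧ ∀ (z : X) (h : ξ ⤳ z), IsClosed ({z} : Set X) → ringKrullDim (Cyc.LocQuot z ξ h) = ((δ ξ).toNat : WithBot ℕ∞) := by
  obtain ⟨hN, hUC, hδ⟩ := hX
  haveI := hN
  -- every point specializes to a closed point
  have hcl : ∀ x : X, ∃ z : X, x ⤳ z ∧ IsClosed ({z} : Set X) := by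
    intro x
    obtain ⟨z, hz1, hz2⟩ := nonempty_inter_closedPoints (X := X) (Z := closure {x})
      ⟨x, subset_closure rfl⟩ isClosed_closure.isLocallyClosed
    exact ⟨z, specializes_iff_mem_closure.2 hz1, hz2⟩
  have hpos : ∀ x : X, 0 ≤ δ x := by
    intro x
    obtain ⟨z, hz, hzc⟩ := hcl x
    by_cases hxz : x = z
    · rw [hxz, h0 z hzc]
    · have := (hδ x z hz hxz).1
      rw [h0 z hzc] at this
      exact this.le
  have hB : ∀ (x z : X) (h : x ⤳ z), IsClosed ({z} : Set X) →
      ringKrullDim (Cyc.LocQuot z x h) = ((δ x).toNat : WithBot ℕ∞) ∧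
      topologicalKrullDim ↥{t : X | x ⤳ t ∧ t ⤳ z} = ((δ x).toNat : WithBot ℕ∞) := by
    intro x z h hzc
    obtain ⟨V, hV, hzV⟩ : ∃ V : X.Opens, IsAffineOpen V ∧ z ∈ V := by
      obtain ⟨_, ⟨V, hV : IsAffineOpen V, rfl⟩, hzV, -⟩ :=
        X.isBasis_affineOpens.exists_subset_of_mem_open (Set.mem_univ z) isOpen_univ
      exact ⟨V, hV, hzV⟩
    have hxV : x ∈ V := h.mem_open V.2 hzV
    haveI : IsNoetherianRing Γ(X, V) := IsLocallyNoetherian.component_noetherian ⟨V, hV⟩
    have hle := Groth.Agent.H1.DimLoc.primeIdealOf_le_of_specializes hV z x hzV hxV h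
    haveI hpr : ((hV.primeIdealOf ⟨z, hzV⟩).asIdeal.map
        (Ideal.Quotient.mk (hV.primeIdealOf ⟨x, hxV⟩).asIdeal)).IsPrime :=
      Ideal.map_isPrime_of_surjective Ideal.Quotient.mk_surjective (by rw [Ideal.mk_ker]; exact hle)
    obtain ⟨n, hn⟩ : ∃ n : ℕ, ((hV.primeIdealOf ⟨z, hzV⟩).asIdeal.map
        (Ideal.Quotient.mk (hV.primeIdealOf ⟨x, hxV⟩).asIdeal)).height = n := by
      have := Ideal.height_ne_top (hpr.ne_top)
      exact ⟨_, (ENat.natCast_toNat this).symm⟩
    have h1 := Groth.Agent.H1.DimFun.dimFun_eq_add_height δ hδ hV z x hzV hxV h n hn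
    rw [h0 z hzc, zero_add] at h1
    rw [Groth.Agent.H1.LocQuotDim.ringKrullDim_locQuot hV z x hzV hxV h,
      Groth.Agent.H1.JacDim.dim_between_eq_height hV z x hzV hxV h, hn, h1]
    simp
  refine ⟨⟨?_, hpos ξ⟩, fun z h hz => (hB ξ z h hz).1⟩
  apply le_antisymm
  · -- upper bound by chains
    unfold topologicalKrullDim Order.krullDim
    refine iSup_le ?_
    intro s
    haveI : QuasiSober ↥(closure ({ξ} : Set X)) :=
      (isClosed_closure.isClosedEmbedding_subtypeVal).quasiSober
    have hlt : ∀ x y : ↥(closure ({ξ} : Set X)), x ⤳ y → x ≠ y → δ y.1 < δ x.1 := by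
      intro x y hxy hne
      exact (hδ x.1 y.1 (hxy.map continuous_subtype_val) (fun e => hne (Subtype.ext e))).1
    have hm : StrictMono (fun T : TopologicalSpace.IrreducibleCloseds ↥(closure ({ξ} : Set X)) =>
        δ (Groth.Agent.H4.Spec.gp T).1) := fun T T' hT =>
      Groth.Agent.H4.Spec.gp_lt (δ := fun t : ↥(closure ({ξ} : Set X)) => δ t.1) hlt T T' hT
    have h1 := LTSeries.head_add_length_le_int (s.map _ hm)
    simp only [LTSeries.head_map, LTSeries.map_length, LTSeries.last_map] at h1
    have h2 : 0 ≤ δ (Groth.Agent.H4.Spec.gp s.head).1 := hpos _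
    have h3 : δ (Groth.Agent.H4.Spec.gp s.last).1 ≤ δ ξ := by
      have hsp : ξ ⤳ (Groth.Agent.H4.Spec.gp s.last).1 :=
        specializes_iff_mem_closure.2 (Groth.Agent.H4.Spec.gp s.last).2
      by_cases he : ξ = (Groth.Agent.H4.Spec.gp s.last).1
      · rw [← he]
      · exact (hδ _ _ hsp he).1.le
    have h4 : s.length ≤ (δ ξ).toNat := by omega
    exact_mod_cast h4
  · obtain ⟨z, hz, hzc⟩ := hcl ξ
    rw [← (hB ξ z hz hzc).2]
    apply Groth.Agent.H3.TopDim.dim_mono
    intro t ht
    exact specializes_iff_mem_closure.1 ht.1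

end Groth.Agent.S6462
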