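import Groth.Statements.S6464
import Mathlib

set_option autoImplicit false
universe u v
open CycAlg

namespace Groth.Agent.S6464

lemma len_ker_range {R : Type u} [CommRing R] {M N : Type v} [AddCommGroup M] [Module R M] [AddCommGroup N] [Module R N] (φ : M →ₗ[R] N) :
    Module.length R M = Module.length R (LinearMap.ker φ) + Module.length R (LinearMap.range φ) := by
  refine Module.length_eq_add_of_exact (LinearMap.ker φ).subtype φ.rangeRestrict
    (Submodule.injective_subtype _) (LinearMap.surjective_rangeRestrict φ) ?_
  intro x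
  constructor
  · intro hx
    refine ⟨⟨x, ?_⟩, rfl⟩
    have := congrArg Subtype.val hx
    simpa using this
  · rintro ⟨y, rfl⟩
    apply Subtype.ext
    simp

lemma len_perH {R : Type u} [CommRing R] {M N : Type v} [AddCommGroup M] [Module R M] [AddCommGroup N] [Module R N] (φ : M →ₗ[R] N) (ψ : N →ₗ[R] M) (h : φ ∘ₗ ψ = 0) :
    Module.length R (LinearMap.ker φ) = Module.length R (LinearMap.range ψ) + Module.length R (CycAlg.perH φ ψ) := by
  have hle : LinearMap.range ψ ≤ LinearMap.ker φ := by
    rintro _ ⟨y, rfl⟩
    have := LinearMap.congr_fun h y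
    simpa using this
  rw [← (Submodule.submoduleOfEquivOfLe hle).length_eq]
  exact Module.length_eq_add_of_exact ((LinearMap.range ψ).submoduleOf (LinearMap.ker φ)).subtype
    ((LinearMap.range ψ).submoduleOf (LinearMap.ker φ)).mkQ (Submodule.injective_subtype _)
    (Submodule.mkQ_surjective _) (LinearMap.exact_subtype_mkQ _)


/-- Let (M, N, φ, ψ) be a 2-periodic complex over a ring R with M and N of finite length. Then its
cohomology modules have finite length and e_R(M, N, φ, ψ) = length_R(M) − length_R(N). (The case M =
N, where the conclusion reads e_R(M, φ, ψ) = 0, is the special case and is not restated.) -/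
theorem result {R : Type u} [CommRing R] {M N : Type v} [AddCommGroup M] [Module R M] [AddCommGroup N] [Module R N] (φ : M →ₗ[R] N) (ψ : N →ₗ[R] M) (h : CycAlg.IsPeriodic φ ψ) (hM : Module.length R M < ⊤) (hN : Module.length R N < ⊤) : CycAlg.FinCoh R φ ψ ∧ CycAlg.herbrand R φ ψ = ((Module.length R M).toNat : ℤ) - ((Module.length R N).toNat : ℤ) := by
  have e1 := len_ker_range φ
  have e2 := len_ker_range ψ
  have e3 := len_perH φ ψ h.1
  have e4 := len_perH ψ φ h.2
  unfold CycAlg.FinCoh CycAlg.herbrand
  generalize Module.length R M = lM at *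
  generalize Module.length R N = lN at *
  generalize Module.length R (LinearMap.ker φ) = a at *
  generalize Module.length R (LinearMap.range φ) = b at *
  generalize Module.length R (LinearMap.ker ψ) = c at *
  generalize Module.length R (LinearMap.range ψ) = d at *
  generalize Module.length R (CycAlg.perH φ ψ) = h0 at *
  generalize Module.length R (CycAlg.perH ψ φ) = h1 at *
  have ha : a ≠ ⊤ := by rintro rfl; simp [e1] at hM
  have hb : b ≠ ⊤ := by rintro rfl; simp [e1] at hM
  have hc : c ≠ ⊤ := by rintro rfl; simp [e2] at hN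
  have hd : d ≠ ⊤ := by rintro rfl; simp [e2] at hN
  have hh0 : h0 ≠ ⊤ := by rintro rfl; simp [e3] at ha
  have hh1 : h1 ≠ ⊤ := by rintro rfl; simp [e4] at hc
  lift a to ℕ using ha
  lift b to ℕ using hb
  lift c to ℕ using hc
  lift d to ℕ using hd
  lift h0 to ℕ using hh0
  lift h1 to ℕ using hh1
  subst e1 e2
  norm_cast at e3 e4
  refine ⟨⟨ENat.natCast_lt_top _, ENat.natCast_lt_top _⟩, ?_⟩
  simp only [← Nat.cast_add, ENat.toNat_natCast]
  omega

end Groth.Agent.S6464
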