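import Groth.Statements.S6482
import Mathlib

set_option autoImplicit false
universe u
open CategoryTheory AlgebraicGeometry
open CategoryTheory.Limits
open Cyc

namespace Groth.Agent.S6482

/-- Let f : Y → X be an envelope. Then f_* : Z_k(Y) → Z_k(X) is surjective, hence so is f_* : CH_k(Y) →
CH_k(X). An envelope is a proper, completely decomposed morphism (every point of the target has a
point over it with trivial residue field extension; this prelude's Cyc.IsCompletelyDecomposed). Here
a pair (X, δ) with Cyc.IsSetup plays the role of a scheme locally of finite type over the base (S,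
δ) (X locally Noetherian with universally catenary local rings, δ a dimension function), and
Cyc.DeltaCompat records that the dimension function upstairs is the induced one. -/
theorem result (X Y : Scheme.{u}) (δ : X → ℤ) (δY : Y → ℤ) (hX : Cyc.IsSetup X δ) (hY : Cyc.IsSetup Y δY) (f : Y ⟶ X) [IsProper f] (hcd : Cyc.IsCompletelyDecomposed f) (hδ : Cyc.DeltaCompat f δY δ) (k : ℤ) (α : AlgebraicCycle X ℤ) (hα : α ∈ Cyc.Zk X δ k) : ∃ β : AlgebraicCycle Y ℤ, β ∈ Cyc.Zk Y δY k ∧ AlgebraicCycle.map f δY δ β = α := by
  classical
  choose σ hσ1 hσ2 using hcd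
  -- at points `σ x`, the residue extension is trivial
  have hdeg : ∀ x : X, δY (σ x) = δ (f (σ x)) ∧ f.residueDegree (σ x) = 1 := by
    intro x
    obtain ⟨n, hn1, hn2⟩ := hδ (σ x)
    letI := (f.residueFieldMap (σ x)).hom.toAlgebra
    have hbij : Function.Bijective (algebraMap (X.residueField (f (σ x))) (Y.residueField (σ x))) :=
      ⟨(algebraMap (X.residueField (f (σ x))) (Y.residueField (σ x))).injective, hσ2 x⟩
    haveI : Algebra.IsIntegral (X.residueField (f (σ x))) (Y.residueField (σ x)) :=
      Algebra.isIntegral_of_surjective hbij.2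
    haveI : Algebra.IsAlgebraic (X.residueField (f (σ x))) (Y.residueField (σ x)) :=
      Algebra.IsIntegral.isAlgebraic
    have h0 : Algebra.trdeg (X.residueField (f (σ x))) (Y.residueField (σ x)) = 0 := trdeg_eq_zero
    have hn0 : n = 0 := by
      rw [h0] at hn1
      exact_mod_cast hn1.symm
    refine ⟨by rw [hn2, hn0]; simp, ?_⟩
    unfold Scheme.Hom.residueDegree
    let e : X.residueField (f (σ x)) ≃ₗ[X.residueField (f (σ x))] Y.residueField (σ x) :=
      LinearEquiv.ofBijective (Algebra.linearMap _ _) hbij
    rw [← e.finrank_eq, Module.finrank_self]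
  let β : AlgebraicCycle Y ℤ :=
    { toFun := fun y => if σ (f y) = y then α (f y) else 0
      supportWithinDomain' := Set.subset_univ _
      supportLocallyFiniteWithinDomain' := by
        intro z _
        obtain ⟨t, ht, hfin⟩ := α.supportLocallyFiniteWithinDomain' (f z) trivial
        refine ⟨f ⁻¹' t, f.continuous.continuousAt ht, (hfin.image σ).subset ?_⟩
        rintro y ⟨hy1, hy2⟩
        have hy2' : (if σ (f y) = y then α (f y) else 0) ≠ 0 := hy2
        by_cases hc : σ (f y) = y
        · rw [if_pos hc] at hy2'
          exact ⟨f y, ⟨hy1, hy2'⟩, hc⟩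
        · rw [if_neg hc] at hy2'
          exact absurd rfl hy2' }
  have hβ : ∀ y : Y, β y = if σ (f y) = y then α (f y) else 0 := fun _ => rfl
  refine ⟨β, ?_, ?_⟩
  · intro y hy
    rw [hβ]
    by_cases hc : σ (f y) = y
    · rw [if_pos hc]
      apply hα
      rw [← hc] at hy
      rw [(hdeg (f y)).1, hσ1] at hy
      exact hy
    · rw [if_neg hc]
  · ext x
    unfold AlgebraicCycle.map
    rw [Function.locallyFinsupp.map_apply]
    have hfx : f (σ x) = x := hσ1 x
    have h1 : (⇑f ⁻¹' {x}) ∩ Function.support
        (fun y => β y * ((AlgebraicCycle.mapCoeff f δY δ y : ℕ) : ℤ)) =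
        ({σ x} : Set Y) ∩ Function.support
        (fun y => β y * ((AlgebraicCycle.mapCoeff f δY δ y : ℕ) : ℤ)) := by
      ext y
      simp only [Set.mem_inter_iff, Set.mem_preimage, Set.mem_singleton_iff, Function.mem_support]
      constructor
      · rintro ⟨h2, h3⟩
        refine ⟨?_, h3⟩
        have : β y ≠ 0 := left_ne_zero_of_mul h3
        rw [hβ] at this
        by_cases hc : σ (f y) = y
        · rw [← hc, h2]
        · rw [if_neg hc] at this
          exact absurd rfl this
      · rintro ⟨h2, h3⟩
        exact ⟨by rw [h2, hfx], h3⟩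
    rw [finsum_mem_inter_support_eq _ _ _ h1, finsum_mem_singleton, hβ, hfx, if_pos rfl]
    unfold AlgebraicCycle.mapCoeff
    rw [if_pos (hdeg x).1, (hdeg x).2]
    simp

end Groth.Agent.S6482
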