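import Groth.Statements.S6484
import Mathlib

set_option autoImplicit false
universe u
open CategoryTheory AlgebraicGeometry
open CategoryTheory.Limits
open Cyc

namespace Groth.Agent.S6484

/-- A point of `P` coming from a `κ(x')`-point lifting the canonical one has trivial residue
extension. -/
lemma surj_of_section {P X' : Scheme.{u}} (h : P ⟶ X') (x' : X')
    (s : Spec (.of (X'.residueField x')) ⟶ P)
    (hs : s ≫ h = X'.fromSpecResidueField x') :
    h (s (IsLocalRing.closedPoint (X'.residueField x'))) = x' ∧
      Function.Surjective (h.residueFieldMap (s (IsLocalRing.closedPoint (X'.residueField x')))).hom := by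
  have e : (s ≫ h) (IsLocalRing.closedPoint (X'.residueField x')) = x' := by
    rw [hs]; exact Scheme.fromSpecResidueField_apply _ _
  have h1 : h (s (IsLocalRing.closedPoint (X'.residueField x'))) = x' := by
    simpa using e
  refine ⟨h1, ?_⟩
  have key := Scheme.descResidueField_stalkClosedPointTo_comp (f := h) (K := X'.residueField x') s
  have hd : Scheme.descResidueField (Scheme.stalkClosedPointTo (s ≫ h)) =
      (X'.residueFieldCongr e).hom := by
    rw [← Spec.map_inj, ← cancel_mono (X'.fromSpecResidueField _)]
    rw [Scheme.descResidueField_stalkClosedPointTo_fromSpecResidueField,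
      Scheme.residueFieldCongr_fromSpecResidueField, hs]
  intro b
  let B := Scheme.descResidueField (Scheme.stalkClosedPointTo s)
  refine ⟨(X'.residueFieldCongr e).inv.hom (B.hom b), ?_⟩
  apply B.hom.injective
  have h3 := congrArg (fun t => t.hom ((X'.residueFieldCongr e).inv.hom (B.hom b))) (hd.symm.trans key)
  have h4 : (X'.residueFieldCongr e).hom.hom ((X'.residueFieldCongr e).inv.hom (B.hom b)) = B.hom b := by
    rw [← RingHom.comp_apply, ← CommRingCat.hom_comp, Iso.inv_hom_id]
    rfl
  simp only [CommRingCat.hom_comp, RingHom.comp_apply] at h3
  rw [h4] at h3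
  exact h3.symm


/-- If f : Y → X is completely decomposed (this prelude's Cyc.IsCompletelyDecomposed: over every point
of X lies a point of Y with trivial residue field extension) and g : X' → X is any morphism of
schemes, then the base change Y ×_X X' → X' is completely decomposed. Consequently the base change
of an envelope (a proper completely decomposed morphism) is an envelope, properness being preserved
by base change. (The published envelope statement takes X′ → X between schemes locally of finite
type over a base; this row allows any g.) -/
theorem result (X X' Y : Scheme.{u}) (f : Y ⟶ X) (g : X' ⟶ X) (hcd : Cyc.IsCompletelyDecomposed f) : Cyc.IsCompletelyDecomposed (pullback.snd f g) := by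
  intro x'
  obtain ⟨y, hy, hsurj⟩ := hcd (g x')
  have hbij : Function.Bijective (f.residueFieldMap y).hom := ⟨(f.residueFieldMap y).hom.injective, hsurj⟩
  have hiso : IsIso (f.residueFieldMap y) := (ConcreteCategory.isIso_iff_bijective _).mpr hbij
  let ρ : Y.residueField y ⟶ X'.residueField x' :=
    inv (f.residueFieldMap y) ≫ (X.residueFieldCongr hy).hom ≫ g.residueFieldMap x'
  have hρ : f.residueFieldMap y ≫ ρ = (X.residueFieldCongr hy).hom ≫ g.residueFieldMap x' := by
    simp only [ρ, IsIso.hom_inv_id_assoc]
  let a : Spec (.of (X'.residueField x')) ⟶ Y := Spec.map ρ ≫ Y.fromSpecResidueField y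
  have comm : a ≫ f = X'.fromSpecResidueField x' ≫ g := by
    simp only [a, Category.assoc]
    rw [← Scheme.Hom.SpecMap_residueFieldMap_fromSpecResidueField, ← Spec.map_comp_assoc, hρ,
      Spec.map_comp_assoc, Scheme.residueFieldCongr_fromSpecResidueField,
      Scheme.Hom.SpecMap_residueFieldMap_fromSpecResidueField]
  obtain ⟨h1, h2⟩ := surj_of_section (pullback.snd f g) x' (pullback.lift a _ comm)
    (pullback.lift_snd _ _ _)
  exact ⟨_, h1, h2⟩

end Groth.Agent.S6484
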