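import Groth.Statements.S6493
import Mathlib

set_option autoImplicit false
universe u
open CategoryTheory AlgebraicGeometry
open Cyc

namespace Groth.Agent.S6493

lemma length_stalk_lt_top_of_maximal (Z : Scheme.{u}) [IsLocallyNoetherian Z] (ξ' : Z)
    (hmax : ∀ z : Z, z ⤳ ξ' → z = ξ') :
    Module.length ↑(Z.presheaf.stalk ξ') ↑(Z.presheaf.stalk ξ') < ⊤ := by
  have hsub : ∀ p q : Spec (Z.presheaf.stalk ξ'), p = q := by
    intro p q
    have hp : Z.fromSpecStalk ξ' p ∈ Set.range (Z.fromSpecStalk ξ') := ⟨p, rfl⟩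
    have hq : Z.fromSpecStalk ξ' q ∈ Set.range (Z.fromSpecStalk ξ') := ⟨q, rfl⟩
    rw [Scheme.range_fromSpecStalk] at hp hq
    have h1 := hmax _ hp
    have h2 := hmax _ hq
    exact (Z.fromSpecStalk ξ').isEmbedding.injective (h1.trans h2.symm)
  have hK : Ring.KrullDimLE 0 (Z.presheaf.stalk ξ') := by
    rw [Ring.krullDimLE_zero_iff]
    intro I hI
    have := hsub ⟨I, hI⟩ (IsLocalRing.closedPoint _)
    have h3 : I = IsLocalRing.maximalIdeal _ := congrArg PrimeSpectrum.asIdeal this
    rw [h3]
    exact IsLocalRing.maximalIdeal.isMaximal _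
  have hA : IsArtinianRing (Z.presheaf.stalk ξ') := IsNoetherianRing.isArtinianRing_of_krullDimLE_zero
  exact lt_top_iff_ne_top.2 Module.length_ne_top


/-- Suppose Z ⊂ X is a closed subscheme whose δ-dimension is at most k, and pick a point ξ of Z
satisfying δ(ξ) = k. In that case Z has an irreducible component whose generic point is ξ; and at
every generic point ξ' of an irreducible component of Z (every point of Z maximal under
generalization) the length of O_{Z,ξ'} over O_{X,ξ'} (= its length over itself) is finite. Here a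
pair (X, δ) with Cyc.IsSetup plays the role of a scheme locally of finite type over the base (S, δ)
(X locally Noetherian with universally catenary local rings, δ a dimension function). -/
theorem result (X Z : Scheme.{u}) (δ : X → ℤ) (hX : Cyc.IsSetup X δ) (i : Z ⟶ X) [IsClosedImmersion i] (k : ℤ) (hZ : ∀ z : Z, δ (i z) ≤ k) (ξ : Z) (hξ : δ (i ξ) = k) : (∀ z : Z, z ⤳ ξ → z = ξ) ∧ ∀ ξ' : Z, (∀ z : Z, z ⤳ ξ' → z = ξ') → Module.length ↑(Z.presheaf.stalk ξ') ↑(Z.presheaf.stalk ξ') < ⊤ := by
  obtain ⟨hN, -, hdim⟩ := hX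
  constructor
  · intro z hz
    by_contra hne
    have h1 : i z ⤳ i ξ := hz.map i.continuous
    have h2 : i z ≠ i ξ := fun h => hne (i.isEmbedding.injective h)
    have := (hdim _ _ h1 h2).1
    have := hZ z
    omega
  · intro ξ' hmax
    have : IsLocallyNoetherian Z := LocallyOfFiniteType.isLocallyNoetherian i
    exact length_stalk_lt_top_of_maximal Z ξ' hmax

end Groth.Agent.S6493
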