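import Groth.Statements.S6540
import Groth.Agent.Lib.Helper5.Curve2.M

set_option autoImplicit false
universe u
open CategoryTheory CategoryTheory.Limits AlgebraicGeometry
open Curves

namespace Groth.Agent.S6540

/-- Let X be a proper curve over the field k (proper, integral, of dimension one) with H^0(X, O_X) = k
and genus 0. Then every invertible O_X-module of degree 0 is trivial, i.e. isomorphic to O_X. -/
theorem result (k : Type u) [Field k] (X : Scheme.{u}) [X.Over (Spec (CommRingCat.of k))]
    [IsIntegral X] [IsProper (X ↘ (Spec (CommRingCat.of k)))] (hdim : topologicalKrullDim X = 1)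
    (h0 : Module.finrank k (Coh.HH X (Coh.structureModule X) 0) = 1) (hg : Curv2.genus k X = 0)
    (L : X.Modules) (hL : PicF.IsInvertible L) (hdeg : Curv2.deg k X L 1 = 0) :
    Nonempty (L ≅ Coh.structureModule X) := by
  haveI : L.IsQuasicoherent := Groth.Agent.LD.QC.qc_of_isInvertible L hL
  have hOc := Groth.Agent.H5.Curve2.isCoh_of_isInvertible
    (Groth.Agent.LD.QC.isInvertible_unit X)
  haveI : (Coh.structureModule X).IsQuasicoherent := hOc.1
  have h4 := Groth.Agent.LD.Curve.euler_eq_sub k X hdim.le (Coh.structureModule X)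
  have hg' : Module.finrank k (Coh.HH X (Coh.structureModule X) 1) = 0 := hg
  rw [h0, hg'] at h4
  have h6 : Curv2.deg k X L 1 = Curv2.euler k X L - Curv2.euler k X (Coh.structureModule X) := by
    unfold Curv2.deg
    push_cast
    ring
  have hpos : 0 < Curv2.euler k X L := by
    push_cast at h4
    linarith
  obtain ⟨s, hs⟩ := Groth.Agent.H5.Curve2.exists_section_ne_zero_of_euler_pos k X hdim.le L hpos
  have h := Groth.Agent.LD.Curve.deg_le_of_ne_zero k X hdim.le
    (Groth.Agent.LD.Curve.isInvertible_structureModule X) hL s hs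
  rw [Groth.Agent.LD.Curve.deg_structureModule, hdeg] at h
  haveI : IsIso s := h.2 rfl
  exact ⟨(asIso s).symm⟩

end Groth.Agent.S6540
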