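import Groth.Statements.S6564
import Mathlib

set_option autoImplicit false
universe u
open CategoryTheory CategoryTheory.Limits AlgebraicGeometry
open Curves

namespace Groth.Agent.S6564

/-- Let X be proper over the field k of dimension at most 1. If X has a g^r_d (an invertible module L of
degree d with an ordered family of r + 1 global sections linearly independent over k), then X has a
g^s_d for every 0 ≤ s ≤ r. -/
theorem result (k : Type u) [Field k] (X : Scheme.{u}) [X.Over (Spec (CommRingCat.of k))] [IsProper (X ↘ (Spec (CommRingCat.of k)))] (hdim : topologicalKrullDim X ≤ 1)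
    (d r : ℕ) (L : X.Modules) (σ : Fin (r + 1) → LinSer.Sect X L) (hL : LinSer.IsLinSer k X L d r σ)
    (s : ℕ) (hs : s ≤ r) :
    ∃ (L' : X.Modules) (τ : Fin (s + 1) → LinSer.Sect X L'), LinSer.IsLinSer k X L' d s τ := by
  obtain ⟨hinv, hdeg, hli⟩ := hL
  refine ⟨L, fun i => σ (Fin.castLE (Nat.succ_le_succ hs) i), hinv, hdeg, ?_⟩
  intro c hc
  let c' : Fin (r + 1) → k := fun j => if h : (j : ℕ) < s + 1 then c ⟨j, h⟩ else 0
  have hsum : (∑ j, (Coh.toGlobal (X ↘ Spec (CommRingCat.of k)) (c' j)) • σ j) = 0 := by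
    rw [← hc]
    symm
    apply Finset.sum_of_injOn (fun i => Fin.castLE (Nat.succ_le_succ hs) i)
    · intro a _ b _ hab
      exact Fin.castLE_injective _ hab
    · intro i _; exact Finset.mem_coe.2 (Finset.mem_univ _)
    · intro j _ hj
      have : ¬ (j : ℕ) < s + 1 := by
        intro hlt
        apply hj
        exact ⟨⟨j, hlt⟩, Finset.mem_coe.2 (Finset.mem_univ _), Fin.ext rfl⟩
      show (Coh.toGlobal (X ↘ Spec (CommRingCat.of k))) (c' j) • σ j = 0
      have hc'j : c' j = 0 := dif_neg this
      rw [hc'j, map_zero, zero_smul]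
    · intro i _
      have hlt : ((Fin.castLE (Nat.succ_le_succ hs) i : Fin (r + 1)) : ℕ) < s + 1 := i.2
      have hc'i : c' (Fin.castLE (Nat.succ_le_succ hs) i) = c i := by
        show (if h : _ then _ else _) = _
        rw [dif_pos hlt]
        exact congrArg c (Fin.ext rfl)
      rw [hc'i]
  have h0 := hli c' hsum
  funext i
  have h1 := congrFun h0 (Fin.castLE (Nat.succ_le_succ hs) i)
  have hlt : ((Fin.castLE (Nat.succ_le_succ hs) i : Fin (r + 1)) : ℕ) < s + 1 := i.2
  have hc'i : c' (Fin.castLE (Nat.succ_le_succ hs) i) = c i := by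
    show (if h : _ then _ else _) = _
    rw [dif_pos hlt]
    exact congrArg c (Fin.ext rfl)
  rw [hc'i] at h1
  exact h1

end Groth.Agent.S6564
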