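import Groth.Statements.S6573
import Groth.Agent.Lib.Helper8.NodeQ.Iso
import Groth.Agent.Lib.Helper8.NodeQ.FibreK
-- import your own Groth.Agent.* helpers here

set_option autoImplicit false
universe u
open CategoryTheory CategoryTheory.Limits AlgebraicGeometry
open Curves

namespace Groth.Agent.S6573

/-- Let f : T → S be a morphism of schemes, t ∈ T with image s ∈ S. Assume that the local ring O_{S,s}
is Noetherian, that f is locally of finite type, that f is flat at the point t, and that t is a
split node of the fibre T_s — here taken in the form: t is a closed point of T_s and the completion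
of O_{T_s,t} is isomorphic, compatibly with κ(s), to κ(s)[[x,y]]/(xy). Then there are h in the
maximal ideal of the completion Â of O_{S,s} and an isomorphism of the completion of O_{T,t} with
Â[[x,y]]/(xy − h) compatible with the maps from O_{S,s} (hence an isomorphism of Â-algebras). -/
theorem result {T S : Scheme.{u}} (f : T ⟶ S) [LocallyOfFiniteType f] (t : T)
    [IsNoetherianRing (S.presheaf.stalk (f t))] (hfl : (f.stalkMap t).hom.Flat)
    (ht : letI : (f.fiber (f t)).Over (Spec (S.residueField (f t))) := ⟨f.fiberToSpecResidueField (f t)⟩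
      letI := Curv2.stalkAlgebra (S.residueField (f t)) (f.fiber (f t)) (f.asFiber t)
      IsClosed ({f.asFiber t} : Set (f.fiber (f t))) ∧
        Curv2.IsOrdDoublePt (S.residueField (f t)) ((f.fiber (f t)).presheaf.stalk (f.asFiber t))) :
    ∃ h ∈ IsLocalRing.maximalIdeal (Curv2.cpl (S.presheaf.stalk (f t))),
      ∃ e : Curv2.cpl (T.presheaf.stalk t) ≃+*
          (MvPowerSeries (Fin 2) (Curv2.cpl (S.presheaf.stalk (f t))) ⧸
            Ideal.span {(MvPowerSeries.X 0 * MvPowerSeries.X 1 - MvPowerSeries.C h : MvPowerSeries (Fin 2) (Curv2.cpl (S.presheaf.stalk (f t))))}),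
        ∀ a : S.presheaf.stalk (f t),
          e (algebraMap (T.presheaf.stalk t) (Curv2.cpl (T.presheaf.stalk t)) ((f.stalkMap t).hom a)) =
            Ideal.Quotient.mk _ (MvPowerSeries.C (algebraMap (S.presheaf.stalk (f t)) (Curv2.cpl (S.presheaf.stalk (f t))) a)) := by
  classical
  obtain ⟨-, e, he⟩ := ht
  letI : Algebra (S.presheaf.stalk (f t)) (T.presheaf.stalk t) := (f.stalkMap t).hom.toAlgebra
  haveI : IsLocalHom (algebraMap (S.presheaf.stalk (f t)) (T.presheaf.stalk t)) :=
    inferInstanceAs (IsLocalHom (f.stalkMap t).hom)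
  haveI : Module.Flat (S.presheaf.stalk (f t)) (T.presheaf.stalk t) := hfl
  haveI : Algebra.EssFiniteType (S.presheaf.stalk (f t)) (T.presheaf.stalk t) :=
    LocallyOfFiniteType.stalkMap (f := f) t
  haveI : IsNoetherianRing (T.presheaf.stalk t) :=
    Algebra.EssFiniteType.isNoetherianRing (S.presheaf.stalk (f t)) (T.presheaf.stalk t)
  have hq : (MvPowerSeries.C (IsLocalRing.residue (S.presheaf.stalk (f t)) 0) * MvPowerSeries.X 0 ^ 2 +
      MvPowerSeries.C (IsLocalRing.residue (S.presheaf.stalk (f t)) 1) * MvPowerSeries.X 0 *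
        MvPowerSeries.X 1 +
      MvPowerSeries.C (IsLocalRing.residue (S.presheaf.stalk (f t)) 0) * MvPowerSeries.X 1 ^ 2 :
      MvPowerSeries (Fin 2) (IsLocalRing.ResidueField (S.presheaf.stalk (f t)))) =
      MvPowerSeries.X 0 * MvPowerSeries.X 1 := by
    simp
  have hI : Ideal.span {(MvPowerSeries.X 0 * MvPowerSeries.X 1 :
      MvPowerSeries (Fin 2) (IsLocalRing.ResidueField (S.presheaf.stalk (f t))))} =
      Ideal.span {MvPowerSeries.C (IsLocalRing.residue (S.presheaf.stalk (f t)) 0) *
        MvPowerSeries.X 0 ^ 2 +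
      MvPowerSeries.C (IsLocalRing.residue (S.presheaf.stalk (f t)) 1) * MvPowerSeries.X 0 *
        MvPowerSeries.X 1 +
      MvPowerSeries.C (IsLocalRing.residue (S.presheaf.stalk (f t)) 0) * MvPowerSeries.X 1 ^ 2} := by
    rw [hq]
  have hE : ∀ r : S.presheaf.stalk (f t),
      e (algebraMap ((f.fiber (f t)).presheaf.stalk (f.asFiber t)) _
        (Groth.Agent.H1.FibreStalk.toFiberStalk f t
          (algebraMap (S.presheaf.stalk (f t)) (T.presheaf.stalk t) r))) =
      Ideal.Quotient.mk _ (MvPowerSeries.C (IsLocalRing.residue (S.presheaf.stalk (f t)) r)) := by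
    intro r
    have h2 := Groth.Agent.H8.NodeQ.toFiberStalk_stalkMap f t r
    have h3 := he (IsLocalRing.residue (S.presheaf.stalk (f t)) r)
    have h4 : Groth.Agent.H1.FibreStalk.toFiberStalk f t
        (algebraMap (S.presheaf.stalk (f t)) (T.presheaf.stalk t) r) = _ := h2
    rw [h4]
    exact h3
  obtain ⟨h, hh, ψ, hψ⟩ := Groth.Agent.H8.NodeQ.main (A := S.presheaf.stalk (f t))
    (B := T.presheaf.stalk t) ((f.fiber (f t)).presheaf.stalk (f.asFiber t))
    (Groth.Agent.H1.FibreStalk.toFiberStalk f t)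
    (Groth.Agent.H1.FibreStalk.toFiberStalk_surjective f t)
    (Groth.Agent.H1.FibreStalk.ker_toFiberStalk f t) 0 1 0 (by simp)
    (e.trans (Ideal.quotEquivOfEq hI)) (fun r => by
      show Ideal.quotEquivOfEq hI (e _) = _
      rw [hE r]
      rfl)
  have hq' : (MvPowerSeries.C (algebraMap (S.presheaf.stalk (f t))
        (Curv2.cpl (S.presheaf.stalk (f t))) 0) * MvPowerSeries.X 0 ^ 2 +
      MvPowerSeries.C (algebraMap (S.presheaf.stalk (f t))
        (Curv2.cpl (S.presheaf.stalk (f t))) 1) * MvPowerSeries.X 0 * MvPowerSeries.X 1 +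
      MvPowerSeries.C (algebraMap (S.presheaf.stalk (f t))
        (Curv2.cpl (S.presheaf.stalk (f t))) 0) * MvPowerSeries.X 1 ^ 2 - MvPowerSeries.C h :
      MvPowerSeries (Fin 2) (Curv2.cpl (S.presheaf.stalk (f t)))) =
      MvPowerSeries.X 0 * MvPowerSeries.X 1 - MvPowerSeries.C h := by
    simp
  have hJ : Ideal.span {(MvPowerSeries.C (algebraMap (S.presheaf.stalk (f t))
        (Curv2.cpl (S.presheaf.stalk (f t))) 0) * MvPowerSeries.X 0 ^ 2 +
      MvPowerSeries.C (algebraMap (S.presheaf.stalk (f t))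
        (Curv2.cpl (S.presheaf.stalk (f t))) 1) * MvPowerSeries.X 0 * MvPowerSeries.X 1 +
      MvPowerSeries.C (algebraMap (S.presheaf.stalk (f t))
        (Curv2.cpl (S.presheaf.stalk (f t))) 0) * MvPowerSeries.X 1 ^ 2 - MvPowerSeries.C h :
      MvPowerSeries (Fin 2) (Curv2.cpl (S.presheaf.stalk (f t))))} =
      Ideal.span {MvPowerSeries.X 0 * MvPowerSeries.X 1 - MvPowerSeries.C h} := by
    rw [hq']
  refine ⟨h, hh, ψ.trans (Ideal.quotEquivOfEq hJ), fun a => ?_⟩
  show Ideal.quotEquivOfEq hJ (ψ _) = _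
  have h6 : ψ (algebraMap (T.presheaf.stalk t) (Curv2.cpl (T.presheaf.stalk t))
      ((f.stalkMap t).hom a)) = _ := hψ a
  rw [h6]
  rfl

end Groth.Agent.S6573
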