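import Groth.Statements.S6580
import Mathlib.Tactic.NoncommRing
import Mathlib.Tactic.Abel
-- import your own Groth.Agent.* helpers here

set_option autoImplicit false
universe v u
open CategoryTheory CategoryTheory.Limits
open CohDer

namespace Groth.Agent.S6580

open CategoryTheory.Pretriangulated in
/-- Let (X, Y, Z, f, g, h) be a distinguished triangle of a pretriangulated category, and let a : X ⟶ X
and c : Z ⟶ Z be idempotents with h ≫ a⟦1⟧ = c ≫ h. Then there is an idempotent b : Y ⟶ Y such that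
(a, b, c) is an endomorphism of the triangle. -/
theorem result {D : Type u} [Category.{v} D] [Preadditive D] [HasZeroObject D] [HasShift D ℤ]
    [∀ n : ℤ, (shiftFunctor D n).Additive] [Pretriangulated D]
    (T : Triangle D) (hT : T ∈ distinguishedTriangles) (a : T.obj₁ ⟶ T.obj₁) (c : T.obj₃ ⟶ T.obj₃)
    (ha : a ≫ a = a) (hc : c ≫ c = c) (comm : T.mor₃ ≫ (shiftFunctor D (1 : ℤ)).map a = c ≫ T.mor₃) :
    ∃ b : T.obj₂ ⟶ T.obj₂, b ≫ b = b ∧ T.mor₁ ≫ b = a ≫ T.mor₁ ∧ T.mor₂ ≫ c = b ≫ T.mor₂ := by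
  obtain ⟨e, he1, he2⟩ := Pretriangulated.complete_distinguished_triangle_morphism₂ T T hT hT a c comm
  have hn1 : T.mor₁ ≫ (e ≫ e - e) = 0 := by
    rw [Preadditive.comp_sub, ← Category.assoc, he1, Category.assoc, he1, ← Category.assoc, ha, sub_self]
  have hn2 : (e ≫ e - e) ≫ T.mor₂ = 0 := by
    rw [Preadditive.sub_comp, Category.assoc, ← he2, ← Category.assoc, ← he2, Category.assoc, hc, sub_self]
  obtain ⟨m, hm⟩ := Pretriangulated.Triangle.coyoneda_exact₂ T hT _ hn2
  have hnn : (e ≫ e - e) ≫ (e ≫ e - e) = 0 := by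
    have : (e ≫ e - e) ≫ (e ≫ e - e) = (m ≫ T.mor₁) ≫ (e ≫ e - e) := by rw [← hm]
    rw [this, Category.assoc, hn1, comp_zero]
  have key : ∀ (x : End T.obj₂), (x*x - x)*(x*x - x) = 0 →
      (x*x + x*x + x*x - (x*x*x + x*x*x)) * (x*x + x*x + x*x - (x*x*x + x*x*x)) =
        (x*x + x*x + x*x - (x*x*x + x*x*x)) := by
    intro x h
    have : (x*x + x*x + x*x - (x*x*x + x*x*x)) * (x*x + x*x + x*x - (x*x*x + x*x*x)) - (x*x + x*x + x*x - (x*x*x + x*x*x))
        = ((x*x - x)*(x*x - x)) * (4 * (x * x) - 4 * x - 3) := by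
      noncomm_ring
    rw [h, zero_mul] at this
    exact sub_eq_zero.mp this
  have h1 : T.mor₁ ≫ (e ≫ e) = a ≫ T.mor₁ := by
    rw [← Category.assoc, he1, Category.assoc, he1, ← Category.assoc, ha]
  have h2 : T.mor₁ ≫ (e ≫ e ≫ e) = a ≫ T.mor₁ := by
    rw [← Category.assoc, he1, Category.assoc, h1, ← Category.assoc, ha]
  have h3 : (e ≫ e) ≫ T.mor₂ = T.mor₂ ≫ c := by
    rw [Category.assoc, ← he2, ← Category.assoc, ← he2, Category.assoc, hc]
  have h4 : (e ≫ e ≫ e) ≫ T.mor₂ = T.mor₂ ≫ c := by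
    rw [Category.assoc, h3, ← Category.assoc, ← he2, Category.assoc, hc]
  refine ⟨e ≫ e + e ≫ e + e ≫ e - (e ≫ e ≫ e + e ≫ e ≫ e), ?_, ?_, ?_⟩
  · have := key e hnn
    simp only [End.mul_def, Category.assoc] at this
    exact this
  · rw [Preadditive.comp_sub, Preadditive.comp_add, Preadditive.comp_add, Preadditive.comp_add, h1, h2]
    abel
  · rw [Preadditive.sub_comp, Preadditive.add_comp, Preadditive.add_comp, Preadditive.add_comp, h3, h4]
    abel

end Groth.Agent.S6580
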