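import Groth.Statements.S6585
import Mathlib.CategoryTheory.Triangulated.Orthogonal
-- import your own Groth.Agent.* helpers here

set_option autoImplicit false
universe v u
open CategoryTheory CategoryTheory.Limits
open CohDer

namespace Groth.Agent.S6585

open CategoryTheory.Pretriangulated in
/-- Let D be a triangulated category and E, K objects of D. Then Hom(E, K⟦i⟧) = 0 for all integers i if
and only if Hom(E', K) = 0 for every E' in ⟨E⟩, the smallest strictly full saturated triangulated
subcategory of D containing E (the objects obtained from E by shifts, finite direct sums, direct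
summands and extensions). -/
theorem result {D : Type u} [Category.{v} D] [Preadditive D] [HasZeroObject D] [HasShift D ℤ]
    [∀ n : ℤ, (shiftFunctor D n).Additive] [Pretriangulated D] [IsTriangulated D]
    (E K : D) :
    (∀ (i : ℤ) (f : E ⟶ (shiftFunctor D i).obj K), f = 0) ↔
      ∀ (E' : D), (ObjectProperty.singleton E).triangEnvelope E' → ∀ f : E' ⟶ K, f = 0 := by
  let PK : ObjectProperty D := ObjectProperty.shiftClosure (ObjectProperty.singleton K) ℤ
  let Q : ObjectProperty D := ObjectProperty.leftOrthogonal PK
  have hQtri : Q.IsTriangulated :=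
    inferInstanceAs (ObjectProperty.leftOrthogonal (ObjectProperty.shiftClosure (ObjectProperty.singleton K) ℤ)).IsTriangulated
  have hQretr : Q.IsStableUnderRetracts := ⟨fun {X Y} r hY B f hB => by
    have h1 : r.r ≫ f = 0 := hY (r.r ≫ f) hB
    calc f = (r.i ≫ r.r) ≫ f := by rw [r.retract, Category.id_comp]
      _ = 0 := by rw [Category.assoc, h1, comp_zero]⟩
  constructor
  · intro h E' hE' f
    have hle : ObjectProperty.singleton E ≤ Q := by
      rw [ObjectProperty.singleton_le_iff]
      rintro B f ⟨Y, a, e, hY⟩
      rw [ObjectProperty.singleton_iff] at hY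
      subst hY
      have := h a (f ≫ e.hom)
      rw [← cancel_mono e.hom, zero_comp]
      exact this
    have hle2 : (ObjectProperty.singleton E).triangEnvelope ≤ Q :=
      (ObjectProperty.triangEnvelope_le_iff _).2 hle
    exact hle2 _ hE' f (ObjectProperty.le_shiftClosure _ _ ((ObjectProperty.singleton_iff K K).2 rfl))
  · intro h i f
    have hE : (ObjectProperty.singleton E).triangEnvelope E :=
      ObjectProperty.le_triangEnvelope _ _ ((ObjectProperty.singleton_iff E E).2 rfl)
    have hE' : (ObjectProperty.singleton E).triangEnvelope ((shiftFunctor D (-i)).obj E) :=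
      (ObjectProperty.singleton E).triangEnvelope.le_shift (-i) _ hE
    let e : (shiftFunctor D (-i)).obj ((shiftFunctor D i).obj K) ≅ K :=
      (shiftFunctorCompIsoId D i (-i) (by omega)).app K
    have h0 := h _ hE' ((shiftFunctor D (-i)).map f ≫ e.hom)
    have h1 : (shiftFunctor D (-i)).map f = 0 := by
      rw [← cancel_mono e.hom, zero_comp]; exact h0
    apply (shiftFunctor D (-i)).map_injective
    rw [h1, Functor.map_zero]

end Groth.Agent.S6585
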