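import Groth.Statements.S6594
-- import your own Groth.Agent.* helpers here

set_option autoImplicit false
universe v u
open CategoryTheory CategoryTheory.Limits
open CohDer

namespace Groth.Agent.S6594

open CategoryTheory.Pretriangulated in
/-- (1) ⇔ (3): let D be a pretriangulated category and f : X ⟶ Y a morphism. Then f has a kernel if and
only if f is isomorphic to a composite K ⊞ Z → Z → Z ⊞ Q of a projection and a coprojection for some
objects K, Z, Q. -/
theorem result {D : Type u} [Category.{v} D] [Preadditive D] [HasZeroObject D] [HasShift D ℤ]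
    [∀ n : ℤ, (shiftFunctor D n).Additive] [Pretriangulated D]
    {X Y : D} (f : X ⟶ Y) :
    HasKernel f ↔ ∃ (K Z Q : D) (e₁ : X ≅ K ⊞ Z) (e₂ : Y ≅ Z ⊞ Q),
      f = e₁.hom ≫ biprod.snd ≫ biprod.inl ≫ e₂.inv := by
  constructor
  · intro hK
    have hmono : Mono (kernel.ι f) := inferInstance
    obtain ⟨Z, p, h, hT⟩ := Pretriangulated.distinguished_cocone_triangle (kernel.ι f)
    have h0 : h = 0 := Pretriangulated.Triangle.mor₃_eq_zero_of_mono₁ _ hT hmono
    obtain ⟨e₁, he₁, he₁'⟩ : ∃ e₁ : X ≅ kernel f ⊞ Z, kernel.ι f ≫ e₁.hom = biprod.inl ∧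
        p = e₁.hom ≫ biprod.snd :=
      Pretriangulated.exists_iso_binaryBiproduct_of_distTriang _ hT h0
    have hi : biprod.inl ≫ e₁.inv = kernel.ι f := by
      rw [← he₁, Category.assoc, e₁.hom_inv_id, Category.comp_id]
    have hf : f = e₁.hom ≫ biprod.snd ≫ (biprod.inr ≫ e₁.inv ≫ f) := by
      have h1 : (biprod.snd : kernel f ⊞ Z ⟶ Z) ≫ biprod.inr = 𝟙 _ - biprod.fst ≫ biprod.inl := by
        rw [eq_sub_iff_add_eq, add_comm]; exact biprod.total
      rw [← Category.assoc biprod.snd, h1, Preadditive.sub_comp, Preadditive.comp_sub, Category.id_comp,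
        e₁.hom_inv_id_assoc, Category.assoc, ← Category.assoc biprod.inl, hi, kernel.condition,
        comp_zero, comp_zero, sub_zero]
    have hmono' : Mono (biprod.inr ≫ e₁.inv ≫ f : Z ⟶ Y) := by
      apply Preadditive.mono_of_cancel_zero
      intro W g hg
      have hg' : (g ≫ biprod.inr ≫ e₁.inv) ≫ f = 0 := by
        rw [Category.assoc, Category.assoc]; exact hg
      have h2 : g ≫ biprod.inr ≫ e₁.inv = kernel.lift f _ hg' ≫ kernel.ι f := (kernel.lift_ι _ _ _).symm
      have h3 : (g ≫ biprod.inr ≫ e₁.inv) ≫ e₁.hom ≫ biprod.snd = g := by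
        rw [Category.assoc, Category.assoc, e₁.inv_hom_id_assoc, biprod.inr_snd, Category.comp_id]
      rw [← h3, h2, Category.assoc, ← Category.assoc (kernel.ι f), he₁, biprod.inl_snd, comp_zero]
    obtain ⟨Q, p', h', hT'⟩ := Pretriangulated.distinguished_cocone_triangle (biprod.inr ≫ e₁.inv ≫ f : Z ⟶ Y)
    have h0' : h' = 0 := Pretriangulated.Triangle.mor₃_eq_zero_of_mono₁ _ hT' hmono'
    obtain ⟨e₂, he₂, _⟩ : ∃ e₂ : Y ≅ Z ⊞ Q, (biprod.inr ≫ e₁.inv ≫ f) ≫ e₂.hom = biprod.inl ∧
        p' = e₂.hom ≫ biprod.snd :=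
      Pretriangulated.exists_iso_binaryBiproduct_of_distTriang _ hT' h0'
    refine ⟨kernel f, Z, Q, e₁, e₂, ?_⟩
    have : biprod.inl ≫ e₂.inv = biprod.inr ≫ e₁.inv ≫ f := by
      rw [← he₂, Category.assoc, e₂.hom_inv_id, Category.comp_id]
    rw [this]; exact hf
  · rintro ⟨K, Z, Q, e₁, e₂, hf⟩
    have hw : (biprod.inl ≫ e₁.inv : K ⟶ X) ≫ f = 0 := by
      rw [hf, Category.assoc, e₁.inv_hom_id_assoc, biprod.inl_snd_assoc, zero_comp]
    refine ⟨⟨⟨KernelFork.ofι _ hw, KernelFork.IsLimit.ofι _ _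
      (fun {W} g hg => g ≫ e₁.hom ≫ biprod.fst) ?_ ?_⟩⟩⟩
    · intro W g hg
      have h1 : g ≫ e₁.hom ≫ biprod.snd = 0 := by
        have := hg
        rw [hf] at this
        have h2 : (g ≫ e₁.hom ≫ biprod.snd ≫ biprod.inl ≫ e₂.inv) ≫ e₂.hom ≫ biprod.fst = 0 := by
          rw [this, zero_comp]
        simpa using h2
      have h3 : (biprod.fst : K ⊞ Z ⟶ K) ≫ biprod.inl = 𝟙 _ - biprod.snd ≫ biprod.inr := by
        rw [eq_sub_iff_add_eq]; exact biprod.total
      rw [Category.assoc, Category.assoc, ← Category.assoc biprod.fst, h3, Preadditive.sub_comp,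
        Preadditive.comp_sub, Preadditive.comp_sub, Category.id_comp, e₁.hom_inv_id, Category.comp_id,
        Category.assoc, ← Category.assoc e₁.hom, ← Category.assoc g, h1, zero_comp, sub_zero]
    · intro W g hg m hm
      rw [← hm, Category.assoc, Category.assoc, e₁.inv_hom_id_assoc, biprod.inl_fst, Category.comp_id]

end Groth.Agent.S6594
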