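import Groth.Statements.S6597
import Groth.Agent.Lib.Helper2.TriRefl

set_option autoImplicit false
universe v u
open CategoryTheory CategoryTheory.Limits
open CohDer CategoryTheory.Pretriangulated

namespace Groth.Agent.S6597

open CategoryTheory.Pretriangulated in
/-- Let D be a triangulated category, φ : X ⟶ X' a morphism of chain complexes in D considered in
degrees ≤ n, where a Postnikov system for the complex X_n → … → X_0 consists of objects Y_k, an
isomorphism Y_0 ⟶ X_0, and for 0 ≤ k < n distinguished triangles Y_{k+1} ⟶ X_{k+1} ⟶ Y_k ⟶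
Y_{k+1}⟦1⟧ with X_{k+1} ⟶ Y_k ⟶ X_k the differential; let (Y, a, b, c) and (Y', a', b', c') be
Postnikov systems for X and X'. If Hom(X_i⟦i⟧, Y'_n⟦n⟧) = 0 for i = 1, …, n, then two morphisms of
Postnikov systems extending φ agree on Y_n. (The published statement says there is at most one
morphism of Postnikov systems; the argument, by induction along Y_0 → Y_1⟦1⟧ → … → Y_n⟦n⟧,
determines the component in degree n, which is what is asserted here.) -/
theorem result {D : Type u} [Category.{v} D] [Preadditive D] [HasZeroObject D] [HasShift D ℤ]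
    [∀ n : ℤ, (shiftFunctor D n).Additive] [Pretriangulated D] [IsTriangulated D]
    (X X' : ChainComplex D ℕ) (φ : X ⟶ X') (n : ℕ)
    (Y : ℕ → D) (a : ∀ k, Y k ⟶ X.X k) (b : ∀ k, X.X (k + 1) ⟶ Y k)
    (c : ∀ k, Y k ⟶ (shiftFunctor D (1 : ℤ)).obj (Y (k + 1)))
    (h0 : IsIso (a 0))
    (hP : ∀ k, k < n → Triangle.mk (a (k + 1)) (b k) (c k) ∈ distinguishedTriangles ∧ b k ≫ a k = X.d (k + 1) k)
    (qY : ℕ → D) (qa : ∀ k, qY k ⟶ X'.X k) (qb : ∀ k, X'.X (k + 1) ⟶ qY k)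
    (qc : ∀ k, qY k ⟶ (shiftFunctor D (1 : ℤ)).obj (qY (k + 1)))
    (qh0 : IsIso (qa 0))
    (qhP : ∀ k, k < n → Triangle.mk (qa (k + 1)) (qb k) (qc k) ∈ distinguishedTriangles ∧ qb k ≫ qa k = X'.d (k + 1) k)
    (hv : ∀ i : ℕ, 1 ≤ i → i ≤ n → ∀ ψ : (shiftFunctor D (i : ℤ)).obj (X.X i) ⟶ (shiftFunctor D (n : ℤ)).obj (qY n), ψ = 0)
    (y z : ∀ k, Y k ⟶ qY k)
    (hy : (∀ k, k ≤ n → y k ≫ qa k = a k ≫ φ.f k) ∧
      (∀ k, k < n → b k ≫ y k = φ.f (k + 1) ≫ qb k ∧ c k ≫ (shiftFunctor D (1 : ℤ)).map (y (k + 1)) = y k ≫ qc k))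
    (hz : (∀ k, k ≤ n → z k ≫ qa k = a k ≫ φ.f k) ∧
      (∀ k, k < n → b k ≫ z k = φ.f (k + 1) ≫ qb k ∧ c k ≫ (shiftFunctor D (1 : ℤ)).map (z (k + 1)) = z k ≫ qc k)) :
    y n = z n := by
  haveI := qh0
  obtain ⟨hy1, hy2⟩ := hy
  obtain ⟨hz1, hz2⟩ := hz
  have dq0 : y 0 - z 0 = 0 := by
    rw [← cancel_mono (qa 0), zero_comp, Preadditive.sub_comp, hy1 0 (Nat.zero_le _), hz1 0 (Nat.zero_le _),
      sub_self]
  have dc : ∀ k, k < n → c k ≫ (shiftFunctor D (1 : ℤ)).map (y (k + 1) - z (k + 1)) =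
      (y k - z k) ≫ qc k := by
    intro k hk
    rw [Functor.map_sub, Preadditive.comp_sub, Preadditive.sub_comp, (hy2 k hk).2, (hz2 k hk).2]
  have Q : ∀ k : ℕ, k ≤ n → ∀ Γ : (shiftFunctor D (k : ℤ)).obj (qY k) ⟶ (shiftFunctor D (n : ℤ)).obj (qY n),
      (shiftFunctor D (k : ℤ)).map (y k - z k) ≫ Γ = 0 := by
    intro k
    induction k with
    | zero =>
      intro _ Γ
      rw [dq0, Functor.map_zero, zero_comp]
    | succ k ih =>
      intro hk Γ
      have hadd : (1 : ℤ) + (k : ℤ) = ((k + 1 : ℕ) : ℤ) := by push_cast; omega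
      -- isos (Z⟦1⟧)⟦k⟧ ≅ Z⟦k+1⟧
      let e := fun Z : D => ((shiftFunctorAdd' D (1 : ℤ) (k : ℤ) ((k + 1 : ℕ) : ℤ) hadd).symm.app Z)
      have enat : ∀ {Z Z' : D} (f : Z ⟶ Z'),
          (shiftFunctor D (k : ℤ)).map ((shiftFunctor D (1 : ℤ)).map f) ≫ (e Z').hom =
            (e Z).hom ≫ (shiftFunctor D ((k + 1 : ℕ) : ℤ)).map f := by
        intro Z Z' f
        exact (shiftFunctorAdd' D (1 : ℤ) (k : ℤ) ((k + 1 : ℕ) : ℤ) hadd).inv.naturality f
      obtain ⟨hT, _⟩ := hP k (by omega)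
      have hR := rot_of_distTriang _ hT
      -- θ
      have hθ0 : (shiftFunctor D (k : ℤ)).map (c k) ≫
          ((e (Y (k + 1))).hom ≫ (shiftFunctor D ((k + 1 : ℕ) : ℤ)).map (y (k + 1) - z (k + 1)) ≫ Γ) = 0 := by
        rw [← Category.assoc (e (Y (k + 1))).hom, ← enat, Category.assoc, ← Category.assoc,
          ← Functor.map_comp, dc k (by omega), Functor.map_comp, Category.assoc]
        exact ih (by omega) _
      obtain ⟨γ, hγ⟩ := Groth.Agent.H2.TriRefl.yoneda_exact₃_shift (b k) (c k)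
        (-(shiftFunctor D (1 : ℤ)).map (a (k + 1))) hR (k : ℤ) _ hθ0
      have hγ0 : γ = 0 := by
        have := hv (k + 1) (by omega) hk ((e (X.X (k + 1))).inv ≫ γ)
        have h2 : (e (X.X (k + 1))).hom ≫ (e (X.X (k + 1))).inv ≫ γ = (e (X.X (k + 1))).hom ≫ 0 := by
          rw [this]
        rw [Iso.hom_inv_id_assoc, comp_zero] at h2
        exact h2
      rw [hγ0, comp_zero] at hγ
      have h3 : (e (Y (k + 1))).hom ≫ (shiftFunctor D ((k + 1 : ℕ) : ℤ)).map (y (k + 1) - z (k + 1)) ≫ Γ =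
          (e (Y (k + 1))).hom ≫ 0 := by rw [hγ, comp_zero]
      exact (cancel_epi _).mp h3
  have h1 := Q n le_rfl (𝟙 _)
  rw [Category.comp_id] at h1
  have h2 : y n - z n = 0 := by
    apply (shiftFunctor D (n : ℤ)).map_injective
    rw [h1, Functor.map_zero]
  exact sub_eq_zero.mp h2

end Groth.Agent.S6597
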