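import Groth.Statements.S6600
-- import your own Groth.Agent.* helpers here

set_option autoImplicit false
universe v u
open CategoryTheory CategoryTheory.Limits
open CohDer

namespace Groth.Agent.S6600

open CategoryTheory.Pretriangulated in
/-- Let D be a triangulated category, A ⊂ D a full subcategory invariant under all shifts, and X → Y → Z
→ X⟦1⟧ a distinguished triangle. Then Z lies in the right orthogonal A^⊥ if and only if Hom(A, X) →
Hom(A, Y) is bijective for every object A of A. -/
theorem result {D : Type u} [Category.{v} D] [Preadditive D] [HasZeroObject D] [HasShift D ℤ]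
    [∀ n : ℤ, (shiftFunctor D n).Additive] [Pretriangulated D] [IsTriangulated D]
    (P : ObjectProperty D) [P.IsStableUnderShift ℤ] (T : Triangle D) (hT : T ∈ distinguishedTriangles) :
    P.rightOrthogonal T.obj₃ ↔ ∀ A : D, P A → Function.Bijective (fun u : A ⟶ T.obj₁ => u ≫ T.mor₁) := by
  constructor
  · intro hZ A hA
    constructor
    · intro u u' huu
      have h0 : (u - u') ≫ T.mor₁ = 0 := by
        rw [Preadditive.sub_comp]; exact sub_eq_zero.mpr huu
      have h1 : (shiftFunctor D (1 : ℤ)).map (u - u') ≫ (shiftFunctor D (1 : ℤ)).map T.mor₁ = 0 := by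
        rw [← Functor.map_comp, h0, Functor.map_zero]
      obtain ⟨g, hg⟩ := Pretriangulated.Triangle.coyoneda_exact₁ T hT _ h1
      have hg0 : g = 0 := hZ g (P.le_shift (1 : ℤ) _ hA)
      rw [hg0, zero_comp] at hg
      have : u - u' = 0 := (shiftFunctor D (1 : ℤ)).map_injective (by rw [hg, Functor.map_zero])
      exact sub_eq_zero.mp this
    · intro w
      have hw : w ≫ T.mor₂ = 0 := hZ (w ≫ T.mor₂) hA
      obtain ⟨g, hg⟩ := Pretriangulated.Triangle.coyoneda_exact₂ T hT w hw
      exact ⟨g, hg.symm⟩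
  · intro hbij A φ hA
    -- first show φ ≫ T.mor₃ = 0
    have h3 : φ ≫ T.mor₃ = 0 := by
      let e : (shiftFunctor D (1 : ℤ)).obj ((shiftFunctor D (-1 : ℤ)).obj A) ≅ A :=
        (shiftFunctorCompIsoId D (-1 : ℤ) 1 (by omega)).app A
      obtain ⟨u, hu⟩ := (shiftFunctor D (1 : ℤ)).map_surjective (e.hom ≫ φ ≫ T.mor₃)
      have hA' : P ((shiftFunctor D (-1 : ℤ)).obj A) := P.le_shift (-1 : ℤ) _ hA
      have hu0 : u ≫ T.mor₁ = 0 ≫ T.mor₁ := by
        apply (shiftFunctor D (1 : ℤ)).map_injective
        rw [Functor.map_comp, hu, zero_comp, Functor.map_zero, Category.assoc, Category.assoc,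
          Pretriangulated.comp_distTriang_mor_zero₃₁ _ hT, comp_zero, comp_zero]
      have hu1 : u = 0 := (hbij _ hA').1 hu0
      rw [hu1, Functor.map_zero] at hu
      have : e.hom ≫ φ ≫ T.mor₃ = e.hom ≫ 0 := by rw [← hu, comp_zero]
      exact (cancel_epi e.hom).mp this
    obtain ⟨w, hw⟩ := Pretriangulated.Triangle.coyoneda_exact₃ T hT φ h3
    obtain ⟨u, hu⟩ := (hbij A hA).2 w
    simp only at hu
    rw [hw, ← hu, Category.assoc, Pretriangulated.comp_distTriang_mor_zero₁₂ _ hT, comp_zero]

end Groth.Agent.S6600
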