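import Groth.Statements.S6601
-- import your own Groth.Agent.* helpers here

set_option autoImplicit false
universe v u
open CategoryTheory CategoryTheory.Limits
open CohDer

namespace Groth.Agent.S6601

open CategoryTheory.Pretriangulated in
/-- Let D be a triangulated category, B ⊂ D a full subcategory invariant under all shifts, and X → Y → Z
→ X⟦1⟧ a distinguished triangle. Then X lies in the left orthogonal ^⊥B if and only if Hom(Z, B) →
Hom(Y, B) is bijective for every object B of B. -/
theorem result {D : Type u} [Category.{v} D] [Preadditive D] [HasZeroObject D] [HasShift D ℤ]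
    [∀ n : ℤ, (shiftFunctor D n).Additive] [Pretriangulated D] [IsTriangulated D]
    (P : ObjectProperty D) [P.IsStableUnderShift ℤ] (T : Triangle D) (hT : T ∈ distinguishedTriangles) :
    P.leftOrthogonal T.obj₁ ↔ ∀ B : D, P B → Function.Bijective (fun u : T.obj₃ ⟶ B => T.mor₂ ≫ u) := by
  constructor
  · intro hX B hB
    constructor
    · intro u u' huu
      have h0 : T.mor₂ ≫ (u - u') = 0 := by
        rw [Preadditive.comp_sub]; exact sub_eq_zero.mpr huu
      obtain ⟨v, hv⟩ := Pretriangulated.Triangle.yoneda_exact₃ T hT _ h0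
      let e : (shiftFunctor D (1 : ℤ)).obj ((shiftFunctor D (-1 : ℤ)).obj B) ≅ B :=
        (shiftFunctorCompIsoId D (-1 : ℤ) 1 (by omega)).app B
      obtain ⟨w, hw⟩ := (shiftFunctor D (1 : ℤ)).map_surjective (v ≫ e.inv)
      have hB' : P ((shiftFunctor D (-1 : ℤ)).obj B) := P.le_shift (-1 : ℤ) _ hB
      have hw0 : w = 0 := hX w hB'
      rw [hw0, Functor.map_zero] at hw
      have hv0 : v = 0 := by
        have : v ≫ e.inv = 0 ≫ e.inv := by rw [← hw, zero_comp]
        exact (cancel_mono e.inv).mp this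
      rw [hv0, comp_zero] at hv
      exact sub_eq_zero.mp hv
    · intro w
      have hw : T.mor₁ ≫ w = 0 := hX (T.mor₁ ≫ w) hB
      obtain ⟨g, hg⟩ := Pretriangulated.Triangle.yoneda_exact₂ T hT w hw
      exact ⟨g, hg.symm⟩
  · intro hbij B φ hB
    have hB1 : P ((shiftFunctor D (1 : ℤ)).obj B) := P.le_shift (1 : ℤ) _ hB
    have h3 : T.mor₃ ≫ (shiftFunctor D (1 : ℤ)).map φ = 0 := by
      apply (hbij _ hB1).1
      simp only
      rw [comp_zero, ← Category.assoc, Pretriangulated.comp_distTriang_mor_zero₂₃ _ hT, zero_comp]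
    have key : ∃ g' : (shiftFunctor D (1 : ℤ)).obj T.obj₂ ⟶ (shiftFunctor D (1 : ℤ)).obj B,
        (shiftFunctor D (1 : ℤ)).map φ = (-(shiftFunctor D (1 : ℤ)).map T.mor₁) ≫ g' :=
      Pretriangulated.Triangle.yoneda_exact₃ T.rotate (Pretriangulated.rot_of_distTriang _ hT)
        ((shiftFunctor D (1 : ℤ)).map φ) h3
    obtain ⟨g', hg'⟩ := key
    obtain ⟨w, hw⟩ := (shiftFunctor D (1 : ℤ)).map_surjective g'
    obtain ⟨u, hu⟩ := (hbij B hB).2 w
    simp only at hu
    apply (shiftFunctor D (1 : ℤ)).map_injective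
    rw [hg', ← hw, ← hu, Preadditive.neg_comp, ← Functor.map_comp, ← Category.assoc,
      Pretriangulated.comp_distTriang_mor_zero₁₂ _ hT, zero_comp, Functor.map_zero, neg_zero]

end Groth.Agent.S6601
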