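import Groth.Statements.S6602
import Groth.Agent.S6601

set_option autoImplicit false
universe v u
open CategoryTheory CategoryTheory.Limits
open CohDer

namespace Groth.Agent.S6602

open CategoryTheory.Pretriangulated in
/-- (1) ⇔ (2): let D be a triangulated category and B a full triangulated subcategory. The inclusion
functor B → D has a left adjoint if and only if for every X in D there is a distinguished triangle A
→ X → B → A⟦1⟧ with B in B and A in the left orthogonal ^⊥B. (The published statement further
asserts that B is then saturated and, when strictly full, equals the right orthogonal of its left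
orthogonal; this row asserts only the equivalence.) -/
theorem result {D : Type u} [Category.{v} D] [Preadditive D] [HasZeroObject D] [HasShift D ℤ]
    [∀ n : ℤ, (shiftFunctor D n).Additive] [Pretriangulated D] [IsTriangulated D]
    (P : ObjectProperty D) [P.IsTriangulated] :
    P.ι.IsRightAdjoint ↔ ∀ X : D, ∃ (A B : D) (f : A ⟶ X) (g : X ⟶ B) (h : B ⟶ (shiftFunctor D (1 : ℤ)).obj A),
      Triangle.mk f g h ∈ distinguishedTriangles ∧ P B ∧ P.leftOrthogonal A := by
  constructor
  · intro hadj X
    let L := P.ι.leftAdjoint
    let adj : L ⊣ P.ι := Adjunction.ofIsRightAdjoint P.ι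
    obtain ⟨A, f, h, hT⟩ := Pretriangulated.distinguished_cocone_triangle₁ (adj.unit.app X)
    refine ⟨A, (L.obj X).obj, f, adj.unit.app X, h, hT, (L.obj X).property, ?_⟩
    refine (Groth.Agent.S6601.result P _ hT).2 ?_
    intro B' hB'
    constructor
    · intro u u' huu
      have h1 : adj.homEquiv X ⟨B', hB'⟩ (ObjectProperty.homMk u) =
          adj.homEquiv X ⟨B', hB'⟩ (ObjectProperty.homMk u') := by
        rw [Adjunction.homEquiv_unit, Adjunction.homEquiv_unit]
        exact huu
      have h2 := (adj.homEquiv X ⟨B', hB'⟩).injective h1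
      exact congrArg InducedCategory.Hom.hom h2
    · intro v
      refine ⟨((adj.homEquiv X ⟨B', hB'⟩).symm v).hom, ?_⟩
      have := (adj.homEquiv X ⟨B', hB'⟩).apply_symm_apply v
      rw [Adjunction.homEquiv_unit] at this
      exact this
  · intro hX
    choose A B f g h hT hB hA using hX
    have hbij : ∀ (X : D) (Y : P.FullSubcategory),
        Function.Bijective (fun u : (⟨B X, hB X⟩ : P.FullSubcategory) ⟶ Y => g X ≫ u.hom) := by
      intro X Y
      have h1 := (Groth.Agent.S6601.result P _ (hT X)).1 (hA X) Y.obj Y.property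
      constructor
      · intro u u' huu
        exact ObjectProperty.hom_ext _ (h1.1 huu)
      · intro v
        obtain ⟨w, hw⟩ := h1.2 v
        exact ⟨ObjectProperty.homMk w, hw⟩
    let e : ∀ (X : D) (Y : P.FullSubcategory), ((⟨B X, hB X⟩ : P.FullSubcategory) ⟶ Y) ≃ (X ⟶ P.ι.obj Y) :=
      fun X Y => Equiv.ofBijective _ (hbij X Y)
    have he : ∀ (X : D) (Y Y' : P.FullSubcategory) (k : Y ⟶ Y') (u : (⟨B X, hB X⟩ : P.FullSubcategory) ⟶ Y),
        e X Y' (u ≫ k) = e X Y u ≫ P.ι.map k := by
      intro X Y Y' k u
      show g X ≫ (u ≫ k).hom = (g X ≫ u.hom) ≫ k.hom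
      rw [ObjectProperty.FullSubcategory.comp_hom, Category.assoc]
    exact ⟨_, ⟨Adjunction.adjunctionOfEquivLeft e he⟩⟩

end Groth.Agent.S6602
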