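import Groth.Statements.S6604
import Groth.Agent.Lib.Helper2.LocZero

set_option autoImplicit false
universe v u v' u'
open CategoryTheory CategoryTheory.Limits
open CohDer ZeroObject

namespace Groth.Agent.S6604

/-- Let D be a triangulated category, B a full triangulated subcategory and Q : D → D/B the quotient
functor. Q sends an object Z of D to zero (Q(Z) = 0, i.e. Z belongs to the kernel of Q) exactly
when, for a suitable object Z' of D, the direct sum Z ⊞ Z' is isomorphic to some object lying in B;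
put differently, the kernel is the smallest saturated, strictly full triangulated subcategory that
contains B. -/
theorem result {D : Type u} [Category.{v} D] [Preadditive D] [HasZeroObject D] [HasShift D ℤ]
    [∀ n : ℤ, (shiftFunctor D n).Additive] [Pretriangulated D] [IsTriangulated D]
    (B : ObjectProperty D) [B.IsTriangulated]
    {E : Type u'} [Category.{v'} E] (Q : D ⥤ E) [Q.IsLocalization B.trW] (Z : D) :
    IsZero (Q.obj Z) ↔ ∃ (Z' Y : D), B Y ∧ Nonempty (Z ⊞ Z' ≅ Y) := by
  constructor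
  · intro hZ
    obtain ⟨Z'', hZ''⟩ := (Groth.Agent.H2.LocZero.isZero_iff_zero_mem' B.trW Q Z).1 hZ
    obtain ⟨C, g, h, hT, hC⟩ := (B.trW_iff _).1 hZ''
    have hR := Pretriangulated.rot_of_distTriang _ hT
    have hz : (Pretriangulated.Triangle.mk (0 : Z'' ⟶ Z) g h).rotate.mor₃ = 0 := by
      show -(shiftFunctor D (1 : ℤ)).map (0 : Z'' ⟶ Z) = 0
      rw [Functor.map_zero, neg_zero]
    obtain ⟨e, _, _⟩ := Pretriangulated.exists_iso_binaryBiproduct_of_distTriang _ hR hz
    exact ⟨(shiftFunctor D (1 : ℤ)).obj Z'', C, hC, ⟨e.symm⟩⟩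
  · rintro ⟨Z', Y, hY, ⟨e⟩⟩
    have h0 : B.trW (0 : Y ⟶ (0 : D)) :=
      (B.trW_iff _).2 ⟨_, _, _, Pretriangulated.contractible_distinguished₂ Y, B.le_shift (1 : ℤ) _ hY⟩
    have hz : IsZero (Q.obj Y) := Groth.Agent.H2.LocZero.isZero_of_zero_mem B.trW Q h0
    have hz2 : IsZero (Q.obj (Z ⊞ Z')) := hz.of_iso (Q.mapIso e)
    refine Groth.Agent.H2.LocZero.isZero_of_retract ⟨Q.map biprod.inl, Q.map biprod.fst, ?_⟩ hz2
    rw [← Functor.map_comp, biprod.inl_fst, CategoryTheory.Functor.map_id]

end Groth.Agent.S6604
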