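import Groth.Statements.S6607
import Groth.Agent.S6601
import Groth.Agent.Lib.Helper2.TriRefl

set_option autoImplicit false
universe v u
open CategoryTheory CategoryTheory.Limits
open CohDer CategoryTheory.Pretriangulated ZeroObject

namespace Groth.Agent.S6607

open CategoryTheory.Pretriangulated in
/-- Let D be a triangulated category and B a full triangulated subcategory. Let P(X) be the property:
there is a distinguished triangle A → X → B → A⟦1⟧ with B in B and A in ^⊥B. Then P satisfies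
two-out-of-three in distinguished triangles, i.e. it is stable under all shifts and closed under
extensions (a triangulated object property). -/
theorem result {D : Type u} [Category.{v} D] [Preadditive D] [HasZeroObject D] [HasShift D ℤ]
    [∀ n : ℤ, (shiftFunctor D n).Additive] [Pretriangulated D] [IsTriangulated D]
    (B : ObjectProperty D) [B.IsTriangulated] :
    ObjectProperty.IsTriangulated (fun X : D => ∃ (A Y : D) (f : A ⟶ X) (g : X ⟶ Y) (h : Y ⟶ (shiftFunctor D (1 : ℤ)).obj A),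
      Triangle.mk f g h ∈ distinguishedTriangles ∧ B Y ∧ B.leftOrthogonal A) := by
  have hshift : ObjectProperty.IsStableUnderShift (fun X : D => ∃ (A Y : D) (f : A ⟶ X) (g : X ⟶ Y)
      (h : Y ⟶ (shiftFunctor D (1 : ℤ)).obj A),
      Triangle.mk f g h ∈ distinguishedTriangles ∧ B Y ∧ B.leftOrthogonal A) ℤ :=
    { isStableUnderShiftBy := fun n =>
      { le_shift := by
          rintro X ⟨A, Y, f, g, h, hT, hY, hA⟩
          have hT' := Triangle.shift_distinguished _ hT n
          exact ⟨(shiftFunctor D n).obj A, (shiftFunctor D n).obj Y,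
            ((CategoryTheory.shiftFunctor (Triangle D) n).obj (Triangle.mk f g h)).mor₁,
            ((CategoryTheory.shiftFunctor (Triangle D) n).obj (Triangle.mk f g h)).mor₂,
            ((CategoryTheory.shiftFunctor (Triangle D) n).obj (Triangle.mk f g h)).mor₃,
            hT', B.le_shift n _ hY, B.leftOrthogonal.le_shift n _ hA⟩ } }
  have hzero : ObjectProperty.ContainsZero (fun X : D => ∃ (A Y : D) (f : A ⟶ X) (g : X ⟶ Y)
      (h : Y ⟶ (shiftFunctor D (1 : ℤ)).obj A),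
      Triangle.mk f g h ∈ distinguishedTriangles ∧ B Y ∧ B.leftOrthogonal A) := by
    obtain ⟨Z, hZ, hBZ⟩ := B.exists_prop_of_containsZero
    refine ⟨Z, hZ, (0 : D), Z, 0, 𝟙 Z, 0, contractible_distinguished₁ Z, hBZ, ?_⟩
    intro Y f _
    exact (isZero_zero D).eq_of_src _ _
  have hcl : ObjectProperty.IsTriangulatedClosed₂ (fun X : D => ∃ (A Y : D) (f : A ⟶ X) (g : X ⟶ Y)
      (h : Y ⟶ (shiftFunctor D (1 : ℤ)).obj A),
      Triangle.mk f g h ∈ distinguishedTriangles ∧ B Y ∧ B.leftOrthogonal A) :=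
    { ext₂' := by
        rintro ⟨X₁, X₂, X₃, u, v, w⟩ hT ⟨A₁, Y₁, f₁, g₁, k₁, hT₁, hY₁, hA₁⟩ ⟨A₃, Y₃, f₃, g₃, k₃, hT₃, hY₃, hA₃⟩
        apply ObjectProperty.le_isoClosure
        have r₁ : Groth.Agent.H2.TriRefl.IsRefl B g₁ := (Groth.Agent.S6601.result B _ hT₁).1 hA₁
        have r₃ : Groth.Agent.H2.TriRefl.IsRefl B g₃ := (Groth.Agent.S6601.result B _ hT₃).1 hA₃
        have hY₁s : B ((shiftFunctor D (1 : ℤ)).obj Y₁) := B.le_shift (1 : ℤ) _ hY₁
        obtain ⟨w', hw'⟩ := (r₃ _ hY₁s).2 (w ≫ (shiftFunctor D (1 : ℤ)).map g₁)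
        have hw'' : g₃ ≫ w' = w ≫ (shiftFunctor D (1 : ℤ)).map g₁ := hw'
        obtain ⟨Y₂, hY₂, u', v', hTY⟩ := B.distinguished_cocone_triangle₂ w' hY₁ hY₃
        obtain ⟨g₂, c₁, c₂⟩ : ∃ g₂ : X₂ ⟶ Y₂, u ≫ g₂ = g₁ ≫ u' ∧ v ≫ g₃ = g₂ ≫ v' :=
          complete_distinguished_triangle_morphism₂ _ _ hT hTY g₁ g₃ hw''.symm
        have r₂ : Groth.Agent.H2.TriRefl.IsRefl B g₂ :=
          Groth.Agent.H2.TriRefl.isRefl_mid u v w u' v' w' hT hTY g₁ g₂ g₃ c₁ c₂ hw''.symm r₁ r₃
        obtain ⟨A₂, f₂, k₂, hT₂⟩ := distinguished_cocone_triangle₁ g₂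
        exact ⟨A₂, Y₂, f₂, g₂, k₂, hT₂, hY₂, (Groth.Agent.S6601.result B _ hT₂).2 r₂⟩ }
  exact { toContainsZero := hzero, toIsStableUnderShift := hshift, toIsTriangulatedClosed₂ := hcl }

end Groth.Agent.S6607
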