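import Groth.Statements.S6608
-- import your own Groth.Agent.* helpers here

set_option autoImplicit false
universe v u
open CategoryTheory CategoryTheory.Limits
open CohDer ZeroObject

namespace Groth.Agent.S6608

open CategoryTheory.Pretriangulated in
/-- Let D be a pretriangulated category and S a set of arrows of D containing the identities and
satisfying MS6 (compatibility with the triangulated structure; here together with stability under
shifts, MS5). Then every isomorphism of D lies in S. -/
theorem result {D : Type u} [Category.{v} D] [Preadditive D] [HasZeroObject D] [HasShift D ℤ]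
    [∀ n : ℤ, (shiftFunctor D n).Additive] [Pretriangulated D]
    (S : MorphismProperty D) [S.ContainsIdentities] [S.IsCompatibleWithTriangulation]
    {X Y : D} (f : X ⟶ Y) [IsIso f] : S f := by
  have h1 : Pretriangulated.Triangle.mk (0 : (0 : D) ⟶ X) (𝟙 X) 0 ∈ Pretriangulated.distinguishedTriangles :=
    Pretriangulated.contractible_distinguished₁ X
  have h2 : Pretriangulated.Triangle.mk (0 : (0 : D) ⟶ X) f 0 ∈ Pretriangulated.distinguishedTriangles := by
    refine Pretriangulated.isomorphic_distinguished _ h1 _ ?_
    refine Pretriangulated.Triangle.isoMk _ _ (Iso.refl _) (Iso.refl _) (asIso f).symm ?_ ?_ ?_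
    · exact (Category.comp_id _).trans (Category.id_comp _).symm
    · show f ≫ inv f = 𝟙 _ ≫ 𝟙 X
      rw [IsIso.hom_inv_id, Category.id_comp]
    · show (0 : Y ⟶ _) ≫ _ = inv f ≫ 0
      rw [zero_comp, comp_zero]
  obtain ⟨c, hc, hc1, _⟩ : ∃ (c : X ⟶ Y) (_ : S c), 𝟙 X ≫ c = 𝟙 X ≫ f ∧ _ :=
    MorphismProperty.compatible_with_triangulation (W := S) _ _ h1 h2 (𝟙 (0 : D)) (𝟙 X)
    (S.id_mem _) (S.id_mem _) ((zero_comp).trans (comp_zero).symm)
  rw [Category.id_comp, Category.id_comp] at hc1
  rw [← hc1]; exact hc

end Groth.Agent.S6608
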