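import Groth.Statements.S6610
import Groth.Agent.Lib.Helper2.DualCx2
import Groth.Agent.Lib.Helper2.SESRes1

set_option autoImplicit false
universe v u
open CategoryTheory CategoryTheory.Limits
open CohDer

namespace Groth.Agent.S6610

/-- Let A be an abelian category with enough projectives and S : 0 → A• → B• → C• → 0 a short exact
sequence of cochain complexes all vanishing above degree n. Then there are a short exact sequence T
: 0 → P₁ → P₂ → P₃ → 0 of complexes of projective objects vanishing above degree n and a morphism of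
short exact sequences T ⟶ S whose three components are quasi-isomorphisms (projective resolutions).
(The published statement is phrased for bounded below complexes; projective resolutions are bounded
above by definition and exist only for complexes with cohomology bounded above, so the statement is
given here for bounded above complexes, the case dual to the injective one.) -/
theorem result {A : Type u} [Category.{v} A] [Abelian A] [EnoughProjectives A]
    (S : ShortComplex (CochainComplex A ℤ)) (hS : S.ShortExact) (n : ℤ)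
    [S.X₁.IsStrictlyLE n] [S.X₂.IsStrictlyLE n] [S.X₃.IsStrictlyLE n] :
    ∃ (T : ShortComplex (CochainComplex A ℤ)) (φ : T ⟶ S), T.ShortExact ∧
      T.X₁.IsStrictlyLE n ∧ T.X₂.IsStrictlyLE n ∧ T.X₃.IsStrictlyLE n ∧
      (∀ k : ℤ, Projective (T.X₁.X k) ∧ Projective (T.X₂.X k) ∧ Projective (T.X₃.X k)) ∧
      QuasiIso φ.τ₁ ∧ QuasiIso φ.τ₂ ∧ QuasiIso φ.τ₃ := by
  open Groth.Agent.H2.DualCx Opposite in
  have h1 : (D S.X₁).IsStrictlyGE (-n) := isStrictlyGE_D _ n
  have h2 : (D S.X₂).IsStrictlyGE (-n) := isStrictlyGE_D _ n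
  have h3 : (D S.X₃).IsStrictlyGE (-n) := isStrictlyGE_D _ n
  have hS' := shortExact_D hS
  obtain ⟨T', φ', hT', hT1, hT2, hT3, hinj, hq1, hq2, hq3⟩ :=
    Groth.Agent.H2.SESRes.exists_ses_resolution (A := Aᵒᵖ) _ hS' (-n)
  have c12 := φ'.comm₁₂
  have c23 := φ'.comm₂₃
  change φ'.τ₁ ≫ T'.f = Dmap S.g ≫ φ'.τ₂ at c12
  change φ'.τ₂ ≫ T'.g = Dmap S.f ≫ φ'.τ₃ at c23
  have n1 := unitIso_naturality S.f
  have n2 := unitIso_naturality S.g
  have e1 : (unitIso S.X₁).inv ≫ S.f = Umap (Dmap S.f) ≫ (unitIso S.X₂).inv := by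
    rw [Iso.inv_comp_eq, ← Category.assoc, ← n1, Category.assoc, Iso.hom_inv_id, Category.comp_id]
  have e2 : (unitIso S.X₂).inv ≫ S.g = Umap (Dmap S.g) ≫ (unitIso S.X₃).inv := by
    rw [Iso.inv_comp_eq, ← Category.assoc, ← n2, Category.assoc, Iso.hom_inv_id, Category.comp_id]
  refine ⟨ShortComplex.mk (Umap T'.g) (Umap T'.f) (by rw [← Umap_comp, T'.zero, Umap_zero]),
    { τ₁ := Umap φ'.τ₃ ≫ (unitIso S.X₁).inv
      τ₂ := Umap φ'.τ₂ ≫ (unitIso S.X₂).inv
      τ₃ := Umap φ'.τ₁ ≫ (unitIso S.X₃).inv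
      comm₁₂ := ?_
      comm₂₃ := ?_ }, shortExact_U hT', ?_, ?_, ?_, ?_, ?_, ?_, ?_⟩
  · change (Umap φ'.τ₃ ≫ (unitIso S.X₁).inv) ≫ S.f = Umap T'.g ≫ Umap φ'.τ₂ ≫ (unitIso S.X₂).inv
    rw [Category.assoc, e1, ← Category.assoc, ← Category.assoc, ← Umap_comp, ← Umap_comp, c23]
  · change (Umap φ'.τ₂ ≫ (unitIso S.X₂).inv) ≫ S.g = Umap T'.f ≫ Umap φ'.τ₁ ≫ (unitIso S.X₃).inv
    rw [Category.assoc, e2, ← Category.assoc, ← Category.assoc, ← Umap_comp, ← Umap_comp, c12]
  · exact isStrictlyLE_U T'.X₃ n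
  · exact isStrictlyLE_U T'.X₂ n
  · exact isStrictlyLE_U T'.X₁ n
  · intro k
    obtain ⟨i1, i2, i3⟩ := hinj (-k)
    refine ⟨?_, ?_, ?_⟩
    · change Projective (unop (T'.X₃.X (-k)))
      infer_instance
    · change Projective (unop (T'.X₂.X (-k)))
      infer_instance
    · change Projective (unop (T'.X₁.X (-k)))
      infer_instance
  · have : QuasiIso (Umap φ'.τ₃) := (quasiIso_Umap_iff _).2 hq3
    change QuasiIso (Umap φ'.τ₃ ≫ (unitIso S.X₁).inv)
    infer_instance
  · have : QuasiIso (Umap φ'.τ₂) := (quasiIso_Umap_iff _).2 hq2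
    change QuasiIso (Umap φ'.τ₂ ≫ (unitIso S.X₂).inv)
    infer_instance
  · have : QuasiIso (Umap φ'.τ₁) := (quasiIso_Umap_iff _).2 hq1
    change QuasiIso (Umap φ'.τ₁ ≫ (unitIso S.X₃).inv)
    infer_instance

end Groth.Agent.S6610
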