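import Groth.Statements.S6612
import Groth.Agent.Lib.Helper2.DegSplit

set_option autoImplicit false
universe v u
open CategoryTheory CategoryTheory.Limits
open CohDer

namespace Groth.Agent.S6612

/-- Let A be an additive category and 0 → A₂ → B₂ → C₂ → 0 a termwise split exact sequence of complexes.
Given a chain map b from a complex B₁ into B₂ and a chain map b' from B₂ into a complex B₃, suppose
that both composites b ≫ (B₂ → C₂) and (A₂ → B₂) ≫ b' are null-homotopic. Then b ≫ b' is homotopic
to zero. (The published statement has three termwise split sequences Aᵢ → Bᵢ → Cᵢ and asks both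
squares of each diagram to commute up to homotopy; this row keeps only the middle sequence and the
two conditions at B₂ that the argument uses, so it is more general.) -/
theorem result {V : Type u} [Category.{v} V] [Preadditive V] [HasBinaryBiproducts V]
    (S : ShortComplex (CochainComplex V ℤ))
    (σ : ∀ n : ℤ, (S.map (HomologicalComplex.eval V (ComplexShape.up ℤ) n)).Splitting)
    {B₁ B₃ : CochainComplex V ℤ} (b : B₁ ⟶ S.X₂) (b' : S.X₂ ⟶ B₃)
    (hb : Nonempty (Homotopy (b ≫ S.g) 0)) (hb' : Nonempty (Homotopy (S.f ≫ b') 0)) :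
    Nonempty (Homotopy (b ≫ b') 0) := by
  obtain ⟨H⟩ := hb
  obtain ⟨H'⟩ := hb'
  obtain ⟨u, ⟨h1⟩⟩ := Groth.Agent.H2.DegSplit.exists_lift_of_homotopy S σ b H
  -- b ≫ b' ~ (u ≫ f) ≫ b' = u ≫ (f ≫ b') ~ u ≫ 0 = 0
  have h2 : Homotopy (b ≫ b') ((u ≫ S.f) ≫ b') := h1.compRight b'
  have h3 : Homotopy (u ≫ (S.f ≫ b')) (u ≫ 0) := H'.compLeft u
  refine ⟨(h2.trans (Homotopy.ofEq (Category.assoc _ _ _))).trans (h3.trans (Homotopy.ofEq comp_zero))⟩

end Groth.Agent.S6612
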