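import Groth.Statements.S6614
import Groth.Agent.Lib.Helper2.ProTri1

set_option autoImplicit false
universe v u
open CategoryTheory CategoryTheory.Limits Opposite
open CohDer

namespace Groth.Agent.S6614

/-- Let D be a triangulated category and (A_n) an ℕ-indexed inverse system of D which is essentially
constant with value A relative to the cone c. Then there are an index i and direct sum
decompositions A_{i+j} ≅ A ⊞ Z_j (j ≥ 0) such that (a) c_{i+j} is the inclusion of the summand A and
the transition maps A_{i+k} → A_{i+j} are 𝟙_A ⊕ (Z_k → Z_j), and (b) for every j there is k ≥ j with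
Z_k → Z_j zero. (The published statement is an equivalence whose converse is given without proof;
this row states only the forward implication.) -/
theorem result {D : Type u} [Category.{v} D] [Preadditive D] [HasZeroObject D] [HasShift D ℤ]
    [∀ n : ℤ, (shiftFunctor D n).Additive] [Pretriangulated D] [IsTriangulated D]
    (X : ARSys.PS D) (A : D) (c : (Functor.const ℕᵒᵖ).obj A ⟶ X) (hX : DerCA.IsEssConstant X A c) :
    ∃ (i : ℕ) (Z : ℕ → D) (e : ∀ j : ℕ, X.obj (op (i + j)) ≅ A ⊞ Z j) (z : ∀ j k : ℕ, j ≤ k → (Z k ⟶ Z j)),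
      (∀ j : ℕ, c.app (op (i + j)) ≫ (e j).hom = biprod.inl) ∧
      (∀ (j k : ℕ) (hjk : j ≤ k), (e k).inv ≫ ARSys.tr X (Nat.add_le_add_left hjk i) = biprod.map (𝟙 A) (z j k hjk) ≫ (e j).inv) ∧
      (∀ j : ℕ, ∃ (k : ℕ) (hjk : j ≤ k), z j k hjk = 0) := by
  obtain ⟨i, s, hs, hk⟩ := hX
  let c' : ∀ n : ℕ, A ⟶ X.obj (op n) := fun n => c.app (op n)
  have hs' : c' i ≫ s = 𝟙 A := hs
  have hk' : ∀ j : ℕ, ∃ (k : ℕ) (hi : i ≤ k) (hj : j ≤ k),
      ARSys.tr X hj = ARSys.tr X hi ≫ s ≫ c' j := hk
  have hc : ∀ {n m : ℕ} (h : n ≤ m), c' m ≫ ARSys.tr X h = c' n := by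
    intro n m h
    have := c.naturality (homOfLE h).op
    simpa using this.symm
  have htr : ∀ {n m k : ℕ} (h : n ≤ m) (h' : m ≤ k),
      ARSys.tr X h' ≫ ARSys.tr X h = ARSys.tr X (h.trans h') := by
    intro n m k h h'
    dsimp only [ARSys.tr]
    rw [← X.map_comp]
    rfl
  have hcr : ∀ j, c' (i + j) ≫ (ARSys.tr X (Nat.le_add_right i j) ≫ s) = 𝟙 A := by
    intro j
    rw [← Category.assoc, hc, hs']
  choose Z q e he hcq using fun j => Groth.Agent.H2.ProTri.exists_complement
    (c' (i + j)) (ARSys.tr X (Nat.le_add_right i j) ≫ s) (hcr j)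
  have hinl : ∀ j, c' (i + j) ≫ (e j).hom = biprod.inl := by
    intro j
    rw [he]
    apply biprod.hom_ext
    · rw [Category.assoc, biprod.lift_fst, hcr, biprod.inl_fst]
    · rw [Category.assoc, biprod.lift_snd, hcq, biprod.inl_snd]
  have hinl' : ∀ j, biprod.inl ≫ (e j).inv = c' (i + j) := by
    intro j
    rw [← hinl j, Category.assoc, Iso.hom_inv_id, Category.comp_id]
  have hproj : ∀ j, q j ≫ biprod.inr ≫ (e j).inv =
      𝟙 _ - (ARSys.tr X (Nat.le_add_right i j) ≫ s) ≫ c' (i + j) := by
    intro j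
    have h1 : 𝟙 (X.obj (op (i + j))) = (e j).hom ≫ (e j).inv := (Iso.hom_inv_id _).symm
    have h2 : (e j).hom = (e j).hom ≫ (biprod.fst ≫ biprod.inl + biprod.snd ≫ biprod.inr) := by
      rw [biprod.total, Category.comp_id]
    rw [h2, he j, Preadditive.comp_add, biprod.lift_fst_assoc, biprod.lift_snd_assoc,
      Preadditive.add_comp, Category.assoc, Category.assoc, hinl'] at h1
    rw [h1]
    simp only [Category.assoc]
    abel
  refine ⟨i, Z, e, fun j k hjk => biprod.inr ≫ (e k).inv ≫
    ARSys.tr X (Nat.add_le_add_left hjk i) ≫ q j, ?_, ?_, ?_⟩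
  · exact hinl
  · intro j k hjk
    rw [← cancel_mono (e j).hom, Category.assoc, Category.assoc, Iso.inv_hom_id, Category.comp_id,
      ← cancel_epi (e k).hom, Iso.hom_inv_id_assoc]
    rw [he j, he k]
    apply biprod.hom_ext
    · rw [Category.assoc, biprod.lift_fst, Category.assoc, biprod.map_fst, Category.comp_id,
        biprod.lift_fst, ← Category.assoc, htr]
    · rw [Category.assoc, biprod.lift_snd, Category.assoc, biprod.map_snd,
        biprod.lift_snd_assoc]
      rw [← Category.assoc (q k), ← Category.assoc (q k ≫ biprod.inr), Category.assoc (q k),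
        hproj k, Preadditive.sub_comp, Category.id_comp, Category.assoc, Category.assoc,
        ← Category.assoc (c' (i + k)), hc, hcq, comp_zero, comp_zero, sub_zero]
  · intro j
    obtain ⟨K, hi, hj, hK⟩ := hk' (i + j)
    obtain ⟨k, rfl⟩ : ∃ k, K = i + k := ⟨K - i, by omega⟩
    refine ⟨k, by omega, ?_⟩
    have hK' : ARSys.tr X (Nat.add_le_add_left (show j ≤ k by omega) i) =
        ARSys.tr X hi ≫ s ≫ c' (i + j) := hK
    dsimp only
    rw [hK', Category.assoc, Category.assoc, hcq, comp_zero, comp_zero, comp_zero, comp_zero]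

end Groth.Agent.S6614
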