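import Groth.Statements.S6622
import Groth.Agent.Lib.Helper2.KMinus

set_option autoImplicit false
universe v u
open CategoryTheory CategoryTheory.Limits
open CohDer

namespace Groth.Agent.S6622

/-- Let A be an additive category. The full subcategories K⁻(A) (complexes K with Kⁿ = 0 for n ≫ 0) and
Kᵇ(A) (Kⁿ = 0 for |n| ≫ 0) of the homotopy category K(A) are full triangulated subcategories. -/
theorem result {V : Type u} [Category.{v} V] [Preadditive V] [HasZeroObject V] [HasBinaryBiproducts V] :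
    (ObjectProperty.IsTriangulated (fun K : HomotopyCategory V (ComplexShape.up ℤ) => ∃ n : ℤ, CochainComplex.IsStrictlyLE K.as n)) ∧
    (ObjectProperty.IsTriangulated (fun K : HomotopyCategory V (ComplexShape.up ℤ) =>
      ∃ a b : ℤ, CochainComplex.IsStrictlyGE K.as a ∧ CochainComplex.IsStrictlyLE K.as b)) := by
  have hconeLE : ∀ {K L : CochainComplex V ℤ} (f : K ⟶ L) (n₁ n₂ : ℤ), K.IsStrictlyLE n₁ → L.IsStrictlyLE n₂ →
      (CochainComplex.mappingCone f).IsStrictlyLE (max n₁ n₂) := by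
    intro K L f n₁ n₂ h₁ h₂
    rw [CochainComplex.isStrictlyLE_iff]
    intro i hi
    rw [CochainComplex.mappingCone.isZero_X_iff]
    exact ⟨K.isZero_of_isStrictlyLE n₁ _ (by have := le_max_left n₁ n₂; omega),
      L.isZero_of_isStrictlyLE n₂ _ (by have := le_max_right n₁ n₂; omega)⟩
  have hconeGE : ∀ {K L : CochainComplex V ℤ} (f : K ⟶ L) (n₁ n₂ : ℤ), K.IsStrictlyGE n₁ → L.IsStrictlyGE n₂ →
      (CochainComplex.mappingCone f).IsStrictlyGE (min (n₁ - 1) n₂) := by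
    intro K L f n₁ n₂ h₁ h₂
    rw [CochainComplex.isStrictlyGE_iff]
    intro i hi
    rw [CochainComplex.mappingCone.isZero_X_iff]
    exact ⟨K.isZero_of_isStrictlyGE n₁ _ (by have := min_le_left (n₁ - 1) n₂; omega),
      L.isZero_of_isStrictlyGE n₂ _ (by have := min_le_right (n₁ - 1) n₂; omega)⟩
  constructor
  · refine Groth.Agent.H2.KMinus.isTriangulated_of_complexProp
      (fun K : CochainComplex V ℤ => ∃ n : ℤ, K.IsStrictlyLE n) ⟨0, inferInstance⟩ ?_ ?_
    · rintro K n ⟨q, hq⟩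
      exact ⟨q - n, K.isStrictlyLE_shift q n (q - n) (by omega)⟩
    · rintro K L f ⟨n₁, h₁⟩ ⟨n₂, h₂⟩
      exact ⟨_, hconeLE f n₁ n₂ h₁ h₂⟩
  · refine Groth.Agent.H2.KMinus.isTriangulated_of_complexProp
      (fun K : CochainComplex V ℤ => ∃ a b : ℤ, K.IsStrictlyGE a ∧ K.IsStrictlyLE b)
      ⟨0, 0, inferInstance, inferInstance⟩ ?_ ?_
    · rintro K n ⟨a, b, ha, hb⟩
      exact ⟨a - n, b - n, K.isStrictlyGE_shift a n (a - n) (by omega),
        K.isStrictlyLE_shift b n (b - n) (by omega)⟩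
    · rintro K L f ⟨a₁, b₁, ha₁, hb₁⟩ ⟨a₂, b₂, ha₂, hb₂⟩
      exact ⟨_, _, hconeGE f a₁ a₂ ha₁ ha₂, hconeLE f b₁ b₂ hb₁ hb₂⟩

end Groth.Agent.S6622
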