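import Groth.Statements.S6623
import Groth.Agent.Lib.Helper2.TriRefl
import Mathlib.Tactic.Ring

set_option autoImplicit false
universe v u
open CategoryTheory CategoryTheory.Limits
open CohDer CategoryTheory.Pretriangulated

namespace Groth.Agent.S6623

open CategoryTheory.Pretriangulated in
/-- Let D be a triangulated category, φ : X ⟶ X' a morphism of chain complexes in D considered in
degrees ≤ n, where a Postnikov system for the complex X_n → … → X_0 consists of objects Y_k, an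
isomorphism Y_0 ⟶ X_0, and for 0 ≤ k < n distinguished triangles Y_{k+1} ⟶ X_{k+1} ⟶ Y_k ⟶
Y_{k+1}⟦1⟧ with X_{k+1} ⟶ Y_k ⟶ X_k the differential; let (Y, a, b, c) and (Y', a', b', c') be
Postnikov systems for X and X'. If Hom(X_{j-i}⟦1-i⟧, X'_j) = 0 and Hom(X_j, X'_{j-i}⟦-i⟧) = 0 for
all 0 < i ≤ j ≤ n, then there is at most one morphism of Postnikov systems extending φ: two such
morphisms agree on Y_k for every k ≤ n. -/
theorem result {D : Type u} [Category.{v} D] [Preadditive D] [HasZeroObject D] [HasShift D ℤ]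
    [∀ n : ℤ, (shiftFunctor D n).Additive] [Pretriangulated D] [IsTriangulated D]
    (X X' : ChainComplex D ℕ) (φ : X ⟶ X') (n : ℕ)
    (Y : ℕ → D) (a : ∀ k, Y k ⟶ X.X k) (b : ∀ k, X.X (k + 1) ⟶ Y k)
    (c : ∀ k, Y k ⟶ (shiftFunctor D (1 : ℤ)).obj (Y (k + 1)))
    (h0 : IsIso (a 0))
    (hP : ∀ k, k < n → Triangle.mk (a (k + 1)) (b k) (c k) ∈ distinguishedTriangles ∧ b k ≫ a k = X.d (k + 1) k)
    (qY : ℕ → D) (qa : ∀ k, qY k ⟶ X'.X k) (qb : ∀ k, X'.X (k + 1) ⟶ qY k)
    (qc : ∀ k, qY k ⟶ (shiftFunctor D (1 : ℤ)).obj (qY (k + 1)))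
    (qh0 : IsIso (qa 0))
    (qhP : ∀ k, k < n → Triangle.mk (qa (k + 1)) (qb k) (qc k) ∈ distinguishedTriangles ∧ qb k ≫ qa k = X'.d (k + 1) k)
    (hv : ∀ i j : ℕ, 0 < i → i ≤ j → j ≤ n →
      (∀ ψ : (shiftFunctor D (1 - (i : ℤ))).obj (X.X (j - i)) ⟶ X'.X j, ψ = 0) ∧
      (∀ ψ : X.X j ⟶ (shiftFunctor D (-(i : ℤ))).obj (X'.X (j - i)), ψ = 0))
    (y z : ∀ k, Y k ⟶ qY k)
    (hy : (∀ k, k ≤ n → y k ≫ qa k = a k ≫ φ.f k) ∧
      (∀ k, k < n → b k ≫ y k = φ.f (k + 1) ≫ qb k ∧ c k ≫ (shiftFunctor D (1 : ℤ)).map (y (k + 1)) = y k ≫ qc k))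
    (hz : (∀ k, k ≤ n → z k ≫ qa k = a k ≫ φ.f k) ∧
      (∀ k, k < n → b k ≫ z k = φ.f (k + 1) ≫ qb k ∧ c k ≫ (shiftFunctor D (1 : ℤ)).map (z (k + 1)) = z k ≫ qc k))
    (k : ℕ) (hk : k ≤ n) :
    y k = z k := by
  haveI := qh0
  haveI := h0
  obtain ⟨hy1, hy2⟩ := hy
  obtain ⟨hz1, hz2⟩ := hz
  -- cleaned-up vanishing hypotheses
  have hA : ∀ (l j : ℕ), l < j → j ≤ n → ∀ (m : ℤ), m = 1 - ((j : ℤ) - l) →
      ∀ ψ : (shiftFunctor D m).obj (X.X l) ⟶ X'.X j, ψ = 0 := by
    intro l j hlj hj m hm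
    have h := (hv (j - l) j (by omega) (by omega) hj).1
    have e1 : j - (j - l) = l := by omega
    have e2 : 1 - ((j - l : ℕ) : ℤ) = m := by rw [hm]; push_cast [Nat.cast_sub hlj.le]; rfl
    rw [e1, e2] at h
    exact h
  have hB : ∀ (l j : ℕ), l < j → j ≤ n → ∀ (m : ℤ), m = (j : ℤ) - l →
      ∀ ψ : (shiftFunctor D m).obj (X.X j) ⟶ X'.X l, ψ = 0 := by
    intro l j hlj hj m hm ψ
    have h := (hv (j - l) j (by omega) (by omega) hj).2
    have e1 : j - (j - l) = l := by omega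
    have e2 : -((j - l : ℕ) : ℤ) = -m := by rw [hm]; push_cast [Nat.cast_sub hlj.le]; rfl
    rw [e1, e2] at h
    let e : X.X j ≅ (shiftFunctor D (-m)).obj ((shiftFunctor D m).obj (X.X j)) :=
      ((shiftFunctorCompIsoId D m (-m) (by omega)).app (X.X j)).symm
    have h1 := h (e.hom ≫ (shiftFunctor D (-m)).map ψ)
    have h2 : (shiftFunctor D (-m)).map ψ = 0 := by
      rw [← cancel_epi e.hom, comp_zero]; exact h1
    exact (shiftFunctor D (-m)).map_injective (by rw [h2, Functor.map_zero])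
  -- VB
  have VB : ∀ k, k + 1 ≤ n → ∀ j', j' ≤ k → ∀ (m : ℤ), m = ((k : ℤ) + 1) - j' →
      ∀ η : (shiftFunctor D m).obj (X.X (k + 1)) ⟶ qY j', η = 0 := by
    intro k hk j'
    induction j' with
    | zero =>
      intro _ m hm η
      have := hB 0 (k + 1) (by omega) hk m (by rw [hm]; push_cast; ring) (η ≫ qa 0)
      rw [← cancel_mono (qa 0), zero_comp]; exact this
    | succ j' ih =>
      intro hj' m hm η
      obtain ⟨hT', _⟩ := qhP j' (by omega)
      have h1 : η ≫ qa (j' + 1) = 0 :=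
        hB (j' + 1) (k + 1) (by omega) hk m (by rw [hm]; push_cast; ring) _
      have h2 : (shiftFunctor D (1 : ℤ)).map η ≫ (shiftFunctor D (1 : ℤ)).map (qa (j' + 1)) = 0 := by
        rw [← Functor.map_comp, h1, Functor.map_zero]
      obtain ⟨g, hg⟩ : ∃ g : (shiftFunctor D (1 : ℤ)).obj ((shiftFunctor D m).obj (X.X (k + 1))) ⟶ qY j',
          (shiftFunctor D (1 : ℤ)).map η = g ≫ qc j' :=
        Triangle.coyoneda_exact₁ _ hT' _ h2
      have h3 : ((shiftFunctorAdd' D m 1 (m + 1) rfl).hom.app (X.X (k + 1))) ≫ g = 0 :=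
        ih (by omega) (m + 1) (by rw [hm]; push_cast; ring) _
      have h4 : g = 0 := by
        have : ((shiftFunctorAdd' D m 1 (m + 1) rfl).hom.app (X.X (k + 1))) ≫ g =
          ((shiftFunctorAdd' D m 1 (m + 1) rfl).hom.app (X.X (k + 1))) ≫ 0 := by rw [h3, comp_zero]
        exact (cancel_epi _).mp this
      rw [h4, zero_comp] at hg
      apply (shiftFunctor D (1 : ℤ)).map_injective
      rw [hg, Functor.map_zero]
  -- VA
  have VA : ∀ k, k + 1 ≤ n → ∀ j', j' ≤ k → ∀ (m : ℤ), m = (j' : ℤ) - k →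
      ∀ ε : (shiftFunctor D m).obj (Y j') ⟶ X'.X (k + 1), ε = 0 := by
    intro k hk j'
    induction j' with
    | zero =>
      intro _ m hm ε
      have h1 := hA 0 (k + 1) (by omega) hk m (by rw [hm]; push_cast; ring)
        ((shiftFunctor D m).map (inv (a 0)) ≫ ε)
      have h2 : (shiftFunctor D m).map (a 0) ≫ (shiftFunctor D m).map (inv (a 0)) ≫ ε = ε := by
        rw [← Category.assoc, ← Functor.map_comp, IsIso.hom_inv_id, CategoryTheory.Functor.map_id,
          Category.id_comp]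
      rw [← h2, h1, comp_zero]
    | succ j' ih =>
      intro hj' m hm ε
      obtain ⟨hT, _⟩ := hP j' (by omega)
      have hR := rot_of_distTriang _ hT
      have hadd : (1 : ℤ) + (m - 1) = m := by ring
      let e := fun Z : D => ((shiftFunctorAdd' D (1 : ℤ) (m - 1) m hadd).symm.app Z)
      have hθ0 : (shiftFunctor D (m - 1)).map (c j') ≫ ((e (Y (j' + 1))).hom ≫ ε) = 0 :=
        ih (by omega) (m - 1) (by rw [hm]; push_cast; ring) _
      obtain ⟨γ, hγ⟩ := Groth.Agent.H2.TriRefl.yoneda_exact₃_shift (b j') (c j')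
        (-(shiftFunctor D (1 : ℤ)).map (a (j' + 1))) hR (m - 1) _ hθ0
      have hγ0 : γ = 0 := by
        have := hA (j' + 1) (k + 1) (by omega) hk m (by rw [hm]; push_cast; ring)
          ((e (X.X (j' + 1))).inv ≫ γ)
        have h2 : (e (X.X (j' + 1))).hom ≫ (e (X.X (j' + 1))).inv ≫ γ = (e (X.X (j' + 1))).hom ≫ 0 := by
          rw [this]
        rw [Iso.hom_inv_id_assoc, comp_zero] at h2
        exact h2
      rw [hγ0, comp_zero] at hγ
      have h3 : (e (Y (j' + 1))).hom ≫ ε = (e (Y (j' + 1))).hom ≫ 0 := by rw [hγ, comp_zero]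
      exact (cancel_epi _).mp h3
  -- main induction
  have main : ∀ k, k ≤ n → y k = z k := by
    intro k
    induction k with
    | zero =>
      intro _
      rw [← cancel_mono (qa 0), hy1 0 (Nat.zero_le _), hz1 0 (Nat.zero_le _)]
    | succ k ih =>
      intro hk
      have ihk := ih (by omega)
      obtain ⟨hT, _⟩ := hP k (by omega)
      obtain ⟨hT', _⟩ := qhP k (by omega)
      have h1 : (y (k + 1) - z (k + 1)) ≫ qa (k + 1) = 0 := by
        rw [Preadditive.sub_comp, hy1 (k + 1) hk, hz1 (k + 1) hk, sub_self]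
      have h2 : c k ≫ (shiftFunctor D (1 : ℤ)).map (y (k + 1) - z (k + 1)) = 0 := by
        rw [Functor.map_sub, Preadditive.comp_sub, (hy2 k (by omega)).2, (hz2 k (by omega)).2, ihk, sub_self]
      obtain ⟨g, hg⟩ : ∃ g : (shiftFunctor D (1 : ℤ)).obj (X.X (k + 1)) ⟶ (shiftFunctor D (1 : ℤ)).obj (qY (k + 1)),
          (shiftFunctor D (1 : ℤ)).map (y (k + 1) - z (k + 1)) =
            (-(shiftFunctor D (1 : ℤ)).map (a (k + 1))) ≫ g :=
        Triangle.yoneda_exact₃ _ (rot_of_distTriang _ hT) _ h2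
      obtain ⟨g', rfl⟩ := (shiftFunctor D (1 : ℤ)).map_surjective g
      have h3 : y (k + 1) - z (k + 1) = -(a (k + 1) ≫ g') := by
        apply (shiftFunctor D (1 : ℤ)).map_injective
        rw [hg, Functor.map_neg, Functor.map_comp, Preadditive.neg_comp]
      have h4 : a (k + 1) ≫ (g' ≫ qa (k + 1)) = 0 := by
        have := h1
        rw [h3, Preadditive.neg_comp, neg_eq_zero, Category.assoc] at this
        exact this
      obtain ⟨ε, hε⟩ : ∃ ε : Y k ⟶ X'.X (k + 1), g' ≫ qa (k + 1) = b k ≫ ε :=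
        Triangle.yoneda_exact₂ _ hT _ h4
      have hε0 : ε = 0 := by
        have := VA k hk k le_rfl 0 (by ring) ((shiftFunctorZero D ℤ).hom.app (Y k) ≫ ε)
        have h5 : (shiftFunctorZero D ℤ).hom.app (Y k) ≫ ε = (shiftFunctorZero D ℤ).hom.app (Y k) ≫ 0 := by
          rw [this, comp_zero]
        exact (cancel_epi _).mp h5
      rw [hε0, comp_zero] at hε
      have h6 : (shiftFunctor D (1 : ℤ)).map g' ≫ (shiftFunctor D (1 : ℤ)).map (qa (k + 1)) = 0 := by
        rw [← Functor.map_comp, hε, Functor.map_zero]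
      obtain ⟨η, hη⟩ : ∃ η : (shiftFunctor D (1 : ℤ)).obj (X.X (k + 1)) ⟶ qY k,
          (shiftFunctor D (1 : ℤ)).map g' = η ≫ qc k :=
        Triangle.coyoneda_exact₁ _ hT' _ h6
      have hη0 : η = 0 := VB k hk k le_rfl 1 (by ring) η
      rw [hη0, zero_comp] at hη
      have hg'0 : g' = 0 := (shiftFunctor D (1 : ℤ)).map_injective (by rw [hη, Functor.map_zero])
      rw [hg'0, comp_zero, neg_zero] at h3
      exact sub_eq_zero.mp h3
  exact main k hk

end Groth.Agent.S6623
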