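import Groth.Statements.S6707
import Groth.Agent.Lib.Helper2.Sib8

set_option autoImplicit false
universe w v u
open CategoryTheory
open DEquiv

namespace Groth.Agent.S6707

open CategoryTheory.Limits in
/-- Let A be an abelian category in which every object X is the target of an epimorphism N ⟶ X with
Hom(X, N) = 0. Let f : X ⟶ X' be a morphism between bounded objects of D(A) and b an integer with
H^i(X) = 0 for i > b and H^i(X') = 0 for i ≥ b. Then there exist an object N of A and a morphism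
N⟦-b⟧ ⟶ X (N placed in degree b) inducing an epimorphism N ⟶ H^b(X), with Hom(H^b(X), N) = 0, and
whose composite with f is zero. -/
theorem result
    {A : Type u} [Category.{v} A] [Abelian A] [HasDerivedCategory.{w} A]
    (hneg : ∀ X : A, ∃ (N : A) (p : N ⟶ X), Epi p ∧ ∀ f : X ⟶ N, f = 0)
    (X X' : DerivedCategory A) (f : X ⟶ X') (a b a' : ℤ) [X.IsGE a] [X.IsLE b] [X'.IsGE a']
    [X'.IsLE (b - 1)] :
    ∃ (N : A) (g : (DerivedCategory.singleFunctor A b).obj N ⟶ X),
      Epi ((DerivedCategory.homologyFunctor A b).map g) ∧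
        (∀ φ : (DerivedCategory.homologyFunctor A b).obj X ⟶ N, φ = 0) ∧ g ≫ f = 0 := by
  open Groth.Agent.H2.Sib DerivedCategory CategoryTheory.Pretriangulated in
  have hXa : TStructure.t.IsGE X a := inferInstance
  have hXb : TStructure.t.IsLE X b := inferInstance
  have hX'a : TStructure.t.IsGE X' a' := inferInstance
  have hX'b : TStructure.t.IsLE X' (b - 1) := inferInstance
  let K : DerivedCategory.Bounded A := ⟨X, ⟨⟨a, hXa⟩, ⟨b, hXb⟩⟩⟩
  let K' : DerivedCategory.Bounded A := ⟨X', ⟨⟨a', hX'a⟩, ⟨b - 1, hX'b⟩⟩⟩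
  let fB : K ⟶ K' := ObjectProperty.homMk f
  have hKa : Groth.Agent.H2.Sib.GE K a := hXa
  have hKb : Groth.Agent.H2.Sib.LE K b := hXb
  have hK' : Groth.Agent.H2.Sib.LE K' (b - 1) := hX'b
  obtain ⟨M, τ, Q₁, q, δ, hT, hQ, _⟩ := Groth.Agent.H2.Sib.exists_cover K a b hKa hKb
  obtain ⟨M₁, π₁, hπ₁, h₁⟩ := Groth.Agent.H2.Sib.exists_efface hK' (τ ≫ fB)
  obtain ⟨N, π₂, hπ₂, hN, _⟩ := Groth.Agent.H2.Sib.exists_neg hneg M₁ M M
  let e := DerivedCategory.singleFunctorCompHomologyFunctorIso A b
  have hTD := (DerivedCategory.TStructure.t (C := A)).bounded.ι.map_distinguished _ hT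
  have hzQ : IsZero ((DerivedCategory.homologyFunctor A b).obj Q₁.obj) := by
    haveI : DerivedCategory.IsLE Q₁.obj (b - 1) := hQ
    exact DerivedCategory.isZero_of_isLE Q₁.obj (b - 1) b (by omega)
  have hτ : Epi ((DerivedCategory.homologyFunctor A b).map τ.hom) := by
    refine (DerivedCategory.HomologySequence.epi_homologyMap_mor₁_iff _ hTD b).2 ?_
    exact hzQ.eq_of_tgt _ _
  have hπ : Epi (π₂ ≫ π₁) := epi_comp' hπ₂ hπ₁
  have hsπ : Epi ((DerivedCategory.homologyFunctor A b).map
      ((DerivedCategory.singleFunctor A b).map (π₂ ≫ π₁))) := by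
    have hnat := e.hom.naturality (π₂ ≫ π₁)
    have h2 : (DerivedCategory.homologyFunctor A b).map
        ((DerivedCategory.singleFunctor A b).map (π₂ ≫ π₁)) =
        e.hom.app N ≫ (π₂ ≫ π₁) ≫ e.inv.app M := by
      have h3 : (DerivedCategory.homologyFunctor A b).map
          ((DerivedCategory.singleFunctor A b).map (π₂ ≫ π₁)) ≫ e.hom.app M =
          e.hom.app N ≫ (π₂ ≫ π₁) := hnat
      rw [← Category.assoc, ← h3, Category.assoc, Iso.hom_inv_id_app]
      exact (Category.comp_id _).symm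
    rw [h2]
    haveI := hπ
    infer_instance
  refine ⟨N, (DerivedCategory.singleFunctor A b).map (π₂ ≫ π₁) ≫ τ.hom, ?_, ?_, ?_⟩
  · rw [Functor.map_comp]
    exact epi_comp' hsπ hτ
  · intro φ
    have h1 : e.inv.app M ≫ (DerivedCategory.homologyFunctor A b).map τ.hom ≫ φ = 0 := hN _
    have h2 : (DerivedCategory.homologyFunctor A b).map τ.hom ≫ φ = 0 :=
      (cancel_epi (e.inv.app M)).1 (h1.trans comp_zero.symm)
    rw [← cancel_epi ((DerivedCategory.homologyFunctor A b).map τ.hom), h2, comp_zero]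
  · have h2 : (DerivedCategory.singleFunctor A b).map π₁ ≫ τ.hom ≫ f = 0 :=
      congrArg (fun z => z.hom) h₁
    rw [Functor.map_comp, Category.assoc, Category.assoc, h2, comp_zero]

end Groth.Agent.S6707
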