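import Groth.Statements.S6710
import Mathlib.RingTheory.Support
import Mathlib.Algebra.Module.FinitePresentation
import Mathlib.RingTheory.LocalRing.Module
import Mathlib.RingTheory.Ideal.MinimalPrime.Localization
import Mathlib.RingTheory.Finiteness.Ideal
import Mathlib.LinearAlgebra.Dual.Lemmas
import Mathlib.RingTheory.Localization.AtPrime.Basic

set_option autoImplicit false
universe u v
open CategoryTheory
open FunMor

namespace Groth.Agent.S6710


open IsLocalRing in
/-- over a local ring, a nontrivial f.p. module surjects to `R/I`, `I` f.g. in `𝔪`. -/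
theorem lem1 (R : Type u) [CommRing R] [IsLocalRing R] (M : Type v) [AddCommGroup M] [Module R M]
    [Module.FinitePresentation R M] [Nontrivial M] :
    ∃ I : Ideal R, I.FG ∧ I ≤ maximalIdeal R ∧ ∃ (θ : M →ₗ[R] R ⧸ I) (z : M), θ z = 1 := by
  -- residue quotient
  let : Module (ResidueField R) (M ⧸ (maximalIdeal R • ⊤ : Submodule R M)) :=
    inferInstanceAs (Module (R ⧸ maximalIdeal R) (M ⧸ maximalIdeal R • (⊤ : Submodule R M)))
  let : IsScalarTower R (ResidueField R) (M ⧸ (maximalIdeal R • ⊤ : Submodule R M)) :=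
    inferInstanceAs (IsScalarTower R (R ⧸ maximalIdeal R) (M ⧸ maximalIdeal R • (⊤ : Submodule R M)))
  have hQ : Nontrivial (M ⧸ (maximalIdeal R • ⊤ : Submodule R M)) := by
    by_contra hQ
    rw [not_nontrivial_iff_subsingleton] at hQ
    have h1 : (⊥ : Submodule R M).map (Submodule.mkQ (maximalIdeal R • ⊤)) = ⊤ := by
      apply Subsingleton.elim
    rw [IsLocalRing.map_mkQ_eq_top] at h1
    exact bot_ne_top h1
  obtain ⟨q, hq⟩ := exists_ne (0 : (M ⧸ (maximalIdeal R • ⊤ : Submodule R M)))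
  obtain ⟨f, hf⟩ : ∃ f : Module.Dual (ResidueField R) (M ⧸ (maximalIdeal R • ⊤ : Submodule R M)),
      f q ≠ 0 := by
    by_contra hcon
    push Not at hcon
    exact hq ((Module.forall_dual_apply_eq_zero_iff (ResidueField R) q).1 hcon)
  obtain ⟨m, rfl⟩ := Submodule.mkQ_surjective _ q
  let φ : M →ₗ[R] ResidueField R := (f.restrictScalars R) ∘ₗ Submodule.mkQ _
  have hφm : φ m ≠ 0 := hf
  obtain ⟨n, K, e, hK⟩ := Module.FinitePresentation.exists_fin R M
  let ψ : (Fin n → R) →ₗ[R] ResidueField R := φ ∘ₗ e.symm.toLinearMap ∘ₗ K.mkQ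
  have hres : ∀ c : ResidueField R, ∃ r : R, residue R r = c := residue_surjective
  choose r hr using fun i => hres (ψ (Pi.single i 1))
  let ρ : (Fin n → R) →ₗ[R] R := Fintype.linearCombination R r
  let resL : R →ₗ[R] ResidueField R := (Algebra.linearMap R (ResidueField R))
  have hρ : resL ∘ₗ ρ = ψ := by
    apply LinearMap.pi_ext'
    intro i
    ext
    simp [ρ, resL, Fintype.linearCombination_apply, hr, Pi.single_apply]
    try rfl
  have hρ' : ∀ v, residue R (ρ v) = ψ v := fun v => LinearMap.congr_fun hρ v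
  refine ⟨K.map ρ, hK.map ρ, ?_, ?_⟩
  · rintro _ ⟨v, hv, rfl⟩
    rw [← residue_eq_zero_iff, hρ']
    have : K.mkQ v = 0 := by simpa using hv
    simp [ψ, this]
  · let θ0 : M →ₗ[R] R ⧸ K.map ρ := (K.mapQ (K.map ρ) ρ (Submodule.le_comap_map ρ K)) ∘ₗ e.toLinearMap
    obtain ⟨v, hv⟩ := Submodule.mkQ_surjective K (e m)
    have hψv : ψ v = φ m := by
      simp [ψ, hv]
    have hu : IsUnit (ρ v) := by
      rw [← IsLocalRing.notMem_maximalIdeal, ← residue_eq_zero_iff, hρ', hψv]
      exact hφm
    obtain ⟨u, hu⟩ := hu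
    refine ⟨θ0, (↑u⁻¹ : R) • m, ?_⟩
    rw [map_smul]
    have : θ0 m = Submodule.Quotient.mk (ρ v) := by
      simp only [θ0, LinearMap.comp_apply, LinearEquiv.coe_coe, ← hv]
      rfl
    rw [this, ← hu]
    change Ideal.Quotient.mk (K.map ρ) ((↑u⁻¹ : R) * (u : R)) = 1
    simp


/-- nilpotence step. -/
theorem lem2 (R : Type u) [CommRing R] (N : Type v) [AddCommGroup N] [Module R N] (x : N)
    (hx : x ≠ 0) (I : Ideal R) (k : ℕ) (hk : ∀ b ∈ I ^ k, b • x = 0) :
    ∃ y : N, y ≠ 0 ∧ ∀ a ∈ I, a • y = 0 := by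
  classical
  have H : ∃ k : ℕ, ∀ b ∈ I ^ k, b • x = 0 := ⟨k, hk⟩
  have h0 : Nat.find H ≠ 0 := by
    intro h0
    have := Nat.find_spec H
    rw [h0] at this
    apply hx
    simpa using this 1 (by simp)
  have hmin := Nat.find_min H (Nat.sub_one_lt h0)
  push Not at hmin
  obtain ⟨b, hb, hbx⟩ := hmin
  refine ⟨b • x, hbx, fun a ha => ?_⟩
  rw [smul_smul]
  apply Nat.find_spec H
  have : Nat.find H = (Nat.find H - 1) + 1 := by omega
  rw [this, pow_succ']
  exact Ideal.mul_mem_mul ha hb

open IsLocalRing in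
theorem lem3 (R : Type u) [CommRing R] [IsLocalRing R] (M : Type v) [AddCommGroup M] [Module R M]
    [Module.FinitePresentation R M] [Nontrivial M]
    (N : Type v) [AddCommGroup N] [Module R N] (x : N) (hx : x ≠ 0)
    (hrad : maximalIdeal R ≤ Ideal.radical (LinearMap.ker (LinearMap.toSpanSingleton R N x))) :
    ∃ (g : M →ₗ[R] N) (z : M), g z ≠ 0 := by
  obtain ⟨I, hI, hIm, θ, z, hz⟩ := lem1 R M
  obtain ⟨k, hk⟩ := Ideal.exists_pow_le_of_le_radical_of_fg (hIm.trans hrad) hI
  obtain ⟨y, hy, hIy⟩ := lem2 R N x hx I k (fun b hb => by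
    have := hk hb
    rwa [LinearMap.mem_ker, LinearMap.toSpanSingleton_apply] at this)
  let χ : R ⧸ I →ₗ[R] N := Submodule.liftQ I (LinearMap.toSpanSingleton R N y)
    (fun a ha => by simpa using hIy a ha)
  refine ⟨χ ∘ₗ θ, z, ?_⟩
  rw [LinearMap.comp_apply, hz]
  change χ (Submodule.Quotient.mk 1) ≠ 0
  rw [Submodule.liftQ_apply, LinearMap.toSpanSingleton_apply, one_smul]
  exact hy

/-- The statement for an affine scheme written in terms of modules: let A be a commutative ring, M a
finitely presented A-module and N a nonzero A-module with Supp(N) ⊆ Supp(M). Then Hom_A(M, N) is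
nonzero. -/
theorem result
    (A : Type u) [CommRing A] (M : Type v) [AddCommGroup M] [Module A M]
    [Module.FinitePresentation A M] (N : Type v) [AddCommGroup N] [Module A N] [Nontrivial N]
    (h : Module.support A N ⊆ Module.support A M) : Nontrivial (M →ₗ[A] N) := by
  obtain ⟨x, hx⟩ := exists_ne (0 : N)
  set J : Ideal A := LinearMap.ker (LinearMap.toSpanSingleton A N x) with hJ
  have hJmem : ∀ a, a ∈ J ↔ a • x = 0 := fun a => by simp [hJ]
  have hJtop : J ≠ ⊤ := by
    intro h1
    have : (1 : A) ∈ J := h1 ▸ Submodule.mem_top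
    rw [hJmem, one_smul] at this
    exact hx this
  obtain ⟨p, hp⟩ := Ideal.nonempty_minimalPrimes hJtop
  have hpP : p.IsPrime := hp.1.1
  have hJp : J ≤ p := hp.1.2
  let R := Localization.AtPrime p
  let Np := LocalizedModule p.primeCompl N
  let Mp := LocalizedModule p.primeCompl M
  let x' : Np := LocalizedModule.mkLinearMap p.primeCompl N x
  have hx' : x' ≠ 0 := by
    intro h0
    rw [IsLocalizedModule.eq_zero_iff p.primeCompl] at h0
    obtain ⟨c, hc⟩ := h0
    exact c.2 (hJp ((hJmem _).2 hc))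
  have hNp : Nontrivial Np := ⟨x', 0, hx'⟩
  have hMp : Nontrivial Mp := by
    have h1 : (⟨p, hpP⟩ : PrimeSpectrum A) ∈ Module.support A N := by
      rw [Module.mem_support_iff]; exact hNp
    have h2 := h h1
    rw [Module.mem_support_iff] at h2
    exact h2
  have hrad : IsLocalRing.maximalIdeal R ≤
      Ideal.radical (LinearMap.ker (LinearMap.toSpanSingleton R Np x')) := by
    have h1 : p.map (algebraMap A R) ≤ (J.map (algebraMap A R)).radical := by
      rw [Ideal.radical_eq_sInf, le_sInf_iff]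
      rintro q ⟨hq', hq⟩
      obtain ⟨h₁, h₂⟩ := ((IsLocalization.AtPrime.orderIsoOfPrime _ p) ⟨q, hq⟩).2
      rw [Ideal.map_le_iff_le_comap] at hq' ⊢
      exact hp.2 ⟨h₁, hq'⟩ h₂
    rw [← Localization.AtPrime.map_eq_maximalIdeal]
    refine h1.trans (Ideal.radical_mono ?_)
    rw [Ideal.map_le_iff_le_comap]
    intro j hj
    rw [Ideal.mem_comap, LinearMap.mem_ker, LinearMap.toSpanSingleton_apply]
    rw [algebraMap_smul, ← map_smul, (hJmem j).1 hj, map_zero]
  obtain ⟨g', z, hz⟩ := lem3 R Mp Np x' hx' hrad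
  obtain ⟨⟨m, s⟩, hms⟩ := IsLocalizedModule.surj p.primeCompl (LocalizedModule.mkLinearMap p.primeCompl M) z
  let g : M →ₗ[A] Np := (g'.restrictScalars A) ∘ₗ LocalizedModule.mkLinearMap p.primeCompl M
  have hgm : g m ≠ 0 := by
    change g' (LocalizedModule.mkLinearMap p.primeCompl M m) ≠ 0
    rw [← hms]
    change g' ((s : A) • z) ≠ 0
    rw [LinearMap.map_smul_of_tower]
    intro h0
    apply hz
    apply IsLocalizedModule.smul_injective (LocalizedModule.mkLinearMap p.primeCompl N) s
    change (s : A) • g' z = (s : A) • 0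
    rw [h0, smul_zero]
  obtain ⟨h', s', hs'⟩ := Module.FinitePresentation.exists_lift_of_isLocalizedModule p.primeCompl
    (LocalizedModule.mkLinearMap p.primeCompl N) g
  refine ⟨h', 0, ?_⟩
  rintro rfl
  apply hgm
  apply IsLocalizedModule.smul_injective (LocalizedModule.mkLinearMap p.primeCompl N) s'
  have := LinearMap.congr_fun hs' m
  simp only [LinearMap.comp_zero, LinearMap.zero_apply, LinearMap.smul_apply] at this
  change s' • g m = s' • 0
  rw [← this, smul_zero]


end Groth.Agent.S6710
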