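import Groth.Statements.S6775
import Mathlib

set_option autoImplicit false
open CategoryTheory CategoryTheory.Limits
universe v u
open CategoryTheory CategoryTheory.Abelian

namespace Groth.Agent.S6775

set_option backward.isDefEq.respectTransparency false in
/-- In an abelian category a cartesian square whose bottom arrow `k` is an epimorphism is also
cocartesian, and the arrow `f` opposite to `k` is an epimorphism. -/
theorem result {A : Type u} [Category.{v} A] [Abelian A] {w x y z : A} (f : w ⟶ y) (g : w ⟶ x) (h : y ⟶ z) (k : x ⟶ z) (sq : IsPullback f g h k) [Epi k] : IsPushout f g h k ∧ Epi f := by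
  have hf : Epi f := Abelian.epi_fst_of_isLimit h k sq.isLimit
  refine ⟨?_, hf⟩
  have hex : sq.shortComplex'.Exact := sq.exact_shortComplex'
  have hm : Mono sq.shortComplex'.f := sq.mono_shortComplex'_f
  have he : Epi sq.shortComplex'.g := by
    have h1 : biprod.inr ≫ sq.shortComplex'.g = -k := by
      simp [CommSq.shortComplex'_g]
    have : Epi (biprod.inr ≫ sq.shortComplex'.g) := by
      rw [h1]; infer_instance
    exact epi_of_epi biprod.inr _
  have hS : sq.shortComplex'.ShortExact := { exact := hex }
  have hc := hS.gIsCokernel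
  have key : ∀ s : PushoutCocone f g, biprod.lift f g ≫ biprod.desc s.inl (-s.inr) = 0 := by
    intro s
    rw [biprod.lift_desc, Preadditive.comp_neg, s.condition, add_neg_cancel]
  have fac : ∀ s : PushoutCocone f g, biprod.desc h (-k) ≫
      hc.desc (CokernelCofork.ofπ (biprod.desc s.inl (-s.inr)) (key s)) =
      biprod.desc s.inl (-s.inr) := fun s =>
    hc.fac (CokernelCofork.ofπ (biprod.desc s.inl (-s.inr)) (key s)) .one
  refine ⟨sq.toCommSq, ⟨PushoutCocone.IsColimit.mk _ (fun s => hc.desc (CokernelCofork.ofπ (biprod.desc s.inl (-s.inr)) (key s))) ?_ ?_ ?_⟩⟩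
  · intro s
    simpa using biprod.inl ≫= fac s
  · intro s
    simpa using biprod.inr ≫= fac s
  · intro s m h1 h2
    have he' : Epi (biprod.desc h (-k)) := he
    rw [← cancel_epi (biprod.desc h (-k)), fac s]
    ext <;> simp [h1, h2]

end Groth.Agent.S6775
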