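import Groth.Statements.S6776
import Mathlib

set_option autoImplicit false
open CategoryTheory CategoryTheory.Limits
universe v u
open CategoryTheory CategoryTheory.Abelian

namespace Groth.Agent.S6776

set_option backward.isDefEq.respectTransparency false in
/-- In an abelian category a cocartesian square whose left arrow `g` is a monomorphism is also
cartesian, and the arrow `h` opposite to `g` is a monomorphism. -/
theorem result {A : Type u} [Category.{v} A] [Abelian A] {w x y z : A} (f : w ⟶ y) (g : w ⟶ x) (h : y ⟶ z) (k : x ⟶ z) (sq : IsPushout f g h k) [Mono g] : IsPullback f g h k ∧ Mono h := by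
  have hh : Mono h := Abelian.mono_inl_of_isColimit f g sq.isColimit
  refine ⟨?_, hh⟩
  have hex : sq.shortComplex.Exact := sq.exact_shortComplex
  have he : Epi sq.shortComplex.g := sq.epi_shortComplex_g
  have hm : Mono sq.shortComplex.f := by
    have h1 : sq.shortComplex.f ≫ biprod.snd = -g := by
      simp [CommSq.shortComplex_f]
    have : Mono (sq.shortComplex.f ≫ biprod.snd) := by
      rw [h1]; infer_instance
    exact mono_of_mono _ biprod.snd
  have hS : sq.shortComplex.ShortExact := { exact := hex }
  have hc := hS.fIsKernel
  have key : ∀ s : PullbackCone h k, biprod.lift s.fst (-s.snd) ≫ biprod.desc h k = 0 := by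
    intro s
    rw [biprod.lift_desc, Preadditive.neg_comp, s.condition, add_neg_cancel]
  have fac : ∀ s : PullbackCone h k,
      hc.lift (KernelFork.ofι (biprod.lift s.fst (-s.snd)) (key s)) ≫ biprod.lift f (-g) =
      biprod.lift s.fst (-s.snd) := fun s =>
    hc.fac (KernelFork.ofι (biprod.lift s.fst (-s.snd)) (key s)) .zero
  refine ⟨sq.toCommSq, ⟨PullbackCone.IsLimit.mk _ (fun s => hc.lift (KernelFork.ofι (biprod.lift s.fst (-s.snd)) (key s))) ?_ ?_ ?_⟩⟩
  · intro s
    simpa using fac s =≫ biprod.fst
  · intro s
    simpa using fac s =≫ biprod.snd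
  · intro s m h1 h2
    have hm' : Mono (biprod.lift f (-g)) := hm
    rw [← cancel_mono (biprod.lift f (-g)), fac s]
    ext <;> simp [h1, h2]

end Groth.Agent.S6776
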