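import Groth.Statements.S6786
import Groth.Agent.Lib.Helper2.MLLim

set_option autoImplicit false
open CategoryTheory CategoryTheory.Limits
universe u
open HomAlg3

namespace Groth.Agent.S6786


open Opposite Groth.Agent.H2.MLSys

section
variable {J : Type*} [Category J] (F : J ⥤ AddCommGrpCat.{u}) (S : ∀ j, AddSubgroup (F.obj j))
  (hS : ∀ {i j : J} (f : i ⟶ j) (x : F.obj i), x ∈ S i → (F.map f).hom x ∈ S j)

/-- the subfunctor given by a compatible family of subgroups. -/
def sub : J ⥤ AddCommGrpCat.{u} where
  obj j := AddCommGrpCat.of (S j)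
  map {i j} f := AddCommGrpCat.ofHom
    (((F.map f).hom.comp (S i).subtype).codRestrict (S j) (fun x => hS f x.1 x.2))
  map_id i := by
    ext x
    simp
  map_comp f g := by
    ext x
    simp
    try rfl

/-- corestriction of a natural transformation to a subfunctor. -/
def corestrict {G : J ⥤ AddCommGrpCat.{u}} (v : G ⟶ F) (hv : ∀ j (x : G.obj j), (v.app j).hom x ∈ S j) :
    G ⟶ sub F S hS where
  app j := AddCommGrpCat.ofHom ((v.app j).hom.codRestrict (S j) (hv j))
  naturality i j f := by
    ext x
    apply Subtype.ext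
    have := ConcreteCategory.congr_hom (v.naturality f) x
    rw [ConcreteCategory.comp_apply, ConcreteCategory.comp_apply] at this
    exact this

end

/-- For a sequence `(A_i) ⟶ (B_i) ⟶ (C_i) ⟶ (D_i)` of inverse systems of abelian groups over `ℕ` that is
exact levelwise at the two middle places, if `(A_i)` is Mittag-Leffler then `lim B_i ⟶ lim C_i ⟶ lim
D_i` is exact. -/
theorem result {A B C D : ℕᵒᵖ ⥤ AddCommGrpCat.{u}} (a : A ⟶ B) (b : B ⟶ C) (c : C ⟶ D) (hB : ∀ i, (b.app i).hom.ker = (a.app i).hom.range) (hC : ∀ i, (c.app i).hom.ker = (b.app i).hom.range) (hA : (A ⋙ forget AddCommGrpCat).IsMittagLeffler) : (limMap c).hom.ker = (limMap b).hom.range := by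
  apply le_antisymm
  · intro x hx
    rw [AddMonoidHom.mem_ker] at hx
    -- the image subfunctor
    let S : ∀ j, AddSubgroup (C.obj j) := fun j => (b.app j).hom.range
    have hS : ∀ {i j : ℕᵒᵖ} (f : i ⟶ j) (x : C.obj i), x ∈ S i → (C.map f).hom x ∈ S j := by
      rintro i j f _ ⟨y, rfl⟩
      refine ⟨(B.map f).hom y, ?_⟩
      have := ConcreteCategory.congr_hom (b.naturality f) y
      rw [ConcreteCategory.comp_apply, ConcreteCategory.comp_apply] at this
      exact this
    let K := sub C S hS
    let b' : B ⟶ K := corestrict C S hS b (fun j x => ⟨x, rfl⟩)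
    have hb' : ∀ i, Function.Surjective (b'.app i).hom := by
      rintro i ⟨_, ⟨y, rfl⟩⟩
      exact ⟨y, rfl⟩
    have hex : ∀ i, (b'.app i).hom.ker = (a.app i).hom.range := by
      intro i
      rw [← hB i]
      ext y
      simp only [AddMonoidHom.mem_ker]
      constructor
      · intro h
        exact congrArg Subtype.val h
      · intro h
        exact Subtype.ext h
    have hxj : ∀ j : ℕ, (limit.π C (op j)).hom x ∈ S (op j) := by
      intro j
      change _ ∈ (b.app (op j)).hom.range
      rw [← hC, AddMonoidHom.mem_ker]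
      have := ConcreteCategory.congr_hom (limMap_π c (op j)) x
      rw [ConcreteCategory.comp_apply, ConcreteCategory.comp_apply] at this
      rw [← this, hx, map_zero]
    let cc : ∀ j : ℕ, K.obj (op j) := fun j => ⟨(limit.π C (op j)).hom x, hxj j⟩
    have hcc : ∀ (p q : ℕ) (h : p ≤ q), res K h (cc q) = cc p := by
      intro p q h
      apply Subtype.ext
      have h1 := ConcreteCategory.congr_hom (limit.w C (homOfLE h).op) x
      rw [ConcreteCategory.comp_apply] at h1
      exact h1
    obtain ⟨y, hy1, hy2⟩ := exists_compatible_lift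
      ⟨Set.univ, Set.countable_univ, fun i => ⟨i, trivial, le_rfl⟩⟩ a b' hb' hex hA cc hcc
    let t := isLimitOfPreserves (forget AddCommGrpCat) (limit.isLimit B)
    have hsec : (fun j : ℕᵒᵖ => (y j.unop : (B ⋙ forget AddCommGrpCat).obj j)) ∈
        (B ⋙ forget AddCommGrpCat).sections := by
      intro j j' g
      have h1 := hy1 j'.unop j.unop (leOfHom g.unop)
      have : g = (homOfLE (leOfHom g.unop)).op := Subsingleton.elim _ _
      rw [this]
      exact h1
    let Y := (Types.isLimitEquivSections t).symm ⟨_, hsec⟩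
    have hY : ∀ j : ℕᵒᵖ, (limit.π B j).hom Y = y j.unop := by
      intro j
      exact Types.isLimitEquivSections_symm_apply t ⟨_, hsec⟩ j
    refine ⟨Y, ?_⟩
    apply Concrete.limit_ext
    intro j
    have h2 := ConcreteCategory.congr_hom (limMap_π b j) Y
    rw [ConcreteCategory.comp_apply, ConcreteCategory.comp_apply] at h2
    refine h2.trans ?_
    change (b.app j).hom ((limit.π B j).hom Y) = _
    rw [hY]
    exact congrArg Subtype.val (hy2 j.unop)
  · rintro _ ⟨y, rfl⟩
    rw [AddMonoidHom.mem_ker]
    apply Concrete.limit_ext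
    intro j
    have h1 := ConcreteCategory.congr_hom (limMap_π c j) ((limMap b).hom y)
    have h2 := ConcreteCategory.congr_hom (limMap_π b j) y
    rw [ConcreteCategory.comp_apply, ConcreteCategory.comp_apply] at h1 h2
    change (limit.π D j).hom ((limMap c).hom ((limMap b).hom y)) = (limit.π D j).hom 0
    rw [h1, h2, map_zero]
    have : (b.app j).hom ((limit.π B j).hom y) ∈ (b.app j).hom.range := ⟨_, rfl⟩
    rw [← hC, AddMonoidHom.mem_ker] at this
    exact this


end Groth.Agent.S6786
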