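import Groth.Statements.S6787
import Groth.Prelude.Def_DerCA
import Groth.Agent.Lib.Helper2.MLSys

set_option autoImplicit false
open CategoryTheory CategoryTheory.Limits
universe u
open HomAlg3

namespace Groth.Agent.S6787


open Opposite Groth.Agent.H2.MLSys

/-- an essentially constant system is Mittag-Leffler. -/
theorem ml_of_essConstant {C : ℕᵒᵖ ⥤ AddCommGrpCat.{u}} {C₀ : AddCommGrpCat.{u}}
    (c : (Functor.const ℕᵒᵖ).obj C₀ ⟶ C) (hC : DerCA.IsEssConstant C C₀ c) :
    (C ⋙ forget AddCommGrpCat).IsMittagLeffler := by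
  rw [ml_iff_res]
  obtain ⟨i, s, hs, h⟩ := hC
  intro j
  obtain ⟨k, hik, hjk, hk⟩ := h j
  refine ⟨k, hjk, fun l hjl y => ?_⟩
  -- tr_{kj} y = c_j (s (tr_{ki} y)) = tr_{lj} (c_l (s (tr_{ki} y)))
  have h1 : res C hjk y = (c.app (op j)).hom (s.hom (res C hik y)) := by
    have := ConcreteCategory.congr_hom hk y
    rw [ConcreteCategory.comp_apply, ConcreteCategory.comp_apply] at this
    exact this
  refine ⟨(c.app (op l)).hom (s.hom (res C hik y)), ?_⟩
  rw [h1]
  have h2 := ConcreteCategory.congr_hom (c.naturality (homOfLE hjl).op) (s.hom (res C hik y))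
  simp only [Functor.const_obj_obj, Functor.const_obj_map, Category.id_comp,
    ConcreteCategory.comp_apply] at h2
  exact h2.symm

/-- Take inverse systems `(A_i)`, `(B_i)`, `(C_i)` of abelian groups over `ℕ`, with morphisms of systems
`(A_i) ⟶ (B_i) ⟶ (C_i)` that give a short exact sequence at every index, and suppose `(C_i)` is
essentially constant. Then `(A_i)` is Mittag-Leffler if and only if `(B_i)` is. -/
theorem result {A B C : ℕᵒᵖ ⥤ AddCommGrpCat.{u}} (a : A ⟶ B) (b : B ⟶ C) (ha : ∀ i, Function.Injective (a.app i).hom) (hb : ∀ i, Function.Surjective (b.app i).hom) (hex : ∀ i, (b.app i).hom.ker = (a.app i).hom.range) (hC : ∃ (C₀ : AddCommGrpCat.{u}) (c : (Functor.const ℕᵒᵖ).obj C₀ ⟶ C), DerCA.IsEssConstant C C₀ c) : (A ⋙ forget AddCommGrpCat).IsMittagLeffler ↔ (B ⋙ forget AddCommGrpCat).IsMittagLeffler := by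
  obtain ⟨C₀, c, hCc⟩ := hC
  constructor
  · -- A and C ML => B ML
    intro hA
    have hC := ml_of_essConstant c hCc
    rw [ml_iff_res] at hA hC ⊢
    intro p
    obtain ⟨q, hpq, hq⟩ := hA p
    obtain ⟨r, hqr, hr⟩ := hC q
    refine ⟨r, hpq.trans hqr, fun d hpd y => ?_⟩
    obtain ⟨d', hdd', hrd'⟩ := exists_ge_ge d r
    have hqd' : q ≤ d' := hqr.trans hrd'
    have hpd' : p ≤ d' := hpd.trans hdd'
    obtain ⟨z, hz⟩ := hr d' hqd' ((b.app (op r)).hom y)
    obtain ⟨w, rfl⟩ := hb (op d') z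
    have hk : res B hqd' w - res B hqr y ∈ (b.app (op q)).hom.ker := by
      rw [AddMonoidHom.mem_ker, map_sub, nat, nat, hz, sub_self]
    rw [hex] at hk
    obtain ⟨t, ht⟩ := hk
    obtain ⟨s, hs⟩ := hq d' hpd' t
    refine ⟨res B hdd' (w - (a.app (op d')).hom s), ?_⟩
    rw [res_res, map_sub, ← nat, hs, nat, ht, map_sub, res_res, res_res]
    abel
  · -- B ML, C essentially constant => A ML
    intro hB
    rw [ml_iff_res] at hB ⊢
    obtain ⟨i, s, hs, h⟩ := hCc
    intro j
    -- K' = max i j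
    obtain ⟨K', hiK', hjK'⟩ := exists_ge_ge i j
    obtain ⟨K, hK'K, hK⟩ := hB K'
    refine ⟨K, hjK'.trans hK'K, fun l hjl x => ?_⟩
    -- l' = k₁(l) from essential constancy at max l K
    obtain ⟨l₀, hll₀, hKl₀⟩ := exists_ge_ge l K
    obtain ⟨l', hil', hl₀l', hl'⟩ := h l₀
    have hK'l' : K' ≤ l' := hK'K.trans (hKl₀.trans hl₀l')
    obtain ⟨y, hy⟩ := hK l' hK'l' ((a.app (op K)).hom x)
    -- v(tr y) = 0
    have hw : (b.app (op K')).hom (res B hK'l' y) = 0 := by
      rw [hy, ← nat]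
      have : (a.app (op K')).hom (res A hK'K x) ∈ (a.app (op K')).hom.range := ⟨_, rfl⟩
      rw [← hex, AddMonoidHom.mem_ker] at this
      exact this
    have hw2 : res C hil' ((b.app (op l')).hom y) = 0 := by
      rw [← res_res C hiK' hK'l', ← nat b hK'l', hw, map_zero]
    have hyl : (b.app (op l₀)).hom (res B hl₀l' y) = 0 := by
      rw [nat]
      have h1 := ConcreteCategory.congr_hom hl' ((b.app (op l')).hom y)
      rw [ConcreteCategory.comp_apply, ConcreteCategory.comp_apply] at h1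
      refine h1.trans ?_
      change (c.app (op l₀)).hom (s.hom (res C hil' ((b.app (op l')).hom y))) = 0
      rw [hw2, map_zero, map_zero]
    have hmem : res B hl₀l' y ∈ (b.app (op l₀)).hom.ker := hyl
    rw [hex] at hmem
    obtain ⟨z, hz⟩ := hmem
    refine ⟨res A hll₀ z, ?_⟩
    apply ha (op j)
    rw [nat, nat, nat, hz, res_res, res_res,
      ← res_res B hjK' hK'l', hy, res_res]


end Groth.Agent.S6787
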