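import Groth.Statements.S6790
import Mathlib

set_option autoImplicit false
open CategoryTheory CategoryTheory.Limits MonoidalCategory
universe v u
open CategoryTheory CategoryTheory.Monoidal

namespace Groth.Agent.S6790


open ExactPairing in

/-- In an idempotent-complete additive monoidal category, a direct summand of an object admitting a dual
(with coevaluation `𝟙_ A ⟶ X ⊗ Y` and evaluation `Y ⊗ X ⟶ 𝟙_ A`) again admits such a dual. -/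
theorem result {A : Type u} [Category.{v} A] [Preadditive A] [HasFiniteBiproducts A] [MonoidalCategory A] [MonoidalPreadditive A] [IsIdempotentComplete A] {X X₁ : A} (i : X₁ ⟶ X) (p : X ⟶ X₁) (hip : i ≫ p = 𝟙 X₁) [HasRightDual X] : Nonempty (HasRightDual X₁) := by
  let e : X ⟶ X := p ≫ i
  have he : e ≫ e = e := by
    simp only [e, Category.assoc]
    rw [reassoc_of% hip]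
  have he' : (eᘁ) ≫ (eᘁ) = (eᘁ) := by
    rw [← comp_rightAdjointMate, he]
  obtain ⟨Y₁, j, q, hjq, hqj⟩ := IsIdempotentComplete.idempotents_split (Xᘁ) (eᘁ) he'
  have hie : i ≫ e = i := by
    simp only [e]; rw [reassoc_of% hip]
  have hep : e ≫ p = p := by
    simp only [e, Category.assoc]; rw [hip, Category.comp_id]
  have key1 : (eᘁ) ▷ X₁ ≫ (Xᘁ) ◁ i ≫ ε_ X (Xᘁ) = (Xᘁ) ◁ i ≫ ε_ X (Xᘁ) := by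
    rw [← whisker_exchange_assoc, rightAdjointMate_comp_evaluation, ← whiskerLeft_comp_assoc, hie]
  have key2 : η_ X (Xᘁ) ≫ e ▷ (Xᘁ) ≫ X ◁ q = η_ X (Xᘁ) ≫ X ◁ q := by
    rw [← coevaluation_comp_rightAdjointMate_assoc, ← whiskerLeft_comp, ← hqj, Category.assoc, hjq,
      Category.comp_id]
  refine ⟨@HasRightDual.mk _ _ _ X₁ Y₁ ?_⟩
  exact
  { coevaluation' := η_ X (Xᘁ) ≫ (p ▷ (Xᘁ)) ≫ (X₁ ◁ q)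
    evaluation' := (j ▷ X₁) ≫ ((Xᘁ) ◁ i) ≫ ε_ X (Xᘁ)
    evaluation_coevaluation' := by
      calc
        _ = η_ X (Xᘁ) ▷ X₁ ⊗≫ (p ▷ (Xᘁ) ▷ X₁) ⊗≫ X₁ ◁ ((q ≫ j) ▷ X₁) ⊗≫ X₁ ◁ ((Xᘁ) ◁ i) ⊗≫ X₁ ◁ ε_ X (Xᘁ) := by
          monoidal
        _ = η_ X (Xᘁ) ▷ X₁ ⊗≫ (p ▷ (Xᘁ) ▷ X₁) ⊗≫ X₁ ◁ ((eᘁ) ▷ X₁ ≫ (Xᘁ) ◁ i ≫ ε_ X (Xᘁ)) := by
          rw [hqj]; monoidal
        _ = η_ X (Xᘁ) ▷ X₁ ⊗≫ (p ▷ (Xᘁ) ▷ X₁) ⊗≫ X₁ ◁ ((Xᘁ) ◁ i ≫ ε_ X (Xᘁ)) := by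
          rw [key1]
        _ = η_ X (Xᘁ) ▷ X₁ ⊗≫ (p ▷ ((Xᘁ) ⊗ X₁) ≫ X₁ ◁ ((Xᘁ) ◁ i)) ⊗≫ X₁ ◁ ε_ X (Xᘁ) := by
          monoidal
        _ = 𝟙 _ ⊗≫ (η_ X (Xᘁ) ▷ X₁ ≫ (X ⊗ (Xᘁ)) ◁ i) ⊗≫
            (p ▷ ((Xᘁ) ⊗ X) ≫ X₁ ◁ ε_ X (Xᘁ)) ⊗≫ 𝟙 _ := by
          rw [← whisker_exchange]; monoidal
        _ = 𝟙 _ ⊗≫ i ⊗≫ (η_ X (Xᘁ) ▷ X ⊗≫ X ◁ ε_ X (Xᘁ)) ⊗≫ p ⊗≫ 𝟙 _ := by
          rw [← whisker_exchange, ← whisker_exchange]; monoidal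
        _ = 𝟙 _ ⊗≫ (i ≫ p) ⊗≫ 𝟙 _ := by
          rw [evaluation_coevaluation'']; monoidal
        _ = (λ_ X₁).hom ≫ (ρ_ X₁).inv := by
          rw [hip]
          monoidal
    coevaluation_evaluation' := by
      calc
        _ = Y₁ ◁ η_ X (Xᘁ) ⊗≫ Y₁ ◁ (p ▷ (Xᘁ)) ⊗≫ Y₁ ◁ (X₁ ◁ q) ⊗≫ (j ▷ X₁ ≫ (Xᘁ) ◁ i) ▷ Y₁ ⊗≫ ε_ X (Xᘁ) ▷ Y₁ := by
          monoidal
        _ = Y₁ ◁ η_ X (Xᘁ) ⊗≫ Y₁ ◁ (p ▷ (Xᘁ)) ⊗≫ Y₁ ◁ (X₁ ◁ q ≫ i ▷ Y₁) ⊗≫ (j ▷ X) ▷ Y₁ ⊗≫ ε_ X (Xᘁ) ▷ Y₁ := by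
          rw [← whisker_exchange]; monoidal
        _ = Y₁ ◁ (η_ X (Xᘁ) ≫ e ▷ (Xᘁ) ≫ X ◁ q) ⊗≫ (j ▷ X) ▷ Y₁ ⊗≫ ε_ X (Xᘁ) ▷ Y₁ := by
          rw [whisker_exchange]; simp only [e]; monoidal
        _ = Y₁ ◁ (η_ X (Xᘁ) ≫ X ◁ q) ⊗≫ (j ▷ X) ▷ Y₁ ⊗≫ ε_ X (Xᘁ) ▷ Y₁ := by
          rw [key2]
        _ = Y₁ ◁ η_ X (Xᘁ) ⊗≫ (Y₁ ◁ (X ◁ q) ≫ j ▷ (X ⊗ Y₁)) ⊗≫ ε_ X (Xᘁ) ▷ Y₁ := by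
          monoidal
        _ = 𝟙 _ ⊗≫ (Y₁ ◁ η_ X (Xᘁ) ≫ j ▷ (X ⊗ (Xᘁ))) ⊗≫
            (((Xᘁ) ⊗ X) ◁ q ≫ ε_ X (Xᘁ) ▷ Y₁) ⊗≫ 𝟙 _ := by
          rw [whisker_exchange]; monoidal
        _ = 𝟙 _ ⊗≫ j ⊗≫ ((Xᘁ) ◁ η_ X (Xᘁ) ⊗≫ ε_ X (Xᘁ) ▷ (Xᘁ)) ⊗≫ q ⊗≫ 𝟙 _ := by
          rw [whisker_exchange, whisker_exchange]; monoidal
        _ = 𝟙 _ ⊗≫ (j ≫ q) ⊗≫ 𝟙 _ := by
          rw [coevaluation_evaluation'']; monoidal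
        _ = (ρ_ Y₁).hom ≫ (λ_ Y₁).inv := by
          rw [hjq]
          monoidal }


end Groth.Agent.S6790
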