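import Groth.Statements.S6795
import Mathlib.CategoryTheory.Preadditive.Basic
import Mathlib.CategoryTheory.Limits.Shapes.Kernels
import Mathlib.CategoryTheory.Idempotents.Basic
import Mathlib.CategoryTheory.Limits.Shapes.Countable

set_option autoImplicit false
open CategoryTheory CategoryTheory.Limits
universe v u
open CategoryTheory CategoryTheory.Preadditive

namespace Groth.Agent.S6795

/-- A preadditive category with countable products in which split epimorphisms have kernels is
idempotent complete (Karoubian). -/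
theorem result {D : Type u} [Category.{v} D] [Preadditive D] [HasCountableProducts D] (hk : ∀ ⦃X Y : D⦄ (f : X ⟶ Y), IsSplitEpi f → HasKernel f) : IsIdempotentComplete D := by
  rw [Idempotents.isIdempotentComplete_iff_idempotents_have_kernels]
  intro X e he
  haveI : HasProductsOfShape ℕ D := HasCountableProducts.out ℕ
  let P : D := ∏ᶜ (fun _ : ℕ => X)
  let π : ∀ n : ℕ, P ⟶ X := fun n => Pi.π (fun _ : ℕ => X) n
  have hext : ∀ {W : D} (f g : W ⟶ P), (∀ n, f ≫ π n = g ≫ π n) → f = g :=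
    fun f g h => Pi.hom_ext _ _ h
  let Φ : P ⟶ P := Pi.lift (fun n => π n ≫ e + π (n + 1) ≫ (𝟙 X - e))
  let Ψ : P ⟶ P := Pi.lift (fun n => Nat.casesOn n (π 0) (fun m => π m ≫ (𝟙 X - e) + π (m + 1) ≫ e))
  have hΦ : ∀ n, Φ ≫ π n = π n ≫ e + π (n + 1) ≫ (𝟙 X - e) := fun n => Pi.lift_π _ _
  have hΨ0 : Ψ ≫ π 0 = π 0 := Pi.lift_π _ _
  have hΨs : ∀ m, Ψ ≫ π (m + 1) = π m ≫ (𝟙 X - e) + π (m + 1) ≫ e := fun m => Pi.lift_π _ _
  have e1 : (𝟙 X - e) ≫ e = 0 := by rw [sub_comp, Category.id_comp, he, sub_self]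
  have e2 : e ≫ (𝟙 X - e) = 0 := by rw [comp_sub, Category.comp_id, he, sub_self]
  have e3 : (𝟙 X - e) ≫ (𝟙 X - e) = 𝟙 X - e := Idempotents.idem_of_id_sub_idem e he
  have hΨΦ : Ψ ≫ Φ = 𝟙 P := by
    apply hext
    intro n
    rw [Category.assoc, hΦ, comp_add, ← Category.assoc, ← Category.assoc, hΨs, Category.id_comp]
    cases n with
    | zero =>
      rw [hΨ0, add_comp, Category.assoc, Category.assoc, e3, e2, comp_zero, add_zero,
        ← comp_add, add_sub_cancel, Category.comp_id]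
    | succ m =>
      rw [hΨs, add_comp, add_comp, Category.assoc, Category.assoc, Category.assoc, Category.assoc,
        e1, e2, e3, he, comp_zero, comp_zero, zero_add, add_zero, ← comp_add, add_sub_cancel,
        Category.comp_id]
  haveI : IsSplitEpi Φ := ⟨⟨⟨Ψ, hΨΦ⟩⟩⟩
  haveI : HasKernel Φ := hk Φ inferInstance
  let k : kernel Φ ⟶ P := kernel.ι Φ
  have hk0 : ∀ {W : D} (g : W ⟶ P), g ≫ Φ = 0 → ∀ n, g ≫ π n ≫ e = 0 ∧ g ≫ π (n + 1) = 0 := by
    intro W g hg n
    have h1 : g ≫ π n ≫ e + g ≫ π (n + 1) ≫ (𝟙 X - e) = 0 := by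
      rw [← comp_add, ← hΦ, reassoc_of% hg, zero_comp]
    have h2 : g ≫ π n ≫ e = 0 := by
      have := congrArg (· ≫ e) h1
      simp only [add_comp, Category.assoc, he, e1, comp_zero, add_zero, zero_comp] at this
      exact this
    have h3 : g ≫ π (n + 1) ≫ (𝟙 X - e) = 0 := by
      rw [h2, zero_add] at h1; exact h1
    have h1' : g ≫ π (n + 1) ≫ e + g ≫ π (n + 1 + 1) ≫ (𝟙 X - e) = 0 := by
      rw [← comp_add, ← hΦ, reassoc_of% hg, zero_comp]
    have h4 : g ≫ π (n + 1) ≫ e = 0 := by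
      have := congrArg (· ≫ e) h1'
      simp only [add_comp, Category.assoc, he, e1, comp_zero, add_zero, zero_comp] at this
      exact this
    refine ⟨h2, ?_⟩
    have : g ≫ π (n + 1) = g ≫ π (n + 1) ≫ e + g ≫ π (n + 1) ≫ (𝟙 X - e) := by
      rw [← comp_add, ← comp_add, add_sub_cancel, Category.comp_id]
    rw [this, h3, h4, add_zero]
  have hcond : (k ≫ π 0) ≫ e = 0 := by
    rw [Category.assoc]
    exact (hk0 k (kernel.condition Φ) 0).1
  refine ⟨⟨⟨KernelFork.ofι (k ≫ π 0) hcond, ?_⟩⟩⟩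
  refine KernelFork.IsLimit.ofι _ _ (fun {W} f hf => kernel.lift Φ
      (Pi.lift (fun n => Nat.casesOn n f (fun _ => 0))) ?_) ?_ ?_
  · apply hext
    intro n
    rw [Category.assoc, hΦ, zero_comp, comp_add, ← Category.assoc, ← Category.assoc,
      Pi.lift_π, Pi.lift_π]
    cases n with
    | zero => simp [hf]
    | succ m => simp
  · intro W f hf
    rw [← Category.assoc, kernel.lift_ι, Pi.lift_π]
    rfl
  · intro W f hf m hm
    rw [← cancel_mono k, kernel.lift_ι]
    apply hext
    intro n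
    rw [Pi.lift_π]
    cases n with
    | zero => rw [Category.assoc]; exact hm
    | succ n' =>
      rw [Category.assoc]
      exact ((Category.assoc _ _ _).symm.trans
        (hk0 (m ≫ k) (by rw [Category.assoc, kernel.condition, comp_zero]) n').2)


end Groth.Agent.S6795
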