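import Groth.Statements.S6796
import Mathlib.CategoryTheory.Preadditive.Basic
import Mathlib.CategoryTheory.Limits.Shapes.Kernels
import Mathlib.CategoryTheory.Idempotents.Basic
import Mathlib.CategoryTheory.Limits.Shapes.Countable

set_option autoImplicit false
open CategoryTheory CategoryTheory.Limits
universe v u
open CategoryTheory CategoryTheory.Preadditive

namespace Groth.Agent.S6796

/-- A preadditive category with countable coproducts in which split monomorphisms have cokernels is
idempotent complete (Karoubian). -/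
theorem result {D : Type u} [Category.{v} D] [Preadditive D] [HasCountableCoproducts D] (hk : ∀ ⦃X Y : D⦄ (f : X ⟶ Y), IsSplitMono f → HasCokernel f) : IsIdempotentComplete D := by
  -- every idempotent has a cokernel
  have hcoker : ∀ (X : D) (e : X ⟶ X), e ≫ e = e → HasCokernel e := by
    intro X e he
    haveI : HasCoproductsOfShape ℕ D := HasCountableCoproducts.out ℕ
    let P : D := ∐ (fun _ : ℕ => X)
    let ι : ∀ n : ℕ, X ⟶ P := fun n => Sigma.ι (fun _ : ℕ => X) n
    have hext : ∀ {W : D} (f g : P ⟶ W), (∀ n, ι n ≫ f = ι n ≫ g) → f = g :=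
      fun f g h => Sigma.hom_ext _ _ h
    let Φ : P ⟶ P := Sigma.desc (fun n => e ≫ ι n + (𝟙 X - e) ≫ ι (n + 1))
    let Ψ : P ⟶ P :=
      Sigma.desc (fun n => Nat.casesOn n (ι 0) (fun m => (𝟙 X - e) ≫ ι m + e ≫ ι (m + 1)))
    have hΦ : ∀ n, ι n ≫ Φ = e ≫ ι n + (𝟙 X - e) ≫ ι (n + 1) := fun n => Sigma.ι_desc _ _
    have hΨ0 : ι 0 ≫ Ψ = ι 0 := Sigma.ι_desc _ _
    have hΨs : ∀ m, ι (m + 1) ≫ Ψ = (𝟙 X - e) ≫ ι m + e ≫ ι (m + 1) := fun m => Sigma.ι_desc _ _
    have e1 : (𝟙 X - e) ≫ e = 0 := by rw [sub_comp, Category.id_comp, he, sub_self]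
    have e2 : e ≫ (𝟙 X - e) = 0 := by rw [comp_sub, Category.comp_id, he, sub_self]
    have e3 : (𝟙 X - e) ≫ (𝟙 X - e) = 𝟙 X - e := Idempotents.idem_of_id_sub_idem e he
    have hΦΨ : Φ ≫ Ψ = 𝟙 P := by
      apply hext
      intro n
      rw [← Category.assoc, hΦ, add_comp, Category.assoc, Category.assoc, hΨs, Category.comp_id]
      cases n with
      | zero =>
        rw [hΨ0, comp_add, ← Category.assoc, ← Category.assoc, e3, e1, zero_comp, add_zero,
          ← add_comp, add_sub_cancel, Category.id_comp]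
      | succ m =>
        rw [hΨs, comp_add, comp_add, ← Category.assoc, ← Category.assoc, ← Category.assoc,
          ← Category.assoc, e1, e2, e3, he, zero_comp, zero_comp, zero_add, add_zero, ← add_comp,
          add_sub_cancel, Category.id_comp]
    haveI : IsSplitMono Φ := ⟨⟨⟨Ψ, hΦΨ⟩⟩⟩
    haveI : HasCokernel Φ := hk Φ inferInstance
    let c : P ⟶ cokernel Φ := cokernel.π Φ
    have hk0 : ∀ {W : D} (g : P ⟶ W), Φ ≫ g = 0 → ∀ n, e ≫ ι n ≫ g = 0 ∧ ι (n + 1) ≫ g = 0 := by
      intro W g hg n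
      have h1 : e ≫ ι n ≫ g + (𝟙 X - e) ≫ ι (n + 1) ≫ g = 0 := by
        rw [← Category.assoc, ← Category.assoc, ← add_comp, ← hΦ, Category.assoc, hg, comp_zero]
      have h2 : e ≫ ι n ≫ g = 0 := by
        have := congrArg (e ≫ ·) h1
        simp only [comp_add, ← Category.assoc, he, e2, zero_comp, add_zero, comp_zero] at this
        simpa using this
      have h3 : (𝟙 X - e) ≫ ι (n + 1) ≫ g = 0 := by
        rw [h2, zero_add] at h1; exact h1
      have h1' : e ≫ ι (n + 1) ≫ g + (𝟙 X - e) ≫ ι (n + 1 + 1) ≫ g = 0 := by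
        rw [← Category.assoc, ← Category.assoc, ← add_comp, ← hΦ, Category.assoc, hg, comp_zero]
      have h4 : e ≫ ι (n + 1) ≫ g = 0 := by
        have := congrArg (e ≫ ·) h1'
        simp only [comp_add, ← Category.assoc, he, e2, zero_comp, add_zero, comp_zero] at this
        simpa using this
      refine ⟨h2, ?_⟩
      have : ι (n + 1) ≫ g = e ≫ ι (n + 1) ≫ g + (𝟙 X - e) ≫ ι (n + 1) ≫ g := by
        rw [← add_comp, add_sub_cancel, Category.id_comp]
      rw [this, h3, h4, add_zero]
    have hcond : e ≫ (ι 0 ≫ c) = 0 := (hk0 c (cokernel.condition Φ) 0).1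
    refine ⟨⟨⟨CokernelCofork.ofπ (ι 0 ≫ c) hcond, ?_⟩⟩⟩
    refine CokernelCofork.IsColimit.ofπ _ _ (fun {W} f hf => cokernel.desc Φ
        (Sigma.desc (fun n => Nat.casesOn n f (fun _ => 0))) ?_) ?_ ?_
    · apply hext
      intro n
      rw [← Category.assoc, hΦ, comp_zero, add_comp, Category.assoc, Category.assoc,
        Sigma.ι_desc, Sigma.ι_desc]
      cases n with
      | zero => simp [hf]
      | succ m => simp
    · intro W f hf
      rw [Category.assoc, cokernel.π_desc, Sigma.ι_desc]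
      rfl
    · intro W f hf m hm
      rw [← cancel_epi c, cokernel.π_desc]
      apply hext
      intro n
      rw [Sigma.ι_desc]
      cases n with
      | zero => rw [← Category.assoc]; exact hm
      | succ n' =>
        exact (hk0 (c ≫ m) (by rw [← Category.assoc, cokernel.condition, zero_comp]) n').2
  constructor
  intro X p hp
  have hq : (𝟙 X - p) ≫ (𝟙 X - p) = 𝟙 X - p := Idempotents.idem_of_id_sub_idem p hp
  haveI := hcoker X (𝟙 X - p) hq
  have hqp : (𝟙 X - p) ≫ p = 0 := by rw [sub_comp, Category.id_comp, hp, sub_self]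
  refine ⟨cokernel (𝟙 X - p), cokernel.desc _ p hqp, cokernel.π _, ?_, cokernel.π_desc _ _ _⟩
  rw [← cancel_epi (cokernel.π (𝟙 X - p)), cokernel.π_desc_assoc, Category.comp_id]
  have h1 : (𝟙 X - p) ≫ cokernel.π (𝟙 X - p) = 0 := cokernel.condition _
  rw [sub_comp, Category.id_comp, sub_eq_zero] at h1
  exact h1.symm


end Groth.Agent.S6796
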