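import Groth.Statements.S6801
import Groth.Prelude.Def_SpSeq

set_option autoImplicit false
open CategoryTheory
universe v u
open SpSeq SpSeq.FilObj

namespace Groth.Agent.S6801

open CategoryTheory CategoryTheory.Limits


variable {A : Type u} [Category.{v} A] [Abelian A]

theorem imageSubobject_comp_mono {X Y Z : A} (a : X ⟶ Y) (g : Y ⟶ Z) [Mono g] :
    imageSubobject (a ≫ g) = (Subobject.map g).obj (imageSubobject a) := by
  have h1 : imageSubobject a = Subobject.mk (image.ι a) := rfl
  have h2 : imageSubobject (a ≫ g) = Subobject.mk (image.ι (a ≫ g)) := rfl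
  rw [h1, h2, Subobject.map_mk]
  haveI : StrongEpi (factorThruImage a) := strongEpi_of_epi _
  let e := image.isoStrongEpiMono (factorThruImage a) (image.ι a ≫ g) (f := a ≫ g) (by simp)
  exact (Subobject.mk_eq_mk_of_comm _ _ e (image.isoStrongEpiMono_hom_comp_ι _ _ _)).symm

theorem map_eq_image {Y Z : A} (g : Y ⟶ Z) [Mono g] (S : Subobject Y) :
    (Subobject.map g).obj S = imageSubobject (S.arrow ≫ g) := by
  rw [imageSubobject_comp_mono, imageSubobject_mono, Subobject.mk_arrow]

/-- The composite of two strict morphisms of filtered objects is strict when the second one is a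
monomorphism. (In general a composite of strict morphisms is not strict.) -/
theorem result {A : Type u} [Category.{v} A] [Abelian A] {K L M : SpSeq.FilObj A} (f : K ⟶ L) (g : L ⟶ M) (hf : SpSeq.FilObj.IsStrict f) (hg : SpSeq.FilObj.IsStrict g) [Mono g.hom] : SpSeq.FilObj.IsStrict (f ≫ g) := by
  intro p
  change imageSubobject ((K.fil p).arrow ≫ f.hom ≫ g.hom) = imageSubobject (f.hom ≫ g.hom) ⊓ M.fil p
  rw [← Category.assoc, imageSubobject_comp_mono, hf p, Subobject.inf_map, map_eq_image g.hom (L.fil p),
    hg p, imageSubobject_comp_mono f.hom g.hom, ← inf_assoc]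
  congr 1
  rw [inf_eq_left]
  have := imageSubobject_comp_le f.hom g.hom
  rwa [imageSubobject_comp_mono] at this


end Groth.Agent.S6801
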