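import Groth.Statements.S6802
import Groth.Prelude.Def_SpSeq

set_option autoImplicit false
open CategoryTheory
universe v u
open SpSeq SpSeq.FilObj

namespace Groth.Agent.S6802

open CategoryTheory CategoryTheory.Limits


variable {A : Type u} [Category.{v} A] [Abelian A]

theorem imageSubobject_epi_comp {X' X Y : A} (h : X' ⟶ X) [Epi h] (f : X ⟶ Y) :
    imageSubobject (h ≫ f) = imageSubobject f := by
  have h1 : imageSubobject f = Subobject.mk (image.ι f) := rfl
  have h2 : imageSubobject (h ≫ f) = Subobject.mk (image.ι (h ≫ f)) := rfl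
  rw [h1, h2]
  haveI : StrongEpi (h ≫ factorThruImage f) := strongEpi_of_epi _
  let e := image.isoStrongEpiMono (h ≫ factorThruImage f) (image.ι f) (f := h ≫ f) (by simp)
  exact (Subobject.mk_eq_mk_of_comm _ _ e (image.isoStrongEpiMono_hom_comp_ι _ _ _)).symm

theorem image_arrow_comp {X Y Z : A} (a : X ⟶ Y) (g : Y ⟶ Z) :
    imageSubobject (a ≫ g) = imageSubobject ((imageSubobject a).arrow ≫ g) := by
  conv_lhs => rw [← imageSubobject_arrow_comp a, Category.assoc]
  exact imageSubobject_epi_comp _ _

/-- The composite of two strict morphisms of filtered objects is strict when the first one is an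
epimorphism. -/
theorem result {A : Type u} [Category.{v} A] [Abelian A] {K L M : SpSeq.FilObj A} (f : K ⟶ L) (g : L ⟶ M) (hf : SpSeq.FilObj.IsStrict f) (hg : SpSeq.FilObj.IsStrict g) [Epi f.hom] : SpSeq.FilObj.IsStrict (f ≫ g) := by
  intro p
  change imageSubobject ((K.fil p).arrow ≫ f.hom ≫ g.hom) = imageSubobject (f.hom ≫ g.hom) ⊓ M.fil p
  rw [← Category.assoc, image_arrow_comp, hf p, imageSubobject_epi_comp f.hom g.hom, ← hg p]
  have htop : imageSubobject f.hom = ⊤ := by
    have := imageSubobject_epi_comp f.hom (𝟙 L.obj)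
    rw [Category.comp_id] at this
    rw [this, imageSubobject_mono, Subobject.mk_eq_top_of_isIso]
  rw [htop, top_inf_eq]


end Groth.Agent.S6802
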