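import Groth.Statements.S6815
import Mathlib.AlgebraicTopology.SimplicialObject.Homotopy
import Mathlib.CategoryTheory.Limits.FunctorCategory.Basic
import Mathlib.CategoryTheory.Limits.Shapes.Products

set_option autoImplicit false
open CategoryTheory CategoryTheory.Limits
universe w v u
open CategoryTheory CategoryTheory.SimplicialObject

namespace Groth.Agent.S6815

open CategoryTheory CategoryTheory.SimplicialObject Opposite Simplicial


variable {C : Type u} [Category.{v} C] {T : Type w} [HasLimitsOfShape (Discrete T) C]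

section
variable (Y : T → SimplicialObject C)

instance : HasLimitsOfShape (Discrete T) (SimplicialObject C) := by
  dsimp [SimplicialObject]; infer_instance

/-- the evaluated product cone is a limit. -/
noncomputable def isLim (k : SimplexCategoryᵒᵖ) :
    IsLimit (((evaluation _ _).obj k).mapCone (limit.cone (Discrete.functor Y))) :=
  isLimitOfPreserves _ (limit.isLimit _)

theorem hom_ext_k (k : SimplexCategoryᵒᵖ) {Z : C} (f g : Z ⟶ (∏ᶜ Y).obj k)
    (h : ∀ t, f ≫ (Pi.π Y t).app k = g ≫ (Pi.π Y t).app k) : f = g :=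
  (isLim Y k).hom_ext fun ⟨t⟩ => h t

/-- lifting into the evaluated product. -/
noncomputable def lift_k (k : SimplexCategoryᵒᵖ) {Z : C} (f : ∀ t, Z ⟶ (Y t).obj k) :
    Z ⟶ (∏ᶜ Y).obj k :=
  (isLim Y k).lift ⟨Z, Discrete.natTrans fun ⟨t⟩ => f t⟩

@[reassoc (attr := simp)]
theorem lift_k_π (k : SimplexCategoryᵒᵖ) {Z : C} (f : ∀ t, Z ⟶ (Y t).obj k) (t : T) :
    lift_k Y k f ≫ (Pi.π Y t).app k = f t :=
  (isLim Y k).fac ⟨Z, Discrete.natTrans fun ⟨t⟩ => f t⟩ ⟨t⟩

end

/-- Homotopies between the factors of two product morphisms of simplicial objects assemble to a homotopy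
between the products. -/
theorem result {C : Type u} [Category.{v} C] {T : Type w} [HasLimitsOfShape (Discrete T) C] {X Y : T → SimplicialObject C} (a b : ∀ t, X t ⟶ Y t) (h : ∀ t, Nonempty (SimplicialObject.Homotopy (a t) (b t))) : Nonempty (SimplicialObject.Homotopy (Limits.Pi.map a) (Limits.Pi.map b)) := by
  let H := fun t => (h t).some
  have hπa : ∀ t k, (Limits.Pi.map a).app k ≫ (Pi.π Y t).app k = (Pi.π X t).app k ≫ (a t).app k := by
    intro t k
    rw [← NatTrans.comp_app, ← NatTrans.comp_app, Limits.Pi.map_π]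
  have hπb : ∀ t k, (Limits.Pi.map b).app k ≫ (Pi.π Y t).app k = (Pi.π X t).app k ≫ (b t).app k := by
    intro t k
    rw [← NatTrans.comp_app, ← NatTrans.comp_app, Limits.Pi.map_π]
  refine ⟨{
    h := fun {n} i => lift_k Y (op ⦋n + 1⦌) fun t => (Pi.π X t).app (op ⦋n⦌) ≫ (H t).h i
    h_zero_comp_δ_zero := fun n => hom_ext_k Y _ _ _ fun t => by
      rw [Category.assoc, SimplicialObject.δ_naturality, lift_k_π_assoc, hπb, Category.assoc,
        (H t).h_zero_comp_δ_zero]
    h_last_comp_δ_last := fun n => hom_ext_k Y _ _ _ fun t => by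
      rw [Category.assoc, SimplicialObject.δ_naturality, lift_k_π_assoc, hπa, Category.assoc,
        (H t).h_last_comp_δ_last]
    h_succ_comp_δ_castSucc_of_lt := fun {n} i j hij => hom_ext_k Y _ _ _ fun t => by
      rw [Category.assoc, SimplicialObject.δ_naturality, lift_k_π_assoc, Category.assoc,
        (H t).h_succ_comp_δ_castSucc_of_lt i j hij, Category.assoc, lift_k_π,
        ← SimplicialObject.δ_naturality_assoc]
    h_succ_comp_δ_castSucc_succ := fun {n} j => hom_ext_k Y _ _ _ fun t => by
      rw [Category.assoc, Category.assoc, SimplicialObject.δ_naturality, lift_k_π_assoc,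
        lift_k_π_assoc, Category.assoc, Category.assoc, (H t).h_succ_comp_δ_castSucc_succ j]
    h_castSucc_comp_δ_succ_of_lt := fun {n} i j hji => hom_ext_k Y _ _ _ fun t => by
      rw [Category.assoc, SimplicialObject.δ_naturality, lift_k_π_assoc, Category.assoc,
        (H t).h_castSucc_comp_δ_succ_of_lt i j hji, Category.assoc, lift_k_π,
        ← SimplicialObject.δ_naturality_assoc]
    h_comp_σ_castSucc_of_le := fun {n} i j hij => hom_ext_k Y _ _ _ fun t => by
      rw [Category.assoc, SimplicialObject.σ_naturality, lift_k_π_assoc, Category.assoc,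
        (H t).h_comp_σ_castSucc_of_le i j hij, Category.assoc, lift_k_π,
        ← SimplicialObject.σ_naturality_assoc]
    h_comp_σ_succ_of_lt := fun {n} i j hji => hom_ext_k Y _ _ _ fun t => by
      rw [Category.assoc, SimplicialObject.σ_naturality, lift_k_π_assoc, Category.assoc,
        (H t).h_comp_σ_succ_of_lt i j hji, Category.assoc, lift_k_π,
        ← SimplicialObject.σ_naturality_assoc] }⟩


end Groth.Agent.S6815
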