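import Groth.Statements.S6816
import Mathlib.Algebra.Homology.HomotopyCategory.DegreewiseSplit

set_option autoImplicit false
open CategoryTheory CategoryTheory.Limits
universe v u
open CochainComplex

namespace Groth.Agent.S6816

open CategoryTheory Category Limits Preadditive


open HomologicalComplex CochainComplex HomComplex

variable {C : Type u} [Category.{v} C] [Preadditive C]
variable (S : ShortComplex (CochainComplex C ℤ))
  (σ σ' : ∀ n : ℤ, (S.map (HomologicalComplex.eval C (ComplexShape.up ℤ) n)).Splitting)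

/-- typed retraction -/
def rr (n : ℤ) : S.X₂.X n ⟶ S.X₁.X n := (σ n).r
/-- typed section -/
def ss (n : ℤ) : S.X₃.X n ⟶ S.X₂.X n := (σ n).s

theorem f_rr (n : ℤ) : S.f.f n ≫ rr S σ n = 𝟙 _ := (σ n).f_r
theorem ss_g (n : ℤ) : ss S σ n ≫ S.g.f n = 𝟙 _ := (σ n).s_g
theorem rr_id (n : ℤ) : rr S σ n ≫ S.f.f n + S.g.f n ≫ ss S σ n = 𝟙 _ := (σ n).id

/-- the difference `0`-cochain. -/
def u : Cochain S.X₃ S.X₁ 0 := Cochain.ofHoms (fun n => ss S σ' n ≫ rr S σ n)

theorem cocycle_v (p q : ℤ) (hpq : p + 1 = q) :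
    (cocycleOfDegreewiseSplit S σ).1.v p q hpq = ss S σ p ≫ S.X₂.d p q ≫ rr S σ q := rfl

theorem key : (cocycleOfDegreewiseSplit S σ).1 - (cocycleOfDegreewiseSplit S σ').1 =
    -(δ 0 1 (u S σ σ')) := by
  ext p q hpq
  obtain rfl : q = p + 1 := by omega
  -- (1)
  have h1 : ss S σ' p ≫ rr S σ p ≫ S.X₁.d p (p + 1) =
      ss S σ' p ≫ S.X₂.d p (p + 1) ≫ rr S σ (p + 1) -
        ss S σ p ≫ S.X₂.d p (p + 1) ≫ rr S σ (p + 1) := by
    have e1 : rr S σ p ≫ S.X₁.d p (p + 1) =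
        rr S σ p ≫ S.f.f p ≫ S.X₂.d p (p + 1) ≫ rr S σ (p + 1) := by
      rw [S.f.comm_assoc, f_rr, comp_id]
    have e2 : rr S σ p ≫ S.f.f p = 𝟙 _ - S.g.f p ≫ ss S σ p := by
      rw [← rr_id S σ p]; abel
    rw [e1, reassoc_of% e2, sub_comp, comp_sub, id_comp, assoc, reassoc_of% (ss_g S σ' p)]
  have h2 : S.X₃.d p (p + 1) ≫ ss S σ' (p + 1) ≫ rr S σ (p + 1) =
      ss S σ' p ≫ S.X₂.d p (p + 1) ≫ rr S σ (p + 1) -
        ss S σ' p ≫ S.X₂.d p (p + 1) ≫ rr S σ' (p + 1) := by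
    have e1 : S.X₃.d p (p + 1) = ss S σ' p ≫ S.X₂.d p (p + 1) ≫ S.g.f (p + 1) := by
      rw [← S.g.comm, reassoc_of% (ss_g S σ' p)]
    have e2 : S.g.f (p + 1) ≫ ss S σ' (p + 1) = 𝟙 _ - rr S σ' (p + 1) ≫ S.f.f (p + 1) := by
      rw [← rr_id S σ' (p + 1)]; abel
    rw [e1, assoc, assoc, reassoc_of% e2, sub_comp, comp_sub, comp_sub, id_comp, assoc,
      f_rr, comp_id]
  rw [Cochain.sub_v, Cochain.neg_v, δ_v 0 1 (zero_add 1) _ p (p + 1) rfl p (p + 1) (by omega) rfl,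
    cocycle_v, cocycle_v]
  simp only [u, Cochain.ofHoms_v, Int.negOnePow_one, Units.neg_smul, one_smul, assoc]
  rw [h1, h2]
  abel

/-- The boundary morphisms `C ⟶ A⟦1⟧` attached to two degreewise splittings of a degreewise split
sequence `A ⟶ B ⟶ C` of cochain complexes are homotopic. -/
theorem result {C : Type u} [Category.{v} C] [Preadditive C] [HasBinaryBiproducts C] (S : ShortComplex (CochainComplex C ℤ)) (σ σ' : ∀ n : ℤ, (S.map (HomologicalComplex.eval C (ComplexShape.up ℤ) n)).Splitting) : Nonempty (Homotopy (CochainComplex.homOfDegreewiseSplit S σ) (CochainComplex.homOfDegreewiseSplit S σ')) := by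
  refine ⟨(Cochain.equivHomotopy _ _).symm ⟨(u S σ σ').rightShift 1 (-1) (by omega), ?_⟩⟩
  have h1 : Cochain.ofHom (homOfDegreewiseSplit S σ) =
      (cocycleOfDegreewiseSplit S σ).1.rightShift 1 0 (zero_add 1) :=
    Cocycle.cochain_ofHom_homOf_eq_coe _
  have h2 : Cochain.ofHom (homOfDegreewiseSplit S σ') =
      (cocycleOfDegreewiseSplit S σ').1.rightShift 1 0 (zero_add 1) :=
    Cocycle.cochain_ofHom_homOf_eq_coe _
  rw [h1, h2, Cochain.δ_rightShift _ 1 (-1) 0 (by omega) 1 (zero_add 1), Int.negOnePow_one,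
    Units.neg_smul, one_smul, ← Cochain.rightShift_neg, ← key, sub_eq_add_neg,
    Cochain.rightShift_add, Cochain.rightShift_neg]
  abel


end Groth.Agent.S6816
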