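import Groth.Statements.S6863
import Mathlib
import Groth.Agent.S14346

set_option autoImplicit false
universe u
open TensorProduct
open CAlg

namespace Groth.Agent.S6863

open scoped TensorProduct

universe v w

/-- Lemma A: an endomorphism of a finite module congruent to the identity modulo an ideal in the
Jacobson radical is bijective. -/
theorem bijective_of_sub_mem {R : Type u} [CommRing R] (I : Ideal R)
    (hI : I ≤ Ideal.jacobson (⊥ : Ideal R)) {F : Type v} [AddCommGroup F] [Module R F]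
    [Module.Finite R F] (g : F →ₗ[R] F) (hg : ∀ v, g v - v ∈ I • (⊤ : Submodule R F)) :
    Function.Bijective g := by
  have hsurj : Function.Surjective g := by
    rw [← LinearMap.range_eq_top, eq_top_iff]
    refine Submodule.le_of_le_smul_of_le_jacobson_bot Module.Finite.fg_top hI ?_
    intro v _
    have : v = g v - (g v - v) := by abel
    rw [this]
    exact Submodule.sub_mem _ (Submodule.mem_sup_left (LinearMap.mem_range_self g v))
      (Submodule.mem_sup_right (hg v))
  exact OrzechProperty.bijective_of_surjective_endomorphism g hsurj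

theorem lemmaB {R : Type u} [CommRing R] (I : Ideal R)
    (hI : I ≤ Ideal.jacobson (⊥ : Ideal R)) {F₁ F₂ P N' : Type v}
    [AddCommGroup F₁] [Module R F₁] [AddCommGroup F₂] [Module R F₂]
    [AddCommGroup P] [Module R P] [AddCommGroup N'] [Module R N']
    [Module.Projective R F₁] [Module.Projective R F₂] [Module.Finite R F₂]
    (q₁ : F₁ →ₗ[R] P) (q₂ : F₂ →ₗ[R] N') (hq₁ : Function.Surjective q₁)
    (hq₂ : Function.Surjective q₂) (hk₁ : LinearMap.ker q₁ = I • (⊤ : Submodule R F₁))
    (hk₂ : LinearMap.ker q₂ = I • (⊤ : Submodule R F₂))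
    (p : P →ₗ[R] N') (j : N' →ₗ[R] P) (hpj : p ∘ₗ j = LinearMap.id) :
    ∃ (π : F₁ →ₗ[R] F₂) (s : F₂ →ₗ[R] F₁), π ∘ₗ s = LinearMap.id ∧
      ∃ φ : LinearMap.ker π →ₗ[R] LinearMap.ker p, Function.Surjective φ ∧
        LinearMap.ker φ = I • (⊤ : Submodule R (LinearMap.ker π)) := by
  obtain ⟨π, hπ⟩ := Module.projective_lifting_property q₂ (p ∘ₗ q₁) hq₂
  obtain ⟨s₀, hs₀⟩ := Module.projective_lifting_property q₁ (j ∘ₗ q₂) hq₁
  have hπ' : ∀ v, q₂ (π v) = p (q₁ v) := fun v => LinearMap.congr_fun hπ v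
  have hs₀' : ∀ v, q₁ (s₀ v) = j (q₂ v) := fun v => LinearMap.congr_fun hs₀ v
  have hpj' : ∀ v, p (j v) = v := fun v => LinearMap.congr_fun hpj v
  have hg : ∀ v, (π ∘ₗ s₀) v - v ∈ I • (⊤ : Submodule R F₂) := by
    intro v
    rw [← hk₂, LinearMap.mem_ker, map_sub, LinearMap.comp_apply, hπ', hs₀', hpj', sub_self]
  have hbij := bijective_of_sub_mem I hI (π ∘ₗ s₀) hg
  let ge := LinearEquiv.ofBijective (π ∘ₗ s₀) hbij
  let s : F₂ →ₗ[R] F₁ := s₀ ∘ₗ ge.symm.toLinearMap
  have hπs : ∀ v, π (s v) = v := by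
    intro v
    have : (π ∘ₗ s₀) (ge.symm v) = v := ge.apply_symm_apply v
    exact this
  refine ⟨π, s, LinearMap.ext hπs, ?_⟩
  have hmaps : ∀ v : LinearMap.ker π, q₁ v ∈ LinearMap.ker p := by
    intro v
    rw [LinearMap.mem_ker, ← hπ', (LinearMap.mem_ker.mp v.2), map_zero]
  let φ : LinearMap.ker π →ₗ[R] LinearMap.ker p :=
    (q₁.domRestrict (LinearMap.ker π)).codRestrict (LinearMap.ker p) hmaps
  have hφ : ∀ v : LinearMap.ker π, ((φ v : LinearMap.ker p) : P) = q₁ v := fun v => rfl
  have hmapI : ∀ {A B : Type v} [AddCommGroup A] [Module R A] [AddCommGroup B] [Module R B]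
      (L : A →ₗ[R] B) (a : A), a ∈ I • (⊤ : Submodule R A) → L a ∈ I • (⊤ : Submodule R B) := by
    intro A B _ _ _ _ L a ha
    have h2 : (I • (⊤ : Submodule R A)).map L ≤ I • (⊤ : Submodule R B) := by
      rw [Submodule.map_smul'']
      exact Submodule.smul_mono le_rfl le_top
    exact h2 (Submodule.mem_map_of_mem ha)
  refine ⟨φ, ?_, ?_⟩
  · rintro ⟨w, hw⟩
    obtain ⟨v, rfl⟩ := hq₁ w
    have h1 : π v ∈ I • (⊤ : Submodule R F₂) := by
      rw [← hk₂, LinearMap.mem_ker, hπ']
      exact hw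
    have h2 : v - s (π v) ∈ LinearMap.ker π := by
      rw [LinearMap.mem_ker, map_sub, hπs, sub_self]
    refine ⟨⟨v - s (π v), h2⟩, ?_⟩
    apply Subtype.ext
    rw [hφ]
    simp only [map_sub]
    have h3 : s (π v) ∈ LinearMap.ker q₁ := by
      rw [hk₁]
      exact hmapI s _ h1
    rw [LinearMap.mem_ker.mp h3, sub_zero]
  · let ρ : F₁ →ₗ[R] LinearMap.ker π :=
      (LinearMap.id - s ∘ₗ π).codRestrict (LinearMap.ker π) (by
        intro v
        rw [LinearMap.mem_ker, LinearMap.sub_apply, map_sub, LinearMap.comp_apply, hπs]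
        simp)
    have hρ : ∀ v : LinearMap.ker π, ρ v = v := by
      intro v
      apply Subtype.ext
      simp only [ρ, LinearMap.codRestrict_apply, LinearMap.sub_apply, LinearMap.id_apply,
        LinearMap.comp_apply]
      rw [LinearMap.mem_ker.mp v.2, map_zero, sub_zero]
    ext v
    rw [LinearMap.mem_ker]
    constructor
    · intro hv
      have h1 : (v : F₁) ∈ I • (⊤ : Submodule R F₁) := by
        rw [← hk₁, LinearMap.mem_ker, ← hφ, hv]
        rfl
      rw [← hρ v]
      exact hmapI ρ _ h1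
    · intro hv
      have h1 : (v : F₁) ∈ I • (⊤ : Submodule R F₁) := hmapI (LinearMap.ker π).subtype v hv
      rw [← hk₁, LinearMap.mem_ker] at h1
      apply Subtype.ext
      rw [hφ, h1]
      rfl


theorem lemmaC {R : Type u} [CommRing R] (I : Ideal R) {M : Type v} {E' : Type w}
    [AddCommGroup M] [Module R M] [AddCommGroup E'] [Module R E'] [Module (R ⧸ I) E']
    [IsScalarTower R (R ⧸ I) E'] (φ : M →ₗ[R] E') (hφ : Function.Surjective φ)
    (hk : LinearMap.ker φ = I • (⊤ : Submodule R M)) :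
    Nonempty ((R ⧸ I) ⊗[R] M ≃ₗ[R ⧸ I] E') := by
  let e1 := TensorProduct.quotTensorEquivQuotSMul M I
  let e2 := Submodule.quotEquivOfEq _ _ hk.symm
  let e3 := φ.quotKerEquivOfSurjective hφ
  exact ⟨LinearEquiv.extendScalarsOfSurjective Ideal.Quotient.mk_surjective (e1 ≪≫ₗ e2 ≪≫ₗ e3)⟩

theorem mem_smul_top_pi {R : Type u} [CommRing R] (I : Ideal R) {ι : Type*} [Fintype ι]
    [DecidableEq ι] (v : ι → R) : v ∈ I • (⊤ : Submodule R (ι → R)) ↔ ∀ i, v i ∈ I := by
  constructor
  · intro hv
    refine Submodule.smul_induction_on hv ?_ ?_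
    · intro c hc w _ i
      rw [Pi.smul_apply, smul_eq_mul]
      exact Ideal.mul_mem_right _ _ hc
    · intro y z hy hz i
      exact Ideal.add_mem _ (hy i) (hz i)
  · intro hv
    rw [pi_eq_sum_univ' v]
    exact Submodule.sum_mem _ (fun i _ => Submodule.smul_mem_smul (hv i) trivial)

theorem lemmaQ {R : Type u} [CommRing R] (I : Ideal R) {P : Type v} [AddCommGroup P]
    [Module R P] [Module (R ⧸ I) P] [IsScalarTower R (R ⧸ I) P] {ι : Type*} [Fintype ι]
    [DecidableEq ι] (b : Module.Basis ι (R ⧸ I) P) :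
    Function.Surjective (Fintype.linearCombination R (⇑b)) ∧
      LinearMap.ker (Fintype.linearCombination R (⇑b)) = I • (⊤ : Submodule R (ι → R)) := by
  have hq : ∀ v : ι → R, Fintype.linearCombination R (⇑b) v =
      b.equivFun.symm (fun i => Ideal.Quotient.mk I (v i)) := by
    intro v
    rw [Fintype.linearCombination_apply, Module.Basis.equivFun_symm_apply]
    refine Finset.sum_congr rfl (fun i _ => ?_)
    rw [← algebraMap_smul (R ⧸ I) (v i) (b i)]
    rfl
  constructor
  · intro w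
    choose c hc using fun i => Ideal.Quotient.mk_surjective (b.equivFun w i)
    refine ⟨c, ?_⟩
    rw [hq]
    simp_rw [hc]
    exact b.equivFun.symm_apply_apply w
  · ext v
    rw [LinearMap.mem_ker, hq, mem_smul_top_pi, LinearEquiv.map_eq_zero_iff]
    constructor
    · intro h i
      have := congrFun h i
      exact Ideal.Quotient.eq_zero_iff_mem.mp this
    · intro h
      funext i
      exact Ideal.Quotient.eq_zero_iff_mem.mpr (h i)

theorem lemmaD {R : Type u} [CommRing R] (I : Ideal R)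
    (hI : I ≤ Ideal.jacobson (⊥ : Ideal R)) [Nontrivial (R ⧸ I)] (E N' : Type u)
    [AddCommGroup E] [Module R E] [Module (R ⧸ I) E] [IsScalarTower R (R ⧸ I) E]
    [AddCommGroup N'] [Module R N'] [Module (R ⧸ I) N'] [IsScalarTower R (R ⧸ I) N']
    [Module.Finite (R ⧸ I) E] [Module.Finite (R ⧸ I) N'] [Module.Free (R ⧸ I) N']
    [Module.Free (R ⧸ I) (E × N')] :
    ∃ (M : Type u) (_ : AddCommGroup M) (_ : Module R M), Module.Finite R M ∧
      Module.IsStablyFree R M ∧ Nonempty ((R ⧸ I) ⊗[R] M ≃ₗ[R ⧸ I] E) := by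
  classical
  let bP := Module.finBasis (R ⧸ I) (E × N')
  let bN := Module.finBasis (R ⧸ I) N'
  obtain ⟨hq₁, hk₁⟩ := lemmaQ I bP
  obtain ⟨hq₂, hk₂⟩ := lemmaQ I bN
  obtain ⟨π, s, hπs, φ, hφ, hkφ⟩ := lemmaB I hI (Fintype.linearCombination R (⇑bP))
    (Fintype.linearCombination R (⇑bN)) hq₁ hq₂ hk₁ hk₂ (LinearMap.snd R E N')
    (LinearMap.inr R E N') (LinearMap.snd_comp_inr R E N')
  let eq := Groth.Agent.S14346.equivProdKer π s hπs
  refine ⟨LinearMap.ker π, inferInstance, inferInstance, ?_, ?_, ?_⟩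
  · let g : (Fin (Module.finrank (R ⧸ I) (E × N')) → R) →ₗ[R] LinearMap.ker π :=
      (LinearMap.snd R (Fin (Module.finrank (R ⧸ I) N') → R) (LinearMap.ker π)) ∘ₗ eq.toLinearMap
    have hg : Function.Surjective g := by
      intro y
      exact ⟨eq.symm (0, y), by simp [g]⟩
    exact Module.Finite.of_surjective g hg
  · haveI : Module.Free R ((Fin (Module.finrank (R ⧸ I) N') → R) × LinearMap.ker π) :=
      Module.Free.of_equiv eq
    exact Module.IsStablyFree.of_free_prod' R (LinearMap.ker π)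
      (Fin (Module.finrank (R ⧸ I) N') → R)
  · let ψ : LinearMap.ker (LinearMap.snd R E N') →ₗ[R] E :=
      (LinearMap.fst R E N') ∘ₗ (LinearMap.ker (LinearMap.snd R E N')).subtype
    have hψinj : Function.Injective ψ := by
      rw [← LinearMap.ker_eq_bot, eq_bot_iff]
      rintro ⟨⟨e, n⟩, hn⟩ h0
      rw [LinearMap.mem_ker] at hn h0
      simp only [LinearMap.snd_apply] at hn
      simp only [ψ, LinearMap.comp_apply, Submodule.subtype_apply, LinearMap.fst_apply] at h0
      rw [Submodule.mem_bot]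
      apply Subtype.ext
      exact Prod.ext h0 hn
    have hψsurj : Function.Surjective ψ := by
      intro e
      exact ⟨⟨(e, 0), by simp⟩, rfl⟩
    refine lemmaC I (ψ ∘ₗ φ) (hψsurj.comp hφ) ?_
    rw [LinearMap.ker_comp, LinearMap.ker_eq_bot.mpr hψinj, Submodule.comap_bot, hkφ]

/-- Let `I` be an ideal of a commutative ring `R` contained in the Jacobson radical (equivalently, `1 +
i` is a unit for each `i ∈ I`). Then each finitely generated stably free module `E` over `R/I`
lifts: there is a finite stably free `R`-module `M` with `M/IM ≅ E` (existence of an isomorphism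
only; the published statement names no map). -/
theorem result {R : Type u} [CommRing R] (I : Ideal R)
    (hI : I ≤ Ideal.jacobson (⊥ : Ideal R)) (E : Type u) [AddCommGroup E] [Module (R ⧸ I) E]
    [Module.Finite (R ⧸ I) E] [Module.IsStablyFree (R ⧸ I) E] :
    ∃ (M : Type u) (_ : AddCommGroup M) (_ : Module R M), Module.Finite R M ∧ Module.IsStablyFree R M ∧
      Nonempty ((R ⧸ I) ⊗[R] M ≃ₗ[R ⧸ I] E) := by
  rcases subsingleton_or_nontrivial (R ⧸ I) with hsub | hnt
  · haveI : Subsingleton E := Module.subsingleton (R ⧸ I) E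
    haveI : Subsingleton ((R ⧸ I) ⊗[R] PUnit.{u+1}) := Module.subsingleton (R ⧸ I) _
    exact ⟨PUnit.{u+1}, inferInstance, inferInstance, inferInstance, inferInstance,
      ⟨LinearEquiv.ofSubsingleton _ _⟩⟩
  · obtain ⟨N', _, _, hfin, hfree, hPfree⟩ := Module.IsStablyFree.exist_free_prod (R ⧸ I) E
    letI : Module R E := Module.compHom E (Ideal.Quotient.mk I)
    haveI : IsScalarTower R (R ⧸ I) E := IsScalarTower.of_algebraMap_smul (fun _ _ => rfl)
    letI : Module R N' := Module.compHom N' (Ideal.Quotient.mk I)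
    haveI : IsScalarTower R (R ⧸ I) N' := IsScalarTower.of_algebraMap_smul (fun _ _ => rfl)
    exact lemmaD I hI E N'


end Groth.Agent.S6863
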