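import Groth.Statements.S6864
import Mathlib

set_option autoImplicit false
universe u
open TensorProduct
open CAlg

namespace Groth.Agent.S6864


lemma one_tmul_eq_zero_iff {R : Type*} [CommRing R] (I : Ideal R) {M : Type*} [AddCommGroup M]
    [Module R M] (m : M) :
    ((1 : R ⧸ I) ⊗ₜ[R] m = 0) ↔ m ∈ I • (⊤ : Submodule R M) := by
  rw [← (TensorProduct.quotTensorEquivQuotSMul M I).map_eq_zero_iff]
  have : (1 : R ⧸ I) = Ideal.Quotient.mk I 1 := rfl
  rw [this, TensorProduct.quotTensorEquivQuotSMul_mk_tmul, one_smul, Submodule.Quotient.mk_eq_zero]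

lemma exists_one_tmul {R : Type*} [CommRing R] (I : Ideal R) {M : Type*} [AddCommGroup M]
    [Module R M] (z : (R ⧸ I) ⊗[R] M) : ∃ m : M, (1 : R ⧸ I) ⊗ₜ[R] m = z := by
  induction z with
  | zero => exact ⟨0, tmul_zero _ _⟩
  | tmul a m =>
    obtain ⟨r, rfl⟩ := Ideal.Quotient.mk_surjective a
    refine ⟨r • m, ?_⟩
    rw [tmul_smul, smul_tmul']
    congr 1
    rw [← Ideal.Quotient.algebraMap_eq, Algebra.smul_def, mul_one]
  | add x y hx hy =>
    obtain ⟨m, rfl⟩ := hx
    obtain ⟨n, rfl⟩ := hy
    exact ⟨m + n, tmul_add _ _ _⟩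

/-- Let `I` be an ideal of a commutative ring `R` contained in the Jacobson radical and let `φ : P → P'`
be an `R`-linear map between finite projective `R`-modules. If the induced map `P/IP → P'/IP'` is
bijective, then `φ` is bijective. -/
theorem result {R : Type u} [CommRing R] (I : Ideal R)
    (hI : I ≤ Ideal.jacobson (⊥ : Ideal R)) {P P' : Type u}
    [AddCommGroup P] [Module R P] [Module.Finite R P] [Module.Projective R P]
    [AddCommGroup P'] [Module R P'] [Module.Finite R P'] [Module.Projective R P'] (φ : P →ₗ[R] P')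
    (h : Function.Bijective (φ.baseChange (R ⧸ I))) : Function.Bijective φ := by
  have hsurj : Function.Surjective φ := by
    rw [← LinearMap.range_eq_top]
    apply top_le_iff.mp
    apply Submodule.le_of_le_smul_of_le_jacobson_bot (Module.Finite.fg_top) hI
    intro y _
    obtain ⟨z, hz⟩ := h.2 ((1 : R ⧸ I) ⊗ₜ[R] y)
    obtain ⟨x, rfl⟩ := exists_one_tmul I z
    rw [LinearMap.baseChange_tmul, ← sub_eq_zero, ← tmul_sub, one_tmul_eq_zero_iff] at hz
    have : y = φ x - (φ x - y) := by abel
    rw [this]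
    exact Submodule.sub_mem _ (Submodule.mem_sup_left ⟨x, rfl⟩) (Submodule.mem_sup_right hz)
  refine ⟨?_, hsurj⟩
  obtain ⟨s, hs⟩ := Module.projective_lifting_property φ LinearMap.id hsurj
  have hs' : ∀ y, φ (s y) = y := fun y => LinearMap.congr_fun hs y
  let e : P →ₗ[R] P := LinearMap.id - s ∘ₗ φ
  have he : ∀ p, φ (e p) = 0 := by
    intro p
    simp [e, hs']
  have heK : ∀ x, φ x = 0 → e x = x := by
    intro x hx
    simp [e, hx]
  have hKfg : (LinearMap.ker φ).FG := by
    have : LinearMap.ker φ = LinearMap.range e := by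
      apply le_antisymm
      · intro x hx
        exact ⟨x, heK x hx⟩
      · rintro _ ⟨p, rfl⟩
        exact he p
    rw [this, LinearMap.range_eq_map]
    exact Module.Finite.fg_top.map e
  have hK : LinearMap.ker φ = ⊥ := by
    apply Submodule.eq_bot_of_le_smul_of_le_jacobson_bot I _ hKfg _ hI
    intro x hx
    have h0 : (φ.baseChange (R ⧸ I)) ((1 : R ⧸ I) ⊗ₜ[R] x) = 0 := by
      rw [LinearMap.baseChange_tmul, LinearMap.mem_ker.mp hx, tmul_zero]
    have h1 : (1 : R ⧸ I) ⊗ₜ[R] x = 0 := h.1 (h0.trans (map_zero _).symm)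
    rw [one_tmul_eq_zero_iff] at h1
    rw [← heK x hx]
    have : (I • (⊤ : Submodule R P)).map e ≤ I • LinearMap.ker φ := by
      rw [Submodule.map_smul'']
      apply Submodule.smul_mono le_rfl
      rintro _ ⟨p, _, rfl⟩
      exact he p
    exact this (Submodule.mem_map_of_mem h1)
  exact LinearMap.ker_eq_bot.mp hK


end Groth.Agent.S6864
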