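import Groth.Statements.S6866
import Mathlib

set_option autoImplicit false
universe u
open TensorProduct
open CAlg

namespace Groth.Agent.S6866

/-- If `M` is a torsion free module over a domain `R` and `R → R'` is a flat ring map to another domain,
then `R' ⊗_R M` is torsion free over `R'`. -/
theorem result (R R' : Type u) [CommRing R] [IsDomain R] [CommRing R']
    [IsDomain R'] [Algebra R R'] [Module.Flat R R'] (M : Type u) [AddCommGroup M] [Module R M]
    [Module.IsTorsionFree R M] : Module.IsTorsionFree R' (R' ⊗[R] M) := by
  let V := LocalizedModule (nonZeroDivisors R) M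
  let f : M →ₗ[R] V := LocalizedModule.mkLinearMap (nonZeroDivisors R) M
  have hf : Function.Injective f := by
    rw [← LinearMap.ker_eq_bot, LinearMap.ker_eq_bot']
    intro m hm
    obtain ⟨c, hc⟩ := (IsLocalizedModule.eq_zero_iff (nonZeroDivisors R) f).mp hm
    have hreg : IsRegular (c : R) := isRegular_iff_mem_nonZeroDivisors.mpr c.2  
    have := hreg.isSMulRegular (M := M)
    exact this (by show (c : R) • m = (c : R) • (0 : M); rw [smul_zero]; exact hc)
  haveI : Module.Flat (FractionRing R) V := inferInstance
  haveI : Module.Flat R V := Module.Flat.trans R (FractionRing R) V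
  haveI : Module.Flat R' (R' ⊗[R] V) := inferInstance
  haveI : Module.IsTorsionFree R' (R' ⊗[R] V) := inferInstance
  have hinj : Function.Injective (f.baseChange R') := by
    rw [LinearMap.baseChange_eq_ltensor]
    exact Module.Flat.lTensor_preserves_injective_linearMap f hf
  exact Function.Injective.moduleIsTorsionFree (f.baseChange R') hinj (fun r m => map_smul _ r m)


end Groth.Agent.S6866
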