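import Groth.Statements.S6868
import Groth.Agent.S2085

set_option autoImplicit false
universe u
open CAlg

namespace Groth.Agent.S6868

/-- (1) ⇔ (3) ⇔ (4): for a Noetherian domain `R` and a nonzero finite `R`-module `M`, torsion-freeness
of `M` is equivalent to `(0)` being the unique associated prime of `M`, and also to the conjunction:
`(0)` belongs to the support of `M` and `M` satisfies Serre's condition `(S_1)`. (The published
statement also lists embedding into a finite free module and the absence of embedded associated
primes; this row states the other three conditions.) -/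
theorem result (R : Type u) [CommRing R]
    [IsDomain R] [IsNoetherianRing R] (M : Type u) [AddCommGroup M] [Module R M] [Module.Finite R M] [Nontrivial M] :
    (Module.IsTorsionFree R M ↔ associatedPrimes R M = {⊥}) ∧
    (Module.IsTorsionFree R M ↔
      (⟨⊥, Ideal.isPrime_bot⟩ : PrimeSpectrum R) ∈ Module.support R M ∧ LocCoh.HasSk 1 R M) := by
  have hne : (associatedPrimes R M).Nonempty := associatedPrimes.nonempty R M
  have key : Module.IsTorsionFree R M ↔ associatedPrimes R M = {⊥} := by
    constructor
    · intro htf
      have hbot : ∀ p ∈ associatedPrimes R M, p ≤ ⊥ := by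
        intro p hp r hr
        obtain ⟨hprime, f, hf⟩ := (isAssociatedPrime_iff_exists_injective_linearMap p M).mp hp
        have h1 : r • f 1 = 0 := by
          rw [← map_smul]
          have : r • (1 : R ⧸ p) = 0 := by
            rw [Algebra.smul_def, mul_one]
            exact Ideal.Quotient.eq_zero_iff_mem.mpr hr
          rw [this, map_zero]
        have hx0 : f 1 ≠ 0 := by
          intro h0
          have h2 : (1 : R ⧸ p) = 0 := hf (h0.trans (map_zero f).symm)
          haveI : Nontrivial (R ⧸ p) := Ideal.Quotient.nontrivial_iff.mpr hprime.ne_top
          exact one_ne_zero h2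
        rcases smul_eq_zero.mp h1 with h | h
        · exact h
        · exact absurd h hx0
      apply Set.Subset.antisymm
      · intro p hp
        rw [Set.mem_singleton_iff, eq_bot_iff]
        exact hbot p hp
      · obtain ⟨p, hp⟩ := hne
        have : p = ⊥ := by
          rw [eq_bot_iff]
          exact hbot p hp
        intro q hq
        rw [Set.mem_singleton_iff] at hq
        rw [hq, ← this]
        exact hp
    · intro hass
      refine ⟨fun r hr => ?_⟩
      have h1 := biUnion_associatedPrimes_eq_compl_regular R M
      by_contra hcon
      have h2 : r ∈ { r : R | IsSMulRegular M r }ᶜ := hcon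
      rw [← h1, hass] at h2
      simp only [Set.mem_singleton_iff, Set.iUnion_iUnion_eq_left, SetLike.mem_coe,
        Ideal.mem_bot] at h2
      exact hr.ne_zero h2
  refine ⟨key, ?_⟩
  rw [key, ← Groth.Agent.S2085.result]
  constructor
  · intro hass
    have hbot : (⊥ : Ideal R) ∈ associatedPrimes R M := by rw [hass]; rfl
    have hann : Module.annihilator R M = ⊥ :=
      eq_bot_iff.mpr (H6.CM.annihilator_le_of_mem_associatedPrimes hbot)
    refine ⟨?_, ?_⟩
    · rw [Module.mem_support_iff_of_finite]
      exact H6.CM.annihilator_le_of_mem_associatedPrimes hbot
    · intro p hp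
      rw [hass, Set.mem_singleton_iff] at hp
      rw [hp, hann, Ideal.minimalPrimes_eq_subsingleton_self]
      rfl
  · rintro ⟨hsupp, hmin⟩
    rw [Module.mem_support_iff_of_finite] at hsupp
    have hann : Module.annihilator R M = ⊥ := eq_bot_iff.mpr hsupp
    rw [hann, Ideal.minimalPrimes_eq_subsingleton_self] at hmin
    apply Set.Subset.antisymm
    · intro p hp
      exact hmin p hp
    · obtain ⟨p, hp⟩ := hne
      intro q hq
      rw [Set.mem_singleton_iff] at hq
      have := hmin p hp
      rw [Set.mem_singleton_iff] at this
      rw [hq, ← this]
      exact hp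

end Groth.Agent.S6868
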