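import Groth.Statements.S6871
import Mathlib
import Groth.Agent.H4.Reflexive4

set_option autoImplicit false
universe u
open CAlg

namespace Groth.Agent.S6871

open Groth.Agent.H4.Reflexive



/-- Let `R` be a Noetherian domain and `M` a finite `R`-module. Then `M` is reflexive if and only if
`M_𝔭` is a reflexive `R_𝔭`-module for every prime `𝔭`, if and only if `M_𝔪` is a reflexive
`R_𝔪`-module for every maximal ideal `𝔪`. -/
theorem result (R : Type u) [CommRing R] [IsDomain R] [IsNoetherianRing R] (M : Type u)
    [AddCommGroup M] [Module R M] [Module.Finite R M] :
    (Module.IsReflexive R M ↔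
      ∀ (p : Ideal R) [p.IsPrime], Module.IsReflexive (Localization.AtPrime p) (LocalizedModule p.primeCompl M)) ∧
    (Module.IsReflexive R M ↔
      ∀ (m : Ideal R) (_ : m.IsMaximal),
        Module.IsReflexive (Localization.AtPrime m) (LocalizedModule m.primeCompl M)) := by
  haveI := finite_dual R M
  haveI : Module.FinitePresentation R M := Module.finitePresentation_of_finite R M
  haveI : Module.FinitePresentation R (Module.Dual R M) := Module.finitePresentation_of_finite R _
  have hloc : Module.IsReflexive R M → ∀ (p : Ideal R) [p.IsPrime],
      Module.IsReflexive (Localization.AtPrime p) (LocalizedModule p.primeCompl M) := by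
    intro h p _
    exact isReflexive_localization p.primeCompl (Localization.AtPrime p)
      (LocalizedModule.mkLinearMap p.primeCompl M)
  have hglob : (∀ (m : Ideal R) (_ : m.IsMaximal),
        Module.IsReflexive (Localization.AtPrime m) (LocalizedModule m.primeCompl M)) →
      Module.IsReflexive R M := by
    intro H
    constructor
    refine bijective_of_isLocalized_maximal
      (fun P _ => LocalizedModule P.primeCompl M)
      (fun P _ => LocalizedModule.mkLinearMap P.primeCompl M)
      (fun P _ => Module.Dual (Localization.AtPrime P)
        (Module.Dual (Localization.AtPrime P) (LocalizedModule P.primeCompl M)))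
      (fun P _ => ddualLoc P.primeCompl (Localization.AtPrime P)
        (LocalizedModule.mkLinearMap P.primeCompl M))
      (Module.Dual.eval R M) ?_
    intro P hP
    rw [map_eval_eq]
    haveI := H P hP
    exact Module.bijective_dual_eval (Localization.AtPrime P) (LocalizedModule P.primeCompl M)
  refine ⟨⟨hloc, fun H => hglob (fun m hm => ?_)⟩, ⟨fun h m hm => ?_, hglob⟩⟩
  · haveI := hm.isPrime
    exact H m
  · haveI := hm.isPrime
    exact hloc h m


end Groth.Agent.S6871
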