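import Groth.Statements.S6874
import Mathlib
import Groth.Agent.H4.Reflexive3

set_option autoImplicit false
universe u
open TensorProduct
open CAlg

namespace Groth.Agent.S6874

open scoped TensorProduct
open Groth.Agent.H4.Reflexive



/-- For a flat ring map `R → R'` between Noetherian domains and a finite reflexive `R`-module `M`, the
base change `R' ⊗_R M` is a (finite) reflexive `R'`-module. -/
theorem result (R R' : Type u) [CommRing R] [IsDomain R]
    [IsNoetherianRing R] [CommRing R'] [IsDomain R'] [IsNoetherianRing R'] [Algebra R R'] [Module.Flat R R']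
    (M : Type u) [AddCommGroup M] [Module R M] [Module.Finite R M] [Module.IsReflexive R M] :
    Module.IsReflexive R' (R' ⊗[R] M) := by
  obtain ⟨n, f, hf, htf⟩ := exists_injective_torsionFree_coker R M
  obtain ⟨m, h, hh⟩ := Groth.Agent.H4.TFDual.exists_injective_of_torsionFree R
    ((Fin n → R) ⧸ LinearMap.range f)
  let g : (Fin n → R) →ₗ[R] (Fin m → R) := h ∘ₗ (LinearMap.range f).mkQ
  have hfg : Function.Exact f g := by
    intro y
    constructor
    · intro hy
      have : (LinearMap.range f).mkQ y = 0 := hh (by rw [map_zero]; exact hy)
      rwa [Submodule.mkQ_apply, Submodule.Quotient.mk_eq_zero] at this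
    · rintro ⟨x, rfl⟩
      change h ((LinearMap.range f).mkQ (f x)) = 0
      have : (LinearMap.range f).mkQ (f x) = 0 := by
        rw [Submodule.mkQ_apply, Submodule.Quotient.mk_eq_zero]; exact ⟨x, rfl⟩
      rw [this, map_zero]
  have hf' : Function.Injective (f.baseChange R') :=
    Module.Flat.lTensor_preserves_injective_linearMap f hf
  have hfg' : Function.Exact (f.baseChange R') (g.baseChange R') :=
    Module.Flat.lTensor_exact R' hfg
  exact isReflexive_of_exact R' (f.baseChange R') (g.baseChange R') hf' hfg'


end Groth.Agent.S6874
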