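import Groth.Statements.S6887
import Mathlib

set_option autoImplicit false
universe u
open Polynomial
open CAlg

namespace Groth.Agent.S6887

open scoped TensorProduct


/-- Cayley–Hamilton for an element of a finite algebra, with a prescribed representing matrix -/
theorem aeval_charpoly_of_represents {A B : Type u} [CommRing A] [CommRing B] [Algebra A B]
    {ι : Type} [Fintype ι] [DecidableEq ι] (bb : ι → B)
    (hbb : Submodule.span A (Set.range bb) = ⊤) (b : B)
    (N : Matrix ι ι A) (hN : ∀ j, ∑ i, N i j • bb i = b * bb j) :
    Polynomial.aeval b N.charpoly = 0 := by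
  have hrep : N.Represents bb (Algebra.lmul A B b) := by
    rw [Matrix.represents_iff']
    intro j
    rw [hN j]; rfl
  let N' : Matrix.isRepresentation A bb := ⟨N, _, hrep⟩
  have h1 : Matrix.isRepresentation.toEnd A bb hbb N' = Algebra.lmul A B b :=
    Matrix.isRepresentation.eq_toEnd_of_represents A bb hbb N' hrep
  have h2 : Polynomial.aeval (Algebra.lmul A B b) N.charpoly = 0 := by
    rw [← h1, Polynomial.aeval_algHom_apply,
      ← map_zero (Matrix.isRepresentation.toEnd A bb hbb)]
    congr 1
    ext1
    rw [Polynomial.aeval_subalgebra_coe, Matrix.aeval_self_charpoly, Subalgebra.coe_zero]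
  rw [Polynomial.aeval_algHom_apply] at h2
  have h3 := LinearMap.congr_fun h2 1
  simpa using h3

/-- Let `(A, I)` be a Zariski pair (`I` inside the Jacobson radical) and `A → B` a finite ring map.
Suppose `B/IB ≅ B₁ × B₂` as `A`-algebras with `A → B₁` surjective, and `b ∈ B` maps to `(1, 0)`.
Then there is a monic `f ∈ A[x]` with `f(b) = 0` whose reduction modulo `I` is `(x - 1) x^d` for
some `d ≥ 1`. -/
theorem result (A B : Type u) [CommRing A] [CommRing B]
    [Algebra A B] [Module.Finite A B] (I : Ideal A) (hI : I ≤ Ideal.jacobson (⊥ : Ideal A))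
    (B₁ B₂ : Type u) [CommRing B₁] [CommRing B₂] [Algebra A B₁] [Algebra A B₂]
    (e : (B ⧸ I.map (algebraMap A B)) ≃ₐ[A] B₁ × B₂) (h₁ : Function.Surjective (algebraMap A B₁)) (b : B)
    (hb : e (Ideal.Quotient.mk (I.map (algebraMap A B)) b) = (1, 0)) :
    ∃ (f : A[X]) (d : ℕ), f.Monic ∧ Polynomial.aeval b f = 0 ∧ 1 ≤ d ∧
      f.map (Ideal.Quotient.mk I) = (X - 1) * X ^ d := by
  classical
  let π : B →ₐ[A] B₁ × B₂ := e.toAlgHom.comp (Ideal.Quotient.mkₐ A (I.map (algebraMap A B)))
  have hπ : Function.Surjective π := e.surjective.comp Ideal.Quotient.mk_surjective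
  have hπb : π b = (1, 0) := hb
  have hπker : ∀ x : B, π x = 0 → x ∈ I • (⊤ : Submodule A B) := by
    intro x hx
    rw [Ideal.smul_top_eq_map]
    have : Ideal.Quotient.mk (I.map (algebraMap A B)) x = 0 :=
      e.injective (by rw [map_zero]; exact hx)
    exact Ideal.Quotient.eq_zero_iff_mem.mp this
  haveI : Module.Finite A B₂ :=
    Module.Finite.of_surjective ((LinearMap.snd A B₁ B₂) ∘ₗ π.toLinearMap)
      (Prod.snd_surjective.comp hπ)
  obtain ⟨m, c, hc⟩ := Module.Finite.exists_fin (R := A) (M := B₂)
  have hlift : ∀ j, ∃ x : B, π x = (0, c j) := fun j => hπ (0, c j)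
  choose bl hbl using hlift
  let ι := Option (Option (Fin m))
  let bb : ι → B := fun k => match k with
    | none => b
    | some none => 0
    | some (some j) => bl j
  have hbb0 : ∀ k : Option (Fin m), (π (bb (some k))).1 = 0 := by
    intro k
    cases k with
    | none => simp [bb]
    | some j => simp [bb, hbl j]
  -- spanning
  have hspan : Submodule.span A (Set.range bb) = ⊤ := by
    rw [eq_top_iff]
    refine Submodule.le_of_le_smul_of_le_jacobson_bot Module.Finite.fg_top hI ?_
    intro x _
    obtain ⟨a, ha⟩ := h₁ (π x).1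
    have h2 : (π x).2 ∈ Submodule.span A (Set.range c) := by rw [hc]; trivial
    obtain ⟨t, ht⟩ := (Submodule.mem_span_range_iff_exists_fun A).mp h2
    let y : B := a • b + ∑ j, t j • bl j
    have hy : y ∈ Submodule.span A (Set.range bb) := by
      refine Submodule.add_mem _ (Submodule.smul_mem _ _ (Submodule.subset_span ⟨none, rfl⟩)) ?_
      refine Submodule.sum_mem _ (fun j _ => Submodule.smul_mem _ _ ?_)
      exact Submodule.subset_span ⟨some (some j), rfl⟩
    have hπy : π y = π x := by
      simp only [y, map_add, map_smul, map_sum, hπb, hbl]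
      ext
      · rw [Prod.fst_add, Prod.smul_fst, Prod.fst_sum, ← ha]
        simp [Algebra.smul_def]
      · rw [Prod.snd_add, Prod.smul_snd, Prod.snd_sum, ← ht]
        simp
    have hxy : x - y ∈ I • (⊤ : Submodule A B) := hπker _ (by rw [map_sub, hπy, sub_self])
    have : x = y + (x - y) := by abel
    rw [this]
    exact Submodule.add_mem_sup hy hxy
  -- multiplication table modulo I
  have hmul : ∀ k : ι, b * bb k - (if k = none then b else 0) ∈
      I • Submodule.span A (Set.range bb) := by
    intro k
    rw [hspan]
    apply hπker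
    rw [map_sub, map_mul, hπb]
    cases k with
    | none =>
      simp only [if_true]
      have : π (bb none) = (1, 0) := hπb
      rw [this]; simp
    | some k' =>
      simp only [reduceCtorEq, if_false, map_zero, sub_zero]
      ext
      · simp [hbb0 k']
      · simp
  have hcoef : ∀ k : ι, ∃ E : ι → A, (∀ i, E i ∈ I) ∧
      ∑ i, E i • bb i = b * bb k - (if k = none then b else 0) := by
    intro k
    obtain ⟨a, ha, hsum⟩ := (Submodule.mem_ideal_smul_span_iff_exists_sum I bb _).mp (hmul k)
    refine ⟨fun i => a i, ha, ?_⟩
    rw [← hsum, Finsupp.sum_fintype]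
    intro i; simp
  choose E hEI hE using hcoef
  let N : Matrix ι ι A := fun i j => (if i = none ∧ j = none then 1 else 0) + E j i
  have hN : ∀ j, ∑ i, N i j • bb i = b * bb j := by
    intro j
    simp only [N, add_smul, Finset.sum_add_distrib, hE j]
    have : ∑ i : ι, (if i = none ∧ j = none then (1 : A) else 0) • bb i =
        if j = none then b else 0 := by
      by_cases hj : j = none
      · subst hj
        simp only [and_true, if_true]
        rw [Finset.sum_eq_single none]
        · simp [bb]
        · intro i _ hi; simp [hi]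
        · intro h; exact absurd (Finset.mem_univ _) h
      · simp [hj]
    rw [this]; abel
  refine ⟨N.charpoly, m + 1, Matrix.charpoly_monic N, aeval_charpoly_of_represents bb hspan b N hN,
    by omega, ?_⟩
  rw [← Matrix.charpoly_map]
  have hNmap : N.map (Ideal.Quotient.mk I) =
      Matrix.diagonal (fun i : ι => if i = none then (1 : A ⧸ I) else 0) := by
    ext i j
    simp only [Matrix.map_apply, N, map_add, Ideal.Quotient.eq_zero_iff_mem.mpr (hEI j i),
      add_zero, Matrix.diagonal_apply]
    by_cases hi : i = none
    · subst hi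
      by_cases hj : j = none
      · subst hj; simp
      · simp [hj, Ne.symm hj]
    · by_cases hij : i = j
      · subst hij; simp [hi]
      · simp [hi, hij]
  rw [hNmap, Matrix.charpoly_diagonal, Fintype.prod_option]
  simp [Finset.prod_const, Finset.card_univ, Fintype.card_option]


end Groth.Agent.S6887
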