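import Groth.Statements.S6888
import Mathlib

set_option autoImplicit false
universe u
open Polynomial
open CAlg

namespace Groth.Agent.S6888


theorem idem_eq_zero_of_mem_jacobson {A : Type u} [CommRing A] {x : A} (hx : IsIdempotentElem x)
    (hj : x ∈ Ideal.jacobson (⊥ : Ideal A)) : x = 0 := by
  have hu : IsUnit (x * (-1) + 1) := Ideal.mem_jacobson_bot.mp hj (-1)
  have h0 : x * (x * (-1) + 1) = 0 := by
    have : x * x = x := hx
    ring_nf
    rw [pow_two, this]; ring
  exact (hu.mul_left_eq_zero).mp h0

/-- Let `A` be absolutely integrally closed (every monic polynomial over `A` is a product of linear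
factors) and `I ⊆ A` an ideal contained in the Jacobson radical such that `A → A/I` is surjective
(hence bijective) on idempotents. Then `(A, I)` is a henselian pair. (The published statement also
records the converse, which holds for every henselian pair; this row states the sufficiency only.) -/
theorem result (A : Type u) [CommRing A]
    (hA : ∀ f : A[X], f.Monic → ∃ s : Multiset A, f = (s.map fun a => X - C a).prod) (I : Ideal A)
    (hI : I ≤ Ideal.jacobson (⊥ : Ideal A))
    (hidem : ∀ e : A ⧸ I, IsIdempotentElem e → ∃ e' : A, IsIdempotentElem e' ∧ Ideal.Quotient.mk I e' = e) :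
    HenselianRing A I := by
  classical
  refine ⟨hI, ?_⟩
  intro f hf a₀ hfa hder
  obtain ⟨s, hs⟩ := hA f hf
  obtain ⟨l, rfl⟩ := Quot.exists_rep s
  let n := l.length
  let r : Fin n → A := fun i => l.get i
  have hfr : f = ∏ i : Fin n, (X - C (r i)) := by
    rw [hs]
    change (Multiset.map (fun a => X - C a) (↑l : Multiset A)).prod = _
    rw [Multiset.map_coe, Multiset.prod_coe, ← List.prod_ofFn]
    congr 1
    have h0 : (List.ofFn fun i : Fin n => X - C (r i)) =
        List.map (fun a => X - C a) (List.ofFn r) := by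
      rw [List.map_ofFn]; rfl
    rw [h0]
    congr 1
    exact (List.ofFn_get l).symm
  let mk := Ideal.Quotient.mk I
  let u : Fin n → A ⧸ I := fun i => mk (a₀ - r i)
  have h1 : ∏ i, u i = 0 := by
    have : f.eval a₀ = ∏ i, (a₀ - r i) := by
      rw [hfr, Polynomial.eval_prod]; simp
    rw [this] at hfa
    have := Ideal.Quotient.eq_zero_iff_mem.mpr hfa
    rwa [map_prod] at this
  let P : Fin n → A ⧸ I := fun i => ∏ j ∈ Finset.univ.erase i, u j
  have h2 : mk (f.derivative.eval a₀) = ∑ i, P i := by
    rw [hfr, Polynomial.derivative_prod_finset, Polynomial.eval_finsetSum, map_sum]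
    refine Finset.sum_congr rfl (fun i _ => ?_)
    simp [Polynomial.eval_prod, P, u, map_prod]
  rw [h2] at hder
  have h3 : ∀ i, u i * P i = 0 := by
    intro i
    rw [Finset.mul_prod_erase _ _ (Finset.mem_univ i)]
    exact h1
  have h4 : ∀ i k, i ≠ k → P i * P k = 0 := by
    intro i k hik
    have hk : k ∈ Finset.univ.erase i := Finset.mem_erase.mpr ⟨Ne.symm hik, Finset.mem_univ k⟩
    have : P i = u k * ∏ j ∈ (Finset.univ.erase i).erase k, u j :=
      (Finset.mul_prod_erase _ _ hk).symm
    rw [this, mul_right_comm, h3 k, zero_mul]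
  let v := hder.unit
  let ε : Fin n → A ⧸ I := fun i => (↑v⁻¹ : A ⧸ I) * P i
  have hεsum : ∑ i, ε i = 1 := by
    simp only [ε, ← Finset.mul_sum]
    exact Units.inv_mul v
  have hεorth : ∀ i k, i ≠ k → ε i * ε k = 0 := by
    intro i k hik
    simp only [ε]
    rw [mul_mul_mul_comm, h4 i k hik, mul_zero]
  have hεidem : ∀ i, IsIdempotentElem (ε i) := by
    intro i
    have : ε i = ε i * ∑ k, ε k := by rw [hεsum, mul_one]
    rw [Finset.mul_sum, Finset.sum_eq_single i (fun k _ hk => hεorth i k (Ne.symm hk))
      (fun h => absurd (Finset.mem_univ i) h)] at this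
    exact this.symm
  have hεu : ∀ i, ε i * u i = 0 := by
    intro i
    simp only [ε]
    rw [mul_assoc, mul_comm (P i), h3 i, mul_zero]
  have hlift : ∀ i, ∃ e' : A, IsIdempotentElem e' ∧ mk e' = ε i := fun i => hidem _ (hεidem i)
  choose e he_idem he using hlift
  have horth : ∀ i k, i ≠ k → e i * e k = 0 := by
    intro i k hik
    apply idem_eq_zero_of_mem_jacobson
    · exact (he_idem i).mul (he_idem k)
    · apply hI
      rw [← Ideal.Quotient.eq_zero_iff_mem, map_mul]
      change mk (e i) * mk (e k) = 0
      rw [he i, he k, hεorth i k hik]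
  have hsum : ∑ i, e i = 1 := by
    have hs_idem : IsIdempotentElem (∑ i, e i) := by
      change (∑ i, e i) * (∑ i, e i) = ∑ i, e i
      rw [Finset.sum_mul]
      refine Finset.sum_congr rfl (fun i _ => ?_)
      rw [Finset.mul_sum, Finset.sum_eq_single i (fun k _ hk => horth i k (Ne.symm hk))
        (fun h => absurd (Finset.mem_univ i) h)]
      exact he_idem i
    have h1s : (1 - ∑ i, e i) = 0 := by
      apply idem_eq_zero_of_mem_jacobson hs_idem.one_sub
      apply hI
      rw [← Ideal.Quotient.eq_zero_iff_mem, map_sub, map_one, map_sum]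
      change 1 - ∑ i, mk (e i) = 0
      simp only [he, hεsum, sub_self]
    exact (sub_eq_zero.mp h1s).symm
  let a : A := ∑ i, e i * r i
  have hea : ∀ i, e i * a = e i * r i := by
    intro i
    simp only [a, Finset.mul_sum]
    rw [Finset.sum_eq_single i]
    · rw [← mul_assoc, (he_idem i).eq]
    · intro k _ hk
      rw [← mul_assoc, horth i k (Ne.symm hk), zero_mul]
    · intro h; exact absurd (Finset.mem_univ i) h
  refine ⟨a, ?_, ?_⟩
  · change f.eval a = 0
    have hfa' : f.eval a = ∏ k, (a - r k) := by
      rw [hfr, Polynomial.eval_prod]; simp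
    have hei : ∀ i, e i * f.eval a = 0 := by
      intro i
      rw [hfa', ← Finset.mul_prod_erase _ _ (Finset.mem_univ i), ← mul_assoc, mul_sub, hea i,
        sub_self, zero_mul]
    calc f.eval a = (∑ i, e i) * f.eval a := by rw [hsum, one_mul]
      _ = ∑ i, e i * f.eval a := Finset.sum_mul _ _ _
      _ = 0 := Finset.sum_eq_zero (fun i _ => hei i)
  · have : a - a₀ = ∑ i, e i * (r i - a₀) := by
      simp only [a, mul_sub, Finset.sum_sub_distrib, ← Finset.sum_mul, hsum, one_mul]
    rw [this]
    refine Ideal.sum_mem _ (fun i _ => ?_)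
    rw [← Ideal.Quotient.eq_zero_iff_mem, map_mul]
    change mk (e i) * mk (r i - a₀) = 0
    have : mk (r i - a₀) = - u i := by
      simp only [u, ← map_neg]; congr 1; ring
    rw [he i, this, mul_neg, hεu i, neg_zero]


end Groth.Agent.S6888
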