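import Groth.Statements.S6896
import Mathlib
import Groth.Agent.H4.Fitting5

set_option autoImplicit false
universe u
open Fitt

namespace Groth.Agent.S6896

open Groth.Agent.H4.Fitting

theorem exists_fin_gen {R : Type*} [CommRing R] {N : Type*} [AddCommGroup N] [Module R N]
    {ι : Type*} [Fintype ι] [DecidableEq ι] (y : ι → N) (T : Finset ι) {k : ℕ} (hT : T.card ≤ k)
    (h0 : ∀ i, i ∉ T → y i = 0) (hy : Submodule.span R (Set.range y) = ⊤) :
    ∃ g : Fin k → N, Submodule.span R (Set.range g) = ⊤ := by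
  let g : Fin k → N := fun l =>
    if h : (l : ℕ) < T.card then y (T.equivFin.symm ⟨l, h⟩).1 else 0
  refine ⟨g, ?_⟩
  rw [eq_top_iff, ← hy]
  refine Submodule.span_le.mpr ?_
  rintro _ ⟨i, rfl⟩
  by_cases hi : i ∈ T
  · have hlt : ((T.equivFin ⟨i, hi⟩ : Fin T.card) : ℕ) < k :=
      lt_of_lt_of_le (T.equivFin ⟨i, hi⟩).2 hT
    have : g ⟨(T.equivFin ⟨i, hi⟩ : Fin T.card), hlt⟩ = y i := by
      simp [g]
    rw [← this]
    exact Submodule.subset_span ⟨_, rfl⟩
  · rw [h0 i hi]
    exact Submodule.zero_mem _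

theorem exists_unit_mul {R : Type u} [CommRing R] [IsLocalRing R] (S : Set R) (f : R)
    (hf0 : f ≠ 0) (hS : Ideal.span S = Ideal.span {f}) : ∃ d ∈ S, ∃ u : Rˣ, d = u * f := by
  by_contra hcon
  push Not at hcon
  have hle : Ideal.span S ≤ Ideal.span {f} * IsLocalRing.maximalIdeal R := by
    refine Ideal.span_le.mpr ?_
    intro d hd
    have : d ∈ Ideal.span {f} := hS ▸ Ideal.subset_span hd
    obtain ⟨t, rfl⟩ := Ideal.mem_span_singleton'.mp this
    have ht : t ∈ IsLocalRing.maximalIdeal R := by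
      rw [IsLocalRing.mem_maximalIdeal]
      intro hu
      exact hcon _ hd hu.unit (by simp)
    rw [SetLike.mem_coe, Ideal.mem_span_singleton_mul]
    exact ⟨t, ht, mul_comm _ _⟩
  have hf : f ∈ Ideal.span {f} * IsLocalRing.maximalIdeal R :=
    hle (hS ▸ Ideal.subset_span rfl)
  obtain ⟨z, hz, hfz⟩ := Ideal.mem_span_singleton_mul.mp hf
  have hu : IsUnit (1 - z) := by
    by_contra h
    have h1 : (1 - z) ∈ IsLocalRing.maximalIdeal R := (IsLocalRing.mem_maximalIdeal _).mpr h
    have : (1 : R) ∈ IsLocalRing.maximalIdeal R := by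
      have := Ideal.add_mem _ h1 hz
      simpa using this
    exact (IsLocalRing.maximalIdeal.isMaximal R).ne_top ((Ideal.eq_top_iff_one _).mpr this)
  apply hf0
  have : f * (1 - z) = 0 := by rw [mul_sub, mul_one, hfz, sub_self]
  exact (hu.mul_left_eq_zero).mp this

/-- Let `R` be a local ring, `M` a finite `R`-module and `k ≥ 0` with `Fit_k(M) = (f)` principal. Then
the quotient `M'` of `M` by the submodule `{x ∈ M | f x = 0}` can be generated by `k` elements. -/
theorem result {R : Type u} [CommRing R] [IsLocalRing R]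
    (M : Type u) [AddCommGroup M] [Module R M] [Module.Finite R M] (k : ℕ) (f : R)
    (hf : Fitt.ideal R M k = Ideal.span {f}) :
    ∃ g : Fin k → M ⧸ LinearMap.ker (f • (LinearMap.id : M →ₗ[R] M)),
      Submodule.span R (Set.range g) = ⊤ := by
  by_cases hf0 : f = 0
  · subst hf0
    refine ⟨fun _ => 0, ?_⟩
    have : Subsingleton (M ⧸ LinearMap.ker ((0 : R) • (LinearMap.id : M →ₗ[R] M))) := by
      rw [Submodule.Quotient.subsingleton_iff]
      simp
    exact Subsingleton.elim _ _
  obtain ⟨n, x, hx⟩ := Module.Finite.exists_fin (R := R) (M := M)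
  rw [ideal_eq_G k x hx] at hf
  obtain ⟨d, ⟨a, T, hT, hr, rfl⟩, u, hu⟩ := exists_unit_mul _ f hf0 hf
  let N := LinearMap.ker (f • (LinearMap.id : M →ₗ[R] M))
  let y : Fin n → M := fun i => ∑ l, a i l • x l
  have hy0 : ∀ i, i ∉ T → y i = 0 := hr
  -- adjugate entries in T-columns are divisible by f
  have hadj : ∀ j i, ∃ c : R, i ∈ T → Matrix.adjugate a j i = c * f := by
    intro j i
    by_cases hi : i ∈ T
    · have hmem : Matrix.adjugate a j i ∈ (G k x : Ideal R) := by
        rw [Matrix.adjugate_apply]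
        refine det_mem_G _ T hT ?_
        intro l hl
        have hne : l ≠ i := fun h => hl (h ▸ hi)
        simp only [Matrix.updateRow_ne hne]
        exact hr l hl
      rw [hf] at hmem
      obtain ⟨c, hc⟩ := Ideal.mem_span_singleton'.mp hmem
      exact ⟨c, fun _ => hc.symm⟩
    · exact ⟨0, fun h => absurd h hi⟩
  choose c hc using hadj
  have hkey : ∀ j, (u : R) • x j - ∑ i, c j i • y i ∈ N := by
    intro j
    simp only [N, LinearMap.mem_ker, LinearMap.smul_apply, LinearMap.id_apply]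
    rw [smul_sub, smul_smul, mul_comm, ← hu, det_smul_eq_sum, Finset.smul_sum, sub_eq_zero]
    refine Finset.sum_congr rfl (fun i _ => ?_)
    by_cases hi : i ∈ T
    · rw [hc j i hi, smul_smul, mul_comm]
    · have : (∑ l, a i l • x l) = 0 := hr i hi
      rw [this]
      have h2 : y i = 0 := hr i hi
      rw [h2]
      simp
  refine exists_fin_gen (fun i => N.mkQ (y i)) T hT (fun i hi => by simp [hy0 i hi]) ?_
  rw [eq_top_iff, ← Submodule.range_mkQ N, LinearMap.range_eq_map, ← hx, Submodule.map_span]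
  refine Submodule.span_le.mpr ?_
  rintro _ ⟨_, ⟨j, rfl⟩, rfl⟩
  have h1 : N.mkQ ((u : R) • x j) = N.mkQ (∑ i, c j i • y i) := by
    rw [← sub_eq_zero, ← map_sub]
    exact (Submodule.Quotient.mk_eq_zero N).mpr (hkey j)
  have h2 : N.mkQ (x j) = (↑u⁻¹ : R) • N.mkQ ((u : R) • x j) := by
    rw [map_smul, smul_smul, Units.inv_mul, one_smul]
  rw [SetLike.mem_coe, h2, h1, map_sum]
  refine Submodule.smul_mem _ _ (Submodule.sum_mem _ (fun i _ => ?_))
  rw [map_smul]
  exact Submodule.smul_mem _ _ (Submodule.subset_span ⟨i, rfl⟩)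


end Groth.Agent.S6896
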