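import Groth.Statements.S6897
import Mathlib
import Groth.Agent.H4.Fitting9
import Groth.Agent.S14346
import Groth.Agent.S6895

set_option autoImplicit false
universe u
open CategoryTheory
open Fitt

namespace Groth.Agent.S6897

open Groth.Agent.H4.Fitting

variable {R : Type u} [CommRing R] {M : Type u} [AddCommGroup M] [Module R M]

/-- the finite family of data covering `Spec R` -/
theorem exists_family {n : ℕ} (x : Fin n → M) (k : ℕ) (f : R) (hf0 : f ∈ nonZeroDivisors R)
    (hGk : (G k x : Ideal R) = Ideal.span {f}) (hGk1 : k = 0 ∨ (G (k - 1) x : Ideal R) = ⊥) :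
    ∃ (N : ℕ) (a : Fin N → Matrix (Fin n) (Fin n) R) (T : Fin N → Finset (Fin n))
      (t r : Fin N → R), (∀ j, FData x (a j) (T j) k f (t j)) ∧ ∑ j, r j * t j = 1 := by
  have hf : f ∈ (G k x : Ideal R) := hGk ▸ Ideal.subset_span rfl
  unfold G at hf
  obtain ⟨N, r, g, hg⟩ := Submodule.mem_span_set'.mp hf
  have hex : ∀ j, ∃ (a : Matrix (Fin n) (Fin n) R) (T : Finset (Fin n)) (t : R),
      T.card ≤ k ∧ (∀ i, i ∉ T → ∑ l, a i l • x l = 0) ∧ a.det = t * f ∧ (g j : R) = a.det := by
    intro j
    obtain ⟨a, T, hT, hr, hd⟩ := (g j).2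
    have hmem : a.det ∈ (G k x : Ideal R) := det_mem_G a T hT hr
    rw [hGk] at hmem
    obtain ⟨t, ht⟩ := Ideal.mem_span_singleton'.mp hmem
    exact ⟨a, T, t, hT, hr, ht.symm, hd⟩
  choose a T t hT hr hdet hga using hex
  refine ⟨N, a, T, t, r, fun j => ⟨hT j, hr j, hdet j, hf0, hGk.le, hGk1⟩, ?_⟩
  have h1 : (∑ j, r j * t j) * f = 1 * f := by
    rw [one_mul, Finset.sum_mul]
    conv_rhs => rw [← hg]
    refine Finset.sum_congr rfl (fun j _ => ?_)
    rw [hga j, hdet j, smul_eq_mul, mul_assoc]
  rw [mem_nonZeroDivisors_iff] at hf0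
  have h2 : (∑ j, r j * t j - 1) * f = 0 := by rw [sub_mul, h1, sub_self]
  exact sub_eq_zero.mp (hf0.2 _ h2)

theorem exists_notMem {N : ℕ} (t r : Fin N → R) (h : ∑ j, r j * t j = 1) (p : Ideal R)
    (hp : p ≠ ⊤) : ∃ j, t j ∉ p := by
  by_contra hcon
  push Not at hcon
  apply hp
  rw [Ideal.eq_top_iff_one, ← h]
  exact Ideal.sum_mem _ (fun j _ => Ideal.mul_mem_left _ _ (hcon j))

theorem span_range_eq_top {N : ℕ} (t r : Fin N → R) (h : ∑ j, r j * t j = 1) :
    Ideal.span (Set.range t) = ⊤ := by
  rw [Ideal.eq_top_iff_one, ← h]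
  exact Ideal.sum_mem _ (fun j _ => Ideal.mul_mem_left _ _ (Ideal.subset_span ⟨j, rfl⟩))

theorem projective_of_family {N : ℕ} (t r : Fin N → R) (h : ∑ j, r j * t j = 1)
    (P : Type u) [AddCommGroup P] [Module R P]
    (hfree : ∀ (j : Fin N) (S : Submonoid R), t j ∈ S →
      Module.Free (Localization S) (LocalizedModule S P) ∧
        Module.Finite (Localization S) (LocalizedModule S P)) :
    Module.FinitePresentation R P ∧ Module.Projective R P := by
  have hfp : Module.FinitePresentation R P := by
    refine Module.FinitePresentation.of_localizationSpan (Set.range t)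
      (span_range_eq_top t r h) (fun g => ?_)
    obtain ⟨j, hj⟩ := g.2
    obtain ⟨h1, h2⟩ := hfree j (Submonoid.powers g.1) (by rw [← hj]; exact Submonoid.mem_powers _)
    exact Module.finitePresentation_of_projective _ _
  refine ⟨hfp, ?_⟩
  refine Module.projective_of_localization_maximal (fun m hm => ?_)
  obtain ⟨j, hj⟩ := exists_notMem t r h m hm.ne_top
  obtain ⟨h1, h2⟩ := hfree j m.primeCompl hj
  infer_instance

theorem eq_zero_of_smul_of_projective (P : Type u) [AddCommGroup P] [Module R P]
    [Module.Projective R P] {f : R} (hf : f ∈ nonZeroDivisors R) (q : P) (h : f • q = 0) :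
    q = 0 := by
  obtain ⟨s, hs⟩ := Module.projective_def'.mp (inferInstance : Module.Projective R P)
  have h1 : f • s q = 0 := by rw [← map_smul, h, map_zero]
  have h2 : s q = 0 := by
    ext i
    have := congrArg (fun v => v i) h1
    simp only [Finsupp.smul_apply, smul_eq_mul, Finsupp.zero_apply] at this
    rw [mem_nonZeroDivisors_iff] at hf
    exact hf.1 _ this
  have h3 := LinearMap.congr_fun hs q
  simp only [LinearMap.comp_apply, LinearMap.id_apply] at h3
  rw [← h3, h2, map_zero]

theorem eq_zero_of_pow_smul_of_projective (P : Type u) [AddCommGroup P] [Module R P]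
    [Module.Projective R P] {f : R} (hf : f ∈ nonZeroDivisors R) (n : ℕ) (q : P)
    (h : f ^ n • q = 0) : q = 0 := by
  induction n with
  | zero => simpa using h
  | succ n ih =>
    apply ih
    apply eq_zero_of_smul_of_projective P hf
    rw [smul_smul, ← pow_succ']
    exact h

/-- Let `M` be a finitely presented `R`-module and `k ≥ 0` such that `Fit_k(M) = (f)` for a
nonzerodivisor `f` and `Fit_{k-1}(M) = 0` (no condition when `k = 0`). Let `M' = Ker(f : M → M)`.
Then: the projective dimension of `M` is at most `1`; `M'` coincides with the `f`-power torsion of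
`M` and its projective dimension is at most `1`; every prime of `R` has a basic open neighbourhood
over which `M/M'` is free of rank `k`; and `M ≅ M/M' ⊕ M'` (existence of an isomorphism). -/
theorem result {R : Type u} [CommRing R] (M : Type u)
    [AddCommGroup M] [Module R M] [Module.FinitePresentation R M] (k : ℕ) (f : R) (hf0 : f ∈ nonZeroDivisors R)
    (hf : Fitt.ideal R M k = Ideal.span {f}) (hk : k = 0 ∨ Fitt.ideal R M (k - 1) = ⊥) :
    HasProjectiveDimensionLT (ModuleCat.of R M) 2 ∧
    (∀ x : M, (∃ n : ℕ, f ^ n • x = 0) ↔ f • x = 0) ∧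
    HasProjectiveDimensionLT (ModuleCat.of R ↥(LinearMap.ker (f • (LinearMap.id : M →ₗ[R] M)))) 2 ∧
    (∀ (p : Ideal R) [p.IsPrime], ∃ g : R, g ∉ p ∧
      Module.Free (Localization.Away g)
          (LocalizedModule (Submonoid.powers g) (M ⧸ LinearMap.ker (f • (LinearMap.id : M →ₗ[R] M)))) ∧
        Module.finrank (Localization.Away g)
          (LocalizedModule (Submonoid.powers g) (M ⧸ LinearMap.ker (f • (LinearMap.id : M →ₗ[R] M)))) = k) ∧
    Nonempty (M ≃ₗ[R] (M ⧸ LinearMap.ker (f • (LinearMap.id : M →ₗ[R] M))) ×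
      ↥(LinearMap.ker (f • (LinearMap.id : M →ₗ[R] M)))) := by
  obtain ⟨n, x, hx⟩ := Module.Finite.exists_fin (R := R) (M := M)
  have hGk : (G k x : Ideal R) = Ideal.span {f} := by rw [← ideal_eq_G k x hx]; exact hf
  have hGk1 : k = 0 ∨ (G (k - 1) x : Ideal R) = ⊥ := by
    rcases hk with h | h
    · exact Or.inl h
    · right; rw [← ideal_eq_G (k - 1) x hx]; exact h
  obtain ⟨N, a, T, t, r, hD, hsum⟩ := exists_family x k f hf0 hGk hGk1
  -- the quotient is finitely presented and projective
  obtain ⟨hQfp, hQproj⟩ := projective_of_family t r hsum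
    (M ⧸ LinearMap.ker (f • (LinearMap.id : M →ₗ[R] M))) (fun j S hS => by
      let b := (hD j).Q_basis hx S hS (A' := Localization S)
        (LocalizedModule.mkLinearMap S (M ⧸ LinearMap.ker (f • (LinearMap.id : M →ₗ[R] M))))
      exact ⟨Module.Free.of_basis b, Module.Finite.of_basis b⟩)
  -- the module of relations is finitely presented and projective
  obtain ⟨hKfp, hKproj⟩ := projective_of_family t r hsum (rel (R := R) x) (fun j S hS => by
      let b := (hD j).K_basis S hS (A' := Localization S)
        (N' := LocalizedModule S (rel (R := R) x))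
        (LocalizedModule.mkLinearMap S (rel (R := R) x))
      exact ⟨Module.Free.of_basis b, Module.Finite.of_basis b⟩)
  -- splitting
  obtain ⟨s, hs⟩ := Module.projective_lifting_property
    (LinearMap.ker (f • (LinearMap.id : M →ₗ[R] M))).mkQ LinearMap.id
    (Submodule.mkQ_surjective _)
  let e : M ≃ₗ[R] (M ⧸ LinearMap.ker (f • (LinearMap.id : M →ₗ[R] M))) ×
      ↥(LinearMap.ker (f • (LinearMap.id : M →ₗ[R] M))) :=
    (Groth.Agent.S14346.equivProdKer _ s hs).trans
      (LinearEquiv.prodCongr (LinearEquiv.refl R _)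
        (LinearEquiv.ofEq _ _ (Submodule.ker_mkQ _)))
  -- projective dimension of M
  have hsurj : Function.Surjective (Fintype.linearCombination R x) := by
    rw [← LinearMap.range_eq_top, Fintype.range_linearCombination, hx]
  have hpdM : HasProjectiveDimensionLT (ModuleCat.of R M) 2 := by
    have hSE := LinearMap.shortExact_shortComplexKer hsurj
    have hproj2 : Projective (Fintype.linearCombination R x).shortComplexKer.X₂ :=
      (IsProjective.iff_projective (R := R) (Fin n → R)).mp inferInstance
    have hproj1 : Projective (Fintype.linearCombination R x).shortComplexKer.X₁ :=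
      (IsProjective.iff_projective (R := R) (rel (R := R) x)).mp hKproj
    exact (hSE.hasProjectiveDimensionLT_X₃_iff 0 hproj2).mpr inferInstance
  refine ⟨hpdM, ?_, ?_, ?_, ⟨e⟩⟩
  · -- f-power torsion
    intro m
    constructor
    · rintro ⟨d, hd⟩
      have h1 : f ^ d • (LinearMap.ker (f • (LinearMap.id : M →ₗ[R] M))).mkQ m = 0 := by
        rw [← map_smul, hd, map_zero]
      have h2 := eq_zero_of_pow_smul_of_projective _ hf0 d _ h1
      have h3 : m ∈ LinearMap.ker (f • (LinearMap.id : M →ₗ[R] M)) :=
        (Submodule.Quotient.mk_eq_zero _).mp h2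
      simpa using h3
    · intro h
      exact ⟨1, by simpa using h⟩
  · -- M' is a retract of M
    let rt : Retract (ModuleCat.of R ↥(LinearMap.ker (f • (LinearMap.id : M →ₗ[R] M))))
        (ModuleCat.of R M) :=
      { i := ModuleCat.ofHom (LinearMap.ker (f • (LinearMap.id : M →ₗ[R] M))).subtype
        r := ModuleCat.ofHom ((LinearMap.snd R _ _) ∘ₗ e.toLinearMap)
        retract := by
          ext m'
          have h0 : (LinearMap.ker (f • (LinearMap.id : M →ₗ[R] M))).mkQ m'.1 = 0 :=
            (Submodule.Quotient.mk_eq_zero _).mpr m'.2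
          simp [e, Groth.Agent.S14346.equivProdKer, h0] }
    exact rt.hasProjectiveDimensionLT 2
  · intro p hp
    obtain ⟨j, hj⟩ := exists_notMem t r hsum p hp.ne_top
    refine ⟨t j, hj, ?_⟩
    let b := (hD j).Q_basis hx (Submonoid.powers (t j)) (Submonoid.mem_powers _)
      (A' := Localization.Away (t j))
      (LocalizedModule.mkLinearMap (Submonoid.powers (t j))
        (M ⧸ LinearMap.ker (f • (LinearMap.id : M →ₗ[R] M))))
    haveI : Nontrivial (Localization.Away (t j)) := Groth.Agent.S6895.nontrivial_away p (t j) hj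
    refine ⟨Module.Free.of_basis b, ?_⟩
    rw [Module.finrank_eq_card_basis b, Fintype.card_coe]
    apply le_antisymm (hD j).hT
    by_contra hlt
    have hk1 : (G (k - 1) x : Ideal R) = ⊥ := by
      rcases hGk1 with h | h
      · omega
      · exact h
    have hmem : (a j).det ∈ (G (k - 1) x : Ideal R) :=
      det_mem_G (a j) (T j) (by omega) (hD j).hr
    rw [hk1, Ideal.mem_bot, (hD j).hdet] at hmem
    have : t j = 0 := by
      rw [mem_nonZeroDivisors_iff] at hf0
      exact hf0.2 _ hmem
    rw [this] at hj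
    exact hj (Ideal.zero_mem _)


end Groth.Agent.S6897
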