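import Groth.Statements.S6898
import Mathlib

set_option autoImplicit false
universe u
open TensorProduct
open CAlg

namespace Groth.Agent.S6898

open scoped TensorProduct

universe v w
open IsLocalRing

theorem fg_of_isLeast {A : Type u} [CommRing A] {M : Type v} [AddCommGroup M] [Module A M]
    (x : M) (I : Ideal A)
    (hx : IsLeast {J : Ideal A | x ∈ J • (⊤ : Submodule A M)} I) : I.FG := by
  have key : ∀ y ∈ I • (⊤ : Submodule A M), ∃ I₀ : Ideal A, I₀ ≤ I ∧ I₀.FG ∧
      y ∈ I₀ • (⊤ : Submodule A M) := by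
    intro y hy
    refine Submodule.smul_induction_on hy ?_ ?_
    · intro c hc m _
      exact ⟨Ideal.span {c}, (Ideal.span_singleton_le_iff_mem _).mpr hc, ⟨{c}, by simp⟩,
        Submodule.smul_mem_smul (Ideal.subset_span rfl) trivial⟩
    · rintro y z ⟨I₁, h1, h2, h3⟩ ⟨I₂, h4, h5, h6⟩
      exact ⟨I₁ ⊔ I₂, sup_le h1 h4, Submodule.FG.sup h2 h5,
        add_mem (Submodule.smul_mono_left le_sup_left h3)
          (Submodule.smul_mono_left le_sup_right h6)⟩
  obtain ⟨I₀, h1, h2, h3⟩ := key x hx.1
  have : I ≤ I₀ := hx.2 h3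
  rwa [le_antisymm this h1]

theorem exists_sum_of_mem_span_smul {A : Type u} [CommRing A] {M : Type v} [AddCommGroup M]
    [Module A M] {ι : Type*} [Fintype ι] (a : ι → A) (x : M)
    (hx : x ∈ Ideal.span (Set.range a) • (⊤ : Submodule A M)) :
    ∃ xs : ι → M, x = ∑ i, a i • xs i := by
  refine Submodule.smul_induction_on hx ?_ ?_
  · intro c hc m _
    obtain ⟨c', hc'⟩ := (Submodule.mem_span_range_iff_exists_fun A).mp hc
    refine ⟨fun i => c' i • m, ?_⟩
    rw [← hc', Finset.sum_smul]
    refine Finset.sum_congr rfl (fun i _ => ?_)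
    rw [smul_eq_mul, mul_smul, smul_comm]
  · rintro y z ⟨ys, rfl⟩ ⟨zs, rfl⟩
    refine ⟨ys + zs, ?_⟩
    simp [smul_add, Finset.sum_add_distrib]


theorem KL {A : Type u} [CommRing A] [IsLocalRing A] {M : Type v} {N : Type w}
    [AddCommGroup M] [Module A M] [AddCommGroup N] [Module A N] [Module.Flat A N]
    (u : M →ₗ[A] N)
    (H : ∀ m, u m ∈ (maximalIdeal A) • (⊤ : Submodule A N) →
      m ∈ (maximalIdeal A) • (⊤ : Submodule A M))
    (x : M) (I : Ideal A) (hx : IsLeast {J : Ideal A | x ∈ J • (⊤ : Submodule A M)} I)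
    (hux : u x = 0) : I = ⊥ := by
  classical
  have hfg := fg_of_isLeast x I hx
  haveI : Module.Finite A I := Module.Finite.iff_fg.mpr hfg
  let b := Module.finBasis (ResidueField A) ((ResidueField A) ⊗[A] I)
  have hsurj : Function.Surjective (TensorProduct.mk A (ResidueField A) I 1) :=
    TensorProduct.mk_surjective A I (ResidueField A) Ideal.Quotient.mk_surjective
  choose f hf using fun i => hsurj (b i)
  have hspan : Submodule.span A (Set.range f) = ⊤ := span_eq_top_of_tmul_eq_basis f b hf
  let a : _ → A := fun i => (f i : A)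
  have hI : I = Ideal.span (Set.range a) := by
    have := congrArg (Submodule.map I.subtype) hspan
    rw [Submodule.map_span, Submodule.map_top, Submodule.range_subtype, ← Set.range_comp] at this
    exact this.symm
  have hxI := hx.1
  simp only [Set.mem_ofPred_eq] at hxI
  rw [hI] at hxI
  obtain ⟨xs, hxs⟩ := exists_sum_of_mem_span_smul a x hxI
  have hrel : ∑ i, a i • u (xs i) = 0 := by
    rw [← hux, hxs, map_sum]
    simp
  obtain ⟨k, bb, y, hy1, hy2⟩ := Module.Flat.isTrivialRelation_of_sum_smul_eq_zero hrel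
  have hbb : ∀ i j, bb i j ∈ maximalIdeal A := by
    intro i j
    have h1 : ∑ i, bb i j • f i = 0 := by
      apply Subtype.ext
      rw [Submodule.coe_sum]
      simp only [Submodule.coe_smul, smul_eq_mul, ZeroMemClass.coe_zero]
      rw [← hy2 j]
      refine Finset.sum_congr rfl (fun i _ => ?_)
      rw [mul_comm]
    have h2 : ∑ i, (algebraMap A (ResidueField A) (bb i j)) • b i = 0 := by
      have := congrArg (TensorProduct.mk A (ResidueField A) I 1) h1
      rw [map_sum, map_zero] at this
      rw [← this]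
      refine Finset.sum_congr rfl (fun i _ => ?_)
      rw [map_smul, hf i, algebraMap_smul]
    have h3 := Fintype.linearIndependent_iff.mp b.linearIndependent _ h2 i
    rw [ResidueField.algebraMap_eq, residue_eq_zero_iff] at h3
    exact h3
  have hxs' : ∀ i, xs i ∈ (maximalIdeal A) • (⊤ : Submodule A M) := by
    intro i
    apply H
    have := hy1 i
    simp only at this
    rw [this]
    exact Submodule.sum_mem _ (fun j _ => Submodule.smul_mem_smul (hbb i j) trivial)
  have hx2 : x ∈ (I * maximalIdeal A) • (⊤ : Submodule A M) := by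
    rw [hxs, ← smul_eq_mul, Submodule.smul_assoc]
    refine Submodule.sum_mem _ (fun i _ => Submodule.smul_mem_smul ?_ (hxs' i))
    exact (f i).2
  have hle : I ≤ I * maximalIdeal A := hx.2 hx2
  rw [mul_comm, ← smul_eq_mul] at hle
  exact Submodule.eq_bot_of_le_smul_of_le_jacobson_bot (maximalIdeal A) I hfg hle
    (by rw [jacobson_eq_maximalIdeal ⊥ bot_ne_top])


theorem L1 {A : Type u} [CommRing A] (J K : Ideal A) {M : Type v} [AddCommGroup M]
    [Module A M] (m : M) (hm : m ∈ K • (⊤ : Submodule A M)) :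
    (1 : A ⧸ J) ⊗ₜ[A] m ∈ (K.map (Ideal.Quotient.mk J)) •
      (⊤ : Submodule (A ⧸ J) ((A ⧸ J) ⊗[A] M)) := by
  refine Submodule.smul_induction_on hm ?_ ?_
  · intro k hk m' _
    have : (1 : A ⧸ J) ⊗ₜ[A] (k • m') = (Ideal.Quotient.mk J k) • ((1 : A ⧸ J) ⊗ₜ[A] m') := by
      rw [TensorProduct.smul_tmul', TensorProduct.tmul_smul, TensorProduct.smul_tmul']
      congr 1
    rw [this]
    exact Submodule.smul_mem_smul (Ideal.mem_map_of_mem _ hk) trivial
  · intro y z hy hz
    rw [TensorProduct.tmul_add]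
    exact add_mem hy hz

theorem L2 {A : Type u} [CommRing A] (J K : Ideal A) (hJK : J ≤ K) {M : Type v}
    [AddCommGroup M] [Module A M] (m : M)
    (hm : (1 : A ⧸ J) ⊗ₜ[A] m ∈ (K.map (Ideal.Quotient.mk J)) •
      (⊤ : Submodule (A ⧸ J) ((A ⧸ J) ⊗[A] M))) : m ∈ K • (⊤ : Submodule A M) := by
  let ψ : ((A ⧸ J) ⊗[A] M) →ₗ[A] M ⧸ (K • (⊤ : Submodule A M)) :=
    (Submodule.mapQ (J • (⊤ : Submodule A M)) (K • (⊤ : Submodule A M)) LinearMap.id
      (by simpa using Submodule.smul_mono_left hJK)) ∘ₗ
    (TensorProduct.quotTensorEquivQuotSMul M J).toLinearMap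
  have key : ∀ w ∈ (K.map (Ideal.Quotient.mk J)) •
      (⊤ : Submodule (A ⧸ J) ((A ⧸ J) ⊗[A] M)), ψ w = 0 := by
    intro w hw
    refine Submodule.smul_induction_on hw ?_ ?_
    · intro k' hk' z _
      obtain ⟨k, hk, rfl⟩ := (Ideal.mem_map_iff_of_surjective _ Ideal.Quotient.mk_surjective).mp hk'
      have h1 : (Ideal.Quotient.mk J k) • z = k • z := by
        rw [← algebraMap_smul (A ⧸ J) k z]; rfl
      rw [h1, map_smul]
      obtain ⟨n, hn⟩ := Submodule.mkQ_surjective _ (ψ z)
      rw [← hn, ← map_smul, Submodule.mkQ_apply, Submodule.Quotient.mk_eq_zero]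
      exact Submodule.smul_mem_smul hk trivial
    · intro y z hy hz
      rw [map_add, hy, hz, add_zero]
  have h2 := key _ hm
  simp only [ψ, LinearMap.comp_apply, LinearEquiv.coe_coe,
    TensorProduct.quotTensorEquivQuotSMul_mk_one_tmul, Submodule.mapQ_apply,
    LinearMap.id_apply] at h2
  exact (Submodule.Quotient.mk_eq_zero _).mp h2

/-- Let `(A, 𝔪)` be a local ring and `u : M → N` a linear map between flat `A`-modules whose reduction
`M/𝔪M → N/𝔪N` is injective. If `I` is the content ideal of some `x ∈ M` (the least ideal `I` with `x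
∈ IM`), then `I` is also the least ideal `J` with `u(x) ∈ J·N`. -/
theorem result {A : Type u} [CommRing A] [IsLocalRing A] {M N : Type u}
    [AddCommGroup M] [Module A M] [Module.Flat A M] [AddCommGroup N] [Module A N] [Module.Flat A N] (u : M →ₗ[A] N)
    (hu : Function.Injective (u.baseChange (IsLocalRing.ResidueField A))) (x : M) (I : Ideal A)
    (hx : IsLeast {J : Ideal A | x ∈ J • (⊤ : Submodule A M)} I) :
    IsLeast {J : Ideal A | u x ∈ J • (⊤ : Submodule A N)} I := by
  have H : ∀ m, u m ∈ (maximalIdeal A) • (⊤ : Submodule A N) →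
      m ∈ (maximalIdeal A) • (⊤ : Submodule A M) := by
    intro m hm
    have hkM : LinearMap.ker (TensorProduct.mk A (ResidueField A) M 1) =
        maximalIdeal A • (⊤ : Submodule A M) :=
      LinearMap.ker_tensorProductMk (Q := M) (I := maximalIdeal A)
    have hkN : LinearMap.ker (TensorProduct.mk A (ResidueField A) N 1) =
        maximalIdeal A • (⊤ : Submodule A N) :=
      LinearMap.ker_tensorProductMk (Q := N) (I := maximalIdeal A)
    rw [← hkN, LinearMap.mem_ker] at hm
    rw [← hkM, LinearMap.mem_ker]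
    apply hu
    rw [map_zero, TensorProduct.mk_apply, LinearMap.baseChange_tmul]
    exact hm
  constructor
  · have h1 := hx.1
    simp only [Set.mem_ofPred_eq] at h1 ⊢
    have h2 : (I • (⊤ : Submodule A M)).map u ≤ I • (⊤ : Submodule A N) := by
      rw [Submodule.map_smul'']
      exact Submodule.smul_mono le_rfl le_top
    exact h2 (Submodule.mem_map_of_mem h1)
  · intro J hJ
    simp only [Set.mem_ofPred_eq] at hJ
    by_cases hJtop : J = ⊤
    · rw [hJtop]; exact le_top
    haveI : Nontrivial (A ⧸ J) := Ideal.Quotient.nontrivial_iff.mpr hJtop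
    haveI : IsLocalRing (A ⧸ J) :=
      IsLocalRing.of_surjective' (Ideal.Quotient.mk J) Ideal.Quotient.mk_surjective
    have hJm : J ≤ maximalIdeal A := le_maximalIdeal hJtop
    have hmax : maximalIdeal (A ⧸ J) = (maximalIdeal A).map (Ideal.Quotient.mk J) := by
      have h1 : (maximalIdeal (A ⧸ J)).comap (Ideal.Quotient.mk J) = maximalIdeal A :=
        eq_maximalIdeal (Ideal.comap_isMaximal_of_surjective _ Ideal.Quotient.mk_surjective)
      rw [← h1, Ideal.map_comap_of_surjective _ Ideal.Quotient.mk_surjective]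
    have H' : ∀ m', u.baseChange (A ⧸ J) m' ∈ (maximalIdeal (A ⧸ J)) •
        (⊤ : Submodule (A ⧸ J) ((A ⧸ J) ⊗[A] N)) →
        m' ∈ (maximalIdeal (A ⧸ J)) • (⊤ : Submodule (A ⧸ J) ((A ⧸ J) ⊗[A] M)) := by
      intro m' hm'
      obtain ⟨m, rfl⟩ := TensorProduct.mk_surjective A M (A ⧸ J) Ideal.Quotient.mk_surjective m'
      rw [hmax] at hm' ⊢
      simp only [TensorProduct.mk_apply, LinearMap.baseChange_tmul] at hm' ⊢
      exact L1 J _ m (H m (L2 J _ hJm _ hm'))
    have hleast : IsLeast {K' : Ideal (A ⧸ J) | (1 : A ⧸ J) ⊗ₜ[A] x ∈ K' •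
        (⊤ : Submodule (A ⧸ J) ((A ⧸ J) ⊗[A] M))} (I.map (Ideal.Quotient.mk J)) := by
      constructor
      · exact L1 J I x hx.1
      · intro K' hK'
        simp only [Set.mem_ofPred_eq] at hK'
        have hK : K' = (K'.comap (Ideal.Quotient.mk J)).map (Ideal.Quotient.mk J) :=
          (Ideal.map_comap_of_surjective _ Ideal.Quotient.mk_surjective K').symm
        have hJK : J ≤ K'.comap (Ideal.Quotient.mk J) := by
          intro j hj
          rw [Ideal.mem_comap, Ideal.Quotient.eq_zero_iff_mem.mpr hj]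
          exact zero_mem _
        rw [hK] at hK' ⊢
        exact Ideal.map_mono (hx.2 (L2 J _ hJK x hK'))
    have hux : u.baseChange (A ⧸ J) ((1 : A ⧸ J) ⊗ₜ[A] x) = 0 := by
      rw [LinearMap.baseChange_tmul]
      have := hJ
      rw [← LinearMap.ker_tensorProductMk, LinearMap.mem_ker] at this
      exact this
    have key := KL (u.baseChange (A ⧸ J)) H' _ _ hleast hux
    rw [Ideal.map_eq_bot_iff_le_ker, Ideal.mk_ker] at key
    exact key


end Groth.Agent.S6898
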