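import Groth.Statements.S6909
import Mathlib

set_option autoImplicit false
universe u
open CAlg

namespace Groth.Agent.S6909


theorem map_mem_pow_add {A : Type u} [CommRing A] (I : Ideal A) {M N : Type u}
    [AddCommGroup M] [Module A M] [AddCommGroup N] [Module A N] (h : M →ₗ[A] N) (k r : ℕ)
    (hh : ∀ y : M, h y ∈ I ^ k • (⊤ : Submodule A N)) (a : M) (ha : a ∈ I ^ r • (⊤ : Submodule A M)) :
    h a ∈ I ^ (r + k) • (⊤ : Submodule A N) := by
  have h1 : Submodule.map h (I ^ r • (⊤ : Submodule A M)) ≤ I ^ (r + k) • (⊤ : Submodule A N) := by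
    rw [Submodule.map_smul'', pow_add, mul_smul]
    apply Submodule.smul_mono le_rfl
    rintro _ ⟨y, -, rfl⟩
    exact hh y
  exact h1 ⟨a, ha, rfl⟩

theorem pow_smul_top_anti {A : Type u} [CommRing A] (I : Ideal A) {M : Type u}
    [AddCommGroup M] [Module A M] {k r : ℕ} (h : k ≤ r) :
    I ^ r • (⊤ : Submodule A M) ≤ I ^ k • (⊤ : Submodule A M) :=
  Submodule.smul_mono_left (Ideal.pow_le_pow_right h)

/-- Let `A` be a Noetherian ring, `I ⊆ A` an ideal inside the Jacobson radical, and `L → M → N` two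
complexes `(f, g)` and `(f', g')` of finite `A`-modules with `f' ≡ f` modulo `I^{c+1}M` and `g' ≡ g`
modulo `I^{c+1}N`. If `c` works in the Artin–Rees lemma for `f` and for `g` (that is `f(L) ∩ IⁿM ⊆
f(I^{n-c}L)` for `n ≥ c`, and likewise for `g`) and `(f, g)` is exact, then `c` works for `g'` and
`(f', g')` is exact. -/
theorem result {A : Type u} [CommRing A] [IsNoetherianRing A] (I : Ideal A)
    (hI : I ≤ Ideal.jacobson (⊥ : Ideal A)) {L M N : Type u} [AddCommGroup L] [Module A L] [Module.Finite A L]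
    [AddCommGroup M] [Module A M] [Module.Finite A M] [AddCommGroup N] [Module A N] [Module.Finite A N]
    (f f' : L →ₗ[A] M) (g g' : M →ₗ[A] N) (c : ℕ) (hgf : g.comp f = 0) (hgf' : g'.comp f' = 0)
    (hf : (∀ n : ℕ, c ≤ n → LinearMap.range f ⊓ (I ^ n • (⊤ : Submodule A M)) ≤ Submodule.map f (I ^ (n - c) • (⊤ : Submodule A L))))
    (hg : (∀ n : ℕ, c ≤ n → LinearMap.range g ⊓ (I ^ n • (⊤ : Submodule A N)) ≤ Submodule.map g (I ^ (n - c) • (⊤ : Submodule A M))))
    (hex : Function.Exact f g)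
    (hff' : ∀ x : L, f x - f' x ∈ I ^ (c + 1) • (⊤ : Submodule A M))
    (hgg' : ∀ y : M, g y - g' y ∈ I ^ (c + 1) • (⊤ : Submodule A N)) :
    (∀ n : ℕ, c ≤ n → LinearMap.range g' ⊓ (I ^ n • (⊤ : Submodule A N)) ≤ Submodule.map g' (I ^ (n - c) • (⊤ : Submodule A M))) ∧
    Function.Exact f' g' := by
  have hg'f' : ∀ b, g' (f' b) = 0 := fun b => by
    have := LinearMap.congr_fun hgf' b
    simpa using this
  -- the step
  have step : ∀ (n r : ℕ), r + c + 1 ≤ n → ∀ a : M, a ∈ I ^ r • (⊤ : Submodule A M) →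
      g' a ∈ I ^ n • (⊤ : Submodule A N) →
      ∃ (b : L) (a₂ : M), a₂ ∈ I ^ (r + 1) • (⊤ : Submodule A M) ∧ a = f' b + a₂ := by
    intro n r hrn a ha hga
    have h1 : (g - g') a ∈ I ^ (r + (c + 1)) • (⊤ : Submodule A N) :=
      map_mem_pow_add I (g - g') (c + 1) r (fun y => by simpa using hgg' y) a ha
    have h2 : g a ∈ I ^ (r + c + 1) • (⊤ : Submodule A N) := by
      have : g a = g' a + (g - g') a := by simp
      rw [this]
      exact Submodule.add_mem _ (pow_smul_top_anti I hrn hga) (by simpa [add_assoc] using h1)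
    have hrc : r + c + 1 - c = r + 1 := by omega
    have h3 : g a ∈ Submodule.map g (I ^ (r + c + 1 - c) • (⊤ : Submodule A M)) :=
      hg (r + c + 1) (by omega) ⟨⟨a, rfl⟩, h2⟩
    rw [hrc] at h3
    obtain ⟨a₁, ha₁, ha₁g⟩ := h3
    have h4 : g (a - a₁) = 0 := by simp [ha₁g]
    obtain ⟨b, hb⟩ := (hex (a - a₁)).1 h4
    have ha₁' : a₁ ∈ I ^ r • (⊤ : Submodule A M) := pow_smul_top_anti I (Nat.le_succ r) ha₁
    have hfb : f b ∈ I ^ r • (⊤ : Submodule A M) := by
      rw [hb]; exact Submodule.sub_mem _ ha ha₁'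
    by_cases hrc' : c ≤ r
    · obtain ⟨b₀, hb₀, hb₀f⟩ := hf r hrc' ⟨⟨b, rfl⟩, hfb⟩
      have h5 : (f - f') b₀ ∈ I ^ (r - c + (c + 1)) • (⊤ : Submodule A M) :=
        map_mem_pow_add I (f - f') (c + 1) (r - c) (fun y => by simpa using hff' y) b₀ hb₀
      have hrc2 : r - c + (c + 1) = r + 1 := by omega
      rw [hrc2] at h5
      refine ⟨b₀, (f - f') b₀ + a₁, Submodule.add_mem _ h5 ha₁, ?_⟩
      have : a = f b + a₁ := by rw [hb]; abel
      rw [this, ← hb₀f]
      simp only [LinearMap.sub_apply]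
      abel
    · have h5 : (f - f') b ∈ I ^ (r + 1) • (⊤ : Submodule A M) :=
        pow_smul_top_anti I (show r + 1 ≤ c + 1 by omega) (by simpa using hff' b)
      refine ⟨b, (f - f') b + a₁, Submodule.add_mem _ h5 ha₁, ?_⟩
      have : a = f b + a₁ := by rw [hb]; abel
      rw [this]
      simp only [LinearMap.sub_apply]
      abel
  -- iterate
  have key : ∀ (n : ℕ), c ≤ n → ∀ k r : ℕ, r + k = n - c → ∀ a : M, a ∈ I ^ r • (⊤ : Submodule A M) →
      g' a ∈ I ^ n • (⊤ : Submodule A N) →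
      ∃ (b : L) (a' : M), a' ∈ I ^ (n - c) • (⊤ : Submodule A M) ∧ a = f' b + a' := by
    intro n hn k
    induction k with
    | zero =>
      intro r hr a ha _
      refine ⟨0, a, ?_, by simp⟩
      have : r = n - c := by omega
      rw [← this]; exact ha
    | succ k ih =>
      intro r hr a ha hga
      obtain ⟨b, a₂, ha₂, rfl⟩ := step n r (by omega) a ha hga
      have hga₂ : g' a₂ ∈ I ^ n • (⊤ : Submodule A N) := by
        have : g' (f' b + a₂) = g' a₂ := by simp [hg'f']
        rwa [this] at hga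
      obtain ⟨b', a', ha', rfl⟩ := ih (r + 1) (by omega) a₂ ha₂ hga₂
      exact ⟨b + b', a', ha', by simp [add_assoc]⟩
  have key0 : ∀ (n : ℕ), c ≤ n → ∀ a : M, g' a ∈ I ^ n • (⊤ : Submodule A N) →
      ∃ (b : L) (a' : M), a' ∈ I ^ (n - c) • (⊤ : Submodule A M) ∧ a = f' b + a' := by
    intro n hn a hga
    exact key n hn (n - c) 0 (by omega) a (by simp) hga
  refine ⟨?_, ?_⟩
  · rintro n hn _ ⟨⟨a, rfl⟩, hy⟩
    obtain ⟨b, a', ha', rfl⟩ := key0 n hn a hy
    exact ⟨a', ha', by simp [hg'f']⟩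
  · intro a
    constructor
    · intro ha
      -- a ∈ ⋂ (range f' + I^k M)
      let Q := M ⧸ LinearMap.range f'
      have hQ : (LinearMap.range f').mkQ a = 0 := by
        have hbot := Ideal.iInf_pow_smul_eq_bot_of_le_jacobson (M := Q) I hI
        have : (LinearMap.range f').mkQ a ∈ (⨅ i : ℕ, I ^ i • (⊤ : Submodule A Q)) := by
          rw [Submodule.mem_iInf]
          intro k
          obtain ⟨b, a', ha', rfl⟩ := key0 (k + c) (by omega) a (by rw [ha]; exact Submodule.zero_mem _)
          have hk : k + c - c = k := by omega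
          rw [hk] at ha'
          have h1 : (LinearMap.range f').mkQ (f' b + a') = (LinearMap.range f').mkQ a' := by
            rw [map_add]
            have : (LinearMap.range f').mkQ (f' b) = 0 := by
              rw [Submodule.mkQ_apply, Submodule.Quotient.mk_eq_zero]; exact ⟨b, rfl⟩
            rw [this, zero_add]
          rw [h1]
          have h2 : Submodule.map (LinearMap.range f').mkQ (I ^ k • (⊤ : Submodule A M)) ≤ I ^ k • (⊤ : Submodule A Q) := by
            rw [Submodule.map_smul'']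
            exact Submodule.smul_mono le_rfl le_top
          exact h2 ⟨a', ha', rfl⟩
        rw [hbot] at this
        simpa using this
      rw [Submodule.mkQ_apply, Submodule.Quotient.mk_eq_zero] at hQ
      exact hQ
    · rintro ⟨b, rfl⟩
      exact hg'f' b


end Groth.Agent.S6909
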