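import Groth.Statements.S6910
import Mathlib

set_option autoImplicit false
universe u
open CAlg

namespace Groth.Agent.S6910

open scoped TensorProduct


section
variable {A : Type u} [CommRing A] (I : Ideal A) {M N : Type u}
  [AddCommGroup M] [Module A M] [AddCommGroup N] [Module A N]

theorem map_pow_smul_le (δ : M →ₗ[A] N) (k r : ℕ)
    (hδ : ∀ y : M, δ y ∈ I ^ k • (⊤ : Submodule A N)) {y : M}
    (hy : y ∈ I ^ r • (⊤ : Submodule A M)) : δ y ∈ I ^ (r + k) • (⊤ : Submodule A N) := by
  have h1 : Submodule.map δ (I ^ r • ⊤) ≤ I ^ (r + k) • (⊤ : Submodule A N) := by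
    rw [Submodule.map_smul'', pow_add, Submodule.mul_smul]
    refine Submodule.smul_mono le_rfl ?_
    rintro _ ⟨y, _, rfl⟩
    exact hδ y
  exact h1 ⟨y, hy, rfl⟩

theorem pow_smul_top_anti {m n : ℕ} (h : m ≤ n) :
    I ^ n • (⊤ : Submodule A N) ≤ I ^ m • (⊤ : Submodule A N) :=
  Submodule.smul_mono_left (Ideal.pow_le_pow_right h)

/-- generic comparison -/
theorem compare (g1 g2 : M →ₗ[A] N) (c : ℕ)
    (hd : ∀ y : M, g1 y - g2 y ∈ I ^ (c + 1) • (⊤ : Submodule A N))
    (hg : ∀ n : ℕ, c ≤ n → LinearMap.range g1 ⊓ (I ^ n • (⊤ : Submodule A N)) ≤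
      Submodule.map g1 (I ^ (n - c) • (⊤ : Submodule A M))) (n : ℕ) :
    LinearMap.range g1 ⊓ I ^ n • (⊤ : Submodule A N) ≤
      I ^ (n + 1) • (⊤ : Submodule A N) ⊔ (LinearMap.range g2 ⊓ I ^ n • (⊤ : Submodule A N)) := by
  intro x hx
  have key : ∃ y : M, g1 y = x ∧ g1 y - g2 y ∈ I ^ (n + 1) • (⊤ : Submodule A N) := by
    by_cases hn : c ≤ n
    · obtain ⟨y, hy, rfl⟩ := hg n hn hx
      refine ⟨y, rfl, ?_⟩
      have := map_pow_smul_le I (g1 - g2) (c + 1) (n - c) hd hy
      have he : n - c + (c + 1) = n + 1 := by omega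
      rw [he] at this
      exact this
    · obtain ⟨y, rfl⟩ := hx.1
      exact ⟨y, rfl, pow_smul_top_anti I (by omega) (hd y)⟩
  obtain ⟨y, rfl, hy⟩ := key
  rw [Submodule.mem_sup]
  refine ⟨g1 y - g2 y, hy, g2 y, ⟨⟨y, rfl⟩, ?_⟩, by abel⟩
  have : g2 y = g1 y - (g1 y - g2 y) := by abel
  rw [this]
  exact Submodule.sub_mem _ hx.2 (pow_smul_top_anti I (Nat.le_succ n) hy)

end

/-- Let `A` be a Noetherian ring, `I ⊆ A` an ideal inside the Jacobson radical, and `L → M → N` two
complexes `(f, g)` and `(f', g')` of finite `A`-modules with `f' ≡ f` modulo `I^{c+1}M` and `g' ≡ g`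
modulo `I^{c+1}N`, such that the Artin–Rees bound holds with constant `c` for both `f` and `g`, and
`(f, g)` is exact. Then for every `n` the submodules `I^{n+1}N + g(M) ∩ IⁿN` and `I^{n+1}N + g'(M) ∩
IⁿN` of `N` are equal; consequently the associated graded modules of `Coker g` and `Coker g'` with
respect to `I` coincide degreewise as subquotients of `N`. -/
theorem result {A : Type u} [CommRing A] [IsNoetherianRing A] (I : Ideal A)
    (hI : I ≤ Ideal.jacobson (⊥ : Ideal A)) {L M N : Type u} [AddCommGroup L] [Module A L] [Module.Finite A L]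
    [AddCommGroup M] [Module A M] [Module.Finite A M] [AddCommGroup N] [Module A N] [Module.Finite A N]
    (f f' : L →ₗ[A] M) (g g' : M →ₗ[A] N) (c : ℕ) (hgf : g.comp f = 0) (hgf' : g'.comp f' = 0)
    (hf : (∀ n : ℕ, c ≤ n → LinearMap.range f ⊓ (I ^ n • (⊤ : Submodule A M)) ≤ Submodule.map f (I ^ (n - c) • (⊤ : Submodule A L))))
    (hg : (∀ n : ℕ, c ≤ n → LinearMap.range g ⊓ (I ^ n • (⊤ : Submodule A N)) ≤ Submodule.map g (I ^ (n - c) • (⊤ : Submodule A M))))
    (hex : Function.Exact f g)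
    (hff' : ∀ x : L, f x - f' x ∈ I ^ (c + 1) • (⊤ : Submodule A M))
    (hgg' : ∀ y : M, g y - g' y ∈ I ^ (c + 1) • (⊤ : Submodule A N)) (n : ℕ) :
    I ^ (n + 1) • (⊤ : Submodule A N) ⊔ (LinearMap.range g ⊓ I ^ n • (⊤ : Submodule A N)) =
      I ^ (n + 1) • (⊤ : Submodule A N) ⊔ (LinearMap.range g' ⊓ I ^ n • (⊤ : Submodule A N)) := by
  have hg'g : ∀ y : M, g' y - g y ∈ I ^ (c + 1) • (⊤ : Submodule A N) := by
    intro y
    have : g' y - g y = -(g y - g' y) := by abel
    rw [this]; exact Submodule.neg_mem _ (hgg' y)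
  -- c works for g'
  have hg' : ∀ n : ℕ, c ≤ n → LinearMap.range g' ⊓ (I ^ n • (⊤ : Submodule A N)) ≤
      Submodule.map g' (I ^ (n - c) • (⊤ : Submodule A M)) := by
    intro n hn
    rintro _ ⟨⟨a, rfl⟩, ha⟩
    have step : ∀ r : ℕ, r ≤ n - c → ∃ a' : M, a' ∈ I ^ r • (⊤ : Submodule A M) ∧ g' a' = g' a := by
      intro r
      induction r with
      | zero => intro _; exact ⟨a, by simp, rfl⟩
      | succ r ih =>
        intro hr
        obtain ⟨ar, har, hgar⟩ := ih (by omega)
        -- g ar ∈ I^{r+c+1} N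
        have h1 : g ar ∈ I ^ (r + c + 1) • (⊤ : Submodule A N) := by
          have e : g ar = g' ar + (g ar - g' ar) := by abel
          rw [e]
          refine Submodule.add_mem _ ?_ ?_
          · rw [hgar]; exact pow_smul_top_anti I (by omega) ha
          · have := map_pow_smul_le I (g - g') (c + 1) r hgg' har
            have he : r + (c + 1) = r + c + 1 := by omega
            rw [he] at this
            exact this
        obtain ⟨a1, ha1, hga1⟩ := hg (r + c + 1) (by omega) ⟨⟨ar, rfl⟩, h1⟩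
        have he : r + c + 1 - c = r + 1 := by omega
        rw [he] at ha1
        have h2 : g (ar - a1) = 0 := by rw [map_sub, hga1, sub_self]
        obtain ⟨b, hb⟩ := (hex (ar - a1)).mp h2
        have hfb : f b ∈ I ^ r • (⊤ : Submodule A M) := by
          rw [hb]
          exact Submodule.sub_mem _ har (pow_smul_top_anti I (Nat.le_succ r) ha1)
        -- choose b' with f b' = f b and (f - f') b' ∈ I^{r+1} M
        have h3 : ∃ b' : L, f b' = f b ∧ f b' - f' b' ∈ I ^ (r + 1) • (⊤ : Submodule A M) := by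
          by_cases hrc : c ≤ r
          · obtain ⟨b', hb', hfb'⟩ := hf r hrc ⟨⟨b, rfl⟩, hfb⟩
            refine ⟨b', hfb', ?_⟩
            have := map_pow_smul_le I (f - f') (c + 1) (r - c) hff' hb'
            have he : r - c + (c + 1) = r + 1 := by omega
            rw [he] at this
            exact this
          · exact ⟨b, rfl, pow_smul_top_anti I (by omega) (hff' b)⟩
        obtain ⟨b', hfb', hd'⟩ := h3
        refine ⟨(f b' - f' b') + a1, Submodule.add_mem _ hd' ha1, ?_⟩
        have h4 : g' (f' b') = 0 := LinearMap.congr_fun hgf' b'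
        have h5 : ar = f' b' + ((f b' - f' b') + a1) := by
          have : ar = f b + a1 := by rw [hb]; abel
          rw [this, ← hfb']; abel
        rw [← hgar]
        conv_rhs => rw [h5, map_add, h4, zero_add]
    obtain ⟨a', ha', hga'⟩ := step (n - c) le_rfl
    exact ⟨a', ha', hga'⟩
  apply le_antisymm
  · exact sup_le le_sup_left (compare I g g' c hgg' hg n)
  · exact sup_le le_sup_left (compare I g' g c hg'g hg' n)


end Groth.Agent.S6910
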