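import Groth.Statements.S6911
import Mathlib
import Groth.Agent.H4.BaseChangeSub

set_option autoImplicit false
universe u
open TensorProduct
open CAlg

namespace Groth.Agent.S6911

open scoped TensorProduct
open Groth.Agent.H4.BaseChangeSub



/-- Let `A → B` be a flat map of Noetherian rings, `I ⊆ A` an ideal and `f : M → N` a map of finite
`A`-modules such that `c` works for `f` in the Artin–Rees lemma (`f(M) ∩ IⁿN ⊆ f(I^{n-c}M)` for `n ≥
c`). Then `c` works for `f ⊗ 1 : M ⊗_A B → N ⊗_A B` and the ideal `IB`. -/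
theorem result {A B : Type u} [CommRing A] [IsNoetherianRing A] [CommRing B]
    [IsNoetherianRing B] [Algebra A B] [Module.Flat A B] (I : Ideal A) {M N : Type u} [AddCommGroup M] [Module A M]
    [Module.Finite A M] [AddCommGroup N] [Module A N] [Module.Finite A N] (f : M →ₗ[A] N) (c : ℕ)
    (hf : (∀ n : ℕ, c ≤ n → LinearMap.range f ⊓ (I ^ n • (⊤ : Submodule A N)) ≤ Submodule.map f (I ^ (n - c) • (⊤ : Submodule A M)))) :
    ∀ n : ℕ, c ≤ n →
      LinearMap.range (f.baseChange B) ⊓ ((I.map (algebraMap A B)) ^ n • (⊤ : Submodule B (B ⊗[A] N))) ≤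
        Submodule.map (f.baseChange B) ((I.map (algebraMap A B)) ^ (n - c) • (⊤ : Submodule B (B ⊗[A] M))) := by
  intro n hn
  rintro _ ⟨⟨y, rfl⟩, hy⟩
  let P : Submodule A N := I ^ n • ⊤
  let h : M →ₗ[A] N ⧸ P := P.mkQ ∘ₗ f
  have hker : LinearMap.ker h ≤ (I ^ (n - c) • ⊤ : Submodule A M) ⊔ LinearMap.ker f := by
    intro m hm
    have h1 : f m ∈ P := by
      have : P.mkQ (f m) = 0 := hm
      rwa [Submodule.mkQ_apply, Submodule.Quotient.mk_eq_zero] at this
    obtain ⟨m', hm', hfm'⟩ := hf n hn ⟨⟨m, rfl⟩, h1⟩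
    rw [Submodule.mem_sup]
    refine ⟨m', hm', m - m', ?_, by abel⟩
    rw [LinearMap.mem_ker, map_sub, hfm', sub_self]
  have hy2 : y ∈ LinearMap.ker (h.baseChange B) := by
    rw [LinearMap.mem_ker, LinearMap.baseChange_comp, LinearMap.comp_apply, ← LinearMap.mem_ker,
      ker_baseChange_mkQ, baseChange_pow_smul_top]
    exact hy
  rw [← baseChange_ker] at hy2
  have hy3 := Submodule.baseChange_mono B hker hy2
  rw [baseChange_sup, baseChange_pow_smul_top, baseChange_ker, Submodule.mem_sup] at hy3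
  obtain ⟨y1, hy1, y2, hy2', rfl⟩ := hy3
  refine ⟨y1, hy1, ?_⟩
  rw [map_add, LinearMap.mem_ker.mp hy2', add_zero]


end Groth.Agent.S6911
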