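import Groth.Statements.S6912
import Mathlib

set_option autoImplicit false
universe u
open TensorProduct
open CAlg

namespace Groth.Agent.S6912

open scoped TensorProduct



/-- Let `R` be a domain and `M`, `N` two `R`-modules; rank means dimension over the fraction field after
base change. Then `rank (M ⊗_R N) = rank M · rank N`, and when `M` is finitely presented also `rank
Hom_R(M, N) = rank M · rank N`. -/
theorem result (R : Type u) [CommRing R] [IsDomain R] (M N : Type u)
    [AddCommGroup M] [Module R M] [AddCommGroup N] [Module R N] :
    Module.rank R (M ⊗[R] N) = Module.rank R M * Module.rank R N ∧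
    (Module.FinitePresentation R M → Module.rank R (M →ₗ[R] N) = Module.rank R M * Module.rank R N) := by
  let K := FractionRing R
  constructor
  · have h1 : Module.rank K (K ⊗[R] (M ⊗[R] N)) = Module.rank R (M ⊗[R] N) :=
      (TensorProduct.isBaseChange R (M ⊗[R] N) K).rank_eq
    have h2 : Module.rank K (K ⊗[R] M) = Module.rank R M :=
      (TensorProduct.isBaseChange R M K).rank_eq
    have h3 : Module.rank K (K ⊗[R] N) = Module.rank R N :=
      (TensorProduct.isBaseChange R N K).rank_eq
    rw [← h1, ← h2, ← h3, ← rank_tensorProduct']
    exact (TensorProduct.AlgebraTensorModule.distribBaseChange R K M N).rank_eq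
  · intro hfp
    let M' := LocalizedModule (nonZeroDivisors R) M
    let N' := LocalizedModule (nonZeroDivisors R) N
    let f : M →ₗ[R] M' := LocalizedModule.mkLinearMap (nonZeroDivisors R) M
    let g : N →ₗ[R] N' := LocalizedModule.mkLinearMap (nonZeroDivisors R) N
    haveI : Module.Finite K M' := Module.Finite.of_isLocalizedModule (nonZeroDivisors R) f
    have h1 : Module.rank R (M' →ₗ[K] N') = Module.rank R (M →ₗ[R] N) :=
      IsLocalizedModule.rank_eq (nonZeroDivisors R) le_rfl
        (IsLocalizedModule.mapExtendScalars (nonZeroDivisors R) f g K)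
    have h2 : Module.rank K (M' →ₗ[K] N') = Module.rank R (M' →ₗ[K] N') :=
      IsLocalization.rank_eq K (nonZeroDivisors R) le_rfl
    have h3 : Module.rank K M' = Module.rank R M :=
      (IsLocalization.rank_eq K (nonZeroDivisors R) le_rfl).trans
        (IsLocalizedModule.rank_eq (nonZeroDivisors R) le_rfl f)
    have h4 : Module.rank K N' = Module.rank R N :=
      (IsLocalization.rank_eq K (nonZeroDivisors R) le_rfl).trans
        (IsLocalizedModule.rank_eq (nonZeroDivisors R) le_rfl g)
    rw [← h1, ← h2, Module.rank_linearMap, Cardinal.lift_id, Cardinal.lift_id, h3, h4]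


end Groth.Agent.S6912
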