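import Groth.Statements.S6913
import Mathlib
import Groth.Agent.H4.TFDual2

set_option autoImplicit false
universe u
open CAlg

namespace Groth.Agent.S6913

open Groth.Agent.H4.TFDual2



/-- Let `R` be a domain and `M` a finite `R`-module, of (finite) rank `r`. Then: some linear map `M →
R^r` has torsion kernel and torsion cokernel; some nonzero `f ∈ R` makes `M_f` free of rank `r` over
`R_f`; and some injective linear map `R^r → M` has torsion cokernel. -/
theorem result (R : Type u) [CommRing R] [IsDomain R] (M : Type u) [AddCommGroup M]
    [Module R M] [Module.Finite R M] :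
    (∃ h : M →ₗ[R] (Fin (Module.finrank R M) → R),
      (∀ x : M, h x = 0 → ∃ c : R, c ≠ 0 ∧ c • x = 0) ∧
      (∀ y : Fin (Module.finrank R M) → R, ∃ c : R, c ≠ 0 ∧ c • y ∈ LinearMap.range h)) ∧
    (∃ f : R, f ≠ 0 ∧ Module.Free (Localization.Away f) (LocalizedModule (Submonoid.powers f) M) ∧
      Module.finrank (Localization.Away f) (LocalizedModule (Submonoid.powers f) M) = Module.finrank R M) ∧
    (∃ g : (Fin (Module.finrank R M) → R) →ₗ[R] M, Function.Injective g ∧
      ∀ x : M, ∃ c : R, c ≠ 0 ∧ c • x ∈ LinearMap.range g) := by
  classical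
  obtain ⟨m, l, c, hc0, hli, hc, hlm⟩ := exists_fin_frame R M
  refine ⟨?_, ?_, ?_⟩
  · refine ⟨LinearMap.pi l, fun x hx => ⟨c, hc0, ?_⟩, fun y => ⟨c, hc0, ∑ j, y j • m j, ?_⟩⟩
    · rw [hc x]
      refine Finset.sum_eq_zero (fun i _ => ?_)
      have : l i x = 0 := congrFun hx i
      rw [this, zero_smul]
    · funext i
      simp only [LinearMap.pi_apply, map_sum, map_smul, hlm, Pi.smul_apply, smul_eq_mul]
      simp [mul_comm]
  · let φ := LocalizedModule.mkLinearMap (Submonoid.powers c) M
    have hli' : LinearIndependent (Localization.Away c) (φ ∘ m) :=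
      hli.of_isLocalizedModule (Localization.Away c) (Submonoid.powers c) φ
    have hspan : ⊤ ≤ Submodule.span (Localization.Away c) (Set.range (φ ∘ m)) := by
      intro z _
      obtain ⟨⟨x, s⟩, hxs⟩ := IsLocalizedModule.surj (Submonoid.powers c) φ z
      have h1 : (c * (s : R)) • z ∈ Submodule.span (Localization.Away c) (Set.range (φ ∘ m)) := by
        rw [mul_smul]
        have : (s : R) • z = φ x := hxs
        rw [this, ← map_smul, hc x, map_sum]
        refine Submodule.sum_mem _ (fun i _ => ?_)
        rw [map_smul, ← algebraMap_smul (Localization.Away c)]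
        exact Submodule.smul_mem _ _ (Submodule.subset_span ⟨i, rfl⟩)
      have hu : IsUnit (algebraMap R (Localization.Away c) (c * (s : R))) := by
        rw [map_mul]
        exact (IsLocalization.map_units (Localization.Away c)
          (⟨c, Submonoid.mem_powers c⟩ : Submonoid.powers c)).mul
          (IsLocalization.map_units (Localization.Away c) s)
      rw [← algebraMap_smul (Localization.Away c)] at h1
      have := Submodule.smul_mem _ (hu.unit⁻¹ : (Localization.Away c)ˣ).val h1
      rwa [smul_smul, IsUnit.val_inv_mul, one_smul] at this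
    let bas : Module.Basis (Fin (Module.finrank R M)) (Localization.Away c)
      (LocalizedModule (Submonoid.powers c) M) := Module.Basis.mk hli' hspan
    haveI : Nontrivial (Localization.Away c) :=
      (IsLocalization.injective (Localization.Away c)
        (powers_le_nonZeroDivisors_of_noZeroDivisors hc0)).nontrivial
    refine ⟨c, hc0, Module.Free.of_basis bas, ?_⟩
    rw [Module.finrank_eq_card_basis bas, Fintype.card_fin]
  · refine ⟨Fintype.linearCombination R m, ?_, fun x => ⟨c, hc0, fun i => l i x, ?_⟩⟩
    · rw [injective_iff_map_eq_zero]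
      intro y hy
      rw [Fintype.linearCombination_apply] at hy
      funext i
      exact (Fintype.linearIndependent_iff.mp hli) y hy i
    · rw [Fintype.linearCombination_apply, hc x]


end Groth.Agent.S6913
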