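import Groth.Statements.S6914
import Mathlib
import Groth.Agent.H4.Fitting10
import Groth.Agent.S6894

set_option autoImplicit false
universe u
open TensorProduct
open Fitt

namespace Groth.Agent.S6914

open scoped TensorProduct

open Groth.Agent.H4.Fitting

section Blow
variable {R : Type u} [CommRing R] (I : Ideal R) (a : R)

theorem affineAlgebra_nzd (b : ↥(BlowUp.affineAlgebra R I a))
    (h : algebraMap R ↥(BlowUp.affineAlgebra R I a) a * b = 0) : b = 0 := by
  apply Subtype.ext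
  have h1 := congrArg Subtype.val h
  simp only [Subalgebra.coe_mul, Subalgebra.coe_algebraMap, ZeroMemClass.coe_zero] at h1
  have hu : IsUnit (algebraMap R (Localization.Away a) a) := IsLocalization.Away.algebraMap_isUnit a
  exact (hu.mul_right_eq_zero).mp h1

theorem affineAlgebra_map (x : R) (hx : x ∈ I) :
    ∃ c : ↥(BlowUp.affineAlgebra R I a), algebraMap R ↥(BlowUp.affineAlgebra R I a) x =
      algebraMap R ↥(BlowUp.affineAlgebra R I a) a * c := by
  refine ⟨⟨IsLocalization.mk' (Localization.Away a) x ⟨a, Submonoid.mem_powers a⟩,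
    Algebra.subset_adjoin ⟨x, hx, rfl⟩⟩, ?_⟩
  apply Subtype.ext
  simp only [Subalgebra.coe_mul, Subalgebra.coe_algebraMap]
  rw [mul_comm]
  exact (IsLocalization.mk'_spec (Localization.Away a) x ⟨a, Submonoid.mem_powers a⟩).symm

variable (R₁ : Type u) [CommRing R₁] [Algebra R R₁] (e : R₁ ≃ₐ[R] ↥(BlowUp.affineAlgebra R I a))

include e in
theorem R₁_nzd : algebraMap R R₁ a ∈ nonZeroDivisors R₁ := by
  rw [mem_nonZeroDivisors_iff]
  have key : ∀ r : R₁, algebraMap R R₁ a * r = 0 → r = 0 := by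
    intro r hr
    have h1 := congrArg e hr
    rw [map_mul, AlgEquiv.commutes, map_zero] at h1
    have := affineAlgebra_nzd I a _ h1
    exact (map_eq_zero_iff e e.injective).mp this
  exact ⟨key, fun r hr => key r (by rwa [mul_comm])⟩

include e in
theorem R₁_map (ha : a ∈ I) : I.map (algebraMap R R₁) = Ideal.span {algebraMap R R₁ a} := by
  apply le_antisymm
  · rw [Ideal.map_le_iff_le_comap]
    intro x hx
    rw [Ideal.mem_comap, Ideal.mem_span_singleton']
    obtain ⟨c, hc⟩ := affineAlgebra_map I a x hx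
    refine ⟨e.symm c, ?_⟩
    apply e.injective
    rw [map_mul, AlgEquiv.apply_symm_apply, AlgEquiv.commutes, AlgEquiv.commutes, hc, mul_comm]
  · rw [Ideal.span_le, Set.singleton_subset_iff]
    exact Ideal.mem_map_of_mem _ ha

end Blow

theorem exists_family0 {A : Type u} [CommRing A] {N : Type u} [AddCommGroup N] [Module A N]
    {n : ℕ} (x : Fin n → N) (k : ℕ) (f : A) (hf0 : f ∈ nonZeroDivisors A)
    (hGk : (G k x : Ideal A) = Ideal.span {f}) :
    ∃ (N' : ℕ) (a : Fin N' → Matrix (Fin n) (Fin n) A) (T : Fin N' → Finset (Fin n))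
      (t r : Fin N' → A), (∀ j, (T j).card ≤ k ∧ (∀ i, i ∉ T j → ∑ l, a j i l • x l = 0) ∧
        (a j).det = t j * f) ∧ ∑ j, r j * t j = 1 := by
  have hf : f ∈ (G k x : Ideal A) := hGk ▸ Ideal.subset_span rfl
  unfold G at hf
  obtain ⟨N', r, g, hg⟩ := Submodule.mem_span_set'.mp hf
  have hex : ∀ j, ∃ (a : Matrix (Fin n) (Fin n) A) (T : Finset (Fin n)) (t : A),
      T.card ≤ k ∧ (∀ i, i ∉ T → ∑ l, a i l • x l = 0) ∧ a.det = t * f ∧ (g j : A) = a.det := by
    intro j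
    obtain ⟨a, T, hT, hr, hd⟩ := (g j).2
    have hmem : a.det ∈ (G k x : Ideal A) := det_mem_G a T hT hr
    rw [hGk] at hmem
    obtain ⟨t, ht⟩ := Ideal.mem_span_singleton'.mp hmem
    exact ⟨a, T, t, hT, hr, ht.symm, hd⟩
  choose a T t hT hr hdet hga using hex
  refine ⟨N', a, T, t, r, fun j => ⟨hT j, hr j, hdet j⟩, ?_⟩
  have h1 : (∑ j, r j * t j) * f = 1 * f := by
    rw [one_mul, Finset.sum_mul]
    conv_rhs => rw [← hg]
    refine Finset.sum_congr rfl (fun j _ => ?_)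
    rw [hga j, hdet j, smul_eq_mul, mul_assoc]
  rw [mem_nonZeroDivisors_iff] at hf0
  have h2 : (∑ j, r j * t j - 1) * f = 0 := by rw [sub_mul, h1, sub_self]
  exact sub_eq_zero.mp (hf0.2 _ h2)

/-- if `Fit_k(N) = (f)` with `f` a nonzerodivisor then `Fit_k(N ⧸ ker f) = ⊤` -/
theorem fitt_quot_ker_eq_top {A : Type u} [CommRing A] (N : Type u) [AddCommGroup N] [Module A N]
    [Module.Finite A N] (k : ℕ) (f : A) (hf0 : f ∈ nonZeroDivisors A)
    (hf : Fitt.ideal A N k = Ideal.span {f}) :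
    Fitt.ideal A (N ⧸ LinearMap.ker (f • (LinearMap.id : N →ₗ[A] N))) k = ⊤ := by
  obtain ⟨n, x, hx⟩ := Module.Finite.exists_fin (R := A) (M := N)
  have hGk : (G k x : Ideal A) = Ideal.span {f} := by rw [← ideal_eq_G k x hx]; exact hf
  obtain ⟨N', a, T, t, r, hD, hsum⟩ := exists_family0 x k f hf0 hGk
  by_contra hne
  obtain ⟨m, hm, hle⟩ := Ideal.exists_le_maximal _ hne
  haveI := hm.isPrime
  have : ∃ j, t j ∉ m := by
    by_contra hcon
    push Not at hcon
    apply hm.ne_top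
    rw [Ideal.eq_top_iff_one, ← hsum]
    exact Ideal.sum_mem _ (fun j _ => Ideal.mul_mem_left _ _ (hcon j))
  obtain ⟨j, hj⟩ := this
  obtain ⟨h1, h2, h3⟩ := hD j
  have h4 := (Groth.Agent.S6894.result
    (N ⧸ LinearMap.ker (f • (LinearMap.id : N →ₗ[A] N))) k m).2.2.mpr
    ⟨t j, hj, exists_gen_localized_quot x (a j) (T j) k f (t j) h1 h2 h3 hGk.le hx⟩
  exact h4 hle

/-- Let `M` be a finite `R`-module, `k ≥ 0`, `I = Fit_k(M)` and `a ∈ I`; let `R₁ ≅ R[I/a]` be (a copy
of) the affine blow-up algebra and `M' = (M ⊗_R R₁)/(a-power torsion)` the strict transform. Then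
`Fit_k(M') = R₁`. -/
theorem result {R : Type u} [CommRing R] (M : Type u) [AddCommGroup M] [Module R M]
    [Module.Finite R M] (k : ℕ) (a : R) (ha : a ∈ Fitt.ideal R M k)
    (R₁ : Type u) [CommRing R₁] [Algebra R R₁] (e : R₁ ≃ₐ[R] ↥(BlowUp.affineAlgebra R (Fitt.ideal R M k) a)) :
    Fitt.ideal R₁ ((R₁ ⊗[R] M) ⧸ FlatCA.powTorsion R₁ (algebraMap R R₁ a) (R₁ ⊗[R] M)) k = ⊤ := by
  have hnzd := R₁_nzd (Fitt.ideal R M k) a R₁ e
  have hFit : Fitt.ideal R₁ (R₁ ⊗[R] M) k = Ideal.span {algebraMap R R₁ a} := by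
    rw [ideal_baseChange, R₁_map (Fitt.ideal R M k) a R₁ e ha]
  have h1 := fitt_quot_ker_eq_top (R₁ ⊗[R] M) k (algebraMap R R₁ a) hnzd hFit
  have hle : LinearMap.ker ((algebraMap R R₁ a) • (LinearMap.id : (R₁ ⊗[R] M) →ₗ[R₁] (R₁ ⊗[R] M))) ≤
      FlatCA.powTorsion R₁ (algebraMap R R₁ a) (R₁ ⊗[R] M) := by
    intro m hm
    have hm' : (algebraMap R R₁ a) • m = 0 := by simpa using hm
    refine Submodule.mem_iSup_of_mem 1 ?_
    rw [Submodule.mem_torsionBy_iff, pow_one]
    exact hm'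
  rw [eq_top_iff, ← h1]
  refine ideal_mono_surj k (Submodule.mapQ _ _ LinearMap.id (by simpa using hle)) ?_
  intro y
  obtain ⟨n, rfl⟩ := Submodule.mkQ_surjective _ y
  exact ⟨Submodule.Quotient.mk n, by simp⟩


end Groth.Agent.S6914
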