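import Groth.Statements.S6915
import Mathlib
import Groth.Agent.H4.Fitting10
import Groth.Agent.H4.Fitting7
import Groth.Agent.S6914
import Groth.Agent.S6895

set_option autoImplicit false
universe u
open TensorProduct
open Fitt

namespace Groth.Agent.S6915

open scoped TensorProduct

open Groth.Agent.H4.Fitting

/-- T1: vanishing of a Fitting ideal passes to the quotient by the power torsion of a
nonzerodivisor. -/
theorem fitt_quot_powTorsion_eq_bot {A : Type u} [CommRing A] (N : Type u) [AddCommGroup N]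
    [Module A N] [Module.Finite A N] (j : ℕ) (f : A) (hf0 : f ∈ nonZeroDivisors A)
    (h : Fitt.ideal A N j = ⊥) : Fitt.ideal A (N ⧸ FlatCA.powTorsion A f N) j = ⊥ := by
  classical
  obtain ⟨n, x, hx⟩ := Module.Finite.exists_fin (R := A) (M := N)
  have hx' : Submodule.span A (Set.range (fun i => (FlatCA.powTorsion A f N).mkQ (x i))) = ⊤ := by
    have : Set.range (fun i => (FlatCA.powTorsion A f N).mkQ (x i)) =
        (FlatCA.powTorsion A f N).mkQ '' Set.range x := by
      rw [← Set.range_comp]; rfl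
    rw [this, ← Submodule.map_span, hx, Submodule.map_top, Submodule.range_mkQ]
  rw [ideal_eq_G j x hx] at h
  rw [ideal_eq_G j _ hx', eq_bot_iff, G_le_iff]
  intro b T hT hr
  -- each relation row is a relation of `x` after multiplying by a power of `f`
  have hex : ∀ i, ∃ m : ℕ, i ∉ T → f ^ m • ∑ l, b i l • x l = 0 := by
    intro i
    by_cases hi : i ∈ T
    · exact ⟨0, fun h => absurd hi h⟩
    · have h1 := hr i hi
      simp_rw [← map_smul, ← map_sum] at h1
      have h2 : ∑ l, b i l • x l ∈ FlatCA.powTorsion A f N :=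
        (Submodule.Quotient.mk_eq_zero _).mp h1
      unfold FlatCA.powTorsion at h2
      rw [Submodule.mem_iSup_of_directed] at h2
      · obtain ⟨m, hm⟩ := h2
        exact ⟨m, fun _ => (Submodule.mem_torsionBy_iff _ _).mp hm⟩
      · intro m1 m2
        refine ⟨m1 + m2, ?_, ?_⟩
        · intro y hy
          rw [Submodule.mem_torsionBy_iff] at hy ⊢
          rw [pow_add, mul_comm, mul_smul, hy, smul_zero]
        · intro y hy
          rw [Submodule.mem_torsionBy_iff] at hy ⊢
          rw [pow_add, mul_smul, hy, smul_zero]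
  choose m hm using hex
  let v : Fin n → A := fun i => if i ∈ T then 1 else f ^ m i
  have hdet := Matrix.det_mul_column v b
  have hmem : (Matrix.of fun i l => v i * b i l).det ∈ (G j x : Ideal A) := by
    refine det_mem_G _ T hT ?_
    intro i hi
    simp only [Matrix.of_apply, v, if_neg hi, mul_smul]
    rw [← Finset.smul_sum]
    exact hm i hi
  rw [h, Ideal.mem_bot, hdet] at hmem
  have hv : (∏ i, v i) ∈ nonZeroDivisors A := by
    refine Submonoid.prod_mem _ (fun i _ => ?_)
    simp only [v]
    split_ifs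
    · exact Submonoid.one_mem _
    · exact Submonoid.pow_mem _ hf0 _
  rw [Ideal.mem_bot]
  rw [mem_nonZeroDivisors_iff] at hv
  exact hv.1 _ hmem

/-- T3: below the rank, the Fitting ideals are `a`-power torsion. -/
theorem exists_pow_mul_eq_zero {R : Type u} [CommRing R] (M : Type u) [AddCommGroup M]
    [Module R M] [Module.Finite R M] (k : ℕ)
    (hfree : ∀ (p : Ideal R) [p.IsPrime], ¬ Fitt.ideal R M k ≤ p →
      Module.Free (Localization.AtPrime p) (LocalizedModule p.primeCompl M) ∧
        Module.finrank (Localization.AtPrime p) (LocalizedModule p.primeCompl M) = k)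
    (a : R) (ha : a ∈ Fitt.ideal R M k) (k' : ℕ) (hk' : k' < k) (y : R)
    (hy : y ∈ Fitt.ideal R M k') : ∃ m : ℕ, a ^ m * y = 0 := by
  let J : Ideal R := LinearMap.ker (LinearMap.toSpanSingleton R R y)
  have hJ : ∀ r, r ∈ J ↔ r * y = 0 := fun r => by
    simp [J, LinearMap.mem_ker, LinearMap.toSpanSingleton_apply]
  have haJ : a ∈ J.radical := by
    rw [Ideal.radical_eq_sInf, Ideal.mem_sInf]
    rintro p ⟨hJp, hp⟩
    by_contra hap
    have hIp : ¬ Fitt.ideal R M k ≤ p := fun h => hap (h ha)
    obtain ⟨hfr, hrk⟩ := hfree p hIp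
    have h1 : Fitt.ideal (Localization.AtPrime p) (LocalizedModule p.primeCompl M) k' = ⊥ :=
      ideal_eq_bot_of_basis (Module.finBasisOfFinrankEq _ _ hrk) (by simpa using hk')
    rw [fitt_atPrime] at h1
    have h2 : algebraMap R (Localization.AtPrime p) y = 0 := by
      have : algebraMap R (Localization.AtPrime p) y ∈
          (Fitt.ideal R M k').map (algebraMap R (Localization.AtPrime p)) :=
        Ideal.mem_map_of_mem _ hy
      rw [h1] at this
      exact this
    rw [IsLocalization.map_eq_zero_iff p.primeCompl] at h2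
    obtain ⟨⟨s, hs⟩, hsy⟩ := h2
    exact hs (hJp ((hJ s).mpr hsy))
  obtain ⟨m, hm⟩ := haJ
  exact ⟨m, (hJ _).mp hm⟩

/-- Let `M` be a finite `R`-module, `k ≥ 0` and `I = Fit_k(M)`, and assume `M_𝔭` is free of rank `k` for
every prime `𝔭` not containing `I`. Then for every `a ∈ I` and (a copy `R₁` of) the affine blow-up
algebra `R[I/a]`, the strict transform `M' = (M ⊗_R R₁)/(a-power torsion)` is finite locally free of
rank `k`: every prime of `R₁` has a basic open neighbourhood over which `M'` is free of rank `k`. -/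
theorem result {R : Type u} [CommRing R] (M : Type u) [AddCommGroup M]
    [Module R M] [Module.Finite R M] (k : ℕ)
    (hfree : ∀ (p : Ideal R) [p.IsPrime], ¬ Fitt.ideal R M k ≤ p →
      Module.Free (Localization.AtPrime p) (LocalizedModule p.primeCompl M) ∧
        Module.finrank (Localization.AtPrime p) (LocalizedModule p.primeCompl M) = k)
    (a : R) (ha : a ∈ Fitt.ideal R M k) (R₁ : Type u) [CommRing R₁] [Algebra R R₁] (e : R₁ ≃ₐ[R] ↥(BlowUp.affineAlgebra R (Fitt.ideal R M k) a)) :
    ∀ (p' : Ideal R₁) [p'.IsPrime], ∃ g : R₁, g ∉ p' ∧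
      Module.Free (Localization.Away g) (LocalizedModule (Submonoid.powers g) ((R₁ ⊗[R] M) ⧸ FlatCA.powTorsion R₁ (algebraMap R R₁ a) (R₁ ⊗[R] M))) ∧
      Module.finrank (Localization.Away g) (LocalizedModule (Submonoid.powers g) ((R₁ ⊗[R] M) ⧸ FlatCA.powTorsion R₁ (algebraMap R R₁ a) (R₁ ⊗[R] M))) = k := by
  have hnzd := Groth.Agent.S6914.R₁_nzd (Fitt.ideal R M k) a R₁ e
  have htop := Groth.Agent.S6914.result M k a ha R₁ e
  refine (Groth.Agent.S6895.result
    ((R₁ ⊗[R] M) ⧸ FlatCA.powTorsion R₁ (algebraMap R R₁ a) (R₁ ⊗[R] M)) k).mpr ⟨?_, ?_⟩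
  · intro k' hk'
    apply fitt_quot_powTorsion_eq_bot _ k' _ hnzd
    rw [ideal_baseChange, eq_bot_iff, Ideal.map_le_iff_le_comap]
    intro y hy
    obtain ⟨m, hm⟩ := exists_pow_mul_eq_zero M k hfree a ha k' hk' y hy
    rw [Ideal.mem_comap, Ideal.mem_bot]
    have h1 : (algebraMap R R₁ a) ^ m * algebraMap R R₁ y = 0 := by
      rw [← map_pow, ← map_mul, hm, map_zero]
    have h2 := Submonoid.pow_mem _ hnzd m
    rw [mem_nonZeroDivisors_iff] at h2
    exact h2.1 _ h1
  · intro k' hk'
    rw [eq_top_iff, ← htop]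
    exact ideal_mono_index hk'


end Groth.Agent.S6915
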