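import Groth.Statements.S6917
import Mathlib

set_option autoImplicit false
universe u
open CategoryTheory
open EtAlg

namespace Groth.Agent.S6917


section
variable {B' B A' A : Type u} [CommRing B'] [CommRing B] [CommRing A'] [CommRing A]
    [Algebra B' B] [Algebra B' A'] [Algebra B A] [Algebra A' A] [Algebra B' A] [IsScalarTower B' B A] [IsScalarTower B' A' A]

lemma compat (b' : B') : algebraMap B A (algebraMap B' B b') = algebraMap A' A (algebraMap B' A' b') := by
  rw [← IsScalarTower.algebraMap_apply, ← IsScalarTower.algebraMap_apply]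

lemma sq (p : PrimeSpectrum A) : PrimeSpectrum.comap (algebraMap B' B) (PrimeSpectrum.comap (algebraMap B A) p) = PrimeSpectrum.comap (algebraMap B' A') (PrimeSpectrum.comap (algebraMap A' A) p) := by
  ext x
  simp only [PrimeSpectrum.comap_asIdeal, Ideal.mem_comap]
  rw [compat (B := B) (A' := A') x]

variable (hsq : EtMil.IsFibreSquare B' B A' A)
include hsq

lemma surj1 : Function.Surjective (algebraMap B' B) := by
  intro b
  obtain ⟨a', ha'⟩ := hsq.1 (algebraMap B A b)
  obtain ⟨b', ⟨hb', -⟩, -⟩ := hsq.2 b a' ha'.symm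
  exact ⟨b', hb'⟩

lemma inj {x y : B'} (h1 : algebraMap B' B x = algebraMap B' B y) (h2 : algebraMap B' A' x = algebraMap B' A' y) : x = y := by
  obtain ⟨z, -, hz⟩ := hsq.2 (algebraMap B' B y) (algebraMap B' A' y) (compat y)
  rw [hz x ⟨h1, h2⟩, hz y ⟨rfl, rfl⟩]

lemma exists_pair (b : B) (a' : A') (h : algebraMap B A b = algebraMap A' A a') : ∃ c' : B', algebraMap B' B c' = b ∧ algebraMap B' A' c' = a' := (hsq.2 b a' h).exists

lemma exists_zero_mul (i' : B') (hi' : algebraMap B' B i' = 0) (a' : A') :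
    ∃ c' : B', algebraMap B' B c' = 0 ∧ algebraMap B' A' c' = a' * algebraMap B' A' i' := by
  have : algebraMap B A 0 = algebraMap A' A (a' * algebraMap B' A' i') := by
    rw [map_zero, map_mul, ← compat (B := B) (A' := A') i', hi', map_zero, mul_zero]
  exact exists_pair hsq 0 _ this

lemma key (q' : Ideal B') [hq' : q'.IsPrime] (i' : B') (hi : algebraMap B' B i' = 0) (hiq : i' ∉ q') (a' : A') (ha' : a' ∈ q'.map (algebraMap B' A')) : ∀ c' : B', algebraMap B' B c' = 0 → algebraMap B' A' c' = a' * algebraMap B' A' i' → c' ∈ q' := by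
  unfold Ideal.map at ha'
  induction ha' using Submodule.span_induction with
  | mem x hx => 
    obtain ⟨y, hy, rfl⟩ := hx
    intro c' h1 h2
    have : c' = y * i' := inj hsq (by rw [h1, map_mul, hi, mul_zero]) (by rw [h2, map_mul])
    rw [this]; exact q'.mul_mem_right _ hy
  | zero => 
    intro c' h1 h2
    have : c' = 0 := inj hsq (by rw [h1, map_zero]) (by rw [h2, zero_mul, map_zero])
    rw [this]; exact q'.zero_mem
  | add x y _ _ hx hy => 
    intro c' h1 h2
    obtain ⟨cx, hx1, hx2⟩ := exists_zero_mul hsq i' hi x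
    obtain ⟨cy, hy1, hy2⟩ := exists_zero_mul hsq i' hi y
    have : c' = cx + cy := inj hsq (by rw [h1, map_add, hx1, hy1, add_zero]) (by rw [h2, map_add, hx2, hy2, add_mul])
    rw [this]; exact q'.add_mem (hx cx hx1 hx2) (hy cy hy1 hy2)
  | smul r x _ hx =>
    intro c' h1 h2
    obtain ⟨cr, hr1, hr2⟩ := exists_zero_mul hsq i' hi r
    obtain ⟨cx, hx1, hx2⟩ := exists_zero_mul hsq i' hi x
    have : c' * i' = cr * cx := inj hsq (by rw [map_mul, map_mul, h1, hr1, zero_mul, zero_mul]) (by rw [map_mul, map_mul, h2, hr2, hx2, smul_eq_mul]; ring)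
    have h3 : c' * i' ∈ q' := by rw [this]; exact q'.mul_mem_left _ (hx cx hx1 hx2)
    exact (hq'.mem_or_mem h3).resolve_right hiq

lemma exists_of_not_le (q' : PrimeSpectrum B') (h : ¬ RingHom.ker (algebraMap B' B) ≤ q'.asIdeal) : ∃ p' : PrimeSpectrum A', PrimeSpectrum.comap (algebraMap B' A') p' = q' := by
  obtain ⟨i', hi, hiq⟩ := SetLike.not_le_iff_exists.mp h
  have hi0 : algebraMap B' B i' = 0 := RingHom.mem_ker.mp hi
  have : (q'.asIdeal.map (algebraMap B' A')).comap (algebraMap B' A') = q'.asIdeal := by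
    refine le_antisymm ?_ Ideal.le_comap_map
    intro b' hb'
    have := key hsq q'.asIdeal i' hi0 hiq _ hb' (b' * i') (by rw [map_mul, hi0, mul_zero]) (by rw [map_mul])
    exact (q'.isPrime.mem_or_mem this).resolve_right hiq
  obtain ⟨p, hp, hpq⟩ := (Ideal.comap_map_eq_self_iff_of_isPrime q'.asIdeal).mp this
  exact ⟨⟨p, hp⟩, PrimeSpectrum.ext hpq⟩

lemma exists_of_le (q' : PrimeSpectrum B') (h : RingHom.ker (algebraMap B' B) ≤ q'.asIdeal) : ∃ q : PrimeSpectrum B, PrimeSpectrum.comap (algebraMap B' B) q = q' := by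
  have : q' ∈ Set.range (PrimeSpectrum.comap (algebraMap B' B)) := by
    rw [_root_.range_comap_of_surjective _ _ (surj1 hsq)]
    exact h
  exact this

lemma ker_le_of_comap (p' : PrimeSpectrum A') (h : RingHom.ker (algebraMap B' B) ≤ (PrimeSpectrum.comap (algebraMap B' A') p').asIdeal) : ∃ p : PrimeSpectrum A, PrimeSpectrum.comap (algebraMap A' A) p = p' := by
  have : p' ∈ Set.range (PrimeSpectrum.comap (algebraMap A' A)) := by
    rw [_root_.range_comap_of_surjective _ _ hsq.1]
    intro i hi
    obtain ⟨c', h1, h2⟩ := exists_pair hsq 0 i (by rw [map_zero]; exact ((RingHom.mem_ker).mp hi).symm)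
    have := h (RingHom.mem_ker.mpr h1)
    rw [PrimeSpectrum.comap_asIdeal, Ideal.mem_comap, h2] at this
    exact this
  exact this

lemma inr_le (p' p'' : PrimeSpectrum A') (h : PrimeSpectrum.comap (algebraMap B' A') p' = PrimeSpectrum.comap (algebraMap B' A') p'') (i' : B') (hi : algebraMap B' B i' = 0) (hi2 : algebraMap B' A' i' ∉ p''.asIdeal) : p'.asIdeal ≤ p''.asIdeal := by
  intro a' ha'
  obtain ⟨c', h1, h2⟩ := exists_zero_mul hsq i' hi a'
  have hc : c' ∈ (PrimeSpectrum.comap (algebraMap B' A') p').asIdeal := by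
    rw [PrimeSpectrum.comap_asIdeal, Ideal.mem_comap, h2]
    exact p'.asIdeal.mul_mem_right _ ha'
  rw [h, PrimeSpectrum.comap_asIdeal, Ideal.mem_comap, h2] at hc
  exact (p''.isPrime.mem_or_mem hc).resolve_right hi2

lemma inr_eq (p' p'' : PrimeSpectrum A') (h : PrimeSpectrum.comap (algebraMap B' A') p' = PrimeSpectrum.comap (algebraMap B' A') p'') (hk : ¬ RingHom.ker (algebraMap B' B) ≤ (PrimeSpectrum.comap (algebraMap B' A') p').asIdeal) : p' = p'' := by
  obtain ⟨i', hi, hiq⟩ := SetLike.not_le_iff_exists.mp hk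
  have hi0 : algebraMap B' B i' = 0 := RingHom.mem_ker.mp hi
  have h1 : algebraMap B' A' i' ∉ p'.asIdeal := fun hh => hiq (by rw [PrimeSpectrum.comap_asIdeal, Ideal.mem_comap]; exact hh)
  have h2 : algebraMap B' A' i' ∉ p''.asIdeal := fun hh => hiq (by rw [h, PrimeSpectrum.comap_asIdeal, Ideal.mem_comap]; exact hh)
  exact PrimeSpectrum.ext (le_antisymm (inr_le hsq p' p'' h i' hi0 h2) (inr_le hsq p'' p' h.symm i' hi0 h1))

lemma closed_of (Z : Set (PrimeSpectrum B')) (h1 : IsClosed (PrimeSpectrum.comap (algebraMap B' B) ⁻¹' Z)) (h2 : IsClosed (PrimeSpectrum.comap (algebraMap B' A') ⁻¹' Z)) : IsClosed Z := by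
  obtain ⟨𝔟, h𝔟⟩ := (PrimeSpectrum.isClosed_iff_zeroLocus_ideal _).mp h1
  obtain ⟨𝔞, h𝔞⟩ := (PrimeSpectrum.isClosed_iff_zeroLocus_ideal _).mp h2
  have hb : ∀ q : PrimeSpectrum B, PrimeSpectrum.comap (algebraMap B' B) q ∈ Z ↔ 𝔟 ≤ q.asIdeal := by
    intro q
    have := Set.ext_iff.mp h𝔟 q
    simpa [PrimeSpectrum.mem_zeroLocus] using this
  have ha : ∀ p' : PrimeSpectrum A', PrimeSpectrum.comap (algebraMap B' A') p' ∈ Z ↔ 𝔞 ≤ p'.asIdeal := by
    intro q
    have := Set.ext_iff.mp h𝔞 q
    simpa [PrimeSpectrum.mem_zeroLocus] using this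
  have hZ : Z = PrimeSpectrum.zeroLocus (𝔟.comap (algebraMap B' B) ⊓ 𝔞.comap (algebraMap B' A') : Ideal B') := by
    ext q'
    rw [PrimeSpectrum.mem_zeroLocus, SetLike.coe_subset_coe]
    constructor
    · intro hq'
      by_cases hk : RingHom.ker (algebraMap B' B) ≤ q'.asIdeal
      · obtain ⟨q, rfl⟩ := exists_of_le hsq q' hk
        refine inf_le_left.trans ?_
        rw [PrimeSpectrum.comap_asIdeal]
        exact Ideal.comap_mono ((hb q).mp hq')
      · obtain ⟨p', rfl⟩ := exists_of_not_le hsq q' hk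
        refine inf_le_right.trans ?_
        rw [PrimeSpectrum.comap_asIdeal]
        exact Ideal.comap_mono ((ha p').mp hq')
    · intro hq'
      rcases (Ideal.IsPrime.inf_le q'.isPrime).mp hq' with hq1 | hq2
      · -- case 1
        have hk : RingHom.ker (algebraMap B' B) ≤ q'.asIdeal := le_trans (Ideal.comap_mono bot_le) hq1
        obtain ⟨q, rfl⟩ := exists_of_le hsq q' hk
        rw [hb]
        intro b hb'
        obtain ⟨b', rfl⟩ := surj1 hsq b
        exact hq1 hb'
      · by_cases hk : RingHom.ker (algebraMap B' B) ≤ q'.asIdeal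
        · obtain ⟨q, rfl⟩ := exists_of_le hsq q' hk
          rw [hb]
          intro b hb'
          -- ψ b ∈ radical (map π 𝔞)
          have hrad : algebraMap B A b ∈ (𝔞.map (algebraMap A' A)).radical := by
            rw [Ideal.radical_eq_sInf, Ideal.mem_sInf]
            rintro p ⟨hp1, hp2⟩
            have h3 : 𝔞 ≤ (PrimeSpectrum.comap (algebraMap A' A) ⟨p, hp2⟩).asIdeal := by
              rw [PrimeSpectrum.comap_asIdeal]
              exact Ideal.map_le_iff_le_comap.mp hp1
            rw [← ha, ← sq (B := B), hb] at h3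
            exact h3 hb'
          obtain ⟨n, hn⟩ := hrad
          obtain ⟨a', ha', ha'2⟩ := (Ideal.mem_map_iff_of_surjective _ hsq.1).mp hn
          obtain ⟨c', hc1, hc2⟩ := exists_pair hsq (b ^ n) a' (by rw [map_pow, ha'2])
          have : c' ∈ (PrimeSpectrum.comap (algebraMap B' B) q).asIdeal := hq2 (by
            rw [Ideal.mem_comap, hc2]; exact ha')
          rw [PrimeSpectrum.comap_asIdeal, Ideal.mem_comap, hc1] at this
          exact q.isPrime.mem_of_pow_mem n this
        · obtain ⟨p', rfl⟩ := exists_of_not_le hsq q' hk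
          rw [ha]
          obtain ⟨i', hi, hiq⟩ := SetLike.not_le_iff_exists.mp hk
          have hi0 : algebraMap B' B i' = 0 := RingHom.mem_ker.mp hi
          intro a' ha'
          obtain ⟨c', hc1, hc2⟩ := exists_zero_mul hsq i' hi0 a'
          have : c' ∈ (PrimeSpectrum.comap (algebraMap B' A') p').asIdeal := hq2 (by
            rw [Ideal.mem_comap, hc2]; exact 𝔞.mul_mem_right _ ha')
          rw [PrimeSpectrum.comap_asIdeal, Ideal.mem_comap, hc2] at this
          refine (p'.isPrime.mem_or_mem this).resolve_right (fun hh => hiq ?_)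
          rw [PrimeSpectrum.comap_asIdeal, Ideal.mem_comap]; exact hh
  rw [hZ]
  exact PrimeSpectrum.isClosed_zeroLocus _

open Classical in
noncomputable def desc {T : Type*} (h : PrimeSpectrum B → T) (k : PrimeSpectrum A' → T) (q' : PrimeSpectrum B') : T :=
  if hq : RingHom.ker (algebraMap B' B) ≤ q'.asIdeal then h (exists_of_le hsq q' hq).choose else k (exists_of_not_le hsq q' hq).choose

lemma desc_inl {T : Type*} (h : PrimeSpectrum B → T) (k : PrimeSpectrum A' → T) (q : PrimeSpectrum B) : desc hsq h k (PrimeSpectrum.comap (algebraMap B' B) q) = h q := by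
  have hq : RingHom.ker (algebraMap B' B) ≤ (PrimeSpectrum.comap (algebraMap B' B) q).asIdeal := by
    intro x hx
    rw [PrimeSpectrum.comap_asIdeal, Ideal.mem_comap, RingHom.mem_ker.mp hx]
    exact zero_mem _
  rw [desc, dif_pos hq]
  congr 1
  exact PrimeSpectrum.comap_injective_of_surjective _ (surj1 hsq) (exists_of_le hsq _ hq).choose_spec

lemma desc_inr {T : Type*} (h : PrimeSpectrum B → T) (k : PrimeSpectrum A' → T) (hcomm : ∀ p : PrimeSpectrum A, h (PrimeSpectrum.comap (algebraMap B A) p) = k (PrimeSpectrum.comap (algebraMap A' A) p)) (p' : PrimeSpectrum A') : desc hsq h k (PrimeSpectrum.comap (algebraMap B' A') p') = k p' := by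
  by_cases hq : RingHom.ker (algebraMap B' B) ≤ (PrimeSpectrum.comap (algebraMap B' A') p').asIdeal
  · rw [desc, dif_pos hq]
    obtain ⟨p, rfl⟩ := ker_le_of_comap hsq p' hq
    have := ((exists_of_le hsq _ hq).choose_spec).trans (sq (B := B) p).symm
    rw [PrimeSpectrum.comap_injective_of_surjective _ (surj1 hsq) this, hcomm]
  · rw [desc, dif_neg hq]
    congr 1
    have := (exists_of_not_le hsq _ hq).choose_spec
    exact (inr_eq hsq _ _ this.symm hq).symm

lemma desc_cont {T : Type*} [TopologicalSpace T] (h : PrimeSpectrum B → T) (k : PrimeSpectrum A' → T) (hcomm : ∀ p : PrimeSpectrum A, h (PrimeSpectrum.comap (algebraMap B A) p) = k (PrimeSpectrum.comap (algebraMap A' A) p)) (hh : Continuous h) (hk : Continuous k) : Continuous (desc hsq h k) := by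
  rw [continuous_iff_isClosed]
  intro C hC
  apply closed_of hsq
  · have : PrimeSpectrum.comap (algebraMap B' B) ⁻¹' (desc hsq h k ⁻¹' C) = h ⁻¹' C := by
      ext q
      simp only [Set.mem_preimage, desc_inl]
    rw [this]
    exact hC.preimage hh
  · have : PrimeSpectrum.comap (algebraMap B' A') ⁻¹' (desc hsq h k ⁻¹' C) = k ⁻¹' C := by
      ext q
      simp only [Set.mem_preimage, desc_inr hsq h k hcomm]
    rw [this]
    exact hC.preimage hk

end

/-- Let `B' = B ×_A A'` be a fibre square of rings with `A' → A` surjective. Then `Spec(B') = Spec(B)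
⨿_{Spec(A)} Spec(A')`: the square of prime spectra is a pushout of topological spaces. -/
theorem result (B' B A' A : Type u) [CommRing B'] [CommRing B] [CommRing A'] [CommRing A]
    [Algebra B' B] [Algebra B' A'] [Algebra B A] [Algebra A' A] [Algebra B' A] [IsScalarTower B' B A] [IsScalarTower B' A' A]
    (hsq : EtMil.IsFibreSquare B' B A' A) :
    IsPushout (TopCat.ofHom (ContinuousMap.mk (PrimeSpectrum.comap (algebraMap B A)) (PrimeSpectrum.continuous_comap _))) (TopCat.ofHom (ContinuousMap.mk (PrimeSpectrum.comap (algebraMap A' A)) (PrimeSpectrum.continuous_comap _)))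
      (TopCat.ofHom (ContinuousMap.mk (PrimeSpectrum.comap (algebraMap B' B)) (PrimeSpectrum.continuous_comap _)))
      (TopCat.ofHom (ContinuousMap.mk (PrimeSpectrum.comap (algebraMap B' A')) (PrimeSpectrum.continuous_comap _))) := by
  have hcomm : ∀ (s : Limits.PushoutCocone (TopCat.ofHom (ContinuousMap.mk (PrimeSpectrum.comap (algebraMap B A)) (PrimeSpectrum.continuous_comap _))) (TopCat.ofHom (ContinuousMap.mk (PrimeSpectrum.comap (algebraMap A' A)) (PrimeSpectrum.continuous_comap _)))) (p : PrimeSpectrum A), s.inl.hom (PrimeSpectrum.comap (algebraMap B A) p) = s.inr.hom (PrimeSpectrum.comap (algebraMap A' A) p) := by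
    intro s p
    exact congrArg (fun φ => φ.hom p) s.condition
  refine ⟨⟨?_⟩, ⟨Limits.PushoutCocone.IsColimit.mk _ (fun s => TopCat.ofHom ⟨desc hsq s.inl.hom s.inr.hom, desc_cont hsq _ _ (hcomm s) s.inl.hom.continuous s.inr.hom.continuous⟩) ?_ ?_ ?_⟩⟩
  · apply TopCat.hom_ext
    apply ContinuousMap.ext
    intro p
    exact sq (B' := B') (B := B) (A' := A') p
  · intro s
    ext q
    exact desc_inl hsq _ _ q
  · intro s
    ext p'
    exact desc_inr hsq _ _ (hcomm s) p'
  · intro s m h1 h2
    ext q'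
    by_cases hk : RingHom.ker (algebraMap B' B) ≤ q'.asIdeal
    · obtain ⟨q, rfl⟩ := exists_of_le hsq q' hk
      have := congrArg (fun φ => φ.hom q) h1
      exact this.trans (desc_inl hsq _ _ q).symm
    · obtain ⟨p', rfl⟩ := exists_of_not_le hsq q' hk
      have := congrArg (fun φ => φ.hom p') h2
      exact this.trans (desc_inr hsq _ _ (hcomm s) p').symm


end Groth.Agent.S6917
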