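import Groth.Statements.S6920
import Mathlib

set_option autoImplicit false
universe u
open CategoryTheory CategoryTheory.Limits MonoidalCategory
open DRing

namespace Groth.Agent.S6920

open CategoryTheory CategoryTheory.Limits MonoidalCategory TensorProduct


lemma map_smul_of_isEpi {R S : Type*} [CommRing R] [CommRing S] [Algebra R S] [Algebra.IsEpi R S]
    {M N : Type*} [AddCommGroup M] [AddCommGroup N] [Module R M] [Module R N] [Module S M] [Module S N]
    [IsScalarTower R S M] [IsScalarTower R S N] (g : M →ₗ[R] N) (s : S) (m : M) : g (s • m) = s • g m := by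
  let β : S ⊗[R] S →ₗ[R] N := TensorProduct.lift (LinearMap.mk₂ R (fun s t => s • g (t • m))
    (by intros; simp [add_smul]) (by intros; simp [smul_assoc]) (by intros; simp [add_smul, smul_add]) (by intros c s t; rw [smul_assoc, map_smul, smul_comm]))
  have h := congrArg β ((Algebra.isEpi_iff_forall_one_tmul_eq R S).mp inferInstance s)
  simpa [β] using h

lemma map_smul_of_epi {R S : Type u} [CommRing R] [CommRing S] (φ : R →+* S) (hφ : Epi (CommRingCat.ofHom φ))
    {M N : Type*} [AddCommGroup M] [AddCommGroup N] [Module S M] [Module S N] (g : M →+ N)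
    (hg : ∀ (r : R) (m : M), g (φ r • m) = φ r • g m) (s : S) (m : M) : g (s • m) = s • g m := by
  letI := φ.toAlgebra
  haveI : Algebra.IsEpi R S := CommRingCat.epi_iff_epi.mp hφ
  letI : Module R M := Module.compHom M φ
  letI : Module R N := Module.compHom N φ
  haveI : IsScalarTower R S M := IsScalarTower.of_algebraMap_smul (fun r x => rfl)
  haveI : IsScalarTower R S N := IsScalarTower.of_algebraMap_smul (fun r x => rfl)
  let g' : M →ₗ[R] N := { toFun := g, map_add' := g.map_add, map_smul' := fun r m => hg r m }
  exact map_smul_of_isEpi g' s m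

/-- For an epimorphism of rings `φ : R → S` and a complex `I•` of `S`-modules, if the underlying complex
of `R`-modules of `I•` is K-injective, then `I•` itself is K-injective over `S`. -/
theorem result (R S : Type u) [CommRing R] [CommRing S] (φ : R →+* S)
    (hφ : Epi (CommRingCat.ofHom φ)) (I : DRing.Cx S)
    [CochainComplex.IsKInjective ((DRing.restrictCx φ).obj I)] : CochainComplex.IsKInjective I := by
  constructor
  intro K f hK
  have hFK : ((DRing.restrictCx φ).obj K).Acyclic := by
    intro i
    exact (hK i).map (ModuleCat.restrictScalars φ)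
  obtain ⟨h⟩ := CochainComplex.IsKInjective.nonempty_homotopy_zero ((DRing.restrictCx φ).map f) hFK
  let hf : ∀ i j : ℤ, K.X i → I.X j := fun i j x => (h.hom i j).hom x
  have hadd : ∀ (i j : ℤ) (x y : K.X i), hf i j (x + y) = hf i j x + hf i j y := fun i j x y => (h.hom i j).hom.map_add x y
  have hlin : ∀ (i j : ℤ) (s : S) (x : K.X i), hf i j (s • x) = s • hf i j x := by
    intro i j s x
    exact map_smul_of_epi φ hφ (M := K.X i) (N := I.X j) (AddMonoidHom.mk' (hf i j) (hadd i j)) (fun r m => (h.hom i j).hom.map_smul r m) s x
  refine ⟨{ hom := fun i j => ModuleCat.ofHom { toFun := hf i j, map_add' := hadd i j, map_smul' := fun s x => hlin i j s x }, zero := ?_, comm := ?_ }⟩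
  · intro i j hij
    ext x
    have := h.zero i j hij
    show (h.hom i j).hom x = 0
    rw [this]; rfl
  · intro i
    ext x
    have := congrArg (fun g => g.hom x) (h.comm i)
    simp only [dNext, prevD, AddMonoidHom.mk'_apply] at this ⊢
    simp only [ModuleCat.hom_add, ModuleCat.hom_comp, LinearMap.add_apply, LinearMap.comp_apply, HomologicalComplex.zero_f_apply, ModuleCat.hom_zero, LinearMap.zero_apply] at this ⊢
    exact this


end Groth.Agent.S6920
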