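import Groth.Statements.S6924
import Mathlib
import Groth.Agent.H4.Fitting10
import Groth.Agent.H4.Fitting7
import Groth.Agent.S6914
import Groth.Agent.S6915
import Groth.Agent.S6895
import Groth.Agent.S6892
import Groth.Agent.S14347

set_option autoImplicit false
universe u
open TensorProduct
open Fitt

namespace Groth.Agent.S6924

open scoped TensorProduct

open Groth.Agent.H4.Fitting

/-- Lemma A: `f` is in the radical of `Fit_r(M)`. -/
theorem mem_radical_fitt {R : Type u} [CommRing R] (M : Type u) [AddCommGroup M]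
    [Module R M] [Module.Finite R M] (f : R) (r : ℕ)
    (hf : ∀ (p : Ideal R) [p.IsPrime], f ∉ p → ∃ g : R, g ∉ p ∧ g ∈ (Ideal.span {f}).radical ∧
      Module.Free (Localization.Away g) (LocalizedModule (Submonoid.powers g) M) ∧
        Module.finrank (Localization.Away g) (LocalizedModule (Submonoid.powers g) M) = r) :
    f ∈ (Fitt.ideal R M r).radical := by
  rw [Ideal.radical_eq_sInf, Ideal.mem_sInf]
  rintro p ⟨hJp, hp⟩
  by_contra hfp
  obtain ⟨g, hg, -, hfree, hrank⟩ := hf p hfp
  haveI : Nontrivial (Localization.Away g) := Groth.Agent.S6895.nontrivial_away p g hg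
  have h3 := (Groth.Agent.S6894.result M r p).2.2.mpr
    ⟨g, hg, Module.finBasisOfFinrankEq _ _ hrank, (Module.finBasisOfFinrankEq _ _ hrank).span_eq⟩
  exact h3 hJp

/-- Lemma B: an element of the tuple-wise Fitting ideal only needs finitely many relations. -/
theorem exists_fg_rel {R : Type u} [CommRing R] {M : Type u} [AddCommGroup M] [Module R M]
    {n : ℕ} (x : Fin n → M) (r : ℕ) (y : R) (hy : y ∈ (G r x : Ideal R)) :
    ∃ K₁ : Submodule R (Fin n → R), K₁.FG ∧ K₁ ≤ rel (R := R) x ∧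
      y ∈ (G r (fun i : Fin n => K₁.mkQ (Pi.single i 1)) : Ideal R) := by
  classical
  unfold G at hy
  obtain ⟨N', c, g, hg⟩ := Submodule.mem_span_set'.mp hy
  have hex : ∀ j, ∃ (a : Matrix (Fin n) (Fin n) R) (T : Finset (Fin n)),
      T.card ≤ r ∧ (∀ i, i ∉ T → ∑ l, a i l • x l = 0) ∧ (g j : R) = a.det := by
    intro j
    obtain ⟨a, T, hT, hr, hd⟩ := (g j).2
    exact ⟨a, T, hT, hr, hd⟩
  choose a T hT hr hga using hex
  let gen : Fin N' × Fin n → (Fin n → R) := fun p => if p.2 ∈ T p.1 then 0 else a p.1 p.2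
  refine ⟨Submodule.span R (Set.range gen), Submodule.fg_span (Set.finite_range gen), ?_, ?_⟩
  · rw [Submodule.span_le]
    rintro _ ⟨p, rfl⟩
    simp only [gen]
    split_ifs with h
    · exact Submodule.zero_mem _
    · exact (mem_rel x _).mpr (hr p.1 p.2 h)
  · rw [← hg]
    refine Ideal.sum_mem _ (fun j _ => Ideal.mul_mem_left _ _ ?_)
    rw [hga j]
    refine det_mem_G _ (T j) (hT j) ?_
    intro i hi
    have h1 : a j i ∈ Submodule.span R (Set.range gen) := by
      refine Submodule.subset_span ⟨(j, i), ?_⟩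
      simp only [gen, if_neg hi]
    have h2 := (mem_rel (R := R) (fun i : Fin n =>
      (Submodule.span R (Set.range gen)).mkQ (Pi.single i 1)) (a j i)).mp
      (by rw [Groth.Agent.S14347.rel_mkQ_single]; exact h1)
    exact h2


/-- T3': below the rank, the Fitting ideals are `f`-power torsion. -/
theorem exists_pow_mul_eq_zero' {R : Type u} [CommRing R] (M : Type u) [AddCommGroup M]
    [Module R M] [Module.Finite R M] (f : R) (r : ℕ)
    (hf : ∀ (p : Ideal R) [p.IsPrime], f ∉ p → ∃ g : R, g ∉ p ∧ g ∈ (Ideal.span {f}).radical ∧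
      Module.Free (Localization.Away g) (LocalizedModule (Submonoid.powers g) M) ∧
        Module.finrank (Localization.Away g) (LocalizedModule (Submonoid.powers g) M) = r)
    (k' : ℕ) (hk' : k' < r) (y : R)
    (hy : y ∈ Fitt.ideal R M k') : ∃ m : ℕ, f ^ m * y = 0 := by
  let J : Ideal R := LinearMap.ker (LinearMap.toSpanSingleton R R y)
  have hJ : ∀ s, s ∈ J ↔ s * y = 0 := fun s => by
    simp [J, LinearMap.mem_ker, LinearMap.toSpanSingleton_apply]
  have haJ : f ∈ J.radical := by
    rw [Ideal.radical_eq_sInf, Ideal.mem_sInf]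
    rintro p ⟨hJp, hp⟩
    by_contra hap
    obtain ⟨g, hg, -, hfr, hrk⟩ := hf p hap
    haveI : Nontrivial (Localization.Away g) := Groth.Agent.S6895.nontrivial_away p g hg
    have h1 : Fitt.ideal (Localization.Away g) (LocalizedModule (Submonoid.powers g) M) k' = ⊥ :=
      ideal_eq_bot_of_basis (Module.finBasisOfFinrankEq _ _ hrk) (by simpa using hk')
    rw [fitt_away] at h1
    have h2 : algebraMap R (Localization.Away g) y = 0 := by
      have : algebraMap R (Localization.Away g) y ∈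
          (Fitt.ideal R M k').map (algebraMap R (Localization.Away g)) :=
        Ideal.mem_map_of_mem _ hy
      rw [h1] at this
      exact this
    rw [IsLocalization.map_eq_zero_iff (Submonoid.powers g)] at h2
    obtain ⟨⟨s, ⟨m, rfl⟩⟩, hsy⟩ := h2
    exact hg (hp.mem_of_pow_mem m (hJp ((hJ _).mpr hsy)))
  obtain ⟨m, hm⟩ := haJ
  exact ⟨m, (hJ _).mp hm⟩

/-- Let `M` be a finite `R`-module and `f ∈ R` such that every prime of `D(f)` has a basic open
neighbourhood `D(g) ⊆ D(f)` with `M_g` free of rank `r` (in other words `M_f` is, locally on `D(f)`,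
free of rank `r`). Then there is a finitely generated ideal `I ⊆ R` with `V(I) = V(f)` such that for
every `a ∈ I` and (a copy `R₁` of) the affine blow-up algebra `R[I/a]`, the strict transform `(M ⊗_R
R₁)/(a-power torsion)` is finite locally free of rank `r` over `R₁`. -/
theorem result {R : Type u} [CommRing R] (M : Type u) [AddCommGroup M]
    [Module R M] [Module.Finite R M] (f : R) (r : ℕ)
    (hf : ∀ (p : Ideal R) [p.IsPrime], f ∉ p → ∃ g : R, g ∉ p ∧ g ∈ (Ideal.span {f}).radical ∧
      Module.Free (Localization.Away g) (LocalizedModule (Submonoid.powers g) M) ∧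
        Module.finrank (Localization.Away g) (LocalizedModule (Submonoid.powers g) M) = r) :
    ∃ I : Ideal R, I.FG ∧ I.radical = (Ideal.span {f}).radical ∧ ∀ a ∈ I, ∀ (R₁ : Type u) [CommRing R₁] [Algebra R R₁] (e : R₁ ≃ₐ[R] ↥(BlowUp.affineAlgebra R I a)),
      ∀ (p' : Ideal R₁) [p'.IsPrime], ∃ g : R₁, g ∉ p' ∧
        Module.Free (Localization.Away g) (LocalizedModule (Submonoid.powers g) ((R₁ ⊗[R] M) ⧸ FlatCA.powTorsion R₁ (algebraMap R R₁ a) (R₁ ⊗[R] M))) ∧
        Module.finrank (Localization.Away g) (LocalizedModule (Submonoid.powers g) ((R₁ ⊗[R] M) ⧸ FlatCA.powTorsion R₁ (algebraMap R R₁ a) (R₁ ⊗[R] M))) = r := by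
  classical
  obtain ⟨n, x, hx⟩ := Module.Finite.exists_fin (R := R) (M := M)
  obtain ⟨N, hN⟩ := mem_radical_fitt M f r hf
  rw [ideal_eq_G r x hx] at hN
  obtain ⟨K₁, hK₁fg, hK₁le, hK₁mem⟩ := exists_fg_rel x r (f ^ N) hN
  -- the finitely presented approximation
  let M₁ := (Fin n → R) ⧸ K₁
  haveI : Module.FinitePresentation R M₁ :=
    Module.finitePresentation_of_surjective K₁.mkQ (Submodule.mkQ_surjective _)
      (by rw [Submodule.ker_mkQ]; exact hK₁fg)
  let π : M₁ →ₗ[R] M := K₁.liftQ (Fintype.linearCombination R x) hK₁le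
  have hπ : Function.Surjective π := by
    rw [← LinearMap.range_eq_top, Submodule.range_liftQ, LinearMap.range_eq_top]
    intro m
    have : m ∈ Submodule.span R (Set.range x) := hx ▸ Submodule.mem_top
    obtain ⟨c, hc⟩ := (Submodule.mem_span_range_iff_exists_fun R).mp this
    exact ⟨c, by rw [Fintype.linearCombination_apply]; exact hc⟩
  let J : Ideal R := Fitt.ideal R M₁ r
  have hJfg : J.FG := (Groth.Agent.S6892.result M₁ M₁ r).2.1 inferInstance
  have hJN : f ^ N ∈ J := by
    simp only [J]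
    rw [ideal_eq_G r _ (Groth.Agent.S14347.span_mkQ_single K₁)]
    exact hK₁mem
  refine ⟨Ideal.span {f} * J, Ideal.FG.mul ⟨{f}, by simp⟩ hJfg, ?_, ?_⟩
  · apply le_antisymm
    · exact Ideal.radical_mono Ideal.mul_le_left
    · rw [Ideal.radical_le_radical_iff, Ideal.span_le, Set.singleton_subset_iff]
      refine ⟨N + 1, ?_⟩
      rw [pow_succ']
      exact Ideal.mul_mem_mul (Ideal.subset_span rfl) hJN
  intro a ha R₁ _ _ e
  obtain ⟨b, hbJ, hfb⟩ := Ideal.mem_span_singleton_mul.mp ha
  have hnzd := Groth.Agent.S6914.R₁_nzd (Ideal.span {f} * J) a R₁ e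
  have hmap := Groth.Agent.S6914.R₁_map (Ideal.span {f} * J) a R₁ e ha
  set a' := algebraMap R R₁ a with ha'
  set f' := algebraMap R R₁ f with hf'
  set b' := algebraMap R R₁ b with hb'
  have hfb' : f' * b' = a' := by rw [hf', hb', ha', ← map_mul, hfb]
  have hnz := mem_nonZeroDivisors_iff.mp hnzd
  have hbnzd : b' ∈ nonZeroDivisors R₁ := by
    rw [mem_nonZeroDivisors_iff]
    have key : ∀ s : R₁, b' * s = 0 → s = 0 := by
      intro s hs
      apply hnz.1
      rw [← hfb', mul_assoc, hs, mul_zero]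
    exact ⟨key, fun s hs => key s (by rwa [mul_comm])⟩
  have hfnz : ∀ s : R₁, f' * s = 0 → s = 0 := by
    intro s hs
    apply hnz.1
    rw [← hfb', mul_comm f' b', mul_assoc, hs, mul_zero]
  have hJmap : J.map (algebraMap R R₁) = Ideal.span {b'} := by
    apply le_antisymm
    · rw [Ideal.map_le_iff_le_comap]
      intro j hj
      rw [Ideal.mem_comap, Ideal.mem_span_singleton']
      have h1 : algebraMap R R₁ (f * j) ∈ (Ideal.span {f} * J).map (algebraMap R R₁) :=
        Ideal.mem_map_of_mem _ (Ideal.mul_mem_mul (Ideal.subset_span rfl) hj)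
      rw [hmap, Ideal.mem_span_singleton'] at h1
      obtain ⟨c, hc⟩ := h1
      refine ⟨c, ?_⟩
      have h2 : f' * (c * b' - algebraMap R R₁ j) = 0 := by
        have h3 : f' * algebraMap R R₁ j = c * a' := by
          rw [hc, map_mul]
        rw [mul_sub, h3, ← hfb']
        ring
      exact sub_eq_zero.mp (hfnz _ h2)
    · rw [Ideal.span_le, Set.singleton_subset_iff]
      exact Ideal.mem_map_of_mem _ hbJ
  -- (5)
  have hFit : Fitt.ideal R₁ (R₁ ⊗[R] M₁) r = Ideal.span {b'} := by
    rw [ideal_baseChange]; exact hJmap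
  have h1 := Groth.Agent.S6914.fitt_quot_ker_eq_top (R₁ ⊗[R] M₁) r b' hbnzd hFit
  let φ : (R₁ ⊗[R] M₁) →ₗ[R₁] (R₁ ⊗[R] M) := π.baseChange R₁
  have hφ : Function.Surjective φ := LinearMap.baseChange_surjective R₁ hπ
  have hle : LinearMap.ker (b' • (LinearMap.id : (R₁ ⊗[R] M₁) →ₗ[R₁] (R₁ ⊗[R] M₁))) ≤
      (FlatCA.powTorsion R₁ a' (R₁ ⊗[R] M)).comap φ := by
    intro m hm
    have hm' : b' • m = 0 := by simpa using hm
    rw [Submodule.mem_comap]
    refine Submodule.mem_iSup_of_mem 1 ?_
    rw [Submodule.mem_torsionBy_iff, pow_one, ← hfb', mul_smul, ← map_smul, hm', map_zero,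
      smul_zero]
  have htop : Fitt.ideal R₁ ((R₁ ⊗[R] M) ⧸ FlatCA.powTorsion R₁ a' (R₁ ⊗[R] M)) r = ⊤ := by
    rw [eq_top_iff, ← h1]
    refine ideal_mono_surj r (Submodule.mapQ _ _ φ hle) ?_
    intro y
    obtain ⟨z, rfl⟩ := Submodule.mkQ_surjective _ y
    obtain ⟨w, rfl⟩ := hφ z
    exact ⟨Submodule.Quotient.mk w, by simp⟩
  refine (Groth.Agent.S6895.result
    ((R₁ ⊗[R] M) ⧸ FlatCA.powTorsion R₁ a' (R₁ ⊗[R] M)) r).mpr ⟨?_, ?_⟩
  · intro k' hk'
    apply Groth.Agent.S6915.fitt_quot_powTorsion_eq_bot _ k' _ hnzd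
    rw [ideal_baseChange, eq_bot_iff, Ideal.map_le_iff_le_comap]
    intro y hy
    obtain ⟨m, hm⟩ := exists_pow_mul_eq_zero' M f r hf k' hk' y hy
    rw [Ideal.mem_comap, Ideal.mem_bot]
    have h1 : a' ^ m * algebraMap R R₁ y = 0 := by
      rw [ha', ← map_pow, ← map_mul, ← hfb, mul_pow, mul_comm (f ^ m), mul_assoc, hm, mul_zero,
        map_zero]
    have h2 := Submonoid.pow_mem _ hnzd m
    rw [mem_nonZeroDivisors_iff] at h2
    exact h2.1 _ h1
  · intro k' hk'
    rw [eq_top_iff, ← htop]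
    exact ideal_mono_index hk'


end Groth.Agent.S6924
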