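import Groth.Statements.S6929
import Mathlib

set_option autoImplicit false
universe u
open EtAlg

namespace Groth.Agent.S6929


lemma finiteType_pi {R : Type*} [CommRing R] {ι : Type*} [Fintype ι] [DecidableEq ι]
    (A : ι → Type*) [∀ i, CommRing (A i)] [∀ i, Algebra R (A i)]
    (h : ∀ i, Algebra.FiniteType R (A i)) : Algebra.FiniteType R (∀ i, A i) := by
  choose s hs using fun i => (h i).out
  let S : Set (∀ i, A i) := ⋃ i, (Pi.single i) '' (insert (1 : A i) (s i : Set (A i)))
  have hSfin : S.Finite := Set.finite_iUnion fun i => ((s i).finite_toSet.insert 1).image _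
  refine ⟨⟨hSfin.toFinset, ?_⟩⟩
  rw [Set.Finite.coe_toFinset, eq_top_iff]
  have key : ∀ i (x : A i), Pi.single i x ∈ Algebra.adjoin R S := by
    intro i
    let Ti : Subalgebra R (A i) :=
      { carrier := {x | Pi.single i x ∈ Algebra.adjoin R S}
        mul_mem' := fun {x y} hx hy => by
          show Pi.single i (x * y) ∈ Algebra.adjoin R S
          rw [Pi.single_mul]
          exact Subalgebra.mul_mem _ hx hy
        add_mem' := fun {x y} hx hy => by
          show Pi.single i (x + y) ∈ Algebra.adjoin R S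
          rw [Pi.single_add]
          exact Subalgebra.add_mem _ hx hy
        algebraMap_mem' := fun r => by
          show Pi.single i (algebraMap R (A i) r) ∈ Algebra.adjoin R S
          have : Pi.single i (algebraMap R (A i) r) = r • (Pi.single i (1 : A i) : ∀ i, A i) := by
            rw [← Pi.single_smul, Algebra.smul_def, mul_one]
          rw [this]
          refine Subalgebra.smul_mem _ (Algebra.subset_adjoin ?_) r
          exact Set.mem_iUnion.mpr ⟨i, Set.mem_image_of_mem _ (Set.mem_insert _ _)⟩ }
    have : Algebra.adjoin R (s i : Set (A i)) ≤ Ti := by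
      apply Algebra.adjoin_le
      intro x hx
      show Pi.single i x ∈ Algebra.adjoin R S
      exact Algebra.subset_adjoin
        (Set.mem_iUnion.mpr ⟨i, Set.mem_image_of_mem _ (Set.mem_insert_of_mem _ hx)⟩)
    intro x
    have hx : x ∈ Ti := this (by rw [hs i]; trivial)
    exact hx
  intro a _
  rw [← Finset.univ_sum_single a]
  exact Subalgebra.sum_mem _ fun i _ => key i (a i)

/-- Let `R` be a Noetherian ring, `ι` a finite index type, and `φ_i : A_i → B_i`, `ψ_i : Q → B_i`
surjective `R`-algebra maps, where `Q` and all `A_i`, `B_i` are `R`-algebras of finite type. Then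
the fibre product ring `P = Q ×_{∏ B_i} ∏ A_i` (pairs `(q, a)` with `ψ_i(q) = φ_i(a_i)` for all `i`)
is an `R`-algebra of finite type. -/
theorem result (R : Type u) [CommRing R] [IsNoetherianRing R] {ι : Type u} [Fintype ι]
    (Q : Type u) [CommRing Q] [Algebra R Q] [Algebra.FiniteType R Q] (A B : ι → Type u) [∀ i, CommRing (A i)]
    [∀ i, CommRing (B i)] [∀ i, Algebra R (A i)] [∀ i, Algebra R (B i)] (hA : ∀ i, Algebra.FiniteType R (A i))
    (hB : ∀ i, Algebra.FiniteType R (B i)) (φ : ∀ i, A i →ₐ[R] B i) (ψ : ∀ i, Q →ₐ[R] B i)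
    (hφ : ∀ i, Function.Surjective (φ i)) (hψ : ∀ i, Function.Surjective (ψ i)) :
    Algebra.FiniteType R ↥(AlgHom.equalizer ((AlgHom.pi ψ).comp (AlgHom.fst R Q (∀ i, A i)))
      ((AlgHom.pi fun i => (φ i).comp (Pi.evalAlgHom R A i)).comp (AlgHom.snd R Q (∀ i, A i)))) := by
  classical
  set P := AlgHom.equalizer ((AlgHom.pi ψ).comp (AlgHom.fst R Q (∀ i, A i)))
      ((AlgHom.pi fun i => (φ i).comp (Pi.evalAlgHom R A i)).comp (AlgHom.snd R Q (∀ i, A i))) with hP
  have hmem : ∀ c : Q × (∀ i, A i), c ∈ P ↔ ∀ i, ψ i c.1 = φ i (c.2 i) := by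
    intro c
    rw [hP, AlgHom.mem_equalizer]
    constructor
    · intro h i; exact congrFun h i
    · intro h; funext i; exact h i
  haveI : Algebra.FiniteType R (∀ i, A i) := finiteType_pi A hA
  have hAC : (⊤ : Subalgebra R (Q × (∀ i, A i))).FG :=
    (inferInstance : Algebra.FiniteType R (Q × (∀ i, A i))).out
  -- finiteness over P
  have hBC : (⊤ : Submodule P (Q × (∀ i, A i))).FG := by
    let E : ι → Q × (∀ i, A i) := fun i => (0, Pi.single i 1)
    refine ⟨insert 1 (Finset.univ.image E), ?_⟩
    rw [eq_top_iff]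
    rintro ⟨q, a⟩ _
    have h1 : (1 : Q × (∀ i, A i)) ∈ Submodule.span P
        (↑(insert 1 (Finset.univ.image E)) : Set (Q × (∀ i, A i))) :=
      Submodule.subset_span (by simp)
    have hE : ∀ i, E i ∈ Submodule.span P
        (↑(insert 1 (Finset.univ.image E)) : Set (Q × (∀ i, A i))) :=
      fun i => Submodule.subset_span (by simp)
    -- elements (0, single i z)
    have hz : ∀ i (z : A i), ((0, Pi.single i z) : Q × (∀ i, A i)) ∈ Submodule.span P
        (↑(insert 1 (Finset.univ.image E)) : Set (Q × (∀ i, A i))) := by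
      intro i z
      obtain ⟨qz, hqz⟩ := hψ i (φ i z)
      choose az haz using fun j => hφ j (ψ j qz)
      let y : Q × (∀ i, A i) := (qz, Function.update az i z)
      have hy : y ∈ P := by
        rw [hmem]
        intro j
        by_cases hj : j = i
        · subst hj; simp [y, hqz]
        · simp [y, Function.update_of_ne hj, haz]
      have : ((0, Pi.single i z) : Q × (∀ i, A i)) = (⟨y, hy⟩ : P) • E i := by
        show _ = y * E i
        ext j
        · simp [E, y]
        · by_cases hj : j = i
          · subst hj; simp [E, y]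
          · simp [E, y, Pi.single_eq_of_ne hj]
      rw [this]
      exact Submodule.smul_mem _ _ (hE i)
    choose a' ha' using fun i => hφ i (ψ i q)
    have hx0 : ((q, a') : Q × (∀ i, A i)) ∈ P := by
      rw [hmem]; intro i; exact (ha' i).symm
    have hdecomp : ((q, a) : Q × (∀ i, A i)) = (⟨(q, a'), hx0⟩ : P) • (1 : Q × (∀ i, A i)) +
        ∑ i, ((0, Pi.single i ((a - a') i)) : Q × (∀ i, A i)) := by
      have h2 : (⟨(q, a'), hx0⟩ : P) • (1 : Q × (∀ i, A i)) = (q, a') := by
        show (q, a') * (1 : Q × (∀ i, A i)) = _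
        rw [mul_one]
      have h3 : ∑ i, ((0, Pi.single i ((a - a') i)) : Q × (∀ i, A i)) = (0, a - a') := by
        ext j
        · simp [Prod.fst_sum]
        · simp only [Prod.snd_sum]
          rw [Finset.univ_sum_single]
      rw [h2, h3]
      ext j <;> simp
    rw [hdecomp]
    exact Submodule.add_mem _ (Submodule.smul_mem _ _ h1)
      (Submodule.sum_mem _ fun i _ => hz i _)
  have hinj : Function.Injective (algebraMap P (Q × (∀ i, A i))) := Subtype.val_injective
  exact ⟨fg_of_fg_of_fg R P (Q × (∀ i, A i)) hAC hBC hinj⟩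


end Groth.Agent.S6929
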