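import Groth.Statements.S6933
import Mathlib

set_option autoImplicit false
universe u
open CategoryTheory
open InjHull

namespace Groth.Agent.S6933

/-- An abelian group `J` that is injective as an object of the category of abelian groups is divisible:
`n J = J` for every nonzero integer `n`. (The published statement is an equivalence; this row states
the implication from injective to divisible.) -/
theorem result (J : Type u) [AddCommGroup J] (hJ : Injective (AddCommGrpCat.of J))
    (n : ℤ) (hn : n ≠ 0) (x : J) : ∃ y : J, n • y = x := by
  let Z := AddCommGrpCat.of (ULift.{u} ℤ)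
  let mulN : ULift.{u} ℤ →+ ULift.{u} ℤ :=
    { toFun := fun a => ⟨n * a.down⟩
      map_zero' := by simp; rfl
      map_add' := fun a b => by
        apply ULift.ext
        simp [mul_add] }
  let fx : ULift.{u} ℤ →+ J :=
    { toFun := fun a => a.down • x
      map_zero' := by simp
      map_add' := fun a b => by simp [add_smul] }
  let m : Z ⟶ Z := AddCommGrpCat.ofHom mulN
  let f : Z ⟶ AddCommGrpCat.of J := AddCommGrpCat.ofHom fx
  haveI : Mono m := by
    rw [AddCommGrpCat.mono_iff_injective]
    intro a b hab
    apply ULift.ext
    have : n * a.down = n * b.down := congrArg ULift.down hab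
    exact mul_left_cancel₀ hn this
  haveI := hJ
  let g : Z ⟶ AddCommGrpCat.of J := Injective.factorThru f m
  have hg : m ≫ g = f := Injective.comp_factorThru f m
  refine ⟨g.hom ⟨1⟩, ?_⟩
  have h1 : g.hom (m.hom ⟨1⟩) = f.hom ⟨1⟩ := by
    rw [← hg]; rfl
  have h2 : m.hom (⟨1⟩ : ULift.{u} ℤ) = n • (⟨1⟩ : ULift.{u} ℤ) := by
    apply ULift.ext
    simp [m, mulN]
  rw [h2, map_zsmul] at h1
  rw [h1]
  simp [f, fx]

end Groth.Agent.S6933
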