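import Groth.Statements.S6934
import Mathlib

set_option autoImplicit false
universe u
open EtAlg

namespace Groth.Agent.S6934


/-- every element of a localization away from `h` is `alg a / (alg h)^n`. -/
lemma away_surj {A : Type*} [CommRing A] (h : A) (S : Type*) [CommRing S] [Algebra A S]
    [IsLocalization.Away h S] (z : S) : ∃ (a : A) (n : ℕ), z * algebraMap A S h ^ n = algebraMap A S a := by
  obtain ⟨⟨a, ⟨_, n, rfl⟩⟩, hz⟩ := IsLocalization.surj (Submonoid.powers h) z
  exact ⟨a, n, by simpa using hz⟩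

lemma away_eq_iff {A : Type*} [CommRing A] (h : A) (S : Type*) [CommRing S] [Algebra A S]
    [IsLocalization.Away h S] (a b : A) :
    algebraMap A S a = algebraMap A S b ↔ ∃ k : ℕ, h ^ k * a = h ^ k * b := by
  rw [IsLocalization.eq_iff_exists (Submonoid.powers h)]
  constructor
  · rintro ⟨⟨_, k, rfl⟩, hc⟩
    exact ⟨k, hc⟩
  · rintro ⟨k, hk⟩
    exact ⟨⟨h ^ k, k, rfl⟩, hk⟩

/-- Let `s : B → R`, `t : R' → R` be ring maps and `B' = B ×_R R'` the fibre product ring, i.e. a ring
`B'` with maps `p : B' → B`, `q : B' → R'`, `s ∘ p = t ∘ q`, such that `(p, q)` is injective with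
image the pairs `(b, r')` with `s(b) = t(r')`. Let `h ∈ B'` with images `g = p(h)`, `f = q(h)`. Then
the square of localizations `B'_h → B_g`, `B'_h → R'_f`, `B_g → R_{s(g)}`, `R'_f → R_{t(f)} =
R_{s(g)}` (the induced maps) is cartesian as well: `B'_h = B_g ×_{R_{s(g)}} R'_f`. -/
theorem result {B R R' B' : Type u} [CommRing B] [CommRing R] [CommRing R'] [CommRing B']
    (s : B →+* R) (t : R' →+* R) (p : B' →+* B) (q : B' →+* R') (hc : s.comp p = t.comp q)
    (hinj : ∀ x y : B', p x = p y → q x = q y → x = y) (hsurj : ∀ (b : B) (r' : R'), s b = t r' → ∃ x : B', p x = b ∧ q x = r')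
    (h : B') (Bh Bg Rf Rsg : Type u) [CommRing Bh] [CommRing Bg] [CommRing Rf] [CommRing Rsg]
    [Algebra B' Bh] [IsLocalization.Away h Bh] [Algebra B Bg] [IsLocalization.Away (p h) Bg]
    [Algebra R' Rf] [IsLocalization.Away (q h) Rf] [Algebra R Rsg] [IsLocalization.Away (s (p h)) Rsg]
    (pL : Bh →+* Bg) (qL : Bh →+* Rf) (sL : Bg →+* Rsg) (tL : Rf →+* Rsg)
    (hp : pL.comp (algebraMap B' Bh) = (algebraMap B Bg).comp p) (hq : qL.comp (algebraMap B' Bh) = (algebraMap R' Rf).comp q)
    (hs : sL.comp (algebraMap B Bg) = (algebraMap R Rsg).comp s) (ht : tL.comp (algebraMap R' Rf) = (algebraMap R Rsg).comp t) :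
    (∀ x y : Bh, pL x = pL y → qL x = qL y → x = y) ∧
    (∀ (b : Bg) (r : Rf), sL b = tL r → ∃ x : Bh, pL x = b ∧ qL x = r) := by
  have hp' : ∀ a, pL (algebraMap B' Bh a) = algebraMap B Bg (p a) := fun a => RingHom.congr_fun hp a
  have hq' : ∀ a, qL (algebraMap B' Bh a) = algebraMap R' Rf (q a) := fun a => RingHom.congr_fun hq a
  have hs' : ∀ a, sL (algebraMap B Bg a) = algebraMap R Rsg (s a) := fun a => RingHom.congr_fun hs a
  have ht' : ∀ a, tL (algebraMap R' Rf a) = algebraMap R Rsg (t a) := fun a => RingHom.congr_fun ht a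
  have hc' : ∀ a, s (p a) = t (q a) := fun a => RingHom.congr_fun hc a
  have uh : IsUnit (algebraMap B' Bh h) := IsLocalization.Away.algebraMap_isUnit h
  have ug : IsUnit (algebraMap B Bg (p h)) := IsLocalization.Away.algebraMap_isUnit (p h)
  have uf : IsUnit (algebraMap R' Rf (q h)) := IsLocalization.Away.algebraMap_isUnit (q h)
  have usg : IsUnit (algebraMap R Rsg (s (p h))) := IsLocalization.Away.algebraMap_isUnit (s (p h))
  constructor
  · intro x y hpxy hqxy
    obtain ⟨a, n, ha⟩ := away_surj h Bh x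
    obtain ⟨b, m, hb⟩ := away_surj h Bh y
    -- common denominators
    have hX : x * algebraMap B' Bh h ^ (n + m) = algebraMap B' Bh (a * h ^ m) := by
      rw [pow_add, ← mul_assoc, ha, map_mul, map_pow]
    have hY : y * algebraMap B' Bh h ^ (n + m) = algebraMap B' Bh (b * h ^ n) := by
      rw [pow_add, mul_comm (algebraMap B' Bh h ^ n), ← mul_assoc, hb, map_mul, map_pow]
    have h1 : algebraMap B Bg (p (a * h ^ m)) = algebraMap B Bg (p (b * h ^ n)) := by
      rw [← hp', ← hp', ← hX, ← hY, map_mul, map_mul, hpxy]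
    have h2 : algebraMap R' Rf (q (a * h ^ m)) = algebraMap R' Rf (q (b * h ^ n)) := by
      rw [← hq', ← hq', ← hX, ← hY, map_mul, map_mul, hqxy]
    obtain ⟨k, hk⟩ := (away_eq_iff (p h) Bg _ _).mp h1
    obtain ⟨l, hl⟩ := (away_eq_iff (q h) Rf _ _).mp h2
    have h3 : h ^ (k + l) * (a * h ^ m) = h ^ (k + l) * (b * h ^ n) := by
      apply hinj
      · calc p (h ^ (k + l) * (a * h ^ m)) = p h ^ l * (p h ^ k * p (a * h ^ m)) := by
              simp only [map_mul, map_pow, pow_add]; ring
          _ = p h ^ l * (p h ^ k * p (b * h ^ n)) := by rw [hk]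
          _ = p (h ^ (k + l) * (b * h ^ n)) := by
              simp only [map_mul, map_pow, pow_add]; ring
      · calc q (h ^ (k + l) * (a * h ^ m)) = q h ^ k * (q h ^ l * q (a * h ^ m)) := by
              simp only [map_mul, map_pow, pow_add]; ring
          _ = q h ^ k * (q h ^ l * q (b * h ^ n)) := by rw [hl]
          _ = q (h ^ (k + l) * (b * h ^ n)) := by
              simp only [map_mul, map_pow, pow_add]; ring
    have h4 : algebraMap B' Bh (a * h ^ m) = algebraMap B' Bh (b * h ^ n) := by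
      have := congrArg (algebraMap B' Bh) h3
      rw [map_mul, map_mul (algebraMap B' Bh) (h ^ (k + l)), map_pow] at this
      exact (uh.pow (k + l)).mul_left_cancel this
    rw [← hX, ← hY] at h4
    exact (uh.pow (n + m)).mul_right_cancel h4
  · intro b r hbr
    obtain ⟨β, n, hβ⟩ := away_surj (p h) Bg b
    obtain ⟨ρ, m, hρ⟩ := away_surj (q h) Rf r
    have hβ' : b * algebraMap B Bg (p h) ^ (n + m) = algebraMap B Bg (β * p h ^ m) := by
      rw [pow_add, ← mul_assoc, hβ, map_mul, map_pow]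
    have hρ' : r * algebraMap R' Rf (q h) ^ (n + m) = algebraMap R' Rf (ρ * q h ^ n) := by
      rw [pow_add, mul_comm (algebraMap R' Rf (q h) ^ n), ← mul_assoc, hρ, map_mul, map_pow]
    have h1 : algebraMap R Rsg (s (β * p h ^ m)) = algebraMap R Rsg (t (ρ * q h ^ n)) := by
      rw [← hs', ← ht', ← hβ', ← hρ', map_mul, map_mul, map_pow, map_pow, hs', ht', hbr, hc']
    obtain ⟨k, hk⟩ := (away_eq_iff (s (p h)) Rsg _ _).mp h1
    have h2 : s (p h ^ k * (β * p h ^ m)) = t (q h ^ k * (ρ * q h ^ n)) := by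
      rw [map_mul, map_mul t, map_pow, map_pow, ← hc' h]
      exact hk
    obtain ⟨x', hx'p, hx'q⟩ := hsurj _ _ h2
    obtain ⟨v, hv⟩ := uh.pow (k + (n + m))
    refine ⟨algebraMap B' Bh x' * ↑v⁻¹, ?_, ?_⟩
    · apply (ug.pow (k + (n + m))).mul_right_cancel
      have : pL (algebraMap B' Bh x' * ↑v⁻¹) * algebraMap B Bg (p h) ^ (k + (n + m)) =
          pL (algebraMap B' Bh x' * ↑v⁻¹ * algebraMap B' Bh h ^ (k + (n + m))) := by
        rw [map_mul pL _ (algebraMap B' Bh h ^ _), map_pow, hp']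
      rw [this, ← hv, mul_assoc, Units.inv_mul, mul_one, hp', hx'p, map_mul, map_pow, pow_add,
        ← hβ']
      ring
    · apply (uf.pow (k + (n + m))).mul_right_cancel
      have : qL (algebraMap B' Bh x' * ↑v⁻¹) * algebraMap R' Rf (q h) ^ (k + (n + m)) =
          qL (algebraMap B' Bh x' * ↑v⁻¹ * algebraMap B' Bh h ^ (k + (n + m))) := by
        rw [map_mul qL _ (algebraMap B' Bh h ^ _), map_pow, hq']
      rw [this, ← hv, mul_assoc, Units.inv_mul, mul_one, hq', hx'q, map_mul, map_pow, pow_add,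
        ← hρ']
      ring


end Groth.Agent.S6934
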