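import Groth.Statements.S6941
import Mathlib
import Groth.Agent.H4.FlatFam2
import Groth.Agent.H4.Perf1

set_option autoImplicit false
universe u
open CategoryTheory CategoryTheory.Limits
attribute [local instance] HasDerivedCategory.standard
open DRing

namespace Groth.Agent.S6941


open Groth.Agent.H4.PC Groth.Agent.H4.FlatFam Groth.Agent.H4.BC Groth.Agent.H4.PCDesc

/-- Let R → R' be a faithfully flat homomorphism of commutative rings, K a cochain complex of R-modules
and m an integer. If the termwise base change K ⊗_R R' is m-pseudo-coherent in D(R'), then K is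
m-pseudo-coherent in D(R); if K ⊗_R R' is pseudo-coherent, then K is pseudo-coherent. -/
theorem result {R R' : Type u} [CommRing R] [CommRing R']
    [Algebra R R'] [Module.FaithfullyFlat R R'] (K : DRing.Cx R) (m : ℤ) :
    (DRing.IsPseudoCoherent R' m (DRing.toD (((ModuleCat.extendScalars (algebraMap R R')).mapHomologicalComplex
        (ComplexShape.up ℤ)).obj K)) → DRing.IsPseudoCoherent R m (DRing.toD K)) ∧
      (DRing.IsPseudoCoherent' R' (DRing.toD (((ModuleCat.extendScalars (algebraMap R R')).mapHomologicalComplex
        (ComplexShape.up ℤ)).obj K)) → DRing.IsPseudoCoherent' R (DRing.toD K)) := by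
  haveI : ∀ _ : PUnit.{1}, DRing.HasLBaseChange (algebraMap R R') :=
    fun _ => Groth.Agent.H4.KProj.hasLBaseChange _
  haveI : DRing.HasLBaseChange (algebraMap R R') := Groth.Agent.H4.KProj.hasLBaseChange _
  have hJ := jff_of_faithfullyFlat (R := R) R'
  have hD := hJ.detects
  have e := isoOfFlatMap (algebraMap R R') (hJ.flat PUnit.unit) K
  constructor
  · intro h
    exact hD.isPC m (toD K) (fun _ => isPC_of_iso e.symm h)
  · intro h
    exact hD.isPC' (toD K) (fun _ => Groth.Agent.H4.DRing1.isPseudoCoherent'_of_iso e.symm h)


end Groth.Agent.S6941
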