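import Groth.Statements.S6944
import Groth.Agent.H4.KProj5
import Groth.Agent.H4.TorAmp3
import Groth.Agent.H4.TorAmp1

set_option autoImplicit false
universe u
open CategoryTheory CategoryTheory.Limits
attribute [local instance] HasDerivedCategory.standard
open DRing

namespace Groth.Agent.S6944

open Groth.Agent.H4.LDer DerivedCategory Groth.Agent.H4.TorAmp Groth.Agent.H4.FlatAcyc
open MonoidalCategory

/-- Let R be a commutative ring and K a bounded above cochain complex of flat R-modules such that K, as
an object of D(R), has tor amplitude in [a, c] (it is isomorphic in D(R) to a complex of flat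
modules vanishing outside [a, c]). Then the cokernel of the differential K^(a-1) → K^a is a flat
R-module. -/
theorem result (R : Type u) [CommRing R] (K : DRing.Cx R) (b : ℤ)
    (hb : DRing.VanishesAbove K b) (hflat : DRing.TermwiseFlat K) (a c : ℤ)
    (hamp : DRing.HasTorAmplitudeIn R a c (DRing.toD K)) :
    Module.Flat R ((K.X a) ⧸ LinearMap.range (K.d (a - 1) a).hom) := by
  haveI : ∀ M : ModuleCat.{u} R, (Gh (tensorRight M)).HasLeftDerivedFunctor (WA R) :=
    fun M => Groth.Agent.H4.KProj.hasLeftDerivedFunctor _
  rw [hasTorAmp_iff] at hamp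
  have hK : IsBAFlat b K := ⟨hb, hflat⟩
  haveI := hflat a
  refine flat_coker (K.d (a - 2) (a - 1)).hom (K.d (a - 1) a).hom ?_ ?_
  · rw [← ModuleCat.hom_comp, K.d_comp_d]
    rfl
  · intro M _ _
    have h1 := hamp (ModuleCat.of R M) (a - 1) (Or.inl (by omega))
    have e := isoOfFlat (flatExact_tensorRight (ModuleCat.of R M)) hK (Iso.refl (toD K))
    have h2 : IsZero ((homologyFunctor (ModuleCat.{u} R) (a - 1)).obj
        (toD ((GC (tensorRight (ModuleCat.of R M))).obj K))) :=
      h1.of_iso ((homologyFunctor (ModuleCat.{u} R) (a - 1)).mapIso e.symm)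
    have h3 : ((GC (tensorRight (ModuleCat.of R M))).obj K).ExactAt (a - 1) := by
      rw [HomologicalComplex.exactAt_iff_isZero_homology]
      exact h2.of_iso ((homologyFunctorFactors (ModuleCat.{u} R) (a - 1)).app _).symm
    exact exact_d_of_exactAt _ (a - 2) (a - 1) a (by omega) (by omega) h3


end Groth.Agent.S6944
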