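import Groth.Statements.S6956
import Mathlib
import Groth.Agent.H4.TorRestr
import Groth.Agent.H4.Perf1
import Groth.Agent.S6947
import Groth.Agent.S6940

set_option autoImplicit false
universe u
open CategoryTheory CategoryTheory.Limits
attribute [local instance] HasDerivedCategory.standard
open DRing

namespace Groth.Agent.S6956


open MonoidalCategory DerivedCategory Groth.Agent.H4.LDer Groth.Agent.H4.PC Groth.Agent.H4.TV
  Groth.Agent.H4.TorBridge Groth.Agent.H4.TorAmp Groth.Agent.H4.PCDesc Groth.Agent.H4.BC
  Groth.Agent.H4.RestrPC Groth.Agent.H4.TorRestr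

/-- Let A → B be a homomorphism of commutative rings such that B is perfect as an A-module, and let K be
a perfect object of D(B). Then K, with scalars restricted to A, is a perfect object of D(A). -/
theorem result {A B : Type u} [CommRing A] [CommRing B] [Algebra A B]
    (hB : DRing.IsPerfectModule A B) (K : Dual.D B) (hK : DRing.IsPerfect B K) :
    DRing.IsPerfect A ((DRing.restrictD (algebraMap A B)).obj K) := by
  haveI : ∀ M : ModuleCat.{u} A, (Gh (tensorRight M)).HasLeftDerivedFunctor (WA A) :=
    fun M => Groth.Agent.H4.KProj.hasLeftDerivedFunctor _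
  have hB1 := (Groth.Agent.H4.Perf.isPerfect_iff _).1 hB
  have hK1 := (Groth.Agent.H4.Perf.isPerfect_iff _).1 hK
  rw [Groth.Agent.H4.Perf.isPerfect_iff]
  refine ⟨((Groth.Agent.S6940.result hB1.1 K 0).2).1 hK1.1, ?_⟩
  obtain ⟨a', b', hab⟩ := hB1.2
  obtain ⟨a, b, hKab⟩ := hK1.2
  have hd : DRing.HasTorAmplitudeIn A (-(((-a').toNat : ℕ) : ℤ)) 0 (Dual.inD A B) := by
    rw [hasTorAmp_iff] at hab ⊢
    intro M j hj
    rcases hj with hj | hj
    · exact hab M j (Or.inl (by have := Int.self_le_toNat (-a'); omega))
    · haveI := isLE_LG (tensorRight M) (Dual.inD A B) 0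
      exact isZero_of_isLE _ 0 j hj
  exact ⟨_, _, Groth.Agent.S6947.result _ hd K a b hKab⟩


end Groth.Agent.S6956
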