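import Groth.Statements.S6957
import Groth.Agent.H4.LDer2
import Groth.Agent.H4.ExtS
import Groth.Agent.H4.DRing1

set_option autoImplicit false
universe u
open CategoryTheory CategoryTheory.Limits
attribute [local instance] HasDerivedCategory.standard
open DRing

namespace Groth.Agent.S6957

open CategoryTheory DRing

attribute [local instance] HasDerivedCategory.standard
open Groth.Agent.H4.LDer Groth.Agent.H4.DRing1

/-- Let A → B be a homomorphism of commutative rings such that the derived base change D(A) → D(B)
exists, and let K be a perfect object of D(A). Then K ⊗^L_A B is a perfect object of D(B). -/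
theorem result {A B : Type u} [CommRing A] [CommRing B] (φ : A →+* B)
    [DRing.HasLBaseChange φ] (K : Dual.D A) (hK : DRing.IsPerfect A K) :
    DRing.IsPerfect B ((DRing.LBaseChange φ).obj K) := by
  obtain ⟨E, a, b, hz, hP, ⟨e⟩⟩ := hK
  haveI : E.IsKProjective := isKProjective_of_vanishesAbove_projective E b
    (fun i hi => hz i (Or.inr hi)) (fun i => (hP i).2)
  refine ⟨(GC (ModuleCat.extendScalars φ)).obj E, a, b, ?_, ?_,
    ⟨(isoOfIso (ModuleCat.extendScalars φ) E e).symm⟩⟩
  · intro i hi
    exact (ModuleCat.extendScalars φ).map_isZero (hz i hi)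
  · intro i
    haveI := (hP i).1
    haveI := (hP i).2
    exact ⟨Groth.Agent.H4.ExtS.finite_obj φ (E.X i), Groth.Agent.H4.ExtS.projective_obj φ (E.X i)⟩


end Groth.Agent.S6957
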