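import Groth.Statements.S6958
import Groth.Agent.S6957
import Groth.Agent.H4.LDer5
import Groth.Agent.H4.KProj5
import Groth.Agent.H4.ExtS

set_option autoImplicit false
universe u
open CategoryTheory CategoryTheory.Limits
attribute [local instance] HasDerivedCategory.standard
open DRing

namespace Groth.Agent.S6958

open Groth.Agent.H4.LDer DerivedCategory

/-- `inD` commutes with an exact base change. -/
lemma nonempty_iso_inD {A B : Type u} [CommRing A] [CommRing B] [Algebra A B]
    [Module.Flat A B] (M : Type u) [AddCommGroup M] [Module A M]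
    [DRing.HasLBaseChange (algebraMap A B)] :
    Nonempty ((DRing.LBaseChange (algebraMap A B)).obj (Dual.inD A M) ≅
      Dual.inD B (TensorProduct A B M)) := by
  let G := ModuleCat.extendScalars.{u, u, u} (algebraMap A B)
  haveI : PreservesFiniteLimits G :=
    ModuleCat.preservesFiniteLimits_extendScalars_of_flat
      ((RingHom.flat_algebraMap_iff).2 inferInstance)
  let X : Cx A := (HomologicalComplex.single (ModuleCat.{u} A) (ComplexShape.up ℤ) 0).obj
    (ModuleCat.of A M)
  have e1 : (LG G).obj (Q.obj X) ≅ Q.obj ((GC G).obj X) := isoOfExact G X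
  have e2 : Dual.inD A M ≅ Q.obj X :=
    (DerivedCategory.singleFunctorIsoCompQ (ModuleCat.{u} A) 0).app (ModuleCat.of A M)
  have e3 : (GC G).obj X ≅ (HomologicalComplex.single (ModuleCat.{u} B) (ComplexShape.up ℤ) 0).obj
      (G.obj (ModuleCat.of A M)) :=
    (HomologicalComplex.singleMapHomologicalComplex G (ComplexShape.up ℤ) 0).app (ModuleCat.of A M)
  have e4 : G.obj (ModuleCat.of A M) ≅ ModuleCat.of B (TensorProduct A B M) :=
    (Groth.Agent.H8.ExtBridge.extEquiv (A := A) (B := B) (ModuleCat.of A M)).toModuleIso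
  have e5 : Dual.inD B (TensorProduct A B M) ≅ Q.obj
      ((HomologicalComplex.single (ModuleCat.{u} B) (ComplexShape.up ℤ) 0).obj
        (ModuleCat.of B (TensorProduct A B M))) :=
    (DerivedCategory.singleFunctorIsoCompQ (ModuleCat.{u} B) 0).app _
  exact ⟨(LG G).mapIso e2 ≪≫ e1 ≪≫ Q.mapIso e3 ≪≫
    Q.mapIso ((HomologicalComplex.single (ModuleCat.{u} B) (ComplexShape.up ℤ) 0).mapIso e4) ≪≫
    e5.symm⟩

/-- Let A → B be a flat homomorphism of commutative rings and M a perfect A-module. Then B ⊗_A M is a
perfect B-module. -/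
theorem result {A B : Type u} [CommRing A] [CommRing B] [Algebra A B]
    [Module.Flat A B] (M : Type u) [AddCommGroup M] [Module A M] (hM : DRing.IsPerfectModule A M) :
    DRing.IsPerfectModule B (TensorProduct A B M) := by
  haveI := Groth.Agent.H4.KProj.hasLBaseChange (algebraMap A B)
  have h := Groth.Agent.S6957.result (algebraMap A B) (Dual.inD A M) hM
  obtain ⟨e⟩ := nonempty_iso_inD (A := A) (B := B) M
  obtain ⟨E, a, b, hz, hP, ⟨e'⟩⟩ := h
  exact ⟨E, a, b, hz, hP, ⟨e' ≪≫ e⟩⟩


end Groth.Agent.S6958
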