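import Groth.Statements.S6961
import Mathlib
import Groth.Agent.H4.FlatFam2
import Groth.Agent.H4.Perf1

set_option autoImplicit false
universe u
open CategoryTheory CategoryTheory.Limits
attribute [local instance] HasDerivedCategory.standard
open DRing

namespace Groth.Agent.S6961


open Groth.Agent.H4.PC Groth.Agent.H4.FlatFam Groth.Agent.H4.BC Groth.Agent.H4.PCDesc

/-- Let R → R' be a faithfully flat homomorphism of commutative rings and K a cochain complex of
R-modules. If the termwise base change K ⊗_R R' is a perfect object of D(R'), then K is a perfect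
object of D(R). -/
theorem result {R R' : Type u} [CommRing R] [CommRing R'] [Algebra R R']
    [Module.FaithfullyFlat R R'] (K : DRing.Cx R)
    (hK : DRing.IsPerfect R' (DRing.toD (((ModuleCat.extendScalars (algebraMap R R')).mapHomologicalComplex
        (ComplexShape.up ℤ)).obj K))) :
    DRing.IsPerfect R (DRing.toD K) := by
  haveI : ∀ _ : PUnit.{1}, DRing.HasLBaseChange (algebraMap R R') :=
    fun _ => Groth.Agent.H4.KProj.hasLBaseChange _
  haveI : DRing.HasLBaseChange (algebraMap R R') := Groth.Agent.H4.KProj.hasLBaseChange _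
  have hJ := jff_of_faithfullyFlat (R := R) R'
  have e := isoOfFlatMap (algebraMap R R') (hJ.flat PUnit.unit) K
  rw [Groth.Agent.H4.Perf.isPerfect_iff] at hK ⊢
  obtain ⟨h1, a, b, h2⟩ := hK
  refine ⟨hJ.detects.isPC' (toD K) (fun _ =>
    Groth.Agent.H4.DRing1.isPseudoCoherent'_of_iso e.symm h1), a, b, ?_⟩
  exact hJ.hasTorAmp (toD K) a b (fun _ => Groth.Agent.H4.TorAmp.hasTorAmp_of_iso e.symm h2)


end Groth.Agent.S6961
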