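import Groth.Statements.S6966
import Mathlib
import Groth.Agent.H4.DComp13

set_option autoImplicit false
universe u
open CategoryTheory CategoryTheory.Limits
attribute [local instance] HasDerivedCategory.standard
open CAlg

namespace Groth.Agent.S6966

open CategoryTheory.Pretriangulated DerivedCategory Groth.Agent.H4.DComp



/-- Let R be a commutative ring, I an ideal of R and M an R-module. Then the following two conditions
coincide: for each a ∈ I, the endomorphism of M given by multiplication by a can be written as a
composite M → P → M with P some projective R-module; and for every R-module N and every a ∈ I, a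
annihilates Ext^1_R(M, N) = Hom(M[0], N[1]) in D(R). -/
theorem result (R : Type u) [CommRing R] (I : Ideal R) (M : Type u)
    [AddCommGroup M] [Module R M] :
    (∀ a ∈ I, ∃ (P : Type u) (_ : AddCommGroup P) (_ : Module R P) (_ : Module.Projective R P)
        (f : M →ₗ[R] P) (g : P →ₗ[R] M), g ∘ₗ f = a • LinearMap.id) ↔
      ∀ (N : Type u) [AddCommGroup N] [Module R N], ∀ a ∈ I,
        ∀ x : DRing.ExtD R (Dual.inD R M) (Dual.inD R N) 1, a • x = 0 := by
  constructor
  · intro h N _ _ a ha x
    obtain ⟨P, _, _, hP, f, g, hgf⟩ := h a ha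
    change a • (x : Dual.inD R M ⟶ (Dual.inD R N)⟦(1 : ℤ)⟧) = 0
    have h1 : a • (x : Dual.inD R M ⟶ (Dual.inD R N)⟦(1 : ℤ)⟧) =
        (singleFunctor (ModuleCat.{u} R) 0).map (ModuleCat.ofHom f) ≫
          ((singleFunctor (ModuleCat.{u} R) 0).map (ModuleCat.ofHom g) ≫ x) := by
      rw [← Category.assoc, ← Functor.map_comp, ← ModuleCat.ofHom_comp, hgf]
      have : ModuleCat.ofHom (a • (LinearMap.id : M →ₗ[R] M)) = a • 𝟙 (ModuleCat.of R M) := rfl
      rw [this, Functor.map_smul, CategoryTheory.Functor.map_id, Linear.smul_comp, Category.id_comp]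
    rw [h1]
    haveI : ((Dual.inD R N)⟦(1 : ℤ)⟧).IsLE (0 - 1) :=
      TStructure.t.isLE_shift _ 0 1 (0 - 1) (by omega)
    have h2 : (singleFunctor (ModuleCat.{u} R) 0).map (ModuleCat.ofHom g) ≫ x = 0 :=
      hom_single_projective_eq_zero (ModuleCat.of R P) 0 _ _
    rw [h2, comp_zero]
  · intro h a ha
    -- a free presentation of `M`
    let π : (M →₀ R) →ₗ[R] M := Finsupp.linearCombination R id
    have hπ : Function.Surjective π := by
      intro y
      refine ⟨Finsupp.single y 1, ?_⟩
      change (Finsupp.linearCombination R id) (Finsupp.single y 1) = y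
      rw [Finsupp.linearCombination_single, one_smul, id]
    have hS := LinearMap.shortExact_shortComplexKer hπ
    have hT := hS.singleTriangle_distinguished
    have h0 := h (LinearMap.ker π) a ha hS.singleTriangle.mor₃
    have h1 : (a • 𝟙 (Dual.inD R M)) ≫ hS.singleTriangle.mor₃ = 0 := by
      rw [Linear.smul_comp, Category.id_comp]
      exact h0
    obtain ⟨s, hs⟩ := Triangle.coyoneda_exact₃ _ hT _ h1
    obtain ⟨s', rfl⟩ := (singleFunctor (ModuleCat.{u} R) 0).map_surjective s
    refine ⟨(M →₀ R), inferInstance, inferInstance, inferInstance, s'.hom, π, ?_⟩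
    have h2 : (singleFunctor (ModuleCat.{u} R) 0).map (a • 𝟙 (ModuleCat.of R M)) =
        (singleFunctor (ModuleCat.{u} R) 0).map (s' ≫ ModuleCat.ofHom π) := by
      rw [Functor.map_smul, CategoryTheory.Functor.map_id, Functor.map_comp]
      exact hs
    have h3 := (singleFunctor (ModuleCat.{u} R) 0).map_injective h2
    have h4 := congrArg ModuleCat.Hom.hom h3
    exact h4.symm


end Groth.Agent.S6966
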