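import Groth.Statements.S6967
import Mathlib

set_option autoImplicit false
universe u
open CAlg

namespace Groth.Agent.S6967

/-- Let R be a commutative ring, I an ideal of R and 0 → K → P → M → 0 a short exact sequence of
R-modules with P projective. If multiplication by a on M factors through a projective R-module for
every a ∈ I, then multiplication by a on K factors through a projective R-module for every a ∈ I. -/
theorem result (R : Type u) [CommRing R] (I : Ideal R)
    {K P M : Type u} [AddCommGroup K] [Module R K] [AddCommGroup P] [Module R P] [Module.Projective R P]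
    [AddCommGroup M] [Module R M] (f : K →ₗ[R] P) (g : P →ₗ[R] M) (hf : Function.Injective f)
    (hg : Function.Surjective g) (hfg : LinearMap.range f = LinearMap.ker g)
    (hM : ∀ a ∈ I, ∃ (P : Type u) (_ : AddCommGroup P) (_ : Module R P) (_ : Module.Projective R P)
        (f : M →ₗ[R] P) (g : P →ₗ[R] M), g ∘ₗ f = a • LinearMap.id) :
    ∀ a ∈ I, ∃ (P : Type u) (_ : AddCommGroup P) (_ : Module R P) (_ : Module.Projective R P)
        (f : K →ₗ[R] P) (g : P →ₗ[R] K), g ∘ₗ f = a • LinearMap.id := by
  intro a ha
  obtain ⟨Q, _, _, _, f', g', hfg'⟩ := hM a ha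
  obtain ⟨h, hh⟩ := Module.projective_lifting_property g g' hg
  -- the endomorphism `a - h ∘ f' ∘ g` of `P` lands in `ker g = range f`
  let θ : P →ₗ[R] P := a • LinearMap.id - h ∘ₗ f' ∘ₗ g
  have hθ : ∀ x, θ x ∈ LinearMap.range f := by
    intro x
    rw [hfg, LinearMap.mem_ker]
    have h1 : g (h (f' (g x))) = a • g x := by
      have := congrArg (fun l : M →ₗ[R] M => l (g x)) hfg'
      have h2 := congrArg (fun l : Q →ₗ[R] M => l (f' (g x))) hh
      simp only [LinearMap.comp_apply] at h2 this
      rw [h2, this]
      simp
    simp [θ, h1]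
  let e := LinearEquiv.ofInjective f hf
  let ψ : P →ₗ[R] K := e.symm.toLinearMap ∘ₗ (θ.codRestrict (LinearMap.range f) hθ)
  refine ⟨P, inferInstance, inferInstance, inferInstance, f, ψ, ?_⟩
  apply LinearMap.ext
  intro x
  apply hf
  have h3 : f (ψ (f x)) = θ (f x) := by
    simp only [ψ, LinearMap.comp_apply, LinearEquiv.coe_coe]
    have := LinearEquiv.apply_symm_apply e (θ.codRestrict (LinearMap.range f) hθ (f x))
    have h4 := congrArg Subtype.val this
    simpa [e] using h4
  have h5 : g (f x) = 0 := by
    rw [← LinearMap.mem_ker, ← hfg]; exact LinearMap.mem_range_self f x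
  simp only [LinearMap.comp_apply, LinearMap.smul_apply, LinearMap.id_apply, map_smul]
  rw [h3]
  simp [θ, h5]

end Groth.Agent.S6967
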