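import Groth.Statements.S6969
import Mathlib

set_option autoImplicit false
universe u
open CAlg

namespace Groth.Agent.S6969

/-- Let R be a commutative ring and φ : M → N an R-linear map which factors through a projective
R-module. If M is finitely generated, then φ factors through a finitely generated projective
R-module. -/
theorem result (R : Type u) [CommRing R] {M N : Type u} [AddCommGroup M]
    [Module R M] [Module.Finite R M] [AddCommGroup N] [Module R N] (φ : M →ₗ[R] N)
    (h : ∃ (P : Type u) (_ : AddCommGroup P) (_ : Module R P) (_ : Module.Projective R P) (f : M →ₗ[R] P)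
      (g : P →ₗ[R] N), g ∘ₗ f = φ) :
    ∃ (P : Type u) (_ : AddCommGroup P) (_ : Module R P) (_ : Module.Projective R P) (_ : Module.Finite R P)
      (f : M →ₗ[R] P) (g : P →ₗ[R] N), g ∘ₗ f = φ := by
  classical
  obtain ⟨P, _, _, hP, f, g, hgf⟩ := h
  obtain ⟨s, hs⟩ := (Module.projective_def' (R := R) (P := P)).mp hP
  obtain ⟨S, hS⟩ := (Module.Finite.fg_top : (⊤ : Submodule R M).FG)
  let t : Finset P := S.biUnion (fun m => (s (f m)).support)
  have hmem : ∀ m : M, s (f m) ∈ Finsupp.supported R R (↑t : Set P) := by
    intro m
    have hm : m ∈ Submodule.span R (↑S : Set M) := by rw [hS]; trivial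
    have hle : Submodule.span R (↑S : Set M) ≤
        (Finsupp.supported R R (↑t : Set P)).comap (s ∘ₗ f) := by
      rw [Submodule.span_le]
      intro x hx
      simp only [Submodule.comap_coe, Set.mem_preimage, LinearMap.comp_apply, SetLike.mem_coe,
        Finsupp.mem_supported]
      intro p hp
      simp only [t, Finset.coe_biUnion, Set.mem_iUnion]
      exact ⟨x, hx, hp⟩
    exact hle hm
  let e : Finsupp.supported R R (↑t : Set P) ≃ₗ[R] ((↑t : Set P) →₀ R) :=
    Finsupp.supportedEquivFinsupp (↑t : Set P)
  haveI : Module.Free R (Finsupp.supported R R (↑t : Set P)) := Module.Free.of_equiv e.symm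
  haveI : Finite (↑t : Set P) := t.finite_toSet
  haveI : Module.Finite R (Finsupp.supported R R (↑t : Set P)) := Module.Finite.equiv e.symm
  refine ⟨Finsupp.supported R R (↑t : Set P), inferInstance, inferInstance, inferInstance,
    inferInstance, (s ∘ₗ f).codRestrict _ hmem,
    g ∘ₗ Finsupp.linearCombination R id ∘ₗ (Finsupp.supported R R (↑t : Set P)).subtype, ?_⟩
  apply LinearMap.ext
  intro m
  have h1 : (Finsupp.linearCombination R id) (s (f m)) = f m := by
    have := congrArg (fun l : P →ₗ[R] P => l (f m)) hs
    simpa using this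
  have h2 : g (f m) = φ m := by
    have := congrArg (fun l : M →ₗ[R] N => l m) hgf
    simpa using this
  simp [h1, h2]

end Groth.Agent.S6969
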