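import Groth.Statements.S6975
import Groth.Agent.H4.LocalPerf2

set_option autoImplicit false
universe u
open CategoryTheory CategoryTheory.Limits
attribute [local instance] HasDerivedCategory.standard
open DRing

namespace Groth.Agent.S6975

open CategoryTheory CategoryTheory.Limits DRing MonoidalCategory CategoryTheory.Pretriangulated

attribute [local instance] HasDerivedCategory.standard
open DerivedCategory Groth.Agent.H4.TorAmp Groth.Agent.H4.LDer Groth.Agent.H4.DRing1 Groth.Agent.H4.PC
  Groth.Agent.H4.LocalPerf

/-- the residue field, as an `R`-module through restriction of scalars, is the residue field. -/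
noncomputable def resEquiv (R : Type u) [CommRing R] [IsLocalRing R] :
    ((ModuleCat.restrictScalars (IsLocalRing.residue R)).obj
      (ModuleCat.of (IsLocalRing.ResidueField R) (IsLocalRing.ResidueField R))) ≃ₗ[R]
      IsLocalRing.ResidueField R where
  toFun x := x
  invFun x := x
  left_inv _ := rfl
  right_inv _ := rfl
  map_add' _ _ := rfl
  map_smul' r x := by
    rw [ModuleCat.restrictScalars.smul_def, RingHom.id_apply, Algebra.smul_def]
    rfl

/-- Let R be a local commutative ring with residue field κ such that the derived base change D(R) → D(κ)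
exists, and let K be a pseudo-coherent object of D(R). If there is an integer a with H^i(K ⊗^L_R κ)
= 0 for all i < a, then K is perfect. -/
theorem result (R : Type u) [CommRing R] [IsLocalRing R]
    [DRing.HasLBaseChange (IsLocalRing.residue R)] (K : Dual.D R) (hK : DRing.IsPseudoCoherent' R K) (a : ℤ)
    (h : ∀ i : ℤ, i < a → Subsingleton (Dual.HD (IsLocalRing.ResidueField R)
      ((DRing.LBaseChange (IsLocalRing.residue R)).obj K) i)) :
    DRing.IsPerfect R K := by
  obtain ⟨E, b, hb, hE, ⟨e⟩⟩ := hK
  haveI : E.IsKProjective := isKProjective_of_vanishesAbove_projective E b hb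
    (fun i => by haveI := (hE i).2; infer_instance)
  have e' := isoOfIso (ModuleCat.extendScalars (IsLocalRing.residue R)) E e
  have hex : ∀ i : ℤ, i < a →
      ((GC (ModuleCat.extendScalars (IsLocalRing.residue R))).obj E).ExactAt i := by
    intro i hi
    rw [HomologicalComplex.exactAt_iff_isZero_homology]
    have h0 := h i hi
    have h1 : IsZero ((homologyFunctor (ModuleCat.{u} (IsLocalRing.ResidueField R)) i).obj
        ((DRing.LBaseChange (IsLocalRing.residue R)).obj K)) :=
      @ModuleCat.isZero_of_subsingleton _ _ _ h0
    exact (h1.of_iso ((homologyFunctor _ i).mapIso e'.symm)).of_iso (homologyToDIso _ i).symm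
  have key : ∀ i j k : ℤ, i + 1 = j → j + 1 = k → j < a →
      Function.Exact (E.d i j).hom (E.d j k).hom ∧
        Module.Free R (E.X k ⧸ LinearMap.range (E.d j k).hom) := by
    intro i j k hij hjk hj
    haveI := (hE j).1
    haveI := (hE k).1
    haveI := (hE k).2
    refine exact_and_free_coker' (E.d i j).hom (E.d j k).hom ?_ _ (resEquiv R) ?_
    · rw [← ModuleCat.hom_comp, E.d_comp_d]; rfl
    · exact Groth.Agent.H4.FlatAcyc.exact_d_of_exactAt _ i j k hij hjk (hex j hj)
  have hfree := (key (a - 2) (a - 1) a (by omega) (by omega) (by omega)).2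
  exact isPerfect_of_iso e (isPerfect_of_exactAt E a b hb
    (fun i => ⟨(hE i).1, by haveI := (hE i).2; infer_instance⟩)
    (fun i hi => Groth.Agent.H4.FlatAcyc.exactAt_of_exact_d E (i - 1) i (i + 1) (by omega) rfl
      (key (i - 1) i (i + 1) (by omega) rfl hi).1) inferInstance).1


end Groth.Agent.S6975
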