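import Groth.Statements.S6980
import Mathlib
import Groth.Agent.H4.TwoIdeal

set_option autoImplicit false
universe u
open CategoryTheory CategoryTheory.Limits
attribute [local instance] HasDerivedCategory.standard
open DRing

namespace Groth.Agent.S6980

attribute [local instance] HasDerivedCategory.standard
open Groth.Agent.H4.TwoIdeal Groth.Agent.H4.FibPerf Groth.Agent.H4.DRing1

attribute [local instance] Groth.Agent.H4.FibPerf.instHasLBC

/-- Let R be a commutative ring, I and J ideals of R such that the derived base changes D(R) → D(R/I),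
D(R/J), D(R/IJ) exist, and K an object of D(R). If K ⊗^L_R R/I is perfect in D(R/I) and K ⊗^L_R R/J
is perfect in D(R/J), then K ⊗^L_R R/IJ is perfect in D(R/IJ). -/
theorem result (R : Type u) [CommRing R] (I J : Ideal R)
    [DRing.HasLBaseChange (Ideal.Quotient.mk I)] [DRing.HasLBaseChange (Ideal.Quotient.mk J)]
    [DRing.HasLBaseChange (Ideal.Quotient.mk (I * J))] (K : Dual.D R)
    (hI : DRing.IsPerfect (R ⧸ I) ((DRing.LBaseChange (Ideal.Quotient.mk I)).obj K))
    (hJ : DRing.IsPerfect (R ⧸ J) ((DRing.LBaseChange (Ideal.Quotient.mk J)).obj K)) :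
    DRing.IsPerfect (R ⧸ (I * J)) ((DRing.LBaseChange (Ideal.Quotient.mk (I * J))).obj K) := by
  have hIJ₁ : I * J ≤ I := Ideal.mul_le_left
  have hIJ₂ : I * J ≤ J := Ideal.mul_le_right
  let φ₁ := Ideal.Quotient.factor hIJ₁
  let φ₂ := Ideal.Quotient.factor hIJ₂
  have h0 : RingHom.ker φ₁ * RingHom.ker φ₂ = ⊥ := by
    rw [Ideal.Quotient.factor_ker hIJ₁, Ideal.Quotient.factor_ker hIJ₂, ← Ideal.map_mul,
      Ideal.map_quotient_self]
  refine isPerfect_pair φ₁ φ₂ (Ideal.Quotient.factor_surjective hIJ₁)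
    (Ideal.Quotient.factor_surjective hIJ₂) h0 _ ?_ ?_
  · obtain ⟨i1⟩ := nonempty_LBCComp (Ideal.Quotient.mk (I * J)) φ₁ K
    obtain ⟨i2⟩ := nonempty_LBC_congr (Ideal.Quotient.factor_comp_mk hIJ₁) K
    exact isPerfect_of_iso (i1 ≪≫ i2).symm hI
  · obtain ⟨i1⟩ := nonempty_LBCComp (Ideal.Quotient.mk (I * J)) φ₂ K
    obtain ⟨i2⟩ := nonempty_LBC_congr (Ideal.Quotient.factor_comp_mk hIJ₂) K
    exact isPerfect_of_iso (i1 ≪≫ i2).symm hJ


end Groth.Agent.S6980
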