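import Groth.Statements.S6982
import Mathlib
import Groth.Agent.H4.PolyEv

set_option autoImplicit false
universe u
open CategoryTheory CategoryTheory.Limits
attribute [local instance] HasDerivedCategory.standard
open DRing

namespace Groth.Agent.S6982

open Groth.Agent.H4.PolyEv

/-- Let R be a commutative ring, K an object of D(R) and φ : R[x] → R the R-algebra homomorphism sending
x to 0; assume the derived base change D(R[x]) → D(R) along φ exists. Then the derived base change
along φ of K (regarded as an object of D(R[x]) via φ) is isomorphic in D(R) to K ⊕ K[1]. -/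
theorem result (R : Type u) [CommRing R]
    [DRing.HasLBaseChange (Polynomial.evalRingHom (0 : R))] (K : Dual.D R)
    [HasBinaryBiproduct K ((shiftFunctor (Dual.D R) (1 : ℤ)).obj K)] :
    Nonempty ((DRing.LBaseChange (Polynomial.evalRingHom (0 : R))).obj
        ((DRing.restrictD (Polynomial.evalRingHom (0 : R))).obj K) ≅
      K ⊞ (shiftFunctor (Dual.D R) (1 : ℤ)).obj K) := by
  obtain ⟨Y, hY, ⟨e⟩⟩ := Groth.Agent.H4.KProj.exists_kproj_iso K
  obtain ⟨hb, ⟨e1⟩⟩ := main0 R Y
  exact ⟨(DRing.LBaseChange (ev R)).mapIso ((DRing.restrictD (ev R)).mapIso e.symm) ≪≫ e1 ≪≫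
    biprod.mapIso e ((shiftFunctor _ (1 : ℤ)).mapIso e)⟩


end Groth.Agent.S6982
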