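import Groth.Statements.S6987
import Mathlib
import Groth.Agent.H4.LocRelPC
import Groth.Agent.H4.FlatFam2

set_option autoImplicit false
universe u
open CategoryTheory CategoryTheory.Limits
attribute [local instance] HasDerivedCategory.standard
open DerCA

namespace Groth.Agent.S6987

open CategoryTheory CategoryTheory.Limits ZeroObject
open DRing

open Groth.Agent.H4.PCHom Groth.Agent.H4.PC Groth.Agent.H4.RelPC DerivedCategory
  Groth.Agent.H4.RestrPC Groth.Agent.H4.PCHom3 Polynomial Groth.Agent.H4.LocRelPC
  Groth.Agent.H4.LDer Groth.Agent.H4.PCDesc Groth.Agent.H4.FlatFam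

attribute [local instance] Groth.Agent.H4.FibPerf.instHasLBC

lemma isZero_toD_of_subsingleton {A : Type u} [CommRing A] (E : Cx A)
    (h : ∀ i, Subsingleton (E.X i)) : IsZero (toD E) := by
  have hE : IsZero E := by
    rw [IsZero.iff_id_eq_zero]
    ext i : 1
    haveI := h i
    exact (ModuleCat.isZero_of_subsingleton (E.X i)).eq_of_src _ _
  exact Q.map_isZero hE

lemma isPC_of_isZero {A : Type u} [CommRing A] {K : Dual.D A} (hK : IsZero K) (m : ℤ) :
    IsPseudoCoherent A m K :=
  isPC_of_iso (IsZero.iso (Q.map_isZero (isZero_zero _)) hK) (isPC_toD m (0 : Cx A) isBFF_zero)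

lemma relPC_of_isZero {R A : Type u} [CommRing R] [CommRing A] [Algebra R A]
    [Algebra.FiniteType R A] {K : Dual.D A} (hK : IsZero K) (m : ℤ) :
    DerCA.IsRelPseudoCoherent R A m K := by
  obtain ⟨n, α, hα⟩ := exists_pres (R := R) (A := A)
  rw [relPC_iff α hα]
  exact isPC_of_isZero ((restrictD _).map_isZero hK) m

/-- Let R → A be a finite type homomorphism of commutative rings, K a cochain complex of A-modules, m an
integer and f_1, ..., f_r elements of A generating the unit ideal. Then relative m-pseudo-coherence
of K over R holds exactly when, for every i, the termwise localization K ⊗_A A_(f_i) is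
m-pseudo-coherent relative to R over the finite type R-algebra A_(f_i). -/
theorem result {R A : Type u} [CommRing R] [CommRing A] [Algebra R A]
    [Algebra.FiniteType R A] (K : DRing.Cx A) (m : ℤ) {r : ℕ} (f : Fin r → A)
    (hf : Ideal.span (Set.range f) = ⊤) :
    DerCA.IsRelPseudoCoherent R A m (DRing.toD K) ↔
      ∀ i, DerCA.IsRelPseudoCoherent R (Localization.Away (f i)) m
        (DRing.toD (((ModuleCat.extendScalars (algebraMap A (Localization.Away (f i)))).mapHomologicalComplex
          (ComplexShape.up ℤ)).obj K)) := by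
  obtain ⟨n, α, hα⟩ := exists_pres (R := R) (A := A)
  rw [relPC_iff α hα]
  choose g hg using fun i => hα (f i)
  constructor
  · intro h i
    refine (relPC_away_iff α hα (g i) (f i) (hg i) K m).2 ?_
    exact isPC_LBaseChange _ m _ h
  · intro h
    obtain ⟨c, hc⟩ := (Ideal.mem_span_range_iff_exists_fun (R := A)).1
      (hf ▸ Submodule.mem_top : (1 : A) ∈ Ideal.span (Set.range f))
    choose c' hc' using fun i => hα (c i)
    let h0 : MvPolynomial (Fin n) R := 1 - ∑ i, c' i * g i
    have hh0 : α h0 = 0 := by
      simp only [h0, map_sub, map_one, map_sum, map_mul, hc', hg, hc, sub_self]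
    let g' : Fin (r + 1) → MvPolynomial (Fin n) R := Fin.snoc g h0
    have hg' : Ideal.span (Set.range g') = ⊤ := by
      rw [Ideal.eq_top_iff_one]
      have h1 : (1 : MvPolynomial (Fin n) R) = h0 + ∑ i, c' i * g i := by simp [h0]
      rw [h1]
      refine Ideal.add_mem _ (Ideal.subset_span ⟨Fin.last r, by simp [g']⟩)
        (Ideal.sum_mem _ (fun i _ => Ideal.mul_mem_left _ _
          (Ideal.subset_span ⟨Fin.castSucc i, by simp [g']⟩)))
    refine (jff_of_span_eq_top g' hg').detects.isPC m _ (fun j => ?_)
    refine Fin.lastCases ?_ (fun i => ?_) j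
    · have ha : α (g' (Fin.last r)) = 0 := by simp [g', hh0]
      refine (relPC_away_iff α hα (g' (Fin.last r)) 0 ha K m).1 ?_
      haveI : Subsingleton (Localization.Away (0 : A)) :=
        IsLocalization.subsingleton (M := Submonoid.powers (0 : A)) ⟨1, by simp⟩
      refine relPC_of_isZero (isZero_toD_of_subsingleton _ (fun i => ?_)) m
      exact Module.subsingleton (Localization.Away (0 : A)) _
    · have ha : α (g' (Fin.castSucc i)) = f i := by simp [g', hg]
      exact (relPC_away_iff α hα (g' (Fin.castSucc i)) (f i) ha K m).1 (h i)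


end Groth.Agent.S6987
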