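import Groth.Statements.S6988
import Mathlib
import Groth.Agent.H4.PC8

set_option autoImplicit false
universe u
open CategoryTheory CategoryTheory.Limits
attribute [local instance] HasDerivedCategory.standard
open DRing

namespace Groth.Agent.S6988


open DerivedCategory Groth.Agent.H4.PC

/-- the canonical map `E ⟶ (E.opcycles i)[-i]`. -/
noncomputable def toOp {R : Type u} [CommRing R] (E : Cx R) (i : ℤ) :
    E ⟶ (HomologicalComplex.single (ModuleCat.{u} R) (ComplexShape.up ℤ) i).obj (E.opcycles i) :=
  HomologicalComplex.mkHomToSingle (E.pOpcycles i) (fun j hj => by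
    obtain rfl : j = i - 1 := by simp at hj; omega
    exact E.d_pOpcycles _ _)

/-- the canonical map `E ⟶ (E.opcycles i)[-i]` is injective on `H^i`. -/
lemma mono_homologyMap_toOp {R : Type u} [CommRing R] (E : Cx R) (i : ℤ) :
    Mono (HomologicalComplex.homologyMap (toOp E i) i) := by
  have h1 : HomologicalComplex.homologyMap (toOp E i) i ≫
      ((HomologicalComplex.single (ModuleCat.{u} R) (ComplexShape.up ℤ) i).obj
        (E.opcycles i)).homologyι i =
      E.homologyι i ≫ HomologicalComplex.opcyclesMap (toOp E i) i :=
    HomologicalComplex.homologyι_naturality (toOp E i) i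
  have h2 : HomologicalComplex.opcyclesMap (toOp E i) i =
      (HomologicalComplex.singleObjOpcyclesSelfIso (ComplexShape.up ℤ) i (E.opcycles i)).hom := by
    rw [← cancel_epi (E.pOpcycles i), HomologicalComplex.p_opcyclesMap,
      HomologicalComplex.singleObjOpcyclesSelfIso_hom, toOp, HomologicalComplex.mkHomToSingle_f,
      Category.assoc]
  haveI : Mono (HomologicalComplex.homologyMap (toOp E i) i ≫
      ((HomologicalComplex.single (ModuleCat.{u} R) (ComplexShape.up ℤ) i).obj
        (E.opcycles i)).homologyι i) := by
    rw [h1, h2]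
    infer_instance
  exact mono_of_mono _ (((HomologicalComplex.single (ModuleCat.{u} R) (ComplexShape.up ℤ) i).obj
        (E.opcycles i)).homologyι i)

lemma fp_opcycles {R : Type u} [CommRing R] (E : Cx R) (i : ℤ)
    (h1 : Module.Finite R (E.X (i - 1))) (h2 : Module.Finite R (E.X i)) (h3 : Module.Free R (E.X i)) :
    Module.FinitePresentation R (E.opcycles i) := by
  have hex : (ShortComplex.mk (E.d (i - 1) i) (E.pOpcycles i) (by simp)).Exact :=
    ShortComplex.exact_of_g_is_cokernel _ (E.opcyclesIsCokernel (i - 1) i (by simp))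
  rw [ShortComplex.ShortExact.moduleCat_exact_iff_function_exact] at hex
  have hsurj : Function.Surjective (E.pOpcycles i).hom :=
    (ModuleCat.epi_iff_surjective _).1 inferInstance
  haveI : Module.FinitePresentation R (E.X i) := Module.finitePresentation_of_projective R _
  refine Module.finitePresentation_of_surjective (E.pOpcycles i).hom hsurj ?_
  have hk : LinearMap.ker (E.pOpcycles i).hom = LinearMap.range (E.d (i - 1) i).hom := by
    ext x
    exact hex x
  rw [hk, LinearMap.range_eq_map]
  exact Submodule.FG.map _ h1.fg_top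

/-- Let R be a commutative ring, K a pseudo-coherent object of D(R) and i an integer. Then some finitely
presented R-module M admits a morphism K → M[-i] in D(R) that is injective on H^i (here H^i(M[-i]) =
M). -/
theorem result (R : Type u) [CommRing R] (K : Dual.D R)
    (hK : DRing.IsPseudoCoherent' R K) (i : ℤ) :
    ∃ (M : Type u) (_ : AddCommGroup M) (_ : Module R M) (_ : Module.FinitePresentation R M)
      (f : K ⟶ (shiftFunctor (Dual.D R) (-i)).obj (Dual.inD R M)),
      Mono ((DerivedCategory.homologyFunctor (ModuleCat.{u} R) i).map f) := by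
  obtain ⟨E, b, hb, hE, ⟨e⟩⟩ := hK
  let N : ModuleCat.{u} R := E.opcycles i
  let iso' : Q.obj ((HomologicalComplex.single (ModuleCat.{u} R) (ComplexShape.up ℤ) i).obj N) ≅
      (shiftFunctor (Dual.D R) (-i)).obj ((singleFunctor (ModuleCat.{u} R) 0).obj N) :=
    ((singleFunctorIsoCompQ (ModuleCat.{u} R) i).app N).symm ≪≫
      (((singleFunctors (ModuleCat.{u} R)).shiftIso (-i) i 0 (by simp)).app N).symm
  refine ⟨N, inferInstance, inferInstance,
    fp_opcycles E i (hE (i - 1)).1 (hE i).1 (hE i).2, e.inv ≫ Q.map (toOp E i) ≫ iso'.hom, ?_⟩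
  rw [Functor.map_comp, Functor.map_comp]
  have hm : Mono ((homologyFunctor (ModuleCat.{u} R) i).map (Q.map (toOp E i))) := by
    have hn := (homologyFunctorFactors (ModuleCat.{u} R) i).hom.naturality (toOp E i)
    have h0 : Mono ((HomologicalComplex.homologyFunctor (ModuleCat.{u} R) (ComplexShape.up ℤ) i).map
        (toOp E i)) := mono_homologyMap_toOp E i
    have h1 : Mono ((homologyFunctorFactors (ModuleCat.{u} R) i).hom.app E ≫
        (HomologicalComplex.homologyFunctor (ModuleCat.{u} R) (ComplexShape.up ℤ) i).map
        (toOp E i)) := @mono_comp _ _ _ _ _ _ (IsIso.mono_of_iso _) _ h0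
    rw [← hn] at h1
    exact @mono_of_mono _ _ _ _ _ ((Q ⋙ homologyFunctor (ModuleCat.{u} R) i).map (toOp E i))
      ((homologyFunctorFactors (ModuleCat.{u} R) i).hom.app _) h1
  haveI := hm
  infer_instance


end Groth.Agent.S6988
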