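import Groth.Statements.S6989
import Mathlib
import Groth.Agent.H4.PC9
import Groth.Agent.S6988

set_option autoImplicit false
universe u
open CategoryTheory CategoryTheory.Limits
attribute [local instance] HasDerivedCategory.standard
open DRing

namespace Groth.Agent.S6989


open DerivedCategory Groth.Agent.H4.PC

/-- `H^i((M[0])[-i]) ≅ M`, naturally in `M`. -/
noncomputable def theta (A : Type u) [CommRing A] (i : ℤ) :
    (singleFunctor (ModuleCat.{u} A) 0 ⋙ shiftFunctor (Dual.D A) (-i)) ⋙
      homologyFunctor (ModuleCat.{u} A) i ≅ 𝟭 (ModuleCat.{u} A) :=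
  Functor.isoWhiskerRight ((singleFunctors (ModuleCat.{u} A)).shiftIso (-i) i 0 (by simp))
    (homologyFunctor (ModuleCat.{u} A) i) ≪≫ singleFunctorCompHomologyFunctorIso (ModuleCat.{u} A) i

/-- Let A be a Noetherian commutative ring, K an object of D(A) whose cohomology vanishes in large
degrees and whose cohomology modules are all finitely generated, m a maximal ideal of A and i an
integer such that m H^i(K) ≠ H^i(K). Then some finitely generated A-module E killed by a power of m
receives a morphism K → E[-i] in D(A) whose induced map H^i(K) → H^i(E[-i]) is nonzero. -/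
theorem result (A : Type u) [CommRing A]
    [IsNoetherianRing A] (K : Dual.D A) (hb : ∃ b : ℤ, ∀ j : ℤ, b < j → Subsingleton (Dual.HD A K j))
    (hfin : ∀ j : ℤ, Module.Finite A (Dual.HD A K j)) (m : Ideal A) [m.IsMaximal] (i : ℤ)
    (hi : m • (⊤ : Submodule A (Dual.HD A K i)) ≠ ⊤) :
    ∃ (E : Type u) (_ : AddCommGroup E) (_ : Module A E) (_ : Module.Finite A E) (n : ℕ)
      (_ : m ^ n • (⊤ : Submodule A E) = ⊥) (f : K ⟶ (shiftFunctor (Dual.D A) (-i)).obj (Dual.inD A E)),
      (DerivedCategory.homologyFunctor (ModuleCat.{u} A) i).map f ≠ 0 := by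
  have hK : IsPseudoCoherent' A K := by
    refine isPC'_of_forall_isPC K (fun m' => (isPC_iff_of_noetherian m' K).2 ⟨?_, fun j _ => hfin j⟩)
    obtain ⟨b, hb⟩ := hb
    exact ⟨b, fun j hj => by haveI := hb j hj; exact ModuleCat.isZero_of_subsingleton _⟩
  obtain ⟨M, _, _, hM, f, hf⟩ := Groth.Agent.S6988.result A K hK i
  -- the injection `j : H^i(K) → M`
  let j : (homologyFunctor (ModuleCat.{u} A) i).obj K ⟶ ModuleCat.of A M :=
    (homologyFunctor (ModuleCat.{u} A) i).map f ≫ (theta A i).hom.app (ModuleCat.of A M)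
  haveI : Mono j := @mono_comp _ _ _ _ _ _ hf _ (IsIso.mono_of_iso _)
  have hj : Function.Injective j.hom := (ModuleCat.mono_iff_injective j).1 inferInstance
  obtain ⟨k, hk⟩ := Ideal.exists_pow_inf_eq_pow_smul m (LinearMap.range j.hom)
  -- an element not in `m H^i(K)`
  obtain ⟨x, hx⟩ : ∃ x : (homologyFunctor (ModuleCat.{u} A) i).obj K,
      x ∉ m • (⊤ : Submodule A ((homologyFunctor (ModuleCat.{u} A) i).obj K)) := by
    by_contra hcon
    push Not at hcon
    exact hi (eq_top_iff.2 (fun x _ => hcon x))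
  have hjx : j.hom x ∉ m ^ (k + 1) • (⊤ : Submodule A M) := by
    intro hmem
    have h1 : j.hom x ∈ m ^ (k + 1) • (⊤ : Submodule A M) ⊓ LinearMap.range j.hom :=
      ⟨hmem, ⟨x, rfl⟩⟩
    rw [hk (k + 1) (by omega), show k + 1 - k = 1 by omega, pow_one] at h1
    have h2 : m • (m ^ k • (⊤ : Submodule A M) ⊓ LinearMap.range j.hom) ≤
        Submodule.map j.hom (m • (⊤ : Submodule A ((homologyFunctor (ModuleCat.{u} A) i).obj K))) := by
      rw [Submodule.map_smul'', Submodule.map_top]
      exact Submodule.smul_mono le_rfl inf_le_right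
    obtain ⟨x', hx', hxx'⟩ := h2 h1
    rw [hj hxx'] at hx'
    exact hx hx'
  -- the quotient
  let E := M ⧸ (m ^ (k + 1) • (⊤ : Submodule A M))
  let q : ModuleCat.of A M ⟶ ModuleCat.of A E :=
    ModuleCat.ofHom (Submodule.mkQ (m ^ (k + 1) • (⊤ : Submodule A M)))
  refine ⟨E, inferInstance, inferInstance, inferInstance, k + 1, ?_,
    f ≫ (shiftFunctor (Dual.D A) (-i)).map ((singleFunctor (ModuleCat.{u} A) 0).map q), ?_⟩
  · rw [eq_bot_iff]
    intro y hy
    refine Submodule.smul_induction_on hy (fun a ha y _ => ?_) (fun y z hy hz => ?_)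
    · obtain ⟨y, rfl⟩ := Submodule.Quotient.mk_surjective _ y
      rw [Submodule.mem_bot, ← Submodule.Quotient.mk_smul, Submodule.Quotient.mk_eq_zero]
      exact Submodule.smul_mem_smul ha trivial
    · exact Submodule.add_mem _ hy hz
  · intro h0
    have hnat := (theta A i).hom.naturality q
    have h1 : j ≫ q = 0 := by
      have h2 : (homologyFunctor (ModuleCat.{u} A) i).map
          (f ≫ (shiftFunctor (Dual.D A) (-i)).map ((singleFunctor (ModuleCat.{u} A) 0).map q)) ≫
          (theta A i).hom.app (ModuleCat.of A E) = 0 := by rw [h0, zero_comp]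
      rw [Functor.map_comp, Category.assoc] at h2
      have h3 : (homologyFunctor (ModuleCat.{u} A) i).map
          ((shiftFunctor (Dual.D A) (-i)).map ((singleFunctor (ModuleCat.{u} A) 0).map q)) ≫
          (theta A i).hom.app (ModuleCat.of A E) = (theta A i).hom.app (ModuleCat.of A M) ≫ q := hnat
      rw [h3] at h2
      rw [Category.assoc]
      exact h2
    have h4 : q.hom (j.hom x) = 0 := by
      have := congrArg (fun g => g.hom x) h1
      exact this
    exact hjx ((Submodule.Quotient.mk_eq_zero _).1 h4)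


end Groth.Agent.S6989
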