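import Groth.Statements.S6991
import Mathlib
import Groth.Agent.S6992

set_option autoImplicit false
universe u
open CAlg

namespace Groth.Agent.S6991


lemma fp_of_surjective_algebraMap {P A M : Type*} [CommRing P] [CommRing A] [Algebra P A]
    (hPA : Function.Surjective (algebraMap P A)) [AddCommGroup M] [Module P M] [Module A M]
    [IsScalarTower P A M] [Module.FinitePresentation P M] : Module.FinitePresentation A M := by
  classical
  obtain ⟨n, m, f, g, hf, hfg⟩ := Module.FinitePresentation.exists_fin' P M
  let v : Fin n → M := fun i => f (Pi.single i 1)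
  let f' : (Fin n → A) →ₗ[A] M := Fintype.linearCombination A v
  let π : (Fin n → P) →ₗ[P] (Fin n → A) := (Algebra.linearMap P A).compLeft (Fin n)
  have hπ : Function.Surjective π := fun y =>
    ⟨fun i => (hPA (y i)).choose, funext fun i => (hPA (y i)).choose_spec⟩
  have hcomp : ∀ x, f' (π x) = f x := by
    intro x
    have hx : x = ∑ i, x i • (Pi.single i 1 : Fin n → P) := by
      ext j; simp [Finset.sum_apply, Pi.single_apply]
    conv_rhs => rw [hx]
    rw [map_sum]
    simp only [f', Fintype.linearCombination_apply, map_smul, v]
    refine Finset.sum_congr rfl fun i _ => ?_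
    show (algebraMap P A (x i)) • _ = _
    rw [algebraMap_smul]
  have hf' : Function.Surjective f' := by
    intro y
    obtain ⟨x, rfl⟩ := hf y
    exact ⟨π x, hcomp x⟩
  refine Module.finitePresentation_of_free_of_surjective f' hf' ?_
  have : LinearMap.ker f' =
      Submodule.span A (Set.range fun j : Fin m => π (g (Pi.single j 1))) := by
    apply le_antisymm
    · intro y hy
      obtain ⟨x, rfl⟩ := hπ y
      rw [LinearMap.mem_ker, hcomp] at hy
      obtain ⟨z, rfl⟩ := (hfg x).mp hy
      have hz : z = ∑ j, z j • (Pi.single j 1 : Fin m → P) := by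
        ext j; simp [Finset.sum_apply, Pi.single_apply]
      rw [hz, map_sum, map_sum]
      refine Submodule.sum_mem _ fun j _ => ?_
      rw [map_smul, map_smul, ← algebraMap_smul A (z j)]
      exact Submodule.smul_mem _ _ (Submodule.subset_span ⟨j, rfl⟩)
    · rw [Submodule.span_le]
      rintro _ ⟨j, rfl⟩
      show f' (π (g (Pi.single j 1))) = 0
      rw [hcomp]
      exact hfg.apply_apply_eq_zero _
  rw [this]
  exact Submodule.fg_span (Set.finite_range _)

/-- Let R → A be a finite type homomorphism of commutative rings, M an A-module, and α : R[x_1, ...,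
x_n] → A, β : R[y_1, ..., y_k] → A surjective R-algebra homomorphisms. Then M is finitely presented
as an R[x_1, ..., x_n]-module through α if and only if M is finitely presented as an R[y_1, ...,
y_k]-module through β. If this holds, M is a finitely presented A-module. -/
theorem result {R A : Type u} [CommRing R] [CommRing A] [Algebra R A]
    [Algebra.FiniteType R A] (M : Type u) [AddCommGroup M] [Module A M] {n k : ℕ}
    (α : MvPolynomial (Fin n) R →ₐ[R] A) (hα : Function.Surjective α)
    (β : MvPolynomial (Fin k) R →ₐ[R] A) (hβ : Function.Surjective β) :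
    (@Module.FinitePresentation (MvPolynomial (Fin n) R) M _ _ (Module.compHom M α.toRingHom) ↔
      @Module.FinitePresentation (MvPolynomial (Fin k) R) M _ _ (Module.compHom M β.toRingHom)) ∧
      (@Module.FinitePresentation (MvPolynomial (Fin n) R) M _ _ (Module.compHom M α.toRingHom) →
        Module.FinitePresentation A M) := by
  refine ⟨Groth.Agent.S6992.result (R := R) (A := A) (B := A) M α hα β hβ, ?_⟩
  intro h
  letI : Algebra (MvPolynomial (Fin n) R) A := α.toRingHom.toAlgebra
  letI : Module (MvPolynomial (Fin n) R) M := Module.compHom M α.toRingHom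
  haveI : IsScalarTower (MvPolynomial (Fin n) R) A M :=
    IsScalarTower.of_algebraMap_smul fun r m => rfl
  exact fp_of_surjective_algebraMap (P := MvPolynomial (Fin n) R) (A := A) hα


end Groth.Agent.S6991
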