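import Groth.Statements.S6994
import Groth.Agent.H4.GapHom
import Groth.Agent.H4.RegGlDim

set_option autoImplicit false
universe u
open CategoryTheory CategoryTheory.Limits
attribute [local instance] HasDerivedCategory.standard
open DRing

namespace Groth.Agent.S6994

open CategoryTheory CategoryTheory.Limits CategoryTheory.Pretriangulated DerivedCategory DRing Groth.Agent.H4.DRing1 Groth.Agent.H4.GapHom Groth.Agent.H4.RegGlDim


theorem hom_eq_zero_of_gap {R : Type u} [CommRing R] (d : ℕ)
    (hgl : ∀ N : ModuleCat.{u} R, HasProjectiveDimensionLT N (d + 1)) (K L : Dual.D R) (k b : ℤ)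
    (hKb : ∀ i : ℤ, b < i → IsZero ((homologyFunctor (ModuleCat.{u} R) i).obj K))
    (hK : ∀ i : ℤ, i ≤ k → IsZero ((homologyFunctor (ModuleCat.{u} R) i).obj K))
    (hL : L.IsLE (k - d)) (f : K ⟶ L) : f = 0 := by
  have key := devissage (R := R) (fun K' => ∀ f : K' ⟶ L, f = 0)
    (fun K' hK' f => hK'.eq_of_src _ _)
    (fun T hT h1 h3 f => by
      obtain ⟨g, hg⟩ := Triangle.yoneda_exact₂ _ hT f (h1 _)
      rw [hg, h3 g, comp_zero])
    (fun K' K'' e h f => by
      have := h (e.hom ≫ f)
      exact (cancel_epi e.hom).1 (this.trans comp_zero.symm))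
    K (k + 1) b (fun i hi => hK i (by omega)) hKb
    (fun i f => by
      by_cases hi : i ≤ k
      · exact ((singleFunctor (ModuleCat.{u} R) i).map_isZero (hK i hi)).eq_of_src _ _
      · exact hom_single_eq_zero d _ (hgl _) i L
          (TStructure.t.isLE_of_le L (k - d) (i - d - 1) (by omega)) f)
  exact key f

/-- Let R be a Noetherian regular commutative ring (its localization at every prime is a regular local
ring) of finite Krull dimension d. Let K and L be objects of D(R) whose cohomology vanishes in large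
degrees, and suppose there is an integer k with H^i(K) = 0 for all i ≤ k and H^i(L) = 0 for all i ≥
k - d + 1. Then every morphism K → L in D(R) is zero. -/
theorem result (R : Type u) [CommRing R] [IsNoetherianRing R]
    (hreg : ∀ p : PrimeSpectrum R, IsRegularLocalRing (Localization.AtPrime p.asIdeal)) (d : ℕ)
    (hd : ringKrullDim R = d) (K L : Dual.D R) (hKb : ∃ b : ℤ, ∀ i : ℤ, b < i → Subsingleton (Dual.HD R K i))
    (hLb : ∃ b : ℤ, ∀ i : ℤ, b < i → Subsingleton (Dual.HD R L i)) (k : ℤ)
    (hK : ∀ i : ℤ, i ≤ k → Subsingleton (Dual.HD R K i)) (hL : ∀ i : ℤ, k - d + 1 ≤ i → Subsingleton (Dual.HD R L i)) :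
    Subsingleton (K ⟶ L) := by
  haveI : IsRegularRing R := isRegularRing_iff.mpr (fun p hp => hreg ⟨p, hp⟩)
  obtain ⟨b, hb⟩ := hKb
  have hL' : L.IsLE (k - d) := by
    rw [DerivedCategory.isLE_iff]
    intro i hi
    haveI := hL i (by omega)
    exact ModuleCat.isZero_of_subsingleton _
  refine ⟨fun f g => ?_⟩
  have h0 : ∀ f : K ⟶ L, f = 0 := fun f =>
    hom_eq_zero_of_gap d (hasProjectiveDimensionLT_of_isRegularRing d hd.le) K L k b
      (fun i hi => by haveI := hb i hi; exact ModuleCat.isZero_of_subsingleton _)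
      (fun i hi => by haveI := hK i hi; exact ModuleCat.isZero_of_subsingleton _) hL' f
  rw [h0 f, h0 g]


end Groth.Agent.S6994
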