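import Groth.Statements.S6995
import Groth.Agent.H4.GapHom
import Groth.Agent.H4.RegGlDim
import Groth.Agent.S6994
import Groth.Agent.H4.PC6

set_option autoImplicit false
universe u
open CategoryTheory CategoryTheory.Limits
attribute [local instance] HasDerivedCategory.standard
open DRing

namespace Groth.Agent.S6995

open CategoryTheory CategoryTheory.Limits CategoryTheory.Pretriangulated DerivedCategory DRing Groth.Agent.H4.DRing1 Groth.Agent.H4.GapHom Groth.Agent.H4.RegGlDim


variable {R : Type u} [CommRing R]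

/-- the comparison map between truncations is an isomorphism across a cohomology gap -/
lemma isIso_natTransTruncGEOfLE (K : Dual.D R) (n₁ n₂ : ℤ) (h : n₁ ≤ n₂)
    (hgap : ∀ i : ℤ, n₁ ≤ i → i < n₂ → IsZero ((homologyFunctor (ModuleCat.{u} R) i).obj K)) :
    IsIso ((TStructure.t.natTransTruncGEOfLE n₁ n₂ h).app K) := by
  rw [DerivedCategory.isIso_iff]
  intro i
  let T₁ := (TStructure.t.triangleLTGE n₁).obj K
  have hT₁ : T₁ ∈ distinguishedTriangles := TStructure.t.triangleLTGE_distinguished n₁ K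
  let T₂ := (TStructure.t.triangleLTGE n₂).obj K
  have hT₂ : T₂ ∈ distinguishedTriangles := TStructure.t.triangleLTGE_distinguished n₂ K
  haveI : T₁.obj₁.IsLE (n₁ - 1) := inferInstanceAs (TStructure.t.IsLE T₁.obj₁ (n₁ - 1))
  haveI : T₂.obj₁.IsLE (n₂ - 1) := inferInstanceAs (TStructure.t.IsLE T₂.obj₁ (n₂ - 1))
  haveI : T₁.obj₃.IsGE n₁ := inferInstanceAs (TStructure.t.IsGE T₁.obj₃ n₁)
  haveI : T₂.obj₃.IsGE n₂ := inferInstanceAs (TStructure.t.IsGE T₂.obj₃ n₂)
  by_cases hi : n₂ ≤ i
  · have h1 : IsIso ((homologyFunctor (ModuleCat.{u} R) i).map ((TStructure.t.truncGEπ n₁).app K)) :=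
      isIso_homology_mor₂ T₁ hT₁ n₁ i (by omega)
    have h2 : IsIso ((homologyFunctor (ModuleCat.{u} R) i).map ((TStructure.t.truncGEπ n₂).app K)) :=
      isIso_homology_mor₂ T₂ hT₂ n₂ i hi
    have hcomp : (homologyFunctor (ModuleCat.{u} R) i).map ((TStructure.t.truncGEπ n₁).app K) ≫
        (homologyFunctor (ModuleCat.{u} R) i).map ((TStructure.t.natTransTruncGEOfLE n₁ n₂ h).app K) =
        (homologyFunctor (ModuleCat.{u} R) i).map ((TStructure.t.truncGEπ n₂).app K) := by
      rw [← Functor.map_comp, TStructure.t.π_natTransTruncGEOfLE_app n₁ n₂ h K]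
    exact IsIso.of_isIso_fac_left hcomp
  · have hz2 : IsZero ((homologyFunctor (ModuleCat.{u} R) i).obj T₂.obj₃) :=
      isZero_of_isGE T₂.obj₃ n₂ i (by omega)
    have hz1 : IsZero ((homologyFunctor (ModuleCat.{u} R) i).obj T₁.obj₃) := by
      by_cases hi1 : i < n₁
      · exact isZero_of_isGE T₁.obj₃ n₁ i hi1
      · have h1 : IsIso ((homologyFunctor (ModuleCat.{u} R) i).map T₁.mor₂) :=
          isIso_homology_mor₂ T₁ hT₁ n₁ i (by omega)
        exact (hgap i (by omega) (by omega)).of_iso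
          (asIso ((homologyFunctor (ModuleCat.{u} R) i).map T₁.mor₂)).symm
    exact ⟨0, hz1.eq_of_src _ _, hz2.eq_of_src _ _⟩


theorem split_of_gap (d : ℕ) (hgl : ∀ N : ModuleCat.{u} R, HasProjectiveDimensionLT N (d + 1))
    (K : Dual.D R) (b : ℤ)
    (hKb : ∀ i : ℤ, b < i → IsZero ((homologyFunctor (ModuleCat.{u} R) i).obj K))
    (k n₁ n₂ : ℤ) (hn₁ : n₁ = k - d + 2) (hn₂ : n₂ = k + 1) (h12 : n₁ ≤ n₂)
    (hgap' : ∀ i : ℤ, n₁ ≤ i → i < n₂ → IsZero ((homologyFunctor (ModuleCat.{u} R) i).obj K))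
    [HasBinaryBiproduct ((TStructure.t.truncLT n₁).obj K) ((TStructure.t.truncGE n₂).obj K)] :
    ∃ e : K ≅ (TStructure.t.truncLT n₁).obj K ⊞ (TStructure.t.truncGE n₂).obj K,
      (TStructure.t.truncLTι n₁).app K ≫ e.hom = biprod.inl ∧
        e.hom ≫ biprod.snd = (TStructure.t.truncGEπ n₂).app K := by
  have hiso := isIso_natTransTruncGEOfLE K n₁ n₂ h12 hgap'
  let ν := (TStructure.t.natTransTruncGEOfLE n₁ n₂ h12).app K
  haveI : IsIso ν := hiso
  let A := (TStructure.t.truncLT n₁).obj K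
  let B := (TStructure.t.truncGE n₂).obj K
  let δ' : B ⟶ A⟦(1 : ℤ)⟧ := inv ν ≫ (TStructure.t.truncGEδLT n₁).app K
  let T : Triangle (Dual.D R) :=
    Triangle.mk ((TStructure.t.truncLTι n₁).app K) ((TStructure.t.truncGEπ n₂).app K) δ'
  have hT : T ∈ distinguishedTriangles := by
    refine isomorphic_distinguished _ (TStructure.t.triangleLTGE_distinguished n₁ K) _ ?_
    let eν : ((TStructure.t.triangleLTGE n₁).obj K).obj₃ ≅ T.obj₃ := @asIso _ _ _ _ ν hiso
    refine (Triangle.isoMk ((TStructure.t.triangleLTGE n₁).obj K) T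
      (Iso.refl _) (Iso.refl _) eν ?_ ?_ ?_).symm
    · exact (Category.comp_id _).trans (Category.id_comp _).symm
    · refine (Category.id_comp _).trans ?_ |>.symm
      exact (TStructure.t.π_natTransTruncGEOfLE_app n₁ n₂ h12 K).symm
    · change (TStructure.t.truncGEδLT n₁).app K ≫ (shiftFunctor (Dual.D R) (1 : ℤ)).map (𝟙 _) =
        ν ≫ inv ν ≫ (TStructure.t.truncGEδLT n₁).app K
      rw [IsIso.hom_inv_id_assoc, CategoryTheory.Functor.map_id]
      exact Category.comp_id _
  haveI : B.IsGE n₂ := inferInstanceAs (TStructure.t.IsGE ((TStructure.t.truncGE n₂).obj K) n₂)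
  have hBb : ∀ i : ℤ, b < i → IsZero ((homologyFunctor (ModuleCat.{u} R) i).obj B) := by
    intro i hi
    by_cases hi2 : i < n₂
    · exact isZero_of_isGE B n₂ i hi2
    · let T₂ := (TStructure.t.triangleLTGE n₂).obj K
      have hT₂ : T₂ ∈ distinguishedTriangles := TStructure.t.triangleLTGE_distinguished n₂ K
      haveI : T₂.obj₁.IsLE (n₂ - 1) := inferInstanceAs (TStructure.t.IsLE T₂.obj₁ (n₂ - 1))
      have h1 : IsIso ((homologyFunctor (ModuleCat.{u} R) i).map T₂.mor₂) :=
        isIso_homology_mor₂ T₂ hT₂ n₂ i (by omega)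
      exact (hKb i hi).of_iso (asIso ((homologyFunctor (ModuleCat.{u} R) i).map T₂.mor₂)).symm
  have hB : ∀ i : ℤ, i ≤ k → IsZero ((homologyFunctor (ModuleCat.{u} R) i).obj B) :=
    fun i hi => isZero_of_isGE B n₂ i (by omega)
  haveI : A.IsLE (n₁ - 1) := inferInstanceAs (TStructure.t.IsLE ((TStructure.t.truncLT n₁).obj K) (n₁ - 1))
  have hA : (A⟦(1 : ℤ)⟧).IsLE (k - d) :=
    TStructure.t.isLE_shift A (n₁ - 1) 1 (k - d) (by omega)
  have hδ : δ' = 0 := Groth.Agent.S6994.hom_eq_zero_of_gap d hgl B (A⟦(1 : ℤ)⟧) k b hBb hB hA δ'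
  obtain ⟨e, he1, he2⟩ := exists_iso_binaryBiproduct_of_distTriang T hT hδ
  exact ⟨e, he1, he2.symm⟩

/-- Let R be a Noetherian regular commutative ring of finite Krull dimension d ≥ 1, K a perfect object
of D(R) and k an integer such that H^i(K) = 0 for every i with k - d + 2 ≤ i ≤ k. Then K splits in
D(R) as the direct sum of its canonical truncations: there is an isomorphism K ≅ τ_(≤ k-d+1) K ⊕
τ_(≥ k+1) K under which the truncation map τ_(≤ k-d+1) K → K becomes the first inclusion and K →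
τ_(≥ k+1) K the second projection. -/
theorem result (R : Type u) [CommRing R] [IsNoetherianRing R]
    (hreg : ∀ p : PrimeSpectrum R, IsRegularLocalRing (Localization.AtPrime p.asIdeal)) (d : ℕ) (hd1 : 1 ≤ d)
    (hd : ringKrullDim R = d) (K : Dual.D R) (hK : DRing.IsPerfect R K) (k : ℤ)
    (hgap : ∀ i : ℤ, k - d + 2 ≤ i → i ≤ k → Subsingleton (Dual.HD R K i))
    [HasBinaryBiproduct
      (((DerivedCategory.TStructure.t : Triangulated.TStructure (Dual.D R)).truncLT (k - d + 2)).obj K)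
      (((DerivedCategory.TStructure.t : Triangulated.TStructure (Dual.D R)).truncGE (k + 1)).obj K)] :
    ∃ e : K ≅
      ((DerivedCategory.TStructure.t : Triangulated.TStructure (Dual.D R)).truncLT (k - d + 2)).obj K ⊞
        ((DerivedCategory.TStructure.t : Triangulated.TStructure (Dual.D R)).truncGE (k + 1)).obj K,
      ((DerivedCategory.TStructure.t : Triangulated.TStructure (Dual.D R)).truncLTι (k - d + 2)).app K ≫ e.hom =
          biprod.inl ∧
        e.hom ≫ biprod.snd =
          ((DerivedCategory.TStructure.t : Triangulated.TStructure (Dual.D R)).truncGEπ (k + 1)).app K := by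
  haveI : IsRegularRing R := isRegularRing_iff.mpr (fun p hp => hreg ⟨p, hp⟩)
  have hgl := hasProjectiveDimensionLT_of_isRegularRing (R := R) d hd.le
  obtain ⟨E, a, b, hz, -, ⟨eK⟩⟩ := hK
  have hKb : ∀ i : ℤ, b < i → IsZero ((homologyFunctor (ModuleCat.{u} R) i).obj K) := fun i hi =>
    (Groth.Agent.H4.PC.isZero_homology_toD_of_isZero E i (hz i (Or.inr hi))).of_iso
      ((homologyFunctor (ModuleCat.{u} R) i).mapIso eK.symm)
  have h12 : k - (d : ℤ) + 2 ≤ k + 1 := by
    have : (1 : ℤ) ≤ d := by exact_mod_cast hd1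
    omega
  exact split_of_gap d hgl K b hKb k (k - d + 2) (k + 1) rfl rfl h12 (fun i h1 h2 => by
    haveI := hgap i h1 (by omega)
    exact ModuleCat.isZero_of_subsingleton _)


end Groth.Agent.S6995
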