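import Groth.Statements.S7001
import Groth.Agent.H4.BC1
import Groth.Agent.S6948
import Groth.Agent.H4.TorAmp3

set_option autoImplicit false
universe u
open CategoryTheory CategoryTheory.Limits
attribute [local instance] HasDerivedCategory.standard
open DRing

namespace Groth.Agent.S7001

/-- Let A → B be a flat homomorphism of commutative rings, d a natural number and M an A-module of tor
dimension at most d, in the sense that M[0] is isomorphic in D(A) to a complex of flat A-modules
vanishing outside [-d, 0]. Then (B ⊗_A M)[0] is isomorphic in D(B) to a complex of flat B-modules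
vanishing outside [-d, 0]. -/
theorem result {A B : Type u} [CommRing A] [CommRing B] [Algebra A B]
    [Module.Flat A B] (d : ℕ) (M : Type u) [AddCommGroup M] [Module A M]
    (hM : DRing.HasTorAmplitudeIn A (-(d : ℤ)) 0 (Dual.inD A M)) :
    DRing.HasTorAmplitudeIn B (-(d : ℤ)) 0 (Dual.inD B (TensorProduct A B M)) := by
  haveI := Groth.Agent.H4.KProj.hasLBaseChange (algebraMap A B)
  have h := Groth.Agent.S6948.result (algebraMap A B) (Dual.inD A M) _ _ hM
  obtain ⟨e⟩ := Groth.Agent.H4.BC.nonempty_iso_inD (A := A) (B := B) M
  exact Groth.Agent.H4.TorAmp.hasTorAmp_of_iso e h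


end Groth.Agent.S7001
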