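import Groth.Statements.S7003
import Mathlib
import Groth.Agent.H4.ProjAmp5

set_option autoImplicit false
universe u
open CategoryTheory CategoryTheory.Limits
attribute [local instance] HasDerivedCategory.standard
open DRing

namespace Groth.Agent.S7003

open DerivedCategory Groth.Agent.H4.TwoTerm Groth.Agent.H4.ProjAmp



/-- Let R be a commutative ring, a an integer and K an object of D(R) whose cohomology vanishes in large
degrees. Assume that for every injective R-linear map M → M' the induced map Hom(K, M[-a]) → Hom(K,
M'[-a]) in D(R) is injective. Then K ≅ τ_(≤ a) K ⊕ τ_(≥ a+1) K by an isomorphism carrying τ_(≤ a) K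
→ K to the first inclusion and K → τ_(≥ a+1) K to the second projection, and τ_(≥ a+1) K is
isomorphic in D(R) to a complex of projective modules vanishing outside [a+1, b] for some integer b.
(The published statement also asserts that the decomposition is unique; that part is not restated.) -/
theorem result (R : Type u) [CommRing R] (a : ℤ) (K : Dual.D R)
    (hKb : ∃ b : ℤ, ∀ i : ℤ, b < i → Subsingleton (Dual.HD R K i))
    (h : ∀ (M M' : Type u) [AddCommGroup M] [Module R M] [AddCommGroup M'] [Module R M'] (g : M →ₗ[R] M'),
      Function.Injective g → Function.Injective (fun x : K ⟶ (shiftFunctor (Dual.D R) (-a)).obj (Dual.inD R M) =>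
        x ≫ (shiftFunctor (Dual.D R) (-a)).map
          ((DerivedCategory.singleFunctor (ModuleCat.{u} R) 0).map (ModuleCat.ofHom g))))
    [HasBinaryBiproduct (((DerivedCategory.TStructure.t : Triangulated.TStructure (Dual.D R)).truncLT (a + 1)).obj K) (((DerivedCategory.TStructure.t : Triangulated.TStructure (Dual.D R)).truncGE (a + 1)).obj K)] :
    (∃ e : K ≅ ((DerivedCategory.TStructure.t : Triangulated.TStructure (Dual.D R)).truncLT (a + 1)).obj K ⊞ ((DerivedCategory.TStructure.t : Triangulated.TStructure (Dual.D R)).truncGE (a + 1)).obj K,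
      ((DerivedCategory.TStructure.t : Triangulated.TStructure (Dual.D R)).truncLTι (a + 1)).app K ≫ e.hom = biprod.inl ∧
        e.hom ≫ biprod.snd = ((DerivedCategory.TStructure.t : Triangulated.TStructure (Dual.D R)).truncGEπ (a + 1)).app K) ∧
      ∃ (P : DRing.Cx R) (b : ℤ), DRing.VanishesOutside P (a + 1) b ∧ (∀ i : ℤ, Module.Projective R (P.X i)) ∧
        Nonempty (DRing.toD P ≅ ((DerivedCategory.TStructure.t : Triangulated.TStructure (Dual.D R)).truncGE (a + 1)).obj K) := by
  obtain ⟨b₀, hb₀⟩ := hKb
  haveI : K.IsLE b₀ := isLE_of_subsingleton K b₀ hb₀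
  obtain ⟨P, hP, hproj, ⟨ε⟩⟩ := exists_rep_truncGE a b₀ K (by
    intro M _ _
    refine ⟨fun φ ψ => ?_⟩
    have H : ∀ ξ : ((tR R).truncGE (a + 1)).obj K ⟶ (Dual.inD R M)⟦(-a : ℤ)⟧, ξ = 0 := by
      intro ξ
      apply eq_zero_of_truncGEπ_comp a K _ ξ
      let I : ModuleCat.{u} R := Injective.under (ModuleCat.of R M)
      let g : M →ₗ[R] I := (Injective.ι (ModuleCat.of R M)).hom
      have hg : Function.Injective g := by
        have : Mono (Injective.ι (ModuleCat.of R M)) := inferInstance
        exact (ModuleCat.mono_iff_injective _).1 this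
      apply h M I g hg
      dsimp only
      rw [Limits.zero_comp, Category.assoc]
      haveI : Injective (ModuleCat.of R I) := inferInstanceAs (Injective I)
      have hz : IsZero ((homologyFunctor (ModuleCat.{u} R) a).obj (((tR R).truncGE (a + 1)).obj K)) :=
        isZero_of_isGE _ (a + 1) a (by omega)
      rw [hom_eq_zero_to_injective _ (ModuleCat.of R I) a hz (ξ ≫ _), Limits.comp_zero]
    exact (H φ).trans (H ψ).symm)
  exact ⟨split_LT_GE a K P b₀ hP hproj ε, P, b₀, hP, hproj, ⟨ε⟩⟩


end Groth.Agent.S7003
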