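import Groth.Statements.S7006
import Mathlib
import Groth.Agent.H4.RelFP2

set_option autoImplicit false
universe u
open CAlg

namespace Groth.Agent.S7006

open Groth.Agent.H4.RelFP

/-- Let R be a commutative ring, f an element of R, A an R_f-algebra with a surjective R_f-algebra
homomorphism α : R_f[x_1, ..., x_n] → A, g an element of A, and M an A-module which is finitely
presented as an R_f[x_1, ..., x_n]-module through α. Then for every surjective R-algebra
homomorphism γ : R[z_1, ..., z_k] → A_g, the localized module M_g is finitely presented as an R[z_1,
..., z_k]-module through γ. -/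
theorem result {R A : Type u} [CommRing R] [CommRing A] (f : R)
    [Algebra R A] [Algebra (Localization.Away f) A] [IsScalarTower R (Localization.Away f) A] {n k : ℕ}
    (α : MvPolynomial (Fin n) (Localization.Away f) →ₐ[Localization.Away f] A) (hα : Function.Surjective α)
    (g : A) (M : Type u) [AddCommGroup M] [Module A M]
    (hM : @Module.FinitePresentation (MvPolynomial (Fin n) (Localization.Away f)) (M) _ _ (Module.compHom (M) α.toRingHom))
    (γ : MvPolynomial (Fin k) R →ₐ[R] Localization.Away g) (hγ : Function.Surjective γ) :
    @Module.FinitePresentation (MvPolynomial (Fin k) R) (LocalizedModule (Submonoid.powers g) M) _ _ (Module.compHom (LocalizedModule (Submonoid.powers g) M) γ.toRingHom) := by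
  obtain ⟨G, rfl⟩ := hα g
  let P := MvPolynomial (Fin n) (Localization.Away f)
  let α' : P →ₐ[R] A := α.restrictScalars R
  have h1 := fp_localizedModule_away α' M G hM
  haveI : Algebra.FinitePresentation R (Localization.Away f) := IsLocalization.Away.finitePresentation f
  haveI : Algebra.FinitePresentation R P := Algebra.FinitePresentation.trans R (Localization.Away f) P
  haveI : Algebra.FinitePresentation P (Localization.Away G) := IsLocalization.Away.finitePresentation G
  haveI : Algebra.FinitePresentation R (Localization.Away G) := Algebra.FinitePresentation.trans R P _
  have hsurj : Function.Surjective (IsLocalization.Away.mapₐ (Localization.Away G) (Localization.Away (α' G)) α' G) :=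
    IsLocalization.Away.mapₐ_surjective_of_surjective G hα
  let γ' : MvPolynomial (Fin k) R →ₐ[R] Localization.Away (α' G) := γ
  exact (fp_indep (LocalizedModule (Submonoid.powers (α' G)) M) _ hsurj γ' hγ).1 h1


end Groth.Agent.S7006
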