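import Groth.Statements.S7007
import Mathlib
import Groth.Agent.H4.RelFP
import Groth.Agent.S6992

set_option autoImplicit false
universe u
open CAlg

namespace Groth.Agent.S7007

open Groth.Agent.H4.RelFP

/-- the key equivalence at one `F`. -/
theorem star {R A : Type u} [CommRing R] [CommRing A] [Algebra R A]
    {n : ℕ} (α : MvPolynomial (Fin n) R →ₐ[R] A) (hα : Function.Surjective α) (M : Type u) [AddCommGroup M]
    [Module A M] (F : MvPolynomial (Fin n) R) {k : ℕ}
    (γ : MvPolynomial (Fin k) R →ₐ[R] Localization.Away (α F)) (hγ : Function.Surjective γ) :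
    @Module.FinitePresentation (Localization.Away F) (LocalizedModule (Submonoid.powers (α F)) M) _ _
        (Module.compHom _ (IsLocalization.Away.mapₐ (Localization.Away F) (Localization.Away (α F)) α F).toRingHom) ↔
      @Module.FinitePresentation (MvPolynomial (Fin k) R) (LocalizedModule (Submonoid.powers (α F)) M) _ _
        (Module.compHom (LocalizedModule (Submonoid.powers (α F)) M) γ.toRingHom) := by
  let P := MvPolynomial (Fin n) R
  let PF := Localization.Away F
  let AF := Localization.Away (α F)
  let N := LocalizedModule (Submonoid.powers (α F)) M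
  let αF : PF →ₐ[R] AF := IsLocalization.Away.mapₐ PF AF α F
  have hαF : Function.Surjective αF := IsLocalization.Away.mapₐ_surjective_of_surjective F hα
  haveI : Algebra.FinitePresentation P PF := IsLocalization.Away.finitePresentation F
  haveI : Algebra.FinitePresentation R PF := Algebra.FinitePresentation.trans R P PF
  obtain ⟨m, τ, hτ, hker⟩ := (inferInstance : Algebra.FinitePresentation R PF).out
  have h1 := fp_compHom_iff (M := N) τ.toRingHom αF.toRingHom (RingHom.Finite.of_surjective _ hτ)
    (RingHom.FinitePresentation.of_surjective _ hτ hker)
  rw [← h1]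
  haveI : Algebra.FiniteType R AF := Algebra.FiniteType.of_surjective γ hγ
  exact Groth.Agent.S6992.result (R := R) (A := AF) (B := AF) N (αF.comp τ) (hαF.comp hτ) γ hγ


/-- localization data: `N = M_f` as a module over `P_F`, with the localization map. -/
theorem locData {R A : Type u} [CommRing R] [CommRing A] [Algebra R A]
    {n : ℕ} (α : MvPolynomial (Fin n) R →ₐ[R] A) (M : Type u) [AddCommGroup M]
    [Module A M] (F : MvPolynomial (Fin n) R) :
    letI : Module (MvPolynomial (Fin n) R) M := Module.compHom M α.toRingHom
    letI : Module (Localization.Away F) (LocalizedModule (Submonoid.powers (α F)) M) :=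
      Module.compHom _ (IsLocalization.Away.mapₐ (Localization.Away F) (Localization.Away (α F)) α F).toRingHom
    ∃ (_ : Module (MvPolynomial (Fin n) R) (LocalizedModule (Submonoid.powers (α F)) M))
      (_ : IsScalarTower (MvPolynomial (Fin n) R) (Localization.Away F) (LocalizedModule (Submonoid.powers (α F)) M))
      (g : M →ₗ[MvPolynomial (Fin n) R] (LocalizedModule (Submonoid.powers (α F)) M)),
      IsLocalizedModule (Submonoid.powers F) g := by
  let P := MvPolynomial (Fin n) R
  let PF := Localization.Away F
  let AF := Localization.Away (α F)
  let N := LocalizedModule (Submonoid.powers (α F)) M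
  letI : Algebra P A := α.toRingHom.toAlgebra
  letI : Module P M := Module.compHom M α.toRingHom
  letI : Module PF N := Module.compHom _ (IsLocalization.Away.mapₐ PF AF α F).toRingHom
  haveI : IsScalarTower P A M := ⟨fun p a m => by
    change (α p * a) • m = α p • (a • m)
    rw [mul_smul]⟩
  haveI : IsScalarTower P A N := inferInstance
  have hPN : ∀ (p : P) (m : N), p • m = α p • m := fun p m => by
    rw [← algebraMap_smul A p m]; rfl
  have hst : IsScalarTower P PF N := ⟨fun p x m => by
    rw [hPN]
    change (IsLocalization.Away.mapₐ PF AF α F (p • x)) • m = α p • ((IsLocalization.Away.mapₐ PF AF α F x) • m)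
    rw [Algebra.smul_def, map_mul, mul_smul, ← algebraMap_smul AF (α p)]
    congr 1
    rw [IsLocalization.Away.mapₐ_apply, IsLocalization.Away.map, IsLocalization.map_eq]
    simp⟩
  refine ⟨inferInstance, hst, (LocalizedModule.mkLinearMap (Submonoid.powers (α F)) M).restrictScalars P, ?_⟩
  have : IsLocalizedModule (Submonoid.powers (algebraMap P A F)) (LocalizedModule.mkLinearMap (Submonoid.powers (α F)) M) :=
    inferInstanceAs (IsLocalizedModule (Submonoid.powers (α F)) (LocalizedModule.mkLinearMap (Submonoid.powers (α F)) M))
  exact IsLocalizedModule.restrictScalars_powers F _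

/-- Let R → A be a finite type homomorphism of commutative rings with a surjective R-algebra
homomorphism α : R[x_1, ..., x_n] → A, M an A-module, f_1, ..., f_r elements of A generating the
unit ideal, and for each i a surjective R-algebra homomorphism γ_i : R[z_1, ..., z_(k_i)] → A_(f_i).
Then M is finitely presented as an R[x_1, ..., x_n]-module through α if and only if, for every i,
the localization M_(f_i) is finitely presented as an R[z_1, ..., z_(k_i)]-module through γ_i. -/
theorem result {R A : Type u} [CommRing R] [CommRing A] [Algebra R A]
    {n : ℕ} (α : MvPolynomial (Fin n) R →ₐ[R] A) (hα : Function.Surjective α) (M : Type u) [AddCommGroup M]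
    [Module A M] {r : ℕ} (f : Fin r → A) (hf : Ideal.span (Set.range f) = ⊤) (k : Fin r → ℕ)
    (γ : ∀ i, MvPolynomial (Fin (k i)) R →ₐ[R] Localization.Away (f i)) (hγ : ∀ i, Function.Surjective (γ i)) :
    @Module.FinitePresentation (MvPolynomial (Fin n) R) (M) _ _ (Module.compHom (M) α.toRingHom) ↔
      ∀ i, @Module.FinitePresentation (MvPolynomial (Fin (k i)) R) (LocalizedModule (Submonoid.powers (f i)) M) _ _ (Module.compHom (LocalizedModule (Submonoid.powers (f i)) M) (γ i).toRingHom) := by
  classical
  choose F hF using fun i => hα (f i)
  obtain rfl : f = fun i => α (F i) := funext fun i => (hF i).symm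
  beta_reduce at γ hγ ⊢
  let P := MvPolynomial (Fin n) R
  letI : Module P M := Module.compHom M α.toRingHom
  constructor
  · intro hM i
    rw [← star α hα M (F i) (γ i) (hγ i)]
    obtain ⟨_, _, g, hg⟩ := locData α M (F i)
    letI : Module (Localization.Away (F i)) (LocalizedModule (Submonoid.powers (α (F i))) M) :=
      Module.compHom _ (IsLocalization.Away.mapₐ (Localization.Away (F i)) (Localization.Away (α (F i))) α (F i)).toRingHom
    exact FinitePresentation.of_isBaseChange g
      ((isLocalizedModule_iff_isBaseChange (Submonoid.powers (F i)) (Localization.Away (F i)) g).mp hg)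
  · intro h
    have h' := fun i => (star α hα M (F i) (γ i) (hγ i)).2 (h i)
    -- the extra element
    have hsup : Ideal.span (Set.range F) ⊔ RingHom.ker α.toRingHom = ⊤ := by
      have h1 : Ideal.map α.toRingHom (Ideal.span (Set.range F)) = ⊤ := by
        rw [Ideal.map_span, ← Set.range_comp]
        exact hf
      have h2 := Ideal.comap_map_of_surjective α.toRingHom hα (Ideal.span (Set.range F))
      rw [h1, Ideal.comap_top] at h2
      rw [← RingHom.ker_eq_comap_bot] at h2
      exact h2.symm
    obtain ⟨a, ha, κ, hκ, haκ⟩ := Submodule.mem_sup.1 (hsup ▸ Submodule.mem_top : (1 : P) ∈ _)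
    let s : Set P := Set.range F ∪ {κ}
    have hs : Ideal.span s = ⊤ := by
      rw [Ideal.eq_top_iff_one, ← haκ]
      exact Ideal.add_mem _ (Ideal.span_mono Set.subset_union_left ha)
        (Ideal.subset_span (Set.mem_union_right _ rfl))
    refine Module.FinitePresentation.of_localizationSpan s hs ?_
    rintro ⟨x, hx⟩
    rcases hx with ⟨i, rfl⟩ | hx
    · obtain ⟨_, _, g, hg⟩ := locData α M (F i)
      letI : Module (Localization.Away (F i)) (LocalizedModule (Submonoid.powers (α (F i))) M) :=
        Module.compHom _ (IsLocalization.Away.mapₐ (Localization.Away (F i)) (Localization.Away (α (F i))) α (F i)).toRingHom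
      have hfp := h' i
      let e := IsLocalizedModule.linearEquiv (Submonoid.powers (F i))
        (LocalizedModule.mkLinearMap (Submonoid.powers (F i)) M) g
      let e' := LinearEquiv.extendScalarsOfIsLocalization (Submonoid.powers (F i)) (Localization.Away (F i)) e
      exact Module.FinitePresentation.of_equiv e'.symm
    · rw [Set.mem_singleton_iff] at hx
      subst hx
      have : Subsingleton (LocalizedModule (Submonoid.powers x) M) := by
        rw [LocalizedModule.subsingleton_iff]
        intro m
        refine ⟨x, Submonoid.mem_powers x, ?_⟩
        change α x • m = 0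
        have : α x = 0 := hκ
        rw [this, zero_smul]
      change Module.FinitePresentation (Localization.Away x) (LocalizedModule (Submonoid.powers x) M)
      infer_instance


end Groth.Agent.S7007
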