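import Groth.Statements.S7008
import Mathlib
import Groth.Agent.H4.LocRelPC
import Groth.Agent.H4.FlatFam2

set_option autoImplicit false
universe u
open CategoryTheory CategoryTheory.Limits
attribute [local instance] HasDerivedCategory.standard
open DerCA

namespace Groth.Agent.S7008

open CategoryTheory CategoryTheory.Limits ZeroObject
open DRing

open Groth.Agent.H4.PCHom Groth.Agent.H4.PC Groth.Agent.H4.RelPC DerivedCategory
  Groth.Agent.H4.RestrPC Groth.Agent.H4.PCHom3 Polynomial Groth.Agent.H4.LocRelPC
  Groth.Agent.H4.LDer Groth.Agent.H4.PCDesc Groth.Agent.H4.FlatFam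

attribute [local instance] Groth.Agent.H4.FibPerf.instHasLBC

attribute [local instance] MvPolynomial.algebraMvPolynomial in
/-- relative pseudo-coherence over a principal localization of the base implies relative
pseudo-coherence over the base. -/
theorem relPC_of_away {R B : Type u} [CommRing R] [CommRing B] (f : R) [Algebra R B]
    [Algebra (Localization.Away f) B] [IsScalarTower R (Localization.Away f) B]
    (L : Dual.D B) (m : ℤ) (h : DerCA.IsRelPseudoCoherent (Localization.Away f) B m L) :
    DerCA.IsRelPseudoCoherent R B m L := by
  obtain ⟨n, β, hβ, h⟩ := h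
  let p : MvPolynomial (Fin n) R := MvPolynomial.C f
  haveI : IsLocalization.Away p (MvPolynomial (Fin n) (Localization.Away f)) := by
    have := MvPolynomial.isLocalization (σ := Fin n) (Submonoid.powers f) (Localization.Away f)
    rwa [Submonoid.map_powers] at this
  let ε : Localization.Away p ≃ₐ[MvPolynomial (Fin n) R] MvPolynomial (Fin n) (Localization.Away f) :=
    IsLocalization.algEquiv (Submonoid.powers p) _ _
  let ψ : (MvPolynomial (Fin n) R)[X] →ₐ[R] B :=
    { ((β : MvPolynomial (Fin n) (Localization.Away f) →+* B).comp
        ε.toRingEquiv.toRingHom).comp (rho p) with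
      commutes' := fun r => by
        change β (ε (rho p (C (algebraMap R (MvPolynomial (Fin n) R) r)))) = _
        rw [rho_C, ε.commutes]
        change β (MvPolynomial.map (algebraMap R (Localization.Away f)) (MvPolynomial.C r)) = _
        rw [MvPolynomial.map_C, ← MvPolynomial.algebraMap_eq, β.commutes,
          ← IsScalarTower.algebraMap_apply] }
  have hψ : Function.Surjective ψ := (hβ.comp ε.surjective).comp (rho_surjective p)
  rw [relPC_iff_of_equiv (MvPolynomial.finSuccEquiv R n) ψ hψ L m]
  have i1 := restrictDComp (rho p) ((β : MvPolynomial (Fin n) (Localization.Away f) →+* B).comp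
        ε.toRingEquiv.toRingHom) L
  have i2 := restrictDComp ε.toRingEquiv.toRingHom
    (β : MvPolynomial (Fin n) (Localization.Away f) →+* B) L
  refine isPC_of_iso i1.symm ?_
  rw [(isPCHom_rho p).isPC_iff m]
  refine isPC_of_iso i2.symm ?_
  rw [(isPCHom_of_ringEquiv ε.toRingEquiv).isPC_iff m]
  exact h

theorem step {R A : Type u} [CommRing R] [CommRing A] (f : R) [Algebra R A]
    [Algebra (Localization.Away f) A] [IsScalarTower R (Localization.Away f) A]
    [Algebra.FiniteType (Localization.Away f) A] (g : A) (K : DRing.Cx A) (m : ℤ)
    (h : DerCA.IsRelPseudoCoherent (Localization.Away f) A m (DRing.toD K)) :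
    DerCA.IsRelPseudoCoherent R (Localization.Away g) m
        (DRing.toD (((ModuleCat.extendScalars (algebraMap A (Localization.Away g))).mapHomologicalComplex
          (ComplexShape.up ℤ)).obj K)) := by
  refine relPC_of_away f _ m ?_
  obtain ⟨n, β, hβ⟩ := exists_pres (R := Localization.Away f) (A := A)
  rw [relPC_iff β hβ] at h
  obtain ⟨p, hp⟩ := hβ g
  exact (relPC_away_iff β hβ p g hp K m).2 (isPC_LBaseChange _ m _ h)

/-- Let R be a commutative ring, f an element of R, A a finite type R_f-algebra, g an element of A, K a
cochain complex of A-modules and m an integer; write K_g for the termwise localization K ⊗_A A_g, a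
complex over the finite type R-algebra A_g. Suppose K is m-pseudo-coherent relative to R_f; then K_g
is m-pseudo-coherent relative to R. Suppose K is pseudo-coherent relative to R_f in every degree;
then so is K_g relative to R. -/
theorem result {R A : Type u} [CommRing R] [CommRing A] (f : R) [Algebra R A]
    [Algebra (Localization.Away f) A] [IsScalarTower R (Localization.Away f) A]
    [Algebra.FiniteType (Localization.Away f) A] (g : A) (K : DRing.Cx A) (m : ℤ) :
    (DerCA.IsRelPseudoCoherent (Localization.Away f) A m (DRing.toD K) →
      DerCA.IsRelPseudoCoherent R (Localization.Away g) m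
        (DRing.toD (((ModuleCat.extendScalars (algebraMap A (Localization.Away g))).mapHomologicalComplex
          (ComplexShape.up ℤ)).obj K))) ∧
      (DerCA.IsRelPseudoCoherentAll (Localization.Away f) A (DRing.toD K) →
        DerCA.IsRelPseudoCoherentAll R (Localization.Away g)
          (DRing.toD (((ModuleCat.extendScalars (algebraMap A (Localization.Away g))).mapHomologicalComplex
            (ComplexShape.up ℤ)).obj K))) := by
  exact ⟨step f g K m, fun h m' => step f g K m' (h m')⟩


end Groth.Agent.S7008
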