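import Groth.Statements.S7010
import Mathlib
import Groth.Agent.H4.DThick

set_option autoImplicit false
universe u
open CategoryTheory CategoryTheory.Limits
attribute [local instance] HasDerivedCategory.standard
open DRing

namespace Groth.Agent.S7010

open Groth.Agent.H4.DThick DerivedCategory


variable {R : Type u} [CommRing R]

lemma prodIso (M N : Type u) [AddCommGroup M] [Module R M] [AddCommGroup N] [Module R N] :
    Nonempty (Dual.inD R (M × N) ≅ Dual.inD R M ⊞ Dual.inD R N) := by
  haveI : (singleFunctor (ModuleCat.{u} R) 0).Additive := inferInstance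
  haveI : PreservesBinaryBiproducts (singleFunctor (ModuleCat.{u} R) 0) :=
    preservesBinaryBiproducts_of_preservesBiproducts _
  exact ⟨(singleFunctor (ModuleCat.{u} R) 0).mapIso
      (ModuleCat.biprodIsoProd (ModuleCat.of R M) (ModuleCat.of R N)).symm ≪≫
    (singleFunctor (ModuleCat.{u} R) 0).mapBiprod _ _⟩

noncomputable def splitEquiv {F M : Type u} [AddCommGroup F] [Module R F] [AddCommGroup M]
    [Module R M] (f : F →ₗ[R] M) (s : M →ₗ[R] F) (hs : f ∘ₗ s = LinearMap.id) :
    F ≃ₗ[R] M × LinearMap.ker f :=
  LinearEquiv.ofLinearMap
    (LinearMap.prod f (LinearMap.codRestrict (LinearMap.ker f) (LinearMap.id - s ∘ₗ f) (by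
      intro x
      have := LinearMap.congr_fun hs (f x)
      simp only [LinearMap.comp_apply, LinearMap.id_apply] at this
      simp [this])))
    (LinearMap.coprod s (LinearMap.ker f).subtype)
    (by
      apply LinearMap.ext
      rintro ⟨m, k, hk⟩
      have := LinearMap.congr_fun hs m
      simp only [LinearMap.comp_apply, LinearMap.id_apply] at this
      have hk' : f k = 0 := hk
      ext <;> simp [this, hk'])
    (by
      apply LinearMap.ext
      intro x
      simp)

open CategoryTheory.Pretriangulated in
/-- The inclusion of the perfect objects in the subcategory generated by R: let R be a commutative ring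
and P a property of objects of D(R) which is closed under isomorphisms, holds for R[0], is stable
under all shifts, is closed under extensions (if it holds for the outer terms of a distinguished
triangle it holds for the middle term) and is closed under taking direct summands. Then P holds for
every perfect object of D(R). -/
theorem result (R : Type u) [CommRing R]
    (P : ObjectProperty (Dual.D R)) [P.IsClosedUnderIsomorphisms] (hR : P (Dual.inD R R))
    (hshift : ∀ (K : Dual.D R) (n : ℤ), P K → P ((shiftFunctor (Dual.D R) n).obj K))
    (hext : ∀ T : Triangle (Dual.D R), T ∈ distinguishedTriangles → P T.obj₁ → P T.obj₃ → P T.obj₂)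
    (hsum : ∀ (X Y : Dual.D R) [HasBinaryBiproduct X Y], P (X ⊞ Y) → P X)
    (K : Dual.D R) (hK : DRing.IsPerfect R K) : P K := by
  have hzero : ∀ Z : Dual.D R, IsZero Z → P Z := by
    intro Z hZ
    apply hsum Z (Dual.inD R R)
    have e : Z ⊞ Dual.inD R R ≅ Dual.inD R R :=
      { hom := biprod.snd
        inv := biprod.inr
        hom_inv_id := by
          apply biprod.hom_ext
          · exact hZ.eq_of_tgt _ _
          · simp
        inv_hom_id := by simp }
    exact P.prop_of_iso e.symm hR
  have hTri : IsTriSub (R := R) (fun K => P K) :=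
    { iso := fun e h => P.prop_of_iso e h
      zero := hzero
      shift := hshift
      ext₂ := hext }
  have hbi : ∀ X Y : Dual.D R, P X → P Y → P (X ⊞ Y) := by
    intro X Y hX hY
    exact hext _ (binaryBiproductTriangle_distinguished X Y) hX hY
  have hfree : ∀ n : ℕ, P (Dual.inD R (Fin n → R)) := by
    intro n
    induction n with
    | zero => exact hTri.of_subsingleton _
    | succ n ih =>
      obtain ⟨e⟩ := prodIso (R := R) R (Fin n → R)
      have h1 : P (Dual.inD R (R × (Fin n → R))) := P.prop_of_iso e.symm (hbi _ _ hR ih)
      exact hTri.of_linearEquiv (Fin.consLinearEquiv R (fun _ => R)) h1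
  have hproj : ∀ (M : Type u) [AddCommGroup M] [Module R M] [Module.Finite R M]
      [Module.Projective R M], P (Dual.inD R M) := by
    intro M _ _ _ _
    obtain ⟨n, f, hf⟩ := Module.Finite.exists_fin' R M
    obtain ⟨s, hs⟩ := Module.projective_lifting_property f LinearMap.id hf
    have h1 : P (Dual.inD R (M × LinearMap.ker f)) :=
      hTri.of_linearEquiv (splitEquiv f s hs) (hfree n)
    obtain ⟨e⟩ := prodIso (R := R) M (LinearMap.ker f)
    exact hsum _ _ (P.prop_of_iso e h1)
  obtain ⟨E, a, b, hE, hfp, ⟨e⟩⟩ := hK
  refine P.prop_of_iso e (hTri.of_bounded_termwise E a b hE ?_)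
  intro i
  haveI := (hfp i).1
  haveI := (hfp i).2
  exact hproj (E.X i)


end Groth.Agent.S7010
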