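import Groth.Statements.S7015
import Mathlib

set_option autoImplicit false
universe u
open CategoryTheory MonoidalCategory
open DRing

namespace Groth.Agent.S7015

lemma dual_basis_left (R : Type u) [CommRing R] (X Y : ModuleCat.{u} R) [ExactPairing X Y] (m : X)
    (s : Finset (X × Y)) (hs : (η_ X Y).hom (1 : R) = ∑ p ∈ s, p.1 ⊗ₜ[R] p.2) :
    m = ∑ p ∈ s, ((ε_ X Y).hom (p.2 ⊗ₜ[R] m) : R) • p.1 := by
  have key := ExactPairing.evaluation_coevaluation X Y
  have h2 : ((η_ X Y) ▷ X ≫ (α_ X Y X).hom ≫ X ◁ (ε_ X Y)).hom ((1 : R) ⊗ₜ[R] m) =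
      ∑ p ∈ s, p.1 ⊗ₜ[R] ((ε_ X Y).hom (p.2 ⊗ₜ[R] m)) := by
    simp only [ModuleCat.hom_comp, LinearMap.comp_apply]
    have e1 : ((η_ X Y) ▷ X).hom ((1 : R) ⊗ₜ[R] m) = ((η_ X Y).hom (1 : R)) ⊗ₜ[R] m := rfl
    rw [e1, hs, TensorProduct.sum_tmul, map_sum, map_sum]
    rfl
  rw [key] at h2
  have h3 := congrArg (fun z => (ρ_ X).hom.hom z) h2
  simp only [ModuleCat.hom_comp, LinearMap.comp_apply, map_sum] at h3
  have e2 : (ρ_ X).hom.hom ((ρ_ X).inv.hom ((λ_ X).hom.hom ((1 : R) ⊗ₜ[R] m))) = m := by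
    have : (ρ_ X).hom.hom ((ρ_ X).inv.hom ((λ_ X).hom.hom ((1 : R) ⊗ₜ[R] m))) =
      ((ρ_ X).inv ≫ (ρ_ X).hom).hom ((λ_ X).hom.hom ((1 : R) ⊗ₜ[R] m)) := rfl
    rw [this, Iso.inv_hom_id]
    have := ModuleCat.MonoidalCategory.leftUnitor_hom_apply (M := X) (1 : R) m
    simp
  rw [e2] at h3
  refine h3.trans ?_
  refine Finset.sum_congr rfl (fun p _ => ?_)
  exact ModuleCat.MonoidalCategory.rightUnitor_hom_apply (M := X) p.1 _

lemma dual_basis_right (R : Type u) [CommRing R] (X Y : ModuleCat.{u} R) [ExactPairing X Y] (n : Y)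
    (s : Finset (X × Y)) (hs : (η_ X Y).hom (1 : R) = ∑ p ∈ s, p.1 ⊗ₜ[R] p.2) :
    n = ∑ p ∈ s, ((ε_ X Y).hom (n ⊗ₜ[R] p.1) : R) • p.2 := by
  have key := ExactPairing.coevaluation_evaluation X Y
  have h2 : (Y ◁ (η_ X Y) ≫ (α_ Y X Y).inv ≫ (ε_ X Y) ▷ Y).hom (n ⊗ₜ[R] (1 : R)) =
      ∑ p ∈ s, ((ε_ X Y).hom (n ⊗ₜ[R] p.1)) ⊗ₜ[R] p.2 := by
    simp only [ModuleCat.hom_comp, LinearMap.comp_apply]
    have e1 : (Y ◁ (η_ X Y)).hom (n ⊗ₜ[R] (1 : R)) = n ⊗ₜ[R] ((η_ X Y).hom (1 : R)) := rfl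
    rw [e1, hs, TensorProduct.tmul_sum, map_sum, map_sum]
    rfl
  rw [key] at h2
  have h3 := congrArg (fun z => (λ_ Y).hom.hom z) h2
  simp only [ModuleCat.hom_comp, LinearMap.comp_apply, map_sum] at h3
  have e2 : (λ_ Y).hom.hom ((λ_ Y).inv.hom ((ρ_ Y).hom.hom (n ⊗ₜ[R] (1 : R)))) = n := by
    have : (λ_ Y).hom.hom ((λ_ Y).inv.hom ((ρ_ Y).hom.hom (n ⊗ₜ[R] (1 : R)))) =
      ((λ_ Y).inv ≫ (λ_ Y).hom).hom ((ρ_ Y).hom.hom (n ⊗ₜ[R] (1 : R))) := rfl
    rw [this, Iso.inv_hom_id]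
    have := ModuleCat.MonoidalCategory.rightUnitor_hom_apply (M := Y) n (1 : R)
    simp
  rw [e2] at h3
  refine h3.trans ?_
  refine Finset.sum_congr rfl (fun p _ => ?_)
  exact ModuleCat.MonoidalCategory.leftUnitor_hom_apply (M := Y) _ p.2

/-- Dual basis lemma: a module with a finite "dual basis" is finite projective. -/
lemma fin_proj_of_dual_basis {R : Type u} [CommRing R] {M : Type u} [AddCommGroup M] [Module R M]
    {ι : Type u} (s : Finset ι) (x : ι → M) (φ : ι → (M →ₗ[R] R))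
    (h : ∀ m : M, m = ∑ i ∈ s, φ i m • x i) : Module.Finite R M ∧ Module.Projective R M := by
  classical
  let a : M →ₗ[R] (s → R) := LinearMap.pi (fun i => φ i.1)
  let b : (s → R) →ₗ[R] M := Fintype.linearCombination R (fun i : s => x i.1)
  have hba : b ∘ₗ a = LinearMap.id := by
    apply LinearMap.ext
    intro m
    simp only [LinearMap.comp_apply, LinearMap.id_apply, b, a, Fintype.linearCombination_apply,
      LinearMap.pi_apply]
    rw [Finset.sum_coe_sort s (fun i => φ i m • x i)]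
    exact (h m).symm
  have hsurj : Function.Surjective b := fun m => ⟨a m, by
    have := congrArg (fun l : M →ₗ[R] M => l m) hba
    simpa using this⟩
  exact ⟨Module.Finite.of_surjective b hsurj, Module.Projective.of_split a b hba⟩

/-- Let R be a commutative ring and M, N R-modules such that N is a left dual of M for the tensor
product of R-modules, i.e. there are a coevaluation R → M ⊗ N and an evaluation N ⊗ M → R satisfying
the triangle identities (an exact pairing). Then M and N are finitely generated projective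
R-modules. -/
theorem result (R : Type u) [CommRing R] (M N : Type u) [AddCommGroup M]
    [Module R M] [AddCommGroup N] [Module R N] [ExactPairing (ModuleCat.of R M) (ModuleCat.of R N)] :
    Module.Finite R M ∧ Module.Projective R M ∧ Module.Finite R N ∧ Module.Projective R N := by
  let X := ModuleCat.of R M
  let Y := ModuleCat.of R N
  obtain ⟨s, hs⟩ := TensorProduct.exists_finset (R := R) (M := M) (N := N) ((η_ X Y).hom (1 : R))
  have h1 := fun m : M => dual_basis_left R X Y m s hs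
  have h2 := fun n : N => dual_basis_right R X Y n s hs
  have r1 := fin_proj_of_dual_basis (R := R) (M := M) s (fun p => p.1)
    (fun p => (ε_ X Y).hom ∘ₗ (TensorProduct.mk R N M p.2)) (fun m => h1 m)
  have r2 := fin_proj_of_dual_basis (R := R) (M := N) s (fun p => p.2)
    (fun p => (ε_ X Y).hom ∘ₗ (TensorProduct.mk R N M).flip p.1) (fun n => h2 n)
  exact ⟨r1.1, r1.2, r2.1, r2.2⟩

end Groth.Agent.S7015
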