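import Groth.Statements.S7020
import Mathlib
import Groth.Agent.H4.RelPC2

set_option autoImplicit false
universe u
open CategoryTheory CategoryTheory.Limits
attribute [local instance] HasDerivedCategory.standard
open DerCA

namespace Groth.Agent.S7020

open DRing

open Groth.Agent.H4.PCHom Groth.Agent.H4.PC Groth.Agent.H4.RelPC DerivedCategory

open CategoryTheory.Pretriangulated in
/-- Let R → A be a finite type homomorphism of commutative rings, m an integer and K → L → M → K[1] a
distinguished triangle in D(A); all pseudo-coherence below is relative to R. (1) M is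
m-pseudo-coherent when K is (m+1)-pseudo-coherent and L is m-pseudo-coherent. (2) L is
m-pseudo-coherent when K and M are. (3) K is (m+1)-pseudo-coherent when L is (m+1)-pseudo-coherent
and M is m-pseudo-coherent. (4) Pseudo-coherence in every degree of any two of K, L, M implies that
of the third. -/
theorem result {R A : Type u} [CommRing R] [CommRing A] [Algebra R A] [Algebra.FiniteType R A] (m : ℤ) (T : Triangle (Dual.D A))
    (hT : T ∈ distinguishedTriangles) :
    (DerCA.IsRelPseudoCoherent R A (m + 1) T.obj₁ → DerCA.IsRelPseudoCoherent R A m T.obj₂ →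
        DerCA.IsRelPseudoCoherent R A m T.obj₃) ∧
      (DerCA.IsRelPseudoCoherent R A m T.obj₁ → DerCA.IsRelPseudoCoherent R A m T.obj₃ →
        DerCA.IsRelPseudoCoherent R A m T.obj₂) ∧
      (DerCA.IsRelPseudoCoherent R A (m + 1) T.obj₂ → DerCA.IsRelPseudoCoherent R A m T.obj₃ →
        DerCA.IsRelPseudoCoherent R A (m + 1) T.obj₁) ∧
      ((DerCA.IsRelPseudoCoherentAll R A T.obj₁ → DerCA.IsRelPseudoCoherentAll R A T.obj₂ →
          DerCA.IsRelPseudoCoherentAll R A T.obj₃) ∧
        (DerCA.IsRelPseudoCoherentAll R A T.obj₁ → DerCA.IsRelPseudoCoherentAll R A T.obj₃ →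
          DerCA.IsRelPseudoCoherentAll R A T.obj₂) ∧
        (DerCA.IsRelPseudoCoherentAll R A T.obj₂ → DerCA.IsRelPseudoCoherentAll R A T.obj₃ →
          DerCA.IsRelPseudoCoherentAll R A T.obj₁)) := by
  obtain ⟨n, α, hα⟩ := exists_pres (R := R) (A := A)
  have hT' := (restrictD (α : MvPolynomial (Fin n) R →+* A)).map_distinguished T hT
  have h3 : ∀ m : ℤ, DerCA.IsRelPseudoCoherent R A (m + 1) T.obj₁ →
      DerCA.IsRelPseudoCoherent R A m T.obj₂ → DerCA.IsRelPseudoCoherent R A m T.obj₃ := by
    intro m h1 h2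
    rw [relPC_iff α hα] at h1 h2 ⊢
    exact isPC_obj₃ _ hT' m h1 h2
  have h2 : ∀ m : ℤ, DerCA.IsRelPseudoCoherent R A m T.obj₁ →
      DerCA.IsRelPseudoCoherent R A m T.obj₃ → DerCA.IsRelPseudoCoherent R A m T.obj₂ := by
    intro m h1 h2
    rw [relPC_iff α hα] at h1 h2 ⊢
    exact isPC_obj₂ _ hT' m h1 h2
  have h1 : ∀ m : ℤ, DerCA.IsRelPseudoCoherent R A (m + 1) T.obj₂ →
      DerCA.IsRelPseudoCoherent R A m T.obj₃ → DerCA.IsRelPseudoCoherent R A (m + 1) T.obj₁ := by
    intro m h1 h2
    rw [relPC_iff α hα] at h1 h2 ⊢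
    exact isPC_obj₁ _ hT' m h1 h2
  refine ⟨h3 m, h2 m, h1 m, fun a b k => h3 k (a _) (b _), fun a b k => h2 k (a _) (b _),
    fun a b k => ?_⟩
  have := h1 (k - 1) (by rw [sub_add_cancel]; exact a k) (b _)
  rwa [sub_add_cancel] at this


end Groth.Agent.S7020
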