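import Groth.Statements.S7022
import Mathlib
import Groth.Agent.H4.RelPC2
import Groth.Agent.H4.PC8

set_option autoImplicit false
universe u
open CategoryTheory CategoryTheory.Limits
attribute [local instance] HasDerivedCategory.standard
open DerCA

namespace Groth.Agent.S7022

open DRing

open Groth.Agent.H4.PCHom Groth.Agent.H4.PC Groth.Agent.H4.RelPC DerivedCategory

/-- Let R → A be a finite type homomorphism of commutative rings, m an integer and K, L objects of the
derived category D(A). Whenever the direct sum K ⊕ L is pseudo-coherent relative to R in degree m,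
both summands K and L are too; likewise, relative pseudo-coherence of K ⊕ L (in every degree) passes
to K and to L. -/
theorem result {R A : Type u} [CommRing R] [CommRing A] [Algebra R A] [Algebra.FiniteType R A] (m : ℤ) (K L : Dual.D A) [HasBinaryBiproduct K L] :
    (DerCA.IsRelPseudoCoherent R A m (K ⊞ L) → DerCA.IsRelPseudoCoherent R A m K ∧ DerCA.IsRelPseudoCoherent R A m L) ∧
      (DerCA.IsRelPseudoCoherentAll R A (K ⊞ L) →
        DerCA.IsRelPseudoCoherentAll R A K ∧ DerCA.IsRelPseudoCoherentAll R A L) := by
  obtain ⟨n, α, hα⟩ := exists_pres (R := R) (A := A)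
  have key : ∀ m : ℤ, DerCA.IsRelPseudoCoherent R A m (K ⊞ L) →
      DerCA.IsRelPseudoCoherent R A m K ∧ DerCA.IsRelPseudoCoherent R A m L := by
    intro m h
    rw [relPC_iff α hα] at h ⊢
    rw [relPC_iff α hα]
    haveI : (restrictD (α : MvPolynomial (Fin n) R →+* A)).Additive := inferInstance
    haveI : PreservesBinaryBiproducts (restrictD (α : MvPolynomial (Fin n) R →+* A)) :=
      preservesBinaryBiproducts_of_preservesBiproducts _
    exact isPC_of_biprod m _ _ (isPC_of_iso
      ((restrictD (α : MvPolynomial (Fin n) R →+* A)).mapBiprod K L) h)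
  exact ⟨key m, fun h => ⟨fun k => (key k (h k)).1, fun k => (key k (h k)).2⟩⟩


end Groth.Agent.S7022
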