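import Groth.Statements.S7024
import Mathlib
import Groth.Agent.H4.RelPC2
import Groth.Agent.H4.PC8

set_option autoImplicit false
universe u
open CategoryTheory CategoryTheory.Limits
attribute [local instance] HasDerivedCategory.standard
open DerCA

namespace Groth.Agent.S7024

open DRing

open Groth.Agent.H4.PCHom Groth.Agent.H4.PC Groth.Agent.H4.RelPC DerivedCategory

/-- Let R → A be a finite type homomorphism of commutative rings, m an integer and K an object of D(A)
whose cohomology vanishes in large degrees. If the module H^i(K) is (m - i)-pseudo-coherent relative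
to R for every i, then K is m-pseudo-coherent relative to R. Moreover, K is relatively
pseudo-coherent over R as soon as each cohomology module H^i(K) has this property over R. -/
theorem result {R A : Type u} [CommRing R] [CommRing A] [Algebra R A] [Algebra.FiniteType R A] (m : ℤ) (K : Dual.D A)
    (hb : ∃ b : ℤ, ∀ i : ℤ, b < i → Subsingleton (Dual.HD A K i)) :
    ((∀ i : ℤ, DerCA.IsRelPseudoCoherentModule R A (m - i) (Dual.HD A K i)) → DerCA.IsRelPseudoCoherent R A m K) ∧
      ((∀ i : ℤ, DerCA.IsRelPseudoCoherentModuleAll R A (Dual.HD A K i)) → DerCA.IsRelPseudoCoherentAll R A K) := by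
  obtain ⟨n, α, hα⟩ := exists_pres (R := R) (A := A)
  have hb' : ∃ b : ℤ, ∀ i : ℤ, b < i →
      IsZero ((DerivedCategory.homologyFunctor (ModuleCat.{u} (MvPolynomial (Fin n) R)) i).obj
        ((restrictD (α : MvPolynomial (Fin n) R →+* A)).obj K)) := by
    obtain ⟨b, hb⟩ := hb
    refine ⟨b, fun i hi => ?_⟩
    haveI := hb i hi
    refine IsZero.of_iso ?_ (Groth.Agent.H4.DComp.restrictHomologyIso _ K i)
    exact (ModuleCat.restrictScalars.{u} _).map_isZero (ModuleCat.isZero_of_subsingleton _)
  have key : ∀ m : ℤ, (∀ i : ℤ, DerCA.IsRelPseudoCoherentModule R A (m - i) (Dual.HD A K i)) →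
      DerCA.IsRelPseudoCoherent R A m K := by
    intro m h
    rw [relPC_iff α hα]
    refine isPC_of_homology m _ hb' (fun i => ?_)
    exact isPC_single_of_iso (Groth.Agent.H4.DComp.restrictHomologyIso _ K i).symm
      ((relPC_single_iff α hα _ (m - i)).1 (h i))
  exact ⟨key m, fun h k => key k (fun i => h i _)⟩


end Groth.Agent.S7024
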