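import Groth.Statements.S7026
import Mathlib
import Groth.Agent.H4.RelPC3
import Groth.Agent.H4.PC9

set_option autoImplicit false
universe u
open CategoryTheory CategoryTheory.Limits
attribute [local instance] HasDerivedCategory.standard
open DerCA

namespace Groth.Agent.S7026

open DRing

open Groth.Agent.H4.PCHom Groth.Agent.H4.PC Groth.Agent.H4.RelPC DerivedCategory

/-- Let R be a Noetherian commutative ring, R → A a finite type ring homomorphism, m an integer, K an
object of D(A) and M an A-module. Then: m-pseudo-coherence of K relative to R is equivalent to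
H^i(K) vanishing for all large i together with H^i(K) being a finitely generated A-module for each i
≥ m; pseudo-coherence of K relative to R (every degree) is equivalent to the same with H^i(K)
finitely generated for every i; and the A-module M is pseudo-coherent relative to R exactly when M
is finitely generated. -/
theorem result {R A : Type u} [CommRing R]
    [IsNoetherianRing R] [CommRing A] [Algebra R A] [Algebra.FiniteType R A] (m : ℤ) (K : Dual.D A)
    (M : Type u) [AddCommGroup M] [Module A M] :
    (DerCA.IsRelPseudoCoherent R A m K ↔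
      (∃ b : ℤ, ∀ i : ℤ, b < i → Subsingleton (Dual.HD A K i)) ∧ ∀ i : ℤ, m ≤ i → Module.Finite A (Dual.HD A K i)) ∧
    (DerCA.IsRelPseudoCoherentAll R A K ↔
      (∃ b : ℤ, ∀ i : ℤ, b < i → Subsingleton (Dual.HD A K i)) ∧ ∀ i : ℤ, Module.Finite A (Dual.HD A K i)) ∧
    (DerCA.IsRelPseudoCoherentModuleAll R A M ↔ Module.Finite A M) := by
  obtain ⟨n, α, hα⟩ := exists_pres (R := R) (A := A)
  set f : MvPolynomial (Fin n) R →+* A := (α : MvPolynomial (Fin n) R →+* A) with hf
  have hz : ∀ i : ℤ, IsZero ((homologyFunctor (ModuleCat.{u} (MvPolynomial (Fin n) R)) i).obj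
      ((restrictD f).obj K)) ↔ Subsingleton (Dual.HD A K i) := by
    intro i
    rw [(Groth.Agent.H4.DComp.restrictHomologyIso f K i).isZero_iff,
      Groth.Agent.H4.RestrPC.isZero_restrictScalars_iff]
    exact ⟨fun h => ModuleCat.subsingleton_of_isZero h, fun h => ModuleCat.isZero_of_subsingleton _⟩
  have hfin : ∀ i : ℤ, Module.Finite (MvPolynomial (Fin n) R)
      ((homologyFunctor (ModuleCat.{u} (MvPolynomial (Fin n) R)) i).obj
      ((restrictD f).obj K)) ↔ Module.Finite A (Dual.HD A K i) := by
    intro i
    rw [← finite_restrictScalars_iff f hα]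
    exact ⟨fun h => Module.Finite.equiv
        (Groth.Agent.H4.DComp.restrictHomologyIso f K i).toLinearEquiv,
      fun h => Module.Finite.equiv
        (Groth.Agent.H4.DComp.restrictHomologyIso f K i).symm.toLinearEquiv⟩
  have key : ∀ m : ℤ, DerCA.IsRelPseudoCoherent R A m K ↔
      (∃ b : ℤ, ∀ i : ℤ, b < i → Subsingleton (Dual.HD A K i)) ∧
        ∀ i : ℤ, m ≤ i → Module.Finite A (Dual.HD A K i) := by
    intro m
    rw [relPC_iff α hα, isPC_iff_of_noetherian]
    refine and_congr (exists_congr fun b => forall_congr' fun i => imp_congr_right fun _ => hz i)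
      (forall_congr' fun i => imp_congr_right fun _ => hfin i)
  refine ⟨key m, ?_, ?_⟩
  · constructor
    · intro h
      exact ⟨((key 0).1 (h 0)).1, fun i => ((key i).1 (h i)).2 i le_rfl⟩
    · rintro ⟨h1, h2⟩ k
      exact (key k).2 ⟨h1, fun i _ => h2 i⟩
  · constructor
    · intro h
      have h0 := (relPC_single_iff α hα (ModuleCat.of A M) 0).1 (h 0)
      rw [← finite_restrictScalars_iff f hα (ModuleCat.of A M)]
      exact (isPCModule_zero_iff (R := MvPolynomial (Fin n) R)
        ((ModuleCat.restrictScalars.{u} f).obj (ModuleCat.of A M))).1 h0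
    · intro h k
      refine (relPC_single_iff α hα (ModuleCat.of A M) k).2 ?_
      haveI := (finite_restrictScalars_iff f hα (ModuleCat.of A M)).2 h
      exact isPC_single_of_finite_of_noetherian _ _


end Groth.Agent.S7026
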