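import Groth.Statements.S7031
import Groth.Agent.H4.RegPerf
import Groth.Agent.H4.Perf1
import Groth.Agent.H4.PC10

set_option autoImplicit false
universe u
open CategoryTheory CategoryTheory.Limits
attribute [local instance] HasDerivedCategory.standard
open DRing

namespace Groth.Agent.S7031

open CategoryTheory CategoryTheory.Limits DerivedCategory DRing Groth.Agent.H4.DRing1 Groth.Agent.H4.RegPerf Groth.Agent.H4.PC Groth.Agent.H4.Perf



/-- Let R be a regular commutative ring (Noetherian, with regular local rings at all primes) such that
the derived tensor product - ⊗^L_R M exists on D(R) for every R-module M, and let K be an object of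
D(R). Then K is perfect if and only if H^i(K) = 0 outside a bounded range of degrees and every
H^i(K) is a finitely generated R-module. -/
theorem result (R : Type u) [CommRing R] [IsNoetherianRing R]
    (hreg : ∀ p : PrimeSpectrum R, IsRegularLocalRing (Localization.AtPrime p.asIdeal)) [∀ M : ModuleCat.{u} R, DRing.HasLTensor R M] (K : Dual.D R) :
    DRing.IsPerfect R K ↔
      (∃ a b : ℤ, ∀ i : ℤ, (i < a ∨ b < i) → Subsingleton (Dual.HD R K i)) ∧ ∀ i : ℤ, Module.Finite R (Dual.HD R K i) := by
  haveI : IsRegularRing R := isRegularRing_iff.mpr (fun p hp => hreg ⟨p, hp⟩)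
  constructor
  · intro h
    have hb : ∃ a b : ℤ, ∀ i : ℤ, (i < a ∨ b < i) → Subsingleton (Dual.HD R K i) := by
      obtain ⟨E, a, b, hz, hP, ⟨e⟩⟩ := h
      refine ⟨a, b, fun i hi => ?_⟩
      have h0 := isZero_homology_toD_of_isZero E i (hz i hi)
      exact ModuleCat.subsingleton_of_isZero
        (h0.of_iso ((homologyFunctor (ModuleCat.{u} R) i).mapIso e.symm))
    refine ⟨hb, fun i => ?_⟩
    obtain ⟨a, b, hab⟩ := hb
    have hR : ∀ I : Ideal R, I.FG → Module.FinitePresentation R I := fun I hI =>
      haveI : Module.Finite R I := Module.Finite.iff_fg.mpr hI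
      Module.finitePresentation_of_finite R I
    have h1 := (isPC'_iff_of_coherent hR K ⟨b, fun i hi => by
      haveI := hab i (Or.inr hi)
      exact ModuleCat.isZero_of_subsingleton _⟩).mp (isPC'_of_isPerfect h) i
    haveI := h1
    change Module.Finite R ((homologyFunctor (ModuleCat.{u} R) i).obj K)
    infer_instance
  · rintro ⟨hb, hfin⟩
    refine isPerfect_of_bounded_perfect_homology K hb (fun i => ?_)
    haveI := hfin i
    exact isPerfectModule_of_finite_of_isRegularRing _


end Groth.Agent.S7031
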