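import Groth.Statements.S7039
import Mathlib

set_option autoImplicit false
universe u
open LocCoh

namespace Groth.Agent.S7039

/-- For a finitely generated ideal I of a commutative ring R and any R-module M, the quotient of M by
its submodule of I-power torsion elements has no nonzero element annihilated by I. -/
theorem result {R : Type u} [CommRing R] (I : Ideal R) (hI : I.FG)
    (M : Type u) [AddCommGroup M] [Module R M] :
    LocCoh.torsionBy I (M ⧸ DRing.torsionSub I M) = ⊥ := by
  classical
  rw [eq_bot_iff]
  intro y hy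
  obtain ⟨x, rfl⟩ := Submodule.Quotient.mk_surjective _ y
  rw [Submodule.mem_bot, Submodule.Quotient.mk_eq_zero]
  have hy' : ∀ a ∈ I, a • x ∈ DRing.torsionSub I M := by
    intro a ha
    have h1 := (Submodule.mem_torsionBySet_iff _ _).mp hy ⟨a, ha⟩
    rw [← Submodule.Quotient.mk_smul, Submodule.Quotient.mk_eq_zero] at h1
    exact h1
  obtain ⟨S, hS⟩ := hI
  have hex : ∀ s ∈ S, ∃ n : ℕ, ∀ b ∈ I ^ n, b • (s • x) = 0 := by
    intro s hs
    exact hy' s (hS ▸ Submodule.subset_span hs)
  choose! n hn using hex
  let N := S.sup n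
  -- the submodule of elements killed by `I ^ N`
  let T : Submodule R M := Submodule.torsionBySet R M ((I ^ N : Ideal R) : Set R)
  have hT : ∀ a ∈ I, a • x ∈ T := by
    have hle : I ≤ T.comap (LinearMap.toSpanSingleton R M x) := by
      rw [← hS, Ideal.span, Submodule.span_le]
      intro s hs
      simp only [Submodule.comap_coe, Set.mem_preimage, LinearMap.toSpanSingleton_apply,
        SetLike.mem_coe, T, Submodule.mem_torsionBySet_iff]
      rintro ⟨b, hb⟩
      exact hn s hs b (Ideal.pow_le_pow_right (Finset.le_sup (f := n) hs) hb)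
    intro a ha
    exact hle ha
  refine ⟨N + 1, ?_⟩
  intro c hc
  rw [pow_succ] at hc
  refine Submodule.mul_induction_on hc ?_ ?_
  · intro b hb a ha
    have := (Submodule.mem_torsionBySet_iff _ _).mp (hT a ha) ⟨b, hb⟩
    rw [mul_smul]
    exact this
  · intro c₁ c₂ h₁ h₂
    rw [add_smul, h₁, h₂, add_zero]

end Groth.Agent.S7039
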