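import Groth.Statements.S7040
import Mathlib

set_option autoImplicit false
universe u
open CategoryTheory
open LocCoh

namespace Groth.Agent.S7040

lemma ext_aux {R : Type u} [CommRing R] (I : Ideal R) (hI : I.FG)
    {X₁ X₂ X₃ : Type u} [AddCommGroup X₁] [Module R X₁] [AddCommGroup X₂] [Module R X₂]
    [AddCommGroup X₃] [Module R X₃] (f : X₁ →ₗ[R] X₂) (g : X₂ →ₗ[R] X₃)
    (hex : ∀ x₂, g x₂ = 0 → ∃ x₁, f x₁ = x₂)
    (h₁ : LocCoh.IsPowerTorsion I X₁) (h₃ : LocCoh.IsPowerTorsion I X₃) :
    LocCoh.IsPowerTorsion I X₂ := by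
  classical
  intro m
  obtain ⟨n₃, hn₃⟩ := h₃ (g m)
  obtain ⟨S, hS⟩ := (hI.pow (n := n₃))
  have hex' : ∀ b ∈ S, ∃ k : ℕ, ∀ d ∈ I ^ k, d • (b • m) = 0 := by
    intro b hb
    have hb' : b ∈ I ^ n₃ := hS ▸ Submodule.subset_span hb
    obtain ⟨x₁, hx₁⟩ := hex (b • m) (by rw [map_smul]; exact hn₃ b hb')
    obtain ⟨k, hk⟩ := h₁ x₁
    refine ⟨k, fun d hd => ?_⟩
    rw [← hx₁, ← map_smul, hk d hd, map_zero]
  choose! k hk using hex'
  let K := S.sup k
  let T : Submodule R X₂ := Submodule.torsionBySet R X₂ ((I ^ K : Ideal R) : Set R)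
  have hT : ∀ b ∈ I ^ n₃, b • m ∈ T := by
    have hle : I ^ n₃ ≤ T.comap (LinearMap.toSpanSingleton R X₂ m) := by
      rw [← hS, Ideal.span, Submodule.span_le]
      intro b hb
      simp only [Submodule.comap_coe, Set.mem_preimage, LinearMap.toSpanSingleton_apply,
        SetLike.mem_coe, T, Submodule.mem_torsionBySet_iff]
      rintro ⟨d, hd⟩
      exact hk b hb d (Ideal.pow_le_pow_right (Finset.le_sup (f := k) hb) hd)
    intro b hb
    exact hle hb
  refine ⟨K + n₃, fun c hc => ?_⟩
  rw [pow_add] at hc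
  refine Submodule.mul_induction_on hc ?_ ?_
  · intro d hd b hb
    have := (Submodule.mem_torsionBySet_iff _ _).mp (hT b hb) ⟨d, hd⟩
    rw [mul_smul]
    exact this
  · intro c₁ c₂ e₁ e₂
    rw [add_smul, e₁, e₂, add_zero]

/-- For a finitely generated ideal I of a commutative ring R, the property of being an I-power torsion
module (every element killed by a power of I) is a Serre class in the category of R-modules: it
holds for 0 and is closed under subobjects, quotients and extensions. -/
theorem result {R : Type u} [CommRing R] (I : Ideal R) (hI : I.FG) :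
    ObjectProperty.IsSerreClass (C := ModuleCat.{u} R) (fun M => LocCoh.IsPowerTorsion I M) := by
  refine
    { exists_zero := ?_
      prop_of_mono := ?_
      prop_of_epi := ?_
      prop_X₂_of_shortExact := ?_ }
  · refine ⟨ModuleCat.of R PUnit, ModuleCat.isZero_of_subsingleton _, ?_⟩
    intro m
    exact ⟨0, fun a _ => Subsingleton.elim _ _⟩
  · intro X Y f hf hY x
    obtain ⟨n, hn⟩ := hY (f.hom x)
    refine ⟨n, fun a ha => ?_⟩
    have hinj : Function.Injective f.hom := (ModuleCat.mono_iff_injective f).mp hf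
    apply hinj
    rw [map_smul, hn a ha, map_zero]
  · intro X Y f hf hX y
    have hsurj : Function.Surjective f.hom := (ModuleCat.epi_iff_surjective f).mp hf
    obtain ⟨x, rfl⟩ := hsurj y
    obtain ⟨n, hn⟩ := hX x
    refine ⟨n, fun a ha => ?_⟩
    rw [← map_smul, hn a ha, map_zero]
  · intro S hS h₁ h₃
    have hex := (ShortComplex.moduleCat_exact_iff S).mp hS.exact
    exact ext_aux I hI S.f.hom S.g.hom hex h₁ h₃

end Groth.Agent.S7040
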