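import Groth.Statements.S7041
import Mathlib

set_option autoImplicit false
universe u
open TensorProduct
open LocCoh

namespace Groth.Agent.S7041

/-- Let R → R' be a homomorphism of commutative rings and I an ideal of R such that the induced map
R/I^n → R'/I^n R' is bijective for every n > 0. Then for every R-module M in which every element is
killed by a power of I, the map M → R' ⊗_R M sending m to 1 ⊗ m is bijective. -/
theorem result {R R' : Type u} [CommRing R] [CommRing R'] [Algebra R R']
    (I : Ideal R)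
    (hq : ∀ n : ℕ, 0 < n → Function.Bijective
      (Ideal.quotientMap (Ideal.map (algebraMap R R') (I ^ n)) (algebraMap R R') Ideal.le_comap_map))
    (M : Type u) [AddCommGroup M] [Module R M] (hM : LocCoh.IsPowerTorsion I M) :
    Function.Bijective (fun m : M => (1 : R') ⊗ₜ[R] m) := by
  classical
  -- approximation
  have happrox : ∀ n, 0 < n → ∀ r' : R', ∃ r : R,
      algebraMap R R' r - r' ∈ Ideal.map (algebraMap R R') (I ^ n) := by
    intro n hn r'
    obtain ⟨x, hx⟩ := (hq n hn).2 (Ideal.Quotient.mk _ r')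
    obtain ⟨r, rfl⟩ := Ideal.Quotient.mk_surjective x
    refine ⟨r, ?_⟩
    rw [Ideal.quotientMap_mk] at hx
    exact Ideal.Quotient.eq.mp hx
  have hinjq : ∀ n, 0 < n → ∀ r : R, algebraMap R R' r ∈ Ideal.map (algebraMap R R') (I ^ n) →
      r ∈ I ^ n := by
    intro n hn r hr
    have h1 : Ideal.quotientMap (Ideal.map (algebraMap R R') (I ^ n)) (algebraMap R R')
        Ideal.le_comap_map (Ideal.Quotient.mk _ r) = 0 := by
      rw [Ideal.quotientMap_mk]
      exact Ideal.Quotient.eq_zero_iff_mem.mpr hr
    have h2 := (hq n hn).1 (h1.trans (map_zero _).symm)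
    exact Ideal.Quotient.eq_zero_iff_mem.mp h2
  -- killed
  have hkill_mono : ∀ (m : M) (n k : ℕ), n ≤ k → (∀ a ∈ I ^ n, a • m = 0) → ∀ a ∈ I ^ k, a • m = 0 :=
    fun m n k hnk h a ha => h a (Ideal.pow_le_pow_right hnk ha)
  -- tensors with elements of the extended ideal vanish
  have hvan : ∀ (n : ℕ) (m : M), (∀ a ∈ I ^ n, a • m = 0) →
      ∀ x ∈ Ideal.map (algebraMap R R') (I ^ n), x ⊗ₜ[R] m = 0 := by
    intro n m hm x hx
    rw [Ideal.map] at hx
    induction hx using Submodule.span_induction with
    | mem x hx =>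
      obtain ⟨a, ha, rfl⟩ := hx
      rw [← mul_one (algebraMap R R' a), ← Algebra.smul_def, smul_tmul, hm a ha, tmul_zero]
    | zero => exact zero_tmul _ _
    | add x y _ _ hx hy => rw [add_tmul, hx, hy, add_zero]
    | smul c x _ hx =>
      rw [smul_eq_mul, ← smul_eq_mul, ← smul_tmul', hx, smul_zero]
  constructor
  · -- injectivity via a retraction
    -- the candidate values
    have hval : ∀ (r' : R') (m : M), ∃ v : M, ∀ n, 0 < n → (∀ a ∈ I ^ n, a • m = 0) →
        ∀ r : R, algebraMap R R' r - r' ∈ Ideal.map (algebraMap R R') (I ^ n) → v = r • m := by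
      intro r' m
      obtain ⟨n0, hn0⟩ := hM m
      have hn0' : ∀ a ∈ I ^ (n0 + 1), a • m = 0 := hkill_mono m n0 (n0 + 1) (Nat.le_succ _) hn0
      obtain ⟨r0, hr0⟩ := happrox (n0 + 1) (Nat.succ_pos _) r'
      refine ⟨r0 • m, ?_⟩
      intro n hn hnm r hr
      -- k = min
      have hk : 0 < min n (n0 + 1) := lt_min hn (Nat.succ_pos _)
      have hdiff : algebraMap R R' (r0 - r) ∈ Ideal.map (algebraMap R R') (I ^ (min n (n0 + 1))) := by
        have h1 : algebraMap R R' (r0 - r) = (algebraMap R R' r0 - r') - (algebraMap R R' r - r') := by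
          rw [map_sub]; ring
        rw [h1]
        refine Ideal.sub_mem _ ?_ ?_
        · exact Ideal.map_mono (Ideal.pow_le_pow_right (min_le_right _ _)) hr0
        · exact Ideal.map_mono (Ideal.pow_le_pow_right (min_le_left _ _)) hr
      have hmem := hinjq _ hk _ hdiff
      have hkm : ∀ a ∈ I ^ (min n (n0 + 1)), a • m = 0 := by
        rcases min_choice n (n0 + 1) with h | h
        · rw [h]; exact hnm
        · rw [h]; exact hn0'
      have := hkm _ hmem
      rw [sub_smul, sub_eq_zero] at this
      exact this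
    choose sm hsm using hval
    -- a convenient way to compute sm
    have hcomp : ∀ (r' : R') (m : M) (n : ℕ), (∀ a ∈ I ^ n, a • m = 0) →
        ∀ r : R, algebraMap R R' r - r' ∈ Ideal.map (algebraMap R R') (I ^ (n + 1)) →
        sm r' m = r • m := by
      intro r' m n hn r hr
      exact hsm r' m (n + 1) (Nat.succ_pos _) (hkill_mono m n (n + 1) (Nat.le_succ _) hn) r hr
    let β : R' →ₗ[R] M →ₗ[R] M :=
      LinearMap.mk₂ R sm
        (by
          intro r1 r2 m
          obtain ⟨n, hn⟩ := hM m
          obtain ⟨s1, hs1⟩ := happrox (n + 1) (Nat.succ_pos _) r1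
          obtain ⟨s2, hs2⟩ := happrox (n + 1) (Nat.succ_pos _) r2
          rw [hcomp r1 m n hn s1 hs1, hcomp r2 m n hn s2 hs2, ← add_smul]
          apply hcomp _ m n hn
          have : algebraMap R R' (s1 + s2) - (r1 + r2) =
              (algebraMap R R' s1 - r1) + (algebraMap R R' s2 - r2) := by rw [map_add]; ring
          rw [this]
          exact Ideal.add_mem _ hs1 hs2)
        (by
          intro c r' m
          obtain ⟨n, hn⟩ := hM m
          obtain ⟨s, hs⟩ := happrox (n + 1) (Nat.succ_pos _) r'
          rw [hcomp r' m n hn s hs, ← mul_smul]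
          apply hcomp _ m n hn
          have : algebraMap R R' (c * s) - c • r' = algebraMap R R' c * (algebraMap R R' s - r') := by
            rw [map_mul, Algebra.smul_def]; ring
          rw [this]
          exact Ideal.mul_mem_left _ _ hs)
        (by
          intro r' m1 m2
          obtain ⟨n1, hn1⟩ := hM m1
          obtain ⟨n2, hn2⟩ := hM m2
          have h1 := hkill_mono m1 n1 (max n1 n2) (le_max_left _ _) hn1
          have h2 := hkill_mono m2 n2 (max n1 n2) (le_max_right _ _) hn2
          have h12 : ∀ a ∈ I ^ (max n1 n2), a • (m1 + m2) = 0 := fun a ha => by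
            rw [smul_add, h1 a ha, h2 a ha, add_zero]
          obtain ⟨s, hs⟩ := happrox (max n1 n2 + 1) (Nat.succ_pos _) r'
          rw [hcomp r' m1 _ h1 s hs, hcomp r' m2 _ h2 s hs, hcomp r' (m1 + m2) _ h12 s hs, smul_add])
        (by
          intro c r' m
          obtain ⟨n, hn⟩ := hM m
          have hcm : ∀ a ∈ I ^ n, a • (c • m) = 0 := fun a ha => by
            rw [smul_comm, hn a ha, smul_zero]
          obtain ⟨s, hs⟩ := happrox (n + 1) (Nat.succ_pos _) r'
          rw [hcomp r' m n hn s hs, hcomp r' (c • m) n hcm s hs, smul_comm])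
    let ρ : R' ⊗[R] M →ₗ[R] M := TensorProduct.lift β
    have hρ : ∀ m, ρ ((1 : R') ⊗ₜ[R] m) = m := by
      intro m
      show sm 1 m = m
      obtain ⟨n, hn⟩ := hM m
      rw [hcomp 1 m n hn 1 (by rw [map_one, sub_self]; exact Ideal.zero_mem _), one_smul]
    exact Function.LeftInverse.injective hρ
  · intro z
    induction z with
    | zero => exact ⟨0, tmul_zero _ _⟩
    | add x y hx hy =>
      obtain ⟨a, ha⟩ := hx
      obtain ⟨b, hb⟩ := hy
      exact ⟨a + b, by simp only [tmul_add]; rw [← ha, ← hb]⟩
    | tmul r' m =>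
      obtain ⟨n, hn⟩ := hM m
      obtain ⟨s, hs⟩ := happrox (n + 1) (Nat.succ_pos _) r'
      refine ⟨s • m, ?_⟩
      show (1 : R') ⊗ₜ[R] (s • m) = r' ⊗ₜ[R] m
      have h1 : (1 : R') ⊗ₜ[R] (s • m) = (algebraMap R R' s) ⊗ₜ[R] m := by
        rw [← smul_tmul, Algebra.smul_def, mul_one]
      have h2 := hvan (n + 1) m (hkill_mono m n (n + 1) (Nat.le_succ _) hn) _ hs
      rw [sub_tmul, sub_eq_zero] at h2
      rw [h1, h2]


end Groth.Agent.S7041
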