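import Groth.Statements.S7042
import Mathlib
import Groth.Agent.H4.DComp11

set_option autoImplicit false
universe u
attribute [local instance] HasDerivedCategory.standard
open DRing

namespace Groth.Agent.S7042

open CategoryTheory
open Groth.Agent.H4.DComp


lemma pow_add_le {A : Type u} [CommRing A] (f : A) (I' : Ideal A) (k : ℕ) : ∀ n : ℕ,
    (Ideal.span {f} ⊔ I') ^ (n + k) ≤ I' ^ n ⊔ Ideal.span {f ^ k} := by
  induction k with
  | zero =>
    intro n
    rw [pow_zero, Ideal.span_singleton_one]
    exact le_sup_of_le_right le_top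
  | succ k ih =>
    intro n
    refine (pow_succ_le f I' (n + k)).trans ?_
    apply sup_le
    · refine (Ideal.mul_mono_right (ih n)).trans ?_
      rw [Ideal.mul_sup]
      apply sup_le
      · exact le_sup_of_le_left Ideal.mul_le_right
      · rw [Ideal.span_singleton_mul_span_singleton, ← pow_succ']
        exact le_sup_right
    · exact le_sup_of_le_left (Ideal.pow_le_pow_right (by omega))

theorem bounded {A : Type u} [CommRing A] (M : Type u) [AddCommGroup M] [Module A M]
    (s : Finset A) (h : ∀ g ∈ s, ∃ n : ℕ, ∀ m : M, g ^ n • m = 0) :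
    ∃ N : ℕ, (Ideal.span (s : Set A)) ^ N • (⊤ : Submodule A M) = ⊥ := by
  classical
  induction s using Finset.induction_on with
  | empty =>
    refine ⟨1, ?_⟩
    simp
  | insert f s hfs ih =>
    obtain ⟨N', hN'⟩ := ih (fun g hg => h g (Finset.mem_insert_of_mem hg))
    obtain ⟨n, hn⟩ := h f (Finset.mem_insert_self f s)
    refine ⟨N' + n, ?_⟩
    rw [Finset.coe_insert, Ideal.span_insert, eq_bot_iff]
    refine (Submodule.smul_mono_left (pow_add_le f _ n N')).trans ?_
    rw [Submodule.sup_smul, hN', bot_sup_eq, Submodule.ideal_span_singleton_smul]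
    rintro x hx
    rw [Submodule.mem_smul_pointwise_iff_exists] at hx
    obtain ⟨w, -, rfl⟩ := hx
    rw [hn w]
    exact Submodule.zero_mem _

/-- Let I be a finitely generated ideal of a commutative ring A and let M be an A-module which, placed
in degree 0, is derived complete with respect to I, and in which every element is killed by a power
of I. Then a single power of I kills M. -/
theorem result {A : Type u} [CommRing A]
    (I : Ideal A) (hI : I.FG) (M : Type u) [AddCommGroup M] [Module A M]
    (hc : DRing.IsDerivedComplete I (Dual.inD A M)) (ht : LocCoh.IsPowerTorsion I M) :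
    ∃ n : ℕ, I ^ n • (⊤ : Submodule A M) = ⊥ := by
  rw [isDerivedComplete_inD_iff] at hc
  obtain ⟨s, rfl⟩ := hI
  apply bounded M s
  intro g hg
  have hgI : g ∈ Ideal.span (s : Set A) := Ideal.subset_span hg
  apply exists_pow_smul_eq_zero g (hc g hgI)
  intro m
  obtain ⟨n, hn⟩ := ht m
  exact ⟨n, hn _ (Ideal.pow_mem_pow hgI n)⟩


end Groth.Agent.S7042
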