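import Groth.Statements.S7043
import Mathlib
import Groth.Agent.H4.DComp3

set_option autoImplicit false
universe u
attribute [local instance] HasDerivedCategory.standard
open DRing

namespace Groth.Agent.S7043

open Groth.Agent.H4.DComp



/-- Let f be an element of a commutative ring A and let M be an A-module which, placed in degree 0, is
derived complete with respect to the ideal (f). Then the ideal J = ⋂ f^n A annihilates the submodule
⋂ f^n M, which is the kernel of M → lim M/f^n M. (The case M = A says that J has square zero when A
itself is derived complete.) -/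
theorem result {A : Type u} [CommRing A] (f : A)
    (M : Type u) [AddCommGroup M] [Module A M]
    (hc : DRing.IsDerivedComplete (Ideal.span {f}) (Dual.inD A M)) :
    (⨅ n : ℕ, Ideal.span {f ^ n}) • (⨅ n : ℕ, (Ideal.span {f ^ n}) • (⊤ : Submodule A M)) = (⊥ : Submodule A M) := by
  rw [isDerivedComplete_inD_iff] at hc
  have hinj := (hc f (Ideal.subset_span rfl)).1
  rw [eq_bot_iff]
  apply Submodule.smul_le.2
  intro a ha x hx
  rw [Submodule.mem_bot]
  have ha' : ∀ n : ℕ, ∃ c, a = f ^ n * c := by
    intro n
    have := (Submodule.mem_iInf _).1 ha n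
    rw [Ideal.mem_span_singleton] at this
    exact this
  choose c hc' using ha'
  have hx' : ∀ n : ℕ, ∃ z : M, x = f ^ n • z := by
    intro n
    have := (Submodule.mem_iInf _).1 hx n
    rw [Submodule.ideal_span_singleton_smul, Submodule.mem_smul_pointwise_iff_exists] at this
    obtain ⟨z, -, hz⟩ := this
    exact ⟨z, hz.symm⟩
  choose z hz using hx'
  have h0 : (fun n => c n • x) = 0 := by
    apply (Psi_injective_iff f).1 hinj
    funext n
    simp only [Psi_apply, Pi.zero_apply]
    rw [smul_smul, ← sub_smul]
    have h1 : f ^ n * (c n - f * c (n + 1)) = 0 := by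
      rw [mul_sub, ← hc' n, ← mul_assoc, ← pow_succ, ← hc' (n + 1), sub_self]
    conv_lhs => rw [hz n]
    rw [smul_smul, mul_comm, h1, zero_smul]
  have h2 := congrFun h0 0
  simp only [Pi.zero_apply] at h2
  have h3 : a = c 0 := by
    have := hc' 0
    simpa using this
  rw [h3]
  exact h2


end Groth.Agent.S7043
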