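import Groth.Statements.S7046
import Mathlib
import Groth.Agent.H4.DComp12

set_option autoImplicit false
universe u
attribute [local instance] HasDerivedCategory.standard
open DRing

namespace Groth.Agent.S7046

open CategoryTheory
open Groth.Agent.H4.DComp



/-- A reduced commutative ring A which, placed in degree 0 of D(A), is derived complete with respect to
a finitely generated ideal I is I-adically complete, i.e. separated and complete for the I-adic
topology. -/
theorem result {A : Type u} [CommRing A] [IsReduced A]
    (I : Ideal A) (hI : I.FG) (hc : DRing.IsDerivedComplete I (Dual.inD A A)) :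
    IsAdicComplete I A := by
  rw [isDerivedComplete_inD_iff] at hc
  obtain ⟨s, rfl⟩ := hI
  have hs : ∀ g ∈ s, Function.Bijective (Psi g A) := fun g hg => hc g (Ideal.subset_span hg)
  haveI : IsPrecomplete (Ideal.span (s : Set A)) A := isPrecomplete_span s (fun g hg => (hs g hg).2)
  haveI : IsHausdorff (Ideal.span (s : Set A)) A := by
    rw [isHausdorff_iff]
    intro x hx
    have hJ := iInf_pow_pow_eq_bot s.card A s le_rfl hs
    have hxJ : x ∈ ⨅ n : ℕ, (Ideal.span (s : Set A)) ^ n := by
      rw [Submodule.mem_iInf]
      intro n
      have := hx n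
      rw [SModEq.sub_mem, sub_zero, smul_eq_mul, Ideal.mul_top] at this
      exact this
    have h1 : x ^ (2 ^ s.card) ∈ (⨅ n : ℕ, (Ideal.span (s : Set A)) ^ n) ^ (2 ^ s.card) :=
      Ideal.pow_mem_pow hxJ _
    rw [hJ, Ideal.mem_bot] at h1
    exact eq_zero_of_pow_eq_zero h1
  exact { }


end Groth.Agent.S7046
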