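import Groth.Statements.S7053
import Mathlib
import Groth.Agent.H4.DComp3

set_option autoImplicit false
universe u
attribute [local instance] HasDerivedCategory.standard
open DRing

namespace Groth.Agent.S7053

open Groth.Agent.H4.DComp


/-- if `f` is surjective on a module complete along `f`, the module vanishes. -/
lemma subsingleton_of_smul_surjective {A : Type u} [CommRing A] (f : A) (M : Type u) [AddCommGroup M]
    [Module A M] (hM : Function.Injective (Psi f M)) (hs : ∀ x : M, ∃ y : M, x = f • y) :
    Subsingleton M := by
  refine ⟨fun a b => ?_⟩
  suffices H : ∀ x : M, x = 0 from (H a).trans (H b).symm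
  intro x
  choose g hg using hs
  let z : ℕ → M := fun n => Nat.rec x (fun _ y => g y) n
  have hz : ∀ n, z n = f • z (n + 1) := fun n => hg (z n)
  have h0 : z = 0 := by
    apply (Psi_injective_iff f).1 hM
    funext n
    simp only [Psi_apply, Pi.zero_apply]
    rw [← hz n, sub_self]
  exact congrFun h0 0

theorem nak {A : Type u} [CommRing A] (s : Finset A) : ∀ (M : Type u) [AddCommGroup M] [Module A M],
    (∀ f ∈ s, Function.Bijective (Psi f M)) →
    (Ideal.span (s : Set A)) • (⊤ : Submodule A M) = ⊤ → Subsingleton M := by
  classical
  induction s using Finset.induction_on with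
  | empty =>
    intro M _ _ _ h
    simp only [Finset.coe_empty, Ideal.span_empty, Submodule.bot_smul] at h
    exact (Submodule.subsingleton_iff A).1 (subsingleton_of_bot_eq_top h)
  | insert f s hfs ih =>
    intro M _ _ hM h
    let u : M →ₗ[A] M := f • LinearMap.id
    have hN : Subsingleton (M ⧸ LinearMap.range u) := by
      apply ih
      · intro g hg
        exact Psi_bijective_coker g u (hM g (Finset.mem_insert_of_mem hg))
          (hM g (Finset.mem_insert_of_mem hg))
      · rw [eq_top_iff]
        rintro y -
        obtain ⟨m, rfl⟩ := Submodule.mkQ_surjective _ y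
        have hm : m ∈ (Ideal.span ((insert f s : Finset A) : Set A)) • (⊤ : Submodule A M) := by
          rw [h]; trivial
        rw [Finset.coe_insert, Ideal.span_insert, Submodule.sup_smul] at hm
        obtain ⟨m₁, hm₁, m₂, hm₂, rfl⟩ := Submodule.mem_sup.1 hm
        rw [map_add]
        have h1 : (LinearMap.range u).mkQ m₁ = 0 := by
          rw [Submodule.mkQ_apply, Submodule.Quotient.mk_eq_zero]
          rw [Submodule.ideal_span_singleton_smul, Submodule.mem_smul_pointwise_iff_exists] at hm₁
          obtain ⟨z, -, hz⟩ := hm₁
          exact ⟨z, hz⟩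
        rw [h1, zero_add]
        have h2 : (LinearMap.range u).mkQ m₂ ∈
            Submodule.map (LinearMap.range u).mkQ ((Ideal.span (s : Set A)) • (⊤ : Submodule A M)) :=
          Submodule.mem_map_of_mem hm₂
        rw [Submodule.map_smul''] at h2
        exact Submodule.smul_mono le_rfl le_top h2
    apply subsingleton_of_smul_surjective f M (hM f (Finset.mem_insert_self f s)).1
    intro x
    have : (LinearMap.range u).mkQ x = 0 := Subsingleton.elim _ _
    rw [Submodule.mkQ_apply, Submodule.Quotient.mk_eq_zero] at this
    obtain ⟨y, hy⟩ := this
    exact ⟨y, hy.symm⟩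

/-- For a commutative ring A, a finitely generated ideal I and an A-module M which, placed in degree 0
of D(A), is derived complete with respect to I, if IM = M then M = 0. -/
theorem result {A : Type u} [CommRing A] (I : Ideal A) (hI : I.FG)
    (M : Type u) [AddCommGroup M] [Module A M] (hc : DRing.IsDerivedComplete I (Dual.inD A M))
    (h : I • (⊤ : Submodule A M) = ⊤) : Subsingleton M := by
  rw [isDerivedComplete_inD_iff] at hc
  obtain ⟨s, rfl⟩ := hI
  exact nak s M (fun f hf => hc f (Ideal.subset_span hf)) h


end Groth.Agent.S7053
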