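import Groth.Statements.S7054
import Mathlib
import Groth.Agent.H4.DComp9

set_option autoImplicit false
universe u
attribute [local instance] HasDerivedCategory.standard
open DRing

namespace Groth.Agent.S7054

open CategoryTheory
open Groth.Agent.H4.DComp



/-- For a commutative ring A and an ideal I such that A, placed in degree 0, is derived complete with
respect to I, every object of D(A) isomorphic to a bounded above complex of finite free A-modules is
derived complete with respect to I. -/
theorem result {A : Type u} [CommRing A] (I : Ideal A)
    (hA : DRing.IsDerivedComplete I (Dual.inD A A)) (K : Dual.D A) (hK : DRing.IsPseudoCoherent' A K) :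
    DRing.IsDerivedComplete I K := by
  obtain ⟨E, b, -, hfree, ⟨e⟩⟩ := hK
  rw [isDerivedComplete_inD_iff] at hA
  rw [isDerivedComplete_iff_LO]
  intro f hf
  refine (isTriSub_LO f).iso e (LO_toD_of_termwise f E (fun i => ?_))
  haveI := (hfree i).1
  haveI := (hfree i).2
  exact Psi_bijective_of_finite_free f (E.X i) (hA f hf)


end Groth.Agent.S7054
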