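import Groth.Statements.S7062
import Groth.Agent.Lib.Helper2.BLTor

set_option autoImplicit false
universe u
open EtGlue

namespace Groth.Agent.S7062

/-- For a glueing pair (R → R', f), i.e. R/f^nR → R'/f^nR' is bijective for all n > 0 and the sequence 0
→ R → R' ⊕ R_f → R'_f → 0 is exact, the group Tor_1^R(R', f^n R) vanishes for every n > 0 (Tor
computed by resolving the second argument, the ideal f^n R). -/
theorem result {R R' : Type u} [CommRing R] [CommRing R'] [Algebra R R']
    (f : R) (h : EtGlue.IsGlueingPair R R' f) (n : ℕ) (hn : 0 < n) :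
    Subsingleton (DRing.Tor R 1 R' ↥(Ideal.span ({f ^ n} : Set R))) := by
  have hb := Groth.Agent.H2.BL.baseChange_away_bijective_of_injective (f := f)
    (Submodule.subtype (Ideal.span ({f ^ n} : Set R))) (Submodule.subtype_injective _) (fun y => by
      refine ⟨n, ⟨⟨f ^ n • y, ?_⟩, rfl⟩⟩
      rw [smul_eq_mul]
      exact Ideal.mul_mem_right _ _ (Ideal.mem_span_singleton_self _))
  haveI : Module.Flat (Localization.Away f)
      (TensorProduct (R := R) (Localization.Away f) ↥(Ideal.span ({f ^ n} : Set R))) :=
    Module.Flat.of_linearEquiv (LinearEquiv.ofBijective _ hb)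
  exact Groth.Agent.H2.BL.subsingleton_tor_one_of_flat_away h _

end Groth.Agent.S7062
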