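import Groth.Statements.S7065
import Mathlib

set_option autoImplicit false
universe u
open EtGlue

namespace Groth.Agent.S7065

/-- Let R → R' be a homomorphism of commutative rings and f an element of R such that the induced map
R/fR → R'/fR' is bijective. Then Spec(R') ⊔ Spec(R_f) → Spec(R) is surjective: every prime of R is
the contraction of a prime of R' or of a prime of R_f. -/
theorem result {R R' : Type u} [CommRing R] [CommRing R']
    [Algebra R R'] (f : R)
    (hq : Function.Bijective
      (Ideal.quotientMap (Ideal.map (algebraMap R R') (Ideal.span {f})) (algebraMap R R') Ideal.le_comap_map))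
    (p : PrimeSpectrum R) :
    (∃ q : PrimeSpectrum R', PrimeSpectrum.comap (algebraMap R R') q = p) ∨
      ∃ q : PrimeSpectrum (Localization.Away f), PrimeSpectrum.comap (algebraMap R (Localization.Away f)) q = p := by
  by_cases hf : f ∈ p.asIdeal
  · left
    -- p contains (f): transport p/(f) along the bijection to R'/fR'
    set J : Ideal R' := Ideal.map (algebraMap R R') (Ideal.span {f}) with hJ
    set ψ := Ideal.quotientMap J (algebraMap R R') Ideal.le_comap_map with hψ
    let e : (R ⧸ Ideal.span {f}) ≃+* (R' ⧸ J) := RingEquiv.ofBijective ψ hq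
    have hle : Ideal.span {f} ≤ p.asIdeal := by
      rw [Ideal.span_le, Set.singleton_subset_iff]; exact hf
    -- the prime p/(f) of R/(f)
    let pbar : Ideal (R ⧸ Ideal.span {f}) := p.asIdeal.map (Ideal.Quotient.mk (Ideal.span {f}))
    have hpbar : pbar.IsPrime :=
      Ideal.map_isPrime_of_surjective Ideal.Quotient.mk_surjective (by
        rw [Ideal.mk_ker]; exact hle)
    have hcomap : pbar.comap (Ideal.Quotient.mk (Ideal.span {f})) = p.asIdeal := by
      rw [Ideal.comap_map_of_surjective _ Ideal.Quotient.mk_surjective,
        ← RingHom.ker_eq_comap_bot, Ideal.mk_ker]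
      exact sup_eq_left.mpr hle
    let q : Ideal R' := (pbar.comap e.symm.toRingHom).comap (Ideal.Quotient.mk J)
    have : (pbar.comap e.symm.toRingHom).IsPrime := Ideal.comap_isPrime _ _
    have hqp : q.IsPrime := Ideal.comap_isPrime _ _
    refine ⟨⟨q, hqp⟩, ?_⟩
    apply PrimeSpectrum.ext
    show q.comap (algebraMap R R') = p.asIdeal
    rw [← hcomap]
    ext x
    simp only [q, Ideal.mem_comap]
    have : e.symm.toRingHom (Ideal.Quotient.mk J (algebraMap R R' x)) =
        Ideal.Quotient.mk (Ideal.span {f}) x := by
      have h1 : Ideal.Quotient.mk J (algebraMap R R' x) = e (Ideal.Quotient.mk (Ideal.span {f}) x) := by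
        simp [e, ψ]
      rw [h1]
      simp
    rw [this]
  · right
    have hdisj : Disjoint (Submonoid.powers f : Set R) (p.asIdeal : Set R) := by
      rw [Set.disjoint_left]
      rintro x ⟨n, rfl⟩ hx
      exact hf (p.isPrime.mem_of_pow_mem n hx)
    refine ⟨⟨p.asIdeal.map (algebraMap R (Localization.Away f)),
      IsLocalization.isPrime_of_isPrime_disjoint (Submonoid.powers f) _ _ p.isPrime hdisj⟩, ?_⟩
    apply PrimeSpectrum.ext
    exact IsLocalization.comap_map_of_isPrime_disjoint (Submonoid.powers f) _ p.isPrime hdisj

end Groth.Agent.S7065
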