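import Groth.Statements.S7073
import Mathlib
import Groth.Agent.H4.RelPC3
import Groth.Agent.H4.Perf1

set_option autoImplicit false
universe u
attribute [local instance] HasDerivedCategory.standard
open Dual2

namespace Groth.Agent.S7073

open CategoryTheory CategoryTheory.Limits
open DRing

open Groth.Agent.H4.PCHom Groth.Agent.H4.PC Groth.Agent.H4.RelPC DerivedCategory

/-- restriction of a flat module along a flat ring map is flat. -/
lemma flat_restrictScalars {R A : Type u} [CommRing R] [CommRing A] [Algebra R A] [Module.Flat R A]
    (M : ModuleCat.{u} A) [Module.Flat A M] :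
    Module.Flat R ((ModuleCat.restrictScalars.{u} (algebraMap R A)).obj M) := by
  letI : Module R M := Module.compHom M (algebraMap R A)
  haveI : IsScalarTower R A M := IsScalarTower.of_algebraMap_smul (fun r x => rfl)
  exact Module.Flat.trans R A M

/-- For a flat homomorphism of finite presentation R → A of commutative rings, every perfect object of
D(A) is R-perfect, i.e. pseudo-coherent over A and of finite tor dimension as a complex of
R-modules. -/
theorem result (R A : Type u) [CommRing R] [CommRing A] [Algebra R A]
    [Module.Flat R A] [Algebra.FinitePresentation R A] (K : Dual.D A) (hK : DRing.IsPerfect A K) :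
    Dual2.IsRelPerfect R A K := by
  refine ⟨Groth.Agent.H4.Perf.isPC'_of_isPerfect hK, ?_⟩
  obtain ⟨E, a, b, hv, hp, ⟨e⟩⟩ := hK
  refine ⟨a, b, ((ModuleCat.restrictScalars.{u} (algebraMap R A)).mapHomologicalComplex (ComplexShape.up ℤ)).obj E,
    fun i hi => (ModuleCat.restrictScalars.{u} (algebraMap R A)).map_isZero (hv i hi),
    fun i => ?_, ⟨?_⟩⟩
  · haveI := (hp i).2
    exact flat_restrictScalars (E.X i)
  · exact ((ModuleCat.restrictScalars.{u} (algebraMap R A)).mapDerivedCategoryFactors.app E).symm ≪≫
      (restrictD (algebraMap R A)).mapIso e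


end Groth.Agent.S7073
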