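import Groth.Statements.S7074
import Mathlib
import Groth.Agent.H4.FlatFPPC3
import Groth.Agent.H4.Perf1
import Groth.Agent.H4.RestrPC
import Groth.Prelude.Def_DualSh

set_option autoImplicit false
universe u
attribute [local instance] HasDerivedCategory.standard
open CategoryTheory
open Dual2

namespace Groth.Agent.S7074

open CategoryTheory CategoryTheory.Limits DerivedCategory DRing Groth.Agent.H4.PC Groth.Agent.H4.PCHom Groth.Agent.H4.LDer Groth.Agent.H4.TorAmp Groth.Agent.H4.Perf Groth.Agent.H4.RestrPC Groth.Agent.H4.PCDesc


variable {R A : Type u} [CommRing R] [CommRing A] [Algebra R A]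

lemma flat_restrict [Module.Flat R A] (N : ModuleCat.{u} A) [Module.Flat A N] :
    Module.Flat R ((ModuleCat.restrictScalars.{u} (algebraMap R A)).obj N) := by
  letI : Module R N := Module.compHom N (algebraMap R A)
  haveI : IsScalarTower R A N := ⟨fun r a n => by
    change (r • a) • n = algebraMap R A r • (a • n)
    rw [Algebra.smul_def, mul_smul]⟩
  exact Module.Flat.trans R A N

/-- the `R`-module underlying the opcycles is the quotient. -/
lemma nonempty_restrict_opcycles_iso (F : Cx A) (a : ℤ) :
    Nonempty ((ModuleCat.restrictScalars.{u} (algebraMap R A)).obj (F.opcycles a) ≅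
      ModuleCat.of R ((((GC (ModuleCat.restrictScalars.{u} (algebraMap R A))).obj F).X a) ⧸
        LinearMap.range (((GC (ModuleCat.restrictScalars.{u} (algebraMap R A))).obj F).d
          (a - 1) a).hom)) := by
  set ρ := ModuleCat.restrictScalars.{u} (algebraMap R A) with hρ
  have c1 := F.opcyclesIsCokernel (a - 1) a (by simp)
  have c3 := CokernelCofork.mapIsColimit _ c1 ρ
  exact ⟨IsColimit.coconePointUniqueUpToIso c3
    (ModuleCat.cokernelIsColimit (((GC ρ).obj F).d (a - 1) a))⟩

lemma nonempty_opcycles_iso (F : Cx A) (a : ℤ) :
    Nonempty (F.opcycles a ≅ ModuleCat.of A ((F.X a) ⧸ LinearMap.range (F.d (a - 1) a).hom)) := by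
  have c1 := F.opcyclesIsCokernel (a - 1) a (by simp)
  exact ⟨IsColimit.coconePointUniqueUpToIso c1 (ModuleCat.cokernelIsColimit (F.d (a - 1) a))⟩

/-- For a flat homomorphism of finite presentation R → A of commutative rings and an object K of D(A), K
is R-perfect (pseudo-coherent over A and of finite tor dimension over R) if and only if K is
isomorphic in D(A) to a bounded complex whose terms are finitely presented A-modules that are flat
as R-modules. -/
theorem result (R A : Type u) [CommRing R] [CommRing A] [Algebra R A]
    [Module.Flat R A] [Algebra.FinitePresentation R A] (K : Dual.D A) :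
    Dual2.IsRelPerfect R A K ↔
      ∃ (E : DRing.Cx A) (a b : ℤ), DRing.VanishesOutside E a b ∧
        (∀ i : ℤ, Module.FinitePresentation A (E.X i) ∧
          Module.Flat R ((ModuleCat.restrictScalars (algebraMap R A)).obj (E.X i))) ∧
        Nonempty (DRing.toD E ≅ K) := by
  set ρ := ModuleCat.restrictScalars.{u} (algebraMap R A) with hρ
  constructor
  · rintro ⟨hpc, a, c, hamp⟩
    obtain ⟨F, b, hb, hF, ⟨e⟩⟩ := hpc
    let KR := (GC ρ).obj F
    have e1 : toD KR ≅ (restrictD (algebraMap R A)).obj K :=
      (restrictToDIso (A := R) F).symm ≪≫ (restrictD (algebraMap R A)).mapIso e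
    have hamp' := hasTorAmp_of_iso e1.symm hamp
    have hbR : VanishesAbove KR b := fun i hi => ρ.map_isZero (hb i hi)
    have hflA : ∀ i, Module.Flat A (F.X i) := fun i => by
      haveI := (hF i).1; haveI := (hF i).2; infer_instance
    have hflR : TermwiseFlat KR := fun i => by
      haveI := hflA i
      exact flat_restrict (F.X i)
    have hfc := flat_coker_of_hasTorAmp KR b hbR hflR a c hamp'
    -- `F` is acyclic below `a`
    have hGE : F.IsGE a := by
      rw [CochainComplex.isGE_iff]
      intro i hi
      rw [HomologicalComplex.exactAt_iff_isZero_homology]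
      have h1 := isZero_homology_of_hasTorAmp hamp i (Or.inl hi)
      have h2 := h1.of_iso (Groth.Agent.H4.DComp.restrictHomologyIso (algebraMap R A) K i).symm
      rw [isZero_restrictScalars_iff] at h2
      exact (h2.of_iso ((homologyFunctor (ModuleCat.{u} A) i).mapIso e)).of_iso
        (homologyToDIso F i).symm
    let E := F.truncGE a
    have eE : toD E ≅ K := (asIso (Q.map (F.πTruncGE a))).symm ≪≫ e
    refine ⟨E, a, max a b, ?_, ?_, ⟨eE⟩⟩
    · intro i hi
      rcases hi with hi | hi
      · exact CochainComplex.isZero_of_isStrictlyGE E a i hi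
      · exact (hb i (by have := le_max_right a b; omega)).of_iso
          (F.truncGEXIso a i (by have := le_max_left a b; omega))
    · intro i
      rcases lt_trichotomy i a with hi | hi | hi
      · have hz : IsZero (E.X i) := CochainComplex.isZero_of_isStrictlyGE E a i hi
        haveI := ModuleCat.subsingleton_of_isZero hz
        haveI : Subsingleton (ρ.obj (E.X i)) := ModuleCat.subsingleton_of_isZero (ρ.map_isZero hz)
        exact ⟨inferInstance, inferInstance⟩
      · subst hi
        obtain ⟨j1⟩ := nonempty_opcycles_iso F i
        obtain ⟨j2⟩ := nonempty_restrict_opcycles_iso (R := R) F i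
        have j0 : E.X i ≅ F.opcycles i := F.truncGEXIsoOpcycles i
        constructor
        · haveI := (hF i).1; haveI := (hF i).2
          haveI := (hF (i - 1)).1
          haveI : Module.FinitePresentation A (F.X i) := Module.finitePresentation_of_projective A _
          have hfg : (LinearMap.range (F.d (i - 1) i).hom).FG := by
            rw [LinearMap.range_eq_map]
            exact (Module.Finite.fg_top).map _
          haveI : Module.FinitePresentation A ((F.X i) ⧸ LinearMap.range (F.d (i - 1) i).hom) :=
            Module.finitePresentation_of_surjective (LinearMap.range (F.d (i - 1) i).hom).mkQ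
              (Submodule.mkQ_surjective _)
              (by rw [Submodule.ker_mkQ]; exact hfg)
          exact Module.FinitePresentation.of_equiv (j0 ≪≫ j1).toLinearEquiv.symm
        · exact Module.Flat.of_linearEquiv (ρ.mapIso j0 ≪≫ j2).toLinearEquiv
      · have j0 : E.X i ≅ F.X i := F.truncGEXIso a i hi
        constructor
        · haveI := (hF i).1; haveI := (hF i).2
          haveI : Module.FinitePresentation A (F.X i) := Module.finitePresentation_of_projective A _
          exact Module.FinitePresentation.of_equiv j0.toLinearEquiv.symm
        · haveI : Module.Flat R (ρ.obj (F.X i)) := hflR i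
          exact Module.Flat.of_linearEquiv (ρ.mapIso j0).toLinearEquiv
  · rintro ⟨E, a, b, hz, hterm, ⟨e⟩⟩
    constructor
    · refine isPC'_of_forall_isPC _ (fun m => isPC_of_iso e
        (isPC_of_termwise m E b (fun i hi => hz i (Or.inr hi)) (fun i => ?_)))
      letI : Module R (E.X i) := Module.compHom (E.X i) (algebraMap R A)
      haveI : IsScalarTower R A (E.X i) := ⟨fun r a n => by
        change (r • a) • n = algebraMap R A r • (a • n)
        rw [Algebra.smul_def, mul_smul]⟩
      haveI := (hterm i).1
      haveI : Module.Flat R (E.X i) := (hterm i).2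
      exact isPC_of_isPC' _ (Groth.Agent.H4.FlatFPPC3.isPC'_module_of_fp_flat R A (E.X i)) (m - i)
    · refine ⟨a, b, ?_⟩
      refine hasTorAmp_of_iso ((restrictToDIso (A := R) E).symm ≪≫
        (restrictD (algebraMap R A)).mapIso e) ⟨(GC ρ).obj E, fun i hi => ρ.map_isZero (hz i hi),
          fun i => (hterm i).2, ⟨Iso.refl _⟩⟩


end Groth.Agent.S7074
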