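import Groth.Statements.S7075
import Mathlib
import Groth.Agent.H4.BCSq
import Groth.Agent.H4.PC8
import Groth.Agent.H4.TorAmp3
import Groth.Agent.H4.PCDesc1
import Groth.Agent.S6948

set_option autoImplicit false
universe u
attribute [local instance] HasDerivedCategory.standard
open TensorProduct
open Dual2

namespace Groth.Agent.S7075

open CategoryTheory CategoryTheory.Limits
open DRing

open Groth.Agent.H4.PC Groth.Agent.H4.BCSq Groth.Agent.H4.TorAmp DerivedCategory

attribute [local instance] Algebra.TensorProduct.rightAlgebra in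
theorem core (R A R' : Type u) [CommRing R] [CommRing A] [Algebra R A] [CommRing R'] [Algebra R R']
    [Module.Flat R A] [Algebra.FinitePresentation R A]
    [DRing.HasLBaseChange (Algebra.TensorProduct.includeRight.toRingHom : A →+* R' ⊗[R] A)]
    (K : Dual.D A) (hK : Dual2.IsRelPerfect R A K) :
    Dual2.IsRelPerfect R' (R' ⊗[R] A)
      ((DRing.LBaseChange (Algebra.TensorProduct.includeRight.toRingHom : A →+* R' ⊗[R] A)).obj K) := by
  obtain ⟨hpc, a, b, htor⟩ := hK
  refine ⟨isPC'_of_forall_isPC _ (fun m =>
    Groth.Agent.H4.PCDesc.isPC_LBaseChange _ m K (isPC_of_isPC' _ hpc m)), a, b, ?_⟩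
  obtain ⟨bb, hb⟩ := exists_bound_of_isPC (isPC_of_isPC' _ hpc 0)
  haveI : K.IsLE bb := isLE_of_forall_isZero K bb hb
  haveI : DRing.HasLBaseChange (algebraMap R R') := Groth.Agent.H4.KProj.hasLBaseChange _
  haveI : DRing.HasLBaseChange (algebraMap A (R' ⊗[R] A)) :=
    Groth.Agent.H4.KProj.hasLBaseChange _
  obtain ⟨e⟩ := nonempty_bcIso R R' A (R' ⊗[R] A) K bb
  exact hasTorAmp_of_iso e.symm (Groth.Agent.S6948.result (algebraMap R R') _ a b htor)

/-- Let R → A be a flat homomorphism of finite presentation of commutative rings, R → R' any ring map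
and A' = R' ⊗_R A. If K in D(A) is R-perfect then its derived base change K ⊗^L_A A' (the total left
derived functor of extension of scalars, assumed to exist) is R'-perfect in D(A'). -/
theorem result (R A R' : Type u) [CommRing R] [CommRing A] [Algebra R A] [CommRing R'] [Algebra R R']
    [Module.Flat R A] [Algebra.FinitePresentation R A]
    [DRing.HasLBaseChange (Algebra.TensorProduct.includeRight.toRingHom : A →+* R' ⊗[R] A)]
    (K : Dual.D A) (hK : Dual2.IsRelPerfect R A K) :
    Dual2.IsRelPerfect R' (R' ⊗[R] A)
      ((DRing.LBaseChange (Algebra.TensorProduct.includeRight.toRingHom : A →+* R' ⊗[R] A)).obj K) := by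
  exact core R A R' K hK


end Groth.Agent.S7075
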