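import Groth.Statements.S7076
import Mathlib
import Groth.Agent.H4.BCSq
import Groth.Agent.H4.PC8
import Groth.Agent.H4.TorAmp3
import Groth.Agent.S6952
import Groth.Agent.S6971

set_option autoImplicit false
universe u
attribute [local instance] HasDerivedCategory.standard
open TensorProduct
open Dual2

namespace Groth.Agent.S7076

open CategoryTheory CategoryTheory.Limits
open DRing

open Groth.Agent.H4.PC Groth.Agent.H4.BCSq Groth.Agent.H4.TorAmp DerivedCategory

section
variable (R' A' R : Type u) [CommRing R'] [CommRing A'] [Algebra R' A'] [CommRing R] [Algebra R' R]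

lemma includeRight_surjective (hs : Function.Surjective (algebraMap R' R)) :
    Function.Surjective (Algebra.TensorProduct.includeRight.toRingHom : A' →+* R ⊗[R'] A') := by
  intro x
  induction x using TensorProduct.induction_on with
  | zero => exact ⟨0, map_zero _⟩
  | tmul r a =>
    obtain ⟨r', rfl⟩ := hs r
    refine ⟨r' • a, ?_⟩
    change (1 : R) ⊗ₜ[R'] (r' • a) = algebraMap R' R r' ⊗ₜ[R'] a
    rw [← TensorProduct.smul_tmul, Algebra.smul_def, mul_one]
  | add x y hx hy =>
    obtain ⟨a, ha⟩ := hx
    obtain ⟨b, hb⟩ := hy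
    exact ⟨a + b, by rw [map_add, ha, hb]⟩

lemma includeRight_ker_nilpotent (hs : Function.Surjective (algebraMap R' R))
    (hn : IsNilpotent (RingHom.ker (algebraMap R' R))) :
    IsNilpotent (RingHom.ker
      (Algebra.TensorProduct.includeRight.toRingHom : A' →+* R ⊗[R'] A')) := by
  obtain ⟨N, hN⟩ := hn
  refine ⟨N, ?_⟩
  let f : R' →ₐ[R'] R := Algebra.ofId R' R
  have hf : Function.Surjective f := hs
  have hJ := Algebra.TensorProduct.rTensor_ker (R := R') (S := R') (C := A') f hf
  let ι : A' →+* R' ⊗[R'] A' :=
    (Algebra.TensorProduct.includeRight : A' →ₐ[R'] R' ⊗[R'] A').toRingHom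
  have hι : Function.Injective ι := by
    intro a b hab
    have := congrArg (Algebra.TensorProduct.lid R' A') hab
    simpa [ι] using this
  have hcomp : (Algebra.TensorProduct.includeRight.toRingHom : A' →+* R ⊗[R'] A') =
      (Algebra.TensorProduct.map f (AlgHom.id R' A')).toRingHom.comp ι := by
    ext a
    simp [ι]
  rw [hcomp, ← RingHom.comap_ker]
  have h1 : (RingHom.ker (Algebra.TensorProduct.map f (AlgHom.id R' A')).toRingHom) ^ N = ⊥ := by
    have : RingHom.ker (Algebra.TensorProduct.map f (AlgHom.id R' A')).toRingHom =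
        RingHom.ker (Algebra.TensorProduct.map f (AlgHom.id R' A')) := rfl
    rw [this, hJ, ← Ideal.map_pow]
    have : RingHom.ker f = RingHom.ker (algebraMap R' R) := rfl
    rw [this, hN, Ideal.zero_eq_bot, Ideal.map_bot]
  rw [Ideal.zero_eq_bot, eq_bot_iff]
  refine (Ideal.le_comap_pow _ _).trans ?_
  rw [h1]
  intro a ha
  exact hι (by simpa using ha)

end

attribute [local instance] Algebra.TensorProduct.rightAlgebra in
theorem core (R' A' R : Type u) [CommRing R'] [CommRing A'] [Algebra R' A']
    [CommRing R] [Algebra R' R] [Module.Flat R' A'] [Algebra.FinitePresentation R' A']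
    (hs : Function.Surjective (algebraMap R' R)) (hn : IsNilpotent (RingHom.ker (algebraMap R' R)))
    [DRing.HasLBaseChange (Algebra.TensorProduct.includeRight.toRingHom : A' →+* R ⊗[R'] A')]
    (K' : Dual.D A')
    (hK : Dual2.IsRelPerfect R (R ⊗[R'] A')
      ((DRing.LBaseChange (Algebra.TensorProduct.includeRight.toRingHom : A' →+* R ⊗[R'] A')).obj K')) :
    Dual2.IsRelPerfect R' A' K' := by
  have hφs := includeRight_surjective R' A' R hs
  have hφn := includeRight_ker_nilpotent R' A' R hs hn
  obtain ⟨hpc, a, b, htor⟩ := hK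
  have hpc' : IsPseudoCoherent' A' K' := (Groth.Agent.S6971.result _ hφs hφn K').1 hpc
  refine ⟨hpc', a, b, ?_⟩
  obtain ⟨bb, hb⟩ := exists_bound_of_isPC (isPC_of_isPC' _ hpc' 0)
  haveI : K'.IsLE bb := isLE_of_forall_isZero K' bb hb
  haveI : DRing.HasLBaseChange (algebraMap R' R) := Groth.Agent.H4.KProj.hasLBaseChange _
  haveI : DRing.HasLBaseChange (algebraMap A' (R ⊗[R'] A')) :=
    Groth.Agent.H4.KProj.hasLBaseChange _
  obtain ⟨e⟩ := nonempty_bcIso R' R A' (R ⊗[R'] A') K' bb
  have h2 : HasTorAmplitudeIn R a b ((DRing.LBaseChange (algebraMap R' R)).obj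
      ((restrictD (algebraMap R' A')).obj K')) := hasTorAmp_of_iso e htor
  exact (Groth.Agent.S6952.result (algebraMap R' R) hs hn _ a b).1 h2

/-- Let R' → A' be a flat homomorphism of finite presentation of commutative rings, R' → R a surjective
homomorphism of rings with nilpotent kernel, A = R ⊗_{R'} A', and K' an object of D(A'). If the
derived base change K' ⊗^L_{A'} A (total left derived functor of extension of scalars, assumed to
exist) is R-perfect in D(A), then K' is R'-perfect in D(A'). -/
theorem result (R' A' R : Type u) [CommRing R'] [CommRing A'] [Algebra R' A']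
    [CommRing R] [Algebra R' R] [Module.Flat R' A'] [Algebra.FinitePresentation R' A']
    (hs : Function.Surjective (algebraMap R' R)) (hn : IsNilpotent (RingHom.ker (algebraMap R' R)))
    [DRing.HasLBaseChange (Algebra.TensorProduct.includeRight.toRingHom : A' →+* R ⊗[R'] A')]
    (K' : Dual.D A')
    (hK : Dual2.IsRelPerfect R (R ⊗[R'] A')
      ((DRing.LBaseChange (Algebra.TensorProduct.includeRight.toRingHom : A' →+* R ⊗[R'] A')).obj K')) :
    Dual2.IsRelPerfect R' A' K' := by
  exact core R' A' R hs hn K' hK


end Groth.Agent.S7076
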