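import Groth.Statements.S7078
import Mathlib
import Groth.Agent.H4.TwoTerm3

set_option autoImplicit false
universe u
attribute [local instance] HasDerivedCategory.standard
open CategoryTheory
open DRing

namespace Groth.Agent.S7078

open DerivedCategory Groth.Agent.H4.TwoTerm



/-- For a commutative ring R and an object K of D(R) whose cohomology modules vanish outside degrees -1
and 0, K is represented by a two-term complex K^{-1} → K^0 with K^0 a free R-module. -/
theorem result {R : Type u} [CommRing R] (K : Dual.D R)
    (hK : ∀ i : ℤ, i ≠ -1 → i ≠ 0 → Subsingleton (Dual.HD R K i)) :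
    ∃ E : DRing.Cx R, DRing.VanishesOutside E (-1) 0 ∧ Module.Free R (E.X 0) ∧ Nonempty (DRing.toD E ≅ K) := by
  obtain ⟨A, F, δ, hF, ⟨e⟩⟩ := exists_twoTerm_free K hK
  exact ⟨tt δ, tt_vanishes δ, Module.Free.of_equiv (ttX0 δ).symm, ⟨e⟩⟩


end Groth.Agent.S7078
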