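import Groth.Statements.S7079
import Mathlib
import Groth.Agent.H4.TwoTerm3

set_option autoImplicit false
universe u
attribute [local instance] HasDerivedCategory.standard
open CategoryTheory
open DRing

namespace Groth.Agent.S7079

open DerivedCategory Groth.Agent.H4.TwoTerm



/-- For a Noetherian commutative ring R and an object K of D(R) whose cohomology modules vanish outside
degrees -1 and 0 and are finite modules in those two degrees, K is represented by a two-term complex
K^{-1} → K^0 with K^0 finite free and K^{-1} finite. -/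
theorem result {R : Type u} [CommRing R] [IsNoetherianRing R] (K : Dual.D R)
    (hK : ∀ i : ℤ, i ≠ -1 → i ≠ 0 → Subsingleton (Dual.HD R K i))
    (h1 : Module.Finite R (Dual.HD R K (-1))) (h0 : Module.Finite R (Dual.HD R K 0)) :
    ∃ E : DRing.Cx R, DRing.VanishesOutside E (-1) 0 ∧ Module.Free R (E.X 0) ∧ Module.Finite R (E.X 0) ∧
      Module.Finite R (E.X (-1)) ∧ Nonempty (DRing.toD E ≅ K) := by
  obtain ⟨X, hX, ⟨e⟩⟩ := exists_strict_rep K hK
  -- finiteness of opcycles
  have hι : IsIso (X.homologyι 0) := X.isIso_homologyι 0 1 (by simp)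
    ((hX 1 (Or.inr (by simp))).eq_of_tgt _ _)
  have eo : (homologyFunctor (ModuleCat.{u} R) 0).obj K ≅ X.opcycles 0 :=
    (homologyFunctor (ModuleCat.{u} R) 0).mapIso e ≪≫
      (homologyFunctorFactors (ModuleCat.{u} R) 0).app X ≪≫ (@asIso _ _ _ _ (X.homologyι 0) hι)
  haveI : Module.Finite R (X.opcycles 0) := Module.Finite.equiv eo.toLinearEquiv
  obtain ⟨n, q, hq⟩ := Module.Finite.exists_fin' R (X.opcycles 0)
  have hπ : Function.Surjective (X.pOpcycles 0).hom := by
    rw [← ModuleCat.epi_iff_surjective]
    infer_instance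
  obtain ⟨p, hpq⟩ := Module.projective_lifting_property (X.pOpcycles 0).hom q hπ
  have hex : (ShortComplex.mk (X.d (-1) 0) (X.pOpcycles 0) (X.d_pOpcycles (-1) 0)).Exact :=
    ShortComplex.exact_of_g_is_cokernel _ (X.opcyclesIsCokernel (-1) 0 (by simp))
  rw [ShortComplex.moduleCat_exact_iff] at hex
  let F : ModuleCat.{u} R := ModuleCat.of R (Fin n → R)
  obtain ⟨A, δ, ⟨e'⟩, u, hu⟩ := exists_twoTerm X hX F (ModuleCat.ofHom p) (by
    intro b
    obtain ⟨f, hf⟩ := hq ((X.pOpcycles 0).hom b)
    obtain ⟨a, ha⟩ := hex (b - p f) (by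
      change (X.pOpcycles 0).hom (b - p f) = 0
      rw [map_sub, ← hf]
      have := LinearMap.congr_fun hpq f
      simp only [LinearMap.comp_apply] at this
      rw [this, sub_self])
    refine ⟨f, a, ?_⟩
    change p f + (X.d (-1) 0).hom a = b
    have ha' : (X.d (-1) 0).hom a = b - p f := ha
    rw [ha']
    abel)
  -- finiteness of A
  haveI : Module.Finite R ((homologyFunctor (ModuleCat.{u} R) (-1)).obj (toD X)) :=
    Module.Finite.equiv ((homologyFunctor (ModuleCat.{u} R) (-1)).mapIso e).toLinearEquiv
  haveI : Module.Finite R A := by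
    haveI : Module.Finite R (LinearMap.range u.hom) := Module.Finite.range u.hom
    haveI : Module.Finite R (A ⧸ LinearMap.range u.hom) := by
      haveI : Module.Finite R (LinearMap.range δ.hom) := by
        haveI : IsNoetherian R F := inferInstanceAs (IsNoetherian R (Fin n → R))
        infer_instance
      have hle : LinearMap.ker δ.hom ≤ LinearMap.ker (LinearMap.range u.hom).mkQ := by
        intro a ha
        rw [Submodule.ker_mkQ]
        obtain ⟨h, hh⟩ := hu a ha
        exact ⟨h, hh⟩
      let g : LinearMap.range δ.hom →ₗ[R] A ⧸ LinearMap.range u.hom :=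
        ((LinearMap.ker δ.hom).liftQ _ hle) ∘ₗ (LinearMap.quotKerEquivRange δ.hom).symm.toLinearMap
      refine Module.Finite.of_surjective g ?_
      intro y
      obtain ⟨a, rfl⟩ := Submodule.mkQ_surjective _ y
      refine ⟨LinearMap.quotKerEquivRange δ.hom (Submodule.Quotient.mk a), ?_⟩
      simp [g]
    exact Module.Finite.of_submodule_quotient (LinearMap.range u.hom)
  refine ⟨tt δ, tt_vanishes δ, Module.Free.of_equiv (ttX0 δ).symm, Module.Finite.equiv (ttX0 δ).symm,
    Module.Finite.equiv (ttXm1 δ).symm, ⟨e' ≪≫ e.symm⟩⟩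


end Groth.Agent.S7079
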