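import Groth.Statements.S7081
import Mathlib
import Groth.Agent.H4.TwoTerm2

set_option autoImplicit false
universe u
attribute [local instance] HasDerivedCategory.standard
open CategoryTheory
open DRing

namespace Groth.Agent.S7081

open DerivedCategory Groth.Agent.H4.TwoTerm CategoryTheory.Pretriangulated



/-- Let R be a commutative ring and φ : K₁ → K₂, ψ : K₂ → K₃ morphisms in D(R) between objects whose
cohomology vanishes outside degrees -1 and 0. If φ induces the zero map on H^0 and ψ induces the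
zero map on H^{-1}, then the composite K₁ → K₃ is zero. -/
theorem result {R : Type u} [CommRing R] {K₁ K₂ K₃ : Dual.D R}
    (φ : K₁ ⟶ K₂) (ψ : K₂ ⟶ K₃)
    (h₁ : ∀ i : ℤ, i ≠ -1 → i ≠ 0 → Subsingleton (Dual.HD R K₁ i))
    (h₂ : ∀ i : ℤ, i ≠ -1 → i ≠ 0 → Subsingleton (Dual.HD R K₂ i))
    (h₃ : ∀ i : ℤ, i ≠ -1 → i ≠ 0 → Subsingleton (Dual.HD R K₃ i))
    (hφ : (DerivedCategory.homologyFunctor (ModuleCat.{u} R) 0).map φ = 0)
    (hψ : (DerivedCategory.homologyFunctor (ModuleCat.{u} R) (-1)).map ψ = 0) :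
    φ ≫ ψ = 0 := by
  haveI : K₁.IsLE 0 := isLE_of_subsingleton K₁ 0 (fun i hi => h₁ i (by omega) (by omega))
  haveI : K₃.IsGE (-1) := isGE_of_subsingleton K₃ (-1) (fun i hi => h₃ i (by omega) (by omega))
  obtain ⟨A, B, m₁, m₂, m₃, hT, hA, hB⟩ := exists_truncation_triangle K₂ 0
  haveI : A.IsLE (-1) := hA
  have e1 : φ ≫ m₂ = 0 := by
    apply hom_eq_zero_of_homology 0
    rw [Functor.map_comp, hφ, Limits.zero_comp]
  obtain ⟨φ', hφ'⟩ : ∃ φ' : K₁ ⟶ A, φ = φ' ≫ m₁ := Triangle.coyoneda_exact₂ _ hT φ e1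
  have e2 : m₁ ≫ ψ = 0 := by
    apply hom_eq_zero_of_homology (-1)
    rw [Functor.map_comp, hψ, Limits.comp_zero]
  rw [hφ', Category.assoc, e2, Limits.comp_zero]


end Groth.Agent.S7081
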