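import Groth.Statements.S7082
import Mathlib
import Groth.Agent.H4.TwoTerm3
import Groth.Agent.H4.KHom3

set_option autoImplicit false
universe u
attribute [local instance] HasDerivedCategory.standard
open CategoryTheory
open DRing

namespace Groth.Agent.S7082

open DerivedCategory Groth.Agent.H4.TwoTerm Groth.Agent.H4.KHom



/-- (1)⇔(3): let R be a commutative ring, I an ideal and K an object of D(R) whose cohomology vanishes
outside degrees -1 and 0. Then I annihilates Ext^1_R(K, N) = Hom_{D(R)}(K, N[1]) for every R-module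
N if and only if, for every two-term complex E in degrees -1 and 0 with E^0 projective that
represents K, and every a in I, multiplication by a on E^{-1} factors through the differential
E^{-1} → E^0. -/
theorem result {R : Type u} [CommRing R] (I : Ideal R) (K : Dual.D R)
    (hK : ∀ i : ℤ, i ≠ -1 → i ≠ 0 → Subsingleton (Dual.HD R K i)) :
    (∀ (N : Type u) [AddCommGroup N] [Module R N] (a : R), a ∈ I →
        ∀ ξ : K ⟶ (Dual.inD R N)⟦(1 : ℤ)⟧, a • ξ = 0) ↔
      ∀ (E : DRing.Cx R), DRing.VanishesOutside E (-1) 0 → Module.Projective R (E.X 0) →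
        Nonempty (DRing.toD E ≅ K) → ∀ a : R, a ∈ I →
          ∃ h : E.X 0 ⟶ E.X (-1), E.d (-1) 0 ≫ h = a • 𝟙 (E.X (-1)) := by
  constructor
  · intro H E hE hE0 ⟨ε⟩ a ha
    have hE' : ∀ i : ℤ, i < -1 → Limits.IsZero (E.X i) := fun i hi => hE i (Or.inl hi)
    let c := toSh E hE'
    have h1 := H (E.X (-1)) a ha (ε.inv ≫ Q.map c ≫ (shIso (E.X (-1))).inv)
    have h2 : Q.map (a • c) = 0 := by
      rw [Functor.map_smul]
      have := congrArg (fun ψ => ε.hom ≫ ψ ≫ (shIso (E.X (-1))).hom) h1
      simp only [Linear.smul_comp, Linear.comp_smul, Category.assoc, Iso.inv_hom_id,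
        Category.comp_id, Iso.hom_inv_id_assoc, Limits.zero_comp, Limits.comp_zero] at this
      exact this
    obtain ⟨g, hg⟩ := exists_factor_of_Q_map_eq_zero E (fun i hi => hE i (Or.inr hi)) hE0 _ _ h2
    refine ⟨g ≫ (HomologicalComplex.singleObjXSelf (ComplexShape.up ℤ) (-1) (E.X (-1))).hom, ?_⟩
    rw [← Category.assoc, ← hg]
    rw [HomologicalComplex.smul_f_apply, toSh_f, Linear.smul_comp, Iso.inv_hom_id]
  · intro H N _ _ a ha ξ
    obtain ⟨A, F, δ, hF, ⟨ε⟩⟩ := exists_twoTerm_free K hK
    let E := tt δ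
    have hE := tt_vanishes δ
    haveI : Module.Free R (E.X 0) := Module.Free.of_equiv (ttX0 δ).symm
    have hE0 : Module.Projective R (E.X 0) := inferInstance
    obtain ⟨h, hh⟩ := H E hE hE0 ⟨ε⟩ a ha
    obtain ⟨x, hx⟩ := exists_Q_map_eq E (sh (ModuleCat.of R N))
      (fun i hi => hE i (Or.inr hi)) hE0
      (fun i hi => sh_isZero _ i (by omega)) (ε.hom ≫ ξ ≫ (shIso (ModuleCat.of R N)).hom)
    have h1 : ξ = ε.inv ≫ Q.map x ≫ (shIso (ModuleCat.of R N)).inv := by
      rw [hx, Category.assoc, Category.assoc, Iso.hom_inv_id, Category.comp_id,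
        Iso.inv_hom_id_assoc]
    obtain ⟨Ho⟩ := homotopy_to_sh E (ModuleCat.of R N) (a • x) (h ≫ x.f (-1)) (by
      rw [HomologicalComplex.smul_f_apply, ← Category.assoc, hh, Linear.smul_comp, Category.id_comp])
    have h2 : Q.map (a • x) = 0 := by
      rw [DerivedCategory.Q_map_eq_of_homotopy _ Ho, Functor.map_zero]
    rw [Functor.map_smul] at h2
    rw [h1, ← Linear.comp_smul, ← Linear.smul_comp, h2, Limits.zero_comp, Limits.comp_zero]


end Groth.Agent.S7082
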