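import Groth.Statements.S7084
import Mathlib
import Groth.Agent.H4.Nilp2
import Groth.Agent.H4.RestrPC

set_option autoImplicit false
universe u
attribute [local instance] HasDerivedCategory.standard
open CategoryTheory
open LocCoh

namespace Groth.Agent.S7084

open CategoryTheory CategoryTheory.Limits
open DRing


open MonoidalCategory DerivedCategory Groth.Agent.H4.LDer Groth.Agent.H4.PC Groth.Agent.H4.BC
  Groth.Agent.H4.TV Groth.Agent.H4.PCDesc

/-- Parts (1)–(2) in the case of a module killed by a power of the ideal: let R be a commutative ring, I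
an ideal and K an object of D(R) such that K ⊗^L_R R/I has no cohomology in positive degrees. Then
for every R-module N annihilated by some power of I, K ⊗^L_R N has no cohomology in positive
degrees. (The published statement allows any I-power torsion module N; this row takes N annihilated
by a single power of I, the case the published argument carries out in full, which contains the case
N = R/I^n.) The derived tensor products with modules are total left derived functors, assumed to
exist. -/
theorem result {R : Type u} [CommRing R] (I : Ideal R)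
    [DRing.HasLTensor R (ModuleCat.of R (R ⧸ I))] (K : Dual.D R)
    (hK : ∀ i : ℤ, 0 < i → Subsingleton (Dual.HD R ((DRing.LTensor R (ModuleCat.of R (R ⧸ I))).obj K) i))
    (N : Type u) [AddCommGroup N] [Module R N] (n : ℕ) (hN : I ^ n • (⊤ : Submodule R N) = ⊥)
    [DRing.HasLTensor R (ModuleCat.of R N)] (i : ℤ) (hi : 0 < i) :
    Subsingleton (Dual.HD R ((DRing.LTensor R (ModuleCat.of R N)).obj K) i) := by
  haveI : ∀ M : ModuleCat.{u} R, (Gh (tensorRight M)).HasLeftDerivedFunctor (WA R) :=
    fun M => Groth.Agent.H4.KProj.hasLeftDerivedFunctor _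
  haveI : ∀ M : ModuleCat.{u} (R ⧸ I), (Gh (tensorRight M)).HasLeftDerivedFunctor (WA (R ⧸ I)) :=
    fun M => Groth.Agent.H4.KProj.hasLeftDerivedFunctor _
  set φ := Ideal.Quotient.mk I with hφ
  obtain ⟨T, hT, hf, ⟨e⟩⟩ := Groth.Agent.H4.KProj.exists_kproj_free_iso K
  have hfl : ∀ i, Module.Flat R (T.X i) := fun i => by haveI := hf i; infer_instance
  suffices h : HV (tensorRight (ModuleCat.of R N)) K i from ModuleCat.subsingleton_of_isZero h
  rw [HV_iff_TV T e]
  -- `B ⊗ T` is exact in positive degrees
  have hex : ∀ j : ℤ, 0 < j → ((GC (ModuleCat.extendScalars.{u, u, u} φ)).obj T).ExactAt j := by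
    intro j hj
    haveI := hK j hj
    have h1 : HV (tensorRight (ModuleCat.of R (R ⧸ I))) K j := ModuleCat.isZero_of_subsingleton _
    rw [HV_iff_TV T e] at h1
    have h2 : TV T ((ModuleCat.restrictScalars.{u} φ).obj (ModuleCat.of (R ⧸ I) (R ⧸ I))) j :=
      TV_of_iso T (Groth.Agent.H4.RestrPC.ofIsoRestrict (A := R) (B := R ⧸ I)) j h1
    rw [← TV_restrict_iff] at h2
    exact exactAt_of_iso (GCUnitIso (R ⧸ I) _) j h2
  haveI : (toD ((GC (ModuleCat.extendScalars.{u, u, u} φ)).obj T)).IsLE 0 :=
    isLE_of_exactAt _ 0 hex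
  refine Groth.Agent.H4.NilInd.induction_of_pow_smul_eq_bot I (fun M => TV T M i) ?_ ?_ n
    (ModuleCat.of R N) hN
  · intro M hM
    obtain ⟨N', ⟨eN⟩⟩ := Groth.Agent.H4.NilInd.exists_iso_restrictScalars_of_killed φ
      Ideal.Quotient.mk_surjective M (by rwa [Ideal.mk_ker])
    refine TV_of_iso T eN i ?_
    rw [← TV_restrict_iff]
    haveI := isLE_LG (tensorRight N') (toD ((GC (ModuleCat.extendScalars.{u, u, u} φ)).obj T)) 0
    have h3 : HV (tensorRight N') (toD ((GC (ModuleCat.extendScalars.{u, u, u} φ)).obj T)) i :=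
      isZero_of_isLE _ 0 i hi
    exact (HV_iff_TV _ (Iso.refl _) N' i).1 h3
  · intro S hS h₁ h₃
    exact TV_of_shortExact T hfl S hS i h₁ h₃


end Groth.Agent.S7084
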