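import Groth.Statements.S7085
import Mathlib

set_option autoImplicit false
universe u
open LocCoh

namespace Groth.Agent.S7085

/-- Let R be a commutative ring, I an ideal generated by finitely many elements f_1, …, f_t, and M an
R-module. Then: M has no nonzero element killed by I if and only if it has no nonzero element killed
by I^n for every n ≥ 1; and M has no nonzero element killed by I if and only if an element of M
vanishing in every localization M_{f_i} is zero. -/
theorem result {R : Type u} [CommRing R] {t : ℕ} (f : Fin t → R)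
    (I : Ideal R) (hI : Ideal.span (Set.range f) = I) (M : Type u) [AddCommGroup M] [Module R M] :
    (LocCoh.torsionBy I M = ⊥ ↔ ∀ n : ℕ, 1 ≤ n → LocCoh.torsionBy (I ^ n) M = ⊥) ∧
    (LocCoh.torsionBy I M = ⊥ ↔
      ∀ m : M, (∀ i : Fin t, LocalizedModule.mkLinearMap (Submonoid.powers (f i)) M m = 0) → m = 0) := by
  have part1 : LocCoh.torsionBy I M = ⊥ → ∀ n : ℕ, 1 ≤ n → LocCoh.torsionBy (I ^ n) M = ⊥ := by
    intro h n hn
    induction n, hn using Nat.le_induction with
    | base => simpa using h
    | succ n hn ih =>
      rw [eq_bot_iff]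
      intro x hx
      rw [Submodule.mem_bot]
      have hx' : x ∈ LocCoh.torsionBy (I ^ n) M := by
        rw [Submodule.mem_torsionBySet_iff]
        rintro ⟨b, hb⟩
        have hbx : b • x ∈ LocCoh.torsionBy I M := by
          rw [Submodule.mem_torsionBySet_iff]
          rintro ⟨a, ha⟩
          have := (Submodule.mem_torsionBySet_iff _ _).mp hx ⟨a * b, by
            rw [pow_succ']; exact Ideal.mul_mem_mul ha hb⟩
          simpa [mul_smul] using this
        rw [h] at hbx
        exact (Submodule.mem_bot R).mp hbx
      rw [ih] at hx'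
      exact (Submodule.mem_bot R).mp hx'
  refine ⟨⟨part1, fun h => by simpa using h 1 le_rfl⟩, ?_⟩
  constructor
  · intro h m hm
    -- each f i ^ k i kills m
    have hk : ∀ i : Fin t, ∃ k : ℕ, f i ^ k • m = 0 := by
      intro i
      have := hm i
      rw [LocalizedModule.mkLinearMap_apply, ← LocalizedModule.zero_mk (1 : Submonoid.powers (f i)),
        LocalizedModule.mk_eq] at this
      obtain ⟨⟨_, k, rfl⟩, hu⟩ := this
      refine ⟨k, ?_⟩
      simpa [Submonoid.smul_def] using hu
    choose k hk using hk
    let K := Finset.univ.sup k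
    have hK : ∀ i, f i ^ K • m = 0 := by
      intro i
      have hle : k i ≤ K := Finset.le_sup (f := k) (Finset.mem_univ i)
      obtain ⟨d, hd⟩ := Nat.exists_eq_add_of_le hle
      rw [hd, pow_add, mul_comm, mul_smul, hk i, smul_zero]
    let J : Ideal R := Ideal.span (Set.range fun i => f i ^ K)
    let A : Ideal R := LinearMap.ker (LinearMap.toSpanSingleton R M m)
    have hJA : J ≤ A := by
      rw [Ideal.span_le]
      rintro _ ⟨i, rfl⟩
      simp [A, hK i]
    have hIJ : I ≤ J.radical := by
      rw [← hI, Ideal.span_le]
      rintro _ ⟨i, rfl⟩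
      exact ⟨K, Ideal.subset_span ⟨i, rfl⟩⟩
    have hIfg : I.FG := by
      rw [← hI]
      exact ⟨(Set.finite_range f).toFinset, by simp⟩
    obtain ⟨N, hN⟩ := Ideal.exists_pow_le_of_le_radical_of_fg hIJ hIfg
    have hkill : ∀ a ∈ I ^ N, a • m = 0 := by
      intro a ha
      have := hJA (hN ha)
      simpa [A] using this
    rcases Nat.eq_zero_or_pos N with h0 | hpos
    · subst h0
      have := hkill 1 (by simp)
      simpa using this
    · have hm' : m ∈ LocCoh.torsionBy (I ^ N) M := by
        rw [Submodule.mem_torsionBySet_iff]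
        rintro ⟨a, ha⟩
        exact hkill a ha
      rw [part1 h N hpos] at hm'
      exact (Submodule.mem_bot R).mp hm'
  · intro h
    rw [eq_bot_iff]
    intro x hx
    rw [Submodule.mem_bot]
    apply h
    intro i
    rw [LocalizedModule.mkLinearMap_apply, ← LocalizedModule.zero_mk (1 : Submonoid.powers (f i)),
      LocalizedModule.mk_eq]
    refine ⟨⟨f i, Submonoid.mem_powers _⟩, ?_⟩
    have hfi : f i ∈ I := hI ▸ Ideal.subset_span ⟨i, rfl⟩
    have := (Submodule.mem_torsionBySet_iff _ _).mp hx ⟨f i, hfi⟩
    simp [Submonoid.smul_def, this]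

end Groth.Agent.S7085
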