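import Groth.Statements.S7087
import Mathlib

set_option autoImplicit false
universe u
open LocCoh

namespace Groth.Agent.S7087

/-- Let R be a commutative ring and f_1, …, f_n elements generating an ideal I. Let M be the module with
generators e_1, …, e_n and relations f_i e_j = f_j e_i. Then e_i ↦ f_i defines a surjection M → I
whose kernel is annihilated by I. Elementwise: if a tuple (a_1, …, a_n) in R^n satisfies Σ a_i f_i =
0, then for every b in I the tuple b • a lies in the submodule of R^n spanned by the vectors f_i e_j
− f_j e_i. -/
theorem result {R : Type u} [CommRing R] {n : ℕ} (f : Fin n → R)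
    (a : Fin n → R) (ha : ∑ i, a i * f i = 0) (b : R) (hb : b ∈ Ideal.span (Set.range f)) :
    b • a ∈ Submodule.span R {v : Fin n → R | ∃ i j : Fin n, v = f i • Pi.single j (1 : R) - f j • Pi.single i (1 : R)} := by
  classical
  obtain ⟨c, rfl⟩ := (Ideal.mem_span_range_iff_exists_fun (R := R)).mp hb
  set G : Set (Fin n → R) := {v : Fin n → R | ∃ i j : Fin n, v = f i • Pi.single j (1 : R) - f j • Pi.single i (1 : R)} with hG
  -- key: `f j • a` is a combination of generators
  have key : ∀ j : Fin n, f j • a = ∑ i, a i • (f j • Pi.single i (1 : R) - f i • Pi.single j (1 : R)) := by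
    intro j
    funext k
    simp only [Pi.smul_apply, smul_eq_mul, Finset.sum_apply, Pi.sub_apply, Pi.single_apply, mul_sub]
    rw [Finset.sum_sub_distrib]
    have h1 : ∑ i, a i * (f j * if k = i then (1 : R) else 0) = a k * f j := by
      rw [Finset.sum_eq_single k]
      · simp
      · intro i _ hik
        simp [Ne.symm hik]
      · intro h; exact absurd (Finset.mem_univ k) h
    have h2 : ∑ i, a i * (f i * if k = j then (1 : R) else 0) = 0 := by
      by_cases hkj : k = j
      · simp only [hkj, if_true, mul_one]
        exact ha
      · simp [hkj]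
    rw [h1, h2, sub_zero, mul_comm]
  rw [Finset.sum_smul]
  refine Submodule.sum_mem _ (fun j _ => ?_)
  rw [mul_smul, key j]
  refine Submodule.smul_mem _ _ (Submodule.sum_mem _ (fun i _ => ?_))
  refine Submodule.smul_mem _ _ (Submodule.subset_span ?_)
  exact ⟨j, i, rfl⟩

end Groth.Agent.S7087
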