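import Groth.Statements.S7090
import Groth.Agent.Lib.Helper2.IGlueExt

set_option autoImplicit false
universe u
open TensorProduct
open EtAlg

namespace Groth.Agent.S7090

/-- Let R → S be a flat homomorphism of commutative rings and I = (f_1, …, f_t) a finitely generated
ideal such that R/I → S/IS is bijective. Then for every R-module M the glueing complex 0 → M → (S
⊗_R M) × ∏ M_{f_i} → ∏ (S ⊗_R M)_{f_i} × ∏ M_{f_i f_j} is exact. Concretely: an element of M with
zero image in S ⊗_R M and in every M_{f_i} is zero; and given x in S ⊗_R M and elements m_1, …, m_t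
of M and N ≥ 0 such that x and m_i / f_i^N have the same image in (S ⊗_R M)_{f_i} for each i, and
m_i / f_i^N, m_j / f_j^N have the same image in M_{f_i f_j} for all i, j, there is m in M with 1 ⊗ m
= x and m / 1 = m_i / f_i^N in M_{f_i} for every i. -/
theorem result {R S : Type u} [CommRing R] [CommRing S] [Algebra R S] [Module.Flat R S]
    {t : ℕ} (f : Fin t → R) (I : Ideal R) (hI : Ideal.span (Set.range f) = I)
    (hq : Function.Bijective
      (Ideal.quotientMap (Ideal.map (algebraMap R S) I) (algebraMap R S) Ideal.le_comap_map))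
    (M : Type u) [AddCommGroup M] [Module R M] :
    (∀ m : M, (1 : S) ⊗ₜ[R] m = 0 →
        (∀ i : Fin t, LocalizedModule.mkLinearMap (Submonoid.powers (f i)) M m = 0) → m = 0) ∧
    ∀ (x : S ⊗[R] M) (N : ℕ) (m : Fin t → M),
      (∀ i : Fin t, EtGlue.locOfTensor R S (f i) M x =
          EtGlue.tensorOfLoc R S (f i) M (LocalizedModule.mk (m i) ⟨f i ^ N, Submonoid.pow_mem _ (Submonoid.mem_powers (f i)) N⟩)) →
      (∀ i j : Fin t, ∃ e : ℕ, (f i * f j) ^ e • (f j ^ N • m i - f i ^ N • m j) = 0) →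
        ∃ μ : M, (1 : S) ⊗ₜ[R] μ = x ∧
          ∀ i : Fin t, LocalizedModule.mkLinearMap (Submonoid.powers (f i)) M μ =
            LocalizedModule.mk (m i) ⟨f i ^ N, Submonoid.pow_mem _ (Submonoid.mem_powers (f i)) N⟩ := by
  constructor
  · intro m h1 h2
    have htors : ∃ k : ℕ, ∀ a ∈ I ^ k, a • m = 0 :=
      Groth.Agent.H2.IGlue.exists_pow_smul_eq_zero_of_gens f hI m
        (fun i => (Groth.Agent.H2.BL.mkLinearMap_eq_zero_iff M m).1 (h2 i))
    exact Groth.Agent.H2.IGlue.eq_zero_of_torsion_of_tmul_eq_zero hq m htors h1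
  · intro x N m hx hm
    have hx' : ∀ i, ∃ e : ℕ, f i ^ e • (f i ^ N • x) = f i ^ e • ((1 : S) ⊗ₜ[R] m i) := by
      intro i
      have h := hx i
      have e1 := Groth.Agent.H2.BL.tensorOfLoc_mk (R' := S) (f := f i) M (m i) N
      rw [e1] at h
      change LocalizedModule.mk x 1 = _ at h
      rw [LocalizedModule.mk_eq] at h
      obtain ⟨⟨_, e, rfl⟩, he⟩ := h
      simp only [Submonoid.smul_def, one_smul] at he
      exact ⟨e, he⟩
    choose e he using hx'
    choose c hc using hm
    let D : ℕ := (Finset.univ.sup fun p : Fin t × Fin t => c p.1 p.2) + Finset.univ.sup e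
    have hcD : ∀ i k, ∃ d, D = c i k + d := fun i k =>
      Nat.exists_eq_add_of_le ((Finset.le_sup (f := fun p : Fin t × Fin t => c p.1 p.2)
        (Finset.mem_univ (i, k))).trans (Nat.le_add_right _ _))
    have heD : ∀ i, ∃ d, D = e i + d := fun i =>
      Nat.exists_eq_add_of_le ((Finset.le_sup (f := e) (Finset.mem_univ i)).trans
        (Nat.le_add_left _ _))
    let x' : Groth.Agent.H2.IGlue.Amb f M := fun k =>
      LocalizedModule.mk (m k) ⟨f k ^ N, Submonoid.pow_mem _ (Submonoid.mem_powers (f k)) N⟩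
    have key : ∀ i k, f i ^ (N + D) • x' k =
        LocalizedModule.mkLinearMap (Submonoid.powers (f k)) M (f i ^ D • m i) := by
      intro i k
      obtain ⟨d, hd⟩ := hcD i k
      change f i ^ (N + D) • LocalizedModule.mk (m k) _ = LocalizedModule.mk (f i ^ D • m i) 1
      rw [LocalizedModule.smul'_mk, LocalizedModule.mk_eq]
      refine ⟨⟨f k ^ c i k, Submonoid.pow_mem _ (Submonoid.mem_powers (f k)) _⟩, ?_⟩
      simp only [Submonoid.smul_def, one_smul]
      have h0 := hc k i
      rw [smul_sub, sub_eq_zero, mul_pow] at h0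
      have h0' := hc i k
      rw [smul_sub, sub_eq_zero, mul_pow] at h0'
      rw [hd]
      calc f k ^ c i k • f i ^ (N + (c i k + d)) • m k
          = f i ^ d • ((f i ^ c i k * f k ^ c i k) • f i ^ N • m k) := by
            simp only [← mul_smul]; congr 1; ring
        _ = f i ^ d • ((f i ^ c i k * f k ^ c i k) • f k ^ N • m i) := by rw [h0']
        _ = f k ^ c i k • f k ^ N • f i ^ (c i k + d) • m i := by
            simp only [← mul_smul]; congr 1; ring
    have hx'mem : x' ∈ Groth.Agent.H2.IGlue.gam f M := by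
      refine ⟨N + D, fun i => ⟨f i ^ D • m i, ?_⟩⟩
      funext k
      exact (key i k).symm
    let x'' : Groth.Agent.H2.IGlue.gam f M := ⟨x', hx'mem⟩
    let j := Groth.Agent.H2.IGlue.gamMap f M
    have hjx : ∀ i, f i ^ (N + D) • x'' = j (f i ^ D • m i) := by
      intro i
      apply Subtype.ext
      funext k
      exact key i k
    have hxD : ∀ i, f i ^ (N + D) • x = (1 : S) ⊗ₜ[R] (f i ^ D • m i) := by
      intro i
      obtain ⟨d, hd⟩ := heD i
      rw [hd, TensorProduct.tmul_smul]
      calc f i ^ (N + (e i + d)) • x = f i ^ d • (f i ^ e i • f i ^ N • x) := by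
            simp only [← mul_smul]; congr 1; ring
        _ = f i ^ d • (f i ^ e i • ((1 : S) ⊗ₜ[R] m i)) := by rw [he i]
        _ = f i ^ (e i + d) • ((1 : S) ⊗ₜ[R] m i) := by
            simp only [← mul_smul]; congr 1; ring
    have hY : Groth.Agent.H2.IGlue.TC f (S ⊗[R] Groth.Agent.H2.IGlue.gam f M) :=
      Groth.Agent.H2.IGlue.tc_tensor f (Groth.Agent.H2.IGlue.tc_gam f M)
    have hjker : ∀ n : M, j n = 0 → ∃ k : ℕ, ∀ a ∈ I ^ k, a • n = 0 := fun n hn =>
      Groth.Agent.H2.IGlue.exists_pow_smul_eq_zero_of_gens f hI n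
        (Groth.Agent.H2.IGlue.gamMap_eq_zero f M n hn)
    have hjcoker : ∀ y : Groth.Agent.H2.IGlue.gam f M,
        ∃ k : ℕ, ∀ a ∈ I ^ k, a • y ∈ LinearMap.range j := fun y => by
      obtain ⟨K, hK⟩ := Groth.Agent.H2.IGlue.exists_pow_smul_mem_range_gamMap f M y
      exact Groth.Agent.H2.IGlue.exists_pow_smul_mem_of_gens f hI _ y (fun i => ⟨K, hK i⟩)
    have hmain : j.lTensor S x = (1 : S) ⊗ₜ[R] x'' := by
      obtain ⟨z, -, huniq⟩ := hY (N + D) (fun i => f i ^ (N + D) • ((1 : S) ⊗ₜ[R] x''))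
        (fun a b => smul_comm _ _ _)
      have h1 : j.lTensor S x = z := huniq _ (fun i => by
        rw [← LinearMap.map_smul, hxD, LinearMap.lTensor_tmul, ← hjx, TensorProduct.tmul_smul])
      have h2 : (1 : S) ⊗ₜ[R] x'' = z := huniq _ (fun i => rfl)
      rw [h1, h2]
    obtain ⟨μ, hμ1, hμ2⟩ := Groth.Agent.H2.IGlue.exists_of_lTensor_eq_tmul hq j hjker hjcoker
      x x'' hmain
    refine ⟨μ, hμ1.symm, fun i => ?_⟩
    have := congrArg (fun w : Groth.Agent.H2.IGlue.gam f M =>
      (w : Groth.Agent.H2.IGlue.Amb f M) i) hμ2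
    exact this

end Groth.Agent.S7090
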