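import Groth.Statements.S7093
import Mathlib
import Groth.Agent.H4.RelPerf

set_option autoImplicit false
universe u
attribute [local instance] HasDerivedCategory.standard
open CategoryTheory CategoryTheory.Limits
open Dual2

namespace Groth.Agent.S7093

open CategoryTheory CategoryTheory.Limits CategoryTheory.Pretriangulated MonoidalCategory
open ZeroObject
open DRing

open Groth.Agent.H4.RelPerf

/-- For a flat homomorphism of finite presentation R → A of commutative rings, the R-perfect objects of
D(A) (pseudo-coherent over A, finite tor dimension over R) form a strictly full, saturated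
triangulated subcategory: the property is a triangulated object property (contains zero, stable
under shifts and under extensions in distinguished triangles), is closed under isomorphisms, and
passes to direct summands. -/
theorem result (R A : Type u) [CommRing R] [CommRing A] [Algebra R A]
    [Module.Flat R A] [Algebra.FinitePresentation R A] :
    ObjectProperty.IsTriangulated (C := Dual.D A) (fun K => Dual2.IsRelPerfect R A K) ∧
      ObjectProperty.IsClosedUnderIsomorphisms (C := Dual.D A) (fun K => Dual2.IsRelPerfect R A K) ∧
      ∀ X Y : Dual.D A, Dual2.IsRelPerfect R A (X ⊞ Y) → Dual2.IsRelPerfect R A X ∧ Dual2.IsRelPerfect R A Y := by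
  have hiso : ObjectProperty.IsClosedUnderIsomorphisms (C := Dual.D A)
      (fun K => Dual2.IsRelPerfect R A K) := ⟨fun e h => relPerf_of_iso e h⟩
  refine ⟨?_, hiso, ?_⟩
  · haveI : ObjectProperty.ContainsZero (C := Dual.D A) (fun K => Dual2.IsRelPerfect R A K) :=
      ⟨⟨0, isZero_zero _, relPerf_of_isZero _ (isZero_zero _)⟩⟩
    haveI : ObjectProperty.IsStableUnderShift (C := Dual.D A)
        (fun K => Dual2.IsRelPerfect R A K) ℤ :=
      ⟨fun n => ⟨fun K hK => relPerf_shift hK n⟩⟩
    haveI : ObjectProperty.IsTriangulatedClosed₂ (C := Dual.D A)
        (fun K => Dual2.IsRelPerfect R A K) :=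
      ObjectProperty.IsTriangulatedClosed₂.mk' (fun T hT h₁ h₃ => relPerf_obj₂ T hT h₁ h₃)
    exact {}
  · intro X Y h
    have hpc := Groth.Agent.H4.PC.isPC'_of_biprod X Y h.1
    exact ⟨relPerf_of_retract biprod.inl biprod.fst biprod.inl_fst hpc.1 h,
      relPerf_of_retract biprod.inr biprod.snd biprod.inr_snd hpc.2 h⟩


end Groth.Agent.S7093
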