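import Groth.Statements.S7100
import Groth.Agent.H4.FlatFPPC3
import Groth.Agent.H4.PCHom

set_option autoImplicit false
universe u
attribute [local instance] HasDerivedCategory.standard
open DerCA

namespace Groth.Agent.S7100

open CategoryTheory CategoryTheory.Limits DRing Groth.Agent.H4.PCHom Groth.Agent.H4.PC DerivedCategory



/-- (1)⇔(4): let R → B → A be homomorphisms of commutative rings with B → A surjective and with R → B
and R → A both flat and of finite presentation. Then an object K of D(A) is pseudo-coherent
(isomorphic in D(A) to a bounded above complex of finite free modules) if and only if its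
restriction of scalars to D(B) is pseudo-coherent; and for every integer m, K is m-pseudo-coherent
if and only if its restriction of scalars to D(B) is m-pseudo-coherent. -/
theorem result (R B A : Type u) [CommRing R] [CommRing B] [CommRing A]
    [Algebra R B] [Algebra R A] [Algebra B A] [IsScalarTower R B A]
    (hφ : Function.Surjective (algebraMap B A))
    [Module.Flat R B] [Algebra.FinitePresentation R B] [Module.Flat R A] [Algebra.FinitePresentation R A]
    (K : Dual.D A) :
    (DRing.IsPseudoCoherent' A K ↔ DRing.IsPseudoCoherent' B ((DRing.restrictD (algebraMap B A)).obj K)) ∧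
      ∀ m : ℤ, (DRing.IsPseudoCoherent A m K ↔
        DRing.IsPseudoCoherent B m ((DRing.restrictD (algebraMap B A)).obj K)) := by
  haveI hfpalg : Algebra.FinitePresentation B A :=
    Algebra.FinitePresentation.of_restrict_scalars_finitePresentation R B A
  have hker : (RingHom.ker (Algebra.ofId B A).toRingHom).FG :=
    Algebra.FinitePresentation.ker_fG_of_surjective (Algebra.ofId B A) hφ
  haveI : Module.FinitePresentation B A := by
    refine Module.finitePresentation_of_surjective (Algebra.linearMap B A) hφ ?_
    have : LinearMap.ker (Algebra.linearMap B A) =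
        (RingHom.ker (Algebra.ofId B A).toRingHom).restrictScalars B := by
      ext x; rfl
    rw [this]
    exact hker
  have h := Groth.Agent.H4.FlatFPPC3.isPC'_module_of_fp_flat R B A
  have hpc : IsPCHom (algebraMap B A) := fun m =>
    isPC_single_of_iso Groth.Agent.H4.RestrPC.ofIsoRestrict (isPC_of_isPC' _ h m)
  have h2 : ∀ m : ℤ, (DRing.IsPseudoCoherent A m K ↔
        DRing.IsPseudoCoherent B m ((DRing.restrictD (algebraMap B A)).obj K)) :=
    fun m => (hpc.isPC_iff m K).symm
  refine ⟨⟨fun hK => ?_, fun hK => ?_⟩, h2⟩
  · exact isPC'_of_forall_isPC _ (fun m => (h2 m).mp (isPC_of_isPC' _ hK m))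
  · exact isPC'_of_forall_isPC _ (fun m => (h2 m).mpr (isPC_of_isPC' _ hK m))


end Groth.Agent.S7100
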