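import Groth.Statements.S7106
import Mathlib
import Groth.Agent.H4.KHom2

set_option autoImplicit false
universe u
attribute [local instance] HasDerivedCategory.standard
open CategoryTheory
open DRing

namespace Groth.Agent.S7106

open DerivedCategory Groth.Agent.H4.KHom


variable {R : Type u} [CommRing R]

/-- `N[1]` as an honest complex, and its comparison with `(inD N)⟦1⟧`. -/
noncomputable abbrev sh (N : ModuleCat.{u} R) : Cx R :=
  (HomologicalComplex.single (ModuleCat.{u} R) (ComplexShape.up ℤ) (-1)).obj N

noncomputable def shIso (N : ModuleCat.{u} R) :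
    ((singleFunctor (ModuleCat.{u} R) 0).obj N)⟦(1 : ℤ)⟧ ≅ Q.obj (sh N) :=
  ((singleFunctors (ModuleCat.{u} R)).shiftIso 1 (-1) 0 (by simp)).app N ≪≫
    (singleFunctorIsoCompQ (ModuleCat.{u} R) (-1)).app N

lemma sh_isZero (N : ModuleCat.{u} R) (i : ℤ) (hi : i ≠ -1) : Limits.IsZero ((sh N).X i) :=
  HomologicalComplex.isZero_single_obj_X _ _ _ _ hi

/-- Let R be a commutative ring, M a cochain complex of R-modules with M^i = 0 for i > 0 and M^0
projective, K a cochain complex with K^i = 0 for i outside [-1, 0] and K^0 projective, and a : M → K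
a chain map. Then precomposition with a is the zero map Ext^1_R(K, N) → Ext^1_R(M, N) (morphisms
into N[1] in D(R)) for every R-module N if and only if there is a map h : M^0 → K^{-1} with a^{-1} +
h ∘ d_M^{-1} = 0. (The published statement composes h^0 with the differential K^{-1} → K^0 of K,
which is not defined; this row composes it with the differential M^{-1} → M^0 of M, as the homotopy
in the published proof does.) -/
theorem result {R : Type u} [CommRing R] (M K : DRing.Cx R)
    (hM : ∀ i : ℤ, 0 < i → Limits.IsZero (M.X i)) (hM0 : Module.Projective R (M.X 0))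
    (hK : ∀ i : ℤ, i ≠ -1 → i ≠ 0 → Limits.IsZero (K.X i)) (hK0 : Module.Projective R (K.X 0))
    (a : M ⟶ K) :
    (∀ (N : Type u) [AddCommGroup N] [Module R N] (ξ : DRing.toD K ⟶ (Dual.inD R N)⟦(1 : ℤ)⟧),
        DerivedCategory.Q.map a ≫ ξ = 0) ↔
      ∃ h : M.X 0 ⟶ K.X (-1), a.f (-1) + M.d (-1) 0 ≫ h = 0 := by
  constructor
  · intro H
    let N := K.X (-1)
    let x : K ⟶ sh N := HomologicalComplex.mkHomToSingle (𝟙 _) (by
      intro j hj
      simp only [ComplexShape.up_Rel] at hj
      exact (hK j (by omega) (by omega)).eq_of_src _ _)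
    have h1 := H N (Q.map x ≫ (shIso N).inv)
    have h2 : Q.map (a ≫ x) = 0 := by
      have := congrArg (fun ψ => ψ ≫ (shIso N).hom) h1
      simp only [Category.assoc, Iso.inv_hom_id, Category.comp_id, Limits.zero_comp] at this
      rw [Functor.map_comp]
      exact this
    obtain ⟨Ho⟩ := homotopy_of_Q_map_eq_zero M (sh N) hM hM0
      (fun i hi => sh_isZero N i (by omega)) _ h2
    have h3 := Ho.comm (-1)
    rw [dNext_eq _ (show (ComplexShape.up ℤ).Rel (-1) 0 by simp),
      prevD_eq _ (show (ComplexShape.up ℤ).Rel (-2) (-1) by simp)] at h3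
    have hd : (sh N).d (-2) (-1) = 0 := HomologicalComplex.single_obj_d _ _ _ _ _
    rw [hd, Limits.comp_zero, add_zero, HomologicalComplex.zero_f, add_zero,
      HomologicalComplex.comp_f, HomologicalComplex.mkHomToSingle_f, Category.id_comp] at h3
    refine ⟨-(Ho.hom 0 (-1) ≫ (HomologicalComplex.singleObjXSelf (ComplexShape.up ℤ) (-1) N).hom), ?_⟩
    have h4 := congrArg (fun ψ => ψ ≫ (HomologicalComplex.singleObjXSelf (ComplexShape.up ℤ) (-1) N).hom) h3
    simp only [Category.assoc, Iso.inv_hom_id, Category.comp_id] at h4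
    rw [Preadditive.comp_neg, h4]
    exact add_neg_cancel _
  · rintro ⟨h, hh⟩ N _ _ ξ
    obtain ⟨x, hx⟩ := exists_Q_map_eq K (sh (ModuleCat.of R N))
      (fun i hi => hK i (by omega) (by omega)) hK0
      (fun i hi => sh_isZero _ i (by omega)) (ξ ≫ (shIso (ModuleCat.of R N)).hom)
    have h1 : ξ = Q.map x ≫ (shIso (ModuleCat.of R N)).inv := by
      rw [hx, Category.assoc, Iso.hom_inv_id, Category.comp_id]
    rw [h1, ← Category.assoc, ← Functor.map_comp]
    suffices hs : Nonempty (Homotopy (a ≫ x) 0) by
      obtain ⟨Ho⟩ := hs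
      rw [DerivedCategory.Q_map_eq_of_homotopy _ Ho, Functor.map_zero, Limits.zero_comp]
    classical
    refine ⟨{
      hom := fun i j => if hij : i = 0 ∧ j = -1 then
          (M.XIsoOfEq hij.1).hom ≫ (-(h ≫ x.f (-1))) ≫ ((sh (ModuleCat.of R N)).XIsoOfEq hij.2.symm).hom
        else 0
      zero := ?_
      comm := ?_ }⟩
    · intro i j hij
      simp only [ComplexShape.up_Rel] at hij
      rw [dif_neg (by omega)]
    · intro i
      by_cases hi : i = -1
      · subst hi
        rw [dNext_eq _ (show (ComplexShape.up ℤ).Rel (-1) 0 by simp),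
          prevD_eq _ (show (ComplexShape.up ℤ).Rel (-2) (-1) by simp),
          dif_pos (by omega), dif_neg (by omega)]
        have ha : a.f (-1) = -(M.d (-1) 0 ≫ h) := eq_neg_of_add_eq_zero_left hh
        simp [HomologicalComplex.XIsoOfEq, ha]
      · exact (sh_isZero _ i hi).eq_of_tgt _ _


end Groth.Agent.S7106
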