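import Groth.Statements.S7109
import Mathlib

set_option autoImplicit false
universe u
open CAlg

namespace Groth.Agent.S7109

/-- Let P be a projective module over a ring R and s an element of P. Then there are a finite free
module R^n and a direct summand K of R^n ⊕ P which is finite free and contains (0, s). -/
theorem result (R : Type u) [CommRing R] (P : Type u) [AddCommGroup P]
    [Module R P] [Module.Projective R P] (s : P) :
    ∃ (n : ℕ) (K K' : Submodule R ((Fin n → R) × P)), IsCompl K K' ∧ Module.Free R K ∧ Module.Finite R K ∧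
      ((0, s) : (Fin n → R) × P) ∈ K := by
  classical
  obtain ⟨i, hi⟩ := (Module.projective_def' (R := R) (P := P)).mp inferInstance
  let p : (P →₀ R) →ₗ[R] P := Finsupp.linearCombination R id
  have hpi : ∀ x, p (i x) = x := fun x => LinearMap.congr_fun hi x
  let S : Finset P := (i s).support
  let n := S.card
  let enum : Fin n ≃ S := S.equivFin.symm
  let u : (Fin n → R) →ₗ[R] (P →₀ R) :=
    Fintype.linearCombination R (fun j => Finsupp.single (enum j : P) (1:R))
  let v : (P →₀ R) →ₗ[R] (Fin n → R) := LinearMap.pi (fun j => Finsupp.lapply (enum j : P))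
  have huv : u (v (i s)) = i s := by
    simp only [u, v, Fintype.linearCombination_apply, LinearMap.pi_apply, Finsupp.lapply_apply]
    rw [Equiv.sum_comp enum (fun x : S => (i s) (x : P) • Finsupp.single (x : P) (1 : R))]
    rw [Finset.sum_coe_sort S (fun x => (i s) x • Finsupp.single x (1 : R))]
    simp only [Finsupp.smul_single, smul_eq_mul, mul_one]
    exact Finsupp.sum_single (i s)
  let φ : (Fin n → R) →ₗ[R] (Fin n → R) × P :=
    (LinearMap.id - v ∘ₗ i ∘ₗ p ∘ₗ u).prod (p ∘ₗ u)
  let ρ : (Fin n → R) × P →ₗ[R] (Fin n → R) := LinearMap.coprod LinearMap.id (v ∘ₗ i)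
  have hρφ : ∀ x, ρ (φ x) = x := by
    intro x
    simp [φ, ρ]
  have hφinj : Function.Injective φ := Function.LeftInverse.injective hρφ
  let E : (Fin n → R) ≃ₗ[R] LinearMap.range φ := LinearEquiv.ofInjective φ hφinj
  refine ⟨n, LinearMap.range φ, LinearMap.ker ρ, ?_, Module.Free.of_equiv E,
    Module.Finite.equiv E, ?_⟩
  · constructor
    · rw [Submodule.disjoint_def]
      rintro x ⟨a, rfl⟩ hx
      have : a = 0 := by rw [← hρφ a]; exact hx
      rw [this, map_zero]
    · rw [codisjoint_iff, eq_top_iff]
      intro y _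
      have : y = φ (ρ y) + (y - φ (ρ y)) := by abel
      rw [this]
      refine Submodule.add_mem_sup ⟨ρ y, rfl⟩ ?_
      rw [LinearMap.mem_ker, map_sub, hρφ, sub_self]
  · refine ⟨v (i s), ?_⟩
    show (((LinearMap.id : (Fin n → R) →ₗ[R] (Fin n → R)) - v ∘ₗ i ∘ₗ p ∘ₗ u) (v (i s)),
      (p ∘ₗ u) (v (i s))) = (0, s)
    simp only [LinearMap.sub_apply, LinearMap.id_apply, LinearMap.comp_apply, huv, hpi, sub_self]


end Groth.Agent.S7109
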