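import Groth.Statements.S7113
import Mathlib
import Groth.Agent.H4.SerreSplit2

set_option autoImplicit false
universe u
open CAlg

namespace Groth.Agent.S7113

open Groth.Agent.H4.SerreSplit Groth.Agent.S7147

/-- Let R be a ring whose set of maximal ideals, with the Zariski topology, is a Noetherian topological
space of Krull dimension at most d, and let M be an R-module of finite presentation whose
localization M_m at each maximal ideal m contains a free direct summand of rank d + 1. Then M is
isomorphic to R ⊕ M' for some M': there are s in M and a linear form φ on M with φ(s) = 1. (The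
published statement takes the dimension equal to d; a space of smaller dimension satisfies the
hypothesis for a smaller d, so the bound form is equivalent.) -/
theorem result (R : Type u) [CommRing R] (d : ℕ)
    [TopologicalSpace.NoetherianSpace (MaximalSpectrum R)]
    (hdim : topologicalKrullDim (MaximalSpectrum R) ≤ d)
    (M : Type u) [AddCommGroup M] [Module R M] [Module.FinitePresentation R M]
    (hM : ∀ (m : Ideal R) [m.IsMaximal],
      ∃ (f : (Fin (d + 1) → Localization.AtPrime m) →ₗ[Localization.AtPrime m] LocalizedModule m.primeCompl M)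
        (g : LocalizedModule m.primeCompl M →ₗ[Localization.AtPrime m] (Fin (d + 1) → Localization.AtPrime m)),
        g ∘ₗ f = LinearMap.id) :
    ∃ (s : M) (φ : M →ₗ[R] R), φ s = 1 := by
  classical
  have hrank : ∀ x : MaximalSpectrum R, 0 + (d + 1) ≤ Module.finrank (R ⧸ x.asIdeal)
      ((M ⧸ (x.asIdeal • ⊤ : Submodule R M)) ⧸ Bq M x.asIdeal) := by
    intro x
    haveI := x.isMaximal
    obtain ⟨f, g, hgf⟩ := hM x.asIdeal
    obtain ⟨m, hm⟩ := indep_of_local_summand x.asIdeal (d + 1) f g hgf
    have := card_le_finrank_of_indep x.asIdeal (d + 1) m hm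
    omega
  obtain ⟨t, F', hF', -, hb, hc⟩ := serre_prop (d + 1) 0 (Fin.elim0 : Fin 0 → M) ∅ isClosed_empty
    (fun x hx => absurd (fun a _ i => i.elim0) hx) hrank ∅ (by simp) (fun _ => 0)
  have hF'empty : F' = ∅ := by
    rw [Set.eq_empty_iff_forall_notMem]
    intro x hx
    let Z : TopologicalSpace.IrreducibleCloseds (MaximalSpectrum R) :=
      ⟨{x}, isIrreducible_singleton, isClosed_singleton⟩
    have h1 : ((d + 1 : ℕ) : ℕ∞) ≤ Order.coheight Z := hc Z (by
      intro y hy
      rw [Set.mem_singleton_iff.mp hy]
      exact hx)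
    have h2 : (Order.coheight Z : WithBot ℕ∞) ≤ (d : WithBot ℕ∞) :=
      (Order.coheight_le_krullDim Z).trans hdim
    have h3 : Order.coheight Z ≤ (d : ℕ∞) := by exact_mod_cast h2
    have h4 := h1.trans h3
    have : (d + 1 : ℕ) ≤ d := by exact_mod_cast h4
    omega
  have hall : ∀ x : MaximalSpectrum R, ∃ φ : M →ₗ[R] R, φ t ∉ x.asIdeal := by
    intro x
    have hI : Indep x.asIdeal (Fin.snoc (Fin.elim0 : Fin 0 → M) t : Fin (0 + 1) → M) := by
      by_contra hcon
      have := hb x hcon
      rw [hF'empty] at this
      simp at this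
    by_contra hcon
    push Not at hcon
    have hx1 : (1 : R) ∈ x.asIdeal := by
      have hs0 : (Fin.snoc (Fin.elim0 : Fin 0 → M) t : Fin (0 + 1) → M) 0 = t := by
        rw [show (0 : Fin (0 + 1)) = Fin.last 0 from rfl, Fin.snoc_last]
      have := hI (fun _ => 1) (by
        intro φ
        rw [Fin.sum_univ_succ]
        simp only [Finset.univ_eq_empty, Finset.sum_empty, add_zero, one_smul, hs0]
        exact hcon φ) 0
      exact this
    exact x.isMaximal.ne_top ((Ideal.eq_top_iff_one _).mpr hx1)
  let J : Ideal R := LinearMap.range (LinearMap.applyₗ t : (M →ₗ[R] R) →ₗ[R] R)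
  have hJ : J = ⊤ := by
    by_contra hne
    obtain ⟨mx, hmx, hle⟩ := Ideal.exists_le_maximal J hne
    obtain ⟨φ, hφ⟩ := hall ⟨mx, hmx⟩
    exact hφ (hle ⟨φ, rfl⟩)
  have h1 : (1 : R) ∈ J := by rw [hJ]; trivial
  obtain ⟨φ, hφ⟩ := h1
  exact ⟨t, φ, hφ⟩


end Groth.Agent.S7113
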