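import Groth.Statements.S7114
import Mathlib

set_option autoImplicit false
universe u
open CAlg

namespace Groth.Agent.S7114


theorem aux (R : Type u) [CommRing R] (x : R) (n : ℕ) :
    Module.length R (R ⧸ Ideal.span {x ^ (n+1)}) ≤
      Module.length R (R ⧸ Ideal.span {x ^ n}) + Module.length R (R ⧸ Ideal.span {x}) ∧
    (x ∈ nonZeroDivisors R → Module.length R (R ⧸ Ideal.span {x ^ (n+1)}) =
      Module.length R (R ⧸ Ideal.span {x ^ n}) + Module.length R (R ⧸ Ideal.span {x})) := by
  have h1 : Ideal.span {x ^ n} ≤ Submodule.comap (LinearMap.lsmul R R x) (Ideal.span {x ^ (n+1)}) := by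
    intro a ha
    rw [Submodule.mem_comap]
    obtain ⟨c, rfl⟩ := Ideal.mem_span_singleton'.mp ha
    rw [Ideal.mem_span_singleton']
    exact ⟨c, by simp [pow_succ]; ring⟩
  have h2 : Ideal.span {x ^ (n+1)} ≤ Submodule.comap (LinearMap.id : R →ₗ[R] R) (Ideal.span {x}) := by
    intro a ha
    obtain ⟨c, rfl⟩ := Ideal.mem_span_singleton'.mp ha
    rw [Submodule.mem_comap, LinearMap.id_apply, Ideal.mem_span_singleton']
    exact ⟨c * x ^ n, by ring⟩
  let f : (R ⧸ Ideal.span {x ^ n}) →ₗ[R] (R ⧸ Ideal.span {x ^ (n+1)}) :=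
    Submodule.mapQ _ _ (LinearMap.lsmul R R x) h1
  let g : (R ⧸ Ideal.span {x ^ (n+1)}) →ₗ[R] (R ⧸ Ideal.span {x}) :=
    Submodule.mapQ _ _ LinearMap.id h2
  have hg : Function.Surjective g := by
    intro y
    obtain ⟨a, rfl⟩ := Submodule.mkQ_surjective _ y
    exact ⟨Submodule.Quotient.mk a, rfl⟩
  have hex : Function.Exact f g := by
    intro y
    obtain ⟨a, rfl⟩ := Submodule.mkQ_surjective _ y
    constructor
    · intro h
      have h3 : a ∈ Ideal.span {x} := by
        have : (Submodule.Quotient.mk a : R ⧸ Ideal.span {x}) = 0 := h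
        exact (Submodule.Quotient.mk_eq_zero _).mp this
      obtain ⟨b, rfl⟩ := Ideal.mem_span_singleton'.mp h3
      refine ⟨Submodule.Quotient.mk b, ?_⟩
      simp only [f, Submodule.mapQ_apply, LinearMap.lsmul_apply, Submodule.mkQ_apply, smul_eq_mul]
      rw [mul_comm]
    · rintro ⟨z, hz⟩
      obtain ⟨b, rfl⟩ := Submodule.mkQ_surjective _ z
      rw [← hz]
      simp only [f, g, Submodule.mapQ_apply, LinearMap.lsmul_apply, Submodule.mkQ_apply,
        LinearMap.id_apply, smul_eq_mul]
      rw [Submodule.Quotient.mk_eq_zero, Ideal.mem_span_singleton']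
      exact ⟨b, mul_comm _ _⟩
  have hex' : Function.Exact (LinearMap.range f).subtype g := by
    intro y
    rw [hex y]
    simp
  have hlen := Module.length_eq_add_of_exact (LinearMap.range f).subtype g
    (Submodule.subtype_injective _) hg hex'
  constructor
  · rw [hlen]
    gcongr
    exact Module.length_le_of_surjective f.rangeRestrict f.surjective_rangeRestrict
  · intro hx
    have hf : Function.Injective f := by
      rw [injective_iff_map_eq_zero]
      intro z hz
      obtain ⟨a, rfl⟩ := Submodule.mkQ_surjective _ z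
      simp only [f, Submodule.mapQ_apply, LinearMap.lsmul_apply, Submodule.mkQ_apply,
        smul_eq_mul] at hz
      rw [Submodule.Quotient.mk_eq_zero, Ideal.mem_span_singleton'] at hz
      obtain ⟨c, hc⟩ := hz
      rw [Submodule.mkQ_apply, Submodule.Quotient.mk_eq_zero, Ideal.mem_span_singleton']
      refine ⟨c, ?_⟩
      have h4 : x * (c * x ^ n - a) = 0 := by
        rw [mul_sub, ← hc]; ring
      rw [mem_nonZeroDivisors_iff] at hx
      exact sub_eq_zero.mp (hx.1 _ h4)
    rw [hlen, (LinearEquiv.ofInjective f hf).length_eq]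

/-- Let R be a Noetherian local ring of Krull dimension one and x an element of the maximal ideal lying
in no minimal prime of R. Then for every n the length of R/xⁿR is at most n times the length of
R/xR, and equality holds when x is a nonzerodivisor. -/
theorem result (R : Type u) [CommRing R] [IsNoetherianRing R] [IsLocalRing R]
    (hdim : ringKrullDim R = 1) (x : R) (hx : x ∈ IsLocalRing.maximalIdeal R)
    (hmin : ∀ p ∈ minimalPrimes R, x ∉ p) (n : ℕ) :
    Module.length R (R ⧸ Ideal.span {x ^ n}) ≤ (n : ℕ∞) * Module.length R (R ⧸ Ideal.span {x}) ∧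
      (x ∈ nonZeroDivisors R →
        Module.length R (R ⧸ Ideal.span {x ^ n}) = (n : ℕ∞) * Module.length R (R ⧸ Ideal.span {x})) := by
  induction n with
  | zero =>
    haveI : Subsingleton (R ⧸ Ideal.span {x ^ 0}) := by
      rw [pow_zero, Ideal.span_singleton_one]
      exact Ideal.Quotient.subsingleton_iff.mpr rfl
    simp [Module.length_eq_zero]
  | succ n ih =>
    obtain ⟨h1, h2⟩ := aux R x n
    constructor
    · calc Module.length R (R ⧸ Ideal.span {x ^ (n+1)})
          ≤ Module.length R (R ⧸ Ideal.span {x ^ n}) + Module.length R (R ⧸ Ideal.span {x}) := h1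
        _ ≤ (n : ℕ∞) * Module.length R (R ⧸ Ideal.span {x}) +
            Module.length R (R ⧸ Ideal.span {x}) := by gcongr; exact ih.1
        _ = ((n + 1 : ℕ) : ℕ∞) * Module.length R (R ⧸ Ideal.span {x}) := by
            push_cast; rw [add_mul, one_mul]
    · intro hx'
      rw [h2 hx', ih.2 hx']
      push_cast
      rw [add_mul, one_mul]


end Groth.Agent.S7114
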