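import Groth.Statements.S7120
import Mathlib
import Groth.Agent.S14346

set_option autoImplicit false
universe u
open CAlg

namespace Groth.Agent.S7120


theorem free_of_fg_fin (R : Type u) [CommRing R] [IsDomain R] [IsBezout R] :
    ∀ (n : ℕ) (N : Submodule R (Fin n → R)), N.FG → Module.Free R N
  | 0, N, _ => by
    haveI : Subsingleton N := by
      constructor
      intro a b
      apply Subtype.ext
      funext i
      exact i.elim0
    exact Module.Free.of_subsingleton R N
  | n+1, N, hN => by
    haveI : Module.Finite R N := Module.Finite.iff_fg.mpr hN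
    let π : (Fin (n+1) → R) →ₗ[R] R := LinearMap.proj 0
    let πN : N →ₗ[R] R := π ∘ₗ N.subtype
    let I : Ideal R := LinearMap.range πN
    have hIfg : I.FG := by
      have : I = (⊤ : Submodule R N).map πN := (LinearMap.range_eq_map πN)
      rw [this]
      exact Module.Finite.fg_top.map πN
    haveI : I.IsPrincipal := IsBezout.isPrincipal_of_FG I hIfg
    haveI : Module.Free R I := by
      by_cases h : I = ⊥
      · haveI : Subsingleton I := by
          rw [h]; infer_instance
        exact Module.Free.of_subsingleton R I
      · exact Module.Free.of_equiv (Ideal.isoBaseOfIsPrincipal h)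
    let q : N →ₗ[R] I := πN.rangeRestrict
    obtain ⟨s, hs⟩ := Module.projective_lifting_property q LinearMap.id
      πN.surjective_rangeRestrict
    let e := Groth.Agent.S14346.equivProdKer q s hs
    haveI : Module.Finite R (LinearMap.ker q) := by
      let g : N →ₗ[R] LinearMap.ker q := (LinearMap.snd R I (LinearMap.ker q)) ∘ₗ e.toLinearMap
      have hg : Function.Surjective g := by
        intro y
        exact ⟨e.symm (0, y), by simp [g]⟩
      exact Module.Finite.of_surjective g hg
    let tail : (Fin (n+1) → R) →ₗ[R] (Fin n → R) := LinearMap.funLeft R R Fin.succ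
    let τ : LinearMap.ker q →ₗ[R] (Fin n → R) :=
      tail ∘ₗ N.subtype ∘ₗ (LinearMap.ker q).subtype
    have hτ : Function.Injective τ := by
      rw [injective_iff_map_eq_zero]
      rintro ⟨⟨x, hxN⟩, hxq⟩ hx
      rw [LinearMap.mem_ker] at hxq
      have h0 : x 0 = 0 := by
        have := congrArg Subtype.val hxq
        simpa [q, πN, π] using this
      have h1 : ∀ i : Fin n, x i.succ = 0 := by
        intro i
        have := congrFun hx i
        simpa [τ, tail, LinearMap.funLeft] using this
      apply Subtype.ext
      apply Subtype.ext
      funext i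
      refine Fin.cases h0 h1 i
    have hK' : (LinearMap.range τ).FG := by
      rw [LinearMap.range_eq_map]
      exact Module.Finite.fg_top.map τ
    haveI := free_of_fg_fin R n (LinearMap.range τ) hK'
    haveI : Module.Free R (LinearMap.ker q) :=
      Module.Free.of_equiv (LinearEquiv.ofInjective τ hτ).symm
    exact Module.Free.of_equiv e.symm

/-- Over a Bézout domain, a finitely generated submodule of a free module is itself free of finite rank. -/
theorem result (R : Type u) [CommRing R] [IsDomain R] [IsBezout R]
    (F : Type u) [AddCommGroup F] [Module R F] [Module.Free R F] (N : Submodule R F) (hN : N.FG) :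
    Module.Free R N ∧ Module.Finite R N := by
  classical
  haveI hfin : Module.Finite R N := Module.Finite.iff_fg.mpr hN
  refine ⟨?_, hfin⟩
  let b := Module.Free.chooseBasis R F
  obtain ⟨T, hT⟩ := hN
  let s : Finset (Module.Free.ChooseBasisIndex R F) := T.biUnion (fun t => (b.repr t).support)
  let c : F →ₗ[R] (s → R) := LinearMap.pi (fun i : s => b.coord i)
  have hsupp : ∀ x ∈ N, ∀ i, i ∉ s → b.repr x i = 0 := by
    intro x hx
    rw [← hT] at hx
    induction hx using Submodule.span_induction with
    | mem t ht =>
      intro i hi
      by_contra h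
      exact hi (Finset.mem_biUnion.mpr ⟨t, ht, Finsupp.mem_support_iff.mpr h⟩)
    | zero => intro i _; simp
    | add x y _ _ hx hy => intro i hi; simp [hx i hi, hy i hi]
    | smul a x _ hx => intro i hi; simp [hx i hi]
  let τ : N →ₗ[R] (s → R) := c ∘ₗ N.subtype
  have hτ : Function.Injective τ := by
    rw [injective_iff_map_eq_zero]
    rintro ⟨x, hx⟩ h0
    apply Subtype.ext
    apply b.repr.injective
    ext i
    by_cases hi : i ∈ s
    · have := congrFun h0 ⟨i, hi⟩
      simpa [τ, c] using this
    · simpa using hsupp x hx i hi
  let eF : (s → R) ≃ₗ[R] (Fin (Fintype.card s) → R) :=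
    LinearEquiv.funCongrLeft R R (Fintype.equivFin s).symm
  let τ' : N →ₗ[R] (Fin (Fintype.card s) → R) := eF.toLinearMap ∘ₗ τ
  have hτ' : Function.Injective τ' := eF.injective.comp hτ
  have hfg : (LinearMap.range τ').FG := by
    rw [LinearMap.range_eq_map]
    exact Module.Finite.fg_top.map τ'
  haveI := free_of_fg_fin R (Fintype.card s) (LinearMap.range τ') hfg
  exact Module.Free.of_equiv (LinearEquiv.ofInjective τ' hτ').symm


end Groth.Agent.S7120
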