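import Groth.Statements.S7121
import Mathlib
import Groth.Agent.S7120
import Groth.Agent.S14346

set_option autoImplicit false
universe u
open CAlg

namespace Groth.Agent.S7121

open Submodule Set Module

/-- finite torsion-free modules over a Bézout domain are free -/
theorem free_of_torsionFree (R : Type u) [CommRing R] [IsDomain R] [IsBezout R]
    (M : Type u) [AddCommGroup M] [Module R M] [Module.Finite R M] [Module.IsTorsionFree R M] :
    Module.Free R M := by
  classical
  obtain ⟨n, s, hs⟩ := Module.Finite.exists_fin (R := R) (M := M)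
  have := exists_maximal_linearIndepOn R s
  let I : Set (Fin n) := this.choose
  obtain
    ⟨indepI : LinearIndependent R (s ∘ (fun x => x) : I → M), hI :
      ∀ i ∉ I, ∃ a : R, a ≠ 0 ∧ a • s i ∈ span R (s '' I)⟩ :=
    this.choose_spec
  let N := span R (range <| (s ∘ (fun x => x) : I → M))
  let sI_basis : Basis I R N := Basis.span indepI
  have exists_a : ∀ i : Fin n, ∃ a : R, a ≠ 0 ∧ a • s i ∈ N := by
    intro i
    by_cases hi : i ∈ I
    · use 1, zero_ne_one.symm
      rw [one_smul]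
      exact subset_span (mem_range_self (⟨i, hi⟩ : I))
    · simpa [image_eq_range s I] using! hI i hi
  choose a ha ha' using exists_a
  let A := ∏ i, a i
  have hA : A ≠ 0 := by
    rw [Finset.prod_ne_zero_iff]
    simpa using! ha
  let φ : M →ₗ[R] M := LinearMap.lsmul R M A
  have hker : LinearMap.ker φ = ⊥ := LinearMap.ker_lsmul hA
  have hle : LinearMap.range φ ≤ N := by
    suffices ∀ i, φ (s i) ∈ N by
      rw [LinearMap.range_eq_map, ← hs, map_span_le]
      rintro _ ⟨i, rfl⟩
      apply this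
    intro i
    calc
      (∏ j ∈ {i}ᶜ, a j) • a i • s i ∈ N := N.smul_mem _ (ha' i)
      _ = (∏ j, a j) • s i := by rw [Fintype.prod_eq_prod_compl_mul i, mul_smul]
  -- `φ` corestricted to `N`
  let φ' : M →ₗ[R] N := φ.codRestrict N (fun m => hle (LinearMap.mem_range_self φ m))
  have hφ' : Function.Injective φ' := by
    intro m m' h
    have := congrArg Subtype.val h
    exact LinearMap.ker_eq_bot.mp hker this
  haveI : Module.Free R N := Module.Free.of_basis sI_basis
  have hfg : (LinearMap.range φ').FG := by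
    rw [LinearMap.range_eq_map]
    exact Module.Finite.fg_top.map φ'
  haveI := (Groth.Agent.S7120.result R N (LinearMap.range φ') hfg).1
  exact Module.Free.of_equiv (LinearEquiv.ofInjective φ' hφ').symm


section Cyc
variable (R : Type u) [CommRing R]

/-- `Q` is a finite product of cyclic modules `R ⧸ (f j)` with `f j ≠ 0`. -/
def IsCyc (Q : Type u) [AddCommGroup Q] [Module R Q] : Prop :=
  ∃ (n : ℕ) (f : Fin n → R), (∀ j, f j ≠ 0) ∧
    Nonempty (Q ≃ₗ[R] ((j : Fin n) → R ⧸ Ideal.span {f j}))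

theorem isCyc_punit : IsCyc R PUnit.{u+1} := by
  refine ⟨0, Fin.elim0, fun j => j.elim0, ⟨?_⟩⟩
  exact LinearEquiv.ofSubsingleton _ _

theorem isCyc_quot (d : R) (hd : d ≠ 0) : IsCyc R (R ⧸ Ideal.span {d}) := by
  refine ⟨1, fun _ => d, fun _ => hd, ⟨?_⟩⟩
  exact (LinearEquiv.funUnique (Fin 1) R (R ⧸ Ideal.span {d})).symm

theorem isCyc_prod (Q₁ Q₂ : Type u) [AddCommGroup Q₁] [Module R Q₁] [AddCommGroup Q₂]
    [Module R Q₂] (h₁ : IsCyc R Q₁) (h₂ : IsCyc R Q₂) : IsCyc R (Q₁ × Q₂) := by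
  obtain ⟨a, f₁, hf₁, ⟨e₁⟩⟩ := h₁
  obtain ⟨b, f₂, hf₂, ⟨e₂⟩⟩ := h₂
  refine ⟨a + b, fun j => Sum.elim f₁ f₂ (finSumFinEquiv.symm j), ?_, ⟨?_⟩⟩
  · intro j
    rcases h : finSumFinEquiv.symm j with i | i
    · simpa [h] using hf₁ i
    · simpa [h] using hf₂ i
  · let φ : Fin a ⊕ Fin b → Type u := fun i => R ⧸ Ideal.span {Sum.elim f₁ f₂ i}
    exact (LinearEquiv.prodCongr e₁ e₂) ≪≫ₗ
      (LinearEquiv.sumPiEquivProdPi R (Fin a) (Fin b) φ).symm ≪≫ₗ
      (LinearEquiv.piCongrLeft' R φ finSumFinEquiv)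

/-- `T` is a retract of a product of cyclic modules, up to multiplication by `g`. -/
def Ret (T : Type u) [AddCommGroup T] [Module R T] (g : R) : Prop :=
  ∃ (Q : Type u) (_ : AddCommGroup Q) (_ : Module R Q), IsCyc R Q ∧
    ∃ (α : T →ₗ[R] Q) (β : Q →ₗ[R] T), β ∘ₗ α = g • LinearMap.id

variable {R}

theorem ret_zero (T : Type u) [AddCommGroup T] [Module R T] : Ret R T 0 :=
  ⟨PUnit.{u+1}, inferInstance, inferInstance, isCyc_punit R, 0, 0, by simp⟩

theorem ret_add {T : Type u} [AddCommGroup T] [Module R T] {g₁ g₂ : R} (h₁ : Ret R T g₁)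
    (h₂ : Ret R T g₂) (c : R) : Ret R T (g₁ + c * g₂) := by
  obtain ⟨Q₁, _, _, hQ₁, α₁, β₁, h1⟩ := h₁
  obtain ⟨Q₂, _, _, hQ₂, α₂, β₂, h2⟩ := h₂
  refine ⟨Q₁ × Q₂, inferInstance, inferInstance, isCyc_prod R Q₁ Q₂ hQ₁ hQ₂,
    α₁.prod α₂, β₁.coprod (c • β₂), ?_⟩
  apply LinearMap.ext
  intro t
  have e1 := LinearMap.congr_fun h1 t
  have e2 := LinearMap.congr_fun h2 t
  simp only [LinearMap.comp_apply, LinearMap.smul_apply, LinearMap.id_apply] at e1 e2
  show β₁ (α₁ t) + c • β₂ (α₂ t) = (g₁ + c * g₂) • t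
  rw [e1, e2, add_smul, mul_smul]

theorem ret_of_equiv {T T' : Type u} [AddCommGroup T] [Module R T] [AddCommGroup T']
    [Module R T'] (e : T ≃ₗ[R] T') {g : R} (h : Ret R T g) : Ret R T' g := by
  obtain ⟨Q, _, _, hQ, α, β, h1⟩ := h
  refine ⟨Q, inferInstance, inferInstance, hQ, α ∘ₗ e.symm.toLinearMap, e.toLinearMap ∘ₗ β, ?_⟩
  apply LinearMap.ext
  intro t
  have e1 := LinearMap.congr_fun h1 (e.symm t)
  simp only [LinearMap.comp_apply, LinearMap.smul_apply, LinearMap.id_apply] at e1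
  simp only [LinearMap.comp_apply, LinearEquiv.coe_coe, LinearMap.smul_apply,
    LinearMap.id_apply, e1, map_smul, LinearEquiv.apply_symm_apply]

/-- the pivot step -/
theorem ret_step {T T₂ : Type u} [AddCommGroup T] [Module R T] [AddCommGroup T₂] [Module R T₂]
    (d u g₂ : R) (hd : d ≠ 0) (α₀ : T →ₗ[R] (R ⧸ Ideal.span {d}) × T₂)
    (β₀ : (R ⧸ Ideal.span {d}) × T₂ →ₗ[R] T) (h0 : β₀ ∘ₗ α₀ = u • LinearMap.id)
    (h₂ : Ret R T₂ g₂) : Ret R T (g₂ * u) := by
  obtain ⟨Q₂, _, _, hQ₂, α₂, β₂, h2⟩ := h₂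
  refine ⟨(R ⧸ Ideal.span {d}) × Q₂, inferInstance, inferInstance,
    isCyc_prod R _ Q₂ (isCyc_quot R d hd) hQ₂,
    (LinearMap.prodMap LinearMap.id α₂) ∘ₗ α₀,
    β₀ ∘ₗ (LinearMap.prodMap (g₂ • LinearMap.id) β₂), ?_⟩
  apply LinearMap.ext
  intro t
  have e0 := LinearMap.congr_fun h0 t
  have e2 := LinearMap.congr_fun h2 (α₀ t).2
  simp only [LinearMap.comp_apply, LinearMap.smul_apply, LinearMap.id_apply] at e0 e2
  simp only [LinearMap.comp_apply, LinearMap.prodMap_apply, LinearMap.smul_apply,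
    LinearMap.id_apply, e2]
  have : ((g₂ • (α₀ t).1, g₂ • (α₀ t).2) : (R ⧸ Ideal.span {d}) × T₂) = g₂ • α₀ t := rfl
  rw [this, map_smul, e0, mul_smul]


theorem ret_one_of_local {T : Type u} [AddCommGroup T] [Module R T]
    (h : ∀ m : Ideal R, m.IsMaximal → ∃ g : R, g ∉ m ∧ Ret R T g) : Ret R T 1 := by
  classical
  choose g hg hret using fun m : {m : Ideal R // m.IsMaximal} => h m.1 m.2
  have hspan : Ideal.span (Set.range g) = ⊤ := by
    by_contra hne
    obtain ⟨m, hm, hle⟩ := Ideal.exists_le_maximal _ hne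
    exact hg ⟨m, hm⟩ (hle (Ideal.subset_span ⟨⟨m, hm⟩, rfl⟩))
  have h1 : (1 : R) ∈ Submodule.span R (Set.range g) := by
    have : (1 : R) ∈ Ideal.span (Set.range g) := by rw [hspan]; trivial
    exact this
  obtain ⟨c, hc⟩ := Finsupp.mem_span_range_iff_exists_finsupp.mp h1
  have key : ∀ S : Finset {m : Ideal R // m.IsMaximal}, Ret R T (∑ i ∈ S, c i * g i) := by
    intro S
    induction S using Finset.induction_on with
    | empty => simpa using ret_zero T
    | insert i S hi ih =>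
      rw [Finset.sum_insert hi, add_comm]
      exact ret_add ih (hret i) (c i)
  have := key c.support
  rw [Finsupp.sum] at hc
  simp only [smul_eq_mul] at hc
  rwa [hc] at this

end Cyc


section Local
variable {R : Type u} [CommRing R]

/-- insertion of a zero coordinate, as a linear map -/
def insL {n : ℕ} (j₀ : Fin (n+1)) : (Fin n → R) →ₗ[R] (Fin (n+1) → R) where
  toFun w := j₀.insertNth (0 : R) w
  map_add' w w' := by
    funext j
    refine Fin.succAboveCases j₀ ?_ (fun i => ?_) j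
    · simp
    · simp
  map_smul' c w := by
    funext j
    refine Fin.succAboveCases j₀ ?_ (fun i => ?_) j
    · simp
    · simp

@[simp] theorem insL_same {n : ℕ} (j₀ : Fin (n+1)) (w : Fin n → R) : insL j₀ w j₀ = 0 := by
  simp [insL]

@[simp] theorem insL_succAbove {n : ℕ} (j₀ : Fin (n+1)) (w : Fin n → R) (i : Fin n) :
    insL j₀ w (j₀.succAbove i) = w i := by
  simp [insL]

/-- removal of a coordinate, as a linear map -/
def remL {n : ℕ} (j₀ : Fin (n+1)) : (Fin (n+1) → R) →ₗ[R] (Fin n → R) :=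
  LinearMap.funLeft R R j₀.succAbove

@[simp] theorem remL_apply {n : ℕ} (j₀ : Fin (n+1)) (v : Fin (n+1) → R) (i : Fin n) :
    remL j₀ v i = v (j₀.succAbove i) := rfl

theorem insL_remL {n : ℕ} (j₀ : Fin (n+1)) (v : Fin (n+1) → R) (hv : v j₀ = 0) :
    insL j₀ (remL j₀ v) = v := by
  funext j
  refine Fin.succAboveCases j₀ ?_ (fun i => ?_) j
  · simp [hv]
  · simp

theorem remL_insL {n : ℕ} (j₀ : Fin (n+1)) (w : Fin n → R) : remL j₀ (insL j₀ w) = w := by
  funext i
  simp

variable [IsDomain R] [IsBezout R]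

/-- the comap under `insL` of a f.g. submodule is f.g. (Bézout domain) -/
theorem fg_comap_insL {n : ℕ} (j₀ : Fin (n+1)) (K : Submodule R (Fin (n+1) → R)) (hK : K.FG) :
    (K.comap (insL j₀)).FG := by
  haveI : Module.Finite R K := Module.Finite.iff_fg.mpr hK
  let q : K →ₗ[R] R := (LinearMap.proj j₀) ∘ₗ K.subtype
  let I : Ideal R := LinearMap.range q
  have hIfg : I.FG := by
    have : I = (⊤ : Submodule R K).map q := (LinearMap.range_eq_map q)
    rw [this]
    exact Module.Finite.fg_top.map q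
  haveI : I.IsPrincipal := IsBezout.isPrincipal_of_FG I hIfg
  haveI : Module.Free R I := by
    by_cases h : I = ⊥
    · haveI : Subsingleton I := by
        rw [h]; infer_instance
      exact Module.Free.of_subsingleton R I
    · exact Module.Free.of_equiv (Ideal.isoBaseOfIsPrincipal h)
  obtain ⟨s, hs⟩ := Module.projective_lifting_property q.rangeRestrict LinearMap.id
    q.surjective_rangeRestrict
  let e := Groth.Agent.S14346.equivProdKer q.rangeRestrict s hs
  haveI : Module.Finite R (LinearMap.ker q.rangeRestrict) := by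
    let g : K →ₗ[R] LinearMap.ker q.rangeRestrict :=
      (LinearMap.snd R I (LinearMap.ker q.rangeRestrict)) ∘ₗ e.toLinearMap
    have hg : Function.Surjective g := by
      intro y
      exact ⟨e.symm (0, y), by simp [g]⟩
    exact Module.Finite.of_surjective g hg
  let θ : LinearMap.ker q.rangeRestrict →ₗ[R] (Fin n → R) :=
    (remL j₀) ∘ₗ K.subtype ∘ₗ (LinearMap.ker q.rangeRestrict).subtype
  have hrange : LinearMap.range θ = K.comap (insL j₀) := by
    ext w
    constructor
    · rintro ⟨⟨⟨k, hk⟩, hkq⟩, rfl⟩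
      rw [LinearMap.mem_ker] at hkq
      have hk0 : k j₀ = 0 := by
        have := congrArg Subtype.val hkq
        simpa [q] using this
      rw [Submodule.mem_comap]
      simp only [θ, LinearMap.comp_apply, Submodule.subtype_apply]
      rw [insL_remL j₀ k hk0]
      exact hk
    · intro hw
      rw [Submodule.mem_comap] at hw
      refine ⟨⟨⟨insL j₀ w, hw⟩, ?_⟩, ?_⟩
      · rw [LinearMap.mem_ker]
        apply Subtype.ext
        simp [q]
      · simp only [θ, LinearMap.comp_apply, Submodule.subtype_apply]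
        exact remL_insL j₀ w
  rw [← hrange, LinearMap.range_eq_map]
  exact Module.Finite.fg_top.map θ


theorem local_ret : ∀ (n : ℕ) (K : Submodule R (Fin n → R)), K.FG →
    (∀ v : Fin n → R, ∃ a : R, a ≠ 0 ∧ a • v ∈ K) → ∀ m : Ideal R, m.IsMaximal →
    ∃ g : R, g ∉ m ∧ Ret R ((Fin n → R) ⧸ K) g
  | 0, K, _, _, m, hm => by
    refine ⟨1, fun h => hm.ne_top ((Ideal.eq_top_iff_one m).mpr h), ?_⟩
    refine ⟨PUnit.{u+1}, inferInstance, inferInstance, isCyc_punit R, 0, 0, ?_⟩
    apply LinearMap.ext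
    intro t
    obtain ⟨v, rfl⟩ := Submodule.mkQ_surjective K t
    have : v = 0 := by funext i; exact i.elim0
    simp [this]
  | n+1, K, hK, htors, m, hm => by
    classical
    haveI := hm.isPrime
    -- the ideal of coordinates
    let J : Ideal R := ⨆ j : Fin (n+1), Submodule.map (LinearMap.proj j) K
    have hJfg : J.FG := Submodule.fg_iSup _ (fun j => hK.map _)
    haveI : J.IsPrincipal := IsBezout.isPrincipal_of_FG J hJfg
    have hJmem : ∀ k ∈ K, ∀ j, k j ∈ J := fun k hk j =>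
      Submodule.mem_iSup_of_mem j (Submodule.mem_map_of_mem (f := LinearMap.proj j) hk)
    set d := Submodule.IsPrincipal.generator J with hd
    have hJd : J = Ideal.span {d} := (Ideal.span_singleton_generator J).symm
    have hd0 : d ≠ 0 := by
      obtain ⟨a, ha, hak⟩ := htors (Pi.single 0 1)
      have h1 := hJmem _ hak 0
      simp only [Pi.smul_apply, Pi.single_eq_same, smul_eq_mul, mul_one] at h1
      intro h0
      rw [hJd, h0, Ideal.span_singleton_eq_bot.mpr rfl, Ideal.mem_bot] at h1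
      exact ha h1
    have hdiv : ∀ k ∈ K, ∀ j, ∃ q, k j = d * q := by
      intro k hk j
      have := hJmem k hk j
      rw [hJd, Ideal.mem_span_singleton'] at this
      obtain ⟨q, hq⟩ := this
      exact ⟨q, by rw [← hq, mul_comm]⟩
    -- a coordinate with unit quotient
    have hex : ∃ k ∈ K, ∃ j, k j ∉ Ideal.span {d} * m := by
      by_contra hcon
      push Not at hcon
      have hle : J ≤ Ideal.span {d} * m := by
        refine iSup_le (fun j => ?_)
        rintro _ ⟨k, hk, rfl⟩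
        exact hcon k hk j
      have hdm : d ∈ Ideal.span {d} * m := hle (hJd ▸ Ideal.mem_span_singleton_self d)
      obtain ⟨μ, hμ, hμd⟩ := Ideal.mem_span_singleton_mul.mp hdm
      have : μ = 1 := by
        have h2 : d * (μ - 1) = 0 := by rw [mul_sub, hμd, mul_one, sub_self]
        rcases mul_eq_zero.mp h2 with h | h
        · exact absurd h hd0
        · exact sub_eq_zero.mp h
      exact hm.ne_top ((Ideal.eq_top_iff_one m).mpr (this ▸ hμ))
    obtain ⟨k₀, hk₀, j₀, hkj⟩ := hex
    choose v₀ hv₀ using hdiv k₀ hk₀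
    have hdv₀ : d • v₀ = k₀ := by
      funext j
      simp [hv₀ j]
    set u := v₀ j₀ with hu
    have hum : u ∉ m := by
      intro h
      apply hkj
      rw [hv₀ j₀]
      exact Ideal.mul_mem_mul (Ideal.mem_span_singleton_self d) h
    -- the maps
    let K₂ : Submodule R (Fin n → R) := K.comap (insL j₀)
    let P : (Fin (n+1) → R) →ₗ[R] (Fin n → R) :=
      u • remL j₀ - (LinearMap.proj j₀ : (Fin (n+1) → R) →ₗ[R] R).smulRight (remL j₀ v₀)
    have hP : ∀ v, insL j₀ (P v) = u • v - (v j₀) • v₀ := by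
      intro v
      funext j
      refine Fin.succAboveCases j₀ ?_ (fun i => ?_) j
      · simp only [insL_same, Pi.sub_apply, Pi.smul_apply, smul_eq_mul]
        rw [← hu]; ring
      · simp [P]
    have hmulK : ∀ v ∈ K, (v j₀) • v₀ ∈ K := by
      intro v hv
      obtain ⟨w, hw⟩ := hdiv v hv j₀
      rw [hw, mul_comm, mul_smul, hdv₀]
      exact K.smul_mem _ hk₀
    have hPK : K ≤ K₂.comap P := by
      intro v hv
      rw [Submodule.mem_comap, Submodule.mem_comap, hP]
      exact K.sub_mem (K.smul_mem _ hv) (hmulK v hv)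
    let p' : ((Fin (n+1) → R) ⧸ K) →ₗ[R] ((Fin n → R) ⧸ K₂) := K.mapQ K₂ P hPK
    let ιbar : ((Fin n → R) ⧸ K₂) →ₗ[R] ((Fin (n+1) → R) ⧸ K) := K₂.mapQ K (insL j₀) le_rfl
    have hπ : K ≤ LinearMap.ker ((Ideal.span {d}).mkQ ∘ₗ (LinearMap.proj j₀ : (Fin (n+1) → R) →ₗ[R] R)) := by
      intro v hv
      rw [LinearMap.mem_ker, LinearMap.comp_apply, Submodule.mkQ_apply,
        Submodule.Quotient.mk_eq_zero, ← hJd]
      exact hJmem v hv j₀
    let πbar : ((Fin (n+1) → R) ⧸ K) →ₗ[R] (R ⧸ Ideal.span {d}) := K.liftQ _ hπ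
    have hσ : Ideal.span {d} ≤ LinearMap.ker (K.mkQ ∘ₗ LinearMap.toSpanSingleton R (Fin (n+1) → R) v₀) := by
      intro x hx
      obtain ⟨c, rfl⟩ := Ideal.mem_span_singleton'.mp hx
      rw [LinearMap.mem_ker, LinearMap.comp_apply, LinearMap.toSpanSingleton_apply,
        Submodule.mkQ_apply, Submodule.Quotient.mk_eq_zero, mul_smul, hdv₀]
      exact K.smul_mem _ hk₀
    let σ : (R ⧸ Ideal.span {d}) →ₗ[R] ((Fin (n+1) → R) ⧸ K) := (Ideal.span {d}).liftQ _ hσ
    have h0 : (σ.coprod ιbar) ∘ₗ (πbar.prod p') = u • LinearMap.id := by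
      apply LinearMap.ext
      intro t
      obtain ⟨v, rfl⟩ := Submodule.mkQ_surjective K t
      show σ (πbar (K.mkQ v)) + ιbar (p' (K.mkQ v)) = u • K.mkQ v
      have e1 : πbar (K.mkQ v) = (Ideal.span {d}).mkQ (v j₀) := rfl
      have e2 : σ ((Ideal.span {d}).mkQ (v j₀)) = K.mkQ ((v j₀) • v₀) := rfl
      have e3 : p' (K.mkQ v) = K₂.mkQ (P v) := rfl
      have e4 : ιbar (K₂.mkQ (P v)) = K.mkQ (insL j₀ (P v)) := rfl
      rw [e1, e2, e3, e4, hP, ← map_add, ← map_smul]
      congr 1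
      abel
    -- induction hypothesis
    have hK₂ : K₂.FG := fg_comap_insL j₀ K hK
    have htors₂ : ∀ w : Fin n → R, ∃ a : R, a ≠ 0 ∧ a • w ∈ K₂ := by
      intro w
      obtain ⟨a, ha, hak⟩ := htors (insL j₀ w)
      refine ⟨a, ha, ?_⟩
      rw [Submodule.mem_comap, map_smul]
      exact hak
    obtain ⟨g₂, hg₂, hret₂⟩ := local_ret n K₂ hK₂ htors₂ m hm
    refine ⟨g₂ * u, ?_, ret_step d u g₂ hd0 _ _ h0 hret₂⟩
    intro h
    rcases (Ideal.IsPrime.mem_or_mem ‹m.IsPrime› h) with h | h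
    · exact hg₂ h
    · exact hum h

end Local


theorem split (R : Type u) [CommRing R] [IsDomain R] [IsBezout R]
    (M : Type u) [AddCommGroup M] [Module R M] [Module.Finite R M] :
    ∃ r : ℕ, Nonempty (M ≃ₗ[R] ((Fin r → R) × Submodule.torsion R M)) := by
  classical
  haveI : Module.Free R (M ⧸ torsion R M) := free_of_torsionFree R (M ⧸ torsion R M)
  obtain ⟨s, hs⟩ := Module.projective_lifting_property (torsion R M).mkQ LinearMap.id
    (Submodule.mkQ_surjective _)
  let e := Groth.Agent.S14346.equivProdKer (torsion R M).mkQ s hs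
  let e2 := (Module.finBasis R (M ⧸ torsion R M)).equivFun
  let e3 : LinearMap.ker (torsion R M).mkQ ≃ₗ[R] torsion R M :=
    LinearEquiv.ofEq _ _ (Submodule.ker_mkQ _)
  exact ⟨_, ⟨e ≪≫ₗ LinearEquiv.prodCongr e2 e3⟩⟩

/-- Over a Bézout domain R, a finitely presented module M splits as R^r ⊕ M_tors for some r, and its
torsion part M_tors is a retract (direct summand) of R/f_1R ⊕ … ⊕ R/f_nR for some nonzero f_1, …,
f_n. -/
theorem result (R : Type u) [CommRing R] [IsDomain R] [IsBezout R]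
    (M : Type u) [AddCommGroup M] [Module R M] [Module.FinitePresentation R M] :
    (∃ r : ℕ, Nonempty (M ≃ₗ[R] ((Fin r → R) × Submodule.torsion R M))) ∧
      ∃ (n : ℕ) (f : Fin n → R), (∀ j, f j ≠ 0) ∧
        ∃ (i : Submodule.torsion R M →ₗ[R] ((j : Fin n) → R ⧸ Ideal.span {f j}))
          (p : ((j : Fin n) → R ⧸ Ideal.span {f j}) →ₗ[R] Submodule.torsion R M),
          p ∘ₗ i = LinearMap.id := by
  classical
  obtain ⟨r, ⟨e⟩⟩ := split R M
  refine ⟨⟨r, ⟨e⟩⟩, ?_⟩
  -- torsion part is finitely presented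
  let pr : M →ₗ[R] torsion R M := (LinearMap.snd R (Fin r → R) (torsion R M)) ∘ₗ e.toLinearMap
  have hpr : Function.Surjective pr := by
    intro y
    exact ⟨e.symm (0, y), by simp [pr]⟩
  have hkerpr : (LinearMap.ker pr).FG := by
    have : LinearMap.ker pr = LinearMap.range (e.symm.toLinearMap ∘ₗ LinearMap.inl R (Fin r → R) (torsion R M)) := by
      ext x
      constructor
      · intro hx
        rw [LinearMap.mem_ker] at hx
        refine ⟨(e x).1, ?_⟩
        simp only [LinearMap.comp_apply, LinearMap.inl_apply, LinearEquiv.coe_coe]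
        rw [LinearEquiv.symm_apply_eq]
        refine Prod.ext rfl ?_
        simpa [pr] using hx.symm
      · rintro ⟨y, rfl⟩
        rw [LinearMap.mem_ker]
        simp [pr]
    rw [this, LinearMap.range_eq_map]
    exact Module.Finite.fg_top.map _
  haveI : Module.FinitePresentation R (torsion R M) :=
    Module.finitePresentation_of_surjective pr hpr hkerpr
  obtain ⟨n, π, hπ⟩ := Module.Finite.exists_fin' R (torsion R M)
  have hKfg : (LinearMap.ker π).FG := Module.FinitePresentation.fg_ker π hπ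
  have htors : ∀ v : Fin n → R, ∃ a : R, a ≠ 0 ∧ a • v ∈ LinearMap.ker π := by
    intro v
    have hmem : ((π v : torsion R M) : M) ∈ torsion R M := (π v).2
    obtain ⟨a, ha⟩ := (Submodule.mem_torsion_iff _).mp hmem
    refine ⟨a.1, nonZeroDivisors.coe_ne_zero a, ?_⟩
    rw [LinearMap.mem_ker, map_smul]
    apply Subtype.ext
    exact ha
  have h1 : Ret R ((Fin n → R) ⧸ LinearMap.ker π) 1 :=
    ret_one_of_local (fun m hm => local_ret n (LinearMap.ker π) hKfg htors m hm)
  have h2 : Ret R (torsion R M) 1 := ret_of_equiv (π.quotKerEquivOfSurjective hπ) h1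
  obtain ⟨Q, _, _, ⟨k, f, hf, ⟨eQ⟩⟩, α, β, hβα⟩ := h2
  refine ⟨k, f, hf, eQ.toLinearMap ∘ₗ α, β ∘ₗ eQ.symm.toLinearMap, ?_⟩
  apply LinearMap.ext
  intro t
  have := LinearMap.congr_fun hβα t
  simp only [LinearMap.comp_apply, LinearMap.id_apply, one_smul] at this
  simp [this]


end Groth.Agent.S7121
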