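import Groth.Statements.S7122
import Mathlib
import Groth.Agent.S14346
import Groth.Agent.S7120

set_option autoImplicit false
universe u
open CAlg

namespace Groth.Agent.S7122

/-- Let R be a Bézout domain, n ≥ 1, and f_1, ..., f_n elements generating the unit ideal. Then some
invertible n × n matrix over R has (f_1, ..., f_n) as its first row. -/
theorem result (R : Type u) [CommRing R] [IsDomain R] [IsBezout R]
    (n : ℕ) (f : Fin (n + 1) → R) (hf : Ideal.span (Set.range f) = ⊤) :
    ∃ A : Matrix (Fin (n + 1)) (Fin (n + 1)) R, IsUnit A.det ∧ A 0 = f := by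
  classical
  let φ : (Fin (n+1) → R) →ₗ[R] R := Fintype.linearCombination R f
  have hφ : ∀ x, φ x = ∑ i, x i * f i := fun x => by
    simp [φ, Fintype.linearCombination_apply]
  have h1 : (1 : R) ∈ Ideal.span (Set.range f) := by rw [hf]; trivial
  obtain ⟨v, hv⟩ := (Submodule.mem_span_range_iff_exists_fun R).mp h1
  let s : R →ₗ[R] (Fin (n+1) → R) := LinearMap.toSpanSingleton R _ v
  have hs : φ ∘ₗ s = LinearMap.id := by
    apply LinearMap.ext
    intro c
    simp only [LinearMap.comp_apply, s, LinearMap.toSpanSingleton_apply, LinearMap.id_apply]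
    rw [map_smul, hφ]
    have : ∑ i, v i * f i = 1 := by simpa using hv
    rw [this, smul_eq_mul, mul_one]
  let e₁ := Groth.Agent.S14346.equivProdKer φ s hs
  haveI : Module.Finite R (LinearMap.ker φ) := by
    let g : (Fin (n+1) → R) →ₗ[R] LinearMap.ker φ :=
      (LinearMap.snd R R (LinearMap.ker φ)) ∘ₗ e₁.toLinearMap
    have hg : Function.Surjective g := by
      intro y
      exact ⟨e₁.symm (0, y), by simp [g]⟩
    exact Module.Finite.of_surjective g hg
  haveI : Module.Free R (LinearMap.ker φ) :=
    Groth.Agent.S7120.free_of_fg_fin R (n+1) (LinearMap.ker φ) (Module.Finite.iff_fg.mp inferInstance)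
  have hrank : Module.finrank R (LinearMap.ker φ) = n := by
    have h2 := e₁.finrank_eq
    rw [Module.finrank_prod, Module.finrank_self, Module.finrank_fin_fun] at h2
    omega
  let bK := Module.finBasisOfFinrankEq R (LinearMap.ker φ) hrank
  let e : (Fin (n+1) → R) ≃ₗ[R] (Fin (n+1) → R) :=
    e₁ ≪≫ₗ (LinearEquiv.prodCongr (LinearEquiv.refl R R) bK.equivFun) ≪≫ₗ
      Fin.consLinearEquiv R (fun _ : Fin (n+1) => R)
  have he0 : ∀ x, e x 0 = φ x := by
    intro x
    simp [e, e₁, Groth.Agent.S14346.equivProdKer, Fin.consLinearEquiv]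
  refine ⟨LinearMap.toMatrix' e.toLinearMap, ?_, ?_⟩
  · rw [LinearMap.det_toMatrix']
    exact LinearEquiv.isUnit_det' e
  · funext j
    rw [LinearMap.toMatrix'_apply]
    simp only [LinearEquiv.coe_coe]
    rw [he0, hφ]
    simp [Pi.single_apply]


end Groth.Agent.S7122
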