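import Groth.Statements.S7123
import Mathlib

set_option autoImplicit false
universe u
open CAlg

namespace Groth.Agent.S7123


/-- lifting a map `R/f → C` along a surjection with the relative divisibility property -/
lemma lift_cyclic {R : Type u} [CommRing R] {B C : Type u} [AddCommGroup B] [Module R B]
    [AddCommGroup C] [Module R C] (π : B →ₗ[R] C) (hπ : Function.Surjective π)
    (hrd : ∀ (f : R) (b : B), π (f • b) = 0 → ∃ a : B, π a = 0 ∧ f • a = f • b)
    (f : R) (ψ : (R ⧸ Ideal.span {f}) →ₗ[R] C) :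
    ∃ φ : (R ⧸ Ideal.span {f}) →ₗ[R] B, π ∘ₗ φ = ψ := by
  obtain ⟨b, hb⟩ := hπ (ψ (Ideal.Quotient.mk _ 1))
  have hf : f • ψ (Ideal.Quotient.mk _ 1) = 0 := by
    rw [← map_smul, ← Ideal.Quotient.mk_eq_mk, ← Submodule.Quotient.mk_smul, smul_eq_mul, mul_one]
    have : (Submodule.Quotient.mk f : R ⧸ Ideal.span {f}) = 0 :=
      (Submodule.Quotient.mk_eq_zero _).mpr (Ideal.mem_span_singleton_self f)
    rw [this, map_zero]
  obtain ⟨a, ha, hfa⟩ := hrd f b (by rw [map_smul, hb, hf])
  have hle : Ideal.span {f} ≤ LinearMap.ker (LinearMap.toSpanSingleton R B (b - a)) := by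
    rw [Ideal.span_le]
    intro x hx
    rw [Set.mem_singleton_iff] at hx
    subst hx
    show (LinearMap.toSpanSingleton R B (b - a)) x = 0
    rw [LinearMap.toSpanSingleton_apply, smul_sub, hfa, sub_self]
  refine ⟨Submodule.liftQ _ (LinearMap.toSpanSingleton R B (b - a)) hle, ?_⟩
  apply Submodule.linearMap_qext
  apply LinearMap.ext_ring
  show π ((LinearMap.toSpanSingleton R B (b - a)) 1) = ψ (Submodule.Quotient.mk 1)
  rw [LinearMap.toSpanSingleton_apply, one_smul, map_sub, ha, sub_zero, hb]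
  rfl

open DirectSum in
/-- For a module P over a ring R these two conditions are equivalent: (1) P is a retract (direct
summand) of a direct sum of cyclic modules R/fR, f ranging over R; (2) for every surjection of
R-modules π : B → C whose kernel A satisfies fA = A ∩ fB for every f in R, each linear map P → C
lifts through π. -/
theorem result (R : Type u) [CommRing R] (P : Type u)
    [AddCommGroup P] [Module R P] :
    (∃ (ι : Type u) (f : ι → R) (i : P →ₗ[R] (⨁ j, R ⧸ Ideal.span {f j}))
        (p : (⨁ j, R ⧸ Ideal.span {f j}) →ₗ[R] P), p ∘ₗ i = LinearMap.id) ↔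
      ∀ (B C : Type u) [AddCommGroup B] [Module R B] [AddCommGroup C] [Module R C] (π : B →ₗ[R] C),
        Function.Surjective π →
        (∀ (f : R) (b : B), π (f • b) = 0 → ∃ a : B, π a = 0 ∧ f • a = f • b) →
        ∀ ψ : P →ₗ[R] C, ∃ φ : P →ₗ[R] B, π ∘ₗ φ = ψ := by
  classical
  constructor
  · rintro ⟨ι, f, i, p, hpi⟩ B C _ _ _ _ π hπ hrd ψ
    choose φj hφj using fun j => lift_cyclic π hπ hrd (f j)
      ((ψ ∘ₗ p) ∘ₗ DirectSum.lof R ι (fun j => R ⧸ Ideal.span {f j}) j)
    let φ' : (⨁ j, R ⧸ Ideal.span {f j}) →ₗ[R] B := DirectSum.toModule R ι B φj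
    have h1 : π ∘ₗ φ' = ψ ∘ₗ p := by
      apply DirectSum.linearMap_ext
      intro j
      apply LinearMap.ext
      intro x
      simp only [LinearMap.comp_apply, φ', DirectSum.toModule_lof]
      exact LinearMap.congr_fun (hφj j) x
    refine ⟨φ' ∘ₗ i, ?_⟩
    rw [← LinearMap.comp_assoc, h1, LinearMap.comp_assoc, hpi, LinearMap.comp_id]
  · intro H
    let ι : Type u := {q : R × P // q.1 • q.2 = 0}
    let f : ι → R := fun q => q.1.1
    let πj : ∀ j : ι, (R ⧸ Ideal.span {f j}) →ₗ[R] P := fun j =>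
      Submodule.liftQ _ (LinearMap.toSpanSingleton R P j.1.2) (by
        rw [Ideal.span_le]
        intro x hx
        rw [Set.mem_singleton_iff] at hx
        subst hx
        show (LinearMap.toSpanSingleton R P j.1.2) (f j) = 0
        rw [LinearMap.toSpanSingleton_apply]
        exact j.2)
    let π : (⨁ j, R ⧸ Ideal.span {f j}) →ₗ[R] P := DirectSum.toModule R ι P πj
    let e : ∀ j : ι, (⨁ j, R ⧸ Ideal.span {f j}) := fun j =>
      DirectSum.lof R ι (fun j => R ⧸ Ideal.span {f j}) j (Submodule.Quotient.mk 1)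
    have hπe : ∀ j : ι, π (e j) = j.1.2 := by
      intro j
      simp only [π, e, DirectSum.toModule_lof]
      show (LinearMap.toSpanSingleton R P j.1.2) 1 = _
      rw [LinearMap.toSpanSingleton_apply, one_smul]
    have hfe : ∀ j : ι, f j • e j = 0 := by
      intro j
      simp only [e]
      rw [← map_smul, ← Submodule.Quotient.mk_smul, smul_eq_mul, mul_one]
      have : (Submodule.Quotient.mk (f j) : R ⧸ Ideal.span {f j}) = 0 :=
        (Submodule.Quotient.mk_eq_zero _).mpr (Ideal.mem_span_singleton_self _)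
      rw [this, map_zero]
    have hπsurj : Function.Surjective π := by
      intro x
      exact ⟨e ⟨(0, x), zero_smul R x⟩, hπe _⟩
    have hrd : ∀ (g : R) (b : (⨁ j, R ⧸ Ideal.span {f j})), π (g • b) = 0 →
        ∃ a, π a = 0 ∧ g • a = g • b := by
      intro g b hb
      rw [map_smul] at hb
      let j : ι := ⟨(g, π b), hb⟩
      refine ⟨b - e j, ?_, ?_⟩
      · rw [map_sub, hπe, sub_self]
      · rw [smul_sub]
        have : g • e j = 0 := hfe j
        rw [this, sub_zero]
    obtain ⟨φ, hφ⟩ := H _ P π hπsurj hrd LinearMap.id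
    exact ⟨ι, f, φ, π, hφ⟩


end Groth.Agent.S7123
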