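import Groth.Statements.S7131
import Mathlib
import Groth.Agent.H4.WEt
import Groth.Agent.Lib.Helper2.TorLin
import Groth.Agent.Lib.Helper2.TorBalApps
import Groth.Agent.Lib.Helper2.TorBalLin
import Groth.Agent.Lib.Helper2.TorIsoResidue

set_option autoImplicit false
universe u
open EtAlg

namespace Groth.Agent.S7131

open CategoryTheory CategoryTheory.Limits
open Groth.Agent.H2.TorBal


section Shift
variable {R : Type u} [CommRing R]

/-- dimension shifting in the first variable -/
theorem shift (X : ModuleCat.{u} R) (S : ShortComplex (ModuleCat.{u} R)) (hS : S.ShortExact)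
    [Module.Flat R S.X₂] (p : ℕ) :
    IsZero (((Tor (ModuleCat.{u} R) (p + 1 + 1)).obj S.X₃).obj X) ↔
      IsZero (((Tor (ModuleCat.{u} R) (p + 1)).obj S.X₁).obj X) := by
  obtain ⟨-, δ, w₁, w₂, ex1, ex2⟩ := tor_les_left X S hS (p + 1)
  have h1 : IsZero (((Tor (ModuleCat.{u} R) (p + 1 + 1)).obj S.X₂).obj X) :=
    isZero_tor_succ_of_flat_left S.X₂ X (p + 1)
  have h2 : IsZero (((Tor (ModuleCat.{u} R) (p + 1)).obj S.X₂).obj X) :=
    isZero_tor_succ_of_flat_left S.X₂ X p
  haveI hm : Mono δ := ex1.mono_g (h1.eq_of_src _ _)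
  haveI he : Epi δ := ex2.epi_f (h2.eq_of_tgt _ _)
  constructor
  · intro hz
    exact IsZero.of_epi δ hz
  · intro hz
    exact IsZero.of_mono δ hz

end Shift


section Main
variable (A B : Type u) [CommRing A] [CommRing B] [Algebra A B] [Algebra.WeaklyEtale A B]

theorem claim (d : ℕ) : ∀ (N : Type u) [AddCommGroup N] [Module B N] [Module A N]
    [IsScalarTower A B N],
    (∀ (X : ModuleCat.{u} A) (p : ℕ), d < p →
      IsZero (((Tor (ModuleCat.{u} A) p).obj (ModuleCat.of A N)).obj X)) →
    ∀ (Y : ModuleCat.{u} B) (p : ℕ), d < p →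
      IsZero (((Tor (ModuleCat.{u} B) p).obj (ModuleCat.of B N)).obj Y) := by
  induction d with
  | zero =>
    intro N _ _ _ _ h Y p hp
    haveI : Module.Flat A N := flat_of_isZero_tor_one N (fun X =>
      (h X 1 one_pos).of_iso (((torSymm (R := A) 1).app X).app (ModuleCat.of A N)))
    haveI : Module.Flat B N :=
      Groth.Agent.H4.WEt.main (A := A) (B := B) (N := N) (Algebra.WeaklyEtale.flat_lmul' A B)
    obtain ⟨q, rfl⟩ : ∃ q, p = q + 1 := ⟨p - 1, by omega⟩
    exact isZero_tor_succ_of_flat_left (ModuleCat.of B N) Y q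
  | succ d ih =>
    intro N _ _ _ _ h Y p hp
    let π : (N →₀ B) →ₗ[B] N := Finsupp.linearCombination B id
    have hπ : Function.Surjective π := Finsupp.linearCombination_id_surjective B N
    let ι : (LinearMap.ker π) →ₗ[B] (N →₀ B) := (LinearMap.ker π).subtype
    have hex : Function.Exact ι π := by
      intro x
      simp [ι, LinearMap.mem_ker]
    let SB := scOfLinearMaps (R := B) (A := LinearMap.ker π) (B := N →₀ B) (C := N) ι π hex
    have hSB : SB.ShortExact :=
      scOfLinearMaps_shortExact _ _ (LinearMap.ker π).injective_subtype _ hπ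
    have hexA : Function.Exact (ι.restrictScalars A) (π.restrictScalars A) := hex
    let SA := scOfLinearMaps (R := A) (A := LinearMap.ker π) (B := N →₀ B) (C := N)
      (ι.restrictScalars A) (π.restrictScalars A) hexA
    have hSA : SA.ShortExact :=
      scOfLinearMaps_shortExact _ _ (LinearMap.ker π).injective_subtype _ hπ
    haveI : Module.Flat A (N →₀ B) := Module.Flat.trans A B (N →₀ B)
    haveI : Module.Flat A SA.X₂ := inferInstanceAs (Module.Flat A (N →₀ B))
    haveI : Module.Flat B SB.X₂ := inferInstanceAs (Module.Flat B (N →₀ B))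
    have hK : ∀ (X : ModuleCat.{u} A) (q : ℕ), d < q →
        IsZero (((Tor (ModuleCat.{u} A) q).obj (ModuleCat.of A (LinearMap.ker π))).obj X) := by
      intro X q hq
      obtain ⟨q', rfl⟩ : ∃ q', q = q' + 1 := ⟨q - 1, by omega⟩
      exact (shift X SA hSA q').mp (h X (q' + 1 + 1) (by omega))
    have hKB := ih (LinearMap.ker π) hK Y
    obtain ⟨q', rfl⟩ : ∃ q', p = q' + 1 + 1 := ⟨p - 2, by omega⟩
    exact (shift Y SB hSB q').mpr (hKB (q' + 1) (by omega))

/-- Suppose A → B is weakly étale and every A-module has tor dimension at most d. Then every B-module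
has tor dimension at most d over B (weak dimension at most d ascends along weakly étale maps). -/
theorem result (A B : Type u) [CommRing A] [CommRing B] [Algebra A B]
    [Algebra.WeaklyEtale A B] (d : ℕ)
    (hA : ∀ (M : Type u) [AddCommGroup M] [Module A M], DRing.HasTorDimLE A d M)
    (N : Type u) [AddCommGroup N] [Module B N] : DRing.HasTorDimLE B d N := by
  letI : Module A N := Module.compHom N (algebraMap A B)
  haveI : IsScalarTower A B N := IsScalarTower.of_algebraMap_smul (fun r x => rfl)
  intro Y _ _ p hp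
  have := claim A B d N (fun X q hq => ?_) (ModuleCat.of B Y) p hp
  · exact ModuleCat.subsingleton_of_isZero this
  · haveI : Subsingleton (DRing.Tor A q N X) := hA N X q hq
    exact ModuleCat.isZero_of_subsingleton _

end Main


end Groth.Agent.S7131
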