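import Groth.Statements.S7137
import Mathlib
import Groth.Agent.Lib.Helper1.AusBuch

set_option autoImplicit false
universe u
open CategoryTheory
open CAlg

namespace Groth.Agent.S7137

open CategoryTheory CategoryTheory.Limits


section PD
variable {R : Type u} [CommRing R]

theorem pd_of_linearEquiv {M N : Type u} [AddCommGroup M] [Module R M] [AddCommGroup N]
    [Module R N] (e : M ≃ₗ[R] N) (n : ℕ) (h : HasProjectiveDimensionLT (ModuleCat.of R M) n) :
    HasProjectiveDimensionLT (ModuleCat.of R N) n :=
  hasProjectiveDimensionLT_of_iso e.toModuleIso n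

theorem pd_ses {K F M : Type u} [AddCommGroup K] [Module R K] [AddCommGroup F] [Module R F]
    [AddCommGroup M] [Module R M] (f : K →ₗ[R] F) (g : F →ₗ[R] M) (hf : Function.Injective f)
    (hfg : Function.Exact f g) (hg : Function.Surjective g) :
    (ShortComplex.mk (ModuleCat.ofHom f) (ModuleCat.ofHom g) (by
      ext x; exact hfg.apply_apply_eq_zero x)).ShortExact :=
  ModuleCat.shortComplex_shortExact _ hfg hf hg

theorem pd_prod {M N : Type u} [AddCommGroup M] [Module R M] [AddCommGroup N] [Module R N]
    (n : ℕ) (hM : HasProjectiveDimensionLT (ModuleCat.of R M) n)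
    (hN : HasProjectiveDimensionLT (ModuleCat.of R N) n) :
    HasProjectiveDimensionLT (ModuleCat.of R (M × N)) n := by
  have hS := pd_ses (LinearMap.inl R M N) (LinearMap.snd R M N) LinearMap.inl_injective
    (by
      intro x
      constructor
      · intro hx
        exact ⟨x.1, Prod.ext rfl (by simpa using hx.symm)⟩
      · rintro ⟨y, rfl⟩
        simp) LinearMap.snd_surjective
  exact hS.hasProjectiveDimensionLT_X₂ n hM hN

theorem pd_pi_fin {M : Type u} [AddCommGroup M] [Module R M] (n : ℕ)
    (hM : HasProjectiveDimensionLT (ModuleCat.of R M) n) (m : ℕ) :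
    HasProjectiveDimensionLT (ModuleCat.of R (Fin m → M)) n := by
  induction m with
  | zero =>
    have : IsZero (ModuleCat.of R (Fin 0 → M)) := ModuleCat.isZero_of_subsingleton _
    haveI := this.hasProjectiveDimensionLT_zero
    exact hasProjectiveDimensionLT_of_ge _ 0 n (Nat.zero_le _)
  | succ m ih =>
    exact pd_of_linearEquiv (Fin.consLinearEquiv R (fun _ : Fin (m + 1) => M)) n (pd_prod n hM ih)

end PD


section Restrict
variable {R : Type u} [CommRing R] [IsNoetherianRing R] [IsLocalRing R] (I : Ideal R)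

theorem pd_restrict [Nontrivial (R ⧸ I)] (a : ℕ)
    (ha : HasProjectiveDimensionLT (ModuleCat.of R (R ⧸ I)) (a + 1)) :
    ∀ (b : ℕ) (E : Type u) [AddCommGroup E] [Module (R ⧸ I) E] [Module R E]
      [IsScalarTower R (R ⧸ I) E] [Module.Finite (R ⧸ I) E],
      HasProjectiveDimensionLT (ModuleCat.of (R ⧸ I) E) (b + 1) →
      HasProjectiveDimensionLT (ModuleCat.of R E) (a + b + 1) := by
  haveI : IsLocalRing (R ⧸ I) :=
    IsLocalRing.of_surjective' (Ideal.Quotient.mk I) Ideal.Quotient.mk_surjective
  intro b
  induction b with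
  | zero =>
    intro E _ _ _ _ _ hE
    haveI : Projective (ModuleCat.of (R ⧸ I) E) :=
      projective_iff_hasProjectiveDimensionLT_one.mpr hE
    haveI : Module.Projective (R ⧸ I) E := (IsProjective.iff_projective E).mpr ‹_›
    haveI : Module.Free (R ⧸ I) E := Module.free_of_flat_of_isLocalRing
    let e := (Module.finBasis (R ⧸ I) E).equivFun
    have := pd_pi_fin (a + 1) ha (Module.finrank (R ⧸ I) E)
    exact pd_of_linearEquiv (e.restrictScalars R).symm (a + 0 + 1) this
  | succ b ih =>
    intro E _ _ _ _ _ hE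
    obtain ⟨m, f, hf⟩ := Module.Finite.exists_fin' (R ⧸ I) E
    have hexact : Function.Exact (LinearMap.ker f).subtype f := by
      intro x
      simp [LinearMap.mem_ker]
    have hS := pd_ses (LinearMap.ker f).subtype f (LinearMap.ker f).injective_subtype hexact hf
    haveI : Projective (ModuleCat.of (R ⧸ I) (Fin m → R ⧸ I)) :=
      (IsProjective.iff_projective (Fin m → R ⧸ I)).mp inferInstance
    have hK : HasProjectiveDimensionLT (ModuleCat.of (R ⧸ I) (LinearMap.ker f)) (b + 1) :=
      (hS.hasProjectiveDimensionLT_X₃_iff b ‹_›).mp hE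
    have hKR := ih (LinearMap.ker f) hK
    have hexactR : Function.Exact ((LinearMap.ker f).subtype.restrictScalars R)
        (f.restrictScalars R) := hexact
    have hSR := pd_ses ((LinearMap.ker f).subtype.restrictScalars R) (f.restrictScalars R)
      (LinearMap.ker f).injective_subtype hexactR hf
    have hF : HasProjectiveDimensionLT (ModuleCat.of R (Fin m → R ⧸ I)) (a + b + 1 + 1) :=
      haveI := pd_pi_fin (a + 1) ha m
      hasProjectiveDimensionLT_of_ge _ (a + 1) _ (by omega)
    exact hSR.hasProjectiveDimensionLT_X₃ (a + b + 1) hKR hF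

end Restrict


theorem exists_nat_of_pd {R : Type u} [CommRing R] {X : ModuleCat.{u} R}
    (h : projectiveDimension X ≠ ⊤) (hX : ¬ IsZero X) : ∃ a : ℕ, projectiveDimension X = a := by
  generalize hd : projectiveDimension X = d at h
  induction d with
  | bot => exact absurd ((projectiveDimension_eq_bot_iff X).mp hd) hX
  | coe d =>
    induction d with
    | top => exact absurd rfl h
    | coe n => exact ⟨n, rfl⟩

open Groth.Agent.H1.AB in

/-- Take a Noetherian local ring R, an ideal I and a finite module E ≠ 0 over R/I. Suppose that R/I, as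
an R-module, and E, as an R/I-module, both have finite projective dimension. Then E, as an R-module,
has finite projective dimension too, and it equals pd_R(R/I) + pd_{R/I}(E). -/
theorem result (R : Type u) [CommRing R] [IsNoetherianRing R] [IsLocalRing R]
    (I : Ideal R) (E : Type u) [AddCommGroup E] [Module (R ⧸ I) E] [Module R E] [IsScalarTower R (R ⧸ I) E]
    [Module.Finite (R ⧸ I) E] [Nontrivial E]
    (h1 : projectiveDimension (ModuleCat.of R (R ⧸ I)) ≠ ⊤)
    (h2 : projectiveDimension (ModuleCat.of (R ⧸ I) E) ≠ ⊤) :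
    projectiveDimension (ModuleCat.of R E) ≠ ⊤ ∧
      projectiveDimension (ModuleCat.of R E) =
        projectiveDimension (ModuleCat.of R (R ⧸ I)) + projectiveDimension (ModuleCat.of (R ⧸ I) E) := by
  haveI : Nontrivial (R ⧸ I) := by
    by_contra h
    rw [not_nontrivial_iff_subsingleton] at h
    haveI := Module.subsingleton (R ⧸ I) E
    exact not_subsingleton E ‹_›
  haveI : IsLocalRing (R ⧸ I) :=
    IsLocalRing.of_surjective' (Ideal.Quotient.mk I) Ideal.Quotient.mk_surjective
  haveI : Module.Finite R E := Module.Finite.trans (R ⧸ I) E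
  have hnz1 : ¬ IsZero (ModuleCat.of R (R ⧸ I)) := by
    rw [ModuleCat.isZero_iff_subsingleton]
    exact not_subsingleton _
  have hnz2 : ¬ IsZero (ModuleCat.of (R ⧸ I) E) := by
    rw [ModuleCat.isZero_iff_subsingleton]
    exact not_subsingleton _
  have hnz3 : ¬ IsZero (ModuleCat.of R E) := by
    rw [ModuleCat.isZero_iff_subsingleton]
    exact not_subsingleton _
  obtain ⟨a, ha⟩ := exists_nat_of_pd h1 hnz1
  obtain ⟨b, hb⟩ := exists_nat_of_pd h2 hnz2
  have hE : HasProjectiveDimensionLT (ModuleCat.of R E) (a + b + 1) := by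
    refine pd_restrict I a ?_ b E ?_
    · rw [← projectiveDimension_lt_iff, ha]
      exact_mod_cast Nat.lt_succ_self a
    · rw [← projectiveDimension_lt_iff, hb]
      exact_mod_cast Nat.lt_succ_self b
  have h3 : projectiveDimension (ModuleCat.of R E) ≠ ⊤ := by
    rw [projectiveDimension_ne_top_iff]
    exact ⟨a + b, hE⟩
  obtain ⟨c, hc⟩ := exists_nat_of_pd h3 hnz3
  have e1 := auslander_buchsbaum' (R := R) (R ⧸ I) a ha
  have e2 := auslander_buchsbaum' (R := R ⧸ I) E b hb
  have e3 := auslander_buchsbaum' (R := R) E c hc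
  have hsurj : Function.Surjective (algebraMap R (R ⧸ I)) := Ideal.Quotient.mk_surjective
  have e4 : LocCoh.depth R (R ⧸ I) = LocCoh.depth (R ⧸ I) (R ⧸ I) :=
    depth_eq_of_surjective hsurj (R ⧸ I)
  have e5 : LocCoh.depth R E = LocCoh.depth (R ⧸ I) E := depth_eq_of_surjective hsurj E
  obtain ⟨t, ht, -⟩ := Groth.Agent.H6.Depth.exists_depth_eq (R := R ⧸ I) E
  rw [e4, e2, ht] at e1
  rw [e5, ht, e1] at e3
  have hcab : c = a + b := by
    have : ((a + (b + t) : ℕ) : ℕ∞) = ((c + t : ℕ) : ℕ∞) := by push_cast; exact e3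
    have := Nat.cast_injective this
    omega
  refine ⟨h3, ?_⟩
  rw [hc, ha, hb, hcab]
  push_cast
  rfl


end Groth.Agent.S7137
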