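import Groth.Statements.S7141
import Mathlib
import Groth.Agent.H4.WEtSep

set_option autoImplicit false
universe u
open EtAlg

namespace Groth.Agent.S7141

open TensorProduct Polynomial
open Groth.Agent.H4.WEtSep



/-- Let K be a field and, for a K-algebra A, let B_max(A) be its largest weakly étale K-subalgebra. (2)
For a K-subalgebra A' ⊆ A one has B_max(A') = B_max(A) ∩ A'. (4) The quotient map A → A_red =
A/nilradical restricts to a bijection B_max(A) → B_max(A_red). (6) If A ≠ 0 and its only idempotents
are 0 and 1, then B_max(A) is a field, algebraic and separable over K. (The published statement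
omits A ≠ 0; this row assumes it, since for A = 0 the largest weakly étale subalgebra is the zero
ring.) -/
theorem result (K : Type u) [Field K] (A : Type u) [CommRing A] [Algebra K A] :
    (∀ A' : Subalgebra K A,
      (EtAlgD.maxWeaklyEtale K A').map A'.val = EtAlgD.maxWeaklyEtale K A ⊓ A') ∧
    (Set.BijOn (Ideal.Quotient.mkₐ K (nilradical A)) (EtAlgD.maxWeaklyEtale K A)
      (EtAlgD.maxWeaklyEtale K (A ⧸ nilradical A))) ∧
    ((∀ e : A, IsIdempotentElem e → e = 0 ∨ e = 1) → Nontrivial A →
      IsField (EtAlgD.maxWeaklyEtale K A) ∧ Algebra.IsSeparable K (EtAlgD.maxWeaklyEtale K A)) := by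
  refine ⟨?_, ?_, ?_⟩
  · intro A'
    ext x
    rw [Subalgebra.mem_map, Algebra.mem_inf]
    constructor
    · rintro ⟨y, hy, rfl⟩
      rw [mem_maxWeaklyEtale] at hy
      refine ⟨?_, y.2⟩
      rw [mem_maxWeaklyEtale]
      exact isSeparable_map A'.val hy
    · rintro ⟨hx1, hx2⟩
      rw [mem_maxWeaklyEtale] at hx1
      refine ⟨⟨x, hx2⟩, ?_, rfl⟩
      rw [mem_maxWeaklyEtale]
      exact isSeparable_of_injective A'.val Subtype.val_injective hx1
  · refine ⟨?_, ?_, ?_⟩
    · intro x hx
      rw [SetLike.mem_coe, mem_maxWeaklyEtale] at hx ⊢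
      exact isSeparable_map _ hx
    · intro x hx y hy hxy
      rw [SetLike.mem_coe, mem_maxWeaklyEtale] at hx hy
      have hsub : IsSeparable K (x - y) := (sepSub K A).sub_mem hx hy
      have hnil : IsNilpotent (x - y) := by
        rw [← mem_nilradical, ← Ideal.Quotient.eq_zero_iff_mem, map_sub, sub_eq_zero]
        exact hxy
      haveI : IsReduced (sepSub K A) := Groth.Agent.S7128.result K (sepSub K A)
      have h0 : (⟨x - y, hsub⟩ : sepSub K A) = 0 := by
        apply IsNilpotent.eq_zero
        obtain ⟨n, hn⟩ := hnil
        exact ⟨n, Subtype.ext (by simpa using hn)⟩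
      have := congrArg Subtype.val h0
      exact sub_eq_zero.mp this
    · intro ybar hy
      rw [SetLike.mem_coe, mem_maxWeaklyEtale] at hy
      obtain ⟨y, rfl⟩ := Ideal.Quotient.mk_surjective ybar
      set p := minpoly K (Ideal.Quotient.mk (nilradical A) y) with hp
      have hmk : ∀ q : K[X], Ideal.Quotient.mk (nilradical A) (aeval y q) =
          aeval (Ideal.Quotient.mk (nilradical A) y) q := by
        intro q
        rw [← Ideal.Quotient.mkₐ_eq_mk K, ← aeval_algHom_apply]
      have h1 : IsNilpotent (aeval y p) := by
        rw [← mem_nilradical, ← Ideal.Quotient.eq_zero_iff_mem, hmk, hp, minpoly.aeval]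
      have h2 : IsUnit (aeval y (derivative p)) := by
        obtain ⟨u, v, huv⟩ : IsCoprime p (derivative p) := hy
        have h3 := congrArg (aeval y) huv
        rw [map_add, map_mul, map_mul, map_one] at h3
        have h4 : aeval y v * aeval y (derivative p) = 1 - aeval y u * aeval y p := by
          rw [← h3]; ring
        have h5 : IsUnit (1 - aeval y u * aeval y p) :=
          IsNilpotent.isUnit_one_sub (Commute.isNilpotent_mul_left (Commute.all _ _) h1)
        rw [← h4] at h5
        exact isUnit_of_mul_isUnit_right h5
      obtain ⟨r, ⟨hr1, hr2⟩, -⟩ := Polynomial.existsUnique_nilpotent_sub_and_aeval_eq_zero h1 h2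
      refine ⟨r, ?_, ?_⟩
      · rw [SetLike.mem_coe, mem_maxWeaklyEtale]
        exact Separable.of_dvd hy (minpoly.dvd K r hr2)
      · rw [Ideal.Quotient.mkₐ_eq_mk]
        symm
        rw [← sub_eq_zero, ← map_sub, Ideal.Quotient.eq_zero_iff_mem, mem_nilradical]
        exact hr1
  · intro hidem hnt
    constructor
    · haveI := weaklyEtale_maxWeaklyEtale (K := K) (A := A)
      refine ⟨⟨0, 1, ?_⟩, mul_comm, ?_⟩
      · intro h01
        have := congrArg Subtype.val h01
        exact zero_ne_one this
      · intro a ha
        obtain ⟨a', ha'⟩ := vnr_of_wet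
          (Algebra.WeaklyEtale.flat_lmul' K (EtAlgD.maxWeaklyEtale K A)) a
        have hidem' : IsIdempotentElem ((a * a' : EtAlgD.maxWeaklyEtale K A) : A) := by
          have : (a * a') * (a * a') = a * a' := by
            calc (a * a') * (a * a') = (a * a * a') * a' := by ring
              _ = a * a' := by rw [← ha']
          have h2 := congrArg Subtype.val this
          exact h2
        rcases hidem _ hidem' with h0 | h1
        · exfalso
          apply ha
          have : a * a' = 0 := Subtype.ext h0
          calc a = a * a * a' := ha'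
            _ = a * (a * a') := by ring
            _ = 0 := by rw [this, mul_zero]
        · exact ⟨a', Subtype.ext h1⟩
    · refine ⟨fun x => ?_⟩
      have := mem_maxWeaklyEtale.mp x.2
      exact isSeparable_of_injective (EtAlgD.maxWeaklyEtale K A).val Subtype.val_injective this


end Groth.Agent.S7141
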