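import Groth.Statements.S7146
import Mathlib

set_option autoImplicit false
universe u
open Filter
open CAlg

namespace Groth.Agent.S7146

universe v

/-- Piece 1: a module spanned by `|T|` elements killed by `I` has length at most
`|T| * length (R/I)`. -/
theorem length_span_le {R : Type u} [CommRing R] (I : Ideal R) {M : Type v} [AddCommGroup M]
    [Module R M] (T : Finset M) (hT : ∀ t ∈ T, ∀ a ∈ I, a • t = 0) :
    Module.length R (Submodule.span R (T : Set M)) ≤ T.card * Module.length R (R ⧸ I) := by
  classical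
  have hker : ∀ t : T, I ≤ LinearMap.ker (LinearMap.toSpanSingleton R M (t : M)) := by
    intro t a ha
    rw [LinearMap.mem_ker, LinearMap.toSpanSingleton_apply]
    exact hT t t.2 a ha
  let φ : T → (R ⧸ I) →ₗ[R] M := fun t =>
    Submodule.liftQ I (LinearMap.toSpanSingleton R M (t : M)) (hker t)
  let Φ : (T → R ⧸ I) →ₗ[R] M := LinearMap.lsum R (fun _ : T => R ⧸ I) R φ
  have hle : Submodule.span R (T : Set M) ≤ LinearMap.range Φ := by
    rw [Submodule.span_le]
    intro t ht
    refine ⟨Pi.single ⟨t, ht⟩ 1, ?_⟩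
    simp only [Φ, LinearMap.lsum_apply, LinearMap.sum_apply, LinearMap.comp_apply,
      LinearMap.proj_apply]
    rw [Finset.sum_eq_single ⟨t, ht⟩]
    · simp only [Pi.single_eq_same, φ]
      have : (1 : R ⧸ I) = Submodule.Quotient.mk (1 : R) := rfl
      rw [this, Submodule.liftQ_apply, LinearMap.toSpanSingleton_apply, one_smul]
    · intro b _ hb
      rw [Pi.single_eq_of_ne hb, map_zero]
    · intro h
      exact absurd (Finset.mem_univ _) h
  calc Module.length R (Submodule.span R (T : Set M))
      ≤ Module.length R (LinearMap.range Φ) :=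
        Module.length_le_of_injective (Submodule.inclusion hle) (Submodule.inclusion_injective hle)
    _ ≤ Module.length R (T → R ⧸ I) :=
        Module.length_le_of_surjective Φ.rangeRestrict Φ.surjective_rangeRestrict
    _ = T.card * Module.length R (R ⧸ I) := by
        rw [Module.length_pi_of_fintype]
        simp


/-- the monomials of degree `n` in the `g i` -/
noncomputable def mono {R : Type u} [CommRing R] {d : ℕ} (g : Fin d → R) (n : ℕ) : Finset R :=
  by classical exact
    Finset.univ.image (fun s : Sym (Fin d) n => ((s : Multiset (Fin d)).map g).prod)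

theorem card_mono_le {R : Type u} [CommRing R] {d : ℕ} (g : Fin d → R) (n : ℕ) :
    (mono g n).card ≤ Nat.multichoose d n := by
  classical
  unfold mono
  refine Finset.card_image_le.trans ?_
  rw [Finset.card_univ, Sym.card_sym_eq_multichoose, Fintype.card_fin]

theorem multiset_prod_mem_pow {R : Type u} [CommRing R] {d : ℕ} (g : Fin d → R)
    (m : Multiset (Fin d)) : (m.map g).prod ∈ (Ideal.span (Set.range g)) ^ (Multiset.card m) := by
  induction m using Multiset.induction_on with
  | empty => simp
  | cons a m ih =>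
    rw [Multiset.map_cons, Multiset.prod_cons, Multiset.card_cons, pow_succ']
    exact Ideal.mul_mem_mul (Ideal.subset_span ⟨a, rfl⟩) ih

theorem mono_subset_pow {R : Type u} [CommRing R] {d : ℕ} (g : Fin d → R) (n : ℕ) :
    ∀ t ∈ mono g n, t ∈ (Ideal.span (Set.range g)) ^ n := by
  classical
  intro t ht
  unfold mono at ht
  obtain ⟨s, -, rfl⟩ := Finset.mem_image.mp ht
  have := multiset_prod_mem_pow g (s : Multiset (Fin d))
  have hc : Multiset.card (s : Multiset (Fin d)) = n := s.2
  rwa [hc] at this

theorem pow_le_span_mono {R : Type u} [CommRing R] {d : ℕ} (g : Fin d → R) (n : ℕ) :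
    (Ideal.span (Set.range g)) ^ n ≤ Ideal.span (mono g n : Set R) := by
  classical
  induction n with
  | zero =>
    rw [pow_zero, Ideal.one_eq_top]
    have : (1 : R) ∈ (mono g 0 : Set R) := by
      unfold mono
      rw [Finset.mem_coe, Finset.mem_image]
      exact ⟨Sym.nil, Finset.mem_univ _, by simp⟩
    rw [Ideal.eq_top_of_isUnit_mem _ (Ideal.subset_span this) isUnit_one]
  | succ n ih =>
    rw [pow_succ]
    refine (Ideal.mul_mono_left ih).trans ?_
    rw [Ideal.span_mul_span']
    refine Ideal.span_mono ?_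
    rintro _ ⟨t, ht, _, ⟨i, rfl⟩, rfl⟩
    unfold mono at ht ⊢
    rw [Finset.mem_coe, Finset.mem_image] at ht ⊢
    obtain ⟨s, -, rfl⟩ := ht
    refine ⟨i ::ₛ s, Finset.mem_univ _, ?_⟩
    rw [Sym.coe_cons, Multiset.map_cons, Multiset.prod_cons, mul_comm]


theorem length_succ_le {R : Type u} [CommRing R] {d : ℕ} (g : Fin d → R) (n : ℕ) :
    Module.length R (R ⧸ (Ideal.span (Set.range g)) ^ (n+1)) ≤
      Module.length R (R ⧸ (Ideal.span (Set.range g)) ^ n) +
        (Nat.multichoose d n : ℕ∞) * Module.length R (R ⧸ Ideal.span (Set.range g)) := by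
  classical
  set I := Ideal.span (Set.range g) with hI
  have h2 : I ^ (n+1) ≤ Submodule.comap (LinearMap.id : R →ₗ[R] R) (I ^ n) := by
    intro a ha
    exact Ideal.pow_le_pow_right (Nat.le_succ n) ha
  let q : (R ⧸ I ^ (n+1)) →ₗ[R] (R ⧸ I ^ n) := Submodule.mapQ _ _ LinearMap.id h2
  have hq : Function.Surjective q := by
    intro y
    obtain ⟨a, rfl⟩ := Submodule.mkQ_surjective _ y
    exact ⟨Submodule.Quotient.mk a, rfl⟩
  have hlen := Module.length_eq_add_of_exact (LinearMap.ker q).subtype q
    (Submodule.subtype_injective _) hq (LinearMap.exact_subtype_ker_map q)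
  let T : Finset (R ⧸ I ^ (n+1)) := (mono g n).image (Submodule.mkQ (I ^ (n+1)))
  have hT : ∀ t ∈ T, ∀ a ∈ I, a • t = 0 := by
    intro t ht a ha
    obtain ⟨m, hm, rfl⟩ := Finset.mem_image.mp ht
    rw [← map_smul, Submodule.mkQ_apply, Submodule.Quotient.mk_eq_zero, pow_succ', smul_eq_mul]
    exact Ideal.mul_mem_mul ha (mono_subset_pow g n m hm)
  have hK : LinearMap.ker q ≤ Submodule.span R (T : Set (R ⧸ I ^ (n+1))) := by
    intro x hx
    obtain ⟨a, rfl⟩ := Submodule.mkQ_surjective _ x
    rw [LinearMap.mem_ker] at hx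
    have ha : a ∈ I ^ n := by
      have : (Submodule.Quotient.mk a : R ⧸ I ^ n) = 0 := hx
      exact (Submodule.Quotient.mk_eq_zero _).mp this
    have ha' := pow_le_span_mono g n ha
    have : (Submodule.span R (mono g n : Set R)).map (Submodule.mkQ (I ^ (n+1))) ≤
        Submodule.span R (T : Set (R ⧸ I ^ (n+1))) := by
      rw [Submodule.map_span]
      refine Submodule.span_mono ?_
      simp [T]
    exact this (Submodule.mem_map_of_mem ha')
  have h3 : Module.length R (LinearMap.ker q) ≤
      (Nat.multichoose d n : ℕ∞) * Module.length R (R ⧸ I) := by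
    calc Module.length R (LinearMap.ker q)
        ≤ Module.length R (Submodule.span R (T : Set (R ⧸ I ^ (n+1)))) :=
          Module.length_le_of_injective (Submodule.inclusion hK) (Submodule.inclusion_injective hK)
      _ ≤ T.card * Module.length R (R ⧸ I) := length_span_le I T hT
      _ ≤ (Nat.multichoose d n : ℕ∞) * Module.length R (R ⧸ I) := by
          gcongr
          exact_mod_cast Finset.card_image_le.trans (card_mono_le g n)
  rw [hlen, add_comm]
  gcongr

theorem length_le_choose {R : Type u} [CommRing R] {d : ℕ} (g : Fin d → R) (n : ℕ) :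
    Module.length R (R ⧸ (Ideal.span (Set.range g)) ^ n) ≤
      ((∑ j ∈ Finset.range n, Nat.multichoose d j : ℕ) : ℕ∞) *
        Module.length R (R ⧸ Ideal.span (Set.range g)) := by
  induction n with
  | zero =>
    haveI : Subsingleton (R ⧸ (Ideal.span (Set.range g)) ^ 0) := by
      rw [pow_zero, Ideal.one_eq_top]
      exact Ideal.Quotient.subsingleton_iff.mpr rfl
    simp [Module.length_eq_zero]
  | succ n ih =>
    refine (length_succ_le g n).trans ?_
    rw [Finset.sum_range_succ]
    push_cast
    rw [add_mul]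
    gcongr
    exact_mod_cast ih

/-- Let R be a Noetherian local ring of Krull dimension d and I the ideal generated by a system of
parameters g_1, ..., g_d (d elements of the maximal ideal generating an ideal with radical the
maximal ideal); let e_I be the multiplicity of I, i.e. d! times the top coefficient of the numerical
polynomial n ↦ length(R/I^(n+1)), equivalently the limit of d!·length(R/Iⁿ)/n^d. Then e_I ≤
length(R/I). (Stated for a natural number e equal to that limit.) -/
theorem result (R : Type u) [CommRing R] [IsNoetherianRing R] [IsLocalRing R]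
    (d : ℕ) (hd : ringKrullDim R = d) (g : Fin d → R) (hg : ∀ i, g i ∈ IsLocalRing.maximalIdeal R)
    (hsop : IsLocalRing.maximalIdeal R ≤ (Ideal.span (Set.range g)).radical) (e : ℕ)
    (he : Tendsto (fun n : ℕ => (d.factorial : ℝ) * ((Module.length R (R ⧸ Ideal.span (Set.range g) ^ n)).toNat : ℝ) / (n : ℝ) ^ d)
      atTop (nhds (e : ℝ))) :
    (e : ℕ∞) ≤ Module.length R (R ⧸ Ideal.span (Set.range g)) := by
  rcases eq_or_ne (Module.length R (R ⧸ Ideal.span (Set.range g))) ⊤ with htop | hne
  · rw [htop]; exact le_top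
  obtain ⟨L, hL⟩ := ENat.ne_top_iff_exists.mp hne
  rw [← hL]
  have hlim : Tendsto (fun n : ℕ => (L:ℝ) * (1 + ((d:ℝ) - 1) / (n:ℝ))^d) atTop
      (nhds ((L:ℝ) * (1 + 0)^d)) :=
    (((tendsto_const_div_atTop_nhds_zero_nat ((d:ℝ) - 1)).const_add 1).pow d).const_mul (L:ℝ)
  have hev : ∀ᶠ n : ℕ in atTop, (d.factorial : ℝ) *
      ((Module.length R (R ⧸ Ideal.span (Set.range g) ^ n)).toNat : ℝ) / (n : ℝ) ^ d ≤
      (L:ℝ) * (1 + ((d:ℝ) - 1) / (n:ℝ))^d := by
    refine eventually_atTop.mpr ⟨1, fun n hn => ?_⟩
    obtain ⟨m, rfl⟩ : ∃ m, n = m + 1 := ⟨n - 1, by omega⟩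
    have h1 := length_le_choose g (m+1)
    rw [Nat.sum_range_multichoose, ← hL] at h1
    have h2 : (Module.length R (R ⧸ Ideal.span (Set.range g) ^ (m+1))).toNat ≤
        (m + d).choose d * L := by
      have : Module.length R (R ⧸ Ideal.span (Set.range g) ^ (m+1)) ≤
          (((m + d).choose d * L : ℕ) : ℕ∞) := by
        push_cast
        exact h1
      exact ENat.toNat_le_of_le_natCast this
    have h3 : d.factorial * (m + d).choose d ≤ (m + d) ^ d := by
      rw [← Nat.descFactorial_eq_factorial_mul_choose]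
      exact Nat.descFactorial_le_pow _ _
    have h4 : d.factorial * (Module.length R (R ⧸ Ideal.span (Set.range g) ^ (m+1))).toNat ≤
        L * (m + d) ^ d := by
      calc d.factorial * (Module.length R (R ⧸ Ideal.span (Set.range g) ^ (m+1))).toNat
          ≤ d.factorial * ((m + d).choose d * L) := Nat.mul_le_mul_left _ h2
        _ = (d.factorial * (m + d).choose d) * L := by ring
        _ ≤ (m + d) ^ d * L := Nat.mul_le_mul_right _ h3
        _ = L * (m + d) ^ d := by ring
    have hpos : (0:ℝ) < ((m + 1 : ℕ) : ℝ) := by positivity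
    rw [div_le_iff₀ (pow_pos hpos d)]
    have h5 : (1 + ((d:ℝ) - 1) / ((m + 1 : ℕ) : ℝ)) * ((m + 1 : ℕ) : ℝ) = (m:ℝ) + d := by
      field_simp
      push_cast
      ring
    rw [mul_assoc, ← mul_pow, h5]
    exact_mod_cast h4
  have := le_of_tendsto_of_tendsto he hlim hev
  simp only [add_zero, one_pow, mul_one] at this
  exact_mod_cast this


end Groth.Agent.S7146
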