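import Groth.Statements.S7153
import Mathlib
import Groth.Agent.S7136

set_option autoImplicit false
universe u
open CAlg

namespace Groth.Agent.S7153

open Submodule

/-- Let A be a Noetherian ring, I an ideal and K → L → M a complex of finite A-modules with maps α, β
and homology H = Ker β / Im α; for n ≥ 0 let H_n be the homology of the induced complex K/IⁿK →
L/IⁿL → M/IⁿM, which is β⁻¹(IⁿM)/(Im α + IⁿL). Then there is c > 0 such that for every n: (i) the
image of H_(n+c) → H_n is contained in, hence equal to, the image of H → H_n; (ii) the kernel and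
the cokernel of H/IⁿH → H_n are annihilated by I^c. Everything is phrased with representatives in L. -/
theorem result (A : Type u) [CommRing A] [IsNoetherianRing A] (I : Ideal A)
    (K L M : Type u) [AddCommGroup K] [Module A K] [Module.Finite A K] [AddCommGroup L] [Module A L]
    [Module.Finite A L] [AddCommGroup M] [Module A M] [Module.Finite A M]
    (α : K →ₗ[A] L) (β : L →ₗ[A] M) (hαβ : β ∘ₗ α = 0) :
    ∃ c : ℕ, 0 < c ∧ ∀ n : ℕ,
      (∀ y ∈ (I ^ (n + c) • ⊤ : Submodule A M).comap β,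
        ∃ z ∈ LinearMap.ker β, y - z ∈ LinearMap.range α ⊔ (I ^ n • ⊤ : Submodule A L)) ∧
      (∀ z ∈ LinearMap.ker β, z ∈ LinearMap.range α ⊔ (I ^ n • ⊤ : Submodule A L) →
        ∀ a ∈ I ^ c, a • z ∈ LinearMap.range α ⊔ I ^ n • LinearMap.ker β) ∧
      (∀ y ∈ (I ^ n • ⊤ : Submodule A M).comap β, ∀ a ∈ I ^ c,
        ∃ z ∈ LinearMap.ker β, a • y - z ∈ LinearMap.range α ⊔ (I ^ n • ⊤ : Submodule A L)) := by
  obtain ⟨c₁, hc₁⟩ := Groth.Agent.S7136.AR1 I β
  obtain ⟨c₂, hc₂⟩ := Groth.Agent.S7136.AR I (LinearMap.ker β)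
  have key1 : ∀ (n c : ℕ), c₁ ≤ c → ∀ y : L, β y ∈ (I ^ (n + c) • ⊤ : Submodule A M) →
      ∃ z ∈ LinearMap.ker β, y - z ∈ LinearMap.range α ⊔ (I ^ n • ⊤ : Submodule A L) := by
    intro n c hc y hy
    have hle : (I ^ (n + c) • ⊤ : Submodule A M) ≤ I ^ (n + c₁) • ⊤ :=
      Submodule.smul_mono (Ideal.pow_le_pow_right (by omega)) le_rfl
    obtain ⟨l, hl, hly⟩ := hc₁ n y (hle hy)
    refine ⟨y - l, ?_, ?_⟩
    · rw [LinearMap.mem_ker, map_sub, hly, sub_self]
    · rw [sub_sub_cancel]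
      exact Submodule.mem_sup_right hl
  refine ⟨max (max c₁ c₂) 1, by omega, fun n => ⟨?_, ?_, ?_⟩⟩
  · intro y hy
    exact key1 n _ (by omega) y hy
  · intro z hz hz2 a ha
    obtain ⟨x, ⟨k, rfl⟩, l, hl, rfl⟩ := Submodule.mem_sup.mp hz2
    have hlker : l ∈ LinearMap.ker β := by
      have h1 : β (α k) = 0 := LinearMap.congr_fun hαβ k
      rw [LinearMap.mem_ker, map_add, h1, zero_add] at hz
      exact hz
    rw [smul_add]
    refine Submodule.add_mem_sup ⟨a • k, by simp⟩ ?_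
    have hac₂ : a ∈ I ^ c₂ := Ideal.pow_le_pow_right (by omega) ha
    by_cases hn : c₂ ≤ n
    · obtain ⟨n', rfl⟩ : ∃ n', n = n' + c₂ := ⟨n - c₂, by omega⟩
      have h2 : l ∈ I ^ n' • LinearMap.ker β := hc₂ n' ⟨hl, hlker⟩
      have : a • l ∈ I ^ c₂ • I ^ n' • LinearMap.ker β := Submodule.smul_mem_smul hac₂ h2
      rwa [← mul_smul, ← pow_add, add_comm] at this
    · have han : a ∈ I ^ n := Ideal.pow_le_pow_right (by omega) ha
      exact Submodule.smul_mem_smul han hlker
  · intro y hy a ha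
    refine key1 n (max (max c₁ c₂) 1) (by omega) (a • y) ?_
    rw [map_smul, add_comm, pow_add, mul_smul]
    exact Submodule.smul_mem_smul ha hy


end Groth.Agent.S7153
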