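import Groth.Statements.S7160
import Mathlib

set_option autoImplicit false
universe u
open CategoryTheory CategoryTheory.Pretriangulated
attribute [local instance] HasDerivedCategory.standard
open CAlg

namespace Groth.Agent.S7160


set_option backward.isDefEq.respectTransparency false in
theorem hc_homologyMap_smul {R : Type*} [Ring R] {C ι : Type*} [Category C] [Preadditive C]
    [Linear R C] {c : ComplexShape ι}
    {K L : HomologicalComplex C c} (φ : K ⟶ L) (i : ι) [K.HasHomology i] [L.HasHomology i] (a : R) :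
    HomologicalComplex.homologyMap (a • φ) i = a • HomologicalComplex.homologyMap φ i := by
  dsimp [HomologicalComplex.homologyMap]
  rw [← ShortComplex.homologyMap_smul]
  rfl

theorem conj_smul {R : Type*} [Ring R] {D : Type*} [Category D] [Preadditive D] [Linear R D]
    {X Y : D} (α : X ≅ Y) (ψ : Y ⟶ Y) (f : R) (hψ : ψ = f • 𝟙 Y) :
    α.hom ≫ ψ ≫ α.inv = f • 𝟙 X := by
  subst hψ
  simp [Linear.smul_comp, Linear.comp_smul]

theorem homology_map_smul_id (R : Type u) [CommRing R] (f : R) (M : Dual.D R) (i : ℤ) :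
    (DerivedCategory.homologyFunctor (ModuleCat.{u} R) i).map (f • 𝟙 M) =
      f • 𝟙 ((DerivedCategory.homologyFunctor (ModuleCat.{u} R) i).obj M) := by
  let K := (DerivedCategory.Q (C := ModuleCat.{u} R)).objPreimage M
  let e : DerivedCategory.Q.obj K ≅ M := (DerivedCategory.Q (C := ModuleCat.{u} R)).objObjPreimageIso M
  have h1 : f • 𝟙 M = e.inv ≫ (DerivedCategory.Q.map (f • 𝟙 K)) ≫ e.hom := by
    rw [Functor.map_smul, CategoryTheory.Functor.map_id, Linear.smul_comp, Linear.comp_smul,
      Category.id_comp, Iso.inv_hom_id]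
  have h2 : (DerivedCategory.homologyFunctor (ModuleCat.{u} R) i).map (DerivedCategory.Q.map (f • 𝟙 K)) =
      f • 𝟙 _ := by
    have nat := (DerivedCategory.homologyFunctorFactors (ModuleCat.{u} R) i).hom.naturality (f • 𝟙 K)
    have h3 : (HomologicalComplex.homologyFunctor (ModuleCat.{u} R) (ComplexShape.up ℤ) i).map (f • 𝟙 K)
        = f • 𝟙 _ :=
      (hc_homologyMap_smul (𝟙 K) i f).trans (by rw [HomologicalComplex.homologyMap_id]; rfl)
    have := congrArg (fun z => z ≫ (DerivedCategory.homologyFunctorFactors (ModuleCat.{u} R) i).inv.app K) nat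
    simp only [Category.assoc, Iso.hom_inv_id_app, Category.comp_id, Functor.comp_map] at this
    rw [this]
    exact conj_smul ((DerivedCategory.homologyFunctorFactors (ModuleCat.{u} R) i).app K) _ f h3
  rw [h1, Functor.map_comp, Functor.map_comp, h2, Linear.smul_comp, Linear.comp_smul,
    Category.id_comp, ← Functor.map_comp, Iso.inv_hom_id, CategoryTheory.Functor.map_id]

/-- Let R be a ring, f an element of R, M an object of D(R) and C the cone of f : M → M. Suppose that
H^i(M)_f = 0 whenever i < 0 (every element of H^i(M) is killed by a power of f) and that H^i(C) = 0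
whenever i < -1. Then H^i(M) vanishes for every i < 0. -/
theorem result (R : Type u) [CommRing R] (f : R) (M C : Dual.D R)
    (g : M ⟶ C) (h : C ⟶ M⟦(1 : ℤ)⟧) (hT : Triangle.mk (f • 𝟙 M) g h ∈ distinguishedTriangles)
    (hloc : ∀ i : ℤ, i < 0 → ∀ x : Dual.HD R M i, ∃ n : ℕ, f ^ n • x = 0)
    (hC : ∀ i : ℤ, i < -1 → Subsingleton (Dual.HD R C i)) :
    ∀ i : ℤ, i < 0 → Subsingleton (Dual.HD R M i) := by
  intro i hi
  have hex := DerivedCategory.HomologySequence.exact₁ (Triangle.mk (f • 𝟙 M) g h) hT (i - 1) i (by omega)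
  rw [ShortComplex.moduleCat_exact_iff] at hex
  haveI : Subsingleton (Dual.HD R C (i - 1)) := hC (i - 1) (by omega)
  have hinj : ∀ x : Dual.HD R M i, f • x = 0 → x = 0 := by
    intro x hx
    have h1 : ((DerivedCategory.homologyFunctor (ModuleCat.{u} R) i).map (f • 𝟙 M)).hom x = 0 := by
      rw [homology_map_smul_id, ModuleCat.hom_smul, LinearMap.smul_apply, ModuleCat.hom_id,
        LinearMap.id_apply]
      exact hx
    obtain ⟨y, hy⟩ := hex x h1
    have hy0 : y = 0 := Subsingleton.elim (α := Dual.HD R C (i - 1)) y 0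
    rw [← hy, hy0]
    exact map_zero _
  have hpow : ∀ (n : ℕ) (x : Dual.HD R M i), f ^ n • x = 0 → x = 0 := by
    intro n
    induction n with
    | zero => intro x hx; simpa using hx
    | succ n ih =>
      intro x hx
      apply ih
      apply hinj
      rw [← mul_smul, ← pow_succ']
      exact hx
  refine ⟨fun x y => ?_⟩
  obtain ⟨n, hn⟩ := hloc i hi x
  obtain ⟨m, hm⟩ := hloc i hi y
  rw [hpow n x hn, hpow m y hm]


end Groth.Agent.S7160
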