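import Groth.Statements.S7177
import Mathlib
import Groth.Agent.H4.WEt

set_option autoImplicit false
universe u
open FlatMor

namespace Groth.Agent.S7177

open AlgebraicGeometry CategoryTheory Limits MorphismProperty TensorProduct


lemma flat_diagonal_SpecMap_iff {R S : CommRingCat.{u}} (φ : R ⟶ S) :
    Flat (pullback.diagonal (Spec.map φ)) ↔
      (letI := φ.hom.toAlgebra; (Algebra.TensorProduct.lmul' R (S := S)).Flat) := by
  algebraize [φ.hom]
  have : φ = CommRingCat.ofHom (algebraMap R S) := rfl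
  rw [this, AlgebraicGeometry.diagonal_SpecMap R S,
    MorphismProperty.cancel_right_of_respectsIso (P := @Flat),
    HasRingHomProperty.Spec_iff (P := @Flat)]
  rfl

lemma flat_diagonal_resLE_iff {X S : Scheme.{u}} (f : X ⟶ S) (U : X.Opens) (V : S.Opens)
    (hU : IsAffineOpen U) (hV : IsAffineOpen V) (hUV : U ≤ f ⁻¹ᵁ V) :
    Flat (pullback.diagonal (f.resLE V U hUV)) ↔
      (letI := (f.appLE V U hUV).hom.toAlgebra; (Algebra.TensorProduct.lmul' Γ(S, V) (S := Γ(X, U))).Flat) := by
  rw [← flat_diagonal_SpecMap_iff]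
  have e := Scheme.Opens.toSpecΓ_SpecMap_appLE f V U hUV
  have i1 : IsIso U.toSpecΓ := hU.isoSpec_hom ▸ inferInstance
  have i2 : IsIso V.toSpecΓ := hV.isoSpec_hom ▸ inferInstance
  change (MorphismProperty.diagonal @Flat) _ ↔ (MorphismProperty.diagonal @Flat) _
  rw [← MorphismProperty.cancel_right_of_respectsIso (P := MorphismProperty.diagonal @Flat) (f.resLE V U hUV) V.toSpecΓ,
    ← e, MorphismProperty.cancel_left_of_respectsIso (P := MorphismProperty.diagonal @Flat)]

lemma flat_lmul'_of_flat_diagonal {X S : Scheme.{u}} (f : X ⟶ S) [hf : Flat (pullback.diagonal f)] (U : X.Opens) (V : S.Opens)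
    (hU : IsAffineOpen U) (hV : IsAffineOpen V) (hUV : U ≤ f ⁻¹ᵁ V) :
    (letI := (f.appLE V U hUV).hom.toAlgebra; (Algebra.TensorProduct.lmul' Γ(S, V) (S := Γ(X, U))).Flat) := by
  rw [← flat_diagonal_resLE_iff f U V hU hV hUV]
  exact IsZariskiLocalAtSource.resLE (P := MorphismProperty.diagonal @Flat) hUV hf

lemma alg_core {A₀ B₀ OY OX N : Type u} [CommRing A₀] [CommRing B₀] [CommRing OY] [CommRing OX] [AddCommGroup N]
    [Module OX N] (φ : A₀ →+* B₀) (gV : A₀ →+* OY) (gU : B₀ →+* OX) (σ : OY →+* OX)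
    (hcomm : σ.comp gV = gU.comp φ)
    (pY : Submonoid A₀) (hY : @IsLocalization _ _ pY OY _ gV.toAlgebra)
    (pX : Submonoid B₀) (hX : @IsLocalization _ _ pX OX _ gU.toAlgebra)
    (hlm : letI := φ.toAlgebra; (Algebra.TensorProduct.lmul' A₀ (S := B₀)).Flat)
    (hN : letI := Module.compHom N σ; Module.Flat OY N) : Module.Flat OX N := by
  letI := φ.toAlgebra
  letI := gU.toAlgebra
  letI := gV.toAlgebra
  letI mY : Module OY N := Module.compHom N σ
  letI mB : Module B₀ N := Module.compHom N gU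
  letI mA : Module A₀ N := Module.compHom N (gU.comp φ)
  haveI : IsScalarTower A₀ B₀ N := IsScalarTower.of_algebraMap_smul (fun r x => rfl)
  haveI : IsScalarTower B₀ OX N := IsScalarTower.of_algebraMap_smul (fun r x => rfl)
  haveI : IsScalarTower A₀ OY N := IsScalarTower.of_algebraMap_smul (fun r x => by
    show σ (gV r) • x = gU (φ r) • x
    have := congrArg (fun ψ => ψ r) hcomm
    simp only [RingHom.comp_apply] at this
    rw [this])
  haveI : Module.Flat A₀ OY := IsLocalization.flat OY pY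
  haveI : Module.Flat OY N := hN
  haveI : Module.Flat A₀ N := Module.Flat.trans A₀ OY N
  haveI : Module.Flat B₀ N := Groth.Agent.H4.WEt.main hlm
  exact (Module.flat_iff_of_isLocalization OX pX N).mpr inferInstance

open AlgebraicGeometry CategoryTheory Limits in
/-- Let f : X → Y have flat diagonal and let F be an O_X-module flat over Y. Then F is flat as an
O_X-module. -/
theorem result {X Y : Scheme.{u}} (f : X ⟶ Y) [Flat (pullback.diagonal f)] (F : X.Modules)
    (hF : FlatMod.IsFlatOver f F) : FlatMod.IsFlat F := by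
  intro x
  obtain ⟨_, ⟨V, hV : IsAffineOpen V, rfl⟩, hxV, -⟩ := Y.isBasis_affineOpens.exists_subset_of_mem_open (Set.mem_univ (f x)) isOpen_univ
  obtain ⟨_, ⟨U, hU : IsAffineOpen U, rfl⟩, hxU, hUV⟩ := X.isBasis_affineOpens.exists_subset_of_mem_open (show x ∈ ((f ⁻¹ᵁ V : X.Opens) : Set X) from hxV) (f ⁻¹ᵁ V).2
  have hlm := flat_lmul'_of_flat_diagonal f U V hU hV hUV
  have hFx := hF x
  unfold FlatMod.IsFlatOverAt at hFx
  unfold FlatMod.IsFlatAt
  refine alg_core (f.appLE V U hUV).hom (Y.presheaf.germ V (f x) hxV).hom (X.presheaf.germ U x hxU).hom (f.stalkMap x).hom ?_ _ (hV.isLocalization_stalk ⟨f x, hxV⟩) _ (hU.isLocalization_stalk ⟨x, hxU⟩) hlm hFx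
  rw [← CommRingCat.hom_comp, ← CommRingCat.hom_comp, Scheme.Hom.germ_stalkMap, Scheme.Hom.appLE, Category.assoc, X.presheaf.germ_res]


end Groth.Agent.S7177
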