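import Groth.Statements.S7178
import Mathlib
import Groth.Agent.H4.WEtSch

set_option autoImplicit false
universe u
open FlatMor

namespace Groth.Agent.S7178

open AlgebraicGeometry CategoryTheory Limits in
/-- (1) ⇔ (2): f : X → S is weakly étale if and only if, whenever U ⊆ X and V ⊆ S are affine opens and f
maps U into V, the ring O_X(U) is a weakly étale O_S(V)-algebra (flat, with flat multiplication map
O_X(U) ⊗ O_X(U) → O_X(U) over O_S(V)). -/
theorem result {X S : Scheme.{u}} (f : X ⟶ S) :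
    WeaklyEtale f ↔ ∀ (U : X.Opens) (V : S.Opens) (_ : IsAffineOpen U) (_ : IsAffineOpen V) (hUV : U ≤ f ⁻¹ᵁ V),
      (letI := (f.appLE V U hUV).hom.toAlgebra
       Algebra.WeaklyEtale Γ(S, V) Γ(X, U)) := by
  constructor
  · intro hf U V hU hV hUV
    exact (Groth.Agent.H4.WEtSch.weaklyEtale_resLE_iff f U V hU hV hUV).mp inferInstance
  · intro H
    haveI : MorphismProperty.RespectsRight @WeaklyEtale @IsOpenImmersion :=
      ⟨fun i hi f hf => by
        haveI : IsOpenImmersion i := hi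
        haveI : WeaklyEtale f := hf
        infer_instance⟩
    rw [IsZariskiLocalAtSource.iff_exists_resLE (P := @WeaklyEtale)]
    intro x
    obtain ⟨_, ⟨V, hV : IsAffineOpen V, rfl⟩, hxV, -⟩ := S.isBasis_affineOpens.exists_subset_of_mem_open (Set.mem_univ (f x)) isOpen_univ
    obtain ⟨_, ⟨U, hU : IsAffineOpen U, rfl⟩, hxU, hUV⟩ := X.isBasis_affineOpens.exists_subset_of_mem_open (show x ∈ ((f ⁻¹ᵁ V : X.Opens) : Set X) from hxV) (f ⁻¹ᵁ V).2
    exact ⟨V, U, hxU, hUV, (Groth.Agent.H4.WEtSch.weaklyEtale_resLE_iff f U V hU hV hUV).mpr (H U V hU hV hUV)⟩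


end Groth.Agent.S7178
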