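import Groth.Statements.S7179
import Mathlib
import Groth.Agent.H4.WEtSch
import Groth.Agent.S7128

set_option autoImplicit false
universe u
open FlatMor

namespace Groth.Agent.S7179

open AlgebraicGeometry CategoryTheory Limits in
/-- The source of a weakly étale morphism with reduced target is reduced. -/
theorem result {X Y : Scheme.{u}} (f : X ⟶ Y) [WeaklyEtale f] [IsReduced Y] : IsReduced X := by
  apply +allowSynthFailures isReduced_of_isReduced_stalk
  intro x
  obtain ⟨_, ⟨V, hV : IsAffineOpen V, rfl⟩, hxV, -⟩ := Y.isBasis_affineOpens.exists_subset_of_mem_open (Set.mem_univ (f x)) isOpen_univ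
  obtain ⟨_, ⟨U, hU : IsAffineOpen U, rfl⟩, hxU, hUV⟩ := X.isBasis_affineOpens.exists_subset_of_mem_open (show x ∈ ((f ⁻¹ᵁ V : X.Opens) : Set X) from hxV) (f ⁻¹ᵁ V).2
  have hwe := (Groth.Agent.H4.WEtSch.weaklyEtale_resLE_iff f U V hU hV hUV).mp inferInstance
  letI := (f.appLE V U hUV).hom.toAlgebra
  have hred : _root_.IsReduced Γ(X, U) := Groth.Agent.S7128.result Γ(Y, V) Γ(X, U)
  letI := X.presheaf.algebra_section_stalk (U := U) ⟨x, hxU⟩
  have := hU.isLocalization_stalk ⟨x, hxU⟩
  exact isReduced_localizationPreserves (hU.primeIdealOf ⟨x, hxU⟩).asIdeal.primeCompl _ hred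


end Groth.Agent.S7179
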