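import Groth.Statements.S7289
import Mathlib
import Groth.Agent.H4.IndEtCrit

set_option autoImplicit false
open CategoryTheory CategoryTheory.Limits AlgebraicGeometry Opposite
universe u
open ProEtW

namespace Groth.Agent.S7289

open Groth.Agent.H4.IndEtCrit

/-- Ind-etale A-algebras are stable under filtered colimits, i.e. any colimit over a filtered index
category of such algebras is again ind-etale over A. Concretely: if D is a filtered diagram of rings
under A all of whose values are ind-etale A-algebras, and the A-algebra B is a colimit of D in the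
category of rings under A, then B is ind-etale over A. -/
theorem result (A B : Type u) [CommRing A] [CommRing B] [Algebra A B]
    {J : Type u} [SmallCategory J] [IsFiltered J] (D : J ⥤ Under (CommRingCat.of A))
    (hD : ∀ j, letI := (D.obj j).hom.hom.toAlgebra; EtPBC.IsIndEtale A ↥(D.obj j).right)
    (c : Cocone D) (hc : IsColimit c)
    (e : c.pt ≅ Under.mk (CommRingCat.ofHom (algebraMap A B))) :
    EtPBC.IsIndEtale A B := by
  apply isIndEtale_of_crit
  constructor
  · intro b
    obtain ⟨j, y, hy⟩ := exists_γ_eq D c hc e b
    letI := stageAlg D j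
    obtain ⟨C, _, _, hC, g, x, hx⟩ := (crit_of_isIndEtale (hD j)).lift y
    exact ⟨C, inferInstance, inferInstance, hC, (γₐ D c e j).comp g, x, by
      rw [AlgHom.comp_apply, hx]; exact hy⟩
  · intro C _ _ _ g x hx
    obtain ⟨j, gj, hgj⟩ := factor_fp D c hc e C g
    have h0 : γ D c e j (gj x) = 0 := by
      have := congrArg (fun φ => φ x) hgj
      rw [hx] at this
      exact this
    obtain ⟨k, f, hf⟩ := exists_map_eq_zero D c hc e j (gj x) h0
    letI := stageAlg D j
    letI := stageAlg D k
    let gk : C →ₐ[A] (D.obj k).right := (mapₐ D f).comp gj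
    have hgk : (γₐ D c e k).comp gk = g := by
      rw [← hgj]
      ext z
      exact γ_map D c e f _
    obtain ⟨C', _, _, hC', h, g', hg', hh⟩ := (crit_of_isIndEtale (hD k)).kill C gk x hf
    refine ⟨C', inferInstance, inferInstance, hC', h, (γₐ D c e k).comp g', ?_, hh⟩
    rw [AlgHom.comp_assoc, hg', hgk]


end Groth.Agent.S7289
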