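import Groth.Statements.S7318
import Groth.Agent.H4.NumType

set_option autoImplicit false
open Finset
open Models Models.NumericalType

namespace Groth.Agent.S7318

/-- For a numerical type T on n indices with e pairs i < j such that a_ij > 0, the topological genus 1 -
n + e is ≥ 0. -/
theorem result {n : ℕ} (T : Models.NumericalType n) : 0 ≤ T.topGenus := by
  classical
  -- the dual graph
  let G : SimpleGraph (Fin n) := SimpleGraph.fromRel (fun i j => T.a i j ≠ 0)
  have hG : ∀ i j, G.Adj i j ↔ i ≠ j ∧ T.a i j ≠ 0 := by
    intro i j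
    rw [SimpleGraph.fromRel_adj]
    constructor
    · rintro ⟨h1, h2 | h2⟩
      · exact ⟨h1, h2⟩
      · exact ⟨h1, by rw [Groth.Agent.H4.NumType.a_symm]; exact h2⟩
    · rintro ⟨h1, h2⟩
      exact ⟨h1, Or.inl h2⟩
  have hpos := T.pos
  haveI : Nonempty (Fin n) := ⟨⟨0, hpos⟩⟩
  have hconn : G.Connected := by
    refine ⟨?_⟩
    intro u v
    let I : Finset (Fin n) := Finset.univ.filter fun w => G.Reachable u w
    have hIne : I.Nonempty := ⟨u, by simp [I]⟩
    have hI : I = Finset.univ := by
      by_contra hcon
      obtain ⟨i, hi, j, hj, hij⟩ := T.connected I hIne hcon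
      have hri : G.Reachable u i := by simpa [I] using hi
      have hne : i ≠ j := by rintro rfl; exact hj hi
      have hadj : G.Adj i j := (hG i j).2 ⟨hne, hij⟩
      have : G.Reachable u j := hri.trans hadj.reachable
      exact hj (by simp [I, this])
    have : v ∈ I := hI ▸ Finset.mem_univ v
    simpa [I] using this
  have h1 := hconn.card_vert_le_card_edgeSet_add_one
  rw [Nat.card_eq_fintype_card, Fintype.card_fin, Nat.card_eq_fintype_card, ← SimpleGraph.edgeFinset_card] at h1
  -- edges are counted by `edgeCount`
  have h2 : G.edgeFinset.card ≤ T.edgeCount := by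
    unfold NumericalType.edgeCount
    refine le_trans (Finset.card_le_card ?_) (Finset.card_image_le (f := fun p : Fin n × Fin n => s(p.1, p.2)))
    intro e he
    rw [SimpleGraph.mem_edgeFinset] at he
    induction e using Sym2.ind with
    | _ i j =>
      rw [SimpleGraph.mem_edgeSet] at he
      obtain ⟨hne, ha⟩ := (hG i j).1 he
      rw [Finset.mem_image]
      rcases lt_or_gt_of_ne hne with hlt | hlt
      · refine ⟨(i, j), ?_, rfl⟩
        simp only [Finset.mem_filter, Finset.mem_univ, true_and]
        exact ⟨hlt, Groth.Agent.H4.NumType.pos_of_ne T hne ha⟩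
      · refine ⟨(j, i), ?_, Sym2.eq_swap⟩
        simp only [Finset.mem_filter, Finset.mem_univ, true_and]
        refine ⟨hlt, ?_⟩
        rw [Groth.Agent.H4.NumType.a_symm]
        exact Groth.Agent.H4.NumType.pos_of_ne T hne ha
  unfold NumericalType.topGenus
  have : (n : ℤ) ≤ (T.edgeCount : ℤ) + 1 := by exact_mod_cast h1.trans (by omega)
  linarith

end Groth.Agent.S7318
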