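import Groth.Statements.S7341
import Groth.Agent.H4.NumType

set_option autoImplicit false
open Finset
open Models Models.NumericalType

namespace Groth.Agent.S7341

/-- Classification of proper subgraphs which are chains of three vertices: let T be a numerical type on
n > 3 indices and i, j, k distinct (-2)-indices with a_ij > 0 and a_jk > 0. Then a_ik = 0 and, up to
reversing the order of i, j, k, one of the following holds for some integer w: (A3) w_i = w_j = w_k
= w, a_ij = a_jk = w, with 2 m_i ≥ m_j, 2 m_j ≥ m_i + m_k, 2 m_k ≥ m_j; (C3) w_i = w_j = w, w_k =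
2w, a_ij = w, a_jk = 2w, with 2 m_i ≥ m_j, 2 m_j ≥ m_i + 2 m_k, 2 m_k ≥ m_j; (B3) w_i = w_j = 2w,
w_k = w, a_ij = a_jk = 2w, with 2 m_i ≥ m_j, 2 m_j ≥ m_i + m_k, m_k ≥ m_j. -/
theorem result {n : ℕ} (T : Models.NumericalType n) (hn : 3 < n) (i j k : Fin n)
    (hij : i ≠ j) (hjk : j ≠ k) (hik : i ≠ k) (hi : T.IsMinusTwo i) (hj : T.IsMinusTwo j) (hk : T.IsMinusTwo k)
    (h1 : 0 < T.a i j) (h2 : 0 < T.a j k) :
    T.a i k = 0 ∧ ∃ (i' k' : Fin n) (w : ℤ), ((i' = i ∧ k' = k) ∨ (i' = k ∧ k' = i)) ∧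
      ((T.w i' = w ∧ T.w j = w ∧ T.w k' = w ∧ T.a i' j = w ∧ T.a j k' = w ∧
          T.m j ≤ 2 * T.m i' ∧ T.m i' + T.m k' ≤ 2 * T.m j ∧ T.m j ≤ 2 * T.m k') ∨
        (T.w i' = w ∧ T.w j = w ∧ T.w k' = 2 * w ∧ T.a i' j = w ∧ T.a j k' = 2 * w ∧
          T.m j ≤ 2 * T.m i' ∧ T.m i' + 2 * T.m k' ≤ 2 * T.m j ∧ T.m j ≤ 2 * T.m k') ∨
        (T.w i' = 2 * w ∧ T.w j = 2 * w ∧ T.w k' = w ∧ T.a i' j = 2 * w ∧ T.a j k' = 2 * w ∧
          T.m j ≤ 2 * T.m i' ∧ T.m i' + T.m k' ≤ 2 * T.m j ∧ T.m j ≤ T.m k')) := by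
  obtain ⟨v, hv0, hv1, hv2⟩ : ∃ v : Fin 3 ↪ Fin n, v 0 = i ∧ v 1 = j ∧ v 2 = k :=
    ⟨Groth.Agent.H4.NumType.emb3 hij hjk hik, rfl, rfl, rfl⟩
  subst hv0 hv1 hv2
  have hv : ∀ l, T.IsMinusTwo (v l) := by
    intro l; fin_cases l
    exacts [hi, hj, hk]
  have p01 := h1
  have p12 := h2
  have hd : ∀ j, T.a (v j) (v j) = -2 * T.w (v j) := fun j => (hv j).2
  have hsym : ∀ i j, T.a (v i) (v j) = T.a (v j) (v i) := fun i j => Groth.Agent.H4.NumType.a_symm T _ _
  have hnn : ∀ i j, i ≠ j → 0 ≤ T.a (v i) (v j) := fun i j h => T.offDiag_nonneg _ _ (v.injective.ne h)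
  have hwp : ∀ j, 0 < T.w (v j) := fun j => T.w_pos _
  have cancel : ∀ {w x y : ℤ}, 0 < w → w * x ≤ w * y → x ≤ y := fun hw h => le_of_mul_le_mul_left h hw
  have l01 := Groth.Agent.H4.NumType.w_le_left T p01
  have r01 := Groth.Agent.H4.NumType.w_le_right T p01
  have l12 := Groth.Agent.H4.NumType.w_le_left T p12
  have r12 := Groth.Agent.H4.NumType.w_le_right T p12
  have z02 : T.a (v 0) (v 2) = 0 := by
    by_contra hne
    have pz := Groth.Agent.H4.NumType.pos_of_ne T (v.injective.ne (show (0 : Fin 3) ≠ 2 by decide)) hne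
    have lz := Groth.Agent.H4.NumType.w_le_left T pz
    have rz := Groth.Agent.H4.NumType.w_le_right T pz
    refine Groth.Agent.H4.NumType.key_emb T v (by omega) ![1, 1, 1] (by decide) ⟨0, by decide⟩ ?_
    intro l hl
    fin_cases l <;> simp [Fin.sum_univ_succ] at hl ⊢
    · linarith [hd 0, hwp 0, hnn 0 1 (by decide), hsym 1 0, hnn 0 2 (by decide), hsym 2 0, l01, r01, l12, r12, lz, rz]
    · linarith [hd 1, hwp 1, hsym 1 0, hnn 0 1 (by decide), hnn 1 2 (by decide), hsym 2 1, l01, r01, l12, r12, lz, rz]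
    · linarith [hd 2, hwp 2, hsym 2 0, hnn 0 2 (by decide), hsym 2 1, hnn 1 2 (by decide), l01, r01, l12, r12, lz, rz]
  refine ⟨z02, ?_⟩
  rcases Groth.Agent.H4.NumType.eq_or_two_le_left T p01 with cL0 | gL0
  · rcases Groth.Agent.H4.NumType.eq_or_two_le_right T p01 with cR0 | gR0
    · rcases Groth.Agent.H4.NumType.eq_or_two_le_left T p12 with cL1 | gL1
      · rcases Groth.Agent.H4.NumType.eq_or_two_le_right T p12 with cR1 | gR1
        · have hw0 : T.w (v 0) = T.w (v 0) := by linarith [cL0, cR0, cL1, cR1]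
          have hw1 : T.w (v 1) = T.w (v 0) := by linarith [cL0, cR0, cL1, cR1]
          have hw2 : T.w (v 2) = T.w (v 0) := by linarith [cL0, cR0, cL1, cR1]
          have ha0 : T.a (v 0) (v 1) = T.w (v 0) := by linarith [cL0, cR0, cL1, cR1]
          have ha1 : T.a (v 1) (v 2) = T.w (v 0) := by linarith [cL0, cR0, cL1, cR1]
          refine ⟨v 0, v 2, T.w (v 0), Or.inl ⟨rfl, rfl⟩, ?_⟩
          refine Or.inl ?_
          show T.w (v 0) = T.w (v 0) ∧ T.w (v 1) = T.w (v 0) ∧ T.w (v 2) = T.w (v 0) ∧ T.a (v 0) (v 1) = T.w (v 0) ∧ T.a (v 1) (v 2) = T.w (v 0) ∧ T.m (v 1) ≤ 2 * T.m (v 0) ∧ T.m (v 0) + T.m (v 2) ≤ 2 * T.m (v 1) ∧ T.m (v 1) ≤ 2 * T.m (v 2)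
          refine ⟨?_, ?_, ?_, ?_, ?_, ?_, ?_, ?_⟩
          · exact hw0
          · exact hw1
          · exact hw2
          · exact ha0
          · exact ha1
          · have hrow := Groth.Agent.H4.NumType.row_le T v 0
            simp [Fin.sum_univ_succ] at hrow
            have q0 : T.a (v 0) (v 0) = -2 * T.w (v 0) := by linarith [hd 0, hw0]
            have q1 : T.a (v 0) (v 1) = T.w (v 0) := by linarith [ha0]
            have q2 : T.a (v 0) (v 2) = 0 := by linarith [z02]
            rw [q0, q1, q2] at hrow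
            apply cancel (hwp 0)
            linarith
          · have hrow := Groth.Agent.H4.NumType.row_le T v 1
            simp [Fin.sum_univ_succ] at hrow
            have q0 : T.a (v 1) (v 0) = T.w (v 0) := by linarith [ha0, hsym 1 0]
            have q1 : T.a (v 1) (v 1) = -2 * T.w (v 0) := by linarith [hd 1, hw1]
            have q2 : T.a (v 1) (v 2) = T.w (v 0) := by linarith [ha1]
            rw [q0, q1, q2] at hrow
            apply cancel (hwp 0)
            linarith
          · have hrow := Groth.Agent.H4.NumType.row_le T v 2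
            simp [Fin.sum_univ_succ] at hrow
            have q0 : T.a (v 2) (v 0) = 0 := by linarith [z02, hsym 2 0]
            have q1 : T.a (v 2) (v 1) = T.w (v 0) := by linarith [ha1, hsym 2 1]
            have q2 : T.a (v 2) (v 2) = -2 * T.w (v 0) := by linarith [hd 2, hw2]
            rw [q0, q1, q2] at hrow
            apply cancel (hwp 0)
            linarith
        · have dR1 : T.a (v 1) (v 2) = 2 * T.w (v 2) := by
            rcases Groth.Agent.H4.NumType.eq_two_or_three_le_right T gR1 with h | hcon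
            · exact h
            · exfalso
              refine Groth.Agent.H4.NumType.key_emb T v (by omega) ![1, 2, 3] (by decide) ⟨0, by decide⟩ ?_
              intro l hl
              fin_cases l <;> simp [Fin.sum_univ_succ] at hl ⊢
              · linarith [hd 0, hwp 0, hnn 0 1 (by decide), hsym 1 0, hnn 0 2 (by decide), hsym 2 0, l01, r01, l12, r12, hcon, cL0, cR0, cL1, gR1]
              · linarith [hd 1, hwp 1, hsym 1 0, hnn 0 1 (by decide), hnn 1 2 (by decide), hsym 2 1, l01, r01, l12, r12, hcon, cL0, cR0, cL1, gR1]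
              · linarith [hd 2, hwp 2, hsym 2 0, hnn 0 2 (by decide), hsym 2 1, hnn 1 2 (by decide), l01, r01, l12, r12, hcon, cL0, cR0, cL1, gR1]
          have hw0 : T.w (v 0) = 2 * T.w (v 2) := by linarith [cL0, cR0, cL1, gR1, dR1]
          have hw1 : T.w (v 1) = 2 * T.w (v 2) := by linarith [cL0, cR0, cL1, gR1, dR1]
          have hw2 : T.w (v 2) = T.w (v 2) := by linarith [cL0, cR0, cL1, gR1, dR1]
          have ha0 : T.a (v 0) (v 1) = 2 * T.w (v 2) := by linarith [cL0, cR0, cL1, gR1, dR1]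
          have ha1 : T.a (v 1) (v 2) = 2 * T.w (v 2) := by linarith [cL0, cR0, cL1, gR1, dR1]
          refine ⟨v 0, v 2, T.w (v 2), Or.inl ⟨rfl, rfl⟩, ?_⟩
          refine Or.inr (Or.inr ?_)
          show T.w (v 0) = 2 * T.w (v 2) ∧ T.w (v 1) = 2 * T.w (v 2) ∧ T.w (v 2) = T.w (v 2) ∧ T.a (v 0) (v 1) = 2 * T.w (v 2) ∧ T.a (v 1) (v 2) = 2 * T.w (v 2) ∧ T.m (v 1) ≤ 2 * T.m (v 0) ∧ T.m (v 0) + T.m (v 2) ≤ 2 * T.m (v 1) ∧ T.m (v 1) ≤ T.m (v 2)
          refine ⟨?_, ?_, ?_, ?_, ?_, ?_, ?_, ?_⟩
          · exact hw0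
          · exact hw1
          · exact hw2
          · exact ha0
          · exact ha1
          · have hrow := Groth.Agent.H4.NumType.row_le T v 0
            simp [Fin.sum_univ_succ] at hrow
            have q0 : T.a (v 0) (v 0) = -4 * T.w (v 2) := by linarith [hd 0, hw0]
            have q1 : T.a (v 0) (v 1) = 2 * T.w (v 2) := by linarith [ha0]
            have q2 : T.a (v 0) (v 2) = 0 := by linarith [z02]
            rw [q0, q1, q2] at hrow
            apply cancel (hwp 2)
            linarith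
          · have hrow := Groth.Agent.H4.NumType.row_le T v 1
            simp [Fin.sum_univ_succ] at hrow
            have q0 : T.a (v 1) (v 0) = 2 * T.w (v 2) := by linarith [ha0, hsym 1 0]
            have q1 : T.a (v 1) (v 1) = -4 * T.w (v 2) := by linarith [hd 1, hw1]
            have q2 : T.a (v 1) (v 2) = 2 * T.w (v 2) := by linarith [ha1]
            rw [q0, q1, q2] at hrow
            apply cancel (hwp 2)
            linarith
          · have hrow := Groth.Agent.H4.NumType.row_le T v 2
            simp [Fin.sum_univ_succ] at hrow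
            have q0 : T.a (v 2) (v 0) = 0 := by linarith [z02, hsym 2 0]
            have q1 : T.a (v 2) (v 1) = 2 * T.w (v 2) := by linarith [ha1, hsym 2 1]
            have q2 : T.a (v 2) (v 2) = -2 * T.w (v 2) := by linarith [hd 2, hw2]
            rw [q0, q1, q2] at hrow
            apply cancel (hwp 2)
            linarith
      · rcases Groth.Agent.H4.NumType.eq_or_two_le_right T p12 with cR1 | gR1
        · have dL1 : T.a (v 1) (v 2) = 2 * T.w (v 1) := by
            rcases Groth.Agent.H4.NumType.eq_two_or_three_le_left T gL1 with h | hcon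
            · exact h
            · exfalso
              refine Groth.Agent.H4.NumType.key_emb T v (by omega) ![1, 2, 1] (by decide) ⟨0, by decide⟩ ?_
              intro l hl
              fin_cases l <;> simp [Fin.sum_univ_succ] at hl ⊢
              · linarith [hd 0, hwp 0, hnn 0 1 (by decide), hsym 1 0, hnn 0 2 (by decide), hsym 2 0, l01, r01, l12, r12, hcon, cL0, cR0, gL1, cR1]
              · linarith [hd 1, hwp 1, hsym 1 0, hnn 0 1 (by decide), hnn 1 2 (by decide), hsym 2 1, l01, r01, l12, r12, hcon, cL0, cR0, gL1, cR1]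
              · linarith [hd 2, hwp 2, hsym 2 0, hnn 0 2 (by decide), hsym 2 1, hnn 1 2 (by decide), l01, r01, l12, r12, hcon, cL0, cR0, gL1, cR1]
          have hw0 : T.w (v 0) = T.w (v 0) := by linarith [cL0, cR0, gL1, cR1, dL1]
          have hw1 : T.w (v 1) = T.w (v 0) := by linarith [cL0, cR0, gL1, cR1, dL1]
          have hw2 : T.w (v 2) = 2 * T.w (v 0) := by linarith [cL0, cR0, gL1, cR1, dL1]
          have ha0 : T.a (v 0) (v 1) = T.w (v 0) := by linarith [cL0, cR0, gL1, cR1, dL1]
          have ha1 : T.a (v 1) (v 2) = 2 * T.w (v 0) := by linarith [cL0, cR0, gL1, cR1, dL1]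
          refine ⟨v 0, v 2, T.w (v 0), Or.inl ⟨rfl, rfl⟩, ?_⟩
          refine Or.inr (Or.inl ?_)
          show T.w (v 0) = T.w (v 0) ∧ T.w (v 1) = T.w (v 0) ∧ T.w (v 2) = 2 * T.w (v 0) ∧ T.a (v 0) (v 1) = T.w (v 0) ∧ T.a (v 1) (v 2) = 2 * T.w (v 0) ∧ T.m (v 1) ≤ 2 * T.m (v 0) ∧ T.m (v 0) + 2 * T.m (v 2) ≤ 2 * T.m (v 1) ∧ T.m (v 1) ≤ 2 * T.m (v 2)
          refine ⟨?_, ?_, ?_, ?_, ?_, ?_, ?_, ?_⟩
          · exact hw0
          · exact hw1
          · exact hw2
          · exact ha0
          · exact ha1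
          · have hrow := Groth.Agent.H4.NumType.row_le T v 0
            simp [Fin.sum_univ_succ] at hrow
            have q0 : T.a (v 0) (v 0) = -2 * T.w (v 0) := by linarith [hd 0, hw0]
            have q1 : T.a (v 0) (v 1) = T.w (v 0) := by linarith [ha0]
            have q2 : T.a (v 0) (v 2) = 0 := by linarith [z02]
            rw [q0, q1, q2] at hrow
            apply cancel (hwp 0)
            linarith
          · have hrow := Groth.Agent.H4.NumType.row_le T v 1
            simp [Fin.sum_univ_succ] at hrow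
            have q0 : T.a (v 1) (v 0) = T.w (v 0) := by linarith [ha0, hsym 1 0]
            have q1 : T.a (v 1) (v 1) = -2 * T.w (v 0) := by linarith [hd 1, hw1]
            have q2 : T.a (v 1) (v 2) = 2 * T.w (v 0) := by linarith [ha1]
            rw [q0, q1, q2] at hrow
            apply cancel (hwp 0)
            linarith
          · have hrow := Groth.Agent.H4.NumType.row_le T v 2
            simp [Fin.sum_univ_succ] at hrow
            have q0 : T.a (v 2) (v 0) = 0 := by linarith [z02, hsym 2 0]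
            have q1 : T.a (v 2) (v 1) = 2 * T.w (v 0) := by linarith [ha1, hsym 2 1]
            have q2 : T.a (v 2) (v 2) = -4 * T.w (v 0) := by linarith [hd 2, hw2]
            rw [q0, q1, q2] at hrow
            apply cancel (hwp 0)
            linarith
        · exfalso
          refine Groth.Agent.H4.NumType.key_emb T v (by omega) ![0, 1, 1] (by decide) ⟨1, by decide⟩ ?_
          intro l hl
          fin_cases l <;> simp [Fin.sum_univ_succ] at hl ⊢
          · linarith [hd 1, hwp 1, hsym 1 0, hnn 0 1 (by decide), hnn 1 2 (by decide), hsym 2 1, l01, r01, l12, r12, cL0, cR0, gL1, gR1]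
          · linarith [hd 2, hwp 2, hsym 2 0, hnn 0 2 (by decide), hsym 2 1, hnn 1 2 (by decide), l01, r01, l12, r12, cL0, cR0, gL1, gR1]
    · have dR0 : T.a (v 0) (v 1) = 2 * T.w (v 1) := by
        rcases Groth.Agent.H4.NumType.eq_two_or_three_le_right T gR0 with h | hcon
        · exact h
        · exfalso
          refine Groth.Agent.H4.NumType.key_emb T v (by omega) ![1, 2, 1] (by decide) ⟨0, by decide⟩ ?_
          intro l hl
          fin_cases l <;> simp [Fin.sum_univ_succ] at hl ⊢
          · linarith [hd 0, hwp 0, hnn 0 1 (by decide), hsym 1 0, hnn 0 2 (by decide), hsym 2 0, l01, r01, l12, r12, hcon, cL0, gR0]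
          · linarith [hd 1, hwp 1, hsym 1 0, hnn 0 1 (by decide), hnn 1 2 (by decide), hsym 2 1, l01, r01, l12, r12, hcon, cL0, gR0]
          · linarith [hd 2, hwp 2, hsym 2 0, hnn 0 2 (by decide), hsym 2 1, hnn 1 2 (by decide), l01, r01, l12, r12, hcon, cL0, gR0]
      rcases Groth.Agent.H4.NumType.eq_or_two_le_left T p12 with cL1 | gL1
      · rcases Groth.Agent.H4.NumType.eq_or_two_le_right T p12 with cR1 | gR1
        · have hw0 : T.w (v 0) = 2 * T.w (v 1) := by linarith [cL0, gR0, dR0, cL1, cR1]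
          have hw1 : T.w (v 1) = T.w (v 1) := by linarith [cL0, gR0, dR0, cL1, cR1]
          have hw2 : T.w (v 2) = T.w (v 1) := by linarith [cL0, gR0, dR0, cL1, cR1]
          have ha0 : T.a (v 0) (v 1) = 2 * T.w (v 1) := by linarith [cL0, gR0, dR0, cL1, cR1]
          have ha1 : T.a (v 1) (v 2) = T.w (v 1) := by linarith [cL0, gR0, dR0, cL1, cR1]
          refine ⟨v 2, v 0, T.w (v 1), Or.inr ⟨rfl, rfl⟩, ?_⟩
          refine Or.inr (Or.inl ?_)
          show T.w (v 2) = T.w (v 1) ∧ T.w (v 1) = T.w (v 1) ∧ T.w (v 0) = 2 * T.w (v 1) ∧ T.a (v 2) (v 1) = T.w (v 1) ∧ T.a (v 1) (v 0) = 2 * T.w (v 1) ∧ T.m (v 1) ≤ 2 * T.m (v 2) ∧ T.m (v 2) + 2 * T.m (v 0) ≤ 2 * T.m (v 1) ∧ T.m (v 1) ≤ 2 * T.m (v 0)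
          refine ⟨?_, ?_, ?_, ?_, ?_, ?_, ?_, ?_⟩
          · exact hw2
          · exact hw1
          · exact hw0
          · linarith [ha1, hsym 2 1]
          · linarith [ha0, hsym 1 0]
          · have hrow := Groth.Agent.H4.NumType.row_le T v 2
            simp [Fin.sum_univ_succ] at hrow
            have q0 : T.a (v 2) (v 0) = 0 := by linarith [z02, hsym 2 0]
            have q1 : T.a (v 2) (v 1) = T.w (v 1) := by linarith [ha1, hsym 2 1]
            have q2 : T.a (v 2) (v 2) = -2 * T.w (v 1) := by linarith [hd 2, hw2]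
            rw [q0, q1, q2] at hrow
            apply cancel (hwp 1)
            linarith
          · have hrow := Groth.Agent.H4.NumType.row_le T v 1
            simp [Fin.sum_univ_succ] at hrow
            have q0 : T.a (v 1) (v 0) = 2 * T.w (v 1) := by linarith [ha0, hsym 1 0]
            have q1 : T.a (v 1) (v 1) = -2 * T.w (v 1) := by linarith [hd 1, hw1]
            have q2 : T.a (v 1) (v 2) = T.w (v 1) := by linarith [ha1]
            rw [q0, q1, q2] at hrow
            apply cancel (hwp 1)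
            linarith
          · have hrow := Groth.Agent.H4.NumType.row_le T v 0
            simp [Fin.sum_univ_succ] at hrow
            have q0 : T.a (v 0) (v 0) = -4 * T.w (v 1) := by linarith [hd 0, hw0]
            have q1 : T.a (v 0) (v 1) = 2 * T.w (v 1) := by linarith [ha0]
            have q2 : T.a (v 0) (v 2) = 0 := by linarith [z02]
            rw [q0, q1, q2] at hrow
            apply cancel (hwp 1)
            linarith
        · exfalso
          refine Groth.Agent.H4.NumType.key_emb T v (by omega) ![1, 2, 2] (by decide) ⟨0, by decide⟩ ?_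
          intro l hl
          fin_cases l <;> simp [Fin.sum_univ_succ] at hl ⊢
          · linarith [hd 0, hwp 0, hnn 0 1 (by decide), hsym 1 0, hnn 0 2 (by decide), hsym 2 0, l01, r01, l12, r12, cL0, gR0, dR0, cL1, gR1]
          · linarith [hd 1, hwp 1, hsym 1 0, hnn 0 1 (by decide), hnn 1 2 (by decide), hsym 2 1, l01, r01, l12, r12, cL0, gR0, dR0, cL1, gR1]
          · linarith [hd 2, hwp 2, hsym 2 0, hnn 0 2 (by decide), hsym 2 1, hnn 1 2 (by decide), l01, r01, l12, r12, cL0, gR0, dR0, cL1, gR1]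
      · rcases Groth.Agent.H4.NumType.eq_or_two_le_right T p12 with cR1 | gR1
        · exfalso
          refine Groth.Agent.H4.NumType.key_emb T v (by omega) ![1, 2, 1] (by decide) ⟨0, by decide⟩ ?_
          intro l hl
          fin_cases l <;> simp [Fin.sum_univ_succ] at hl ⊢
          · linarith [hd 0, hwp 0, hnn 0 1 (by decide), hsym 1 0, hnn 0 2 (by decide), hsym 2 0, l01, r01, l12, r12, cL0, gR0, dR0, gL1, cR1]
          · linarith [hd 1, hwp 1, hsym 1 0, hnn 0 1 (by decide), hnn 1 2 (by decide), hsym 2 1, l01, r01, l12, r12, cL0, gR0, dR0, gL1, cR1]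
          · linarith [hd 2, hwp 2, hsym 2 0, hnn 0 2 (by decide), hsym 2 1, hnn 1 2 (by decide), l01, r01, l12, r12, cL0, gR0, dR0, gL1, cR1]
        · exfalso
          refine Groth.Agent.H4.NumType.key_emb T v (by omega) ![0, 1, 1] (by decide) ⟨1, by decide⟩ ?_
          intro l hl
          fin_cases l <;> simp [Fin.sum_univ_succ] at hl ⊢
          · linarith [hd 1, hwp 1, hsym 1 0, hnn 0 1 (by decide), hnn 1 2 (by decide), hsym 2 1, l01, r01, l12, r12, cL0, gR0, dR0, gL1, gR1]
          · linarith [hd 2, hwp 2, hsym 2 0, hnn 0 2 (by decide), hsym 2 1, hnn 1 2 (by decide), l01, r01, l12, r12, cL0, gR0, dR0, gL1, gR1]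
  · rcases Groth.Agent.H4.NumType.eq_or_two_le_right T p01 with cR0 | gR0
    · have dL0 : T.a (v 0) (v 1) = 2 * T.w (v 0) := by
        rcases Groth.Agent.H4.NumType.eq_two_or_three_le_left T gL0 with h | hcon
        · exact h
        · exfalso
          refine Groth.Agent.H4.NumType.key_emb T v (by omega) ![3, 2, 1] (by decide) ⟨0, by decide⟩ ?_
          intro l hl
          fin_cases l <;> simp [Fin.sum_univ_succ] at hl ⊢
          · linarith [hd 0, hwp 0, hnn 0 1 (by decide), hsym 1 0, hnn 0 2 (by decide), hsym 2 0, l01, r01, l12, r12, hcon, gL0, cR0]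
          · linarith [hd 1, hwp 1, hsym 1 0, hnn 0 1 (by decide), hnn 1 2 (by decide), hsym 2 1, l01, r01, l12, r12, hcon, gL0, cR0]
          · linarith [hd 2, hwp 2, hsym 2 0, hnn 0 2 (by decide), hsym 2 1, hnn 1 2 (by decide), l01, r01, l12, r12, hcon, gL0, cR0]
      rcases Groth.Agent.H4.NumType.eq_or_two_le_left T p12 with cL1 | gL1
      · rcases Groth.Agent.H4.NumType.eq_or_two_le_right T p12 with cR1 | gR1
        · have hw0 : T.w (v 0) = T.w (v 0) := by linarith [gL0, cR0, dL0, cL1, cR1]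
          have hw1 : T.w (v 1) = 2 * T.w (v 0) := by linarith [gL0, cR0, dL0, cL1, cR1]
          have hw2 : T.w (v 2) = 2 * T.w (v 0) := by linarith [gL0, cR0, dL0, cL1, cR1]
          have ha0 : T.a (v 0) (v 1) = 2 * T.w (v 0) := by linarith [gL0, cR0, dL0, cL1, cR1]
          have ha1 : T.a (v 1) (v 2) = 2 * T.w (v 0) := by linarith [gL0, cR0, dL0, cL1, cR1]
          refine ⟨v 2, v 0, T.w (v 0), Or.inr ⟨rfl, rfl⟩, ?_⟩
          refine Or.inr (Or.inr ?_)
          show T.w (v 2) = 2 * T.w (v 0) ∧ T.w (v 1) = 2 * T.w (v 0) ∧ T.w (v 0) = T.w (v 0) ∧ T.a (v 2) (v 1) = 2 * T.w (v 0) ∧ T.a (v 1) (v 0) = 2 * T.w (v 0) ∧ T.m (v 1) ≤ 2 * T.m (v 2) ∧ T.m (v 2) + T.m (v 0) ≤ 2 * T.m (v 1) ∧ T.m (v 1) ≤ T.m (v 0)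
          refine ⟨?_, ?_, ?_, ?_, ?_, ?_, ?_, ?_⟩
          · exact hw2
          · exact hw1
          · exact hw0
          · linarith [ha1, hsym 2 1]
          · linarith [ha0, hsym 1 0]
          · have hrow := Groth.Agent.H4.NumType.row_le T v 2
            simp [Fin.sum_univ_succ] at hrow
            have q0 : T.a (v 2) (v 0) = 0 := by linarith [z02, hsym 2 0]
            have q1 : T.a (v 2) (v 1) = 2 * T.w (v 0) := by linarith [ha1, hsym 2 1]
            have q2 : T.a (v 2) (v 2) = -4 * T.w (v 0) := by linarith [hd 2, hw2]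
            rw [q0, q1, q2] at hrow
            apply cancel (hwp 0)
            linarith
          · have hrow := Groth.Agent.H4.NumType.row_le T v 1
            simp [Fin.sum_univ_succ] at hrow
            have q0 : T.a (v 1) (v 0) = 2 * T.w (v 0) := by linarith [ha0, hsym 1 0]
            have q1 : T.a (v 1) (v 1) = -4 * T.w (v 0) := by linarith [hd 1, hw1]
            have q2 : T.a (v 1) (v 2) = 2 * T.w (v 0) := by linarith [ha1]
            rw [q0, q1, q2] at hrow
            apply cancel (hwp 0)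
            linarith
          · have hrow := Groth.Agent.H4.NumType.row_le T v 0
            simp [Fin.sum_univ_succ] at hrow
            have q0 : T.a (v 0) (v 0) = -2 * T.w (v 0) := by linarith [hd 0, hw0]
            have q1 : T.a (v 0) (v 1) = 2 * T.w (v 0) := by linarith [ha0]
            have q2 : T.a (v 0) (v 2) = 0 := by linarith [z02]
            rw [q0, q1, q2] at hrow
            apply cancel (hwp 0)
            linarith
        · exfalso
          refine Groth.Agent.H4.NumType.key_emb T v (by omega) ![1, 1, 1] (by decide) ⟨0, by decide⟩ ?_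
          intro l hl
          fin_cases l <;> simp [Fin.sum_univ_succ] at hl ⊢
          · linarith [hd 0, hwp 0, hnn 0 1 (by decide), hsym 1 0, hnn 0 2 (by decide), hsym 2 0, l01, r01, l12, r12, gL0, cR0, dL0, cL1, gR1]
          · linarith [hd 1, hwp 1, hsym 1 0, hnn 0 1 (by decide), hnn 1 2 (by decide), hsym 2 1, l01, r01, l12, r12, gL0, cR0, dL0, cL1, gR1]
          · linarith [hd 2, hwp 2, hsym 2 0, hnn 0 2 (by decide), hsym 2 1, hnn 1 2 (by decide), l01, r01, l12, r12, gL0, cR0, dL0, cL1, gR1]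
      · rcases Groth.Agent.H4.NumType.eq_or_two_le_right T p12 with cR1 | gR1
        · exfalso
          refine Groth.Agent.H4.NumType.key_emb T v (by omega) ![2, 2, 1] (by decide) ⟨0, by decide⟩ ?_
          intro l hl
          fin_cases l <;> simp [Fin.sum_univ_succ] at hl ⊢
          · linarith [hd 0, hwp 0, hnn 0 1 (by decide), hsym 1 0, hnn 0 2 (by decide), hsym 2 0, l01, r01, l12, r12, gL0, cR0, dL0, gL1, cR1]
          · linarith [hd 1, hwp 1, hsym 1 0, hnn 0 1 (by decide), hnn 1 2 (by decide), hsym 2 1, l01, r01, l12, r12, gL0, cR0, dL0, gL1, cR1]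
          · linarith [hd 2, hwp 2, hsym 2 0, hnn 0 2 (by decide), hsym 2 1, hnn 1 2 (by decide), l01, r01, l12, r12, gL0, cR0, dL0, gL1, cR1]
        · exfalso
          refine Groth.Agent.H4.NumType.key_emb T v (by omega) ![0, 1, 1] (by decide) ⟨1, by decide⟩ ?_
          intro l hl
          fin_cases l <;> simp [Fin.sum_univ_succ] at hl ⊢
          · linarith [hd 1, hwp 1, hsym 1 0, hnn 0 1 (by decide), hnn 1 2 (by decide), hsym 2 1, l01, r01, l12, r12, gL0, cR0, dL0, gL1, gR1]
          · linarith [hd 2, hwp 2, hsym 2 0, hnn 0 2 (by decide), hsym 2 1, hnn 1 2 (by decide), l01, r01, l12, r12, gL0, cR0, dL0, gL1, gR1]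
    · exfalso
      refine Groth.Agent.H4.NumType.key_emb T v (by omega) ![1, 1, 0] (by decide) ⟨0, by decide⟩ ?_
      intro l hl
      fin_cases l <;> simp [Fin.sum_univ_succ] at hl ⊢
      · linarith [hd 0, hwp 0, hnn 0 1 (by decide), hsym 1 0, hnn 0 2 (by decide), hsym 2 0, l01, r01, l12, r12, gL0, gR0]
      · linarith [hd 1, hwp 1, hsym 1 0, hnn 0 1 (by decide), hnn 1 2 (by decide), hsym 2 1, l01, r01, l12, r12, gL0, gR0]

end Groth.Agent.S7341
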