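import Groth.Statements.S7342
import Groth.Agent.H4.NumType3

set_option autoImplicit false
open Finset
open Models Models.NumericalType

namespace Groth.Agent.S7342

/-- arithmetic side goals about `Fin` values -/
local macro "fo" : tactic => `(tactic| first | rfl | omega | (dsimp only; omega) | (simp; omega) | simp)
/-- disequalities of `Fin` elements -/
local macro "fne" : tactic =>
  `(tactic| (intro h; have := congrArg Fin.val h; first | omega | (dsimp only at this; omega)))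


/-- Let T be a numerical type on n indices, t ≥ 4 and n > t + 2. Then no t + 2 (-2)-indices of T,
pairwise distinct and numbered i_0, …, i_{t+1}, satisfy: a_{i_j i_{j+1}} > 0 for 1 ≤ j ≤ t - 1,
a_{i_0 i_2} > 0 and a_{i_{t-1} i_{t+1}} > 0. -/
theorem result {n : ℕ} (T : Models.NumericalType n) (t : ℕ) (ht : 4 ≤ t) (hn : t + 2 < n)
    (v : Fin (t + 2) ↪ Fin n) (hv : ∀ j, T.IsMinusTwo (v j))
    (hchain : ∀ j j' : Fin (t + 2), 1 ≤ j.val → j.val + 1 ≤ t → j'.val = j.val + 1 → 0 < T.a (v j) (v j'))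
    (h02 : ∀ j j' : Fin (t + 2), j.val = 0 → j'.val = 2 → 0 < T.a (v j) (v j'))
    (hlast : ∀ j j' : Fin (t + 2), j.val = t - 1 → j'.val = t + 1 → 0 < T.a (v j) (v j')) : False := by
  have hsym : ∀ i j, T.a (v i) (v j) = T.a (v j) (v i) := fun i j => Groth.Agent.H4.NumType.a_symm T _ _
  -- adjacency facts as `≠ 0`, in both directions
  have c1 : ∀ j j' : Fin (t + 2), 1 ≤ j.val → j.val + 1 ≤ t → j'.val = j.val + 1 → T.a (v j) (v j') ≠ 0 :=
    fun j j' h1 h2 h3 => (hchain j j' h1 h2 h3).ne'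
  have c2 : ∀ j j' : Fin (t + 2), 1 ≤ j.val → j.val + 1 ≤ t → j'.val = j.val + 1 → T.a (v j') (v j) ≠ 0 :=
    fun j j' h1 h2 h3 => by rw [hsym]; exact c1 j j' h1 h2 h3
  have d1 : ∀ j j' : Fin (t + 2), j.val = 0 → j'.val = 2 → T.a (v j) (v j') ≠ 0 :=
    fun j j' h1 h2 => (h02 j j' h1 h2).ne'
  have d2 : ∀ j j' : Fin (t + 2), j.val = 0 → j'.val = 2 → T.a (v j') (v j) ≠ 0 :=
    fun j j' h1 h2 => by rw [hsym]; exact d1 j j' h1 h2
  have e1 : ∀ j j' : Fin (t + 2), j.val = t - 1 → j'.val = t + 1 → T.a (v j) (v j') ≠ 0 :=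
    fun j j' h1 h2 => (hlast j j' h1 h2).ne'
  have e2 : ∀ j j' : Fin (t + 2), j.val = t - 1 → j'.val = t + 1 → T.a (v j') (v j) ≠ 0 :=
    fun j j' h1 h2 => by rw [hsym]; exact e1 j j' h1 h2
  let x : Fin (t + 2) → ℤ := fun j =>
    if j.val = 0 ∨ j.val = 1 ∨ j.val = t ∨ j.val = t + 1 then 1 else 2
  have hx1 : ∀ j : Fin (t + 2), (j.val = 0 ∨ j.val = 1 ∨ j.val = t ∨ j.val = t + 1) → x j = 1 :=
    fun j h => if_pos h
  have hx2 : ∀ j : Fin (t + 2), ¬ (j.val = 0 ∨ j.val = 1 ∨ j.val = t ∨ j.val = t + 1) → x j = 2 :=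
    fun j h => if_neg h
  refine Groth.Agent.H4.NumType.key_graph3 T v hn hv x ?_ ⟨⟨0, by omega⟩, by rw [hx1 _ (Or.inl rfl)]; norm_num⟩ ?_
  · intro i
    by_cases h : (i.val = 0 ∨ i.val = 1 ∨ i.val = t ∨ i.val = t + 1)
    · rw [hx1 i h]; norm_num
    · rw [hx2 i h]; norm_num
  intro l _
  have hl := l.isLt
  by_cases h0 : l.val = 0
  · left
    refine ⟨⟨2, by omega⟩, by fne, d1 l ⟨2, by omega⟩ h0 rfl, ?_⟩
    rw [hx1 l (by fo), hx2 ⟨2, by omega⟩ (by fo)]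
    norm_num
  by_cases h1 : l.val = 1
  · left
    refine ⟨⟨2, by omega⟩, by fne, c1 l ⟨2, by omega⟩ (by fo) (by fo) (by fo), ?_⟩
    rw [hx1 l (by fo), hx2 ⟨2, by omega⟩ (by fo)]
    norm_num
  by_cases h2 : l.val = 2
  · right; right
    refine ⟨⟨0, by omega⟩, ⟨1, by omega⟩, ⟨3, by omega⟩, by fne, by fne, by fne, by fne, by fne, by fne,
      d2 ⟨0, by omega⟩ l rfl h2, c2 ⟨1, by omega⟩ l (by fo) (by fo) (by fo),
      c1 l ⟨3, by omega⟩ (by fo) (by fo) (by fo), ?_⟩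
    rw [hx2 l (by fo), hx1 ⟨0, by omega⟩ (by fo), hx1 ⟨1, by omega⟩ (by fo), hx2 ⟨3, by omega⟩ (by fo)]
    norm_num
  by_cases h3 : l.val = t + 1
  · left
    refine ⟨⟨t - 1, by omega⟩, by fne, e2 ⟨t - 1, by omega⟩ l rfl h3, ?_⟩
    rw [hx1 l (by fo), hx2 ⟨t - 1, by omega⟩ (by fo)]
    norm_num
  by_cases h4 : l.val = t
  · left
    refine ⟨⟨t - 1, by omega⟩, by fne, c2 ⟨t - 1, by omega⟩ l (by fo) (by fo) (by fo), ?_⟩
    rw [hx1 l (by fo), hx2 ⟨t - 1, by omega⟩ (by fo)]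
    norm_num
  by_cases h5 : l.val = t - 1
  · right; right
    refine ⟨⟨t - 2, by omega⟩, ⟨t, by omega⟩, ⟨t + 1, by omega⟩, by fne, by fne, by fne, by fne, by fne, by fne,
      c2 ⟨t - 2, by omega⟩ l (by fo) (by fo) (by fo),
      c1 l ⟨t, by omega⟩ (by fo) (by fo) (by fo),
      e1 l ⟨t + 1, by omega⟩ h5 rfl, ?_⟩
    rw [hx2 l (by fo), hx2 ⟨t - 2, by omega⟩ (by fo), hx1 ⟨t, by omega⟩ (by fo), hx1 ⟨t + 1, by omega⟩ (by fo)]
    norm_num
  · right; left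
    refine ⟨⟨l.val - 1, by omega⟩, ⟨l.val + 1, by omega⟩, by fne, by fne, by fne,
      c2 ⟨l.val - 1, by omega⟩ l (by fo) (by fo) (by fo),
      c1 l ⟨l.val + 1, by omega⟩ (by fo) (by fo) (by fo), ?_⟩
    rw [hx2 l (by fo), hx2 ⟨l.val - 1, by omega⟩ (by fo), hx2 ⟨l.val + 1, by omega⟩ (by fo)]
    norm_num

end Groth.Agent.S7342
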