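import Groth.Statements.S7343
import Groth.Agent.H4.NumType

set_option autoImplicit false
open Finset
open Models Models.NumericalType

namespace Groth.Agent.S7343

/-- Let T be a numerical type on n > 7 indices. Then no seven (-2)-indices of T, pairwise distinct and
named f, g, h, i, j, k, l, have a_fg, a_gh, a_ij, a_jh, a_kl and a_lh all nonzero (three chains of
length two attached to h). -/
theorem result {n : ℕ} (T : Models.NumericalType n) (hn : 7 < n)
    (v : Fin 7 ↪ Fin n) (hv : ∀ j, T.IsMinusTwo (v j))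
    (h01 : T.a (v 0) (v 1) ≠ 0) (h12 : T.a (v 1) (v 2) ≠ 0) (h34 : T.a (v 3) (v 4) ≠ 0)
    (h42 : T.a (v 4) (v 2) ≠ 0) (h56 : T.a (v 5) (v 6) ≠ 0) (h62 : T.a (v 6) (v 2) ≠ 0) : False := by
  have hd : ∀ j, T.a (v j) (v j) = -2 * T.w (v j) := fun j => (hv j).2
  have hsym : ∀ i j, T.a (v i) (v j) = T.a (v j) (v i) := fun i j => Groth.Agent.H4.NumType.a_symm T _ _
  have hnn : ∀ i j, i ≠ j → 0 ≤ T.a (v i) (v j) := fun i j h => T.offDiag_nonneg _ _ (v.injective.ne h)
  have hwp : ∀ j, 0 < T.w (v j) := fun j => T.w_pos _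
  have p01 : 0 < T.a (v 0) (v 1) := Groth.Agent.H4.NumType.pos_of_ne T (v.injective.ne (by decide)) h01
  have l01 := Groth.Agent.H4.NumType.w_le_left T p01
  have r01 := Groth.Agent.H4.NumType.w_le_right T p01
  have p12 : 0 < T.a (v 1) (v 2) := Groth.Agent.H4.NumType.pos_of_ne T (v.injective.ne (by decide)) h12
  have l12 := Groth.Agent.H4.NumType.w_le_left T p12
  have r12 := Groth.Agent.H4.NumType.w_le_right T p12
  have p34 : 0 < T.a (v 3) (v 4) := Groth.Agent.H4.NumType.pos_of_ne T (v.injective.ne (by decide)) h34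
  have l34 := Groth.Agent.H4.NumType.w_le_left T p34
  have r34 := Groth.Agent.H4.NumType.w_le_right T p34
  have p42 : 0 < T.a (v 4) (v 2) := Groth.Agent.H4.NumType.pos_of_ne T (v.injective.ne (by decide)) h42
  have l42 := Groth.Agent.H4.NumType.w_le_left T p42
  have r42 := Groth.Agent.H4.NumType.w_le_right T p42
  have p56 : 0 < T.a (v 5) (v 6) := Groth.Agent.H4.NumType.pos_of_ne T (v.injective.ne (by decide)) h56
  have l56 := Groth.Agent.H4.NumType.w_le_left T p56
  have r56 := Groth.Agent.H4.NumType.w_le_right T p56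
  have p62 : 0 < T.a (v 6) (v 2) := Groth.Agent.H4.NumType.pos_of_ne T (v.injective.ne (by decide)) h62
  have l62 := Groth.Agent.H4.NumType.w_le_left T p62
  have r62 := Groth.Agent.H4.NumType.w_le_right T p62
  exfalso
  refine Groth.Agent.H4.NumType.key_emb T v (by omega) ![1, 2, 3, 1, 2, 1, 2] (by decide) ⟨0, by decide⟩ ?_
  intro l hl
  fin_cases l <;> simp [Fin.sum_univ_succ] at hl ⊢
  · linarith [hd 0, hwp 0, hnn 0 1 (by decide), hsym 1 0, hnn 0 2 (by decide), hsym 2 0, hnn 0 3 (by decide), hsym 3 0, hnn 0 4 (by decide), hsym 4 0, hnn 0 5 (by decide), hsym 5 0, hnn 0 6 (by decide), hsym 6 0, l01, r01, l12, r12, l34, r34, l42, r42, l56, r56, l62, r62]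
  · linarith [hd 1, hwp 1, hsym 1 0, hnn 0 1 (by decide), hnn 1 2 (by decide), hsym 2 1, hnn 1 3 (by decide), hsym 3 1, hnn 1 4 (by decide), hsym 4 1, hnn 1 5 (by decide), hsym 5 1, hnn 1 6 (by decide), hsym 6 1, l01, r01, l12, r12, l34, r34, l42, r42, l56, r56, l62, r62]
  · linarith [hd 2, hwp 2, hsym 2 0, hnn 0 2 (by decide), hsym 2 1, hnn 1 2 (by decide), hnn 2 3 (by decide), hsym 3 2, hnn 2 4 (by decide), hsym 4 2, hnn 2 5 (by decide), hsym 5 2, hnn 2 6 (by decide), hsym 6 2, l01, r01, l12, r12, l34, r34, l42, r42, l56, r56, l62, r62]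
  · linarith [hd 3, hwp 3, hsym 3 0, hnn 0 3 (by decide), hsym 3 1, hnn 1 3 (by decide), hsym 3 2, hnn 2 3 (by decide), hnn 3 4 (by decide), hsym 4 3, hnn 3 5 (by decide), hsym 5 3, hnn 3 6 (by decide), hsym 6 3, l01, r01, l12, r12, l34, r34, l42, r42, l56, r56, l62, r62]
  · linarith [hd 4, hwp 4, hsym 4 0, hnn 0 4 (by decide), hsym 4 1, hnn 1 4 (by decide), hsym 4 2, hnn 2 4 (by decide), hsym 4 3, hnn 3 4 (by decide), hnn 4 5 (by decide), hsym 5 4, hnn 4 6 (by decide), hsym 6 4, l01, r01, l12, r12, l34, r34, l42, r42, l56, r56, l62, r62]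
  · linarith [hd 5, hwp 5, hsym 5 0, hnn 0 5 (by decide), hsym 5 1, hnn 1 5 (by decide), hsym 5 2, hnn 2 5 (by decide), hsym 5 3, hnn 3 5 (by decide), hsym 5 4, hnn 4 5 (by decide), hnn 5 6 (by decide), hsym 6 5, l01, r01, l12, r12, l34, r34, l42, r42, l56, r56, l62, r62]
  · linarith [hd 6, hwp 6, hsym 6 0, hnn 0 6 (by decide), hsym 6 1, hnn 1 6 (by decide), hsym 6 2, hnn 2 6 (by decide), hsym 6 3, hnn 3 6 (by decide), hsym 6 4, hnn 4 6 (by decide), hsym 6 5, hnn 5 6 (by decide), l01, r01, l12, r12, l34, r34, l42, r42, l56, r56, l62, r62]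

end Groth.Agent.S7343
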