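import Groth.Statements.S7344
import Groth.Agent.H4.NumType

set_option autoImplicit false
open Finset
open Models Models.NumericalType

namespace Groth.Agent.S7344

/-- Let T be a numerical type on n > 8 indices. Then no eight (-2)-indices of T, pairwise distinct and
named e, f, g, h, i, j, k, l, have a_ef, a_fg, a_gh, a_hi, a_ij, a_jk and a_lh all nonzero (a chain
of seven, e to k, with l joined to its fourth vertex h). -/
theorem result {n : ℕ} (T : Models.NumericalType n) (hn : 8 < n)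
    (v : Fin 8 ↪ Fin n) (hv : ∀ j, T.IsMinusTwo (v j))
    (h01 : T.a (v 0) (v 1) ≠ 0) (h12 : T.a (v 1) (v 2) ≠ 0) (h23 : T.a (v 2) (v 3) ≠ 0)
    (h34 : T.a (v 3) (v 4) ≠ 0) (h45 : T.a (v 4) (v 5) ≠ 0) (h56 : T.a (v 5) (v 6) ≠ 0)
    (h73 : T.a (v 7) (v 3) ≠ 0) : False := by
  have hd : ∀ j, T.a (v j) (v j) = -2 * T.w (v j) := fun j => (hv j).2
  have hsym : ∀ i j, T.a (v i) (v j) = T.a (v j) (v i) := fun i j => Groth.Agent.H4.NumType.a_symm T _ _
  have hnn : ∀ i j, i ≠ j → 0 ≤ T.a (v i) (v j) := fun i j h => T.offDiag_nonneg _ _ (v.injective.ne h)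
  have hwp : ∀ j, 0 < T.w (v j) := fun j => T.w_pos _
  have p01 : 0 < T.a (v 0) (v 1) := Groth.Agent.H4.NumType.pos_of_ne T (v.injective.ne (by decide)) h01
  have l01 := Groth.Agent.H4.NumType.w_le_left T p01
  have r01 := Groth.Agent.H4.NumType.w_le_right T p01
  have p12 : 0 < T.a (v 1) (v 2) := Groth.Agent.H4.NumType.pos_of_ne T (v.injective.ne (by decide)) h12
  have l12 := Groth.Agent.H4.NumType.w_le_left T p12
  have r12 := Groth.Agent.H4.NumType.w_le_right T p12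
  have p23 : 0 < T.a (v 2) (v 3) := Groth.Agent.H4.NumType.pos_of_ne T (v.injective.ne (by decide)) h23
  have l23 := Groth.Agent.H4.NumType.w_le_left T p23
  have r23 := Groth.Agent.H4.NumType.w_le_right T p23
  have p34 : 0 < T.a (v 3) (v 4) := Groth.Agent.H4.NumType.pos_of_ne T (v.injective.ne (by decide)) h34
  have l34 := Groth.Agent.H4.NumType.w_le_left T p34
  have r34 := Groth.Agent.H4.NumType.w_le_right T p34
  have p45 : 0 < T.a (v 4) (v 5) := Groth.Agent.H4.NumType.pos_of_ne T (v.injective.ne (by decide)) h45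
  have l45 := Groth.Agent.H4.NumType.w_le_left T p45
  have r45 := Groth.Agent.H4.NumType.w_le_right T p45
  have p56 : 0 < T.a (v 5) (v 6) := Groth.Agent.H4.NumType.pos_of_ne T (v.injective.ne (by decide)) h56
  have l56 := Groth.Agent.H4.NumType.w_le_left T p56
  have r56 := Groth.Agent.H4.NumType.w_le_right T p56
  have p73 : 0 < T.a (v 7) (v 3) := Groth.Agent.H4.NumType.pos_of_ne T (v.injective.ne (by decide)) h73
  have l73 := Groth.Agent.H4.NumType.w_le_left T p73
  have r73 := Groth.Agent.H4.NumType.w_le_right T p73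
  exfalso
  refine Groth.Agent.H4.NumType.key_emb T v (by omega) ![1, 2, 3, 4, 3, 2, 1, 2] (by decide) ⟨0, by decide⟩ ?_
  intro l hl
  fin_cases l <;> simp [Fin.sum_univ_succ] at hl ⊢
  · linarith [hd 0, hwp 0, hnn 0 1 (by decide), hsym 1 0, hnn 0 2 (by decide), hsym 2 0, hnn 0 3 (by decide), hsym 3 0, hnn 0 4 (by decide), hsym 4 0, hnn 0 5 (by decide), hsym 5 0, hnn 0 6 (by decide), hsym 6 0, hnn 0 7 (by decide), hsym 7 0, l01, r01, l12, r12, l23, r23, l34, r34, l45, r45, l56, r56, l73, r73]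
  · linarith [hd 1, hwp 1, hsym 1 0, hnn 0 1 (by decide), hnn 1 2 (by decide), hsym 2 1, hnn 1 3 (by decide), hsym 3 1, hnn 1 4 (by decide), hsym 4 1, hnn 1 5 (by decide), hsym 5 1, hnn 1 6 (by decide), hsym 6 1, hnn 1 7 (by decide), hsym 7 1, l01, r01, l12, r12, l23, r23, l34, r34, l45, r45, l56, r56, l73, r73]
  · linarith [hd 2, hwp 2, hsym 2 0, hnn 0 2 (by decide), hsym 2 1, hnn 1 2 (by decide), hnn 2 3 (by decide), hsym 3 2, hnn 2 4 (by decide), hsym 4 2, hnn 2 5 (by decide), hsym 5 2, hnn 2 6 (by decide), hsym 6 2, hnn 2 7 (by decide), hsym 7 2, l01, r01, l12, r12, l23, r23, l34, r34, l45, r45, l56, r56, l73, r73]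
  · linarith [hd 3, hwp 3, hsym 3 0, hnn 0 3 (by decide), hsym 3 1, hnn 1 3 (by decide), hsym 3 2, hnn 2 3 (by decide), hnn 3 4 (by decide), hsym 4 3, hnn 3 5 (by decide), hsym 5 3, hnn 3 6 (by decide), hsym 6 3, hnn 3 7 (by decide), hsym 7 3, l01, r01, l12, r12, l23, r23, l34, r34, l45, r45, l56, r56, l73, r73]
  · linarith [hd 4, hwp 4, hsym 4 0, hnn 0 4 (by decide), hsym 4 1, hnn 1 4 (by decide), hsym 4 2, hnn 2 4 (by decide), hsym 4 3, hnn 3 4 (by decide), hnn 4 5 (by decide), hsym 5 4, hnn 4 6 (by decide), hsym 6 4, hnn 4 7 (by decide), hsym 7 4, l01, r01, l12, r12, l23, r23, l34, r34, l45, r45, l56, r56, l73, r73]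
  · linarith [hd 5, hwp 5, hsym 5 0, hnn 0 5 (by decide), hsym 5 1, hnn 1 5 (by decide), hsym 5 2, hnn 2 5 (by decide), hsym 5 3, hnn 3 5 (by decide), hsym 5 4, hnn 4 5 (by decide), hnn 5 6 (by decide), hsym 6 5, hnn 5 7 (by decide), hsym 7 5, l01, r01, l12, r12, l23, r23, l34, r34, l45, r45, l56, r56, l73, r73]
  · linarith [hd 6, hwp 6, hsym 6 0, hnn 0 6 (by decide), hsym 6 1, hnn 1 6 (by decide), hsym 6 2, hnn 2 6 (by decide), hsym 6 3, hnn 3 6 (by decide), hsym 6 4, hnn 4 6 (by decide), hsym 6 5, hnn 5 6 (by decide), hnn 6 7 (by decide), hsym 7 6, l01, r01, l12, r12, l23, r23, l34, r34, l45, r45, l56, r56, l73, r73]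
  · linarith [hd 7, hwp 7, hsym 7 0, hnn 0 7 (by decide), hsym 7 1, hnn 1 7 (by decide), hsym 7 2, hnn 2 7 (by decide), hsym 7 3, hnn 3 7 (by decide), hsym 7 4, hnn 4 7 (by decide), hsym 7 5, hnn 5 7 (by decide), hsym 7 6, hnn 6 7 (by decide), l01, r01, l12, r12, l23, r23, l34, r34, l45, r45, l56, r56, l73, r73]

end Groth.Agent.S7344
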