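import Groth.Statements.S7346
import Groth.Agent.H4.NumType

set_option autoImplicit false
open Finset
open Models Models.NumericalType

namespace Groth.Agent.S7346

/-- Classification of proper subgraphs of type D4 (one vertex joined to three others): let T be a
numerical type on n > 4 indices and i_1, …, i_4 distinct (-2)-indices with a_{12}, a_{13}, a_{14}
nonzero. Then for some integer w all w_{i_j} equal w, these intersection numbers equal w, all other
a_{i_j i_k} (j ≠ k) vanish, and 2 m_1 ≥ m_2 + m_3 + m_4, 2 m_2 ≥ m_1, 2 m_3 ≥ m_1, 2 m_4 ≥ m_1. -/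
theorem result {n : ℕ} (T : Models.NumericalType n) (hn : 4 < n)
    (v : Fin 4 ↪ Fin n) (hv : ∀ j, T.IsMinusTwo (v j)) (h01 : T.a (v 0) (v 1) ≠ 0) (h02 : T.a (v 0) (v 2) ≠ 0) (h03 : T.a (v 0) (v 3) ≠ 0) :
    ∃ w : ℤ, (∀ j : Fin 4, T.w (v j) = w) ∧
      T.a (v 0) (v 1) = w ∧
      T.a (v 0) (v 2) = w ∧
      T.a (v 0) (v 3) = w ∧
      T.a (v 1) (v 2) = 0 ∧
      T.a (v 1) (v 3) = 0 ∧
      T.a (v 2) (v 3) = 0 ∧
      T.m (v 1) + T.m (v 2) + T.m (v 3) ≤ 2 * T.m (v 0) ∧
      T.m (v 0) ≤ 2 * T.m (v 1) ∧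
      T.m (v 0) ≤ 2 * T.m (v 2) ∧
      T.m (v 0) ≤ 2 * T.m (v 3) := by
  have hd : ∀ j, T.a (v j) (v j) = -2 * T.w (v j) := fun j => (hv j).2
  have hsym : ∀ i j, T.a (v i) (v j) = T.a (v j) (v i) := fun i j => Groth.Agent.H4.NumType.a_symm T _ _
  have hnn : ∀ i j, i ≠ j → 0 ≤ T.a (v i) (v j) := fun i j h => T.offDiag_nonneg _ _ (v.injective.ne h)
  have hwp : ∀ j, 0 < T.w (v j) := fun j => T.w_pos _
  have cancel : ∀ {w x y : ℤ}, 0 < w → w * x ≤ w * y → x ≤ y := fun hw h => le_of_mul_le_mul_left h hw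
  have p01 : 0 < T.a (v 0) (v 1) := Groth.Agent.H4.NumType.pos_of_ne T (v.injective.ne (by decide)) h01
  have l01 := Groth.Agent.H4.NumType.w_le_left T p01
  have r01 := Groth.Agent.H4.NumType.w_le_right T p01
  have p02 : 0 < T.a (v 0) (v 2) := Groth.Agent.H4.NumType.pos_of_ne T (v.injective.ne (by decide)) h02
  have l02 := Groth.Agent.H4.NumType.w_le_left T p02
  have r02 := Groth.Agent.H4.NumType.w_le_right T p02
  have p03 : 0 < T.a (v 0) (v 3) := Groth.Agent.H4.NumType.pos_of_ne T (v.injective.ne (by decide)) h03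
  have l03 := Groth.Agent.H4.NumType.w_le_left T p03
  have r03 := Groth.Agent.H4.NumType.w_le_right T p03
  have s01l : T.a (v 0) (v 1) = T.w (v 0) := by
    rcases Groth.Agent.H4.NumType.eq_or_two_le_left T p01 with h | hcon
    · exact h
    · exfalso
      refine Groth.Agent.H4.NumType.key_emb T v (by omega) ![2, 1, 1, 1] (by decide) ⟨0, by decide⟩ ?_
      intro l hl
      fin_cases l <;> simp [Fin.sum_univ_succ] at hl ⊢
      · linarith [hd 0, hwp 0, hnn 0 1 (by decide), hsym 1 0, hnn 0 2 (by decide), hsym 2 0, hnn 0 3 (by decide), hsym 3 0, l01, r01, l02, r02, l03, r03, hcon]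
      · linarith [hd 1, hwp 1, hsym 1 0, hnn 0 1 (by decide), hnn 1 2 (by decide), hsym 2 1, hnn 1 3 (by decide), hsym 3 1, l01, r01, l02, r02, l03, r03, hcon]
      · linarith [hd 2, hwp 2, hsym 2 0, hnn 0 2 (by decide), hsym 2 1, hnn 1 2 (by decide), hnn 2 3 (by decide), hsym 3 2, l01, r01, l02, r02, l03, r03, hcon]
      · linarith [hd 3, hwp 3, hsym 3 0, hnn 0 3 (by decide), hsym 3 1, hnn 1 3 (by decide), hsym 3 2, hnn 2 3 (by decide), l01, r01, l02, r02, l03, r03, hcon]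
  have s01r : T.a (v 0) (v 1) = T.w (v 1) := by
    rcases Groth.Agent.H4.NumType.eq_or_two_le_right T p01 with h | hcon
    · exact h
    · exfalso
      refine Groth.Agent.H4.NumType.key_emb T v (by omega) ![2, 2, 1, 1] (by decide) ⟨0, by decide⟩ ?_
      intro l hl
      fin_cases l <;> simp [Fin.sum_univ_succ] at hl ⊢
      · linarith [hd 0, hwp 0, hnn 0 1 (by decide), hsym 1 0, hnn 0 2 (by decide), hsym 2 0, hnn 0 3 (by decide), hsym 3 0, l01, r01, l02, r02, l03, r03, hcon]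
      · linarith [hd 1, hwp 1, hsym 1 0, hnn 0 1 (by decide), hnn 1 2 (by decide), hsym 2 1, hnn 1 3 (by decide), hsym 3 1, l01, r01, l02, r02, l03, r03, hcon]
      · linarith [hd 2, hwp 2, hsym 2 0, hnn 0 2 (by decide), hsym 2 1, hnn 1 2 (by decide), hnn 2 3 (by decide), hsym 3 2, l01, r01, l02, r02, l03, r03, hcon]
      · linarith [hd 3, hwp 3, hsym 3 0, hnn 0 3 (by decide), hsym 3 1, hnn 1 3 (by decide), hsym 3 2, hnn 2 3 (by decide), l01, r01, l02, r02, l03, r03, hcon]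
  have s02l : T.a (v 0) (v 2) = T.w (v 0) := by
    rcases Groth.Agent.H4.NumType.eq_or_two_le_left T p02 with h | hcon
    · exact h
    · exfalso
      refine Groth.Agent.H4.NumType.key_emb T v (by omega) ![2, 1, 1, 1] (by decide) ⟨0, by decide⟩ ?_
      intro l hl
      fin_cases l <;> simp [Fin.sum_univ_succ] at hl ⊢
      · linarith [hd 0, hwp 0, hnn 0 1 (by decide), hsym 1 0, hnn 0 2 (by decide), hsym 2 0, hnn 0 3 (by decide), hsym 3 0, l01, r01, l02, r02, l03, r03, hcon]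
      · linarith [hd 1, hwp 1, hsym 1 0, hnn 0 1 (by decide), hnn 1 2 (by decide), hsym 2 1, hnn 1 3 (by decide), hsym 3 1, l01, r01, l02, r02, l03, r03, hcon]
      · linarith [hd 2, hwp 2, hsym 2 0, hnn 0 2 (by decide), hsym 2 1, hnn 1 2 (by decide), hnn 2 3 (by decide), hsym 3 2, l01, r01, l02, r02, l03, r03, hcon]
      · linarith [hd 3, hwp 3, hsym 3 0, hnn 0 3 (by decide), hsym 3 1, hnn 1 3 (by decide), hsym 3 2, hnn 2 3 (by decide), l01, r01, l02, r02, l03, r03, hcon]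
  have s02r : T.a (v 0) (v 2) = T.w (v 2) := by
    rcases Groth.Agent.H4.NumType.eq_or_two_le_right T p02 with h | hcon
    · exact h
    · exfalso
      refine Groth.Agent.H4.NumType.key_emb T v (by omega) ![2, 1, 2, 1] (by decide) ⟨0, by decide⟩ ?_
      intro l hl
      fin_cases l <;> simp [Fin.sum_univ_succ] at hl ⊢
      · linarith [hd 0, hwp 0, hnn 0 1 (by decide), hsym 1 0, hnn 0 2 (by decide), hsym 2 0, hnn 0 3 (by decide), hsym 3 0, l01, r01, l02, r02, l03, r03, hcon]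
      · linarith [hd 1, hwp 1, hsym 1 0, hnn 0 1 (by decide), hnn 1 2 (by decide), hsym 2 1, hnn 1 3 (by decide), hsym 3 1, l01, r01, l02, r02, l03, r03, hcon]
      · linarith [hd 2, hwp 2, hsym 2 0, hnn 0 2 (by decide), hsym 2 1, hnn 1 2 (by decide), hnn 2 3 (by decide), hsym 3 2, l01, r01, l02, r02, l03, r03, hcon]
      · linarith [hd 3, hwp 3, hsym 3 0, hnn 0 3 (by decide), hsym 3 1, hnn 1 3 (by decide), hsym 3 2, hnn 2 3 (by decide), l01, r01, l02, r02, l03, r03, hcon]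
  have s03l : T.a (v 0) (v 3) = T.w (v 0) := by
    rcases Groth.Agent.H4.NumType.eq_or_two_le_left T p03 with h | hcon
    · exact h
    · exfalso
      refine Groth.Agent.H4.NumType.key_emb T v (by omega) ![2, 1, 1, 1] (by decide) ⟨0, by decide⟩ ?_
      intro l hl
      fin_cases l <;> simp [Fin.sum_univ_succ] at hl ⊢
      · linarith [hd 0, hwp 0, hnn 0 1 (by decide), hsym 1 0, hnn 0 2 (by decide), hsym 2 0, hnn 0 3 (by decide), hsym 3 0, l01, r01, l02, r02, l03, r03, hcon]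
      · linarith [hd 1, hwp 1, hsym 1 0, hnn 0 1 (by decide), hnn 1 2 (by decide), hsym 2 1, hnn 1 3 (by decide), hsym 3 1, l01, r01, l02, r02, l03, r03, hcon]
      · linarith [hd 2, hwp 2, hsym 2 0, hnn 0 2 (by decide), hsym 2 1, hnn 1 2 (by decide), hnn 2 3 (by decide), hsym 3 2, l01, r01, l02, r02, l03, r03, hcon]
      · linarith [hd 3, hwp 3, hsym 3 0, hnn 0 3 (by decide), hsym 3 1, hnn 1 3 (by decide), hsym 3 2, hnn 2 3 (by decide), l01, r01, l02, r02, l03, r03, hcon]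
  have s03r : T.a (v 0) (v 3) = T.w (v 3) := by
    rcases Groth.Agent.H4.NumType.eq_or_two_le_right T p03 with h | hcon
    · exact h
    · exfalso
      refine Groth.Agent.H4.NumType.key_emb T v (by omega) ![2, 1, 1, 2] (by decide) ⟨0, by decide⟩ ?_
      intro l hl
      fin_cases l <;> simp [Fin.sum_univ_succ] at hl ⊢
      · linarith [hd 0, hwp 0, hnn 0 1 (by decide), hsym 1 0, hnn 0 2 (by decide), hsym 2 0, hnn 0 3 (by decide), hsym 3 0, l01, r01, l02, r02, l03, r03, hcon]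
      · linarith [hd 1, hwp 1, hsym 1 0, hnn 0 1 (by decide), hnn 1 2 (by decide), hsym 2 1, hnn 1 3 (by decide), hsym 3 1, l01, r01, l02, r02, l03, r03, hcon]
      · linarith [hd 2, hwp 2, hsym 2 0, hnn 0 2 (by decide), hsym 2 1, hnn 1 2 (by decide), hnn 2 3 (by decide), hsym 3 2, l01, r01, l02, r02, l03, r03, hcon]
      · linarith [hd 3, hwp 3, hsym 3 0, hnn 0 3 (by decide), hsym 3 1, hnn 1 3 (by decide), hsym 3 2, hnn 2 3 (by decide), l01, r01, l02, r02, l03, r03, hcon]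
  have hw1 : T.w (v 1) = T.w (v 0) := by linarith [s01l, s01r]
  have hw2 : T.w (v 2) = T.w (v 0) := by linarith [s02l, s02r]
  have hw3 : T.w (v 3) = T.w (v 0) := by linarith [s03l, s03r]
  have e01 : T.a (v 0) (v 1) = T.w (v 0) := by linarith [s01l]
  have e02 : T.a (v 0) (v 2) = T.w (v 0) := by linarith [s02l]
  have e03 : T.a (v 0) (v 3) = T.w (v 0) := by linarith [s03l]
  have z12 : T.a (v 1) (v 2) = 0 := by
    by_contra hne
    have pz := Groth.Agent.H4.NumType.pos_of_ne T (v.injective.ne (show (1 : Fin 4) ≠ 2 by decide)) hne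
    have lz := Groth.Agent.H4.NumType.w_le_left T pz
    have rz := Groth.Agent.H4.NumType.w_le_right T pz
    refine Groth.Agent.H4.NumType.key_emb T v (by omega) ![1, 1, 1, 0] (by decide) ⟨0, by decide⟩ ?_
    intro l hl
    fin_cases l <;> simp [Fin.sum_univ_succ] at hl ⊢
    · linarith [hd 0, hwp 0, hnn 0 1 (by decide), hsym 1 0, hnn 0 2 (by decide), hsym 2 0, hnn 0 3 (by decide), hsym 3 0, l01, r01, l02, r02, l03, r03, lz, rz]
    · linarith [hd 1, hwp 1, hsym 1 0, hnn 0 1 (by decide), hnn 1 2 (by decide), hsym 2 1, hnn 1 3 (by decide), hsym 3 1, l01, r01, l02, r02, l03, r03, lz, rz]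
    · linarith [hd 2, hwp 2, hsym 2 0, hnn 0 2 (by decide), hsym 2 1, hnn 1 2 (by decide), hnn 2 3 (by decide), hsym 3 2, l01, r01, l02, r02, l03, r03, lz, rz]
  have z13 : T.a (v 1) (v 3) = 0 := by
    by_contra hne
    have pz := Groth.Agent.H4.NumType.pos_of_ne T (v.injective.ne (show (1 : Fin 4) ≠ 3 by decide)) hne
    have lz := Groth.Agent.H4.NumType.w_le_left T pz
    have rz := Groth.Agent.H4.NumType.w_le_right T pz
    refine Groth.Agent.H4.NumType.key_emb T v (by omega) ![1, 1, 0, 1] (by decide) ⟨0, by decide⟩ ?_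
    intro l hl
    fin_cases l <;> simp [Fin.sum_univ_succ] at hl ⊢
    · linarith [hd 0, hwp 0, hnn 0 1 (by decide), hsym 1 0, hnn 0 2 (by decide), hsym 2 0, hnn 0 3 (by decide), hsym 3 0, l01, r01, l02, r02, l03, r03, lz, rz]
    · linarith [hd 1, hwp 1, hsym 1 0, hnn 0 1 (by decide), hnn 1 2 (by decide), hsym 2 1, hnn 1 3 (by decide), hsym 3 1, l01, r01, l02, r02, l03, r03, lz, rz]
    · linarith [hd 3, hwp 3, hsym 3 0, hnn 0 3 (by decide), hsym 3 1, hnn 1 3 (by decide), hsym 3 2, hnn 2 3 (by decide), l01, r01, l02, r02, l03, r03, lz, rz]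
  have z23 : T.a (v 2) (v 3) = 0 := by
    by_contra hne
    have pz := Groth.Agent.H4.NumType.pos_of_ne T (v.injective.ne (show (2 : Fin 4) ≠ 3 by decide)) hne
    have lz := Groth.Agent.H4.NumType.w_le_left T pz
    have rz := Groth.Agent.H4.NumType.w_le_right T pz
    refine Groth.Agent.H4.NumType.key_emb T v (by omega) ![1, 0, 1, 1] (by decide) ⟨0, by decide⟩ ?_
    intro l hl
    fin_cases l <;> simp [Fin.sum_univ_succ] at hl ⊢
    · linarith [hd 0, hwp 0, hnn 0 1 (by decide), hsym 1 0, hnn 0 2 (by decide), hsym 2 0, hnn 0 3 (by decide), hsym 3 0, l01, r01, l02, r02, l03, r03, lz, rz]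
    · linarith [hd 2, hwp 2, hsym 2 0, hnn 0 2 (by decide), hsym 2 1, hnn 1 2 (by decide), hnn 2 3 (by decide), hsym 3 2, l01, r01, l02, r02, l03, r03, lz, rz]
    · linarith [hd 3, hwp 3, hsym 3 0, hnn 0 3 (by decide), hsym 3 1, hnn 1 3 (by decide), hsym 3 2, hnn 2 3 (by decide), l01, r01, l02, r02, l03, r03, lz, rz]
  have hm0 : T.m (v 1) + T.m (v 2) + T.m (v 3) ≤ 2 * T.m (v 0) := by
    have hrow := Groth.Agent.H4.NumType.row_le T v 0
    simp [Fin.sum_univ_succ] at hrow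
    have q0 : T.a (v 0) (v 0) = -2 * T.w (v 0) := by linarith [hd 0]
    have q1 : T.a (v 0) (v 1) = T.w (v 0) := by linarith [e01]
    have q2 : T.a (v 0) (v 2) = T.w (v 0) := by linarith [e02]
    have q3 : T.a (v 0) (v 3) = T.w (v 0) := by linarith [e03]
    rw [q0, q1, q2, q3] at hrow
    apply cancel (hwp 0)
    linarith
  have hm1 : T.m (v 0) ≤ 2 * T.m (v 1) := by
    have hrow := Groth.Agent.H4.NumType.row_le T v 1
    simp [Fin.sum_univ_succ] at hrow
    have q0 : T.a (v 1) (v 0) = T.w (v 0) := by linarith [e01, hsym 1 0]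
    have q1 : T.a (v 1) (v 1) = -2 * T.w (v 0) := by linarith [hd 1, hw1]
    have q2 : T.a (v 1) (v 2) = 0 := by linarith [z12]
    have q3 : T.a (v 1) (v 3) = 0 := by linarith [z13]
    rw [q0, q1, q2, q3] at hrow
    apply cancel (hwp 0)
    linarith
  have hm2 : T.m (v 0) ≤ 2 * T.m (v 2) := by
    have hrow := Groth.Agent.H4.NumType.row_le T v 2
    simp [Fin.sum_univ_succ] at hrow
    have q0 : T.a (v 2) (v 0) = T.w (v 0) := by linarith [e02, hsym 2 0]
    have q1 : T.a (v 2) (v 1) = 0 := by linarith [z12, hsym 2 1]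
    have q2 : T.a (v 2) (v 2) = -2 * T.w (v 0) := by linarith [hd 2, hw2]
    have q3 : T.a (v 2) (v 3) = 0 := by linarith [z23]
    rw [q0, q1, q2, q3] at hrow
    apply cancel (hwp 0)
    linarith
  have hm3 : T.m (v 0) ≤ 2 * T.m (v 3) := by
    have hrow := Groth.Agent.H4.NumType.row_le T v 3
    simp [Fin.sum_univ_succ] at hrow
    have q0 : T.a (v 3) (v 0) = T.w (v 0) := by linarith [e03, hsym 3 0]
    have q1 : T.a (v 3) (v 1) = 0 := by linarith [z13, hsym 3 1]
    have q2 : T.a (v 3) (v 2) = 0 := by linarith [z23, hsym 3 2]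
    have q3 : T.a (v 3) (v 3) = -2 * T.w (v 0) := by linarith [hd 3, hw3]
    rw [q0, q1, q2, q3] at hrow
    apply cancel (hwp 0)
    linarith
  refine ⟨T.w (v 0), ?_, e01, e02, e03, z12, z13, z23, hm0, hm1, hm2, hm3⟩
  intro j
  fin_cases j
  exacts [rfl, hw1, hw2, hw3]

end Groth.Agent.S7346
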