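import Groth.Statements.S7349
import Groth.Agent.H4.NumType

set_option autoImplicit false
open Finset
open Models Models.NumericalType

namespace Groth.Agent.S7349

theorem s01l {n : ℕ} (T : Models.NumericalType n) (hn : 7 < n)
    (v : Fin 7 ↪ Fin n) (hv : ∀ j, T.IsMinusTwo (v j)) (h01 : T.a (v 0) (v 1) ≠ 0) (h12 : T.a (v 1) (v 2) ≠ 0) (h23 : T.a (v 2) (v 3) ≠ 0) (h34 : T.a (v 3) (v 4) ≠ 0) (h45 : T.a (v 4) (v 5) ≠ 0) (h36 : T.a (v 3) (v 6) ≠ 0) :
    T.a (v 0) (v 1) = T.w (v 0) := by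
  have hd : ∀ j, T.a (v j) (v j) = -2 * T.w (v j) := fun j => (hv j).2
  have hsym : ∀ i j, T.a (v i) (v j) = T.a (v j) (v i) := fun i j => Groth.Agent.H4.NumType.a_symm T _ _
  have hnn : ∀ i j, i ≠ j → 0 ≤ T.a (v i) (v j) := fun i j h => T.offDiag_nonneg _ _ (v.injective.ne h)
  have hwp : ∀ j, 0 < T.w (v j) := fun j => T.w_pos _
  have p01 : 0 < T.a (v 0) (v 1) := Groth.Agent.H4.NumType.pos_of_ne T (v.injective.ne (by decide)) h01
  have l01 := Groth.Agent.H4.NumType.w_le_left T p01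
  have r01 := Groth.Agent.H4.NumType.w_le_right T p01
  have p12 : 0 < T.a (v 1) (v 2) := Groth.Agent.H4.NumType.pos_of_ne T (v.injective.ne (by decide)) h12
  have l12 := Groth.Agent.H4.NumType.w_le_left T p12
  have r12 := Groth.Agent.H4.NumType.w_le_right T p12
  have p23 : 0 < T.a (v 2) (v 3) := Groth.Agent.H4.NumType.pos_of_ne T (v.injective.ne (by decide)) h23
  have l23 := Groth.Agent.H4.NumType.w_le_left T p23
  have r23 := Groth.Agent.H4.NumType.w_le_right T p23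
  have p34 : 0 < T.a (v 3) (v 4) := Groth.Agent.H4.NumType.pos_of_ne T (v.injective.ne (by decide)) h34
  have l34 := Groth.Agent.H4.NumType.w_le_left T p34
  have r34 := Groth.Agent.H4.NumType.w_le_right T p34
  have p45 : 0 < T.a (v 4) (v 5) := Groth.Agent.H4.NumType.pos_of_ne T (v.injective.ne (by decide)) h45
  have l45 := Groth.Agent.H4.NumType.w_le_left T p45
  have r45 := Groth.Agent.H4.NumType.w_le_right T p45
  have p36 : 0 < T.a (v 3) (v 6) := Groth.Agent.H4.NumType.pos_of_ne T (v.injective.ne (by decide)) h36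
  have l36 := Groth.Agent.H4.NumType.w_le_left T p36
  have r36 := Groth.Agent.H4.NumType.w_le_right T p36
  rcases Groth.Agent.H4.NumType.eq_or_two_le_left T p01 with h | hcon
  · exact h
  · exfalso
    refine Groth.Agent.H4.NumType.key_emb T v (by omega) ![2, 2, 2, 2, 1, 0, 1] (by decide) ⟨0, by decide⟩ ?_
    intro l hl
    fin_cases l <;> simp [Fin.sum_univ_succ] at hl ⊢
    · linarith only [hd 0, hwp 0, hnn 0 1 (by decide), hsym 1 0, hnn 0 2 (by decide), hsym 2 0, hnn 0 3 (by decide), hsym 3 0, hnn 0 4 (by decide), hsym 4 0, hnn 0 5 (by decide), hsym 5 0, hnn 0 6 (by decide), hsym 6 0, l01, r01, l12, r12, l23, r23, l34, r34, l45, r45, l36, r36, hcon]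
    · linarith only [hd 1, hwp 1, hsym 1 0, hnn 0 1 (by decide), hnn 1 2 (by decide), hsym 2 1, hnn 1 3 (by decide), hsym 3 1, hnn 1 4 (by decide), hsym 4 1, hnn 1 5 (by decide), hsym 5 1, hnn 1 6 (by decide), hsym 6 1, l01, r01, l12, r12, l23, r23, l34, r34, l45, r45, l36, r36, hcon]
    · linarith only [hd 2, hwp 2, hsym 2 0, hnn 0 2 (by decide), hsym 2 1, hnn 1 2 (by decide), hnn 2 3 (by decide), hsym 3 2, hnn 2 4 (by decide), hsym 4 2, hnn 2 5 (by decide), hsym 5 2, hnn 2 6 (by decide), hsym 6 2, l01, r01, l12, r12, l23, r23, l34, r34, l45, r45, l36, r36, hcon]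
    · linarith only [hd 3, hwp 3, hsym 3 0, hnn 0 3 (by decide), hsym 3 1, hnn 1 3 (by decide), hsym 3 2, hnn 2 3 (by decide), hnn 3 4 (by decide), hsym 4 3, hnn 3 5 (by decide), hsym 5 3, hnn 3 6 (by decide), hsym 6 3, l01, r01, l12, r12, l23, r23, l34, r34, l45, r45, l36, r36, hcon]
    · linarith only [hd 4, hwp 4, hsym 4 0, hnn 0 4 (by decide), hsym 4 1, hnn 1 4 (by decide), hsym 4 2, hnn 2 4 (by decide), hsym 4 3, hnn 3 4 (by decide), hnn 4 5 (by decide), hsym 5 4, hnn 4 6 (by decide), hsym 6 4, l01, r01, l12, r12, l23, r23, l34, r34, l45, r45, l36, r36, hcon]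
    · linarith only [hd 6, hwp 6, hsym 6 0, hnn 0 6 (by decide), hsym 6 1, hnn 1 6 (by decide), hsym 6 2, hnn 2 6 (by decide), hsym 6 3, hnn 3 6 (by decide), hsym 6 4, hnn 4 6 (by decide), hsym 6 5, hnn 5 6 (by decide), l01, r01, l12, r12, l23, r23, l34, r34, l45, r45, l36, r36, hcon]

theorem s01r {n : ℕ} (T : Models.NumericalType n) (hn : 7 < n)
    (v : Fin 7 ↪ Fin n) (hv : ∀ j, T.IsMinusTwo (v j)) (h01 : T.a (v 0) (v 1) ≠ 0) (h12 : T.a (v 1) (v 2) ≠ 0) (h23 : T.a (v 2) (v 3) ≠ 0) (h34 : T.a (v 3) (v 4) ≠ 0) (h45 : T.a (v 4) (v 5) ≠ 0) (h36 : T.a (v 3) (v 6) ≠ 0) :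
    T.a (v 0) (v 1) = T.w (v 1) := by
  have hd : ∀ j, T.a (v j) (v j) = -2 * T.w (v j) := fun j => (hv j).2
  have hsym : ∀ i j, T.a (v i) (v j) = T.a (v j) (v i) := fun i j => Groth.Agent.H4.NumType.a_symm T _ _
  have hnn : ∀ i j, i ≠ j → 0 ≤ T.a (v i) (v j) := fun i j h => T.offDiag_nonneg _ _ (v.injective.ne h)
  have hwp : ∀ j, 0 < T.w (v j) := fun j => T.w_pos _
  have p01 : 0 < T.a (v 0) (v 1) := Groth.Agent.H4.NumType.pos_of_ne T (v.injective.ne (by decide)) h01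
  have l01 := Groth.Agent.H4.NumType.w_le_left T p01
  have r01 := Groth.Agent.H4.NumType.w_le_right T p01
  have p12 : 0 < T.a (v 1) (v 2) := Groth.Agent.H4.NumType.pos_of_ne T (v.injective.ne (by decide)) h12
  have l12 := Groth.Agent.H4.NumType.w_le_left T p12
  have r12 := Groth.Agent.H4.NumType.w_le_right T p12
  have p23 : 0 < T.a (v 2) (v 3) := Groth.Agent.H4.NumType.pos_of_ne T (v.injective.ne (by decide)) h23
  have l23 := Groth.Agent.H4.NumType.w_le_left T p23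
  have r23 := Groth.Agent.H4.NumType.w_le_right T p23
  have p34 : 0 < T.a (v 3) (v 4) := Groth.Agent.H4.NumType.pos_of_ne T (v.injective.ne (by decide)) h34
  have l34 := Groth.Agent.H4.NumType.w_le_left T p34
  have r34 := Groth.Agent.H4.NumType.w_le_right T p34
  have p45 : 0 < T.a (v 4) (v 5) := Groth.Agent.H4.NumType.pos_of_ne T (v.injective.ne (by decide)) h45
  have l45 := Groth.Agent.H4.NumType.w_le_left T p45
  have r45 := Groth.Agent.H4.NumType.w_le_right T p45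
  have p36 : 0 < T.a (v 3) (v 6) := Groth.Agent.H4.NumType.pos_of_ne T (v.injective.ne (by decide)) h36
  have l36 := Groth.Agent.H4.NumType.w_le_left T p36
  have r36 := Groth.Agent.H4.NumType.w_le_right T p36
  rcases Groth.Agent.H4.NumType.eq_or_two_le_right T p01 with h | hcon
  · exact h
  · exfalso
    refine Groth.Agent.H4.NumType.key_emb T v (by omega) ![1, 2, 2, 2, 1, 0, 1] (by decide) ⟨0, by decide⟩ ?_
    intro l hl
    fin_cases l <;> simp [Fin.sum_univ_succ] at hl ⊢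
    · linarith only [hd 0, hwp 0, hnn 0 1 (by decide), hsym 1 0, hnn 0 2 (by decide), hsym 2 0, hnn 0 3 (by decide), hsym 3 0, hnn 0 4 (by decide), hsym 4 0, hnn 0 5 (by decide), hsym 5 0, hnn 0 6 (by decide), hsym 6 0, l01, r01, l12, r12, l23, r23, l34, r34, l45, r45, l36, r36, hcon]
    · linarith only [hd 1, hwp 1, hsym 1 0, hnn 0 1 (by decide), hnn 1 2 (by decide), hsym 2 1, hnn 1 3 (by decide), hsym 3 1, hnn 1 4 (by decide), hsym 4 1, hnn 1 5 (by decide), hsym 5 1, hnn 1 6 (by decide), hsym 6 1, l01, r01, l12, r12, l23, r23, l34, r34, l45, r45, l36, r36, hcon]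
    · linarith only [hd 2, hwp 2, hsym 2 0, hnn 0 2 (by decide), hsym 2 1, hnn 1 2 (by decide), hnn 2 3 (by decide), hsym 3 2, hnn 2 4 (by decide), hsym 4 2, hnn 2 5 (by decide), hsym 5 2, hnn 2 6 (by decide), hsym 6 2, l01, r01, l12, r12, l23, r23, l34, r34, l45, r45, l36, r36, hcon]
    · linarith only [hd 3, hwp 3, hsym 3 0, hnn 0 3 (by decide), hsym 3 1, hnn 1 3 (by decide), hsym 3 2, hnn 2 3 (by decide), hnn 3 4 (by decide), hsym 4 3, hnn 3 5 (by decide), hsym 5 3, hnn 3 6 (by decide), hsym 6 3, l01, r01, l12, r12, l23, r23, l34, r34, l45, r45, l36, r36, hcon]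
    · linarith only [hd 4, hwp 4, hsym 4 0, hnn 0 4 (by decide), hsym 4 1, hnn 1 4 (by decide), hsym 4 2, hnn 2 4 (by decide), hsym 4 3, hnn 3 4 (by decide), hnn 4 5 (by decide), hsym 5 4, hnn 4 6 (by decide), hsym 6 4, l01, r01, l12, r12, l23, r23, l34, r34, l45, r45, l36, r36, hcon]
    · linarith only [hd 6, hwp 6, hsym 6 0, hnn 0 6 (by decide), hsym 6 1, hnn 1 6 (by decide), hsym 6 2, hnn 2 6 (by decide), hsym 6 3, hnn 3 6 (by decide), hsym 6 4, hnn 4 6 (by decide), hsym 6 5, hnn 5 6 (by decide), l01, r01, l12, r12, l23, r23, l34, r34, l45, r45, l36, r36, hcon]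

theorem s12l {n : ℕ} (T : Models.NumericalType n) (hn : 7 < n)
    (v : Fin 7 ↪ Fin n) (hv : ∀ j, T.IsMinusTwo (v j)) (h01 : T.a (v 0) (v 1) ≠ 0) (h12 : T.a (v 1) (v 2) ≠ 0) (h23 : T.a (v 2) (v 3) ≠ 0) (h34 : T.a (v 3) (v 4) ≠ 0) (h45 : T.a (v 4) (v 5) ≠ 0) (h36 : T.a (v 3) (v 6) ≠ 0) :
    T.a (v 1) (v 2) = T.w (v 1) := by
  have hd : ∀ j, T.a (v j) (v j) = -2 * T.w (v j) := fun j => (hv j).2
  have hsym : ∀ i j, T.a (v i) (v j) = T.a (v j) (v i) := fun i j => Groth.Agent.H4.NumType.a_symm T _ _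
  have hnn : ∀ i j, i ≠ j → 0 ≤ T.a (v i) (v j) := fun i j h => T.offDiag_nonneg _ _ (v.injective.ne h)
  have hwp : ∀ j, 0 < T.w (v j) := fun j => T.w_pos _
  have p01 : 0 < T.a (v 0) (v 1) := Groth.Agent.H4.NumType.pos_of_ne T (v.injective.ne (by decide)) h01
  have l01 := Groth.Agent.H4.NumType.w_le_left T p01
  have r01 := Groth.Agent.H4.NumType.w_le_right T p01
  have p12 : 0 < T.a (v 1) (v 2) := Groth.Agent.H4.NumType.pos_of_ne T (v.injective.ne (by decide)) h12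
  have l12 := Groth.Agent.H4.NumType.w_le_left T p12
  have r12 := Groth.Agent.H4.NumType.w_le_right T p12
  have p23 : 0 < T.a (v 2) (v 3) := Groth.Agent.H4.NumType.pos_of_ne T (v.injective.ne (by decide)) h23
  have l23 := Groth.Agent.H4.NumType.w_le_left T p23
  have r23 := Groth.Agent.H4.NumType.w_le_right T p23
  have p34 : 0 < T.a (v 3) (v 4) := Groth.Agent.H4.NumType.pos_of_ne T (v.injective.ne (by decide)) h34
  have l34 := Groth.Agent.H4.NumType.w_le_left T p34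
  have r34 := Groth.Agent.H4.NumType.w_le_right T p34
  have p45 : 0 < T.a (v 4) (v 5) := Groth.Agent.H4.NumType.pos_of_ne T (v.injective.ne (by decide)) h45
  have l45 := Groth.Agent.H4.NumType.w_le_left T p45
  have r45 := Groth.Agent.H4.NumType.w_le_right T p45
  have p36 : 0 < T.a (v 3) (v 6) := Groth.Agent.H4.NumType.pos_of_ne T (v.injective.ne (by decide)) h36
  have l36 := Groth.Agent.H4.NumType.w_le_left T p36
  have r36 := Groth.Agent.H4.NumType.w_le_right T p36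
  rcases Groth.Agent.H4.NumType.eq_or_two_le_left T p12 with h | hcon
  · exact h
  · exfalso
    refine Groth.Agent.H4.NumType.key_emb T v (by omega) ![0, 2, 2, 2, 1, 0, 1] (by decide) ⟨1, by decide⟩ ?_
    intro l hl
    fin_cases l <;> simp [Fin.sum_univ_succ] at hl ⊢
    · linarith only [hd 1, hwp 1, hsym 1 0, hnn 0 1 (by decide), hnn 1 2 (by decide), hsym 2 1, hnn 1 3 (by decide), hsym 3 1, hnn 1 4 (by decide), hsym 4 1, hnn 1 5 (by decide), hsym 5 1, hnn 1 6 (by decide), hsym 6 1, l01, r01, l12, r12, l23, r23, l34, r34, l45, r45, l36, r36, hcon]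
    · linarith only [hd 2, hwp 2, hsym 2 0, hnn 0 2 (by decide), hsym 2 1, hnn 1 2 (by decide), hnn 2 3 (by decide), hsym 3 2, hnn 2 4 (by decide), hsym 4 2, hnn 2 5 (by decide), hsym 5 2, hnn 2 6 (by decide), hsym 6 2, l01, r01, l12, r12, l23, r23, l34, r34, l45, r45, l36, r36, hcon]
    · linarith only [hd 3, hwp 3, hsym 3 0, hnn 0 3 (by decide), hsym 3 1, hnn 1 3 (by decide), hsym 3 2, hnn 2 3 (by decide), hnn 3 4 (by decide), hsym 4 3, hnn 3 5 (by decide), hsym 5 3, hnn 3 6 (by decide), hsym 6 3, l01, r01, l12, r12, l23, r23, l34, r34, l45, r45, l36, r36, hcon]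
    · linarith only [hd 4, hwp 4, hsym 4 0, hnn 0 4 (by decide), hsym 4 1, hnn 1 4 (by decide), hsym 4 2, hnn 2 4 (by decide), hsym 4 3, hnn 3 4 (by decide), hnn 4 5 (by decide), hsym 5 4, hnn 4 6 (by decide), hsym 6 4, l01, r01, l12, r12, l23, r23, l34, r34, l45, r45, l36, r36, hcon]
    · linarith only [hd 6, hwp 6, hsym 6 0, hnn 0 6 (by decide), hsym 6 1, hnn 1 6 (by decide), hsym 6 2, hnn 2 6 (by decide), hsym 6 3, hnn 3 6 (by decide), hsym 6 4, hnn 4 6 (by decide), hsym 6 5, hnn 5 6 (by decide), l01, r01, l12, r12, l23, r23, l34, r34, l45, r45, l36, r36, hcon]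

theorem s12r {n : ℕ} (T : Models.NumericalType n) (hn : 7 < n)
    (v : Fin 7 ↪ Fin n) (hv : ∀ j, T.IsMinusTwo (v j)) (h01 : T.a (v 0) (v 1) ≠ 0) (h12 : T.a (v 1) (v 2) ≠ 0) (h23 : T.a (v 2) (v 3) ≠ 0) (h34 : T.a (v 3) (v 4) ≠ 0) (h45 : T.a (v 4) (v 5) ≠ 0) (h36 : T.a (v 3) (v 6) ≠ 0) :
    T.a (v 1) (v 2) = T.w (v 2) := by
  have hd : ∀ j, T.a (v j) (v j) = -2 * T.w (v j) := fun j => (hv j).2
  have hsym : ∀ i j, T.a (v i) (v j) = T.a (v j) (v i) := fun i j => Groth.Agent.H4.NumType.a_symm T _ _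
  have hnn : ∀ i j, i ≠ j → 0 ≤ T.a (v i) (v j) := fun i j h => T.offDiag_nonneg _ _ (v.injective.ne h)
  have hwp : ∀ j, 0 < T.w (v j) := fun j => T.w_pos _
  have p01 : 0 < T.a (v 0) (v 1) := Groth.Agent.H4.NumType.pos_of_ne T (v.injective.ne (by decide)) h01
  have l01 := Groth.Agent.H4.NumType.w_le_left T p01
  have r01 := Groth.Agent.H4.NumType.w_le_right T p01
  have p12 : 0 < T.a (v 1) (v 2) := Groth.Agent.H4.NumType.pos_of_ne T (v.injective.ne (by decide)) h12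
  have l12 := Groth.Agent.H4.NumType.w_le_left T p12
  have r12 := Groth.Agent.H4.NumType.w_le_right T p12
  have p23 : 0 < T.a (v 2) (v 3) := Groth.Agent.H4.NumType.pos_of_ne T (v.injective.ne (by decide)) h23
  have l23 := Groth.Agent.H4.NumType.w_le_left T p23
  have r23 := Groth.Agent.H4.NumType.w_le_right T p23
  have p34 : 0 < T.a (v 3) (v 4) := Groth.Agent.H4.NumType.pos_of_ne T (v.injective.ne (by decide)) h34
  have l34 := Groth.Agent.H4.NumType.w_le_left T p34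
  have r34 := Groth.Agent.H4.NumType.w_le_right T p34
  have p45 : 0 < T.a (v 4) (v 5) := Groth.Agent.H4.NumType.pos_of_ne T (v.injective.ne (by decide)) h45
  have l45 := Groth.Agent.H4.NumType.w_le_left T p45
  have r45 := Groth.Agent.H4.NumType.w_le_right T p45
  have p36 : 0 < T.a (v 3) (v 6) := Groth.Agent.H4.NumType.pos_of_ne T (v.injective.ne (by decide)) h36
  have l36 := Groth.Agent.H4.NumType.w_le_left T p36
  have r36 := Groth.Agent.H4.NumType.w_le_right T p36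
  rcases Groth.Agent.H4.NumType.eq_or_two_le_right T p12 with h | hcon
  · exact h
  · exfalso
    refine Groth.Agent.H4.NumType.key_emb T v (by omega) ![0, 1, 2, 2, 1, 0, 1] (by decide) ⟨1, by decide⟩ ?_
    intro l hl
    fin_cases l <;> simp [Fin.sum_univ_succ] at hl ⊢
    · linarith only [hd 1, hwp 1, hsym 1 0, hnn 0 1 (by decide), hnn 1 2 (by decide), hsym 2 1, hnn 1 3 (by decide), hsym 3 1, hnn 1 4 (by decide), hsym 4 1, hnn 1 5 (by decide), hsym 5 1, hnn 1 6 (by decide), hsym 6 1, l01, r01, l12, r12, l23, r23, l34, r34, l45, r45, l36, r36, hcon]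
    · linarith only [hd 2, hwp 2, hsym 2 0, hnn 0 2 (by decide), hsym 2 1, hnn 1 2 (by decide), hnn 2 3 (by decide), hsym 3 2, hnn 2 4 (by decide), hsym 4 2, hnn 2 5 (by decide), hsym 5 2, hnn 2 6 (by decide), hsym 6 2, l01, r01, l12, r12, l23, r23, l34, r34, l45, r45, l36, r36, hcon]
    · linarith only [hd 3, hwp 3, hsym 3 0, hnn 0 3 (by decide), hsym 3 1, hnn 1 3 (by decide), hsym 3 2, hnn 2 3 (by decide), hnn 3 4 (by decide), hsym 4 3, hnn 3 5 (by decide), hsym 5 3, hnn 3 6 (by decide), hsym 6 3, l01, r01, l12, r12, l23, r23, l34, r34, l45, r45, l36, r36, hcon]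
    · linarith only [hd 4, hwp 4, hsym 4 0, hnn 0 4 (by decide), hsym 4 1, hnn 1 4 (by decide), hsym 4 2, hnn 2 4 (by decide), hsym 4 3, hnn 3 4 (by decide), hnn 4 5 (by decide), hsym 5 4, hnn 4 6 (by decide), hsym 6 4, l01, r01, l12, r12, l23, r23, l34, r34, l45, r45, l36, r36, hcon]
    · linarith only [hd 6, hwp 6, hsym 6 0, hnn 0 6 (by decide), hsym 6 1, hnn 1 6 (by decide), hsym 6 2, hnn 2 6 (by decide), hsym 6 3, hnn 3 6 (by decide), hsym 6 4, hnn 4 6 (by decide), hsym 6 5, hnn 5 6 (by decide), l01, r01, l12, r12, l23, r23, l34, r34, l45, r45, l36, r36, hcon]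

theorem s23l {n : ℕ} (T : Models.NumericalType n) (hn : 7 < n)
    (v : Fin 7 ↪ Fin n) (hv : ∀ j, T.IsMinusTwo (v j)) (h01 : T.a (v 0) (v 1) ≠ 0) (h12 : T.a (v 1) (v 2) ≠ 0) (h23 : T.a (v 2) (v 3) ≠ 0) (h34 : T.a (v 3) (v 4) ≠ 0) (h45 : T.a (v 4) (v 5) ≠ 0) (h36 : T.a (v 3) (v 6) ≠ 0) :
    T.a (v 2) (v 3) = T.w (v 2) := by
  have hd : ∀ j, T.a (v j) (v j) = -2 * T.w (v j) := fun j => (hv j).2
  have hsym : ∀ i j, T.a (v i) (v j) = T.a (v j) (v i) := fun i j => Groth.Agent.H4.NumType.a_symm T _ _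
  have hnn : ∀ i j, i ≠ j → 0 ≤ T.a (v i) (v j) := fun i j h => T.offDiag_nonneg _ _ (v.injective.ne h)
  have hwp : ∀ j, 0 < T.w (v j) := fun j => T.w_pos _
  have p01 : 0 < T.a (v 0) (v 1) := Groth.Agent.H4.NumType.pos_of_ne T (v.injective.ne (by decide)) h01
  have l01 := Groth.Agent.H4.NumType.w_le_left T p01
  have r01 := Groth.Agent.H4.NumType.w_le_right T p01
  have p12 : 0 < T.a (v 1) (v 2) := Groth.Agent.H4.NumType.pos_of_ne T (v.injective.ne (by decide)) h12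
  have l12 := Groth.Agent.H4.NumType.w_le_left T p12
  have r12 := Groth.Agent.H4.NumType.w_le_right T p12
  have p23 : 0 < T.a (v 2) (v 3) := Groth.Agent.H4.NumType.pos_of_ne T (v.injective.ne (by decide)) h23
  have l23 := Groth.Agent.H4.NumType.w_le_left T p23
  have r23 := Groth.Agent.H4.NumType.w_le_right T p23
  have p34 : 0 < T.a (v 3) (v 4) := Groth.Agent.H4.NumType.pos_of_ne T (v.injective.ne (by decide)) h34
  have l34 := Groth.Agent.H4.NumType.w_le_left T p34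
  have r34 := Groth.Agent.H4.NumType.w_le_right T p34
  have p45 : 0 < T.a (v 4) (v 5) := Groth.Agent.H4.NumType.pos_of_ne T (v.injective.ne (by decide)) h45
  have l45 := Groth.Agent.H4.NumType.w_le_left T p45
  have r45 := Groth.Agent.H4.NumType.w_le_right T p45
  have p36 : 0 < T.a (v 3) (v 6) := Groth.Agent.H4.NumType.pos_of_ne T (v.injective.ne (by decide)) h36
  have l36 := Groth.Agent.H4.NumType.w_le_left T p36
  have r36 := Groth.Agent.H4.NumType.w_le_right T p36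
  rcases Groth.Agent.H4.NumType.eq_or_two_le_left T p23 with h | hcon
  · exact h
  · exfalso
    refine Groth.Agent.H4.NumType.key_emb T v (by omega) ![0, 0, 2, 2, 1, 0, 1] (by decide) ⟨2, by decide⟩ ?_
    intro l hl
    fin_cases l <;> simp [Fin.sum_univ_succ] at hl ⊢
    · linarith only [hd 2, hwp 2, hsym 2 0, hnn 0 2 (by decide), hsym 2 1, hnn 1 2 (by decide), hnn 2 3 (by decide), hsym 3 2, hnn 2 4 (by decide), hsym 4 2, hnn 2 5 (by decide), hsym 5 2, hnn 2 6 (by decide), hsym 6 2, l01, r01, l12, r12, l23, r23, l34, r34, l45, r45, l36, r36, hcon]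
    · linarith only [hd 3, hwp 3, hsym 3 0, hnn 0 3 (by decide), hsym 3 1, hnn 1 3 (by decide), hsym 3 2, hnn 2 3 (by decide), hnn 3 4 (by decide), hsym 4 3, hnn 3 5 (by decide), hsym 5 3, hnn 3 6 (by decide), hsym 6 3, l01, r01, l12, r12, l23, r23, l34, r34, l45, r45, l36, r36, hcon]
    · linarith only [hd 4, hwp 4, hsym 4 0, hnn 0 4 (by decide), hsym 4 1, hnn 1 4 (by decide), hsym 4 2, hnn 2 4 (by decide), hsym 4 3, hnn 3 4 (by decide), hnn 4 5 (by decide), hsym 5 4, hnn 4 6 (by decide), hsym 6 4, l01, r01, l12, r12, l23, r23, l34, r34, l45, r45, l36, r36, hcon]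
    · linarith only [hd 6, hwp 6, hsym 6 0, hnn 0 6 (by decide), hsym 6 1, hnn 1 6 (by decide), hsym 6 2, hnn 2 6 (by decide), hsym 6 3, hnn 3 6 (by decide), hsym 6 4, hnn 4 6 (by decide), hsym 6 5, hnn 5 6 (by decide), l01, r01, l12, r12, l23, r23, l34, r34, l45, r45, l36, r36, hcon]

theorem s23r {n : ℕ} (T : Models.NumericalType n) (hn : 7 < n)
    (v : Fin 7 ↪ Fin n) (hv : ∀ j, T.IsMinusTwo (v j)) (h01 : T.a (v 0) (v 1) ≠ 0) (h12 : T.a (v 1) (v 2) ≠ 0) (h23 : T.a (v 2) (v 3) ≠ 0) (h34 : T.a (v 3) (v 4) ≠ 0) (h45 : T.a (v 4) (v 5) ≠ 0) (h36 : T.a (v 3) (v 6) ≠ 0) :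
    T.a (v 2) (v 3) = T.w (v 3) := by
  have hd : ∀ j, T.a (v j) (v j) = -2 * T.w (v j) := fun j => (hv j).2
  have hsym : ∀ i j, T.a (v i) (v j) = T.a (v j) (v i) := fun i j => Groth.Agent.H4.NumType.a_symm T _ _
  have hnn : ∀ i j, i ≠ j → 0 ≤ T.a (v i) (v j) := fun i j h => T.offDiag_nonneg _ _ (v.injective.ne h)
  have hwp : ∀ j, 0 < T.w (v j) := fun j => T.w_pos _
  have p01 : 0 < T.a (v 0) (v 1) := Groth.Agent.H4.NumType.pos_of_ne T (v.injective.ne (by decide)) h01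
  have l01 := Groth.Agent.H4.NumType.w_le_left T p01
  have r01 := Groth.Agent.H4.NumType.w_le_right T p01
  have p12 : 0 < T.a (v 1) (v 2) := Groth.Agent.H4.NumType.pos_of_ne T (v.injective.ne (by decide)) h12
  have l12 := Groth.Agent.H4.NumType.w_le_left T p12
  have r12 := Groth.Agent.H4.NumType.w_le_right T p12
  have p23 : 0 < T.a (v 2) (v 3) := Groth.Agent.H4.NumType.pos_of_ne T (v.injective.ne (by decide)) h23
  have l23 := Groth.Agent.H4.NumType.w_le_left T p23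
  have r23 := Groth.Agent.H4.NumType.w_le_right T p23
  have p34 : 0 < T.a (v 3) (v 4) := Groth.Agent.H4.NumType.pos_of_ne T (v.injective.ne (by decide)) h34
  have l34 := Groth.Agent.H4.NumType.w_le_left T p34
  have r34 := Groth.Agent.H4.NumType.w_le_right T p34
  have p45 : 0 < T.a (v 4) (v 5) := Groth.Agent.H4.NumType.pos_of_ne T (v.injective.ne (by decide)) h45
  have l45 := Groth.Agent.H4.NumType.w_le_left T p45
  have r45 := Groth.Agent.H4.NumType.w_le_right T p45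
  have p36 : 0 < T.a (v 3) (v 6) := Groth.Agent.H4.NumType.pos_of_ne T (v.injective.ne (by decide)) h36
  have l36 := Groth.Agent.H4.NumType.w_le_left T p36
  have r36 := Groth.Agent.H4.NumType.w_le_right T p36
  rcases Groth.Agent.H4.NumType.eq_or_two_le_right T p23 with h | hcon
  · exact h
  · exfalso
    refine Groth.Agent.H4.NumType.key_emb T v (by omega) ![0, 0, 1, 2, 1, 0, 1] (by decide) ⟨2, by decide⟩ ?_
    intro l hl
    fin_cases l <;> simp [Fin.sum_univ_succ] at hl ⊢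
    · linarith only [hd 2, hwp 2, hsym 2 0, hnn 0 2 (by decide), hsym 2 1, hnn 1 2 (by decide), hnn 2 3 (by decide), hsym 3 2, hnn 2 4 (by decide), hsym 4 2, hnn 2 5 (by decide), hsym 5 2, hnn 2 6 (by decide), hsym 6 2, l01, r01, l12, r12, l23, r23, l34, r34, l45, r45, l36, r36, hcon]
    · linarith only [hd 3, hwp 3, hsym 3 0, hnn 0 3 (by decide), hsym 3 1, hnn 1 3 (by decide), hsym 3 2, hnn 2 3 (by decide), hnn 3 4 (by decide), hsym 4 3, hnn 3 5 (by decide), hsym 5 3, hnn 3 6 (by decide), hsym 6 3, l01, r01, l12, r12, l23, r23, l34, r34, l45, r45, l36, r36, hcon]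
    · linarith only [hd 4, hwp 4, hsym 4 0, hnn 0 4 (by decide), hsym 4 1, hnn 1 4 (by decide), hsym 4 2, hnn 2 4 (by decide), hsym 4 3, hnn 3 4 (by decide), hnn 4 5 (by decide), hsym 5 4, hnn 4 6 (by decide), hsym 6 4, l01, r01, l12, r12, l23, r23, l34, r34, l45, r45, l36, r36, hcon]
    · linarith only [hd 6, hwp 6, hsym 6 0, hnn 0 6 (by decide), hsym 6 1, hnn 1 6 (by decide), hsym 6 2, hnn 2 6 (by decide), hsym 6 3, hnn 3 6 (by decide), hsym 6 4, hnn 4 6 (by decide), hsym 6 5, hnn 5 6 (by decide), l01, r01, l12, r12, l23, r23, l34, r34, l45, r45, l36, r36, hcon]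

theorem s34l {n : ℕ} (T : Models.NumericalType n) (hn : 7 < n)
    (v : Fin 7 ↪ Fin n) (hv : ∀ j, T.IsMinusTwo (v j)) (h01 : T.a (v 0) (v 1) ≠ 0) (h12 : T.a (v 1) (v 2) ≠ 0) (h23 : T.a (v 2) (v 3) ≠ 0) (h34 : T.a (v 3) (v 4) ≠ 0) (h45 : T.a (v 4) (v 5) ≠ 0) (h36 : T.a (v 3) (v 6) ≠ 0) :
    T.a (v 3) (v 4) = T.w (v 3) := by
  have hd : ∀ j, T.a (v j) (v j) = -2 * T.w (v j) := fun j => (hv j).2
  have hsym : ∀ i j, T.a (v i) (v j) = T.a (v j) (v i) := fun i j => Groth.Agent.H4.NumType.a_symm T _ _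
  have hnn : ∀ i j, i ≠ j → 0 ≤ T.a (v i) (v j) := fun i j h => T.offDiag_nonneg _ _ (v.injective.ne h)
  have hwp : ∀ j, 0 < T.w (v j) := fun j => T.w_pos _
  have p01 : 0 < T.a (v 0) (v 1) := Groth.Agent.H4.NumType.pos_of_ne T (v.injective.ne (by decide)) h01
  have l01 := Groth.Agent.H4.NumType.w_le_left T p01
  have r01 := Groth.Agent.H4.NumType.w_le_right T p01
  have p12 : 0 < T.a (v 1) (v 2) := Groth.Agent.H4.NumType.pos_of_ne T (v.injective.ne (by decide)) h12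
  have l12 := Groth.Agent.H4.NumType.w_le_left T p12
  have r12 := Groth.Agent.H4.NumType.w_le_right T p12
  have p23 : 0 < T.a (v 2) (v 3) := Groth.Agent.H4.NumType.pos_of_ne T (v.injective.ne (by decide)) h23
  have l23 := Groth.Agent.H4.NumType.w_le_left T p23
  have r23 := Groth.Agent.H4.NumType.w_le_right T p23
  have p34 : 0 < T.a (v 3) (v 4) := Groth.Agent.H4.NumType.pos_of_ne T (v.injective.ne (by decide)) h34
  have l34 := Groth.Agent.H4.NumType.w_le_left T p34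
  have r34 := Groth.Agent.H4.NumType.w_le_right T p34
  have p45 : 0 < T.a (v 4) (v 5) := Groth.Agent.H4.NumType.pos_of_ne T (v.injective.ne (by decide)) h45
  have l45 := Groth.Agent.H4.NumType.w_le_left T p45
  have r45 := Groth.Agent.H4.NumType.w_le_right T p45
  have p36 : 0 < T.a (v 3) (v 6) := Groth.Agent.H4.NumType.pos_of_ne T (v.injective.ne (by decide)) h36
  have l36 := Groth.Agent.H4.NumType.w_le_left T p36
  have r36 := Groth.Agent.H4.NumType.w_le_right T p36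
  rcases Groth.Agent.H4.NumType.eq_or_two_le_left T p34 with h | hcon
  · exact h
  · exfalso
    refine Groth.Agent.H4.NumType.key_emb T v (by omega) ![0, 0, 1, 2, 1, 0, 1] (by decide) ⟨2, by decide⟩ ?_
    intro l hl
    fin_cases l <;> simp [Fin.sum_univ_succ] at hl ⊢
    · linarith only [hd 2, hwp 2, hsym 2 0, hnn 0 2 (by decide), hsym 2 1, hnn 1 2 (by decide), hnn 2 3 (by decide), hsym 3 2, hnn 2 4 (by decide), hsym 4 2, hnn 2 5 (by decide), hsym 5 2, hnn 2 6 (by decide), hsym 6 2, l01, r01, l12, r12, l23, r23, l34, r34, l45, r45, l36, r36, hcon]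
    · linarith only [hd 3, hwp 3, hsym 3 0, hnn 0 3 (by decide), hsym 3 1, hnn 1 3 (by decide), hsym 3 2, hnn 2 3 (by decide), hnn 3 4 (by decide), hsym 4 3, hnn 3 5 (by decide), hsym 5 3, hnn 3 6 (by decide), hsym 6 3, l01, r01, l12, r12, l23, r23, l34, r34, l45, r45, l36, r36, hcon]
    · linarith only [hd 4, hwp 4, hsym 4 0, hnn 0 4 (by decide), hsym 4 1, hnn 1 4 (by decide), hsym 4 2, hnn 2 4 (by decide), hsym 4 3, hnn 3 4 (by decide), hnn 4 5 (by decide), hsym 5 4, hnn 4 6 (by decide), hsym 6 4, l01, r01, l12, r12, l23, r23, l34, r34, l45, r45, l36, r36, hcon]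
    · linarith only [hd 6, hwp 6, hsym 6 0, hnn 0 6 (by decide), hsym 6 1, hnn 1 6 (by decide), hsym 6 2, hnn 2 6 (by decide), hsym 6 3, hnn 3 6 (by decide), hsym 6 4, hnn 4 6 (by decide), hsym 6 5, hnn 5 6 (by decide), l01, r01, l12, r12, l23, r23, l34, r34, l45, r45, l36, r36, hcon]

theorem s34r {n : ℕ} (T : Models.NumericalType n) (hn : 7 < n)
    (v : Fin 7 ↪ Fin n) (hv : ∀ j, T.IsMinusTwo (v j)) (h01 : T.a (v 0) (v 1) ≠ 0) (h12 : T.a (v 1) (v 2) ≠ 0) (h23 : T.a (v 2) (v 3) ≠ 0) (h34 : T.a (v 3) (v 4) ≠ 0) (h45 : T.a (v 4) (v 5) ≠ 0) (h36 : T.a (v 3) (v 6) ≠ 0) :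
    T.a (v 3) (v 4) = T.w (v 4) := by
  have hd : ∀ j, T.a (v j) (v j) = -2 * T.w (v j) := fun j => (hv j).2
  have hsym : ∀ i j, T.a (v i) (v j) = T.a (v j) (v i) := fun i j => Groth.Agent.H4.NumType.a_symm T _ _
  have hnn : ∀ i j, i ≠ j → 0 ≤ T.a (v i) (v j) := fun i j h => T.offDiag_nonneg _ _ (v.injective.ne h)
  have hwp : ∀ j, 0 < T.w (v j) := fun j => T.w_pos _
  have p01 : 0 < T.a (v 0) (v 1) := Groth.Agent.H4.NumType.pos_of_ne T (v.injective.ne (by decide)) h01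
  have l01 := Groth.Agent.H4.NumType.w_le_left T p01
  have r01 := Groth.Agent.H4.NumType.w_le_right T p01
  have p12 : 0 < T.a (v 1) (v 2) := Groth.Agent.H4.NumType.pos_of_ne T (v.injective.ne (by decide)) h12
  have l12 := Groth.Agent.H4.NumType.w_le_left T p12
  have r12 := Groth.Agent.H4.NumType.w_le_right T p12
  have p23 : 0 < T.a (v 2) (v 3) := Groth.Agent.H4.NumType.pos_of_ne T (v.injective.ne (by decide)) h23
  have l23 := Groth.Agent.H4.NumType.w_le_left T p23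
  have r23 := Groth.Agent.H4.NumType.w_le_right T p23
  have p34 : 0 < T.a (v 3) (v 4) := Groth.Agent.H4.NumType.pos_of_ne T (v.injective.ne (by decide)) h34
  have l34 := Groth.Agent.H4.NumType.w_le_left T p34
  have r34 := Groth.Agent.H4.NumType.w_le_right T p34
  have p45 : 0 < T.a (v 4) (v 5) := Groth.Agent.H4.NumType.pos_of_ne T (v.injective.ne (by decide)) h45
  have l45 := Groth.Agent.H4.NumType.w_le_left T p45
  have r45 := Groth.Agent.H4.NumType.w_le_right T p45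
  have p36 : 0 < T.a (v 3) (v 6) := Groth.Agent.H4.NumType.pos_of_ne T (v.injective.ne (by decide)) h36
  have l36 := Groth.Agent.H4.NumType.w_le_left T p36
  have r36 := Groth.Agent.H4.NumType.w_le_right T p36
  rcases Groth.Agent.H4.NumType.eq_or_two_le_right T p34 with h | hcon
  · exact h
  · exfalso
    refine Groth.Agent.H4.NumType.key_emb T v (by omega) ![0, 0, 1, 2, 2, 0, 1] (by decide) ⟨2, by decide⟩ ?_
    intro l hl
    fin_cases l <;> simp [Fin.sum_univ_succ] at hl ⊢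
    · linarith only [hd 2, hwp 2, hsym 2 0, hnn 0 2 (by decide), hsym 2 1, hnn 1 2 (by decide), hnn 2 3 (by decide), hsym 3 2, hnn 2 4 (by decide), hsym 4 2, hnn 2 5 (by decide), hsym 5 2, hnn 2 6 (by decide), hsym 6 2, l01, r01, l12, r12, l23, r23, l34, r34, l45, r45, l36, r36, hcon]
    · linarith only [hd 3, hwp 3, hsym 3 0, hnn 0 3 (by decide), hsym 3 1, hnn 1 3 (by decide), hsym 3 2, hnn 2 3 (by decide), hnn 3 4 (by decide), hsym 4 3, hnn 3 5 (by decide), hsym 5 3, hnn 3 6 (by decide), hsym 6 3, l01, r01, l12, r12, l23, r23, l34, r34, l45, r45, l36, r36, hcon]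
    · linarith only [hd 4, hwp 4, hsym 4 0, hnn 0 4 (by decide), hsym 4 1, hnn 1 4 (by decide), hsym 4 2, hnn 2 4 (by decide), hsym 4 3, hnn 3 4 (by decide), hnn 4 5 (by decide), hsym 5 4, hnn 4 6 (by decide), hsym 6 4, l01, r01, l12, r12, l23, r23, l34, r34, l45, r45, l36, r36, hcon]
    · linarith only [hd 6, hwp 6, hsym 6 0, hnn 0 6 (by decide), hsym 6 1, hnn 1 6 (by decide), hsym 6 2, hnn 2 6 (by decide), hsym 6 3, hnn 3 6 (by decide), hsym 6 4, hnn 4 6 (by decide), hsym 6 5, hnn 5 6 (by decide), l01, r01, l12, r12, l23, r23, l34, r34, l45, r45, l36, r36, hcon]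

theorem s45l {n : ℕ} (T : Models.NumericalType n) (hn : 7 < n)
    (v : Fin 7 ↪ Fin n) (hv : ∀ j, T.IsMinusTwo (v j)) (h01 : T.a (v 0) (v 1) ≠ 0) (h12 : T.a (v 1) (v 2) ≠ 0) (h23 : T.a (v 2) (v 3) ≠ 0) (h34 : T.a (v 3) (v 4) ≠ 0) (h45 : T.a (v 4) (v 5) ≠ 0) (h36 : T.a (v 3) (v 6) ≠ 0) :
    T.a (v 4) (v 5) = T.w (v 4) := by
  have hd : ∀ j, T.a (v j) (v j) = -2 * T.w (v j) := fun j => (hv j).2
  have hsym : ∀ i j, T.a (v i) (v j) = T.a (v j) (v i) := fun i j => Groth.Agent.H4.NumType.a_symm T _ _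
  have hnn : ∀ i j, i ≠ j → 0 ≤ T.a (v i) (v j) := fun i j h => T.offDiag_nonneg _ _ (v.injective.ne h)
  have hwp : ∀ j, 0 < T.w (v j) := fun j => T.w_pos _
  have p01 : 0 < T.a (v 0) (v 1) := Groth.Agent.H4.NumType.pos_of_ne T (v.injective.ne (by decide)) h01
  have l01 := Groth.Agent.H4.NumType.w_le_left T p01
  have r01 := Groth.Agent.H4.NumType.w_le_right T p01
  have p12 : 0 < T.a (v 1) (v 2) := Groth.Agent.H4.NumType.pos_of_ne T (v.injective.ne (by decide)) h12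
  have l12 := Groth.Agent.H4.NumType.w_le_left T p12
  have r12 := Groth.Agent.H4.NumType.w_le_right T p12
  have p23 : 0 < T.a (v 2) (v 3) := Groth.Agent.H4.NumType.pos_of_ne T (v.injective.ne (by decide)) h23
  have l23 := Groth.Agent.H4.NumType.w_le_left T p23
  have r23 := Groth.Agent.H4.NumType.w_le_right T p23
  have p34 : 0 < T.a (v 3) (v 4) := Groth.Agent.H4.NumType.pos_of_ne T (v.injective.ne (by decide)) h34
  have l34 := Groth.Agent.H4.NumType.w_le_left T p34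
  have r34 := Groth.Agent.H4.NumType.w_le_right T p34
  have p45 : 0 < T.a (v 4) (v 5) := Groth.Agent.H4.NumType.pos_of_ne T (v.injective.ne (by decide)) h45
  have l45 := Groth.Agent.H4.NumType.w_le_left T p45
  have r45 := Groth.Agent.H4.NumType.w_le_right T p45
  have p36 : 0 < T.a (v 3) (v 6) := Groth.Agent.H4.NumType.pos_of_ne T (v.injective.ne (by decide)) h36
  have l36 := Groth.Agent.H4.NumType.w_le_left T p36
  have r36 := Groth.Agent.H4.NumType.w_le_right T p36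
  rcases Groth.Agent.H4.NumType.eq_or_two_le_left T p45 with h | hcon
  · exact h
  · exfalso
    refine Groth.Agent.H4.NumType.key_emb T v (by omega) ![0, 0, 1, 2, 2, 1, 1] (by decide) ⟨2, by decide⟩ ?_
    intro l hl
    fin_cases l <;> simp [Fin.sum_univ_succ] at hl ⊢
    · linarith only [hd 2, hwp 2, hsym 2 0, hnn 0 2 (by decide), hsym 2 1, hnn 1 2 (by decide), hnn 2 3 (by decide), hsym 3 2, hnn 2 4 (by decide), hsym 4 2, hnn 2 5 (by decide), hsym 5 2, hnn 2 6 (by decide), hsym 6 2, l01, r01, l12, r12, l23, r23, l34, r34, l45, r45, l36, r36, hcon]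
    · linarith only [hd 3, hwp 3, hsym 3 0, hnn 0 3 (by decide), hsym 3 1, hnn 1 3 (by decide), hsym 3 2, hnn 2 3 (by decide), hnn 3 4 (by decide), hsym 4 3, hnn 3 5 (by decide), hsym 5 3, hnn 3 6 (by decide), hsym 6 3, l01, r01, l12, r12, l23, r23, l34, r34, l45, r45, l36, r36, hcon]
    · linarith only [hd 4, hwp 4, hsym 4 0, hnn 0 4 (by decide), hsym 4 1, hnn 1 4 (by decide), hsym 4 2, hnn 2 4 (by decide), hsym 4 3, hnn 3 4 (by decide), hnn 4 5 (by decide), hsym 5 4, hnn 4 6 (by decide), hsym 6 4, l01, r01, l12, r12, l23, r23, l34, r34, l45, r45, l36, r36, hcon]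
    · linarith only [hd 5, hwp 5, hsym 5 0, hnn 0 5 (by decide), hsym 5 1, hnn 1 5 (by decide), hsym 5 2, hnn 2 5 (by decide), hsym 5 3, hnn 3 5 (by decide), hsym 5 4, hnn 4 5 (by decide), hnn 5 6 (by decide), hsym 6 5, l01, r01, l12, r12, l23, r23, l34, r34, l45, r45, l36, r36, hcon]
    · linarith only [hd 6, hwp 6, hsym 6 0, hnn 0 6 (by decide), hsym 6 1, hnn 1 6 (by decide), hsym 6 2, hnn 2 6 (by decide), hsym 6 3, hnn 3 6 (by decide), hsym 6 4, hnn 4 6 (by decide), hsym 6 5, hnn 5 6 (by decide), l01, r01, l12, r12, l23, r23, l34, r34, l45, r45, l36, r36, hcon]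

theorem s45r {n : ℕ} (T : Models.NumericalType n) (hn : 7 < n)
    (v : Fin 7 ↪ Fin n) (hv : ∀ j, T.IsMinusTwo (v j)) (h01 : T.a (v 0) (v 1) ≠ 0) (h12 : T.a (v 1) (v 2) ≠ 0) (h23 : T.a (v 2) (v 3) ≠ 0) (h34 : T.a (v 3) (v 4) ≠ 0) (h45 : T.a (v 4) (v 5) ≠ 0) (h36 : T.a (v 3) (v 6) ≠ 0) :
    T.a (v 4) (v 5) = T.w (v 5) := by
  have hd : ∀ j, T.a (v j) (v j) = -2 * T.w (v j) := fun j => (hv j).2
  have hsym : ∀ i j, T.a (v i) (v j) = T.a (v j) (v i) := fun i j => Groth.Agent.H4.NumType.a_symm T _ _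
  have hnn : ∀ i j, i ≠ j → 0 ≤ T.a (v i) (v j) := fun i j h => T.offDiag_nonneg _ _ (v.injective.ne h)
  have hwp : ∀ j, 0 < T.w (v j) := fun j => T.w_pos _
  have p01 : 0 < T.a (v 0) (v 1) := Groth.Agent.H4.NumType.pos_of_ne T (v.injective.ne (by decide)) h01
  have l01 := Groth.Agent.H4.NumType.w_le_left T p01
  have r01 := Groth.Agent.H4.NumType.w_le_right T p01
  have p12 : 0 < T.a (v 1) (v 2) := Groth.Agent.H4.NumType.pos_of_ne T (v.injective.ne (by decide)) h12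
  have l12 := Groth.Agent.H4.NumType.w_le_left T p12
  have r12 := Groth.Agent.H4.NumType.w_le_right T p12
  have p23 : 0 < T.a (v 2) (v 3) := Groth.Agent.H4.NumType.pos_of_ne T (v.injective.ne (by decide)) h23
  have l23 := Groth.Agent.H4.NumType.w_le_left T p23
  have r23 := Groth.Agent.H4.NumType.w_le_right T p23
  have p34 : 0 < T.a (v 3) (v 4) := Groth.Agent.H4.NumType.pos_of_ne T (v.injective.ne (by decide)) h34
  have l34 := Groth.Agent.H4.NumType.w_le_left T p34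
  have r34 := Groth.Agent.H4.NumType.w_le_right T p34
  have p45 : 0 < T.a (v 4) (v 5) := Groth.Agent.H4.NumType.pos_of_ne T (v.injective.ne (by decide)) h45
  have l45 := Groth.Agent.H4.NumType.w_le_left T p45
  have r45 := Groth.Agent.H4.NumType.w_le_right T p45
  have p36 : 0 < T.a (v 3) (v 6) := Groth.Agent.H4.NumType.pos_of_ne T (v.injective.ne (by decide)) h36
  have l36 := Groth.Agent.H4.NumType.w_le_left T p36
  have r36 := Groth.Agent.H4.NumType.w_le_right T p36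
  rcases Groth.Agent.H4.NumType.eq_or_two_le_right T p45 with h | hcon
  · exact h
  · exfalso
    refine Groth.Agent.H4.NumType.key_emb T v (by omega) ![0, 0, 1, 2, 2, 2, 1] (by decide) ⟨2, by decide⟩ ?_
    intro l hl
    fin_cases l <;> simp [Fin.sum_univ_succ] at hl ⊢
    · linarith only [hd 2, hwp 2, hsym 2 0, hnn 0 2 (by decide), hsym 2 1, hnn 1 2 (by decide), hnn 2 3 (by decide), hsym 3 2, hnn 2 4 (by decide), hsym 4 2, hnn 2 5 (by decide), hsym 5 2, hnn 2 6 (by decide), hsym 6 2, l01, r01, l12, r12, l23, r23, l34, r34, l45, r45, l36, r36, hcon]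
    · linarith only [hd 3, hwp 3, hsym 3 0, hnn 0 3 (by decide), hsym 3 1, hnn 1 3 (by decide), hsym 3 2, hnn 2 3 (by decide), hnn 3 4 (by decide), hsym 4 3, hnn 3 5 (by decide), hsym 5 3, hnn 3 6 (by decide), hsym 6 3, l01, r01, l12, r12, l23, r23, l34, r34, l45, r45, l36, r36, hcon]
    · linarith only [hd 4, hwp 4, hsym 4 0, hnn 0 4 (by decide), hsym 4 1, hnn 1 4 (by decide), hsym 4 2, hnn 2 4 (by decide), hsym 4 3, hnn 3 4 (by decide), hnn 4 5 (by decide), hsym 5 4, hnn 4 6 (by decide), hsym 6 4, l01, r01, l12, r12, l23, r23, l34, r34, l45, r45, l36, r36, hcon]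
    · linarith only [hd 5, hwp 5, hsym 5 0, hnn 0 5 (by decide), hsym 5 1, hnn 1 5 (by decide), hsym 5 2, hnn 2 5 (by decide), hsym 5 3, hnn 3 5 (by decide), hsym 5 4, hnn 4 5 (by decide), hnn 5 6 (by decide), hsym 6 5, l01, r01, l12, r12, l23, r23, l34, r34, l45, r45, l36, r36, hcon]
    · linarith only [hd 6, hwp 6, hsym 6 0, hnn 0 6 (by decide), hsym 6 1, hnn 1 6 (by decide), hsym 6 2, hnn 2 6 (by decide), hsym 6 3, hnn 3 6 (by decide), hsym 6 4, hnn 4 6 (by decide), hsym 6 5, hnn 5 6 (by decide), l01, r01, l12, r12, l23, r23, l34, r34, l45, r45, l36, r36, hcon]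

theorem s36l {n : ℕ} (T : Models.NumericalType n) (hn : 7 < n)
    (v : Fin 7 ↪ Fin n) (hv : ∀ j, T.IsMinusTwo (v j)) (h01 : T.a (v 0) (v 1) ≠ 0) (h12 : T.a (v 1) (v 2) ≠ 0) (h23 : T.a (v 2) (v 3) ≠ 0) (h34 : T.a (v 3) (v 4) ≠ 0) (h45 : T.a (v 4) (v 5) ≠ 0) (h36 : T.a (v 3) (v 6) ≠ 0) :
    T.a (v 3) (v 6) = T.w (v 3) := by
  have hd : ∀ j, T.a (v j) (v j) = -2 * T.w (v j) := fun j => (hv j).2
  have hsym : ∀ i j, T.a (v i) (v j) = T.a (v j) (v i) := fun i j => Groth.Agent.H4.NumType.a_symm T _ _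
  have hnn : ∀ i j, i ≠ j → 0 ≤ T.a (v i) (v j) := fun i j h => T.offDiag_nonneg _ _ (v.injective.ne h)
  have hwp : ∀ j, 0 < T.w (v j) := fun j => T.w_pos _
  have p01 : 0 < T.a (v 0) (v 1) := Groth.Agent.H4.NumType.pos_of_ne T (v.injective.ne (by decide)) h01
  have l01 := Groth.Agent.H4.NumType.w_le_left T p01
  have r01 := Groth.Agent.H4.NumType.w_le_right T p01
  have p12 : 0 < T.a (v 1) (v 2) := Groth.Agent.H4.NumType.pos_of_ne T (v.injective.ne (by decide)) h12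
  have l12 := Groth.Agent.H4.NumType.w_le_left T p12
  have r12 := Groth.Agent.H4.NumType.w_le_right T p12
  have p23 : 0 < T.a (v 2) (v 3) := Groth.Agent.H4.NumType.pos_of_ne T (v.injective.ne (by decide)) h23
  have l23 := Groth.Agent.H4.NumType.w_le_left T p23
  have r23 := Groth.Agent.H4.NumType.w_le_right T p23
  have p34 : 0 < T.a (v 3) (v 4) := Groth.Agent.H4.NumType.pos_of_ne T (v.injective.ne (by decide)) h34
  have l34 := Groth.Agent.H4.NumType.w_le_left T p34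
  have r34 := Groth.Agent.H4.NumType.w_le_right T p34
  have p45 : 0 < T.a (v 4) (v 5) := Groth.Agent.H4.NumType.pos_of_ne T (v.injective.ne (by decide)) h45
  have l45 := Groth.Agent.H4.NumType.w_le_left T p45
  have r45 := Groth.Agent.H4.NumType.w_le_right T p45
  have p36 : 0 < T.a (v 3) (v 6) := Groth.Agent.H4.NumType.pos_of_ne T (v.injective.ne (by decide)) h36
  have l36 := Groth.Agent.H4.NumType.w_le_left T p36
  have r36 := Groth.Agent.H4.NumType.w_le_right T p36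
  rcases Groth.Agent.H4.NumType.eq_or_two_le_left T p36 with h | hcon
  · exact h
  · exfalso
    refine Groth.Agent.H4.NumType.key_emb T v (by omega) ![0, 0, 1, 2, 1, 0, 1] (by decide) ⟨2, by decide⟩ ?_
    intro l hl
    fin_cases l <;> simp [Fin.sum_univ_succ] at hl ⊢
    · linarith only [hd 2, hwp 2, hsym 2 0, hnn 0 2 (by decide), hsym 2 1, hnn 1 2 (by decide), hnn 2 3 (by decide), hsym 3 2, hnn 2 4 (by decide), hsym 4 2, hnn 2 5 (by decide), hsym 5 2, hnn 2 6 (by decide), hsym 6 2, l01, r01, l12, r12, l23, r23, l34, r34, l45, r45, l36, r36, hcon]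
    · linarith only [hd 3, hwp 3, hsym 3 0, hnn 0 3 (by decide), hsym 3 1, hnn 1 3 (by decide), hsym 3 2, hnn 2 3 (by decide), hnn 3 4 (by decide), hsym 4 3, hnn 3 5 (by decide), hsym 5 3, hnn 3 6 (by decide), hsym 6 3, l01, r01, l12, r12, l23, r23, l34, r34, l45, r45, l36, r36, hcon]
    · linarith only [hd 4, hwp 4, hsym 4 0, hnn 0 4 (by decide), hsym 4 1, hnn 1 4 (by decide), hsym 4 2, hnn 2 4 (by decide), hsym 4 3, hnn 3 4 (by decide), hnn 4 5 (by decide), hsym 5 4, hnn 4 6 (by decide), hsym 6 4, l01, r01, l12, r12, l23, r23, l34, r34, l45, r45, l36, r36, hcon]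
    · linarith only [hd 6, hwp 6, hsym 6 0, hnn 0 6 (by decide), hsym 6 1, hnn 1 6 (by decide), hsym 6 2, hnn 2 6 (by decide), hsym 6 3, hnn 3 6 (by decide), hsym 6 4, hnn 4 6 (by decide), hsym 6 5, hnn 5 6 (by decide), l01, r01, l12, r12, l23, r23, l34, r34, l45, r45, l36, r36, hcon]

theorem s36r {n : ℕ} (T : Models.NumericalType n) (hn : 7 < n)
    (v : Fin 7 ↪ Fin n) (hv : ∀ j, T.IsMinusTwo (v j)) (h01 : T.a (v 0) (v 1) ≠ 0) (h12 : T.a (v 1) (v 2) ≠ 0) (h23 : T.a (v 2) (v 3) ≠ 0) (h34 : T.a (v 3) (v 4) ≠ 0) (h45 : T.a (v 4) (v 5) ≠ 0) (h36 : T.a (v 3) (v 6) ≠ 0) :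
    T.a (v 3) (v 6) = T.w (v 6) := by
  have hd : ∀ j, T.a (v j) (v j) = -2 * T.w (v j) := fun j => (hv j).2
  have hsym : ∀ i j, T.a (v i) (v j) = T.a (v j) (v i) := fun i j => Groth.Agent.H4.NumType.a_symm T _ _
  have hnn : ∀ i j, i ≠ j → 0 ≤ T.a (v i) (v j) := fun i j h => T.offDiag_nonneg _ _ (v.injective.ne h)
  have hwp : ∀ j, 0 < T.w (v j) := fun j => T.w_pos _
  have p01 : 0 < T.a (v 0) (v 1) := Groth.Agent.H4.NumType.pos_of_ne T (v.injective.ne (by decide)) h01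
  have l01 := Groth.Agent.H4.NumType.w_le_left T p01
  have r01 := Groth.Agent.H4.NumType.w_le_right T p01
  have p12 : 0 < T.a (v 1) (v 2) := Groth.Agent.H4.NumType.pos_of_ne T (v.injective.ne (by decide)) h12
  have l12 := Groth.Agent.H4.NumType.w_le_left T p12
  have r12 := Groth.Agent.H4.NumType.w_le_right T p12
  have p23 : 0 < T.a (v 2) (v 3) := Groth.Agent.H4.NumType.pos_of_ne T (v.injective.ne (by decide)) h23
  have l23 := Groth.Agent.H4.NumType.w_le_left T p23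
  have r23 := Groth.Agent.H4.NumType.w_le_right T p23
  have p34 : 0 < T.a (v 3) (v 4) := Groth.Agent.H4.NumType.pos_of_ne T (v.injective.ne (by decide)) h34
  have l34 := Groth.Agent.H4.NumType.w_le_left T p34
  have r34 := Groth.Agent.H4.NumType.w_le_right T p34
  have p45 : 0 < T.a (v 4) (v 5) := Groth.Agent.H4.NumType.pos_of_ne T (v.injective.ne (by decide)) h45
  have l45 := Groth.Agent.H4.NumType.w_le_left T p45
  have r45 := Groth.Agent.H4.NumType.w_le_right T p45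
  have p36 : 0 < T.a (v 3) (v 6) := Groth.Agent.H4.NumType.pos_of_ne T (v.injective.ne (by decide)) h36
  have l36 := Groth.Agent.H4.NumType.w_le_left T p36
  have r36 := Groth.Agent.H4.NumType.w_le_right T p36
  rcases Groth.Agent.H4.NumType.eq_or_two_le_right T p36 with h | hcon
  · exact h
  · exfalso
    refine Groth.Agent.H4.NumType.key_emb T v (by omega) ![0, 0, 1, 2, 1, 0, 2] (by decide) ⟨2, by decide⟩ ?_
    intro l hl
    fin_cases l <;> simp [Fin.sum_univ_succ] at hl ⊢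
    · linarith only [hd 2, hwp 2, hsym 2 0, hnn 0 2 (by decide), hsym 2 1, hnn 1 2 (by decide), hnn 2 3 (by decide), hsym 3 2, hnn 2 4 (by decide), hsym 4 2, hnn 2 5 (by decide), hsym 5 2, hnn 2 6 (by decide), hsym 6 2, l01, r01, l12, r12, l23, r23, l34, r34, l45, r45, l36, r36, hcon]
    · linarith only [hd 3, hwp 3, hsym 3 0, hnn 0 3 (by decide), hsym 3 1, hnn 1 3 (by decide), hsym 3 2, hnn 2 3 (by decide), hnn 3 4 (by decide), hsym 4 3, hnn 3 5 (by decide), hsym 5 3, hnn 3 6 (by decide), hsym 6 3, l01, r01, l12, r12, l23, r23, l34, r34, l45, r45, l36, r36, hcon]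
    · linarith only [hd 4, hwp 4, hsym 4 0, hnn 0 4 (by decide), hsym 4 1, hnn 1 4 (by decide), hsym 4 2, hnn 2 4 (by decide), hsym 4 3, hnn 3 4 (by decide), hnn 4 5 (by decide), hsym 5 4, hnn 4 6 (by decide), hsym 6 4, l01, r01, l12, r12, l23, r23, l34, r34, l45, r45, l36, r36, hcon]
    · linarith only [hd 6, hwp 6, hsym 6 0, hnn 0 6 (by decide), hsym 6 1, hnn 1 6 (by decide), hsym 6 2, hnn 2 6 (by decide), hsym 6 3, hnn 3 6 (by decide), hsym 6 4, hnn 4 6 (by decide), hsym 6 5, hnn 5 6 (by decide), l01, r01, l12, r12, l23, r23, l34, r34, l45, r45, l36, r36, hcon]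

theorem z02 {n : ℕ} (T : Models.NumericalType n) (hn : 7 < n)
    (v : Fin 7 ↪ Fin n) (hv : ∀ j, T.IsMinusTwo (v j)) (h01 : T.a (v 0) (v 1) ≠ 0) (h12 : T.a (v 1) (v 2) ≠ 0) (h23 : T.a (v 2) (v 3) ≠ 0) (h34 : T.a (v 3) (v 4) ≠ 0) (h45 : T.a (v 4) (v 5) ≠ 0) (h36 : T.a (v 3) (v 6) ≠ 0) :
    T.a (v 0) (v 2) = 0 := by
  have hd : ∀ j, T.a (v j) (v j) = -2 * T.w (v j) := fun j => (hv j).2
  have hsym : ∀ i j, T.a (v i) (v j) = T.a (v j) (v i) := fun i j => Groth.Agent.H4.NumType.a_symm T _ _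
  have hnn : ∀ i j, i ≠ j → 0 ≤ T.a (v i) (v j) := fun i j h => T.offDiag_nonneg _ _ (v.injective.ne h)
  have hwp : ∀ j, 0 < T.w (v j) := fun j => T.w_pos _
  have p01 : 0 < T.a (v 0) (v 1) := Groth.Agent.H4.NumType.pos_of_ne T (v.injective.ne (by decide)) h01
  have l01 := Groth.Agent.H4.NumType.w_le_left T p01
  have r01 := Groth.Agent.H4.NumType.w_le_right T p01
  have p12 : 0 < T.a (v 1) (v 2) := Groth.Agent.H4.NumType.pos_of_ne T (v.injective.ne (by decide)) h12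
  have l12 := Groth.Agent.H4.NumType.w_le_left T p12
  have r12 := Groth.Agent.H4.NumType.w_le_right T p12
  have p23 : 0 < T.a (v 2) (v 3) := Groth.Agent.H4.NumType.pos_of_ne T (v.injective.ne (by decide)) h23
  have l23 := Groth.Agent.H4.NumType.w_le_left T p23
  have r23 := Groth.Agent.H4.NumType.w_le_right T p23
  have p34 : 0 < T.a (v 3) (v 4) := Groth.Agent.H4.NumType.pos_of_ne T (v.injective.ne (by decide)) h34
  have l34 := Groth.Agent.H4.NumType.w_le_left T p34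
  have r34 := Groth.Agent.H4.NumType.w_le_right T p34
  have p45 : 0 < T.a (v 4) (v 5) := Groth.Agent.H4.NumType.pos_of_ne T (v.injective.ne (by decide)) h45
  have l45 := Groth.Agent.H4.NumType.w_le_left T p45
  have r45 := Groth.Agent.H4.NumType.w_le_right T p45
  have p36 : 0 < T.a (v 3) (v 6) := Groth.Agent.H4.NumType.pos_of_ne T (v.injective.ne (by decide)) h36
  have l36 := Groth.Agent.H4.NumType.w_le_left T p36
  have r36 := Groth.Agent.H4.NumType.w_le_right T p36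
  by_contra hne
  have pz := Groth.Agent.H4.NumType.pos_of_ne T (v.injective.ne (show (0 : Fin 7) ≠ 2 by decide)) hne
  have lz := Groth.Agent.H4.NumType.w_le_left T pz
  have rz := Groth.Agent.H4.NumType.w_le_right T pz
  refine Groth.Agent.H4.NumType.key_emb T v (by omega) ![1, 1, 1, 0, 0, 0, 0] (by decide) ⟨0, by decide⟩ ?_
  intro l hl
  fin_cases l <;> simp [Fin.sum_univ_succ] at hl ⊢
  · linarith only [hd 0, hwp 0, hnn 0 1 (by decide), hsym 1 0, hnn 0 2 (by decide), hsym 2 0, hnn 0 3 (by decide), hsym 3 0, hnn 0 4 (by decide), hsym 4 0, hnn 0 5 (by decide), hsym 5 0, hnn 0 6 (by decide), hsym 6 0, l01, r01, l12, r12, l23, r23, l34, r34, l45, r45, l36, r36, lz, rz]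
  · linarith only [hd 1, hwp 1, hsym 1 0, hnn 0 1 (by decide), hnn 1 2 (by decide), hsym 2 1, hnn 1 3 (by decide), hsym 3 1, hnn 1 4 (by decide), hsym 4 1, hnn 1 5 (by decide), hsym 5 1, hnn 1 6 (by decide), hsym 6 1, l01, r01, l12, r12, l23, r23, l34, r34, l45, r45, l36, r36, lz, rz]
  · linarith only [hd 2, hwp 2, hsym 2 0, hnn 0 2 (by decide), hsym 2 1, hnn 1 2 (by decide), hnn 2 3 (by decide), hsym 3 2, hnn 2 4 (by decide), hsym 4 2, hnn 2 5 (by decide), hsym 5 2, hnn 2 6 (by decide), hsym 6 2, l01, r01, l12, r12, l23, r23, l34, r34, l45, r45, l36, r36, lz, rz]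

theorem z03 {n : ℕ} (T : Models.NumericalType n) (hn : 7 < n)
    (v : Fin 7 ↪ Fin n) (hv : ∀ j, T.IsMinusTwo (v j)) (h01 : T.a (v 0) (v 1) ≠ 0) (h12 : T.a (v 1) (v 2) ≠ 0) (h23 : T.a (v 2) (v 3) ≠ 0) (h34 : T.a (v 3) (v 4) ≠ 0) (h45 : T.a (v 4) (v 5) ≠ 0) (h36 : T.a (v 3) (v 6) ≠ 0) :
    T.a (v 0) (v 3) = 0 := by
  have hd : ∀ j, T.a (v j) (v j) = -2 * T.w (v j) := fun j => (hv j).2
  have hsym : ∀ i j, T.a (v i) (v j) = T.a (v j) (v i) := fun i j => Groth.Agent.H4.NumType.a_symm T _ _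
  have hnn : ∀ i j, i ≠ j → 0 ≤ T.a (v i) (v j) := fun i j h => T.offDiag_nonneg _ _ (v.injective.ne h)
  have hwp : ∀ j, 0 < T.w (v j) := fun j => T.w_pos _
  have p01 : 0 < T.a (v 0) (v 1) := Groth.Agent.H4.NumType.pos_of_ne T (v.injective.ne (by decide)) h01
  have l01 := Groth.Agent.H4.NumType.w_le_left T p01
  have r01 := Groth.Agent.H4.NumType.w_le_right T p01
  have p12 : 0 < T.a (v 1) (v 2) := Groth.Agent.H4.NumType.pos_of_ne T (v.injective.ne (by decide)) h12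
  have l12 := Groth.Agent.H4.NumType.w_le_left T p12
  have r12 := Groth.Agent.H4.NumType.w_le_right T p12
  have p23 : 0 < T.a (v 2) (v 3) := Groth.Agent.H4.NumType.pos_of_ne T (v.injective.ne (by decide)) h23
  have l23 := Groth.Agent.H4.NumType.w_le_left T p23
  have r23 := Groth.Agent.H4.NumType.w_le_right T p23
  have p34 : 0 < T.a (v 3) (v 4) := Groth.Agent.H4.NumType.pos_of_ne T (v.injective.ne (by decide)) h34
  have l34 := Groth.Agent.H4.NumType.w_le_left T p34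
  have r34 := Groth.Agent.H4.NumType.w_le_right T p34
  have p45 : 0 < T.a (v 4) (v 5) := Groth.Agent.H4.NumType.pos_of_ne T (v.injective.ne (by decide)) h45
  have l45 := Groth.Agent.H4.NumType.w_le_left T p45
  have r45 := Groth.Agent.H4.NumType.w_le_right T p45
  have p36 : 0 < T.a (v 3) (v 6) := Groth.Agent.H4.NumType.pos_of_ne T (v.injective.ne (by decide)) h36
  have l36 := Groth.Agent.H4.NumType.w_le_left T p36
  have r36 := Groth.Agent.H4.NumType.w_le_right T p36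
  by_contra hne
  have pz := Groth.Agent.H4.NumType.pos_of_ne T (v.injective.ne (show (0 : Fin 7) ≠ 3 by decide)) hne
  have lz := Groth.Agent.H4.NumType.w_le_left T pz
  have rz := Groth.Agent.H4.NumType.w_le_right T pz
  refine Groth.Agent.H4.NumType.key_emb T v (by omega) ![1, 1, 1, 1, 0, 0, 0] (by decide) ⟨0, by decide⟩ ?_
  intro l hl
  fin_cases l <;> simp [Fin.sum_univ_succ] at hl ⊢
  · linarith only [hd 0, hwp 0, hnn 0 1 (by decide), hsym 1 0, hnn 0 2 (by decide), hsym 2 0, hnn 0 3 (by decide), hsym 3 0, hnn 0 4 (by decide), hsym 4 0, hnn 0 5 (by decide), hsym 5 0, hnn 0 6 (by decide), hsym 6 0, l01, r01, l12, r12, l23, r23, l34, r34, l45, r45, l36, r36, lz, rz]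
  · linarith only [hd 1, hwp 1, hsym 1 0, hnn 0 1 (by decide), hnn 1 2 (by decide), hsym 2 1, hnn 1 3 (by decide), hsym 3 1, hnn 1 4 (by decide), hsym 4 1, hnn 1 5 (by decide), hsym 5 1, hnn 1 6 (by decide), hsym 6 1, l01, r01, l12, r12, l23, r23, l34, r34, l45, r45, l36, r36, lz, rz]
  · linarith only [hd 2, hwp 2, hsym 2 0, hnn 0 2 (by decide), hsym 2 1, hnn 1 2 (by decide), hnn 2 3 (by decide), hsym 3 2, hnn 2 4 (by decide), hsym 4 2, hnn 2 5 (by decide), hsym 5 2, hnn 2 6 (by decide), hsym 6 2, l01, r01, l12, r12, l23, r23, l34, r34, l45, r45, l36, r36, lz, rz]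
  · linarith only [hd 3, hwp 3, hsym 3 0, hnn 0 3 (by decide), hsym 3 1, hnn 1 3 (by decide), hsym 3 2, hnn 2 3 (by decide), hnn 3 4 (by decide), hsym 4 3, hnn 3 5 (by decide), hsym 5 3, hnn 3 6 (by decide), hsym 6 3, l01, r01, l12, r12, l23, r23, l34, r34, l45, r45, l36, r36, lz, rz]

theorem z04 {n : ℕ} (T : Models.NumericalType n) (hn : 7 < n)
    (v : Fin 7 ↪ Fin n) (hv : ∀ j, T.IsMinusTwo (v j)) (h01 : T.a (v 0) (v 1) ≠ 0) (h12 : T.a (v 1) (v 2) ≠ 0) (h23 : T.a (v 2) (v 3) ≠ 0) (h34 : T.a (v 3) (v 4) ≠ 0) (h45 : T.a (v 4) (v 5) ≠ 0) (h36 : T.a (v 3) (v 6) ≠ 0) :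
    T.a (v 0) (v 4) = 0 := by
  have hd : ∀ j, T.a (v j) (v j) = -2 * T.w (v j) := fun j => (hv j).2
  have hsym : ∀ i j, T.a (v i) (v j) = T.a (v j) (v i) := fun i j => Groth.Agent.H4.NumType.a_symm T _ _
  have hnn : ∀ i j, i ≠ j → 0 ≤ T.a (v i) (v j) := fun i j h => T.offDiag_nonneg _ _ (v.injective.ne h)
  have hwp : ∀ j, 0 < T.w (v j) := fun j => T.w_pos _
  have p01 : 0 < T.a (v 0) (v 1) := Groth.Agent.H4.NumType.pos_of_ne T (v.injective.ne (by decide)) h01
  have l01 := Groth.Agent.H4.NumType.w_le_left T p01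
  have r01 := Groth.Agent.H4.NumType.w_le_right T p01
  have p12 : 0 < T.a (v 1) (v 2) := Groth.Agent.H4.NumType.pos_of_ne T (v.injective.ne (by decide)) h12
  have l12 := Groth.Agent.H4.NumType.w_le_left T p12
  have r12 := Groth.Agent.H4.NumType.w_le_right T p12
  have p23 : 0 < T.a (v 2) (v 3) := Groth.Agent.H4.NumType.pos_of_ne T (v.injective.ne (by decide)) h23
  have l23 := Groth.Agent.H4.NumType.w_le_left T p23
  have r23 := Groth.Agent.H4.NumType.w_le_right T p23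
  have p34 : 0 < T.a (v 3) (v 4) := Groth.Agent.H4.NumType.pos_of_ne T (v.injective.ne (by decide)) h34
  have l34 := Groth.Agent.H4.NumType.w_le_left T p34
  have r34 := Groth.Agent.H4.NumType.w_le_right T p34
  have p45 : 0 < T.a (v 4) (v 5) := Groth.Agent.H4.NumType.pos_of_ne T (v.injective.ne (by decide)) h45
  have l45 := Groth.Agent.H4.NumType.w_le_left T p45
  have r45 := Groth.Agent.H4.NumType.w_le_right T p45
  have p36 : 0 < T.a (v 3) (v 6) := Groth.Agent.H4.NumType.pos_of_ne T (v.injective.ne (by decide)) h36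
  have l36 := Groth.Agent.H4.NumType.w_le_left T p36
  have r36 := Groth.Agent.H4.NumType.w_le_right T p36
  by_contra hne
  have pz := Groth.Agent.H4.NumType.pos_of_ne T (v.injective.ne (show (0 : Fin 7) ≠ 4 by decide)) hne
  have lz := Groth.Agent.H4.NumType.w_le_left T pz
  have rz := Groth.Agent.H4.NumType.w_le_right T pz
  refine Groth.Agent.H4.NumType.key_emb T v (by omega) ![1, 1, 1, 1, 1, 0, 0] (by decide) ⟨0, by decide⟩ ?_
  intro l hl
  fin_cases l <;> simp [Fin.sum_univ_succ] at hl ⊢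
  · linarith only [hd 0, hwp 0, hnn 0 1 (by decide), hsym 1 0, hnn 0 2 (by decide), hsym 2 0, hnn 0 3 (by decide), hsym 3 0, hnn 0 4 (by decide), hsym 4 0, hnn 0 5 (by decide), hsym 5 0, hnn 0 6 (by decide), hsym 6 0, l01, r01, l12, r12, l23, r23, l34, r34, l45, r45, l36, r36, lz, rz]
  · linarith only [hd 1, hwp 1, hsym 1 0, hnn 0 1 (by decide), hnn 1 2 (by decide), hsym 2 1, hnn 1 3 (by decide), hsym 3 1, hnn 1 4 (by decide), hsym 4 1, hnn 1 5 (by decide), hsym 5 1, hnn 1 6 (by decide), hsym 6 1, l01, r01, l12, r12, l23, r23, l34, r34, l45, r45, l36, r36, lz, rz]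
  · linarith only [hd 2, hwp 2, hsym 2 0, hnn 0 2 (by decide), hsym 2 1, hnn 1 2 (by decide), hnn 2 3 (by decide), hsym 3 2, hnn 2 4 (by decide), hsym 4 2, hnn 2 5 (by decide), hsym 5 2, hnn 2 6 (by decide), hsym 6 2, l01, r01, l12, r12, l23, r23, l34, r34, l45, r45, l36, r36, lz, rz]
  · linarith only [hd 3, hwp 3, hsym 3 0, hnn 0 3 (by decide), hsym 3 1, hnn 1 3 (by decide), hsym 3 2, hnn 2 3 (by decide), hnn 3 4 (by decide), hsym 4 3, hnn 3 5 (by decide), hsym 5 3, hnn 3 6 (by decide), hsym 6 3, l01, r01, l12, r12, l23, r23, l34, r34, l45, r45, l36, r36, lz, rz]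
  · linarith only [hd 4, hwp 4, hsym 4 0, hnn 0 4 (by decide), hsym 4 1, hnn 1 4 (by decide), hsym 4 2, hnn 2 4 (by decide), hsym 4 3, hnn 3 4 (by decide), hnn 4 5 (by decide), hsym 5 4, hnn 4 6 (by decide), hsym 6 4, l01, r01, l12, r12, l23, r23, l34, r34, l45, r45, l36, r36, lz, rz]

theorem z05 {n : ℕ} (T : Models.NumericalType n) (hn : 7 < n)
    (v : Fin 7 ↪ Fin n) (hv : ∀ j, T.IsMinusTwo (v j)) (h01 : T.a (v 0) (v 1) ≠ 0) (h12 : T.a (v 1) (v 2) ≠ 0) (h23 : T.a (v 2) (v 3) ≠ 0) (h34 : T.a (v 3) (v 4) ≠ 0) (h45 : T.a (v 4) (v 5) ≠ 0) (h36 : T.a (v 3) (v 6) ≠ 0) :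
    T.a (v 0) (v 5) = 0 := by
  have hd : ∀ j, T.a (v j) (v j) = -2 * T.w (v j) := fun j => (hv j).2
  have hsym : ∀ i j, T.a (v i) (v j) = T.a (v j) (v i) := fun i j => Groth.Agent.H4.NumType.a_symm T _ _
  have hnn : ∀ i j, i ≠ j → 0 ≤ T.a (v i) (v j) := fun i j h => T.offDiag_nonneg _ _ (v.injective.ne h)
  have hwp : ∀ j, 0 < T.w (v j) := fun j => T.w_pos _
  have p01 : 0 < T.a (v 0) (v 1) := Groth.Agent.H4.NumType.pos_of_ne T (v.injective.ne (by decide)) h01
  have l01 := Groth.Agent.H4.NumType.w_le_left T p01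
  have r01 := Groth.Agent.H4.NumType.w_le_right T p01
  have p12 : 0 < T.a (v 1) (v 2) := Groth.Agent.H4.NumType.pos_of_ne T (v.injective.ne (by decide)) h12
  have l12 := Groth.Agent.H4.NumType.w_le_left T p12
  have r12 := Groth.Agent.H4.NumType.w_le_right T p12
  have p23 : 0 < T.a (v 2) (v 3) := Groth.Agent.H4.NumType.pos_of_ne T (v.injective.ne (by decide)) h23
  have l23 := Groth.Agent.H4.NumType.w_le_left T p23
  have r23 := Groth.Agent.H4.NumType.w_le_right T p23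
  have p34 : 0 < T.a (v 3) (v 4) := Groth.Agent.H4.NumType.pos_of_ne T (v.injective.ne (by decide)) h34
  have l34 := Groth.Agent.H4.NumType.w_le_left T p34
  have r34 := Groth.Agent.H4.NumType.w_le_right T p34
  have p45 : 0 < T.a (v 4) (v 5) := Groth.Agent.H4.NumType.pos_of_ne T (v.injective.ne (by decide)) h45
  have l45 := Groth.Agent.H4.NumType.w_le_left T p45
  have r45 := Groth.Agent.H4.NumType.w_le_right T p45
  have p36 : 0 < T.a (v 3) (v 6) := Groth.Agent.H4.NumType.pos_of_ne T (v.injective.ne (by decide)) h36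
  have l36 := Groth.Agent.H4.NumType.w_le_left T p36
  have r36 := Groth.Agent.H4.NumType.w_le_right T p36
  by_contra hne
  have pz := Groth.Agent.H4.NumType.pos_of_ne T (v.injective.ne (show (0 : Fin 7) ≠ 5 by decide)) hne
  have lz := Groth.Agent.H4.NumType.w_le_left T pz
  have rz := Groth.Agent.H4.NumType.w_le_right T pz
  refine Groth.Agent.H4.NumType.key_emb T v (by omega) ![1, 1, 1, 1, 1, 1, 0] (by decide) ⟨0, by decide⟩ ?_
  intro l hl
  fin_cases l <;> simp [Fin.sum_univ_succ] at hl ⊢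
  · linarith only [hd 0, hwp 0, hnn 0 1 (by decide), hsym 1 0, hnn 0 2 (by decide), hsym 2 0, hnn 0 3 (by decide), hsym 3 0, hnn 0 4 (by decide), hsym 4 0, hnn 0 5 (by decide), hsym 5 0, hnn 0 6 (by decide), hsym 6 0, l01, r01, l12, r12, l23, r23, l34, r34, l45, r45, l36, r36, lz, rz]
  · linarith only [hd 1, hwp 1, hsym 1 0, hnn 0 1 (by decide), hnn 1 2 (by decide), hsym 2 1, hnn 1 3 (by decide), hsym 3 1, hnn 1 4 (by decide), hsym 4 1, hnn 1 5 (by decide), hsym 5 1, hnn 1 6 (by decide), hsym 6 1, l01, r01, l12, r12, l23, r23, l34, r34, l45, r45, l36, r36, lz, rz]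
  · linarith only [hd 2, hwp 2, hsym 2 0, hnn 0 2 (by decide), hsym 2 1, hnn 1 2 (by decide), hnn 2 3 (by decide), hsym 3 2, hnn 2 4 (by decide), hsym 4 2, hnn 2 5 (by decide), hsym 5 2, hnn 2 6 (by decide), hsym 6 2, l01, r01, l12, r12, l23, r23, l34, r34, l45, r45, l36, r36, lz, rz]
  · linarith only [hd 3, hwp 3, hsym 3 0, hnn 0 3 (by decide), hsym 3 1, hnn 1 3 (by decide), hsym 3 2, hnn 2 3 (by decide), hnn 3 4 (by decide), hsym 4 3, hnn 3 5 (by decide), hsym 5 3, hnn 3 6 (by decide), hsym 6 3, l01, r01, l12, r12, l23, r23, l34, r34, l45, r45, l36, r36, lz, rz]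
  · linarith only [hd 4, hwp 4, hsym 4 0, hnn 0 4 (by decide), hsym 4 1, hnn 1 4 (by decide), hsym 4 2, hnn 2 4 (by decide), hsym 4 3, hnn 3 4 (by decide), hnn 4 5 (by decide), hsym 5 4, hnn 4 6 (by decide), hsym 6 4, l01, r01, l12, r12, l23, r23, l34, r34, l45, r45, l36, r36, lz, rz]
  · linarith only [hd 5, hwp 5, hsym 5 0, hnn 0 5 (by decide), hsym 5 1, hnn 1 5 (by decide), hsym 5 2, hnn 2 5 (by decide), hsym 5 3, hnn 3 5 (by decide), hsym 5 4, hnn 4 5 (by decide), hnn 5 6 (by decide), hsym 6 5, l01, r01, l12, r12, l23, r23, l34, r34, l45, r45, l36, r36, lz, rz]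

theorem z06 {n : ℕ} (T : Models.NumericalType n) (hn : 7 < n)
    (v : Fin 7 ↪ Fin n) (hv : ∀ j, T.IsMinusTwo (v j)) (h01 : T.a (v 0) (v 1) ≠ 0) (h12 : T.a (v 1) (v 2) ≠ 0) (h23 : T.a (v 2) (v 3) ≠ 0) (h34 : T.a (v 3) (v 4) ≠ 0) (h45 : T.a (v 4) (v 5) ≠ 0) (h36 : T.a (v 3) (v 6) ≠ 0) :
    T.a (v 0) (v 6) = 0 := by
  have hd : ∀ j, T.a (v j) (v j) = -2 * T.w (v j) := fun j => (hv j).2
  have hsym : ∀ i j, T.a (v i) (v j) = T.a (v j) (v i) := fun i j => Groth.Agent.H4.NumType.a_symm T _ _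
  have hnn : ∀ i j, i ≠ j → 0 ≤ T.a (v i) (v j) := fun i j h => T.offDiag_nonneg _ _ (v.injective.ne h)
  have hwp : ∀ j, 0 < T.w (v j) := fun j => T.w_pos _
  have p01 : 0 < T.a (v 0) (v 1) := Groth.Agent.H4.NumType.pos_of_ne T (v.injective.ne (by decide)) h01
  have l01 := Groth.Agent.H4.NumType.w_le_left T p01
  have r01 := Groth.Agent.H4.NumType.w_le_right T p01
  have p12 : 0 < T.a (v 1) (v 2) := Groth.Agent.H4.NumType.pos_of_ne T (v.injective.ne (by decide)) h12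
  have l12 := Groth.Agent.H4.NumType.w_le_left T p12
  have r12 := Groth.Agent.H4.NumType.w_le_right T p12
  have p23 : 0 < T.a (v 2) (v 3) := Groth.Agent.H4.NumType.pos_of_ne T (v.injective.ne (by decide)) h23
  have l23 := Groth.Agent.H4.NumType.w_le_left T p23
  have r23 := Groth.Agent.H4.NumType.w_le_right T p23
  have p34 : 0 < T.a (v 3) (v 4) := Groth.Agent.H4.NumType.pos_of_ne T (v.injective.ne (by decide)) h34
  have l34 := Groth.Agent.H4.NumType.w_le_left T p34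
  have r34 := Groth.Agent.H4.NumType.w_le_right T p34
  have p45 : 0 < T.a (v 4) (v 5) := Groth.Agent.H4.NumType.pos_of_ne T (v.injective.ne (by decide)) h45
  have l45 := Groth.Agent.H4.NumType.w_le_left T p45
  have r45 := Groth.Agent.H4.NumType.w_le_right T p45
  have p36 : 0 < T.a (v 3) (v 6) := Groth.Agent.H4.NumType.pos_of_ne T (v.injective.ne (by decide)) h36
  have l36 := Groth.Agent.H4.NumType.w_le_left T p36
  have r36 := Groth.Agent.H4.NumType.w_le_right T p36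
  by_contra hne
  have pz := Groth.Agent.H4.NumType.pos_of_ne T (v.injective.ne (show (0 : Fin 7) ≠ 6 by decide)) hne
  have lz := Groth.Agent.H4.NumType.w_le_left T pz
  have rz := Groth.Agent.H4.NumType.w_le_right T pz
  refine Groth.Agent.H4.NumType.key_emb T v (by omega) ![1, 1, 1, 1, 0, 0, 1] (by decide) ⟨0, by decide⟩ ?_
  intro l hl
  fin_cases l <;> simp [Fin.sum_univ_succ] at hl ⊢
  · linarith only [hd 0, hwp 0, hnn 0 1 (by decide), hsym 1 0, hnn 0 2 (by decide), hsym 2 0, hnn 0 3 (by decide), hsym 3 0, hnn 0 4 (by decide), hsym 4 0, hnn 0 5 (by decide), hsym 5 0, hnn 0 6 (by decide), hsym 6 0, l01, r01, l12, r12, l23, r23, l34, r34, l45, r45, l36, r36, lz, rz]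
  · linarith only [hd 1, hwp 1, hsym 1 0, hnn 0 1 (by decide), hnn 1 2 (by decide), hsym 2 1, hnn 1 3 (by decide), hsym 3 1, hnn 1 4 (by decide), hsym 4 1, hnn 1 5 (by decide), hsym 5 1, hnn 1 6 (by decide), hsym 6 1, l01, r01, l12, r12, l23, r23, l34, r34, l45, r45, l36, r36, lz, rz]
  · linarith only [hd 2, hwp 2, hsym 2 0, hnn 0 2 (by decide), hsym 2 1, hnn 1 2 (by decide), hnn 2 3 (by decide), hsym 3 2, hnn 2 4 (by decide), hsym 4 2, hnn 2 5 (by decide), hsym 5 2, hnn 2 6 (by decide), hsym 6 2, l01, r01, l12, r12, l23, r23, l34, r34, l45, r45, l36, r36, lz, rz]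
  · linarith only [hd 3, hwp 3, hsym 3 0, hnn 0 3 (by decide), hsym 3 1, hnn 1 3 (by decide), hsym 3 2, hnn 2 3 (by decide), hnn 3 4 (by decide), hsym 4 3, hnn 3 5 (by decide), hsym 5 3, hnn 3 6 (by decide), hsym 6 3, l01, r01, l12, r12, l23, r23, l34, r34, l45, r45, l36, r36, lz, rz]
  · linarith only [hd 6, hwp 6, hsym 6 0, hnn 0 6 (by decide), hsym 6 1, hnn 1 6 (by decide), hsym 6 2, hnn 2 6 (by decide), hsym 6 3, hnn 3 6 (by decide), hsym 6 4, hnn 4 6 (by decide), hsym 6 5, hnn 5 6 (by decide), l01, r01, l12, r12, l23, r23, l34, r34, l45, r45, l36, r36, lz, rz]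

theorem z13 {n : ℕ} (T : Models.NumericalType n) (hn : 7 < n)
    (v : Fin 7 ↪ Fin n) (hv : ∀ j, T.IsMinusTwo (v j)) (h01 : T.a (v 0) (v 1) ≠ 0) (h12 : T.a (v 1) (v 2) ≠ 0) (h23 : T.a (v 2) (v 3) ≠ 0) (h34 : T.a (v 3) (v 4) ≠ 0) (h45 : T.a (v 4) (v 5) ≠ 0) (h36 : T.a (v 3) (v 6) ≠ 0) :
    T.a (v 1) (v 3) = 0 := by
  have hd : ∀ j, T.a (v j) (v j) = -2 * T.w (v j) := fun j => (hv j).2
  have hsym : ∀ i j, T.a (v i) (v j) = T.a (v j) (v i) := fun i j => Groth.Agent.H4.NumType.a_symm T _ _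
  have hnn : ∀ i j, i ≠ j → 0 ≤ T.a (v i) (v j) := fun i j h => T.offDiag_nonneg _ _ (v.injective.ne h)
  have hwp : ∀ j, 0 < T.w (v j) := fun j => T.w_pos _
  have p01 : 0 < T.a (v 0) (v 1) := Groth.Agent.H4.NumType.pos_of_ne T (v.injective.ne (by decide)) h01
  have l01 := Groth.Agent.H4.NumType.w_le_left T p01
  have r01 := Groth.Agent.H4.NumType.w_le_right T p01
  have p12 : 0 < T.a (v 1) (v 2) := Groth.Agent.H4.NumType.pos_of_ne T (v.injective.ne (by decide)) h12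
  have l12 := Groth.Agent.H4.NumType.w_le_left T p12
  have r12 := Groth.Agent.H4.NumType.w_le_right T p12
  have p23 : 0 < T.a (v 2) (v 3) := Groth.Agent.H4.NumType.pos_of_ne T (v.injective.ne (by decide)) h23
  have l23 := Groth.Agent.H4.NumType.w_le_left T p23
  have r23 := Groth.Agent.H4.NumType.w_le_right T p23
  have p34 : 0 < T.a (v 3) (v 4) := Groth.Agent.H4.NumType.pos_of_ne T (v.injective.ne (by decide)) h34
  have l34 := Groth.Agent.H4.NumType.w_le_left T p34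
  have r34 := Groth.Agent.H4.NumType.w_le_right T p34
  have p45 : 0 < T.a (v 4) (v 5) := Groth.Agent.H4.NumType.pos_of_ne T (v.injective.ne (by decide)) h45
  have l45 := Groth.Agent.H4.NumType.w_le_left T p45
  have r45 := Groth.Agent.H4.NumType.w_le_right T p45
  have p36 : 0 < T.a (v 3) (v 6) := Groth.Agent.H4.NumType.pos_of_ne T (v.injective.ne (by decide)) h36
  have l36 := Groth.Agent.H4.NumType.w_le_left T p36
  have r36 := Groth.Agent.H4.NumType.w_le_right T p36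
  by_contra hne
  have pz := Groth.Agent.H4.NumType.pos_of_ne T (v.injective.ne (show (1 : Fin 7) ≠ 3 by decide)) hne
  have lz := Groth.Agent.H4.NumType.w_le_left T pz
  have rz := Groth.Agent.H4.NumType.w_le_right T pz
  refine Groth.Agent.H4.NumType.key_emb T v (by omega) ![0, 1, 1, 1, 0, 0, 0] (by decide) ⟨1, by decide⟩ ?_
  intro l hl
  fin_cases l <;> simp [Fin.sum_univ_succ] at hl ⊢
  · linarith only [hd 1, hwp 1, hsym 1 0, hnn 0 1 (by decide), hnn 1 2 (by decide), hsym 2 1, hnn 1 3 (by decide), hsym 3 1, hnn 1 4 (by decide), hsym 4 1, hnn 1 5 (by decide), hsym 5 1, hnn 1 6 (by decide), hsym 6 1, l01, r01, l12, r12, l23, r23, l34, r34, l45, r45, l36, r36, lz, rz]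
  · linarith only [hd 2, hwp 2, hsym 2 0, hnn 0 2 (by decide), hsym 2 1, hnn 1 2 (by decide), hnn 2 3 (by decide), hsym 3 2, hnn 2 4 (by decide), hsym 4 2, hnn 2 5 (by decide), hsym 5 2, hnn 2 6 (by decide), hsym 6 2, l01, r01, l12, r12, l23, r23, l34, r34, l45, r45, l36, r36, lz, rz]
  · linarith only [hd 3, hwp 3, hsym 3 0, hnn 0 3 (by decide), hsym 3 1, hnn 1 3 (by decide), hsym 3 2, hnn 2 3 (by decide), hnn 3 4 (by decide), hsym 4 3, hnn 3 5 (by decide), hsym 5 3, hnn 3 6 (by decide), hsym 6 3, l01, r01, l12, r12, l23, r23, l34, r34, l45, r45, l36, r36, lz, rz]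

theorem z14 {n : ℕ} (T : Models.NumericalType n) (hn : 7 < n)
    (v : Fin 7 ↪ Fin n) (hv : ∀ j, T.IsMinusTwo (v j)) (h01 : T.a (v 0) (v 1) ≠ 0) (h12 : T.a (v 1) (v 2) ≠ 0) (h23 : T.a (v 2) (v 3) ≠ 0) (h34 : T.a (v 3) (v 4) ≠ 0) (h45 : T.a (v 4) (v 5) ≠ 0) (h36 : T.a (v 3) (v 6) ≠ 0) :
    T.a (v 1) (v 4) = 0 := by
  have hd : ∀ j, T.a (v j) (v j) = -2 * T.w (v j) := fun j => (hv j).2
  have hsym : ∀ i j, T.a (v i) (v j) = T.a (v j) (v i) := fun i j => Groth.Agent.H4.NumType.a_symm T _ _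
  have hnn : ∀ i j, i ≠ j → 0 ≤ T.a (v i) (v j) := fun i j h => T.offDiag_nonneg _ _ (v.injective.ne h)
  have hwp : ∀ j, 0 < T.w (v j) := fun j => T.w_pos _
  have p01 : 0 < T.a (v 0) (v 1) := Groth.Agent.H4.NumType.pos_of_ne T (v.injective.ne (by decide)) h01
  have l01 := Groth.Agent.H4.NumType.w_le_left T p01
  have r01 := Groth.Agent.H4.NumType.w_le_right T p01
  have p12 : 0 < T.a (v 1) (v 2) := Groth.Agent.H4.NumType.pos_of_ne T (v.injective.ne (by decide)) h12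
  have l12 := Groth.Agent.H4.NumType.w_le_left T p12
  have r12 := Groth.Agent.H4.NumType.w_le_right T p12
  have p23 : 0 < T.a (v 2) (v 3) := Groth.Agent.H4.NumType.pos_of_ne T (v.injective.ne (by decide)) h23
  have l23 := Groth.Agent.H4.NumType.w_le_left T p23
  have r23 := Groth.Agent.H4.NumType.w_le_right T p23
  have p34 : 0 < T.a (v 3) (v 4) := Groth.Agent.H4.NumType.pos_of_ne T (v.injective.ne (by decide)) h34
  have l34 := Groth.Agent.H4.NumType.w_le_left T p34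
  have r34 := Groth.Agent.H4.NumType.w_le_right T p34
  have p45 : 0 < T.a (v 4) (v 5) := Groth.Agent.H4.NumType.pos_of_ne T (v.injective.ne (by decide)) h45
  have l45 := Groth.Agent.H4.NumType.w_le_left T p45
  have r45 := Groth.Agent.H4.NumType.w_le_right T p45
  have p36 : 0 < T.a (v 3) (v 6) := Groth.Agent.H4.NumType.pos_of_ne T (v.injective.ne (by decide)) h36
  have l36 := Groth.Agent.H4.NumType.w_le_left T p36
  have r36 := Groth.Agent.H4.NumType.w_le_right T p36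
  by_contra hne
  have pz := Groth.Agent.H4.NumType.pos_of_ne T (v.injective.ne (show (1 : Fin 7) ≠ 4 by decide)) hne
  have lz := Groth.Agent.H4.NumType.w_le_left T pz
  have rz := Groth.Agent.H4.NumType.w_le_right T pz
  refine Groth.Agent.H4.NumType.key_emb T v (by omega) ![0, 1, 1, 1, 1, 0, 0] (by decide) ⟨1, by decide⟩ ?_
  intro l hl
  fin_cases l <;> simp [Fin.sum_univ_succ] at hl ⊢
  · linarith only [hd 1, hwp 1, hsym 1 0, hnn 0 1 (by decide), hnn 1 2 (by decide), hsym 2 1, hnn 1 3 (by decide), hsym 3 1, hnn 1 4 (by decide), hsym 4 1, hnn 1 5 (by decide), hsym 5 1, hnn 1 6 (by decide), hsym 6 1, l01, r01, l12, r12, l23, r23, l34, r34, l45, r45, l36, r36, lz, rz]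
  · linarith only [hd 2, hwp 2, hsym 2 0, hnn 0 2 (by decide), hsym 2 1, hnn 1 2 (by decide), hnn 2 3 (by decide), hsym 3 2, hnn 2 4 (by decide), hsym 4 2, hnn 2 5 (by decide), hsym 5 2, hnn 2 6 (by decide), hsym 6 2, l01, r01, l12, r12, l23, r23, l34, r34, l45, r45, l36, r36, lz, rz]
  · linarith only [hd 3, hwp 3, hsym 3 0, hnn 0 3 (by decide), hsym 3 1, hnn 1 3 (by decide), hsym 3 2, hnn 2 3 (by decide), hnn 3 4 (by decide), hsym 4 3, hnn 3 5 (by decide), hsym 5 3, hnn 3 6 (by decide), hsym 6 3, l01, r01, l12, r12, l23, r23, l34, r34, l45, r45, l36, r36, lz, rz]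
  · linarith only [hd 4, hwp 4, hsym 4 0, hnn 0 4 (by decide), hsym 4 1, hnn 1 4 (by decide), hsym 4 2, hnn 2 4 (by decide), hsym 4 3, hnn 3 4 (by decide), hnn 4 5 (by decide), hsym 5 4, hnn 4 6 (by decide), hsym 6 4, l01, r01, l12, r12, l23, r23, l34, r34, l45, r45, l36, r36, lz, rz]

theorem z15 {n : ℕ} (T : Models.NumericalType n) (hn : 7 < n)
    (v : Fin 7 ↪ Fin n) (hv : ∀ j, T.IsMinusTwo (v j)) (h01 : T.a (v 0) (v 1) ≠ 0) (h12 : T.a (v 1) (v 2) ≠ 0) (h23 : T.a (v 2) (v 3) ≠ 0) (h34 : T.a (v 3) (v 4) ≠ 0) (h45 : T.a (v 4) (v 5) ≠ 0) (h36 : T.a (v 3) (v 6) ≠ 0) :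
    T.a (v 1) (v 5) = 0 := by
  have hd : ∀ j, T.a (v j) (v j) = -2 * T.w (v j) := fun j => (hv j).2
  have hsym : ∀ i j, T.a (v i) (v j) = T.a (v j) (v i) := fun i j => Groth.Agent.H4.NumType.a_symm T _ _
  have hnn : ∀ i j, i ≠ j → 0 ≤ T.a (v i) (v j) := fun i j h => T.offDiag_nonneg _ _ (v.injective.ne h)
  have hwp : ∀ j, 0 < T.w (v j) := fun j => T.w_pos _
  have p01 : 0 < T.a (v 0) (v 1) := Groth.Agent.H4.NumType.pos_of_ne T (v.injective.ne (by decide)) h01
  have l01 := Groth.Agent.H4.NumType.w_le_left T p01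
  have r01 := Groth.Agent.H4.NumType.w_le_right T p01
  have p12 : 0 < T.a (v 1) (v 2) := Groth.Agent.H4.NumType.pos_of_ne T (v.injective.ne (by decide)) h12
  have l12 := Groth.Agent.H4.NumType.w_le_left T p12
  have r12 := Groth.Agent.H4.NumType.w_le_right T p12
  have p23 : 0 < T.a (v 2) (v 3) := Groth.Agent.H4.NumType.pos_of_ne T (v.injective.ne (by decide)) h23
  have l23 := Groth.Agent.H4.NumType.w_le_left T p23
  have r23 := Groth.Agent.H4.NumType.w_le_right T p23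
  have p34 : 0 < T.a (v 3) (v 4) := Groth.Agent.H4.NumType.pos_of_ne T (v.injective.ne (by decide)) h34
  have l34 := Groth.Agent.H4.NumType.w_le_left T p34
  have r34 := Groth.Agent.H4.NumType.w_le_right T p34
  have p45 : 0 < T.a (v 4) (v 5) := Groth.Agent.H4.NumType.pos_of_ne T (v.injective.ne (by decide)) h45
  have l45 := Groth.Agent.H4.NumType.w_le_left T p45
  have r45 := Groth.Agent.H4.NumType.w_le_right T p45
  have p36 : 0 < T.a (v 3) (v 6) := Groth.Agent.H4.NumType.pos_of_ne T (v.injective.ne (by decide)) h36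
  have l36 := Groth.Agent.H4.NumType.w_le_left T p36
  have r36 := Groth.Agent.H4.NumType.w_le_right T p36
  by_contra hne
  have pz := Groth.Agent.H4.NumType.pos_of_ne T (v.injective.ne (show (1 : Fin 7) ≠ 5 by decide)) hne
  have lz := Groth.Agent.H4.NumType.w_le_left T pz
  have rz := Groth.Agent.H4.NumType.w_le_right T pz
  refine Groth.Agent.H4.NumType.key_emb T v (by omega) ![0, 1, 1, 1, 1, 1, 0] (by decide) ⟨1, by decide⟩ ?_
  intro l hl
  fin_cases l <;> simp [Fin.sum_univ_succ] at hl ⊢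
  · linarith only [hd 1, hwp 1, hsym 1 0, hnn 0 1 (by decide), hnn 1 2 (by decide), hsym 2 1, hnn 1 3 (by decide), hsym 3 1, hnn 1 4 (by decide), hsym 4 1, hnn 1 5 (by decide), hsym 5 1, hnn 1 6 (by decide), hsym 6 1, l01, r01, l12, r12, l23, r23, l34, r34, l45, r45, l36, r36, lz, rz]
  · linarith only [hd 2, hwp 2, hsym 2 0, hnn 0 2 (by decide), hsym 2 1, hnn 1 2 (by decide), hnn 2 3 (by decide), hsym 3 2, hnn 2 4 (by decide), hsym 4 2, hnn 2 5 (by decide), hsym 5 2, hnn 2 6 (by decide), hsym 6 2, l01, r01, l12, r12, l23, r23, l34, r34, l45, r45, l36, r36, lz, rz]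
  · linarith only [hd 3, hwp 3, hsym 3 0, hnn 0 3 (by decide), hsym 3 1, hnn 1 3 (by decide), hsym 3 2, hnn 2 3 (by decide), hnn 3 4 (by decide), hsym 4 3, hnn 3 5 (by decide), hsym 5 3, hnn 3 6 (by decide), hsym 6 3, l01, r01, l12, r12, l23, r23, l34, r34, l45, r45, l36, r36, lz, rz]
  · linarith only [hd 4, hwp 4, hsym 4 0, hnn 0 4 (by decide), hsym 4 1, hnn 1 4 (by decide), hsym 4 2, hnn 2 4 (by decide), hsym 4 3, hnn 3 4 (by decide), hnn 4 5 (by decide), hsym 5 4, hnn 4 6 (by decide), hsym 6 4, l01, r01, l12, r12, l23, r23, l34, r34, l45, r45, l36, r36, lz, rz]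
  · linarith only [hd 5, hwp 5, hsym 5 0, hnn 0 5 (by decide), hsym 5 1, hnn 1 5 (by decide), hsym 5 2, hnn 2 5 (by decide), hsym 5 3, hnn 3 5 (by decide), hsym 5 4, hnn 4 5 (by decide), hnn 5 6 (by decide), hsym 6 5, l01, r01, l12, r12, l23, r23, l34, r34, l45, r45, l36, r36, lz, rz]

theorem z16 {n : ℕ} (T : Models.NumericalType n) (hn : 7 < n)
    (v : Fin 7 ↪ Fin n) (hv : ∀ j, T.IsMinusTwo (v j)) (h01 : T.a (v 0) (v 1) ≠ 0) (h12 : T.a (v 1) (v 2) ≠ 0) (h23 : T.a (v 2) (v 3) ≠ 0) (h34 : T.a (v 3) (v 4) ≠ 0) (h45 : T.a (v 4) (v 5) ≠ 0) (h36 : T.a (v 3) (v 6) ≠ 0) :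
    T.a (v 1) (v 6) = 0 := by
  have hd : ∀ j, T.a (v j) (v j) = -2 * T.w (v j) := fun j => (hv j).2
  have hsym : ∀ i j, T.a (v i) (v j) = T.a (v j) (v i) := fun i j => Groth.Agent.H4.NumType.a_symm T _ _
  have hnn : ∀ i j, i ≠ j → 0 ≤ T.a (v i) (v j) := fun i j h => T.offDiag_nonneg _ _ (v.injective.ne h)
  have hwp : ∀ j, 0 < T.w (v j) := fun j => T.w_pos _
  have p01 : 0 < T.a (v 0) (v 1) := Groth.Agent.H4.NumType.pos_of_ne T (v.injective.ne (by decide)) h01
  have l01 := Groth.Agent.H4.NumType.w_le_left T p01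
  have r01 := Groth.Agent.H4.NumType.w_le_right T p01
  have p12 : 0 < T.a (v 1) (v 2) := Groth.Agent.H4.NumType.pos_of_ne T (v.injective.ne (by decide)) h12
  have l12 := Groth.Agent.H4.NumType.w_le_left T p12
  have r12 := Groth.Agent.H4.NumType.w_le_right T p12
  have p23 : 0 < T.a (v 2) (v 3) := Groth.Agent.H4.NumType.pos_of_ne T (v.injective.ne (by decide)) h23
  have l23 := Groth.Agent.H4.NumType.w_le_left T p23
  have r23 := Groth.Agent.H4.NumType.w_le_right T p23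
  have p34 : 0 < T.a (v 3) (v 4) := Groth.Agent.H4.NumType.pos_of_ne T (v.injective.ne (by decide)) h34
  have l34 := Groth.Agent.H4.NumType.w_le_left T p34
  have r34 := Groth.Agent.H4.NumType.w_le_right T p34
  have p45 : 0 < T.a (v 4) (v 5) := Groth.Agent.H4.NumType.pos_of_ne T (v.injective.ne (by decide)) h45
  have l45 := Groth.Agent.H4.NumType.w_le_left T p45
  have r45 := Groth.Agent.H4.NumType.w_le_right T p45
  have p36 : 0 < T.a (v 3) (v 6) := Groth.Agent.H4.NumType.pos_of_ne T (v.injective.ne (by decide)) h36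
  have l36 := Groth.Agent.H4.NumType.w_le_left T p36
  have r36 := Groth.Agent.H4.NumType.w_le_right T p36
  by_contra hne
  have pz := Groth.Agent.H4.NumType.pos_of_ne T (v.injective.ne (show (1 : Fin 7) ≠ 6 by decide)) hne
  have lz := Groth.Agent.H4.NumType.w_le_left T pz
  have rz := Groth.Agent.H4.NumType.w_le_right T pz
  refine Groth.Agent.H4.NumType.key_emb T v (by omega) ![0, 1, 1, 1, 0, 0, 1] (by decide) ⟨1, by decide⟩ ?_
  intro l hl
  fin_cases l <;> simp [Fin.sum_univ_succ] at hl ⊢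
  · linarith only [hd 1, hwp 1, hsym 1 0, hnn 0 1 (by decide), hnn 1 2 (by decide), hsym 2 1, hnn 1 3 (by decide), hsym 3 1, hnn 1 4 (by decide), hsym 4 1, hnn 1 5 (by decide), hsym 5 1, hnn 1 6 (by decide), hsym 6 1, l01, r01, l12, r12, l23, r23, l34, r34, l45, r45, l36, r36, lz, rz]
  · linarith only [hd 2, hwp 2, hsym 2 0, hnn 0 2 (by decide), hsym 2 1, hnn 1 2 (by decide), hnn 2 3 (by decide), hsym 3 2, hnn 2 4 (by decide), hsym 4 2, hnn 2 5 (by decide), hsym 5 2, hnn 2 6 (by decide), hsym 6 2, l01, r01, l12, r12, l23, r23, l34, r34, l45, r45, l36, r36, lz, rz]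
  · linarith only [hd 3, hwp 3, hsym 3 0, hnn 0 3 (by decide), hsym 3 1, hnn 1 3 (by decide), hsym 3 2, hnn 2 3 (by decide), hnn 3 4 (by decide), hsym 4 3, hnn 3 5 (by decide), hsym 5 3, hnn 3 6 (by decide), hsym 6 3, l01, r01, l12, r12, l23, r23, l34, r34, l45, r45, l36, r36, lz, rz]
  · linarith only [hd 6, hwp 6, hsym 6 0, hnn 0 6 (by decide), hsym 6 1, hnn 1 6 (by decide), hsym 6 2, hnn 2 6 (by decide), hsym 6 3, hnn 3 6 (by decide), hsym 6 4, hnn 4 6 (by decide), hsym 6 5, hnn 5 6 (by decide), l01, r01, l12, r12, l23, r23, l34, r34, l45, r45, l36, r36, lz, rz]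

theorem z24 {n : ℕ} (T : Models.NumericalType n) (hn : 7 < n)
    (v : Fin 7 ↪ Fin n) (hv : ∀ j, T.IsMinusTwo (v j)) (h01 : T.a (v 0) (v 1) ≠ 0) (h12 : T.a (v 1) (v 2) ≠ 0) (h23 : T.a (v 2) (v 3) ≠ 0) (h34 : T.a (v 3) (v 4) ≠ 0) (h45 : T.a (v 4) (v 5) ≠ 0) (h36 : T.a (v 3) (v 6) ≠ 0) :
    T.a (v 2) (v 4) = 0 := by
  have hd : ∀ j, T.a (v j) (v j) = -2 * T.w (v j) := fun j => (hv j).2
  have hsym : ∀ i j, T.a (v i) (v j) = T.a (v j) (v i) := fun i j => Groth.Agent.H4.NumType.a_symm T _ _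
  have hnn : ∀ i j, i ≠ j → 0 ≤ T.a (v i) (v j) := fun i j h => T.offDiag_nonneg _ _ (v.injective.ne h)
  have hwp : ∀ j, 0 < T.w (v j) := fun j => T.w_pos _
  have p01 : 0 < T.a (v 0) (v 1) := Groth.Agent.H4.NumType.pos_of_ne T (v.injective.ne (by decide)) h01
  have l01 := Groth.Agent.H4.NumType.w_le_left T p01
  have r01 := Groth.Agent.H4.NumType.w_le_right T p01
  have p12 : 0 < T.a (v 1) (v 2) := Groth.Agent.H4.NumType.pos_of_ne T (v.injective.ne (by decide)) h12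
  have l12 := Groth.Agent.H4.NumType.w_le_left T p12
  have r12 := Groth.Agent.H4.NumType.w_le_right T p12
  have p23 : 0 < T.a (v 2) (v 3) := Groth.Agent.H4.NumType.pos_of_ne T (v.injective.ne (by decide)) h23
  have l23 := Groth.Agent.H4.NumType.w_le_left T p23
  have r23 := Groth.Agent.H4.NumType.w_le_right T p23
  have p34 : 0 < T.a (v 3) (v 4) := Groth.Agent.H4.NumType.pos_of_ne T (v.injective.ne (by decide)) h34
  have l34 := Groth.Agent.H4.NumType.w_le_left T p34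
  have r34 := Groth.Agent.H4.NumType.w_le_right T p34
  have p45 : 0 < T.a (v 4) (v 5) := Groth.Agent.H4.NumType.pos_of_ne T (v.injective.ne (by decide)) h45
  have l45 := Groth.Agent.H4.NumType.w_le_left T p45
  have r45 := Groth.Agent.H4.NumType.w_le_right T p45
  have p36 : 0 < T.a (v 3) (v 6) := Groth.Agent.H4.NumType.pos_of_ne T (v.injective.ne (by decide)) h36
  have l36 := Groth.Agent.H4.NumType.w_le_left T p36
  have r36 := Groth.Agent.H4.NumType.w_le_right T p36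
  by_contra hne
  have pz := Groth.Agent.H4.NumType.pos_of_ne T (v.injective.ne (show (2 : Fin 7) ≠ 4 by decide)) hne
  have lz := Groth.Agent.H4.NumType.w_le_left T pz
  have rz := Groth.Agent.H4.NumType.w_le_right T pz
  refine Groth.Agent.H4.NumType.key_emb T v (by omega) ![0, 0, 1, 1, 1, 0, 0] (by decide) ⟨2, by decide⟩ ?_
  intro l hl
  fin_cases l <;> simp [Fin.sum_univ_succ] at hl ⊢
  · linarith only [hd 2, hwp 2, hsym 2 0, hnn 0 2 (by decide), hsym 2 1, hnn 1 2 (by decide), hnn 2 3 (by decide), hsym 3 2, hnn 2 4 (by decide), hsym 4 2, hnn 2 5 (by decide), hsym 5 2, hnn 2 6 (by decide), hsym 6 2, l01, r01, l12, r12, l23, r23, l34, r34, l45, r45, l36, r36, lz, rz]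
  · linarith only [hd 3, hwp 3, hsym 3 0, hnn 0 3 (by decide), hsym 3 1, hnn 1 3 (by decide), hsym 3 2, hnn 2 3 (by decide), hnn 3 4 (by decide), hsym 4 3, hnn 3 5 (by decide), hsym 5 3, hnn 3 6 (by decide), hsym 6 3, l01, r01, l12, r12, l23, r23, l34, r34, l45, r45, l36, r36, lz, rz]
  · linarith only [hd 4, hwp 4, hsym 4 0, hnn 0 4 (by decide), hsym 4 1, hnn 1 4 (by decide), hsym 4 2, hnn 2 4 (by decide), hsym 4 3, hnn 3 4 (by decide), hnn 4 5 (by decide), hsym 5 4, hnn 4 6 (by decide), hsym 6 4, l01, r01, l12, r12, l23, r23, l34, r34, l45, r45, l36, r36, lz, rz]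

theorem z25 {n : ℕ} (T : Models.NumericalType n) (hn : 7 < n)
    (v : Fin 7 ↪ Fin n) (hv : ∀ j, T.IsMinusTwo (v j)) (h01 : T.a (v 0) (v 1) ≠ 0) (h12 : T.a (v 1) (v 2) ≠ 0) (h23 : T.a (v 2) (v 3) ≠ 0) (h34 : T.a (v 3) (v 4) ≠ 0) (h45 : T.a (v 4) (v 5) ≠ 0) (h36 : T.a (v 3) (v 6) ≠ 0) :
    T.a (v 2) (v 5) = 0 := by
  have hd : ∀ j, T.a (v j) (v j) = -2 * T.w (v j) := fun j => (hv j).2
  have hsym : ∀ i j, T.a (v i) (v j) = T.a (v j) (v i) := fun i j => Groth.Agent.H4.NumType.a_symm T _ _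
  have hnn : ∀ i j, i ≠ j → 0 ≤ T.a (v i) (v j) := fun i j h => T.offDiag_nonneg _ _ (v.injective.ne h)
  have hwp : ∀ j, 0 < T.w (v j) := fun j => T.w_pos _
  have p01 : 0 < T.a (v 0) (v 1) := Groth.Agent.H4.NumType.pos_of_ne T (v.injective.ne (by decide)) h01
  have l01 := Groth.Agent.H4.NumType.w_le_left T p01
  have r01 := Groth.Agent.H4.NumType.w_le_right T p01
  have p12 : 0 < T.a (v 1) (v 2) := Groth.Agent.H4.NumType.pos_of_ne T (v.injective.ne (by decide)) h12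
  have l12 := Groth.Agent.H4.NumType.w_le_left T p12
  have r12 := Groth.Agent.H4.NumType.w_le_right T p12
  have p23 : 0 < T.a (v 2) (v 3) := Groth.Agent.H4.NumType.pos_of_ne T (v.injective.ne (by decide)) h23
  have l23 := Groth.Agent.H4.NumType.w_le_left T p23
  have r23 := Groth.Agent.H4.NumType.w_le_right T p23
  have p34 : 0 < T.a (v 3) (v 4) := Groth.Agent.H4.NumType.pos_of_ne T (v.injective.ne (by decide)) h34
  have l34 := Groth.Agent.H4.NumType.w_le_left T p34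
  have r34 := Groth.Agent.H4.NumType.w_le_right T p34
  have p45 : 0 < T.a (v 4) (v 5) := Groth.Agent.H4.NumType.pos_of_ne T (v.injective.ne (by decide)) h45
  have l45 := Groth.Agent.H4.NumType.w_le_left T p45
  have r45 := Groth.Agent.H4.NumType.w_le_right T p45
  have p36 : 0 < T.a (v 3) (v 6) := Groth.Agent.H4.NumType.pos_of_ne T (v.injective.ne (by decide)) h36
  have l36 := Groth.Agent.H4.NumType.w_le_left T p36
  have r36 := Groth.Agent.H4.NumType.w_le_right T p36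
  by_contra hne
  have pz := Groth.Agent.H4.NumType.pos_of_ne T (v.injective.ne (show (2 : Fin 7) ≠ 5 by decide)) hne
  have lz := Groth.Agent.H4.NumType.w_le_left T pz
  have rz := Groth.Agent.H4.NumType.w_le_right T pz
  refine Groth.Agent.H4.NumType.key_emb T v (by omega) ![0, 0, 1, 1, 1, 1, 0] (by decide) ⟨2, by decide⟩ ?_
  intro l hl
  fin_cases l <;> simp [Fin.sum_univ_succ] at hl ⊢
  · linarith only [hd 2, hwp 2, hsym 2 0, hnn 0 2 (by decide), hsym 2 1, hnn 1 2 (by decide), hnn 2 3 (by decide), hsym 3 2, hnn 2 4 (by decide), hsym 4 2, hnn 2 5 (by decide), hsym 5 2, hnn 2 6 (by decide), hsym 6 2, l01, r01, l12, r12, l23, r23, l34, r34, l45, r45, l36, r36, lz, rz]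
  · linarith only [hd 3, hwp 3, hsym 3 0, hnn 0 3 (by decide), hsym 3 1, hnn 1 3 (by decide), hsym 3 2, hnn 2 3 (by decide), hnn 3 4 (by decide), hsym 4 3, hnn 3 5 (by decide), hsym 5 3, hnn 3 6 (by decide), hsym 6 3, l01, r01, l12, r12, l23, r23, l34, r34, l45, r45, l36, r36, lz, rz]
  · linarith only [hd 4, hwp 4, hsym 4 0, hnn 0 4 (by decide), hsym 4 1, hnn 1 4 (by decide), hsym 4 2, hnn 2 4 (by decide), hsym 4 3, hnn 3 4 (by decide), hnn 4 5 (by decide), hsym 5 4, hnn 4 6 (by decide), hsym 6 4, l01, r01, l12, r12, l23, r23, l34, r34, l45, r45, l36, r36, lz, rz]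
  · linarith only [hd 5, hwp 5, hsym 5 0, hnn 0 5 (by decide), hsym 5 1, hnn 1 5 (by decide), hsym 5 2, hnn 2 5 (by decide), hsym 5 3, hnn 3 5 (by decide), hsym 5 4, hnn 4 5 (by decide), hnn 5 6 (by decide), hsym 6 5, l01, r01, l12, r12, l23, r23, l34, r34, l45, r45, l36, r36, lz, rz]

theorem z26 {n : ℕ} (T : Models.NumericalType n) (hn : 7 < n)
    (v : Fin 7 ↪ Fin n) (hv : ∀ j, T.IsMinusTwo (v j)) (h01 : T.a (v 0) (v 1) ≠ 0) (h12 : T.a (v 1) (v 2) ≠ 0) (h23 : T.a (v 2) (v 3) ≠ 0) (h34 : T.a (v 3) (v 4) ≠ 0) (h45 : T.a (v 4) (v 5) ≠ 0) (h36 : T.a (v 3) (v 6) ≠ 0) :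
    T.a (v 2) (v 6) = 0 := by
  have hd : ∀ j, T.a (v j) (v j) = -2 * T.w (v j) := fun j => (hv j).2
  have hsym : ∀ i j, T.a (v i) (v j) = T.a (v j) (v i) := fun i j => Groth.Agent.H4.NumType.a_symm T _ _
  have hnn : ∀ i j, i ≠ j → 0 ≤ T.a (v i) (v j) := fun i j h => T.offDiag_nonneg _ _ (v.injective.ne h)
  have hwp : ∀ j, 0 < T.w (v j) := fun j => T.w_pos _
  have p01 : 0 < T.a (v 0) (v 1) := Groth.Agent.H4.NumType.pos_of_ne T (v.injective.ne (by decide)) h01
  have l01 := Groth.Agent.H4.NumType.w_le_left T p01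
  have r01 := Groth.Agent.H4.NumType.w_le_right T p01
  have p12 : 0 < T.a (v 1) (v 2) := Groth.Agent.H4.NumType.pos_of_ne T (v.injective.ne (by decide)) h12
  have l12 := Groth.Agent.H4.NumType.w_le_left T p12
  have r12 := Groth.Agent.H4.NumType.w_le_right T p12
  have p23 : 0 < T.a (v 2) (v 3) := Groth.Agent.H4.NumType.pos_of_ne T (v.injective.ne (by decide)) h23
  have l23 := Groth.Agent.H4.NumType.w_le_left T p23
  have r23 := Groth.Agent.H4.NumType.w_le_right T p23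
  have p34 : 0 < T.a (v 3) (v 4) := Groth.Agent.H4.NumType.pos_of_ne T (v.injective.ne (by decide)) h34
  have l34 := Groth.Agent.H4.NumType.w_le_left T p34
  have r34 := Groth.Agent.H4.NumType.w_le_right T p34
  have p45 : 0 < T.a (v 4) (v 5) := Groth.Agent.H4.NumType.pos_of_ne T (v.injective.ne (by decide)) h45
  have l45 := Groth.Agent.H4.NumType.w_le_left T p45
  have r45 := Groth.Agent.H4.NumType.w_le_right T p45
  have p36 : 0 < T.a (v 3) (v 6) := Groth.Agent.H4.NumType.pos_of_ne T (v.injective.ne (by decide)) h36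
  have l36 := Groth.Agent.H4.NumType.w_le_left T p36
  have r36 := Groth.Agent.H4.NumType.w_le_right T p36
  by_contra hne
  have pz := Groth.Agent.H4.NumType.pos_of_ne T (v.injective.ne (show (2 : Fin 7) ≠ 6 by decide)) hne
  have lz := Groth.Agent.H4.NumType.w_le_left T pz
  have rz := Groth.Agent.H4.NumType.w_le_right T pz
  refine Groth.Agent.H4.NumType.key_emb T v (by omega) ![0, 0, 1, 1, 0, 0, 1] (by decide) ⟨2, by decide⟩ ?_
  intro l hl
  fin_cases l <;> simp [Fin.sum_univ_succ] at hl ⊢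
  · linarith only [hd 2, hwp 2, hsym 2 0, hnn 0 2 (by decide), hsym 2 1, hnn 1 2 (by decide), hnn 2 3 (by decide), hsym 3 2, hnn 2 4 (by decide), hsym 4 2, hnn 2 5 (by decide), hsym 5 2, hnn 2 6 (by decide), hsym 6 2, l01, r01, l12, r12, l23, r23, l34, r34, l45, r45, l36, r36, lz, rz]
  · linarith only [hd 3, hwp 3, hsym 3 0, hnn 0 3 (by decide), hsym 3 1, hnn 1 3 (by decide), hsym 3 2, hnn 2 3 (by decide), hnn 3 4 (by decide), hsym 4 3, hnn 3 5 (by decide), hsym 5 3, hnn 3 6 (by decide), hsym 6 3, l01, r01, l12, r12, l23, r23, l34, r34, l45, r45, l36, r36, lz, rz]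
  · linarith only [hd 6, hwp 6, hsym 6 0, hnn 0 6 (by decide), hsym 6 1, hnn 1 6 (by decide), hsym 6 2, hnn 2 6 (by decide), hsym 6 3, hnn 3 6 (by decide), hsym 6 4, hnn 4 6 (by decide), hsym 6 5, hnn 5 6 (by decide), l01, r01, l12, r12, l23, r23, l34, r34, l45, r45, l36, r36, lz, rz]

theorem z35 {n : ℕ} (T : Models.NumericalType n) (hn : 7 < n)
    (v : Fin 7 ↪ Fin n) (hv : ∀ j, T.IsMinusTwo (v j)) (h01 : T.a (v 0) (v 1) ≠ 0) (h12 : T.a (v 1) (v 2) ≠ 0) (h23 : T.a (v 2) (v 3) ≠ 0) (h34 : T.a (v 3) (v 4) ≠ 0) (h45 : T.a (v 4) (v 5) ≠ 0) (h36 : T.a (v 3) (v 6) ≠ 0) :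
    T.a (v 3) (v 5) = 0 := by
  have hd : ∀ j, T.a (v j) (v j) = -2 * T.w (v j) := fun j => (hv j).2
  have hsym : ∀ i j, T.a (v i) (v j) = T.a (v j) (v i) := fun i j => Groth.Agent.H4.NumType.a_symm T _ _
  have hnn : ∀ i j, i ≠ j → 0 ≤ T.a (v i) (v j) := fun i j h => T.offDiag_nonneg _ _ (v.injective.ne h)
  have hwp : ∀ j, 0 < T.w (v j) := fun j => T.w_pos _
  have p01 : 0 < T.a (v 0) (v 1) := Groth.Agent.H4.NumType.pos_of_ne T (v.injective.ne (by decide)) h01
  have l01 := Groth.Agent.H4.NumType.w_le_left T p01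
  have r01 := Groth.Agent.H4.NumType.w_le_right T p01
  have p12 : 0 < T.a (v 1) (v 2) := Groth.Agent.H4.NumType.pos_of_ne T (v.injective.ne (by decide)) h12
  have l12 := Groth.Agent.H4.NumType.w_le_left T p12
  have r12 := Groth.Agent.H4.NumType.w_le_right T p12
  have p23 : 0 < T.a (v 2) (v 3) := Groth.Agent.H4.NumType.pos_of_ne T (v.injective.ne (by decide)) h23
  have l23 := Groth.Agent.H4.NumType.w_le_left T p23
  have r23 := Groth.Agent.H4.NumType.w_le_right T p23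
  have p34 : 0 < T.a (v 3) (v 4) := Groth.Agent.H4.NumType.pos_of_ne T (v.injective.ne (by decide)) h34
  have l34 := Groth.Agent.H4.NumType.w_le_left T p34
  have r34 := Groth.Agent.H4.NumType.w_le_right T p34
  have p45 : 0 < T.a (v 4) (v 5) := Groth.Agent.H4.NumType.pos_of_ne T (v.injective.ne (by decide)) h45
  have l45 := Groth.Agent.H4.NumType.w_le_left T p45
  have r45 := Groth.Agent.H4.NumType.w_le_right T p45
  have p36 : 0 < T.a (v 3) (v 6) := Groth.Agent.H4.NumType.pos_of_ne T (v.injective.ne (by decide)) h36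
  have l36 := Groth.Agent.H4.NumType.w_le_left T p36
  have r36 := Groth.Agent.H4.NumType.w_le_right T p36
  by_contra hne
  have pz := Groth.Agent.H4.NumType.pos_of_ne T (v.injective.ne (show (3 : Fin 7) ≠ 5 by decide)) hne
  have lz := Groth.Agent.H4.NumType.w_le_left T pz
  have rz := Groth.Agent.H4.NumType.w_le_right T pz
  refine Groth.Agent.H4.NumType.key_emb T v (by omega) ![0, 0, 0, 1, 1, 1, 0] (by decide) ⟨3, by decide⟩ ?_
  intro l hl
  fin_cases l <;> simp [Fin.sum_univ_succ] at hl ⊢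
  · linarith only [hd 3, hwp 3, hsym 3 0, hnn 0 3 (by decide), hsym 3 1, hnn 1 3 (by decide), hsym 3 2, hnn 2 3 (by decide), hnn 3 4 (by decide), hsym 4 3, hnn 3 5 (by decide), hsym 5 3, hnn 3 6 (by decide), hsym 6 3, l01, r01, l12, r12, l23, r23, l34, r34, l45, r45, l36, r36, lz, rz]
  · linarith only [hd 4, hwp 4, hsym 4 0, hnn 0 4 (by decide), hsym 4 1, hnn 1 4 (by decide), hsym 4 2, hnn 2 4 (by decide), hsym 4 3, hnn 3 4 (by decide), hnn 4 5 (by decide), hsym 5 4, hnn 4 6 (by decide), hsym 6 4, l01, r01, l12, r12, l23, r23, l34, r34, l45, r45, l36, r36, lz, rz]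
  · linarith only [hd 5, hwp 5, hsym 5 0, hnn 0 5 (by decide), hsym 5 1, hnn 1 5 (by decide), hsym 5 2, hnn 2 5 (by decide), hsym 5 3, hnn 3 5 (by decide), hsym 5 4, hnn 4 5 (by decide), hnn 5 6 (by decide), hsym 6 5, l01, r01, l12, r12, l23, r23, l34, r34, l45, r45, l36, r36, lz, rz]

theorem z46 {n : ℕ} (T : Models.NumericalType n) (hn : 7 < n)
    (v : Fin 7 ↪ Fin n) (hv : ∀ j, T.IsMinusTwo (v j)) (h01 : T.a (v 0) (v 1) ≠ 0) (h12 : T.a (v 1) (v 2) ≠ 0) (h23 : T.a (v 2) (v 3) ≠ 0) (h34 : T.a (v 3) (v 4) ≠ 0) (h45 : T.a (v 4) (v 5) ≠ 0) (h36 : T.a (v 3) (v 6) ≠ 0) :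
    T.a (v 4) (v 6) = 0 := by
  have hd : ∀ j, T.a (v j) (v j) = -2 * T.w (v j) := fun j => (hv j).2
  have hsym : ∀ i j, T.a (v i) (v j) = T.a (v j) (v i) := fun i j => Groth.Agent.H4.NumType.a_symm T _ _
  have hnn : ∀ i j, i ≠ j → 0 ≤ T.a (v i) (v j) := fun i j h => T.offDiag_nonneg _ _ (v.injective.ne h)
  have hwp : ∀ j, 0 < T.w (v j) := fun j => T.w_pos _
  have p01 : 0 < T.a (v 0) (v 1) := Groth.Agent.H4.NumType.pos_of_ne T (v.injective.ne (by decide)) h01
  have l01 := Groth.Agent.H4.NumType.w_le_left T p01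
  have r01 := Groth.Agent.H4.NumType.w_le_right T p01
  have p12 : 0 < T.a (v 1) (v 2) := Groth.Agent.H4.NumType.pos_of_ne T (v.injective.ne (by decide)) h12
  have l12 := Groth.Agent.H4.NumType.w_le_left T p12
  have r12 := Groth.Agent.H4.NumType.w_le_right T p12
  have p23 : 0 < T.a (v 2) (v 3) := Groth.Agent.H4.NumType.pos_of_ne T (v.injective.ne (by decide)) h23
  have l23 := Groth.Agent.H4.NumType.w_le_left T p23
  have r23 := Groth.Agent.H4.NumType.w_le_right T p23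
  have p34 : 0 < T.a (v 3) (v 4) := Groth.Agent.H4.NumType.pos_of_ne T (v.injective.ne (by decide)) h34
  have l34 := Groth.Agent.H4.NumType.w_le_left T p34
  have r34 := Groth.Agent.H4.NumType.w_le_right T p34
  have p45 : 0 < T.a (v 4) (v 5) := Groth.Agent.H4.NumType.pos_of_ne T (v.injective.ne (by decide)) h45
  have l45 := Groth.Agent.H4.NumType.w_le_left T p45
  have r45 := Groth.Agent.H4.NumType.w_le_right T p45
  have p36 : 0 < T.a (v 3) (v 6) := Groth.Agent.H4.NumType.pos_of_ne T (v.injective.ne (by decide)) h36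
  have l36 := Groth.Agent.H4.NumType.w_le_left T p36
  have r36 := Groth.Agent.H4.NumType.w_le_right T p36
  by_contra hne
  have pz := Groth.Agent.H4.NumType.pos_of_ne T (v.injective.ne (show (4 : Fin 7) ≠ 6 by decide)) hne
  have lz := Groth.Agent.H4.NumType.w_le_left T pz
  have rz := Groth.Agent.H4.NumType.w_le_right T pz
  refine Groth.Agent.H4.NumType.key_emb T v (by omega) ![0, 0, 0, 1, 1, 0, 1] (by decide) ⟨3, by decide⟩ ?_
  intro l hl
  fin_cases l <;> simp [Fin.sum_univ_succ] at hl ⊢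
  · linarith only [hd 3, hwp 3, hsym 3 0, hnn 0 3 (by decide), hsym 3 1, hnn 1 3 (by decide), hsym 3 2, hnn 2 3 (by decide), hnn 3 4 (by decide), hsym 4 3, hnn 3 5 (by decide), hsym 5 3, hnn 3 6 (by decide), hsym 6 3, l01, r01, l12, r12, l23, r23, l34, r34, l45, r45, l36, r36, lz, rz]
  · linarith only [hd 4, hwp 4, hsym 4 0, hnn 0 4 (by decide), hsym 4 1, hnn 1 4 (by decide), hsym 4 2, hnn 2 4 (by decide), hsym 4 3, hnn 3 4 (by decide), hnn 4 5 (by decide), hsym 5 4, hnn 4 6 (by decide), hsym 6 4, l01, r01, l12, r12, l23, r23, l34, r34, l45, r45, l36, r36, lz, rz]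
  · linarith only [hd 6, hwp 6, hsym 6 0, hnn 0 6 (by decide), hsym 6 1, hnn 1 6 (by decide), hsym 6 2, hnn 2 6 (by decide), hsym 6 3, hnn 3 6 (by decide), hsym 6 4, hnn 4 6 (by decide), hsym 6 5, hnn 5 6 (by decide), l01, r01, l12, r12, l23, r23, l34, r34, l45, r45, l36, r36, lz, rz]

theorem z56 {n : ℕ} (T : Models.NumericalType n) (hn : 7 < n)
    (v : Fin 7 ↪ Fin n) (hv : ∀ j, T.IsMinusTwo (v j)) (h01 : T.a (v 0) (v 1) ≠ 0) (h12 : T.a (v 1) (v 2) ≠ 0) (h23 : T.a (v 2) (v 3) ≠ 0) (h34 : T.a (v 3) (v 4) ≠ 0) (h45 : T.a (v 4) (v 5) ≠ 0) (h36 : T.a (v 3) (v 6) ≠ 0) :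
    T.a (v 5) (v 6) = 0 := by
  have hd : ∀ j, T.a (v j) (v j) = -2 * T.w (v j) := fun j => (hv j).2
  have hsym : ∀ i j, T.a (v i) (v j) = T.a (v j) (v i) := fun i j => Groth.Agent.H4.NumType.a_symm T _ _
  have hnn : ∀ i j, i ≠ j → 0 ≤ T.a (v i) (v j) := fun i j h => T.offDiag_nonneg _ _ (v.injective.ne h)
  have hwp : ∀ j, 0 < T.w (v j) := fun j => T.w_pos _
  have p01 : 0 < T.a (v 0) (v 1) := Groth.Agent.H4.NumType.pos_of_ne T (v.injective.ne (by decide)) h01
  have l01 := Groth.Agent.H4.NumType.w_le_left T p01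
  have r01 := Groth.Agent.H4.NumType.w_le_right T p01
  have p12 : 0 < T.a (v 1) (v 2) := Groth.Agent.H4.NumType.pos_of_ne T (v.injective.ne (by decide)) h12
  have l12 := Groth.Agent.H4.NumType.w_le_left T p12
  have r12 := Groth.Agent.H4.NumType.w_le_right T p12
  have p23 : 0 < T.a (v 2) (v 3) := Groth.Agent.H4.NumType.pos_of_ne T (v.injective.ne (by decide)) h23
  have l23 := Groth.Agent.H4.NumType.w_le_left T p23
  have r23 := Groth.Agent.H4.NumType.w_le_right T p23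
  have p34 : 0 < T.a (v 3) (v 4) := Groth.Agent.H4.NumType.pos_of_ne T (v.injective.ne (by decide)) h34
  have l34 := Groth.Agent.H4.NumType.w_le_left T p34
  have r34 := Groth.Agent.H4.NumType.w_le_right T p34
  have p45 : 0 < T.a (v 4) (v 5) := Groth.Agent.H4.NumType.pos_of_ne T (v.injective.ne (by decide)) h45
  have l45 := Groth.Agent.H4.NumType.w_le_left T p45
  have r45 := Groth.Agent.H4.NumType.w_le_right T p45
  have p36 : 0 < T.a (v 3) (v 6) := Groth.Agent.H4.NumType.pos_of_ne T (v.injective.ne (by decide)) h36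
  have l36 := Groth.Agent.H4.NumType.w_le_left T p36
  have r36 := Groth.Agent.H4.NumType.w_le_right T p36
  by_contra hne
  have pz := Groth.Agent.H4.NumType.pos_of_ne T (v.injective.ne (show (5 : Fin 7) ≠ 6 by decide)) hne
  have lz := Groth.Agent.H4.NumType.w_le_left T pz
  have rz := Groth.Agent.H4.NumType.w_le_right T pz
  refine Groth.Agent.H4.NumType.key_emb T v (by omega) ![0, 0, 0, 1, 1, 1, 1] (by decide) ⟨3, by decide⟩ ?_
  intro l hl
  fin_cases l <;> simp [Fin.sum_univ_succ] at hl ⊢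
  · linarith only [hd 3, hwp 3, hsym 3 0, hnn 0 3 (by decide), hsym 3 1, hnn 1 3 (by decide), hsym 3 2, hnn 2 3 (by decide), hnn 3 4 (by decide), hsym 4 3, hnn 3 5 (by decide), hsym 5 3, hnn 3 6 (by decide), hsym 6 3, l01, r01, l12, r12, l23, r23, l34, r34, l45, r45, l36, r36, lz, rz]
  · linarith only [hd 4, hwp 4, hsym 4 0, hnn 0 4 (by decide), hsym 4 1, hnn 1 4 (by decide), hsym 4 2, hnn 2 4 (by decide), hsym 4 3, hnn 3 4 (by decide), hnn 4 5 (by decide), hsym 5 4, hnn 4 6 (by decide), hsym 6 4, l01, r01, l12, r12, l23, r23, l34, r34, l45, r45, l36, r36, lz, rz]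
  · linarith only [hd 5, hwp 5, hsym 5 0, hnn 0 5 (by decide), hsym 5 1, hnn 1 5 (by decide), hsym 5 2, hnn 2 5 (by decide), hsym 5 3, hnn 3 5 (by decide), hsym 5 4, hnn 4 5 (by decide), hnn 5 6 (by decide), hsym 6 5, l01, r01, l12, r12, l23, r23, l34, r34, l45, r45, l36, r36, lz, rz]
  · linarith only [hd 6, hwp 6, hsym 6 0, hnn 0 6 (by decide), hsym 6 1, hnn 1 6 (by decide), hsym 6 2, hnn 2 6 (by decide), hsym 6 3, hnn 3 6 (by decide), hsym 6 4, hnn 4 6 (by decide), hsym 6 5, hnn 5 6 (by decide), l01, r01, l12, r12, l23, r23, l34, r34, l45, r45, l36, r36, lz, rz]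

theorem hm0 {n : ℕ} (T : Models.NumericalType n) (v : Fin 7 ↪ Fin n)
    (q0 : T.a (v 0) (v 0) = -2 * T.w (v 0)) (q1 : T.a (v 0) (v 1) = T.w (v 0)) (q2 : T.a (v 0) (v 2) = 0) (q3 : T.a (v 0) (v 3) = 0) (q4 : T.a (v 0) (v 4) = 0) (q5 : T.a (v 0) (v 5) = 0) (q6 : T.a (v 0) (v 6) = 0) :
    T.m (v 1) ≤ 2 * T.m (v 0) := by
  have hrow := Groth.Agent.H4.NumType.row_le T v 0
  simp [Fin.sum_univ_succ] at hrow
  rw [q0, q1, q2, q3, q4, q5, q6] at hrow
  exact le_of_mul_le_mul_left (a := T.w (v 0)) (by linarith only [hrow]) (T.w_pos _)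

theorem hm1 {n : ℕ} (T : Models.NumericalType n) (v : Fin 7 ↪ Fin n)
    (q0 : T.a (v 1) (v 0) = T.w (v 0)) (q1 : T.a (v 1) (v 1) = -2 * T.w (v 0)) (q2 : T.a (v 1) (v 2) = T.w (v 0)) (q3 : T.a (v 1) (v 3) = 0) (q4 : T.a (v 1) (v 4) = 0) (q5 : T.a (v 1) (v 5) = 0) (q6 : T.a (v 1) (v 6) = 0) :
    T.m (v 0) + T.m (v 2) ≤ 2 * T.m (v 1) := by
  have hrow := Groth.Agent.H4.NumType.row_le T v 1
  simp [Fin.sum_univ_succ] at hrow
  rw [q0, q1, q2, q3, q4, q5, q6] at hrow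
  exact le_of_mul_le_mul_left (a := T.w (v 0)) (by linarith only [hrow]) (T.w_pos _)

theorem hm2 {n : ℕ} (T : Models.NumericalType n) (v : Fin 7 ↪ Fin n)
    (q0 : T.a (v 2) (v 0) = 0) (q1 : T.a (v 2) (v 1) = T.w (v 0)) (q2 : T.a (v 2) (v 2) = -2 * T.w (v 0)) (q3 : T.a (v 2) (v 3) = T.w (v 0)) (q4 : T.a (v 2) (v 4) = 0) (q5 : T.a (v 2) (v 5) = 0) (q6 : T.a (v 2) (v 6) = 0) :
    T.m (v 1) + T.m (v 3) ≤ 2 * T.m (v 2) := by
  have hrow := Groth.Agent.H4.NumType.row_le T v 2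
  simp [Fin.sum_univ_succ] at hrow
  rw [q0, q1, q2, q3, q4, q5, q6] at hrow
  exact le_of_mul_le_mul_left (a := T.w (v 0)) (by linarith only [hrow]) (T.w_pos _)

theorem hm3 {n : ℕ} (T : Models.NumericalType n) (v : Fin 7 ↪ Fin n)
    (q0 : T.a (v 3) (v 0) = 0) (q1 : T.a (v 3) (v 1) = 0) (q2 : T.a (v 3) (v 2) = T.w (v 0)) (q3 : T.a (v 3) (v 3) = -2 * T.w (v 0)) (q4 : T.a (v 3) (v 4) = T.w (v 0)) (q5 : T.a (v 3) (v 5) = 0) (q6 : T.a (v 3) (v 6) = T.w (v 0)) :
    T.m (v 2) + T.m (v 4) + T.m (v 6) ≤ 2 * T.m (v 3) := by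
  have hrow := Groth.Agent.H4.NumType.row_le T v 3
  simp [Fin.sum_univ_succ] at hrow
  rw [q0, q1, q2, q3, q4, q5, q6] at hrow
  exact le_of_mul_le_mul_left (a := T.w (v 0)) (by linarith only [hrow]) (T.w_pos _)

theorem hm4 {n : ℕ} (T : Models.NumericalType n) (v : Fin 7 ↪ Fin n)
    (q0 : T.a (v 4) (v 0) = 0) (q1 : T.a (v 4) (v 1) = 0) (q2 : T.a (v 4) (v 2) = 0) (q3 : T.a (v 4) (v 3) = T.w (v 0)) (q4 : T.a (v 4) (v 4) = -2 * T.w (v 0)) (q5 : T.a (v 4) (v 5) = T.w (v 0)) (q6 : T.a (v 4) (v 6) = 0) :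
    T.m (v 3) + T.m (v 5) ≤ 2 * T.m (v 4) := by
  have hrow := Groth.Agent.H4.NumType.row_le T v 4
  simp [Fin.sum_univ_succ] at hrow
  rw [q0, q1, q2, q3, q4, q5, q6] at hrow
  exact le_of_mul_le_mul_left (a := T.w (v 0)) (by linarith only [hrow]) (T.w_pos _)

theorem hm5 {n : ℕ} (T : Models.NumericalType n) (v : Fin 7 ↪ Fin n)
    (q0 : T.a (v 5) (v 0) = 0) (q1 : T.a (v 5) (v 1) = 0) (q2 : T.a (v 5) (v 2) = 0) (q3 : T.a (v 5) (v 3) = 0) (q4 : T.a (v 5) (v 4) = T.w (v 0)) (q5 : T.a (v 5) (v 5) = -2 * T.w (v 0)) (q6 : T.a (v 5) (v 6) = 0) :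
    T.m (v 4) ≤ 2 * T.m (v 5) := by
  have hrow := Groth.Agent.H4.NumType.row_le T v 5
  simp [Fin.sum_univ_succ] at hrow
  rw [q0, q1, q2, q3, q4, q5, q6] at hrow
  exact le_of_mul_le_mul_left (a := T.w (v 0)) (by linarith only [hrow]) (T.w_pos _)

theorem hm6 {n : ℕ} (T : Models.NumericalType n) (v : Fin 7 ↪ Fin n)
    (q0 : T.a (v 6) (v 0) = 0) (q1 : T.a (v 6) (v 1) = 0) (q2 : T.a (v 6) (v 2) = 0) (q3 : T.a (v 6) (v 3) = T.w (v 0)) (q4 : T.a (v 6) (v 4) = 0) (q5 : T.a (v 6) (v 5) = 0) (q6 : T.a (v 6) (v 6) = -2 * T.w (v 0)) :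
    T.m (v 3) ≤ 2 * T.m (v 6) := by
  have hrow := Groth.Agent.H4.NumType.row_le T v 6
  simp [Fin.sum_univ_succ] at hrow
  rw [q0, q1, q2, q3, q4, q5, q6] at hrow
  exact le_of_mul_le_mul_left (a := T.w (v 0)) (by linarith only [hrow]) (T.w_pos _)


/-- Classification of proper subgraphs of type E7 (a chain i_1 … i_6 with i_7 joined to i_4): let T be a
numerical type on n > 7 indices and i_1, …, i_7 distinct (-2)-indices with a_{12}, a_{23}, a_{34},
a_{45}, a_{56}, a_{47} nonzero. Then for some integer w all w_{i_j} equal w, these intersection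
numbers equal w, all other a_{i_j i_k} (j ≠ k) vanish, and 2 m_1 ≥ m_2, 2 m_2 ≥ m_1 + m_3, 2 m_3 ≥
m_2 + m_4, 2 m_4 ≥ m_3 + m_5 + m_7, 2 m_5 ≥ m_4 + m_6, 2 m_6 ≥ m_5, 2 m_7 ≥ m_4. -/
theorem result {n : ℕ} (T : Models.NumericalType n) (hn : 7 < n)
    (v : Fin 7 ↪ Fin n) (hv : ∀ j, T.IsMinusTwo (v j)) (h01 : T.a (v 0) (v 1) ≠ 0) (h12 : T.a (v 1) (v 2) ≠ 0) (h23 : T.a (v 2) (v 3) ≠ 0) (h34 : T.a (v 3) (v 4) ≠ 0) (h45 : T.a (v 4) (v 5) ≠ 0) (h36 : T.a (v 3) (v 6) ≠ 0) :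
    ∃ w : ℤ, (∀ j : Fin 7, T.w (v j) = w) ∧
      T.a (v 0) (v 1) = w ∧
      T.a (v 1) (v 2) = w ∧
      T.a (v 2) (v 3) = w ∧
      T.a (v 3) (v 4) = w ∧
      T.a (v 4) (v 5) = w ∧
      T.a (v 3) (v 6) = w ∧
      T.a (v 0) (v 2) = 0 ∧
      T.a (v 0) (v 3) = 0 ∧
      T.a (v 0) (v 4) = 0 ∧
      T.a (v 0) (v 5) = 0 ∧
      T.a (v 0) (v 6) = 0 ∧
      T.a (v 1) (v 3) = 0 ∧
      T.a (v 1) (v 4) = 0 ∧
      T.a (v 1) (v 5) = 0 ∧
      T.a (v 1) (v 6) = 0 ∧
      T.a (v 2) (v 4) = 0 ∧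
      T.a (v 2) (v 5) = 0 ∧
      T.a (v 2) (v 6) = 0 ∧
      T.a (v 3) (v 5) = 0 ∧
      T.a (v 4) (v 6) = 0 ∧
      T.a (v 5) (v 6) = 0 ∧
      T.m (v 1) ≤ 2 * T.m (v 0) ∧
      T.m (v 0) + T.m (v 2) ≤ 2 * T.m (v 1) ∧
      T.m (v 1) + T.m (v 3) ≤ 2 * T.m (v 2) ∧
      T.m (v 2) + T.m (v 4) + T.m (v 6) ≤ 2 * T.m (v 3) ∧
      T.m (v 3) + T.m (v 5) ≤ 2 * T.m (v 4) ∧
      T.m (v 4) ≤ 2 * T.m (v 5) ∧
      T.m (v 3) ≤ 2 * T.m (v 6) := by
  have hd : ∀ j, T.a (v j) (v j) = -2 * T.w (v j) := fun j => (hv j).2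
  have hsym : ∀ i j, T.a (v i) (v j) = T.a (v j) (v i) := fun i j => Groth.Agent.H4.NumType.a_symm T _ _
  have hwp : ∀ j, 0 < T.w (v j) := fun j => T.w_pos _
  have s01l := s01l T hn v hv h01 h12 h23 h34 h45 h36
  have s01r := s01r T hn v hv h01 h12 h23 h34 h45 h36
  have s12l := s12l T hn v hv h01 h12 h23 h34 h45 h36
  have s12r := s12r T hn v hv h01 h12 h23 h34 h45 h36
  have s23l := s23l T hn v hv h01 h12 h23 h34 h45 h36
  have s23r := s23r T hn v hv h01 h12 h23 h34 h45 h36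
  have s34l := s34l T hn v hv h01 h12 h23 h34 h45 h36
  have s34r := s34r T hn v hv h01 h12 h23 h34 h45 h36
  have s45l := s45l T hn v hv h01 h12 h23 h34 h45 h36
  have s45r := s45r T hn v hv h01 h12 h23 h34 h45 h36
  have s36l := s36l T hn v hv h01 h12 h23 h34 h45 h36
  have s36r := s36r T hn v hv h01 h12 h23 h34 h45 h36
  have hw1 : T.w (v 1) = T.w (v 0) := by linarith only [s01l, s01r]
  have hw2 : T.w (v 2) = T.w (v 0) := by linarith only [s12l, s12r, hw1]
  have hw3 : T.w (v 3) = T.w (v 0) := by linarith only [s23l, s23r, hw2]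
  have hw4 : T.w (v 4) = T.w (v 0) := by linarith only [s34l, s34r, hw3]
  have hw6 : T.w (v 6) = T.w (v 0) := by linarith only [s36l, s36r, hw3]
  have hw5 : T.w (v 5) = T.w (v 0) := by linarith only [s45l, s45r, hw4]
  have e01 : T.a (v 0) (v 1) = T.w (v 0) := by linarith only [s01l]
  have e12 : T.a (v 1) (v 2) = T.w (v 0) := by linarith only [s12l, hw1]
  have e23 : T.a (v 2) (v 3) = T.w (v 0) := by linarith only [s23l, hw2]
  have e34 : T.a (v 3) (v 4) = T.w (v 0) := by linarith only [s34l, hw3]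
  have e45 : T.a (v 4) (v 5) = T.w (v 0) := by linarith only [s45l, hw4]
  have e36 : T.a (v 3) (v 6) = T.w (v 0) := by linarith only [s36l, hw3]
  have z02 := z02 T hn v hv h01 h12 h23 h34 h45 h36
  have z03 := z03 T hn v hv h01 h12 h23 h34 h45 h36
  have z04 := z04 T hn v hv h01 h12 h23 h34 h45 h36
  have z05 := z05 T hn v hv h01 h12 h23 h34 h45 h36
  have z06 := z06 T hn v hv h01 h12 h23 h34 h45 h36
  have z13 := z13 T hn v hv h01 h12 h23 h34 h45 h36
  have z14 := z14 T hn v hv h01 h12 h23 h34 h45 h36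
  have z15 := z15 T hn v hv h01 h12 h23 h34 h45 h36
  have z16 := z16 T hn v hv h01 h12 h23 h34 h45 h36
  have z24 := z24 T hn v hv h01 h12 h23 h34 h45 h36
  have z25 := z25 T hn v hv h01 h12 h23 h34 h45 h36
  have z26 := z26 T hn v hv h01 h12 h23 h34 h45 h36
  have z35 := z35 T hn v hv h01 h12 h23 h34 h45 h36
  have z46 := z46 T hn v hv h01 h12 h23 h34 h45 h36
  have z56 := z56 T hn v hv h01 h12 h23 h34 h45 h36
  have hm0 := hm0 T v (by linarith only [hd 0]) (by linarith only [e01]) (by linarith only [z02]) (by linarith only [z03]) (by linarith only [z04]) (by linarith only [z05]) (by linarith only [z06])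
  have hm1 := hm1 T v (by linarith only [e01, hsym 1 0]) (by linarith only [hd 1, hw1]) (by linarith only [e12]) (by linarith only [z13]) (by linarith only [z14]) (by linarith only [z15]) (by linarith only [z16])
  have hm2 := hm2 T v (by linarith only [z02, hsym 2 0]) (by linarith only [e12, hsym 2 1]) (by linarith only [hd 2, hw2]) (by linarith only [e23]) (by linarith only [z24]) (by linarith only [z25]) (by linarith only [z26])
  have hm3 := hm3 T v (by linarith only [z03, hsym 3 0]) (by linarith only [z13, hsym 3 1]) (by linarith only [e23, hsym 3 2]) (by linarith only [hd 3, hw3]) (by linarith only [e34]) (by linarith only [z35]) (by linarith only [e36])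
  have hm4 := hm4 T v (by linarith only [z04, hsym 4 0]) (by linarith only [z14, hsym 4 1]) (by linarith only [z24, hsym 4 2]) (by linarith only [e34, hsym 4 3]) (by linarith only [hd 4, hw4]) (by linarith only [e45]) (by linarith only [z46])
  have hm5 := hm5 T v (by linarith only [z05, hsym 5 0]) (by linarith only [z15, hsym 5 1]) (by linarith only [z25, hsym 5 2]) (by linarith only [z35, hsym 5 3]) (by linarith only [e45, hsym 5 4]) (by linarith only [hd 5, hw5]) (by linarith only [z56])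
  have hm6 := hm6 T v (by linarith only [z06, hsym 6 0]) (by linarith only [z16, hsym 6 1]) (by linarith only [z26, hsym 6 2]) (by linarith only [e36, hsym 6 3]) (by linarith only [z46, hsym 6 4]) (by linarith only [z56, hsym 6 5]) (by linarith only [hd 6, hw6])
  refine ⟨T.w (v 0), ?_, e01, e12, e23, e34, e45, e36, z02, z03, z04, z05, z06, z13, z14, z15, z16, z24, z25, z26, z35, z46, z56, hm0, hm1, hm2, hm3, hm4, hm5, hm6⟩
  intro j
  fin_cases j
  exacts [rfl, hw1, hw2, hw3, hw4, hw5, hw6]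

end Groth.Agent.S7349
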