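import Groth.Statements.S7351
import Groth.Agent.H4.NumType

set_option autoImplicit false
open Finset
open Models Models.NumericalType

namespace Groth.Agent.S7351

/-- Let T be a numerical type on n > 5 indices. There do not exist five distinct (-2)-indices h, i, j,
k, l with a_hi > 0, a_hj > 0, a_hk > 0 and a_hl > 0. -/
theorem result {n : ℕ} (T : Models.NumericalType n) (hn : 5 < n)
    (v : Fin 5 ↪ Fin n) (hv : ∀ j, T.IsMinusTwo (v j))
    (h01 : 0 < T.a (v 0) (v 1)) (h02 : 0 < T.a (v 0) (v 2)) (h03 : 0 < T.a (v 0) (v 3)) (h04 : 0 < T.a (v 0) (v 4)) : False := by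
  have hd : ∀ j, T.a (v j) (v j) = -2 * T.w (v j) := fun j => (hv j).2
  have hsym : ∀ i j, T.a (v i) (v j) = T.a (v j) (v i) := fun i j => Groth.Agent.H4.NumType.a_symm T _ _
  have hnn : ∀ i j, i ≠ j → 0 ≤ T.a (v i) (v j) := fun i j h => T.offDiag_nonneg _ _ (v.injective.ne h)
  have hwp : ∀ j, 0 < T.w (v j) := fun j => T.w_pos _
  have p01 := h01
  have l01 := Groth.Agent.H4.NumType.w_le_left T p01
  have r01 := Groth.Agent.H4.NumType.w_le_right T p01
  have p02 := h02
  have l02 := Groth.Agent.H4.NumType.w_le_left T p02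
  have r02 := Groth.Agent.H4.NumType.w_le_right T p02
  have p03 := h03
  have l03 := Groth.Agent.H4.NumType.w_le_left T p03
  have r03 := Groth.Agent.H4.NumType.w_le_right T p03
  have p04 := h04
  have l04 := Groth.Agent.H4.NumType.w_le_left T p04
  have r04 := Groth.Agent.H4.NumType.w_le_right T p04
  exfalso
  refine Groth.Agent.H4.NumType.key_emb T v (by omega) ![2, 1, 1, 1, 1] (by decide) ⟨0, by decide⟩ ?_
  intro l hl
  fin_cases l <;> simp [Fin.sum_univ_succ] at hl ⊢
  · linarith [hd 0, hwp 0, hnn 0 1 (by decide), hnn 0 2 (by decide), hnn 0 3 (by decide), hnn 0 4 (by decide), l01, r01, l02, r02, l03, r03, l04, r04]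
  · linarith [hd 1, hwp 1, hsym 1 0, hnn 0 1 (by decide), hnn 1 2 (by decide), hnn 1 3 (by decide), hnn 1 4 (by decide), l01, r01, l02, r02, l03, r03, l04, r04]
  · linarith [hd 2, hwp 2, hsym 2 0, hnn 0 2 (by decide), hsym 2 1, hnn 1 2 (by decide), hnn 2 3 (by decide), hnn 2 4 (by decide), l01, r01, l02, r02, l03, r03, l04, r04]
  · linarith [hd 3, hwp 3, hsym 3 0, hnn 0 3 (by decide), hsym 3 1, hnn 1 3 (by decide), hsym 3 2, hnn 2 3 (by decide), hnn 3 4 (by decide), l01, r01, l02, r02, l03, r03, l04, r04]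
  · linarith [hd 4, hwp 4, hsym 4 0, hnn 0 4 (by decide), hsym 4 1, hnn 1 4 (by decide), hsym 4 2, hnn 2 4 (by decide), hsym 4 3, hnn 3 4 (by decide), l01, r01, l02, r02, l03, r03, l04, r04]

end Groth.Agent.S7351
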