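import Groth.Statements.S7353
import Groth.Agent.H4.NumType

set_option autoImplicit false
open Finset
open Models Models.NumericalType

namespace Groth.Agent.S7353

/-- Classification of proper subgraphs which are chains of five vertices: let T be a numerical type on n
> 5 indices and i_1, …, i_5 distinct (-2)-indices with a_{i_j i_{j+1}} nonzero for j < 5. Then
a_{i_j i_l} = 0 for |j - l| ≥ 2 and, after possibly reversing the order of the indices, for some
integer w one of the following holds: (A5) w = (w, w, w, w, w), consecutive a = (w, w, w, w), with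
2m_1 ≥ m_2, 2m_2 ≥ m_1 + m_3, 2m_3 ≥ m_2 + m_4, 2m_4 ≥ m_3 + m_5, 2m_5 ≥ m_4; (C5) w = (w, w, w, w,
2w), consecutive a = (w, w, w, 2w), with 2m_1 ≥ m_2, 2m_2 ≥ m_1 + m_3, 2m_3 ≥ m_2 + m_4, 2m_4 ≥ m_3
+ 2m_5, 2m_5 ≥ m_4; (B5) w = (2w, 2w, 2w, 2w, w), consecutive a = (2w, 2w, 2w, 2w), with 2m_1 ≥ m_2,
2m_2 ≥ m_1 + m_3, 2m_3 ≥ m_2 + m_4, 2m_4 ≥ m_3 + m_5, m_5 ≥ m_4. (The inequalities are those given
by the rows Σ_l a_{kl} m_l = 0 of the displayed matrices; the published text has 2m_3 ≥ m_2 + 2m_4
and 2m_4 ≥ m_3 + m_5 in case C5 and m_4 ≥ m_3 in case B5, of which the first does not follow — for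
the numerical type with six indices, weights (1,1,1,1,2,1), chain intersection numbers (1,1,1,2)
plus a_{16} = 1, a_{66} = -1 and multiplicities (2,2,2,2,1,2) one has 2m_3 = 4 < m_2 + 2m_4 = 6 — so
the matrix inequalities are stated.) -/
theorem result {n : ℕ} (T : Models.NumericalType n) (hn : 5 < n)
    (v : Fin 5 ↪ Fin n) (hv : ∀ j, T.IsMinusTwo (v j)) (h01 : T.a (v 0) (v 1) ≠ 0) (h12 : T.a (v 1) (v 2) ≠ 0) (h23 : T.a (v 2) (v 3) ≠ 0) (h34 : T.a (v 3) (v 4) ≠ 0) :
    (T.a (v 0) (v 2) = 0 ∧ T.a (v 0) (v 3) = 0 ∧ T.a (v 0) (v 4) = 0 ∧ T.a (v 1) (v 3) = 0 ∧ T.a (v 1) (v 4) = 0 ∧ T.a (v 2) (v 4) = 0) ∧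
    ∃ (u : Fin 5 → Fin n) (w : ℤ), ((∀ j, u j = v j) ∨ (∀ j, u j = v (Fin.rev j))) ∧
      ((T.w (u 0) = w ∧ T.w (u 1) = w ∧ T.w (u 2) = w ∧ T.w (u 3) = w ∧ T.w (u 4) = w ∧ T.a (u 0) (u 1) = w ∧ T.a (u 1) (u 2) = w ∧ T.a (u 2) (u 3) = w ∧ T.a (u 3) (u 4) = w ∧ T.m (u 1) ≤ 2 * T.m (u 0) ∧ T.m (u 0) + T.m (u 2) ≤ 2 * T.m (u 1) ∧ T.m (u 1) + T.m (u 3) ≤ 2 * T.m (u 2) ∧ T.m (u 2) + T.m (u 4) ≤ 2 * T.m (u 3) ∧ T.m (u 3) ≤ 2 * T.m (u 4)) ∨
      (T.w (u 0) = w ∧ T.w (u 1) = w ∧ T.w (u 2) = w ∧ T.w (u 3) = w ∧ T.w (u 4) = 2 * w ∧ T.a (u 0) (u 1) = w ∧ T.a (u 1) (u 2) = w ∧ T.a (u 2) (u 3) = w ∧ T.a (u 3) (u 4) = 2 * w ∧ T.m (u 1) ≤ 2 * T.m (u 0) ∧ T.m (u 0) + T.m (u 2) ≤ 2 * T.m (u 1) ∧ T.m (u 1) + T.m (u 3) ≤ 2 * T.m (u 2) ∧ T.m (u 2) + 2 * T.m (u 4) ≤ 2 * T.m (u 3) ∧ T.m (u 3) ≤ 2 * T.m (u 4)) ∨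
      (T.w (u 0) = 2 * w ∧ T.w (u 1) = 2 * w ∧ T.w (u 2) = 2 * w ∧ T.w (u 3) = 2 * w ∧ T.w (u 4) = w ∧ T.a (u 0) (u 1) = 2 * w ∧ T.a (u 1) (u 2) = 2 * w ∧ T.a (u 2) (u 3) = 2 * w ∧ T.a (u 3) (u 4) = 2 * w ∧ T.m (u 1) ≤ 2 * T.m (u 0) ∧ T.m (u 0) + T.m (u 2) ≤ 2 * T.m (u 1) ∧ T.m (u 1) + T.m (u 3) ≤ 2 * T.m (u 2) ∧ T.m (u 2) + T.m (u 4) ≤ 2 * T.m (u 3) ∧ T.m (u 3) ≤ T.m (u 4))) := by
  have hd : ∀ j, T.a (v j) (v j) = -2 * T.w (v j) := fun j => (hv j).2
  have hsym : ∀ i j, T.a (v i) (v j) = T.a (v j) (v i) := fun i j => Groth.Agent.H4.NumType.a_symm T _ _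
  have hnn : ∀ i j, i ≠ j → 0 ≤ T.a (v i) (v j) := fun i j h => T.offDiag_nonneg _ _ (v.injective.ne h)
  have hwp : ∀ j, 0 < T.w (v j) := fun j => T.w_pos _
  have cancel : ∀ {w x y : ℤ}, 0 < w → w * x ≤ w * y → x ≤ y := fun hw h => le_of_mul_le_mul_left h hw
  have p01 : 0 < T.a (v 0) (v 1) := Groth.Agent.H4.NumType.pos_of_ne T (v.injective.ne (by decide)) h01
  have l01 := Groth.Agent.H4.NumType.w_le_left T p01
  have r01 := Groth.Agent.H4.NumType.w_le_right T p01
  have p12 : 0 < T.a (v 1) (v 2) := Groth.Agent.H4.NumType.pos_of_ne T (v.injective.ne (by decide)) h12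
  have l12 := Groth.Agent.H4.NumType.w_le_left T p12
  have r12 := Groth.Agent.H4.NumType.w_le_right T p12
  have p23 : 0 < T.a (v 2) (v 3) := Groth.Agent.H4.NumType.pos_of_ne T (v.injective.ne (by decide)) h23
  have l23 := Groth.Agent.H4.NumType.w_le_left T p23
  have r23 := Groth.Agent.H4.NumType.w_le_right T p23
  have p34 : 0 < T.a (v 3) (v 4) := Groth.Agent.H4.NumType.pos_of_ne T (v.injective.ne (by decide)) h34
  have l34 := Groth.Agent.H4.NumType.w_le_left T p34
  have r34 := Groth.Agent.H4.NumType.w_le_right T p34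
  have z02 : T.a (v 0) (v 2) = 0 := by
    by_contra hne
    have pz := Groth.Agent.H4.NumType.pos_of_ne T (v.injective.ne (show (0 : Fin 5) ≠ 2 by decide)) hne
    have lz := Groth.Agent.H4.NumType.w_le_left T pz
    have rz := Groth.Agent.H4.NumType.w_le_right T pz
    refine Groth.Agent.H4.NumType.key_emb T v (by omega) ![1, 1, 1, 0, 0] (by decide) ⟨0, by decide⟩ ?_
    intro l hl
    fin_cases l <;> simp [Fin.sum_univ_succ] at hl ⊢
    · linarith [hd 0, hwp 0, hnn 0 1 (by decide), hsym 1 0, hnn 0 2 (by decide), hsym 2 0, hnn 0 3 (by decide), hsym 3 0, hnn 0 4 (by decide), hsym 4 0, l01, r01, l12, r12, l23, r23, l34, r34, lz, rz]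
    · linarith [hd 1, hwp 1, hsym 1 0, hnn 0 1 (by decide), hnn 1 2 (by decide), hsym 2 1, hnn 1 3 (by decide), hsym 3 1, hnn 1 4 (by decide), hsym 4 1, l01, r01, l12, r12, l23, r23, l34, r34, lz, rz]
    · linarith [hd 2, hwp 2, hsym 2 0, hnn 0 2 (by decide), hsym 2 1, hnn 1 2 (by decide), hnn 2 3 (by decide), hsym 3 2, hnn 2 4 (by decide), hsym 4 2, l01, r01, l12, r12, l23, r23, l34, r34, lz, rz]
  have z03 : T.a (v 0) (v 3) = 0 := by
    by_contra hne
    have pz := Groth.Agent.H4.NumType.pos_of_ne T (v.injective.ne (show (0 : Fin 5) ≠ 3 by decide)) hne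
    have lz := Groth.Agent.H4.NumType.w_le_left T pz
    have rz := Groth.Agent.H4.NumType.w_le_right T pz
    refine Groth.Agent.H4.NumType.key_emb T v (by omega) ![1, 1, 1, 1, 0] (by decide) ⟨0, by decide⟩ ?_
    intro l hl
    fin_cases l <;> simp [Fin.sum_univ_succ] at hl ⊢
    · linarith [hd 0, hwp 0, hnn 0 1 (by decide), hsym 1 0, hnn 0 2 (by decide), hsym 2 0, hnn 0 3 (by decide), hsym 3 0, hnn 0 4 (by decide), hsym 4 0, l01, r01, l12, r12, l23, r23, l34, r34, lz, rz]
    · linarith [hd 1, hwp 1, hsym 1 0, hnn 0 1 (by decide), hnn 1 2 (by decide), hsym 2 1, hnn 1 3 (by decide), hsym 3 1, hnn 1 4 (by decide), hsym 4 1, l01, r01, l12, r12, l23, r23, l34, r34, lz, rz]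
    · linarith [hd 2, hwp 2, hsym 2 0, hnn 0 2 (by decide), hsym 2 1, hnn 1 2 (by decide), hnn 2 3 (by decide), hsym 3 2, hnn 2 4 (by decide), hsym 4 2, l01, r01, l12, r12, l23, r23, l34, r34, lz, rz]
    · linarith [hd 3, hwp 3, hsym 3 0, hnn 0 3 (by decide), hsym 3 1, hnn 1 3 (by decide), hsym 3 2, hnn 2 3 (by decide), hnn 3 4 (by decide), hsym 4 3, l01, r01, l12, r12, l23, r23, l34, r34, lz, rz]
  have z04 : T.a (v 0) (v 4) = 0 := by
    by_contra hne
    have pz := Groth.Agent.H4.NumType.pos_of_ne T (v.injective.ne (show (0 : Fin 5) ≠ 4 by decide)) hne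
    have lz := Groth.Agent.H4.NumType.w_le_left T pz
    have rz := Groth.Agent.H4.NumType.w_le_right T pz
    refine Groth.Agent.H4.NumType.key_emb T v (by omega) ![1, 1, 1, 1, 1] (by decide) ⟨0, by decide⟩ ?_
    intro l hl
    fin_cases l <;> simp [Fin.sum_univ_succ] at hl ⊢
    · linarith [hd 0, hwp 0, hnn 0 1 (by decide), hsym 1 0, hnn 0 2 (by decide), hsym 2 0, hnn 0 3 (by decide), hsym 3 0, hnn 0 4 (by decide), hsym 4 0, l01, r01, l12, r12, l23, r23, l34, r34, lz, rz]
    · linarith [hd 1, hwp 1, hsym 1 0, hnn 0 1 (by decide), hnn 1 2 (by decide), hsym 2 1, hnn 1 3 (by decide), hsym 3 1, hnn 1 4 (by decide), hsym 4 1, l01, r01, l12, r12, l23, r23, l34, r34, lz, rz]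
    · linarith [hd 2, hwp 2, hsym 2 0, hnn 0 2 (by decide), hsym 2 1, hnn 1 2 (by decide), hnn 2 3 (by decide), hsym 3 2, hnn 2 4 (by decide), hsym 4 2, l01, r01, l12, r12, l23, r23, l34, r34, lz, rz]
    · linarith [hd 3, hwp 3, hsym 3 0, hnn 0 3 (by decide), hsym 3 1, hnn 1 3 (by decide), hsym 3 2, hnn 2 3 (by decide), hnn 3 4 (by decide), hsym 4 3, l01, r01, l12, r12, l23, r23, l34, r34, lz, rz]
    · linarith [hd 4, hwp 4, hsym 4 0, hnn 0 4 (by decide), hsym 4 1, hnn 1 4 (by decide), hsym 4 2, hnn 2 4 (by decide), hsym 4 3, hnn 3 4 (by decide), l01, r01, l12, r12, l23, r23, l34, r34, lz, rz]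
  have z13 : T.a (v 1) (v 3) = 0 := by
    by_contra hne
    have pz := Groth.Agent.H4.NumType.pos_of_ne T (v.injective.ne (show (1 : Fin 5) ≠ 3 by decide)) hne
    have lz := Groth.Agent.H4.NumType.w_le_left T pz
    have rz := Groth.Agent.H4.NumType.w_le_right T pz
    refine Groth.Agent.H4.NumType.key_emb T v (by omega) ![0, 1, 1, 1, 0] (by decide) ⟨1, by decide⟩ ?_
    intro l hl
    fin_cases l <;> simp [Fin.sum_univ_succ] at hl ⊢
    · linarith [hd 1, hwp 1, hsym 1 0, hnn 0 1 (by decide), hnn 1 2 (by decide), hsym 2 1, hnn 1 3 (by decide), hsym 3 1, hnn 1 4 (by decide), hsym 4 1, l01, r01, l12, r12, l23, r23, l34, r34, lz, rz]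
    · linarith [hd 2, hwp 2, hsym 2 0, hnn 0 2 (by decide), hsym 2 1, hnn 1 2 (by decide), hnn 2 3 (by decide), hsym 3 2, hnn 2 4 (by decide), hsym 4 2, l01, r01, l12, r12, l23, r23, l34, r34, lz, rz]
    · linarith [hd 3, hwp 3, hsym 3 0, hnn 0 3 (by decide), hsym 3 1, hnn 1 3 (by decide), hsym 3 2, hnn 2 3 (by decide), hnn 3 4 (by decide), hsym 4 3, l01, r01, l12, r12, l23, r23, l34, r34, lz, rz]
  have z14 : T.a (v 1) (v 4) = 0 := by
    by_contra hne
    have pz := Groth.Agent.H4.NumType.pos_of_ne T (v.injective.ne (show (1 : Fin 5) ≠ 4 by decide)) hne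
    have lz := Groth.Agent.H4.NumType.w_le_left T pz
    have rz := Groth.Agent.H4.NumType.w_le_right T pz
    refine Groth.Agent.H4.NumType.key_emb T v (by omega) ![0, 1, 1, 1, 1] (by decide) ⟨1, by decide⟩ ?_
    intro l hl
    fin_cases l <;> simp [Fin.sum_univ_succ] at hl ⊢
    · linarith [hd 1, hwp 1, hsym 1 0, hnn 0 1 (by decide), hnn 1 2 (by decide), hsym 2 1, hnn 1 3 (by decide), hsym 3 1, hnn 1 4 (by decide), hsym 4 1, l01, r01, l12, r12, l23, r23, l34, r34, lz, rz]
    · linarith [hd 2, hwp 2, hsym 2 0, hnn 0 2 (by decide), hsym 2 1, hnn 1 2 (by decide), hnn 2 3 (by decide), hsym 3 2, hnn 2 4 (by decide), hsym 4 2, l01, r01, l12, r12, l23, r23, l34, r34, lz, rz]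
    · linarith [hd 3, hwp 3, hsym 3 0, hnn 0 3 (by decide), hsym 3 1, hnn 1 3 (by decide), hsym 3 2, hnn 2 3 (by decide), hnn 3 4 (by decide), hsym 4 3, l01, r01, l12, r12, l23, r23, l34, r34, lz, rz]
    · linarith [hd 4, hwp 4, hsym 4 0, hnn 0 4 (by decide), hsym 4 1, hnn 1 4 (by decide), hsym 4 2, hnn 2 4 (by decide), hsym 4 3, hnn 3 4 (by decide), l01, r01, l12, r12, l23, r23, l34, r34, lz, rz]
  have z24 : T.a (v 2) (v 4) = 0 := by
    by_contra hne
    have pz := Groth.Agent.H4.NumType.pos_of_ne T (v.injective.ne (show (2 : Fin 5) ≠ 4 by decide)) hne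
    have lz := Groth.Agent.H4.NumType.w_le_left T pz
    have rz := Groth.Agent.H4.NumType.w_le_right T pz
    refine Groth.Agent.H4.NumType.key_emb T v (by omega) ![0, 0, 1, 1, 1] (by decide) ⟨2, by decide⟩ ?_
    intro l hl
    fin_cases l <;> simp [Fin.sum_univ_succ] at hl ⊢
    · linarith [hd 2, hwp 2, hsym 2 0, hnn 0 2 (by decide), hsym 2 1, hnn 1 2 (by decide), hnn 2 3 (by decide), hsym 3 2, hnn 2 4 (by decide), hsym 4 2, l01, r01, l12, r12, l23, r23, l34, r34, lz, rz]
    · linarith [hd 3, hwp 3, hsym 3 0, hnn 0 3 (by decide), hsym 3 1, hnn 1 3 (by decide), hsym 3 2, hnn 2 3 (by decide), hnn 3 4 (by decide), hsym 4 3, l01, r01, l12, r12, l23, r23, l34, r34, lz, rz]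
    · linarith [hd 4, hwp 4, hsym 4 0, hnn 0 4 (by decide), hsym 4 1, hnn 1 4 (by decide), hsym 4 2, hnn 2 4 (by decide), hsym 4 3, hnn 3 4 (by decide), l01, r01, l12, r12, l23, r23, l34, r34, lz, rz]
  refine ⟨⟨z02, z03, z04, z13, z14, z24⟩, ?_⟩
  rcases Groth.Agent.H4.NumType.eq_or_two_le_left T p01 with cL0 | gL0
  · rcases Groth.Agent.H4.NumType.eq_or_two_le_right T p01 with cR0 | gR0
    · rcases Groth.Agent.H4.NumType.eq_or_two_le_left T p12 with cL1 | gL1
      · rcases Groth.Agent.H4.NumType.eq_or_two_le_right T p12 with cR1 | gR1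
        · rcases Groth.Agent.H4.NumType.eq_or_two_le_left T p23 with cL2 | gL2
          · rcases Groth.Agent.H4.NumType.eq_or_two_le_right T p23 with cR2 | gR2
            · rcases Groth.Agent.H4.NumType.eq_or_two_le_left T p34 with cL3 | gL3
              · rcases Groth.Agent.H4.NumType.eq_or_two_le_right T p34 with cR3 | gR3
                · have hw0 : T.w (v 0) = T.w (v 0) := by linarith [cL0, cR0, cL1, cR1, cL2, cR2, cL3, cR3]
                  have hw1 : T.w (v 1) = T.w (v 0) := by linarith [cL0, cR0, cL1, cR1, cL2, cR2, cL3, cR3]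
                  have hw2 : T.w (v 2) = T.w (v 0) := by linarith [cL0, cR0, cL1, cR1, cL2, cR2, cL3, cR3]
                  have hw3 : T.w (v 3) = T.w (v 0) := by linarith [cL0, cR0, cL1, cR1, cL2, cR2, cL3, cR3]
                  have hw4 : T.w (v 4) = T.w (v 0) := by linarith [cL0, cR0, cL1, cR1, cL2, cR2, cL3, cR3]
                  have ha0 : T.a (v 0) (v 1) = T.w (v 0) := by linarith [cL0, cR0, cL1, cR1, cL2, cR2, cL3, cR3]
                  have ha1 : T.a (v 1) (v 2) = T.w (v 0) := by linarith [cL0, cR0, cL1, cR1, cL2, cR2, cL3, cR3]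
                  have ha2 : T.a (v 2) (v 3) = T.w (v 0) := by linarith [cL0, cR0, cL1, cR1, cL2, cR2, cL3, cR3]
                  have ha3 : T.a (v 3) (v 4) = T.w (v 0) := by linarith [cL0, cR0, cL1, cR1, cL2, cR2, cL3, cR3]
                  refine ⟨fun j => v j, T.w (v 0), Or.inl (fun j => rfl), ?_⟩
                  refine Or.inl ?_
                  show T.w (v 0) = T.w (v 0) ∧ T.w (v 1) = T.w (v 0) ∧ T.w (v 2) = T.w (v 0) ∧ T.w (v 3) = T.w (v 0) ∧ T.w (v 4) = T.w (v 0) ∧ T.a (v 0) (v 1) = T.w (v 0) ∧ T.a (v 1) (v 2) = T.w (v 0) ∧ T.a (v 2) (v 3) = T.w (v 0) ∧ T.a (v 3) (v 4) = T.w (v 0) ∧ T.m (v 1) ≤ 2 * T.m (v 0) ∧ T.m (v 0) + T.m (v 2) ≤ 2 * T.m (v 1) ∧ T.m (v 1) + T.m (v 3) ≤ 2 * T.m (v 2) ∧ T.m (v 2) + T.m (v 4) ≤ 2 * T.m (v 3) ∧ T.m (v 3) ≤ 2 * T.m (v 4)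
                  refine ⟨?_, ?_, ?_, ?_, ?_, ?_, ?_, ?_, ?_, ?_, ?_, ?_, ?_, ?_⟩
                  · exact hw0
                  · exact hw1
                  · exact hw2
                  · exact hw3
                  · exact hw4
                  · exact ha0
                  · exact ha1
                  · exact ha2
                  · exact ha3
                  · have hrow := Groth.Agent.H4.NumType.row_le T v 0
                    simp [Fin.sum_univ_succ] at hrow
                    have q0 : T.a (v 0) (v 0) = -2 * T.w (v 0) := by linarith [hd 0, hw0]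
                    have q1 : T.a (v 0) (v 1) = T.w (v 0) := by linarith [ha0]
                    have q2 : T.a (v 0) (v 2) = 0 := by linarith [z02]
                    have q3 : T.a (v 0) (v 3) = 0 := by linarith [z03]
                    have q4 : T.a (v 0) (v 4) = 0 := by linarith [z04]
                    rw [q0, q1, q2, q3, q4] at hrow
                    apply cancel (hwp 0)
                    linarith
                  · have hrow := Groth.Agent.H4.NumType.row_le T v 1
                    simp [Fin.sum_univ_succ] at hrow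
                    have q0 : T.a (v 1) (v 0) = T.w (v 0) := by linarith [ha0, hsym 1 0]
                    have q1 : T.a (v 1) (v 1) = -2 * T.w (v 0) := by linarith [hd 1, hw1]
                    have q2 : T.a (v 1) (v 2) = T.w (v 0) := by linarith [ha1]
                    have q3 : T.a (v 1) (v 3) = 0 := by linarith [z13]
                    have q4 : T.a (v 1) (v 4) = 0 := by linarith [z14]
                    rw [q0, q1, q2, q3, q4] at hrow
                    apply cancel (hwp 0)
                    linarith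
                  · have hrow := Groth.Agent.H4.NumType.row_le T v 2
                    simp [Fin.sum_univ_succ] at hrow
                    have q0 : T.a (v 2) (v 0) = 0 := by linarith [z02, hsym 2 0]
                    have q1 : T.a (v 2) (v 1) = T.w (v 0) := by linarith [ha1, hsym 2 1]
                    have q2 : T.a (v 2) (v 2) = -2 * T.w (v 0) := by linarith [hd 2, hw2]
                    have q3 : T.a (v 2) (v 3) = T.w (v 0) := by linarith [ha2]
                    have q4 : T.a (v 2) (v 4) = 0 := by linarith [z24]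
                    rw [q0, q1, q2, q3, q4] at hrow
                    apply cancel (hwp 0)
                    linarith
                  · have hrow := Groth.Agent.H4.NumType.row_le T v 3
                    simp [Fin.sum_univ_succ] at hrow
                    have q0 : T.a (v 3) (v 0) = 0 := by linarith [z03, hsym 3 0]
                    have q1 : T.a (v 3) (v 1) = 0 := by linarith [z13, hsym 3 1]
                    have q2 : T.a (v 3) (v 2) = T.w (v 0) := by linarith [ha2, hsym 3 2]
                    have q3 : T.a (v 3) (v 3) = -2 * T.w (v 0) := by linarith [hd 3, hw3]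
                    have q4 : T.a (v 3) (v 4) = T.w (v 0) := by linarith [ha3]
                    rw [q0, q1, q2, q3, q4] at hrow
                    apply cancel (hwp 0)
                    linarith
                  · have hrow := Groth.Agent.H4.NumType.row_le T v 4
                    simp [Fin.sum_univ_succ] at hrow
                    have q0 : T.a (v 4) (v 0) = 0 := by linarith [z04, hsym 4 0]
                    have q1 : T.a (v 4) (v 1) = 0 := by linarith [z14, hsym 4 1]
                    have q2 : T.a (v 4) (v 2) = 0 := by linarith [z24, hsym 4 2]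
                    have q3 : T.a (v 4) (v 3) = T.w (v 0) := by linarith [ha3, hsym 4 3]
                    have q4 : T.a (v 4) (v 4) = -2 * T.w (v 0) := by linarith [hd 4, hw4]
                    rw [q0, q1, q2, q3, q4] at hrow
                    apply cancel (hwp 0)
                    linarith
                · have dR3 : T.a (v 3) (v 4) = 2 * T.w (v 4) := by
                    rcases Groth.Agent.H4.NumType.eq_two_or_three_le_right T gR3 with h | hcon
                    · exact h
                    · exfalso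
                      refine Groth.Agent.H4.NumType.key_emb T v (by omega) ![0, 0, 1, 2, 3] (by decide) ⟨2, by decide⟩ ?_
                      intro l hl
                      fin_cases l <;> simp [Fin.sum_univ_succ] at hl ⊢
                      · linarith [hd 2, hwp 2, hsym 2 0, hnn 0 2 (by decide), hsym 2 1, hnn 1 2 (by decide), hnn 2 3 (by decide), hsym 3 2, hnn 2 4 (by decide), hsym 4 2, l01, r01, l12, r12, l23, r23, l34, r34, hcon, cL0, cR0, cL1, cR1, cL2, cR2, cL3, gR3]
                      · linarith [hd 3, hwp 3, hsym 3 0, hnn 0 3 (by decide), hsym 3 1, hnn 1 3 (by decide), hsym 3 2, hnn 2 3 (by decide), hnn 3 4 (by decide), hsym 4 3, l01, r01, l12, r12, l23, r23, l34, r34, hcon, cL0, cR0, cL1, cR1, cL2, cR2, cL3, gR3]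
                      · linarith [hd 4, hwp 4, hsym 4 0, hnn 0 4 (by decide), hsym 4 1, hnn 1 4 (by decide), hsym 4 2, hnn 2 4 (by decide), hsym 4 3, hnn 3 4 (by decide), l01, r01, l12, r12, l23, r23, l34, r34, hcon, cL0, cR0, cL1, cR1, cL2, cR2, cL3, gR3]
                  have hw0 : T.w (v 0) = 2 * T.w (v 4) := by linarith [cL0, cR0, cL1, cR1, cL2, cR2, cL3, gR3, dR3]
                  have hw1 : T.w (v 1) = 2 * T.w (v 4) := by linarith [cL0, cR0, cL1, cR1, cL2, cR2, cL3, gR3, dR3]
                  have hw2 : T.w (v 2) = 2 * T.w (v 4) := by linarith [cL0, cR0, cL1, cR1, cL2, cR2, cL3, gR3, dR3]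
                  have hw3 : T.w (v 3) = 2 * T.w (v 4) := by linarith [cL0, cR0, cL1, cR1, cL2, cR2, cL3, gR3, dR3]
                  have hw4 : T.w (v 4) = T.w (v 4) := by linarith [cL0, cR0, cL1, cR1, cL2, cR2, cL3, gR3, dR3]
                  have ha0 : T.a (v 0) (v 1) = 2 * T.w (v 4) := by linarith [cL0, cR0, cL1, cR1, cL2, cR2, cL3, gR3, dR3]
                  have ha1 : T.a (v 1) (v 2) = 2 * T.w (v 4) := by linarith [cL0, cR0, cL1, cR1, cL2, cR2, cL3, gR3, dR3]
                  have ha2 : T.a (v 2) (v 3) = 2 * T.w (v 4) := by linarith [cL0, cR0, cL1, cR1, cL2, cR2, cL3, gR3, dR3]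
                  have ha3 : T.a (v 3) (v 4) = 2 * T.w (v 4) := by linarith [cL0, cR0, cL1, cR1, cL2, cR2, cL3, gR3, dR3]
                  refine ⟨fun j => v j, T.w (v 4), Or.inl (fun j => rfl), ?_⟩
                  refine Or.inr (Or.inr ?_)
                  show T.w (v 0) = 2 * T.w (v 4) ∧ T.w (v 1) = 2 * T.w (v 4) ∧ T.w (v 2) = 2 * T.w (v 4) ∧ T.w (v 3) = 2 * T.w (v 4) ∧ T.w (v 4) = T.w (v 4) ∧ T.a (v 0) (v 1) = 2 * T.w (v 4) ∧ T.a (v 1) (v 2) = 2 * T.w (v 4) ∧ T.a (v 2) (v 3) = 2 * T.w (v 4) ∧ T.a (v 3) (v 4) = 2 * T.w (v 4) ∧ T.m (v 1) ≤ 2 * T.m (v 0) ∧ T.m (v 0) + T.m (v 2) ≤ 2 * T.m (v 1) ∧ T.m (v 1) + T.m (v 3) ≤ 2 * T.m (v 2) ∧ T.m (v 2) + T.m (v 4) ≤ 2 * T.m (v 3) ∧ T.m (v 3) ≤ T.m (v 4)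
                  refine ⟨?_, ?_, ?_, ?_, ?_, ?_, ?_, ?_, ?_, ?_, ?_, ?_, ?_, ?_⟩
                  · exact hw0
                  · exact hw1
                  · exact hw2
                  · exact hw3
                  · exact hw4
                  · exact ha0
                  · exact ha1
                  · exact ha2
                  · exact ha3
                  · have hrow := Groth.Agent.H4.NumType.row_le T v 0
                    simp [Fin.sum_univ_succ] at hrow
                    have q0 : T.a (v 0) (v 0) = -4 * T.w (v 4) := by linarith [hd 0, hw0]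
                    have q1 : T.a (v 0) (v 1) = 2 * T.w (v 4) := by linarith [ha0]
                    have q2 : T.a (v 0) (v 2) = 0 := by linarith [z02]
                    have q3 : T.a (v 0) (v 3) = 0 := by linarith [z03]
                    have q4 : T.a (v 0) (v 4) = 0 := by linarith [z04]
                    rw [q0, q1, q2, q3, q4] at hrow
                    apply cancel (hwp 4)
                    linarith
                  · have hrow := Groth.Agent.H4.NumType.row_le T v 1
                    simp [Fin.sum_univ_succ] at hrow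
                    have q0 : T.a (v 1) (v 0) = 2 * T.w (v 4) := by linarith [ha0, hsym 1 0]
                    have q1 : T.a (v 1) (v 1) = -4 * T.w (v 4) := by linarith [hd 1, hw1]
                    have q2 : T.a (v 1) (v 2) = 2 * T.w (v 4) := by linarith [ha1]
                    have q3 : T.a (v 1) (v 3) = 0 := by linarith [z13]
                    have q4 : T.a (v 1) (v 4) = 0 := by linarith [z14]
                    rw [q0, q1, q2, q3, q4] at hrow
                    apply cancel (hwp 4)
                    linarith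
                  · have hrow := Groth.Agent.H4.NumType.row_le T v 2
                    simp [Fin.sum_univ_succ] at hrow
                    have q0 : T.a (v 2) (v 0) = 0 := by linarith [z02, hsym 2 0]
                    have q1 : T.a (v 2) (v 1) = 2 * T.w (v 4) := by linarith [ha1, hsym 2 1]
                    have q2 : T.a (v 2) (v 2) = -4 * T.w (v 4) := by linarith [hd 2, hw2]
                    have q3 : T.a (v 2) (v 3) = 2 * T.w (v 4) := by linarith [ha2]
                    have q4 : T.a (v 2) (v 4) = 0 := by linarith [z24]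
                    rw [q0, q1, q2, q3, q4] at hrow
                    apply cancel (hwp 4)
                    linarith
                  · have hrow := Groth.Agent.H4.NumType.row_le T v 3
                    simp [Fin.sum_univ_succ] at hrow
                    have q0 : T.a (v 3) (v 0) = 0 := by linarith [z03, hsym 3 0]
                    have q1 : T.a (v 3) (v 1) = 0 := by linarith [z13, hsym 3 1]
                    have q2 : T.a (v 3) (v 2) = 2 * T.w (v 4) := by linarith [ha2, hsym 3 2]
                    have q3 : T.a (v 3) (v 3) = -4 * T.w (v 4) := by linarith [hd 3, hw3]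
                    have q4 : T.a (v 3) (v 4) = 2 * T.w (v 4) := by linarith [ha3]
                    rw [q0, q1, q2, q3, q4] at hrow
                    apply cancel (hwp 4)
                    linarith
                  · have hrow := Groth.Agent.H4.NumType.row_le T v 4
                    simp [Fin.sum_univ_succ] at hrow
                    have q0 : T.a (v 4) (v 0) = 0 := by linarith [z04, hsym 4 0]
                    have q1 : T.a (v 4) (v 1) = 0 := by linarith [z14, hsym 4 1]
                    have q2 : T.a (v 4) (v 2) = 0 := by linarith [z24, hsym 4 2]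
                    have q3 : T.a (v 4) (v 3) = 2 * T.w (v 4) := by linarith [ha3, hsym 4 3]
                    have q4 : T.a (v 4) (v 4) = -2 * T.w (v 4) := by linarith [hd 4, hw4]
                    rw [q0, q1, q2, q3, q4] at hrow
                    apply cancel (hwp 4)
                    linarith
              · rcases Groth.Agent.H4.NumType.eq_or_two_le_right T p34 with cR3 | gR3
                · have dL3 : T.a (v 3) (v 4) = 2 * T.w (v 3) := by
                    rcases Groth.Agent.H4.NumType.eq_two_or_three_le_left T gL3 with h | hcon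
                    · exact h
                    · exfalso
                      refine Groth.Agent.H4.NumType.key_emb T v (by omega) ![0, 0, 1, 2, 1] (by decide) ⟨2, by decide⟩ ?_
                      intro l hl
                      fin_cases l <;> simp [Fin.sum_univ_succ] at hl ⊢
                      · linarith [hd 2, hwp 2, hsym 2 0, hnn 0 2 (by decide), hsym 2 1, hnn 1 2 (by decide), hnn 2 3 (by decide), hsym 3 2, hnn 2 4 (by decide), hsym 4 2, l01, r01, l12, r12, l23, r23, l34, r34, hcon, cL0, cR0, cL1, cR1, cL2, cR2, gL3, cR3]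
                      · linarith [hd 3, hwp 3, hsym 3 0, hnn 0 3 (by decide), hsym 3 1, hnn 1 3 (by decide), hsym 3 2, hnn 2 3 (by decide), hnn 3 4 (by decide), hsym 4 3, l01, r01, l12, r12, l23, r23, l34, r34, hcon, cL0, cR0, cL1, cR1, cL2, cR2, gL3, cR3]
                      · linarith [hd 4, hwp 4, hsym 4 0, hnn 0 4 (by decide), hsym 4 1, hnn 1 4 (by decide), hsym 4 2, hnn 2 4 (by decide), hsym 4 3, hnn 3 4 (by decide), l01, r01, l12, r12, l23, r23, l34, r34, hcon, cL0, cR0, cL1, cR1, cL2, cR2, gL3, cR3]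
                  have hw0 : T.w (v 0) = T.w (v 0) := by linarith [cL0, cR0, cL1, cR1, cL2, cR2, gL3, cR3, dL3]
                  have hw1 : T.w (v 1) = T.w (v 0) := by linarith [cL0, cR0, cL1, cR1, cL2, cR2, gL3, cR3, dL3]
                  have hw2 : T.w (v 2) = T.w (v 0) := by linarith [cL0, cR0, cL1, cR1, cL2, cR2, gL3, cR3, dL3]
                  have hw3 : T.w (v 3) = T.w (v 0) := by linarith [cL0, cR0, cL1, cR1, cL2, cR2, gL3, cR3, dL3]
                  have hw4 : T.w (v 4) = 2 * T.w (v 0) := by linarith [cL0, cR0, cL1, cR1, cL2, cR2, gL3, cR3, dL3]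
                  have ha0 : T.a (v 0) (v 1) = T.w (v 0) := by linarith [cL0, cR0, cL1, cR1, cL2, cR2, gL3, cR3, dL3]
                  have ha1 : T.a (v 1) (v 2) = T.w (v 0) := by linarith [cL0, cR0, cL1, cR1, cL2, cR2, gL3, cR3, dL3]
                  have ha2 : T.a (v 2) (v 3) = T.w (v 0) := by linarith [cL0, cR0, cL1, cR1, cL2, cR2, gL3, cR3, dL3]
                  have ha3 : T.a (v 3) (v 4) = 2 * T.w (v 0) := by linarith [cL0, cR0, cL1, cR1, cL2, cR2, gL3, cR3, dL3]
                  refine ⟨fun j => v j, T.w (v 0), Or.inl (fun j => rfl), ?_⟩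
                  refine Or.inr (Or.inl ?_)
                  show T.w (v 0) = T.w (v 0) ∧ T.w (v 1) = T.w (v 0) ∧ T.w (v 2) = T.w (v 0) ∧ T.w (v 3) = T.w (v 0) ∧ T.w (v 4) = 2 * T.w (v 0) ∧ T.a (v 0) (v 1) = T.w (v 0) ∧ T.a (v 1) (v 2) = T.w (v 0) ∧ T.a (v 2) (v 3) = T.w (v 0) ∧ T.a (v 3) (v 4) = 2 * T.w (v 0) ∧ T.m (v 1) ≤ 2 * T.m (v 0) ∧ T.m (v 0) + T.m (v 2) ≤ 2 * T.m (v 1) ∧ T.m (v 1) + T.m (v 3) ≤ 2 * T.m (v 2) ∧ T.m (v 2) + 2 * T.m (v 4) ≤ 2 * T.m (v 3) ∧ T.m (v 3) ≤ 2 * T.m (v 4)
                  refine ⟨?_, ?_, ?_, ?_, ?_, ?_, ?_, ?_, ?_, ?_, ?_, ?_, ?_, ?_⟩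
                  · exact hw0
                  · exact hw1
                  · exact hw2
                  · exact hw3
                  · exact hw4
                  · exact ha0
                  · exact ha1
                  · exact ha2
                  · exact ha3
                  · have hrow := Groth.Agent.H4.NumType.row_le T v 0
                    simp [Fin.sum_univ_succ] at hrow
                    have q0 : T.a (v 0) (v 0) = -2 * T.w (v 0) := by linarith [hd 0, hw0]
                    have q1 : T.a (v 0) (v 1) = T.w (v 0) := by linarith [ha0]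
                    have q2 : T.a (v 0) (v 2) = 0 := by linarith [z02]
                    have q3 : T.a (v 0) (v 3) = 0 := by linarith [z03]
                    have q4 : T.a (v 0) (v 4) = 0 := by linarith [z04]
                    rw [q0, q1, q2, q3, q4] at hrow
                    apply cancel (hwp 0)
                    linarith
                  · have hrow := Groth.Agent.H4.NumType.row_le T v 1
                    simp [Fin.sum_univ_succ] at hrow
                    have q0 : T.a (v 1) (v 0) = T.w (v 0) := by linarith [ha0, hsym 1 0]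
                    have q1 : T.a (v 1) (v 1) = -2 * T.w (v 0) := by linarith [hd 1, hw1]
                    have q2 : T.a (v 1) (v 2) = T.w (v 0) := by linarith [ha1]
                    have q3 : T.a (v 1) (v 3) = 0 := by linarith [z13]
                    have q4 : T.a (v 1) (v 4) = 0 := by linarith [z14]
                    rw [q0, q1, q2, q3, q4] at hrow
                    apply cancel (hwp 0)
                    linarith
                  · have hrow := Groth.Agent.H4.NumType.row_le T v 2
                    simp [Fin.sum_univ_succ] at hrow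
                    have q0 : T.a (v 2) (v 0) = 0 := by linarith [z02, hsym 2 0]
                    have q1 : T.a (v 2) (v 1) = T.w (v 0) := by linarith [ha1, hsym 2 1]
                    have q2 : T.a (v 2) (v 2) = -2 * T.w (v 0) := by linarith [hd 2, hw2]
                    have q3 : T.a (v 2) (v 3) = T.w (v 0) := by linarith [ha2]
                    have q4 : T.a (v 2) (v 4) = 0 := by linarith [z24]
                    rw [q0, q1, q2, q3, q4] at hrow
                    apply cancel (hwp 0)
                    linarith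
                  · have hrow := Groth.Agent.H4.NumType.row_le T v 3
                    simp [Fin.sum_univ_succ] at hrow
                    have q0 : T.a (v 3) (v 0) = 0 := by linarith [z03, hsym 3 0]
                    have q1 : T.a (v 3) (v 1) = 0 := by linarith [z13, hsym 3 1]
                    have q2 : T.a (v 3) (v 2) = T.w (v 0) := by linarith [ha2, hsym 3 2]
                    have q3 : T.a (v 3) (v 3) = -2 * T.w (v 0) := by linarith [hd 3, hw3]
                    have q4 : T.a (v 3) (v 4) = 2 * T.w (v 0) := by linarith [ha3]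
                    rw [q0, q1, q2, q3, q4] at hrow
                    apply cancel (hwp 0)
                    linarith
                  · have hrow := Groth.Agent.H4.NumType.row_le T v 4
                    simp [Fin.sum_univ_succ] at hrow
                    have q0 : T.a (v 4) (v 0) = 0 := by linarith [z04, hsym 4 0]
                    have q1 : T.a (v 4) (v 1) = 0 := by linarith [z14, hsym 4 1]
                    have q2 : T.a (v 4) (v 2) = 0 := by linarith [z24, hsym 4 2]
                    have q3 : T.a (v 4) (v 3) = 2 * T.w (v 0) := by linarith [ha3, hsym 4 3]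
                    have q4 : T.a (v 4) (v 4) = -4 * T.w (v 0) := by linarith [hd 4, hw4]
                    rw [q0, q1, q2, q3, q4] at hrow
                    apply cancel (hwp 0)
                    linarith
                · exfalso
                  refine Groth.Agent.H4.NumType.key_emb T v (by omega) ![0, 0, 0, 1, 1] (by decide) ⟨3, by decide⟩ ?_
                  intro l hl
                  fin_cases l <;> simp [Fin.sum_univ_succ] at hl ⊢
                  · linarith [hd 3, hwp 3, hsym 3 0, hnn 0 3 (by decide), hsym 3 1, hnn 1 3 (by decide), hsym 3 2, hnn 2 3 (by decide), hnn 3 4 (by decide), hsym 4 3, l01, r01, l12, r12, l23, r23, l34, r34, cL0, cR0, cL1, cR1, cL2, cR2, gL3, gR3]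
                  · linarith [hd 4, hwp 4, hsym 4 0, hnn 0 4 (by decide), hsym 4 1, hnn 1 4 (by decide), hsym 4 2, hnn 2 4 (by decide), hsym 4 3, hnn 3 4 (by decide), l01, r01, l12, r12, l23, r23, l34, r34, cL0, cR0, cL1, cR1, cL2, cR2, gL3, gR3]
            · exfalso
              refine Groth.Agent.H4.NumType.key_emb T v (by omega) ![1, 2, 3, 4, 2] (by decide) ⟨0, by decide⟩ ?_
              intro l hl
              fin_cases l <;> simp [Fin.sum_univ_succ] at hl ⊢
              · linarith [hd 0, hwp 0, hnn 0 1 (by decide), hsym 1 0, hnn 0 2 (by decide), hsym 2 0, hnn 0 3 (by decide), hsym 3 0, hnn 0 4 (by decide), hsym 4 0, l01, r01, l12, r12, l23, r23, l34, r34, cL0, cR0, cL1, cR1, cL2, gR2]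
              · linarith [hd 1, hwp 1, hsym 1 0, hnn 0 1 (by decide), hnn 1 2 (by decide), hsym 2 1, hnn 1 3 (by decide), hsym 3 1, hnn 1 4 (by decide), hsym 4 1, l01, r01, l12, r12, l23, r23, l34, r34, cL0, cR0, cL1, cR1, cL2, gR2]
              · linarith [hd 2, hwp 2, hsym 2 0, hnn 0 2 (by decide), hsym 2 1, hnn 1 2 (by decide), hnn 2 3 (by decide), hsym 3 2, hnn 2 4 (by decide), hsym 4 2, l01, r01, l12, r12, l23, r23, l34, r34, cL0, cR0, cL1, cR1, cL2, gR2]
              · linarith [hd 3, hwp 3, hsym 3 0, hnn 0 3 (by decide), hsym 3 1, hnn 1 3 (by decide), hsym 3 2, hnn 2 3 (by decide), hnn 3 4 (by decide), hsym 4 3, l01, r01, l12, r12, l23, r23, l34, r34, cL0, cR0, cL1, cR1, cL2, gR2]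
              · linarith [hd 4, hwp 4, hsym 4 0, hnn 0 4 (by decide), hsym 4 1, hnn 1 4 (by decide), hsym 4 2, hnn 2 4 (by decide), hsym 4 3, hnn 3 4 (by decide), l01, r01, l12, r12, l23, r23, l34, r34, cL0, cR0, cL1, cR1, cL2, gR2]
          · rcases Groth.Agent.H4.NumType.eq_or_two_le_right T p23 with cR2 | gR2
            · exfalso
              refine Groth.Agent.H4.NumType.key_emb T v (by omega) ![1, 2, 3, 2, 1] (by decide) ⟨0, by decide⟩ ?_
              intro l hl
              fin_cases l <;> simp [Fin.sum_univ_succ] at hl ⊢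
              · linarith [hd 0, hwp 0, hnn 0 1 (by decide), hsym 1 0, hnn 0 2 (by decide), hsym 2 0, hnn 0 3 (by decide), hsym 3 0, hnn 0 4 (by decide), hsym 4 0, l01, r01, l12, r12, l23, r23, l34, r34, cL0, cR0, cL1, cR1, gL2, cR2]
              · linarith [hd 1, hwp 1, hsym 1 0, hnn 0 1 (by decide), hnn 1 2 (by decide), hsym 2 1, hnn 1 3 (by decide), hsym 3 1, hnn 1 4 (by decide), hsym 4 1, l01, r01, l12, r12, l23, r23, l34, r34, cL0, cR0, cL1, cR1, gL2, cR2]
              · linarith [hd 2, hwp 2, hsym 2 0, hnn 0 2 (by decide), hsym 2 1, hnn 1 2 (by decide), hnn 2 3 (by decide), hsym 3 2, hnn 2 4 (by decide), hsym 4 2, l01, r01, l12, r12, l23, r23, l34, r34, cL0, cR0, cL1, cR1, gL2, cR2]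
              · linarith [hd 3, hwp 3, hsym 3 0, hnn 0 3 (by decide), hsym 3 1, hnn 1 3 (by decide), hsym 3 2, hnn 2 3 (by decide), hnn 3 4 (by decide), hsym 4 3, l01, r01, l12, r12, l23, r23, l34, r34, cL0, cR0, cL1, cR1, gL2, cR2]
              · linarith [hd 4, hwp 4, hsym 4 0, hnn 0 4 (by decide), hsym 4 1, hnn 1 4 (by decide), hsym 4 2, hnn 2 4 (by decide), hsym 4 3, hnn 3 4 (by decide), l01, r01, l12, r12, l23, r23, l34, r34, cL0, cR0, cL1, cR1, gL2, cR2]
            · exfalso
              refine Groth.Agent.H4.NumType.key_emb T v (by omega) ![0, 0, 1, 1, 0] (by decide) ⟨2, by decide⟩ ?_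
              intro l hl
              fin_cases l <;> simp [Fin.sum_univ_succ] at hl ⊢
              · linarith [hd 2, hwp 2, hsym 2 0, hnn 0 2 (by decide), hsym 2 1, hnn 1 2 (by decide), hnn 2 3 (by decide), hsym 3 2, hnn 2 4 (by decide), hsym 4 2, l01, r01, l12, r12, l23, r23, l34, r34, cL0, cR0, cL1, cR1, gL2, gR2]
              · linarith [hd 3, hwp 3, hsym 3 0, hnn 0 3 (by decide), hsym 3 1, hnn 1 3 (by decide), hsym 3 2, hnn 2 3 (by decide), hnn 3 4 (by decide), hsym 4 3, l01, r01, l12, r12, l23, r23, l34, r34, cL0, cR0, cL1, cR1, gL2, gR2]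
        · exfalso
          refine Groth.Agent.H4.NumType.key_emb T v (by omega) ![1, 2, 3, 2, 1] (by decide) ⟨0, by decide⟩ ?_
          intro l hl
          fin_cases l <;> simp [Fin.sum_univ_succ] at hl ⊢
          · linarith [hd 0, hwp 0, hnn 0 1 (by decide), hsym 1 0, hnn 0 2 (by decide), hsym 2 0, hnn 0 3 (by decide), hsym 3 0, hnn 0 4 (by decide), hsym 4 0, l01, r01, l12, r12, l23, r23, l34, r34, cL0, cR0, cL1, gR1]
          · linarith [hd 1, hwp 1, hsym 1 0, hnn 0 1 (by decide), hnn 1 2 (by decide), hsym 2 1, hnn 1 3 (by decide), hsym 3 1, hnn 1 4 (by decide), hsym 4 1, l01, r01, l12, r12, l23, r23, l34, r34, cL0, cR0, cL1, gR1]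
          · linarith [hd 2, hwp 2, hsym 2 0, hnn 0 2 (by decide), hsym 2 1, hnn 1 2 (by decide), hnn 2 3 (by decide), hsym 3 2, hnn 2 4 (by decide), hsym 4 2, l01, r01, l12, r12, l23, r23, l34, r34, cL0, cR0, cL1, gR1]
          · linarith [hd 3, hwp 3, hsym 3 0, hnn 0 3 (by decide), hsym 3 1, hnn 1 3 (by decide), hsym 3 2, hnn 2 3 (by decide), hnn 3 4 (by decide), hsym 4 3, l01, r01, l12, r12, l23, r23, l34, r34, cL0, cR0, cL1, gR1]
          · linarith [hd 4, hwp 4, hsym 4 0, hnn 0 4 (by decide), hsym 4 1, hnn 1 4 (by decide), hsym 4 2, hnn 2 4 (by decide), hsym 4 3, hnn 3 4 (by decide), l01, r01, l12, r12, l23, r23, l34, r34, cL0, cR0, cL1, gR1]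
      · rcases Groth.Agent.H4.NumType.eq_or_two_le_right T p12 with cR1 | gR1
        · exfalso
          refine Groth.Agent.H4.NumType.key_emb T v (by omega) ![2, 4, 3, 2, 1] (by decide) ⟨0, by decide⟩ ?_
          intro l hl
          fin_cases l <;> simp [Fin.sum_univ_succ] at hl ⊢
          · linarith [hd 0, hwp 0, hnn 0 1 (by decide), hsym 1 0, hnn 0 2 (by decide), hsym 2 0, hnn 0 3 (by decide), hsym 3 0, hnn 0 4 (by decide), hsym 4 0, l01, r01, l12, r12, l23, r23, l34, r34, cL0, cR0, gL1, cR1]
          · linarith [hd 1, hwp 1, hsym 1 0, hnn 0 1 (by decide), hnn 1 2 (by decide), hsym 2 1, hnn 1 3 (by decide), hsym 3 1, hnn 1 4 (by decide), hsym 4 1, l01, r01, l12, r12, l23, r23, l34, r34, cL0, cR0, gL1, cR1]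
          · linarith [hd 2, hwp 2, hsym 2 0, hnn 0 2 (by decide), hsym 2 1, hnn 1 2 (by decide), hnn 2 3 (by decide), hsym 3 2, hnn 2 4 (by decide), hsym 4 2, l01, r01, l12, r12, l23, r23, l34, r34, cL0, cR0, gL1, cR1]
          · linarith [hd 3, hwp 3, hsym 3 0, hnn 0 3 (by decide), hsym 3 1, hnn 1 3 (by decide), hsym 3 2, hnn 2 3 (by decide), hnn 3 4 (by decide), hsym 4 3, l01, r01, l12, r12, l23, r23, l34, r34, cL0, cR0, gL1, cR1]
          · linarith [hd 4, hwp 4, hsym 4 0, hnn 0 4 (by decide), hsym 4 1, hnn 1 4 (by decide), hsym 4 2, hnn 2 4 (by decide), hsym 4 3, hnn 3 4 (by decide), l01, r01, l12, r12, l23, r23, l34, r34, cL0, cR0, gL1, cR1]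
        · exfalso
          refine Groth.Agent.H4.NumType.key_emb T v (by omega) ![0, 1, 1, 0, 0] (by decide) ⟨1, by decide⟩ ?_
          intro l hl
          fin_cases l <;> simp [Fin.sum_univ_succ] at hl ⊢
          · linarith [hd 1, hwp 1, hsym 1 0, hnn 0 1 (by decide), hnn 1 2 (by decide), hsym 2 1, hnn 1 3 (by decide), hsym 3 1, hnn 1 4 (by decide), hsym 4 1, l01, r01, l12, r12, l23, r23, l34, r34, cL0, cR0, gL1, gR1]
          · linarith [hd 2, hwp 2, hsym 2 0, hnn 0 2 (by decide), hsym 2 1, hnn 1 2 (by decide), hnn 2 3 (by decide), hsym 3 2, hnn 2 4 (by decide), hsym 4 2, l01, r01, l12, r12, l23, r23, l34, r34, cL0, cR0, gL1, gR1]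
    · have dR0 : T.a (v 0) (v 1) = 2 * T.w (v 1) := by
        rcases Groth.Agent.H4.NumType.eq_two_or_three_le_right T gR0 with h | hcon
        · exact h
        · exfalso
          refine Groth.Agent.H4.NumType.key_emb T v (by omega) ![1, 2, 1, 0, 0] (by decide) ⟨0, by decide⟩ ?_
          intro l hl
          fin_cases l <;> simp [Fin.sum_univ_succ] at hl ⊢
          · linarith [hd 0, hwp 0, hnn 0 1 (by decide), hsym 1 0, hnn 0 2 (by decide), hsym 2 0, hnn 0 3 (by decide), hsym 3 0, hnn 0 4 (by decide), hsym 4 0, l01, r01, l12, r12, l23, r23, l34, r34, hcon, cL0, gR0]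
          · linarith [hd 1, hwp 1, hsym 1 0, hnn 0 1 (by decide), hnn 1 2 (by decide), hsym 2 1, hnn 1 3 (by decide), hsym 3 1, hnn 1 4 (by decide), hsym 4 1, l01, r01, l12, r12, l23, r23, l34, r34, hcon, cL0, gR0]
          · linarith [hd 2, hwp 2, hsym 2 0, hnn 0 2 (by decide), hsym 2 1, hnn 1 2 (by decide), hnn 2 3 (by decide), hsym 3 2, hnn 2 4 (by decide), hsym 4 2, l01, r01, l12, r12, l23, r23, l34, r34, hcon, cL0, gR0]
      rcases Groth.Agent.H4.NumType.eq_or_two_le_left T p12 with cL1 | gL1
      · rcases Groth.Agent.H4.NumType.eq_or_two_le_right T p12 with cR1 | gR1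
        · rcases Groth.Agent.H4.NumType.eq_or_two_le_left T p23 with cL2 | gL2
          · rcases Groth.Agent.H4.NumType.eq_or_two_le_right T p23 with cR2 | gR2
            · rcases Groth.Agent.H4.NumType.eq_or_two_le_left T p34 with cL3 | gL3
              · rcases Groth.Agent.H4.NumType.eq_or_two_le_right T p34 with cR3 | gR3
                · have hw0 : T.w (v 0) = 2 * T.w (v 1) := by linarith [cL0, gR0, dR0, cL1, cR1, cL2, cR2, cL3, cR3]
                  have hw1 : T.w (v 1) = T.w (v 1) := by linarith [cL0, gR0, dR0, cL1, cR1, cL2, cR2, cL3, cR3]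
                  have hw2 : T.w (v 2) = T.w (v 1) := by linarith [cL0, gR0, dR0, cL1, cR1, cL2, cR2, cL3, cR3]
                  have hw3 : T.w (v 3) = T.w (v 1) := by linarith [cL0, gR0, dR0, cL1, cR1, cL2, cR2, cL3, cR3]
                  have hw4 : T.w (v 4) = T.w (v 1) := by linarith [cL0, gR0, dR0, cL1, cR1, cL2, cR2, cL3, cR3]
                  have ha0 : T.a (v 0) (v 1) = 2 * T.w (v 1) := by linarith [cL0, gR0, dR0, cL1, cR1, cL2, cR2, cL3, cR3]
                  have ha1 : T.a (v 1) (v 2) = T.w (v 1) := by linarith [cL0, gR0, dR0, cL1, cR1, cL2, cR2, cL3, cR3]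
                  have ha2 : T.a (v 2) (v 3) = T.w (v 1) := by linarith [cL0, gR0, dR0, cL1, cR1, cL2, cR2, cL3, cR3]
                  have ha3 : T.a (v 3) (v 4) = T.w (v 1) := by linarith [cL0, gR0, dR0, cL1, cR1, cL2, cR2, cL3, cR3]
                  refine ⟨fun j => v (Fin.rev j), T.w (v 1), Or.inr (fun j => rfl), ?_⟩
                  refine Or.inr (Or.inl ?_)
                  show T.w (v 4) = T.w (v 1) ∧ T.w (v 3) = T.w (v 1) ∧ T.w (v 2) = T.w (v 1) ∧ T.w (v 1) = T.w (v 1) ∧ T.w (v 0) = 2 * T.w (v 1) ∧ T.a (v 4) (v 3) = T.w (v 1) ∧ T.a (v 3) (v 2) = T.w (v 1) ∧ T.a (v 2) (v 1) = T.w (v 1) ∧ T.a (v 1) (v 0) = 2 * T.w (v 1) ∧ T.m (v 3) ≤ 2 * T.m (v 4) ∧ T.m (v 4) + T.m (v 2) ≤ 2 * T.m (v 3) ∧ T.m (v 3) + T.m (v 1) ≤ 2 * T.m (v 2) ∧ T.m (v 2) + 2 * T.m (v 0) ≤ 2 * T.m (v 1) ∧ T.m (v 1) ≤ 2 * T.m (v 0)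
                  refine ⟨?_, ?_, ?_, ?_, ?_, ?_, ?_, ?_, ?_, ?_, ?_, ?_, ?_, ?_⟩
                  · exact hw4
                  · exact hw3
                  · exact hw2
                  · exact hw1
                  · exact hw0
                  · linarith [ha3, hsym 4 3]
                  · linarith [ha2, hsym 3 2]
                  · linarith [ha1, hsym 2 1]
                  · linarith [ha0, hsym 1 0]
                  · have hrow := Groth.Agent.H4.NumType.row_le T v 4
                    simp [Fin.sum_univ_succ] at hrow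
                    have q0 : T.a (v 4) (v 0) = 0 := by linarith [z04, hsym 4 0]
                    have q1 : T.a (v 4) (v 1) = 0 := by linarith [z14, hsym 4 1]
                    have q2 : T.a (v 4) (v 2) = 0 := by linarith [z24, hsym 4 2]
                    have q3 : T.a (v 4) (v 3) = T.w (v 1) := by linarith [ha3, hsym 4 3]
                    have q4 : T.a (v 4) (v 4) = -2 * T.w (v 1) := by linarith [hd 4, hw4]
                    rw [q0, q1, q2, q3, q4] at hrow
                    apply cancel (hwp 1)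
                    linarith
                  · have hrow := Groth.Agent.H4.NumType.row_le T v 3
                    simp [Fin.sum_univ_succ] at hrow
                    have q0 : T.a (v 3) (v 0) = 0 := by linarith [z03, hsym 3 0]
                    have q1 : T.a (v 3) (v 1) = 0 := by linarith [z13, hsym 3 1]
                    have q2 : T.a (v 3) (v 2) = T.w (v 1) := by linarith [ha2, hsym 3 2]
                    have q3 : T.a (v 3) (v 3) = -2 * T.w (v 1) := by linarith [hd 3, hw3]
                    have q4 : T.a (v 3) (v 4) = T.w (v 1) := by linarith [ha3]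
                    rw [q0, q1, q2, q3, q4] at hrow
                    apply cancel (hwp 1)
                    linarith
                  · have hrow := Groth.Agent.H4.NumType.row_le T v 2
                    simp [Fin.sum_univ_succ] at hrow
                    have q0 : T.a (v 2) (v 0) = 0 := by linarith [z02, hsym 2 0]
                    have q1 : T.a (v 2) (v 1) = T.w (v 1) := by linarith [ha1, hsym 2 1]
                    have q2 : T.a (v 2) (v 2) = -2 * T.w (v 1) := by linarith [hd 2, hw2]
                    have q3 : T.a (v 2) (v 3) = T.w (v 1) := by linarith [ha2]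
                    have q4 : T.a (v 2) (v 4) = 0 := by linarith [z24]
                    rw [q0, q1, q2, q3, q4] at hrow
                    apply cancel (hwp 1)
                    linarith
                  · have hrow := Groth.Agent.H4.NumType.row_le T v 1
                    simp [Fin.sum_univ_succ] at hrow
                    have q0 : T.a (v 1) (v 0) = 2 * T.w (v 1) := by linarith [ha0, hsym 1 0]
                    have q1 : T.a (v 1) (v 1) = -2 * T.w (v 1) := by linarith [hd 1, hw1]
                    have q2 : T.a (v 1) (v 2) = T.w (v 1) := by linarith [ha1]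
                    have q3 : T.a (v 1) (v 3) = 0 := by linarith [z13]
                    have q4 : T.a (v 1) (v 4) = 0 := by linarith [z14]
                    rw [q0, q1, q2, q3, q4] at hrow
                    apply cancel (hwp 1)
                    linarith
                  · have hrow := Groth.Agent.H4.NumType.row_le T v 0
                    simp [Fin.sum_univ_succ] at hrow
                    have q0 : T.a (v 0) (v 0) = -4 * T.w (v 1) := by linarith [hd 0, hw0]
                    have q1 : T.a (v 0) (v 1) = 2 * T.w (v 1) := by linarith [ha0]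
                    have q2 : T.a (v 0) (v 2) = 0 := by linarith [z02]
                    have q3 : T.a (v 0) (v 3) = 0 := by linarith [z03]
                    have q4 : T.a (v 0) (v 4) = 0 := by linarith [z04]
                    rw [q0, q1, q2, q3, q4] at hrow
                    apply cancel (hwp 1)
                    linarith
                · exfalso
                  refine Groth.Agent.H4.NumType.key_emb T v (by omega) ![1, 2, 2, 2, 2] (by decide) ⟨0, by decide⟩ ?_
                  intro l hl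
                  fin_cases l <;> simp [Fin.sum_univ_succ] at hl ⊢
                  · linarith [hd 0, hwp 0, hnn 0 1 (by decide), hsym 1 0, hnn 0 2 (by decide), hsym 2 0, hnn 0 3 (by decide), hsym 3 0, hnn 0 4 (by decide), hsym 4 0, l01, r01, l12, r12, l23, r23, l34, r34, cL0, gR0, dR0, cL1, cR1, cL2, cR2, cL3, gR3]
                  · linarith [hd 1, hwp 1, hsym 1 0, hnn 0 1 (by decide), hnn 1 2 (by decide), hsym 2 1, hnn 1 3 (by decide), hsym 3 1, hnn 1 4 (by decide), hsym 4 1, l01, r01, l12, r12, l23, r23, l34, r34, cL0, gR0, dR0, cL1, cR1, cL2, cR2, cL3, gR3]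
                  · linarith [hd 2, hwp 2, hsym 2 0, hnn 0 2 (by decide), hsym 2 1, hnn 1 2 (by decide), hnn 2 3 (by decide), hsym 3 2, hnn 2 4 (by decide), hsym 4 2, l01, r01, l12, r12, l23, r23, l34, r34, cL0, gR0, dR0, cL1, cR1, cL2, cR2, cL3, gR3]
                  · linarith [hd 3, hwp 3, hsym 3 0, hnn 0 3 (by decide), hsym 3 1, hnn 1 3 (by decide), hsym 3 2, hnn 2 3 (by decide), hnn 3 4 (by decide), hsym 4 3, l01, r01, l12, r12, l23, r23, l34, r34, cL0, gR0, dR0, cL1, cR1, cL2, cR2, cL3, gR3]
                  · linarith [hd 4, hwp 4, hsym 4 0, hnn 0 4 (by decide), hsym 4 1, hnn 1 4 (by decide), hsym 4 2, hnn 2 4 (by decide), hsym 4 3, hnn 3 4 (by decide), l01, r01, l12, r12, l23, r23, l34, r34, cL0, gR0, dR0, cL1, cR1, cL2, cR2, cL3, gR3]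
              · rcases Groth.Agent.H4.NumType.eq_or_two_le_right T p34 with cR3 | gR3
                · exfalso
                  refine Groth.Agent.H4.NumType.key_emb T v (by omega) ![1, 2, 2, 2, 1] (by decide) ⟨0, by decide⟩ ?_
                  intro l hl
                  fin_cases l <;> simp [Fin.sum_univ_succ] at hl ⊢
                  · linarith [hd 0, hwp 0, hnn 0 1 (by decide), hsym 1 0, hnn 0 2 (by decide), hsym 2 0, hnn 0 3 (by decide), hsym 3 0, hnn 0 4 (by decide), hsym 4 0, l01, r01, l12, r12, l23, r23, l34, r34, cL0, gR0, dR0, cL1, cR1, cL2, cR2, gL3, cR3]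
                  · linarith [hd 1, hwp 1, hsym 1 0, hnn 0 1 (by decide), hnn 1 2 (by decide), hsym 2 1, hnn 1 3 (by decide), hsym 3 1, hnn 1 4 (by decide), hsym 4 1, l01, r01, l12, r12, l23, r23, l34, r34, cL0, gR0, dR0, cL1, cR1, cL2, cR2, gL3, cR3]
                  · linarith [hd 2, hwp 2, hsym 2 0, hnn 0 2 (by decide), hsym 2 1, hnn 1 2 (by decide), hnn 2 3 (by decide), hsym 3 2, hnn 2 4 (by decide), hsym 4 2, l01, r01, l12, r12, l23, r23, l34, r34, cL0, gR0, dR0, cL1, cR1, cL2, cR2, gL3, cR3]
                  · linarith [hd 3, hwp 3, hsym 3 0, hnn 0 3 (by decide), hsym 3 1, hnn 1 3 (by decide), hsym 3 2, hnn 2 3 (by decide), hnn 3 4 (by decide), hsym 4 3, l01, r01, l12, r12, l23, r23, l34, r34, cL0, gR0, dR0, cL1, cR1, cL2, cR2, gL3, cR3]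
                  · linarith [hd 4, hwp 4, hsym 4 0, hnn 0 4 (by decide), hsym 4 1, hnn 1 4 (by decide), hsym 4 2, hnn 2 4 (by decide), hsym 4 3, hnn 3 4 (by decide), l01, r01, l12, r12, l23, r23, l34, r34, cL0, gR0, dR0, cL1, cR1, cL2, cR2, gL3, cR3]
                · exfalso
                  refine Groth.Agent.H4.NumType.key_emb T v (by omega) ![0, 0, 0, 1, 1] (by decide) ⟨3, by decide⟩ ?_
                  intro l hl
                  fin_cases l <;> simp [Fin.sum_univ_succ] at hl ⊢
                  · linarith [hd 3, hwp 3, hsym 3 0, hnn 0 3 (by decide), hsym 3 1, hnn 1 3 (by decide), hsym 3 2, hnn 2 3 (by decide), hnn 3 4 (by decide), hsym 4 3, l01, r01, l12, r12, l23, r23, l34, r34, cL0, gR0, dR0, cL1, cR1, cL2, cR2, gL3, gR3]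
                  · linarith [hd 4, hwp 4, hsym 4 0, hnn 0 4 (by decide), hsym 4 1, hnn 1 4 (by decide), hsym 4 2, hnn 2 4 (by decide), hsym 4 3, hnn 3 4 (by decide), l01, r01, l12, r12, l23, r23, l34, r34, cL0, gR0, dR0, cL1, cR1, cL2, cR2, gL3, gR3]
            · exfalso
              refine Groth.Agent.H4.NumType.key_emb T v (by omega) ![1, 2, 2, 2, 0] (by decide) ⟨0, by decide⟩ ?_
              intro l hl
              fin_cases l <;> simp [Fin.sum_univ_succ] at hl ⊢
              · linarith [hd 0, hwp 0, hnn 0 1 (by decide), hsym 1 0, hnn 0 2 (by decide), hsym 2 0, hnn 0 3 (by decide), hsym 3 0, hnn 0 4 (by decide), hsym 4 0, l01, r01, l12, r12, l23, r23, l34, r34, cL0, gR0, dR0, cL1, cR1, cL2, gR2]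
              · linarith [hd 1, hwp 1, hsym 1 0, hnn 0 1 (by decide), hnn 1 2 (by decide), hsym 2 1, hnn 1 3 (by decide), hsym 3 1, hnn 1 4 (by decide), hsym 4 1, l01, r01, l12, r12, l23, r23, l34, r34, cL0, gR0, dR0, cL1, cR1, cL2, gR2]
              · linarith [hd 2, hwp 2, hsym 2 0, hnn 0 2 (by decide), hsym 2 1, hnn 1 2 (by decide), hnn 2 3 (by decide), hsym 3 2, hnn 2 4 (by decide), hsym 4 2, l01, r01, l12, r12, l23, r23, l34, r34, cL0, gR0, dR0, cL1, cR1, cL2, gR2]
              · linarith [hd 3, hwp 3, hsym 3 0, hnn 0 3 (by decide), hsym 3 1, hnn 1 3 (by decide), hsym 3 2, hnn 2 3 (by decide), hnn 3 4 (by decide), hsym 4 3, l01, r01, l12, r12, l23, r23, l34, r34, cL0, gR0, dR0, cL1, cR1, cL2, gR2]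
          · rcases Groth.Agent.H4.NumType.eq_or_two_le_right T p23 with cR2 | gR2
            · exfalso
              refine Groth.Agent.H4.NumType.key_emb T v (by omega) ![1, 2, 2, 1, 0] (by decide) ⟨0, by decide⟩ ?_
              intro l hl
              fin_cases l <;> simp [Fin.sum_univ_succ] at hl ⊢
              · linarith [hd 0, hwp 0, hnn 0 1 (by decide), hsym 1 0, hnn 0 2 (by decide), hsym 2 0, hnn 0 3 (by decide), hsym 3 0, hnn 0 4 (by decide), hsym 4 0, l01, r01, l12, r12, l23, r23, l34, r34, cL0, gR0, dR0, cL1, cR1, gL2, cR2]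
              · linarith [hd 1, hwp 1, hsym 1 0, hnn 0 1 (by decide), hnn 1 2 (by decide), hsym 2 1, hnn 1 3 (by decide), hsym 3 1, hnn 1 4 (by decide), hsym 4 1, l01, r01, l12, r12, l23, r23, l34, r34, cL0, gR0, dR0, cL1, cR1, gL2, cR2]
              · linarith [hd 2, hwp 2, hsym 2 0, hnn 0 2 (by decide), hsym 2 1, hnn 1 2 (by decide), hnn 2 3 (by decide), hsym 3 2, hnn 2 4 (by decide), hsym 4 2, l01, r01, l12, r12, l23, r23, l34, r34, cL0, gR0, dR0, cL1, cR1, gL2, cR2]
              · linarith [hd 3, hwp 3, hsym 3 0, hnn 0 3 (by decide), hsym 3 1, hnn 1 3 (by decide), hsym 3 2, hnn 2 3 (by decide), hnn 3 4 (by decide), hsym 4 3, l01, r01, l12, r12, l23, r23, l34, r34, cL0, gR0, dR0, cL1, cR1, gL2, cR2]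
            · exfalso
              refine Groth.Agent.H4.NumType.key_emb T v (by omega) ![0, 0, 1, 1, 0] (by decide) ⟨2, by decide⟩ ?_
              intro l hl
              fin_cases l <;> simp [Fin.sum_univ_succ] at hl ⊢
              · linarith [hd 2, hwp 2, hsym 2 0, hnn 0 2 (by decide), hsym 2 1, hnn 1 2 (by decide), hnn 2 3 (by decide), hsym 3 2, hnn 2 4 (by decide), hsym 4 2, l01, r01, l12, r12, l23, r23, l34, r34, cL0, gR0, dR0, cL1, cR1, gL2, gR2]
              · linarith [hd 3, hwp 3, hsym 3 0, hnn 0 3 (by decide), hsym 3 1, hnn 1 3 (by decide), hsym 3 2, hnn 2 3 (by decide), hnn 3 4 (by decide), hsym 4 3, l01, r01, l12, r12, l23, r23, l34, r34, cL0, gR0, dR0, cL1, cR1, gL2, gR2]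
        · exfalso
          refine Groth.Agent.H4.NumType.key_emb T v (by omega) ![1, 2, 2, 0, 0] (by decide) ⟨0, by decide⟩ ?_
          intro l hl
          fin_cases l <;> simp [Fin.sum_univ_succ] at hl ⊢
          · linarith [hd 0, hwp 0, hnn 0 1 (by decide), hsym 1 0, hnn 0 2 (by decide), hsym 2 0, hnn 0 3 (by decide), hsym 3 0, hnn 0 4 (by decide), hsym 4 0, l01, r01, l12, r12, l23, r23, l34, r34, cL0, gR0, dR0, cL1, gR1]
          · linarith [hd 1, hwp 1, hsym 1 0, hnn 0 1 (by decide), hnn 1 2 (by decide), hsym 2 1, hnn 1 3 (by decide), hsym 3 1, hnn 1 4 (by decide), hsym 4 1, l01, r01, l12, r12, l23, r23, l34, r34, cL0, gR0, dR0, cL1, gR1]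
          · linarith [hd 2, hwp 2, hsym 2 0, hnn 0 2 (by decide), hsym 2 1, hnn 1 2 (by decide), hnn 2 3 (by decide), hsym 3 2, hnn 2 4 (by decide), hsym 4 2, l01, r01, l12, r12, l23, r23, l34, r34, cL0, gR0, dR0, cL1, gR1]
      · rcases Groth.Agent.H4.NumType.eq_or_two_le_right T p12 with cR1 | gR1
        · exfalso
          refine Groth.Agent.H4.NumType.key_emb T v (by omega) ![1, 2, 1, 0, 0] (by decide) ⟨0, by decide⟩ ?_
          intro l hl
          fin_cases l <;> simp [Fin.sum_univ_succ] at hl ⊢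
          · linarith [hd 0, hwp 0, hnn 0 1 (by decide), hsym 1 0, hnn 0 2 (by decide), hsym 2 0, hnn 0 3 (by decide), hsym 3 0, hnn 0 4 (by decide), hsym 4 0, l01, r01, l12, r12, l23, r23, l34, r34, cL0, gR0, dR0, gL1, cR1]
          · linarith [hd 1, hwp 1, hsym 1 0, hnn 0 1 (by decide), hnn 1 2 (by decide), hsym 2 1, hnn 1 3 (by decide), hsym 3 1, hnn 1 4 (by decide), hsym 4 1, l01, r01, l12, r12, l23, r23, l34, r34, cL0, gR0, dR0, gL1, cR1]
          · linarith [hd 2, hwp 2, hsym 2 0, hnn 0 2 (by decide), hsym 2 1, hnn 1 2 (by decide), hnn 2 3 (by decide), hsym 3 2, hnn 2 4 (by decide), hsym 4 2, l01, r01, l12, r12, l23, r23, l34, r34, cL0, gR0, dR0, gL1, cR1]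
        · exfalso
          refine Groth.Agent.H4.NumType.key_emb T v (by omega) ![0, 1, 1, 0, 0] (by decide) ⟨1, by decide⟩ ?_
          intro l hl
          fin_cases l <;> simp [Fin.sum_univ_succ] at hl ⊢
          · linarith [hd 1, hwp 1, hsym 1 0, hnn 0 1 (by decide), hnn 1 2 (by decide), hsym 2 1, hnn 1 3 (by decide), hsym 3 1, hnn 1 4 (by decide), hsym 4 1, l01, r01, l12, r12, l23, r23, l34, r34, cL0, gR0, dR0, gL1, gR1]
          · linarith [hd 2, hwp 2, hsym 2 0, hnn 0 2 (by decide), hsym 2 1, hnn 1 2 (by decide), hnn 2 3 (by decide), hsym 3 2, hnn 2 4 (by decide), hsym 4 2, l01, r01, l12, r12, l23, r23, l34, r34, cL0, gR0, dR0, gL1, gR1]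
  · rcases Groth.Agent.H4.NumType.eq_or_two_le_right T p01 with cR0 | gR0
    · have dL0 : T.a (v 0) (v 1) = 2 * T.w (v 0) := by
        rcases Groth.Agent.H4.NumType.eq_two_or_three_le_left T gL0 with h | hcon
        · exact h
        · exfalso
          refine Groth.Agent.H4.NumType.key_emb T v (by omega) ![3, 2, 1, 0, 0] (by decide) ⟨0, by decide⟩ ?_
          intro l hl
          fin_cases l <;> simp [Fin.sum_univ_succ] at hl ⊢
          · linarith [hd 0, hwp 0, hnn 0 1 (by decide), hsym 1 0, hnn 0 2 (by decide), hsym 2 0, hnn 0 3 (by decide), hsym 3 0, hnn 0 4 (by decide), hsym 4 0, l01, r01, l12, r12, l23, r23, l34, r34, hcon, gL0, cR0]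
          · linarith [hd 1, hwp 1, hsym 1 0, hnn 0 1 (by decide), hnn 1 2 (by decide), hsym 2 1, hnn 1 3 (by decide), hsym 3 1, hnn 1 4 (by decide), hsym 4 1, l01, r01, l12, r12, l23, r23, l34, r34, hcon, gL0, cR0]
          · linarith [hd 2, hwp 2, hsym 2 0, hnn 0 2 (by decide), hsym 2 1, hnn 1 2 (by decide), hnn 2 3 (by decide), hsym 3 2, hnn 2 4 (by decide), hsym 4 2, l01, r01, l12, r12, l23, r23, l34, r34, hcon, gL0, cR0]
      rcases Groth.Agent.H4.NumType.eq_or_two_le_left T p12 with cL1 | gL1
      · rcases Groth.Agent.H4.NumType.eq_or_two_le_right T p12 with cR1 | gR1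
        · rcases Groth.Agent.H4.NumType.eq_or_two_le_left T p23 with cL2 | gL2
          · rcases Groth.Agent.H4.NumType.eq_or_two_le_right T p23 with cR2 | gR2
            · rcases Groth.Agent.H4.NumType.eq_or_two_le_left T p34 with cL3 | gL3
              · rcases Groth.Agent.H4.NumType.eq_or_two_le_right T p34 with cR3 | gR3
                · have hw0 : T.w (v 0) = T.w (v 0) := by linarith [gL0, cR0, dL0, cL1, cR1, cL2, cR2, cL3, cR3]
                  have hw1 : T.w (v 1) = 2 * T.w (v 0) := by linarith [gL0, cR0, dL0, cL1, cR1, cL2, cR2, cL3, cR3]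
                  have hw2 : T.w (v 2) = 2 * T.w (v 0) := by linarith [gL0, cR0, dL0, cL1, cR1, cL2, cR2, cL3, cR3]
                  have hw3 : T.w (v 3) = 2 * T.w (v 0) := by linarith [gL0, cR0, dL0, cL1, cR1, cL2, cR2, cL3, cR3]
                  have hw4 : T.w (v 4) = 2 * T.w (v 0) := by linarith [gL0, cR0, dL0, cL1, cR1, cL2, cR2, cL3, cR3]
                  have ha0 : T.a (v 0) (v 1) = 2 * T.w (v 0) := by linarith [gL0, cR0, dL0, cL1, cR1, cL2, cR2, cL3, cR3]
                  have ha1 : T.a (v 1) (v 2) = 2 * T.w (v 0) := by linarith [gL0, cR0, dL0, cL1, cR1, cL2, cR2, cL3, cR3]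
                  have ha2 : T.a (v 2) (v 3) = 2 * T.w (v 0) := by linarith [gL0, cR0, dL0, cL1, cR1, cL2, cR2, cL3, cR3]
                  have ha3 : T.a (v 3) (v 4) = 2 * T.w (v 0) := by linarith [gL0, cR0, dL0, cL1, cR1, cL2, cR2, cL3, cR3]
                  refine ⟨fun j => v (Fin.rev j), T.w (v 0), Or.inr (fun j => rfl), ?_⟩
                  refine Or.inr (Or.inr ?_)
                  show T.w (v 4) = 2 * T.w (v 0) ∧ T.w (v 3) = 2 * T.w (v 0) ∧ T.w (v 2) = 2 * T.w (v 0) ∧ T.w (v 1) = 2 * T.w (v 0) ∧ T.w (v 0) = T.w (v 0) ∧ T.a (v 4) (v 3) = 2 * T.w (v 0) ∧ T.a (v 3) (v 2) = 2 * T.w (v 0) ∧ T.a (v 2) (v 1) = 2 * T.w (v 0) ∧ T.a (v 1) (v 0) = 2 * T.w (v 0) ∧ T.m (v 3) ≤ 2 * T.m (v 4) ∧ T.m (v 4) + T.m (v 2) ≤ 2 * T.m (v 3) ∧ T.m (v 3) + T.m (v 1) ≤ 2 * T.m (v 2) ∧ T.m (v 2) + T.m (v 0) ≤ 2 * T.m (v 1) ∧ T.m (v 1) ≤ T.m (v 0)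
                  refine ⟨?_, ?_, ?_, ?_, ?_, ?_, ?_, ?_, ?_, ?_, ?_, ?_, ?_, ?_⟩
                  · exact hw4
                  · exact hw3
                  · exact hw2
                  · exact hw1
                  · exact hw0
                  · linarith [ha3, hsym 4 3]
                  · linarith [ha2, hsym 3 2]
                  · linarith [ha1, hsym 2 1]
                  · linarith [ha0, hsym 1 0]
                  · have hrow := Groth.Agent.H4.NumType.row_le T v 4
                    simp [Fin.sum_univ_succ] at hrow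
                    have q0 : T.a (v 4) (v 0) = 0 := by linarith [z04, hsym 4 0]
                    have q1 : T.a (v 4) (v 1) = 0 := by linarith [z14, hsym 4 1]
                    have q2 : T.a (v 4) (v 2) = 0 := by linarith [z24, hsym 4 2]
                    have q3 : T.a (v 4) (v 3) = 2 * T.w (v 0) := by linarith [ha3, hsym 4 3]
                    have q4 : T.a (v 4) (v 4) = -4 * T.w (v 0) := by linarith [hd 4, hw4]
                    rw [q0, q1, q2, q3, q4] at hrow
                    apply cancel (hwp 0)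
                    linarith
                  · have hrow := Groth.Agent.H4.NumType.row_le T v 3
                    simp [Fin.sum_univ_succ] at hrow
                    have q0 : T.a (v 3) (v 0) = 0 := by linarith [z03, hsym 3 0]
                    have q1 : T.a (v 3) (v 1) = 0 := by linarith [z13, hsym 3 1]
                    have q2 : T.a (v 3) (v 2) = 2 * T.w (v 0) := by linarith [ha2, hsym 3 2]
                    have q3 : T.a (v 3) (v 3) = -4 * T.w (v 0) := by linarith [hd 3, hw3]
                    have q4 : T.a (v 3) (v 4) = 2 * T.w (v 0) := by linarith [ha3]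
                    rw [q0, q1, q2, q3, q4] at hrow
                    apply cancel (hwp 0)
                    linarith
                  · have hrow := Groth.Agent.H4.NumType.row_le T v 2
                    simp [Fin.sum_univ_succ] at hrow
                    have q0 : T.a (v 2) (v 0) = 0 := by linarith [z02, hsym 2 0]
                    have q1 : T.a (v 2) (v 1) = 2 * T.w (v 0) := by linarith [ha1, hsym 2 1]
                    have q2 : T.a (v 2) (v 2) = -4 * T.w (v 0) := by linarith [hd 2, hw2]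
                    have q3 : T.a (v 2) (v 3) = 2 * T.w (v 0) := by linarith [ha2]
                    have q4 : T.a (v 2) (v 4) = 0 := by linarith [z24]
                    rw [q0, q1, q2, q3, q4] at hrow
                    apply cancel (hwp 0)
                    linarith
                  · have hrow := Groth.Agent.H4.NumType.row_le T v 1
                    simp [Fin.sum_univ_succ] at hrow
                    have q0 : T.a (v 1) (v 0) = 2 * T.w (v 0) := by linarith [ha0, hsym 1 0]
                    have q1 : T.a (v 1) (v 1) = -4 * T.w (v 0) := by linarith [hd 1, hw1]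
                    have q2 : T.a (v 1) (v 2) = 2 * T.w (v 0) := by linarith [ha1]
                    have q3 : T.a (v 1) (v 3) = 0 := by linarith [z13]
                    have q4 : T.a (v 1) (v 4) = 0 := by linarith [z14]
                    rw [q0, q1, q2, q3, q4] at hrow
                    apply cancel (hwp 0)
                    linarith
                  · have hrow := Groth.Agent.H4.NumType.row_le T v 0
                    simp [Fin.sum_univ_succ] at hrow
                    have q0 : T.a (v 0) (v 0) = -2 * T.w (v 0) := by linarith [hd 0, hw0]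
                    have q1 : T.a (v 0) (v 1) = 2 * T.w (v 0) := by linarith [ha0]
                    have q2 : T.a (v 0) (v 2) = 0 := by linarith [z02]
                    have q3 : T.a (v 0) (v 3) = 0 := by linarith [z03]
                    have q4 : T.a (v 0) (v 4) = 0 := by linarith [z04]
                    rw [q0, q1, q2, q3, q4] at hrow
                    apply cancel (hwp 0)
                    linarith
                · exfalso
                  refine Groth.Agent.H4.NumType.key_emb T v (by omega) ![1, 1, 1, 1, 1] (by decide) ⟨0, by decide⟩ ?_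
                  intro l hl
                  fin_cases l <;> simp [Fin.sum_univ_succ] at hl ⊢
                  · linarith [hd 0, hwp 0, hnn 0 1 (by decide), hsym 1 0, hnn 0 2 (by decide), hsym 2 0, hnn 0 3 (by decide), hsym 3 0, hnn 0 4 (by decide), hsym 4 0, l01, r01, l12, r12, l23, r23, l34, r34, gL0, cR0, dL0, cL1, cR1, cL2, cR2, cL3, gR3]
                  · linarith [hd 1, hwp 1, hsym 1 0, hnn 0 1 (by decide), hnn 1 2 (by decide), hsym 2 1, hnn 1 3 (by decide), hsym 3 1, hnn 1 4 (by decide), hsym 4 1, l01, r01, l12, r12, l23, r23, l34, r34, gL0, cR0, dL0, cL1, cR1, cL2, cR2, cL3, gR3]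
                  · linarith [hd 2, hwp 2, hsym 2 0, hnn 0 2 (by decide), hsym 2 1, hnn 1 2 (by decide), hnn 2 3 (by decide), hsym 3 2, hnn 2 4 (by decide), hsym 4 2, l01, r01, l12, r12, l23, r23, l34, r34, gL0, cR0, dL0, cL1, cR1, cL2, cR2, cL3, gR3]
                  · linarith [hd 3, hwp 3, hsym 3 0, hnn 0 3 (by decide), hsym 3 1, hnn 1 3 (by decide), hsym 3 2, hnn 2 3 (by decide), hnn 3 4 (by decide), hsym 4 3, l01, r01, l12, r12, l23, r23, l34, r34, gL0, cR0, dL0, cL1, cR1, cL2, cR2, cL3, gR3]
                  · linarith [hd 4, hwp 4, hsym 4 0, hnn 0 4 (by decide), hsym 4 1, hnn 1 4 (by decide), hsym 4 2, hnn 2 4 (by decide), hsym 4 3, hnn 3 4 (by decide), l01, r01, l12, r12, l23, r23, l34, r34, gL0, cR0, dL0, cL1, cR1, cL2, cR2, cL3, gR3]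
              · rcases Groth.Agent.H4.NumType.eq_or_two_le_right T p34 with cR3 | gR3
                · exfalso
                  refine Groth.Agent.H4.NumType.key_emb T v (by omega) ![2, 2, 2, 2, 1] (by decide) ⟨0, by decide⟩ ?_
                  intro l hl
                  fin_cases l <;> simp [Fin.sum_univ_succ] at hl ⊢
                  · linarith [hd 0, hwp 0, hnn 0 1 (by decide), hsym 1 0, hnn 0 2 (by decide), hsym 2 0, hnn 0 3 (by decide), hsym 3 0, hnn 0 4 (by decide), hsym 4 0, l01, r01, l12, r12, l23, r23, l34, r34, gL0, cR0, dL0, cL1, cR1, cL2, cR2, gL3, cR3]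
                  · linarith [hd 1, hwp 1, hsym 1 0, hnn 0 1 (by decide), hnn 1 2 (by decide), hsym 2 1, hnn 1 3 (by decide), hsym 3 1, hnn 1 4 (by decide), hsym 4 1, l01, r01, l12, r12, l23, r23, l34, r34, gL0, cR0, dL0, cL1, cR1, cL2, cR2, gL3, cR3]
                  · linarith [hd 2, hwp 2, hsym 2 0, hnn 0 2 (by decide), hsym 2 1, hnn 1 2 (by decide), hnn 2 3 (by decide), hsym 3 2, hnn 2 4 (by decide), hsym 4 2, l01, r01, l12, r12, l23, r23, l34, r34, gL0, cR0, dL0, cL1, cR1, cL2, cR2, gL3, cR3]
                  · linarith [hd 3, hwp 3, hsym 3 0, hnn 0 3 (by decide), hsym 3 1, hnn 1 3 (by decide), hsym 3 2, hnn 2 3 (by decide), hnn 3 4 (by decide), hsym 4 3, l01, r01, l12, r12, l23, r23, l34, r34, gL0, cR0, dL0, cL1, cR1, cL2, cR2, gL3, cR3]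
                  · linarith [hd 4, hwp 4, hsym 4 0, hnn 0 4 (by decide), hsym 4 1, hnn 1 4 (by decide), hsym 4 2, hnn 2 4 (by decide), hsym 4 3, hnn 3 4 (by decide), l01, r01, l12, r12, l23, r23, l34, r34, gL0, cR0, dL0, cL1, cR1, cL2, cR2, gL3, cR3]
                · exfalso
                  refine Groth.Agent.H4.NumType.key_emb T v (by omega) ![0, 0, 0, 1, 1] (by decide) ⟨3, by decide⟩ ?_
                  intro l hl
                  fin_cases l <;> simp [Fin.sum_univ_succ] at hl ⊢
                  · linarith [hd 3, hwp 3, hsym 3 0, hnn 0 3 (by decide), hsym 3 1, hnn 1 3 (by decide), hsym 3 2, hnn 2 3 (by decide), hnn 3 4 (by decide), hsym 4 3, l01, r01, l12, r12, l23, r23, l34, r34, gL0, cR0, dL0, cL1, cR1, cL2, cR2, gL3, gR3]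
                  · linarith [hd 4, hwp 4, hsym 4 0, hnn 0 4 (by decide), hsym 4 1, hnn 1 4 (by decide), hsym 4 2, hnn 2 4 (by decide), hsym 4 3, hnn 3 4 (by decide), l01, r01, l12, r12, l23, r23, l34, r34, gL0, cR0, dL0, cL1, cR1, cL2, cR2, gL3, gR3]
            · exfalso
              refine Groth.Agent.H4.NumType.key_emb T v (by omega) ![1, 1, 1, 1, 0] (by decide) ⟨0, by decide⟩ ?_
              intro l hl
              fin_cases l <;> simp [Fin.sum_univ_succ] at hl ⊢
              · linarith [hd 0, hwp 0, hnn 0 1 (by decide), hsym 1 0, hnn 0 2 (by decide), hsym 2 0, hnn 0 3 (by decide), hsym 3 0, hnn 0 4 (by decide), hsym 4 0, l01, r01, l12, r12, l23, r23, l34, r34, gL0, cR0, dL0, cL1, cR1, cL2, gR2]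
              · linarith [hd 1, hwp 1, hsym 1 0, hnn 0 1 (by decide), hnn 1 2 (by decide), hsym 2 1, hnn 1 3 (by decide), hsym 3 1, hnn 1 4 (by decide), hsym 4 1, l01, r01, l12, r12, l23, r23, l34, r34, gL0, cR0, dL0, cL1, cR1, cL2, gR2]
              · linarith [hd 2, hwp 2, hsym 2 0, hnn 0 2 (by decide), hsym 2 1, hnn 1 2 (by decide), hnn 2 3 (by decide), hsym 3 2, hnn 2 4 (by decide), hsym 4 2, l01, r01, l12, r12, l23, r23, l34, r34, gL0, cR0, dL0, cL1, cR1, cL2, gR2]
              · linarith [hd 3, hwp 3, hsym 3 0, hnn 0 3 (by decide), hsym 3 1, hnn 1 3 (by decide), hsym 3 2, hnn 2 3 (by decide), hnn 3 4 (by decide), hsym 4 3, l01, r01, l12, r12, l23, r23, l34, r34, gL0, cR0, dL0, cL1, cR1, cL2, gR2]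
          · rcases Groth.Agent.H4.NumType.eq_or_two_le_right T p23 with cR2 | gR2
            · exfalso
              refine Groth.Agent.H4.NumType.key_emb T v (by omega) ![2, 2, 2, 1, 0] (by decide) ⟨0, by decide⟩ ?_
              intro l hl
              fin_cases l <;> simp [Fin.sum_univ_succ] at hl ⊢
              · linarith [hd 0, hwp 0, hnn 0 1 (by decide), hsym 1 0, hnn 0 2 (by decide), hsym 2 0, hnn 0 3 (by decide), hsym 3 0, hnn 0 4 (by decide), hsym 4 0, l01, r01, l12, r12, l23, r23, l34, r34, gL0, cR0, dL0, cL1, cR1, gL2, cR2]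
              · linarith [hd 1, hwp 1, hsym 1 0, hnn 0 1 (by decide), hnn 1 2 (by decide), hsym 2 1, hnn 1 3 (by decide), hsym 3 1, hnn 1 4 (by decide), hsym 4 1, l01, r01, l12, r12, l23, r23, l34, r34, gL0, cR0, dL0, cL1, cR1, gL2, cR2]
              · linarith [hd 2, hwp 2, hsym 2 0, hnn 0 2 (by decide), hsym 2 1, hnn 1 2 (by decide), hnn 2 3 (by decide), hsym 3 2, hnn 2 4 (by decide), hsym 4 2, l01, r01, l12, r12, l23, r23, l34, r34, gL0, cR0, dL0, cL1, cR1, gL2, cR2]
              · linarith [hd 3, hwp 3, hsym 3 0, hnn 0 3 (by decide), hsym 3 1, hnn 1 3 (by decide), hsym 3 2, hnn 2 3 (by decide), hnn 3 4 (by decide), hsym 4 3, l01, r01, l12, r12, l23, r23, l34, r34, gL0, cR0, dL0, cL1, cR1, gL2, cR2]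
            · exfalso
              refine Groth.Agent.H4.NumType.key_emb T v (by omega) ![0, 0, 1, 1, 0] (by decide) ⟨2, by decide⟩ ?_
              intro l hl
              fin_cases l <;> simp [Fin.sum_univ_succ] at hl ⊢
              · linarith [hd 2, hwp 2, hsym 2 0, hnn 0 2 (by decide), hsym 2 1, hnn 1 2 (by decide), hnn 2 3 (by decide), hsym 3 2, hnn 2 4 (by decide), hsym 4 2, l01, r01, l12, r12, l23, r23, l34, r34, gL0, cR0, dL0, cL1, cR1, gL2, gR2]
              · linarith [hd 3, hwp 3, hsym 3 0, hnn 0 3 (by decide), hsym 3 1, hnn 1 3 (by decide), hsym 3 2, hnn 2 3 (by decide), hnn 3 4 (by decide), hsym 4 3, l01, r01, l12, r12, l23, r23, l34, r34, gL0, cR0, dL0, cL1, cR1, gL2, gR2]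
        · exfalso
          refine Groth.Agent.H4.NumType.key_emb T v (by omega) ![1, 1, 1, 0, 0] (by decide) ⟨0, by decide⟩ ?_
          intro l hl
          fin_cases l <;> simp [Fin.sum_univ_succ] at hl ⊢
          · linarith [hd 0, hwp 0, hnn 0 1 (by decide), hsym 1 0, hnn 0 2 (by decide), hsym 2 0, hnn 0 3 (by decide), hsym 3 0, hnn 0 4 (by decide), hsym 4 0, l01, r01, l12, r12, l23, r23, l34, r34, gL0, cR0, dL0, cL1, gR1]
          · linarith [hd 1, hwp 1, hsym 1 0, hnn 0 1 (by decide), hnn 1 2 (by decide), hsym 2 1, hnn 1 3 (by decide), hsym 3 1, hnn 1 4 (by decide), hsym 4 1, l01, r01, l12, r12, l23, r23, l34, r34, gL0, cR0, dL0, cL1, gR1]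
          · linarith [hd 2, hwp 2, hsym 2 0, hnn 0 2 (by decide), hsym 2 1, hnn 1 2 (by decide), hnn 2 3 (by decide), hsym 3 2, hnn 2 4 (by decide), hsym 4 2, l01, r01, l12, r12, l23, r23, l34, r34, gL0, cR0, dL0, cL1, gR1]
      · rcases Groth.Agent.H4.NumType.eq_or_two_le_right T p12 with cR1 | gR1
        · exfalso
          refine Groth.Agent.H4.NumType.key_emb T v (by omega) ![2, 2, 1, 0, 0] (by decide) ⟨0, by decide⟩ ?_
          intro l hl
          fin_cases l <;> simp [Fin.sum_univ_succ] at hl ⊢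
          · linarith [hd 0, hwp 0, hnn 0 1 (by decide), hsym 1 0, hnn 0 2 (by decide), hsym 2 0, hnn 0 3 (by decide), hsym 3 0, hnn 0 4 (by decide), hsym 4 0, l01, r01, l12, r12, l23, r23, l34, r34, gL0, cR0, dL0, gL1, cR1]
          · linarith [hd 1, hwp 1, hsym 1 0, hnn 0 1 (by decide), hnn 1 2 (by decide), hsym 2 1, hnn 1 3 (by decide), hsym 3 1, hnn 1 4 (by decide), hsym 4 1, l01, r01, l12, r12, l23, r23, l34, r34, gL0, cR0, dL0, gL1, cR1]
          · linarith [hd 2, hwp 2, hsym 2 0, hnn 0 2 (by decide), hsym 2 1, hnn 1 2 (by decide), hnn 2 3 (by decide), hsym 3 2, hnn 2 4 (by decide), hsym 4 2, l01, r01, l12, r12, l23, r23, l34, r34, gL0, cR0, dL0, gL1, cR1]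
        · exfalso
          refine Groth.Agent.H4.NumType.key_emb T v (by omega) ![0, 1, 1, 0, 0] (by decide) ⟨1, by decide⟩ ?_
          intro l hl
          fin_cases l <;> simp [Fin.sum_univ_succ] at hl ⊢
          · linarith [hd 1, hwp 1, hsym 1 0, hnn 0 1 (by decide), hnn 1 2 (by decide), hsym 2 1, hnn 1 3 (by decide), hsym 3 1, hnn 1 4 (by decide), hsym 4 1, l01, r01, l12, r12, l23, r23, l34, r34, gL0, cR0, dL0, gL1, gR1]
          · linarith [hd 2, hwp 2, hsym 2 0, hnn 0 2 (by decide), hsym 2 1, hnn 1 2 (by decide), hnn 2 3 (by decide), hsym 3 2, hnn 2 4 (by decide), hsym 4 2, l01, r01, l12, r12, l23, r23, l34, r34, gL0, cR0, dL0, gL1, gR1]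
    · exfalso
      refine Groth.Agent.H4.NumType.key_emb T v (by omega) ![1, 1, 0, 0, 0] (by decide) ⟨0, by decide⟩ ?_
      intro l hl
      fin_cases l <;> simp [Fin.sum_univ_succ] at hl ⊢
      · linarith [hd 0, hwp 0, hnn 0 1 (by decide), hsym 1 0, hnn 0 2 (by decide), hsym 2 0, hnn 0 3 (by decide), hsym 3 0, hnn 0 4 (by decide), hsym 4 0, l01, r01, l12, r12, l23, r23, l34, r34, gL0, gR0]
      · linarith [hd 1, hwp 1, hsym 1 0, hnn 0 1 (by decide), hnn 1 2 (by decide), hsym 2 1, hnn 1 3 (by decide), hsym 3 1, hnn 1 4 (by decide), hsym 4 1, l01, r01, l12, r12, l23, r23, l34, r34, gL0, gR0]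

end Groth.Agent.S7353
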