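import Groth.Statements.S7354
import Groth.Agent.H4.NumType3
import Groth.Agent.S7341
import Groth.Agent.S7353

set_option autoImplicit false
open Finset
open Models Models.NumericalType

namespace Groth.Agent.S7354

/-- arithmetic side goals about `Fin` values -/
local macro "fo" : tactic => `(tactic| first | rfl | omega | (dsimp only; omega) | (simp; omega) | simp)
/-- disequalities of `Fin` elements -/
local macro "fne" : tactic =>
  `(tactic| (intro h; have := congrArg Fin.val h; first | omega | (dsimp only at this; omega)))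

open Groth.Agent.H4.NumType in
/-- Non-adjacent chain vertices are orthogonal (cycle argument). -/
theorem vanish {n : ℕ} (T : Models.NumericalType n) (t : ℕ) (hn : t < n)
    (v : Fin t ↪ Fin n) (hv : ∀ j, T.IsMinusTwo (v j))
    (hchain : ∀ j j' : Fin t, j'.val = j.val + 1 → T.a (v j) (v j') ≠ 0)
    (j k : ℕ) (hjk : j + 2 ≤ k) (hk : k < t) :
    T.a (v ⟨j, by omega⟩) (v ⟨k, hk⟩) = 0 := by
  have hsym : ∀ i j, T.a (v i) (v j) = T.a (v j) (v i) := fun i j => a_symm T _ _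
  have hj0 : j < t := by omega
  have c1 := hchain
  have c2 : ∀ i i' : Fin t, i'.val = i.val + 1 → T.a (v i') (v i) ≠ 0 :=
    fun i i' h => by rw [hsym]; exact hchain i i' h
  by_contra hne
  have hne' : T.a (v ⟨k, hk⟩) (v ⟨j, hj0⟩) ≠ 0 := by rw [hsym]; exact hne
  let x : Fin t → ℤ := fun l => if j ≤ l.val ∧ l.val ≤ k then 1 else 0
  have hx1 : ∀ l : Fin t, j ≤ l.val → l.val ≤ k → x l = 1 := fun l h h' => if_pos ⟨h, h'⟩
  have hx0 : ∀ l : Fin t, ¬ (j ≤ l.val ∧ l.val ≤ k) → x l = 0 := fun l h => if_neg h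
  refine key_graph3 T v hn hv x ?_ ⟨⟨j, hj0⟩, by rw [hx1 _ (by fo) (by fo)]; norm_num⟩ ?_
  · intro l
    simp only [x]
    split_ifs <;> norm_num
  intro l hl
  have hlt := l.isLt
  have hin : j ≤ l.val ∧ l.val ≤ k := by
    by_contra hcon
    rw [hx0 l hcon] at hl
    exact lt_irrefl _ hl
  right; left
  by_cases e0 : l.val = j
  · have hl' : l = ⟨j, hj0⟩ := Fin.ext e0
    refine ⟨⟨j + 1, by omega⟩, ⟨k, hk⟩, by fne, by fne, by fne, c1 l ⟨j + 1, by omega⟩ (by fo), ?_, ?_⟩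
    · rw [hl']; exact hne
    · rw [hx1 l (by omega) (by omega), hx1 ⟨j + 1, by omega⟩ (by fo) (by fo), hx1 ⟨k, hk⟩ (by fo) (by fo)]
      norm_num
  by_cases e1 : l.val = k
  · have hl' : l = ⟨k, hk⟩ := Fin.ext e1
    refine ⟨⟨k - 1, by omega⟩, ⟨j, hj0⟩, by fne, by fne, by fne, c2 ⟨k - 1, by omega⟩ l (by fo), ?_, ?_⟩
    · rw [hl']; exact hne'
    · rw [hx1 l (by omega) (by omega), hx1 ⟨k - 1, by omega⟩ (by fo) (by fo), hx1 ⟨j, hj0⟩ (by fo) (by fo)]
      norm_num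
  · refine ⟨⟨l.val - 1, by omega⟩, ⟨l.val + 1, by omega⟩, by fne, by fne, by fne,
      c2 ⟨l.val - 1, by omega⟩ l (by fo), c1 l ⟨l.val + 1, by omega⟩ (by fo), ?_⟩
    rw [hx1 l (by omega) (by omega), hx1 ⟨l.val - 1, by omega⟩ (by fo) (by fo),
      hx1 ⟨l.val + 1, by omega⟩ (by fo) (by fo)]
    norm_num

open Groth.Agent.H4.NumType in
/-- Both end edges of a long chain cannot be doubled. `p`, `q` are the coordinates of the test vector at the
two ends (1 or 2). -/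
theorem endend {n : ℕ} (T : Models.NumericalType n) (t : ℕ) (ht : 5 < t) (hn : t < n)
    (v : Fin t ↪ Fin n) (hv : ∀ j, T.IsMinusTwo (v j))
    (hchain : ∀ j j' : Fin t, j'.val = j.val + 1 → T.a (v j) (v j') ≠ 0)
    (p q : ℤ) (hp : 1 ≤ p) (hq : 1 ≤ q)
    (h1 : p * T.w (v ⟨0, by omega⟩) ≤ T.a (v ⟨0, by omega⟩) (v ⟨1, by omega⟩))
    (h2 : 2 * T.w (v ⟨1, by omega⟩) ≤ p * T.a (v ⟨0, by omega⟩) (v ⟨1, by omega⟩))
    (h3 : q * T.w (v ⟨t - 1, by omega⟩) ≤ T.a (v ⟨t - 2, by omega⟩) (v ⟨t - 1, by omega⟩))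
    (h4 : 2 * T.w (v ⟨t - 2, by omega⟩) ≤ q * T.a (v ⟨t - 2, by omega⟩) (v ⟨t - 1, by omega⟩)) : False := by
  have hsym : ∀ i j, T.a (v i) (v j) = T.a (v j) (v i) := fun i j => a_symm T _ _
  have i0 : 0 < t := by omega
  have i1 : 1 < t := by omega
  have i2 : t - 2 < t := by omega
  have i3 : t - 1 < t := by omega
  have lb : ∀ i i' : Fin t, i ≠ i' → T.a (v i) (v i') ≠ 0 → T.w (v i) ≤ T.a (v i) (v i') :=
    fun i i' hne h => w_le_left T (pos_of_ne T (v.injective.ne hne) h)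
  have c1 : ∀ i i' : Fin t, i'.val = i.val + 1 → T.w (v i) ≤ T.a (v i) (v i') :=
    fun i i' h => lb i i' (by fne) (hchain i i' h)
  have c2 : ∀ i i' : Fin t, i'.val = i.val + 1 → T.w (v i') ≤ T.a (v i') (v i) :=
    fun i i' h => lb i' i (by fne) (by rw [hsym]; exact hchain i i' h)
  let x : Fin t → ℤ := fun l => if l.val = 0 then p else if l.val = t - 1 then q else 2
  have hxp : ∀ l : Fin t, l.val = 0 → x l = p := fun l h => if_pos h
  have hxq : ∀ l : Fin t, l.val = t - 1 → x l = q := fun l h => by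
    simp only [x]; rw [if_neg (by omega), if_pos h]
  have hx2 : ∀ l : Fin t, 0 < l.val → l.val < t - 1 → x l = 2 := fun l h h' => by
    simp only [x]; rw [if_neg (by omega), if_neg (by omega)]
  refine key_nb3 T v hn hv x ?_ ⟨⟨1, i1⟩, by rw [hx2 _ (by fo) (by fo)]; norm_num⟩ ?_
  · intro l
    simp only [x]
    split_ifs <;> omega
  intro l _
  have hlt := l.isLt
  by_cases e0 : l.val = 0
  · have hl' : l = ⟨0, i0⟩ := Fin.ext e0
    left
    refine ⟨⟨1, i1⟩, by fne, ?_⟩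
    rw [hl', hxp ⟨0, i0⟩ rfl, hx2 ⟨1, i1⟩ (by fo) (by fo)]
    linarith
  by_cases e1 : l.val = 1
  · have hl' : l = ⟨1, i1⟩ := Fin.ext e1
    right; left
    refine ⟨⟨0, i0⟩, ⟨2, by omega⟩, by fne, by fne, by fne, ?_⟩
    rw [hl', hx2 ⟨1, i1⟩ (by fo) (by fo), hxp ⟨0, i0⟩ rfl, hx2 ⟨2, by omega⟩ (by fo) (by fo),
      hsym ⟨1, i1⟩ ⟨0, i0⟩]
    have := c1 ⟨1, i1⟩ ⟨2, by omega⟩ (by fo)
    linarith
  by_cases e2 : l.val = t - 1
  · have hl' : l = ⟨t - 1, i3⟩ := Fin.ext e2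
    left
    refine ⟨⟨t - 2, i2⟩, by fne, ?_⟩
    rw [hl', hxq ⟨t - 1, i3⟩ rfl, hx2 ⟨t - 2, i2⟩ (by fo) (by fo), hsym ⟨t - 1, i3⟩ ⟨t - 2, i2⟩]
    linarith
  by_cases e3 : l.val = t - 2
  · have hl' : l = ⟨t - 2, i2⟩ := Fin.ext e3
    right; left
    refine ⟨⟨t - 3, by omega⟩, ⟨t - 1, i3⟩, by fne, by fne, by fne, ?_⟩
    rw [hl', hx2 ⟨t - 2, i2⟩ (by fo) (by fo), hx2 ⟨t - 3, by omega⟩ (by fo) (by fo), hxq ⟨t - 1, i3⟩ rfl]
    have := c2 ⟨t - 3, by omega⟩ ⟨t - 2, i2⟩ (by fo)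
    linarith
  · right; left
    refine ⟨⟨l.val - 1, by omega⟩, ⟨l.val + 1, by omega⟩, by fne, by fne, by fne, ?_⟩
    rw [hx2 l (by omega) (by omega), hx2 ⟨l.val - 1, by omega⟩ (by fo) (by fo),
      hx2 ⟨l.val + 1, by omega⟩ (by fo) (by fo)]
    have := c2 ⟨l.val - 1, by omega⟩ l (by fo)
    have := c1 l ⟨l.val + 1, by omega⟩ (by fo)
    linarith


open Groth.Agent.H4.NumType in
/-- A window of five consecutive vertices: the two middle edges are simple. -/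
theorem window {n : ℕ} (T : Models.NumericalType n) (t : ℕ) (hn : t < n)
    (v : Fin t ↪ Fin n) (hv : ∀ j, T.IsMinusTwo (v j))
    (hchain : ∀ j j' : Fin t, j'.val = j.val + 1 → T.a (v j) (v j') ≠ 0)
    (s : ℕ) (hs : s + 5 ≤ t) :
    T.w (v ⟨s + 1, by omega⟩) = T.w (v ⟨s + 2, by omega⟩) ∧
    T.w (v ⟨s + 2, by omega⟩) = T.w (v ⟨s + 3, by omega⟩) ∧
    T.a (v ⟨s + 1, by omega⟩) (v ⟨s + 2, by omega⟩) = T.w (v ⟨s + 1, by omega⟩) ∧
    T.a (v ⟨s + 2, by omega⟩) (v ⟨s + 3, by omega⟩) = T.w (v ⟨s + 2, by omega⟩) := by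
  have hsym : ∀ i j, T.a (v i) (v j) = T.a (v j) (v i) := fun i j => a_symm T _ _
  have i0 : s < t := by omega
  have i1 : s + 1 < t := by omega
  have i2 : s + 2 < t := by omega
  have i3 : s + 3 < t := by omega
  have i4 : s + 4 < t := by omega
  let f : Fin 5 → Fin t := ![⟨s, i0⟩, ⟨s + 1, i1⟩, ⟨s + 2, i2⟩, ⟨s + 3, i3⟩, ⟨s + 4, i4⟩]
  have hf : Function.Injective f := by
    intro a b hab
    fin_cases a <;> fin_cases b <;> simp [f, Fin.ext_iff] at hab ⊢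
  let u5 : Fin 5 ↪ Fin n := ⟨fun i => v (f i), fun a b hab => hf (v.injective hab)⟩
  have hu0 : u5 0 = v ⟨s, i0⟩ := rfl
  have hu1 : u5 1 = v ⟨s + 1, i1⟩ := rfl
  have hu2 : u5 2 = v ⟨s + 2, i2⟩ := rfl
  have hu3 : u5 3 = v ⟨s + 3, i3⟩ := rfl
  have hu4 : u5 4 = v ⟨s + 4, i4⟩ := rfl
  have r0 : Fin.rev (0 : Fin 5) = 4 := by decide
  have r1 : Fin.rev (1 : Fin 5) = 3 := by decide
  have r2 : Fin.rev (2 : Fin 5) = 2 := by decide
  have r3 : Fin.rev (3 : Fin 5) = 1 := by decide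
  have r4 : Fin.rev (4 : Fin 5) = 0 := by decide
  obtain ⟨-, u, w, hor, hty⟩ := Groth.Agent.S7353.result T (by omega) u5 (fun j => hv _)
    (by rw [hu0, hu1]; exact hchain _ _ (by fo))
    (by rw [hu1, hu2]; exact hchain _ _ (by fo))
    (by rw [hu2, hu3]; exact hchain _ _ (by fo))
    (by rw [hu3, hu4]; exact hchain _ _ (by fo))
  have s12 := hsym ⟨s + 1, i1⟩ ⟨s + 2, i2⟩
  have s23 := hsym ⟨s + 2, i2⟩ ⟨s + 3, i3⟩
  rcases hor with hor | hor
  · simp only [hor, hu0, hu1, hu2, hu3, hu4] at hty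
    rcases hty with ⟨-, h1, h2, h3, -, -, a12, a23, -⟩ | ⟨-, h1, h2, h3, -, -, a12, a23, -⟩ |
      ⟨-, h1, h2, h3, -, -, a12, a23, -⟩ <;>
    exact ⟨by linarith, by linarith, by linarith, by linarith⟩
  · simp only [hor, r0, r1, r2, r3, r4, hu0, hu1, hu2, hu3, hu4] at hty
    rcases hty with ⟨-, h1, h2, h3, -, -, a12, a23, -⟩ | ⟨-, h1, h2, h3, -, -, a12, a23, -⟩ |
      ⟨-, h1, h2, h3, -, -, a12, a23, -⟩ <;>
    exact ⟨by linarith, by linarith, by linarith, by linarith⟩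

/-- Interior edges `m — m+1` (`1 ≤ m`, `m + 3 ≤ t`) are simple. -/
theorem interior {n : ℕ} (T : Models.NumericalType n) (t : ℕ) (ht : 5 < t) (hn : t < n)
    (v : Fin t ↪ Fin n) (hv : ∀ j, T.IsMinusTwo (v j))
    (hchain : ∀ j j' : Fin t, j'.val = j.val + 1 → T.a (v j) (v j') ≠ 0)
    (m : ℕ) (hm1 : 1 ≤ m) (hm : m + 3 ≤ t) :
    T.w (v ⟨m, by omega⟩) = T.w (v ⟨m + 1, by omega⟩) ∧
    T.a (v ⟨m, by omega⟩) (v ⟨m + 1, by omega⟩) = T.w (v ⟨m, by omega⟩) := by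
  by_cases hcase : m + 4 ≤ t
  · obtain ⟨h1, -, h3, -⟩ := window T t hn v hv hchain (m - 1) (by omega)
    have e1 : (⟨m - 1 + 1, by omega⟩ : Fin t) = ⟨m, by omega⟩ := Fin.ext (by fo)
    have e2 : (⟨m - 1 + 2, by omega⟩ : Fin t) = ⟨m + 1, by omega⟩ := Fin.ext (by fo)
    rw [e1, e2] at h1 h3
    exact ⟨h1, h3⟩
  · obtain ⟨-, h2, -, h4⟩ := window T t hn v hv hchain (m - 2) (by omega)
    have e1 : (⟨m - 2 + 2, by omega⟩ : Fin t) = ⟨m, by omega⟩ := Fin.ext (by fo)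
    have e2 : (⟨m - 2 + 3, by omega⟩ : Fin t) = ⟨m + 1, by omega⟩ := Fin.ext (by fo)
    rw [e1, e2] at h2 h4
    exact ⟨h2, h4⟩

open Groth.Agent.H4.NumType in
/-- Trichotomy for the first edge of a long chain. -/
theorem first_tri {n : ℕ} (T : Models.NumericalType n) (t : ℕ) (ht : 5 < t) (hn : t < n)
    (v : Fin t ↪ Fin n) (hv : ∀ j, T.IsMinusTwo (v j))
    (hchain : ∀ j j' : Fin t, j'.val = j.val + 1 → T.a (v j) (v j') ≠ 0) :
    (T.a (v ⟨0, by omega⟩) (v ⟨1, by omega⟩) = T.w (v ⟨0, by omega⟩) ∧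
        T.w (v ⟨0, by omega⟩) = T.w (v ⟨1, by omega⟩)) ∨
    (T.w (v ⟨0, by omega⟩) = 2 * T.w (v ⟨1, by omega⟩) ∧
        T.a (v ⟨0, by omega⟩) (v ⟨1, by omega⟩) = 2 * T.w (v ⟨1, by omega⟩)) ∨
    (T.w (v ⟨1, by omega⟩) = 2 * T.w (v ⟨0, by omega⟩) ∧
        T.a (v ⟨0, by omega⟩) (v ⟨1, by omega⟩) = T.w (v ⟨1, by omega⟩)) := by
  have hsym : ∀ i j, T.a (v i) (v j) = T.a (v j) (v i) := fun i j => a_symm T _ _
  have i0 : 0 < t := by omega
  have i1 : 1 < t := by omega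
  have i2 : 2 < t := by omega
  obtain ⟨hw12, ha12⟩ := interior T t ht hn v hv hchain 1 le_rfl (by omega)
  have hw1 := T.w_pos (v ⟨1, i1⟩)
  have p01 : 0 < T.a (v ⟨0, i0⟩) (v ⟨1, i1⟩) :=
    pos_of_ne T (v.injective.ne (by fne)) (hchain _ _ (by fo))
  have p12 : 0 < T.a (v ⟨1, i1⟩) (v ⟨2, i2⟩) :=
    pos_of_ne T (v.injective.ne (by fne)) (hchain _ _ (by fo))
  obtain ⟨-, i', k', w, hor, hty⟩ := Groth.Agent.S7341.result T (by omega) (v ⟨0, i0⟩) (v ⟨1, i1⟩) (v ⟨2, i2⟩)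
    (v.injective.ne (by fne)) (v.injective.ne (by fne)) (v.injective.ne (by fne)) (hv _) (hv _) (hv _) p01 p12
  have s10 := hsym ⟨1, i1⟩ ⟨0, i0⟩
  have s21 := hsym ⟨2, i2⟩ ⟨1, i1⟩
  rcases hor with ⟨rfl, rfl⟩ | ⟨rfl, rfl⟩ <;>
  rcases hty with ⟨h0, h1, h2, a1, a2, -⟩ | ⟨h0, h1, h2, a1, a2, -⟩ | ⟨h0, h1, h2, a1, a2, -⟩ <;>
  first
  | exact Or.inl ⟨by linarith, by linarith⟩
  | exact Or.inr (Or.inl ⟨by linarith, by linarith⟩)
  | exact Or.inr (Or.inr ⟨by linarith, by linarith⟩)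
  | (exfalso; linarith)

/-- The reversed chain. -/
def revEmb {n t : ℕ} (v : Fin t ↪ Fin n) : Fin t ↪ Fin n :=
  ⟨fun j => v (Fin.rev j), fun _ _ h => Fin.rev_injective (v.injective h)⟩

theorem rev_chain {n : ℕ} (T : Models.NumericalType n) (t : ℕ)
    (v : Fin t ↪ Fin n)
    (hchain : ∀ j j' : Fin t, j'.val = j.val + 1 → T.a (v j) (v j') ≠ 0) :
    ∀ j j' : Fin t, j'.val = j.val + 1 → T.a (revEmb v j) (revEmb v j') ≠ 0 := by
  intro j j' h
  show T.a (v (Fin.rev j)) (v (Fin.rev j')) ≠ 0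
  rw [Groth.Agent.H4.NumType.a_symm]
  apply hchain
  have := j'.isLt
  simp only [Fin.val_rev]
  omega

/-- The conclusion of the statement for a given orientation `u` and weight `w`. -/
def Concl {n : ℕ} (T : Models.NumericalType n) (t : ℕ) (u : Fin t → Fin n) (w : ℤ) : Prop :=
  (∀ j k : Fin t, j.val + 1 < k.val → T.a (u j) (u k) = 0) ∧
      ((∀ j : Fin t, T.w (u j) = w) ∧ (∀ j j' : Fin t, j'.val = j.val + 1 → T.a (u j) (u j') = w) ∨
        ((∀ j : Fin t, j.val + 1 < t → T.w (u j) = w) ∧ (∀ j : Fin t, j.val + 1 = t → T.w (u j) = 2 * w) ∧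
          (∀ j j' : Fin t, j'.val = j.val + 1 → j'.val + 1 < t → T.a (u j) (u j') = w) ∧
          (∀ j j' : Fin t, j'.val = j.val + 1 → j'.val + 1 = t → T.a (u j) (u j') = 2 * w)) ∨
        ((∀ j : Fin t, j.val + 1 < t → T.w (u j) = 2 * w) ∧ (∀ j : Fin t, j.val + 1 = t → T.w (u j) = w) ∧
          (∀ j j' : Fin t, j'.val = j.val + 1 → T.a (u j) (u j') = 2 * w)))

/-- If the first edge is simple, the chain is of type A, C or B in the given orientation. -/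
theorem core {n : ℕ} (T : Models.NumericalType n) (t : ℕ) (ht : 5 < t) (hn : t < n)
    (v : Fin t ↪ Fin n) (hv : ∀ j, T.IsMinusTwo (v j))
    (hchain : ∀ j j' : Fin t, j'.val = j.val + 1 → T.a (v j) (v j') ≠ 0)
    (hfirst : T.a (v ⟨0, by omega⟩) (v ⟨1, by omega⟩) = T.w (v ⟨0, by omega⟩) ∧
        T.w (v ⟨0, by omega⟩) = T.w (v ⟨1, by omega⟩)) :
    ∃ w : ℤ, Concl T t (fun j => v j) w := by
  have hsym : ∀ i j, T.a (v i) (v j) = T.a (v j) (v i) := fun i j => Groth.Agent.H4.NumType.a_symm T _ _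
  have i0 : 0 < t := by omega
  have i1 : 1 < t := by omega
  have j1 : t - 1 < t := by omega
  have j2 : t - 2 < t := by omega
  -- weights on 0 .. t-2
  have hw : ∀ (m : ℕ) (hm : m + 2 ≤ t), T.w (v ⟨m, by omega⟩) = T.w (v ⟨0, i0⟩) := by
    intro m
    induction m with
    | zero => intro _; rfl
    | succ m ih =>
      intro hm
      have ihm := ih (by omega)
      by_cases h0 : m = 0
      · subst h0
        exact hfirst.2.symm
      · obtain ⟨h1, -⟩ := interior T t ht hn v hv hchain m (by omega) (by omega)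
        rw [← h1]; exact ihm
  have ha : ∀ (m : ℕ) (hm : m + 3 ≤ t), T.a (v ⟨m, by omega⟩) (v ⟨m + 1, by omega⟩) = T.w (v ⟨0, i0⟩) := by
    intro m hm
    by_cases h0 : m = 0
    · subst h0
      exact hfirst.1
    · obtain ⟨-, h2⟩ := interior T t ht hn v hv hchain m (by omega) hm
      rw [h2]; exact hw m (by omega)
  have hvan : ∀ j k : Fin t, j.val + 1 < k.val → T.a (v j) (v k) = 0 := by
    intro j k hjk
    exact vanish T t hn v hv hchain j.val k.val (by omega) k.isLt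
  -- the last edge
  have e0 : Fin.rev (⟨0, i0⟩ : Fin t) = ⟨t - 1, j1⟩ := Fin.ext (by simp [Fin.val_rev])
  have e1 : Fin.rev (⟨1, i1⟩ : Fin t) = ⟨t - 2, j2⟩ := Fin.ext (by first | (simp [Fin.val_rev]; done) | (simp [Fin.val_rev]; omega))
  have tri := first_tri T t ht hn (revEmb v) (fun j => hv _) (rev_chain T t v hchain)
  have r0 : revEmb v ⟨0, i0⟩ = v ⟨t - 1, j1⟩ := by show v (Fin.rev _) = _; rw [e0]
  have r1 : revEmb v ⟨1, i1⟩ = v ⟨t - 2, j2⟩ := by show v (Fin.rev _) = _; rw [e1]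
  rw [r0, r1, hsym ⟨t - 1, j1⟩ ⟨t - 2, j2⟩] at tri
  have hw2 : T.w (v ⟨t - 2, j2⟩) = T.w (v ⟨0, i0⟩) := hw (t - 2) (by omega)
  rcases tri with ⟨t1, t2⟩ | ⟨t1, t2⟩ | ⟨t1, t2⟩
  · -- type A
    refine ⟨T.w (v ⟨0, i0⟩), hvan, Or.inl ⟨?_, ?_⟩⟩
    · intro j
      by_cases hj : j.val + 2 ≤ t
      · exact hw j.val hj
      · have hj' : j = ⟨t - 1, j1⟩ := Fin.ext (by have := j.isLt; fo)
        show T.w (v j) = _
        rw [hj']; linarith
    · intro j j' h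
      have := j'.isLt
      by_cases hj : j.val + 3 ≤ t
      · have hj' : j' = ⟨j.val + 1, by omega⟩ := Fin.ext h
        show T.a (v j) (v j') = _
        rw [hj']
        exact ha j.val hj
      · have hj2 : j = ⟨t - 2, j2⟩ := Fin.ext (by fo)
        have hj' : j' = ⟨t - 1, j1⟩ := Fin.ext (by fo)
        show T.a (v j) (v j') = _
        rw [hj2, hj']; linarith
  · -- type C
    refine ⟨T.w (v ⟨0, i0⟩), hvan, Or.inr (Or.inl ⟨?_, ?_, ?_, ?_⟩)⟩
    · intro j hj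
      exact hw j.val (by omega)
    · intro j hj
      have hj' : j = ⟨t - 1, j1⟩ := Fin.ext (by fo)
      show T.w (v j) = _
      rw [hj']; linarith
    · intro j j' h h'
      have hj' : j' = ⟨j.val + 1, by omega⟩ := Fin.ext h
      show T.a (v j) (v j') = _
      rw [hj']
      exact ha j.val (by omega)
    · intro j j' h h'
      have hj2 : j = ⟨t - 2, j2⟩ := Fin.ext (by fo)
      have hj' : j' = ⟨t - 1, j1⟩ := Fin.ext (by fo)
      show T.a (v j) (v j') = _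
      rw [hj2, hj']; linarith
  · -- type B
    refine ⟨T.w (v ⟨t - 1, j1⟩), hvan, Or.inr (Or.inr ⟨?_, ?_, ?_⟩)⟩
    · intro j hj
      show T.w (v j) = _
      exact (hw j.val (by omega)).trans (by linarith)
    · intro j hj
      have hj' : j = ⟨t - 1, j1⟩ := Fin.ext (by fo)
      show T.w (v j) = _
      rw [hj']
    · intro j j' h
      have := j'.isLt
      by_cases hj : j.val + 3 ≤ t
      · have hj' : j' = ⟨j.val + 1, by omega⟩ := Fin.ext h
        show T.a (v j) (v j') = _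
        rw [hj']
        exact (ha j.val hj).trans (by linarith)
      · have hj2 : j = ⟨t - 2, j2⟩ := Fin.ext (by fo)
        have hj' : j' = ⟨t - 1, j1⟩ := Fin.ext (by fo)
        show T.a (v j) (v j') = _
        rw [hj2, hj']; linarith

/-- Let T be a numerical type on n indices, t > 5 with n > t, and i_1, …, i_t distinct (-2)-indices with
a_{i_j i_{j+1}} nonzero for j = 1, …, t - 1. Then, after possibly reversing the order of the
indices, for some integer w either (A) w_{i_1} = … = w_{i_t} = w and a_{i_j i_{j+1}} = w for all j;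
or (C) w_{i_1} = … = w_{i_{t-1}} = w, w_{i_t} = 2w, a_{i_j i_{j+1}} = w for j < t - 1 and a_{i_{t-1}
i_t} = 2w; or (B) w_{i_1} = … = w_{i_{t-1}} = 2w, w_{i_t} = w and a_{i_j i_{j+1}} = 2w for all j;
and in every case a_{i_j i_k} = 0 whenever k > j + 1. -/
theorem result {n : ℕ} (T : Models.NumericalType n) (t : ℕ) (ht : 5 < t) (hn : t < n)
    (v : Fin t ↪ Fin n) (hv : ∀ j, T.IsMinusTwo (v j))
    (hchain : ∀ j j' : Fin t, j'.val = j.val + 1 → T.a (v j) (v j') ≠ 0) :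
    ∃ (u : Fin t → Fin n) (w : ℤ), ((∀ j, u j = v j) ∨ (∀ j, u j = v (Fin.rev j))) ∧
      (∀ j k : Fin t, j.val + 1 < k.val → T.a (u j) (u k) = 0) ∧
      ((∀ j : Fin t, T.w (u j) = w) ∧ (∀ j j' : Fin t, j'.val = j.val + 1 → T.a (u j) (u j') = w) ∨
        ((∀ j : Fin t, j.val + 1 < t → T.w (u j) = w) ∧ (∀ j : Fin t, j.val + 1 = t → T.w (u j) = 2 * w) ∧
          (∀ j j' : Fin t, j'.val = j.val + 1 → j'.val + 1 < t → T.a (u j) (u j') = w) ∧
          (∀ j j' : Fin t, j'.val = j.val + 1 → j'.val + 1 = t → T.a (u j) (u j') = 2 * w)) ∨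
        ((∀ j : Fin t, j.val + 1 < t → T.w (u j) = 2 * w) ∧ (∀ j : Fin t, j.val + 1 = t → T.w (u j) = w) ∧
          (∀ j j' : Fin t, j'.val = j.val + 1 → T.a (u j) (u j') = 2 * w))) := by
  have i0 : 0 < t := by omega
  have i1 : 1 < t := by omega
  have j1 : t - 1 < t := by omega
  have j2 : t - 2 < t := by omega
  have hsym : ∀ i j, T.a (v i) (v j) = T.a (v j) (v i) := fun i j => Groth.Agent.H4.NumType.a_symm T _ _
  have tri := first_tri T t ht hn v hv hchain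
  have hfirst_simple : (T.a (v ⟨0, i0⟩) (v ⟨1, i1⟩) = T.w (v ⟨0, i0⟩) ∧ T.w (v ⟨0, i0⟩) = T.w (v ⟨1, i1⟩)) →
      _ := fun h => core T t ht hn v hv hchain h
  have tri' := first_tri T t ht hn (revEmb v) (fun j => hv _) (rev_chain T t v hchain)
  have hlast_simple := fun h => core T t ht hn (revEmb v) (fun j => hv _) (rev_chain T t v hchain) h
  rcases tri with h | h | h
  · obtain ⟨w, hw⟩ := hfirst_simple h
    exact ⟨fun j => v j, w, Or.inl (fun _ => rfl), hw⟩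
  all_goals
    rcases tri' with h' | h' | h'
    · obtain ⟨w, hw⟩ := hlast_simple h'
      exact ⟨fun j => v (Fin.rev j), w, Or.inr (fun _ => rfl), hw⟩
    all_goals
      exfalso
      have e0 : Fin.rev (⟨0, i0⟩ : Fin t) = ⟨t - 1, j1⟩ := Fin.ext (by simp [Fin.val_rev])
      have e1 : Fin.rev (⟨1, i1⟩ : Fin t) = ⟨t - 2, j2⟩ := Fin.ext (by first | (simp [Fin.val_rev]; done) | (simp [Fin.val_rev]; omega))
      have r0 : revEmb v ⟨0, i0⟩ = v ⟨t - 1, j1⟩ := by show v (Fin.rev _) = _; rw [e0]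
      have r1 : revEmb v ⟨1, i1⟩ = v ⟨t - 2, j2⟩ := by show v (Fin.rev _) = _; rw [e1]
      rw [r0, r1, hsym ⟨t - 1, j1⟩ ⟨t - 2, j2⟩] at h'
      obtain ⟨h1, h2⟩ := h
      obtain ⟨h3, h4⟩ := h'
      first
      | exact endend T t ht hn v hv hchain 1 1 le_rfl le_rfl (by linarith) (by linarith) (by linarith) (by linarith)
      | exact endend T t ht hn v hv hchain 1 2 le_rfl (by norm_num) (by linarith) (by linarith) (by linarith) (by linarith)
      | exact endend T t ht hn v hv hchain 2 1 (by norm_num) le_rfl (by linarith) (by linarith) (by linarith) (by linarith)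
      | exact endend T t ht hn v hv hchain 2 2 (by norm_num) (by norm_num) (by linarith) (by linarith) (by linarith) (by linarith)

end Groth.Agent.S7354
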