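import Groth.Statements.S7355
import Groth.Agent.H4.NumType3
import Groth.Agent.S7346

set_option autoImplicit false
open Finset
open Models Models.NumericalType

namespace Groth.Agent.S7355

/-- arithmetic side goals about `Fin` values -/
local macro "fo" : tactic => `(tactic| first | rfl | omega | (dsimp only; omega) | (simp; omega) | simp)
/-- disequalities of `Fin` elements -/
local macro "fne" : tactic =>
  `(tactic| (intro h; have := congrArg Fin.val h; first | omega | (dsimp only at this; omega)))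

open Groth.Agent.H4.NumType in
/-- Left chain edges: the doubled edge `j — j+1` (with `j + 3 ≤ t`) is impossible. -/
theorem left_edge {n : ℕ} (T : Models.NumericalType n) (t : ℕ) (ht : 4 < t) (hn : t + 1 < n)
    (v : Fin (t + 1) ↪ Fin n) (hv : ∀ j, T.IsMinusTwo (v j))
    (hchain : ∀ j j' : Fin (t + 1), j'.val = j.val + 1 → j'.val < t → T.a (v j) (v j') ≠ 0)
    (hbranch : ∀ j j' : Fin (t + 1), j.val + 2 = t → j'.val = t → T.a (v j) (v j') ≠ 0)
    (j : ℕ) (hj : j + 3 ≤ t) (s : ℤ) (hs : 1 ≤ s)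
    (h1 : s * T.w (v ⟨j, by omega⟩) ≤ T.a (v ⟨j, by omega⟩) (v ⟨j + 1, by omega⟩))
    (h2 : 2 * T.w (v ⟨j + 1, by omega⟩) ≤ s * T.a (v ⟨j, by omega⟩) (v ⟨j + 1, by omega⟩)) : False := by
  have hsym : ∀ i j, T.a (v i) (v j) = T.a (v j) (v i) := fun i j => a_symm T _ _
  have hj0 : j < t + 1 := by omega
  have hj1 : j + 1 < t + 1 := by omega
  -- lower bounds for neighbours
  have lb : ∀ i i' : Fin (t + 1), i ≠ i' → T.a (v i) (v i') ≠ 0 → T.w (v i) ≤ T.a (v i) (v i') :=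
    fun i i' hne h => w_le_left T (pos_of_ne T (v.injective.ne hne) h)
  have c1 : ∀ i i' : Fin (t + 1), i'.val = i.val + 1 → i'.val < t → T.w (v i) ≤ T.a (v i) (v i') :=
    fun i i' h h' => lb i i' (by fne) (hchain i i' h h')
  have c2 : ∀ i i' : Fin (t + 1), i'.val = i.val + 1 → i'.val < t → T.w (v i') ≤ T.a (v i') (v i) :=
    fun i i' h h' => lb i' i (by fne) (by rw [hsym]; exact hchain i i' h h')
  have b1 : ∀ i i' : Fin (t + 1), i.val + 2 = t → i'.val = t → T.w (v i) ≤ T.a (v i) (v i') :=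
    fun i i' h h' => lb i i' (by fne) (hbranch i i' h h')
  have b2 : ∀ i i' : Fin (t + 1), i.val + 2 = t → i'.val = t → T.w (v i') ≤ T.a (v i') (v i) :=
    fun i i' h h' => lb i' i (by fne) (by rw [hsym]; exact hbranch i i' h h')
  let x : Fin (t + 1) → ℤ := fun l =>
    if l.val < j then 0 else if l.val = j then s else if l.val + 2 ≤ t then 2 else 1
  have hx0 : ∀ l : Fin (t + 1), l.val < j → x l = 0 := fun l h => if_pos h
  have hxs : ∀ l : Fin (t + 1), l.val = j → x l = s := fun l h => by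
    simp only [x]; rw [if_neg (by omega), if_pos h]
  have hx2 : ∀ l : Fin (t + 1), j < l.val → l.val + 2 ≤ t → x l = 2 := fun l h h' => by
    simp only [x]; rw [if_neg (by omega), if_neg (by omega), if_pos h']
  have hx1 : ∀ l : Fin (t + 1), t < l.val + 2 → x l = 1 := fun l h => by
    simp only [x]; rw [if_neg (by omega), if_neg (by omega), if_neg (by omega)]
  refine key_nb3 T v hn hv x ?_ ⟨⟨t, by omega⟩, by rw [hx1 _ (by fo)]; norm_num⟩ ?_
  · intro l
    simp only [x]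
    split_ifs <;> omega
  intro l hl
  have hlt := l.isLt
  have hlj : j ≤ l.val := by
    by_contra hcon
    rw [hx0 l (by omega)] at hl
    exact lt_irrefl _ hl
  by_cases e0 : l.val = j
  · -- row j
    left
    refine ⟨⟨j + 1, by omega⟩, by fne, ?_⟩
    rw [hxs l e0, hx2 ⟨j + 1, by omega⟩ (by fo) (by fo)]
    have hl' : l = ⟨j, hj0⟩ := Fin.ext e0
    subst hl'
    linarith
  by_cases e1 : l.val = j + 1
  · have hl' : l = ⟨j + 1, hj1⟩ := Fin.ext e1
    subst hl'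
    have hA : T.a (v ⟨j + 1, by omega⟩) (v ⟨j, by omega⟩) = T.a (v ⟨j, by omega⟩) (v ⟨j + 1, by omega⟩) :=
      hsym _ _
    by_cases e1' : j + 3 = t
    · right; right
      refine ⟨⟨j, by omega⟩, ⟨t - 1, by omega⟩, ⟨t, by omega⟩, by fne, by fne, by fne, by fne, by fne, by fne, ?_⟩
      rw [hx2 _ (by fo) (by fo), hxs ⟨j, by omega⟩ rfl, hx1 ⟨t - 1, by omega⟩ (by fo), hx1 ⟨t, by omega⟩ (by fo), hA]
      have := c1 ⟨j + 1, by omega⟩ ⟨t - 1, by omega⟩ (by fo) (by fo)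
      have := b1 ⟨j + 1, by omega⟩ ⟨t, by omega⟩ (by fo) (by fo)
      linarith
    · right; left
      refine ⟨⟨j, by omega⟩, ⟨j + 2, by omega⟩, by fne, by fne, by fne, ?_⟩
      rw [hx2 _ (by fo) (by fo), hxs ⟨j, by omega⟩ rfl, hx2 ⟨j + 2, by omega⟩ (by fo) (by fo), hA]
      have := c1 ⟨j + 1, by omega⟩ ⟨j + 2, by omega⟩ (by fo) (by fo)
      linarith
  by_cases e2 : l.val + 2 < t
  · -- interior of the 2-block
    right; left
    refine ⟨⟨l.val - 1, by omega⟩, ⟨l.val + 1, by omega⟩, by fne, by fne, by fne, ?_⟩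
    rw [hx2 l (by omega) (by omega), hx2 ⟨l.val - 1, by omega⟩ (by fo) (by fo),
      hx2 ⟨l.val + 1, by omega⟩ (by fo) (by fo)]
    have := c2 ⟨l.val - 1, by omega⟩ l (by fo) (by fo)
    have := c1 l ⟨l.val + 1, by omega⟩ (by fo) (by fo)
    linarith
  by_cases e3 : l.val + 2 = t
  · right; right
    refine ⟨⟨l.val - 1, by omega⟩, ⟨t - 1, by omega⟩, ⟨t, by omega⟩, by fne, by fne, by fne, by fne, by fne, by fne, ?_⟩
    rw [hx2 l (by omega) (by omega), hx2 ⟨l.val - 1, by omega⟩ (by fo) (by fo),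
      hx1 ⟨t - 1, by omega⟩ (by fo), hx1 ⟨t, by omega⟩ (by fo)]
    have := c2 ⟨l.val - 1, by omega⟩ l (by fo) (by fo)
    have := c1 l ⟨t - 1, by omega⟩ (by fo) (by fo)
    have := b1 l ⟨t, by omega⟩ (by fo) (by fo)
    linarith
  by_cases e4 : l.val + 1 = t
  · left
    refine ⟨⟨t - 2, by omega⟩, by fne, ?_⟩
    rw [hx1 l (by omega), hx2 ⟨t - 2, by omega⟩ (by fo) (by fo)]
    have := c2 ⟨t - 2, by omega⟩ l (by fo) (by fo)
    linarith
  · left
    refine ⟨⟨t - 2, by omega⟩, by fne, ?_⟩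
    rw [hx1 l (by omega), hx2 ⟨t - 2, by omega⟩ (by fo) (by fo)]
    have := b2 ⟨t - 2, by omega⟩ l (by fo) (by fo)
    linarith


open Groth.Agent.H4.NumType in
/-- Non-adjacent chain vertices are orthogonal (cycle argument). -/
theorem vanish_chain {n : ℕ} (T : Models.NumericalType n) (t : ℕ) (ht : 4 < t) (hn : t + 1 < n)
    (v : Fin (t + 1) ↪ Fin n) (hv : ∀ j, T.IsMinusTwo (v j))
    (hchain : ∀ j j' : Fin (t + 1), j'.val = j.val + 1 → j'.val < t → T.a (v j) (v j') ≠ 0)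
    (j k : ℕ) (hjk : j + 2 ≤ k) (hk : k < t) :
    T.a (v ⟨j, by omega⟩) (v ⟨k, by omega⟩) = 0 := by
  have hsym : ∀ i j, T.a (v i) (v j) = T.a (v j) (v i) := fun i j => a_symm T _ _
  have hj0 : j < t + 1 := by omega
  have hk0 : k < t + 1 := by omega
  have c1 := hchain
  have c2 : ∀ i i' : Fin (t + 1), i'.val = i.val + 1 → i'.val < t → T.a (v i') (v i) ≠ 0 :=
    fun i i' h h' => by rw [hsym]; exact hchain i i' h h'
  by_contra hne
  have hne' : T.a (v ⟨k, hk0⟩) (v ⟨j, hj0⟩) ≠ 0 := by rw [hsym]; exact hne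
  let x : Fin (t + 1) → ℤ := fun l => if j ≤ l.val ∧ l.val ≤ k then 1 else 0
  have hx1 : ∀ l : Fin (t + 1), j ≤ l.val → l.val ≤ k → x l = 1 := fun l h h' => if_pos ⟨h, h'⟩
  have hx0 : ∀ l : Fin (t + 1), ¬ (j ≤ l.val ∧ l.val ≤ k) → x l = 0 := fun l h => if_neg h
  refine key_graph3 T v hn hv x ?_ ⟨⟨j, hj0⟩, by rw [hx1 _ (by fo) (by fo)]; norm_num⟩ ?_
  · intro l
    simp only [x]
    split_ifs <;> norm_num
  intro l hl
  have hlt := l.isLt
  have hin : j ≤ l.val ∧ l.val ≤ k := by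
    by_contra hcon
    rw [hx0 l hcon] at hl
    exact lt_irrefl _ hl
  right; left
  by_cases e0 : l.val = j
  · have hl' : l = ⟨j, hj0⟩ := Fin.ext e0
    refine ⟨⟨j + 1, by omega⟩, ⟨k, hk0⟩, by fne, by fne, by fne, c1 l ⟨j + 1, by omega⟩ (by fo) (by fo), ?_, ?_⟩
    · rw [hl']; exact hne
    · rw [hx1 l (by omega) (by omega), hx1 ⟨j + 1, by omega⟩ (by fo) (by fo), hx1 ⟨k, hk0⟩ (by fo) (by fo)]
      norm_num
  by_cases e1 : l.val = k
  · have hl' : l = ⟨k, hk0⟩ := Fin.ext e1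
    refine ⟨⟨k - 1, by omega⟩, ⟨j, hj0⟩, by fne, by fne, by fne, c2 ⟨k - 1, by omega⟩ l (by fo) (by fo), ?_, ?_⟩
    · rw [hl']; exact hne'
    · rw [hx1 l (by omega) (by omega), hx1 ⟨k - 1, by omega⟩ (by fo) (by fo), hx1 ⟨j, hj0⟩ (by fo) (by fo)]
      norm_num
  · refine ⟨⟨l.val - 1, by omega⟩, ⟨l.val + 1, by omega⟩, by fne, by fne, by fne,
      c2 ⟨l.val - 1, by omega⟩ l (by fo) (by fo), c1 l ⟨l.val + 1, by omega⟩ (by fo) (by fo), ?_⟩
    rw [hx1 l (by omega) (by omega), hx1 ⟨l.val - 1, by omega⟩ (by fo) (by fo),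
      hx1 ⟨l.val + 1, by omega⟩ (by fo) (by fo)]
    norm_num

open Groth.Agent.H4.NumType in
/-- A chain vertex `j ≤ t - 3` is orthogonal to the extra vertex `t` (cycle argument). -/
theorem vanish_branch {n : ℕ} (T : Models.NumericalType n) (t : ℕ) (ht : 4 < t) (hn : t + 1 < n)
    (v : Fin (t + 1) ↪ Fin n) (hv : ∀ j, T.IsMinusTwo (v j))
    (hchain : ∀ j j' : Fin (t + 1), j'.val = j.val + 1 → j'.val < t → T.a (v j) (v j') ≠ 0)
    (hbranch : ∀ j j' : Fin (t + 1), j.val + 2 = t → j'.val = t → T.a (v j) (v j') ≠ 0)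
    (j : ℕ) (hj : j + 3 ≤ t) :
    T.a (v ⟨j, by omega⟩) (v ⟨t, by omega⟩) = 0 := by
  have hsym : ∀ i j, T.a (v i) (v j) = T.a (v j) (v i) := fun i j => a_symm T _ _
  have hj0 : j < t + 1 := by omega
  have ht0 : t < t + 1 := by omega
  have c1 := hchain
  have c2 : ∀ i i' : Fin (t + 1), i'.val = i.val + 1 → i'.val < t → T.a (v i') (v i) ≠ 0 :=
    fun i i' h h' => by rw [hsym]; exact hchain i i' h h'
  have b1 := hbranch
  have b2 : ∀ i i' : Fin (t + 1), i.val + 2 = t → i'.val = t → T.a (v i') (v i) ≠ 0 :=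
    fun i i' h h' => by rw [hsym]; exact hbranch i i' h h'
  by_contra hne
  have hne' : T.a (v ⟨t, ht0⟩) (v ⟨j, hj0⟩) ≠ 0 := by rw [hsym]; exact hne
  let x : Fin (t + 1) → ℤ := fun l => if (j ≤ l.val ∧ l.val + 2 ≤ t) ∨ l.val = t then 1 else 0
  have hx1 : ∀ l : Fin (t + 1), ((j ≤ l.val ∧ l.val + 2 ≤ t) ∨ l.val = t) → x l = 1 := fun l h => if_pos h
  have hx0 : ∀ l : Fin (t + 1), ¬ ((j ≤ l.val ∧ l.val + 2 ≤ t) ∨ l.val = t) → x l = 0 := fun l h => if_neg h
  refine key_graph3 T v hn hv x ?_ ⟨⟨j, hj0⟩, by rw [hx1 _ (by fo)]; norm_num⟩ ?_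
  · intro l
    simp only [x]
    split_ifs <;> norm_num
  intro l hl
  have hlt := l.isLt
  have hin : (j ≤ l.val ∧ l.val + 2 ≤ t) ∨ l.val = t := by
    by_contra hcon
    rw [hx0 l hcon] at hl
    exact lt_irrefl _ hl
  right; left
  by_cases e0 : l.val = j
  · have hl' : l = ⟨j, hj0⟩ := Fin.ext e0
    refine ⟨⟨j + 1, by omega⟩, ⟨t, ht0⟩, by fne, by fne, by fne, c1 l ⟨j + 1, by omega⟩ (by fo) (by fo), ?_, ?_⟩
    · rw [hl']; exact hne
    · rw [hx1 l (by omega), hx1 ⟨j + 1, by omega⟩ (by fo), hx1 ⟨t, ht0⟩ (by fo)]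
      norm_num
  by_cases e1 : l.val = t
  · have hl' : l = ⟨t, ht0⟩ := Fin.ext e1
    refine ⟨⟨t - 2, by omega⟩, ⟨j, hj0⟩, by fne, by fne, by fne, b2 ⟨t - 2, by omega⟩ l (by fo) (by fo), ?_, ?_⟩
    · rw [hl']; exact hne'
    · rw [hx1 l (by omega), hx1 ⟨t - 2, by omega⟩ (by fo), hx1 ⟨j, hj0⟩ (by fo)]
      norm_num
  by_cases e2 : l.val + 2 = t
  · refine ⟨⟨l.val - 1, by omega⟩, ⟨t, ht0⟩, by fne, by fne, by fne,
      c2 ⟨l.val - 1, by omega⟩ l (by fo) (by fo), b1 l ⟨t, ht0⟩ (by fo) (by fo), ?_⟩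
    rw [hx1 l (by omega), hx1 ⟨l.val - 1, by omega⟩ (by fo), hx1 ⟨t, ht0⟩ (by fo)]
    norm_num
  · refine ⟨⟨l.val - 1, by omega⟩, ⟨l.val + 1, by omega⟩, by fne, by fne, by fne,
      c2 ⟨l.val - 1, by omega⟩ l (by fo) (by fo), c1 l ⟨l.val + 1, by omega⟩ (by fo) (by fo), ?_⟩
    rw [hx1 l (by omega), hx1 ⟨l.val - 1, by omega⟩ (by fo), hx1 ⟨l.val + 1, by omega⟩ (by fo)]
    norm_num

/-- Classification of proper subgraphs of type D: let T be a numerical type on n indices, t > 4 with n >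
t + 1, and i_1, …, i_{t+1} distinct (-2)-indices such that a_{i_j i_{j+1}} is nonzero for j = 1, …,
t - 1 and a_{i_{t-1} i_{t+1}} is nonzero. Then for some integer w one has w_{i_1} = … = w_{i_{t+1}}
= w, a_{i_j i_{j+1}} = w for j < t, a_{i_{t-1} i_{t+1}} = w, and a_{i_j i_k} = 0 for all other pairs
j ≠ k. -/
theorem result {n : ℕ} (T : Models.NumericalType n) (t : ℕ) (ht : 4 < t) (hn : t + 1 < n)
    (v : Fin (t + 1) ↪ Fin n) (hv : ∀ j, T.IsMinusTwo (v j))
    (hchain : ∀ j j' : Fin (t + 1), j'.val = j.val + 1 → j'.val < t → T.a (v j) (v j') ≠ 0)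
    (hbranch : ∀ j j' : Fin (t + 1), j.val + 2 = t → j'.val = t → T.a (v j) (v j') ≠ 0) :
    ∃ w : ℤ, (∀ j : Fin (t + 1), T.w (v j) = w) ∧
      (∀ j j' : Fin (t + 1), j'.val = j.val + 1 → j'.val < t → T.a (v j) (v j') = w) ∧
      (∀ j j' : Fin (t + 1), j.val + 2 = t → j'.val = t → T.a (v j) (v j') = w) ∧
      (∀ j k : Fin (t + 1), j.val < k.val → ¬ (k.val = j.val + 1 ∧ k.val < t) → ¬ (j.val + 2 = t ∧ k.val = t) →
        T.a (v j) (v k) = 0) := by
  have hsym : ∀ i j, T.a (v i) (v j) = T.a (v j) (v i) := fun i j => Groth.Agent.H4.NumType.a_symm T _ _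
  -- the D4 configuration at the branch vertex
  have i0 : t - 2 < t + 1 := by omega
  have i1 : t - 3 < t + 1 := by omega
  have i2 : t - 1 < t + 1 := by omega
  have i3 : t < t + 1 := by omega
  let f : Fin 4 → Fin (t + 1) := ![⟨t - 2, i0⟩, ⟨t - 3, i1⟩, ⟨t - 1, i2⟩, ⟨t, i3⟩]
  have hf : Function.Injective f := by
    intro a b hab
    fin_cases a <;> fin_cases b <;> simp [f, Fin.ext_iff] at hab ⊢ <;> omega
  let u : Fin 4 ↪ Fin n := ⟨fun i => v (f i), fun a b hab => hf (v.injective hab)⟩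
  have hu0 : u 0 = v ⟨t - 2, i0⟩ := rfl
  have hu1 : u 1 = v ⟨t - 3, i1⟩ := rfl
  have hu2 : u 2 = v ⟨t - 1, i2⟩ := rfl
  have hu3 : u 3 = v ⟨t, i3⟩ := rfl
  obtain ⟨w', hw', d01, d02, d03, d12, d13, d23, -⟩ := Groth.Agent.S7346.result T (by omega) u (fun j => hv _)
    (by rw [hu0, hu1, hsym]; exact hchain ⟨t - 3, i1⟩ ⟨t - 2, i0⟩ (by fo) (by fo))
    (by rw [hu0, hu2]; exact hchain ⟨t - 2, i0⟩ ⟨t - 1, i2⟩ (by fo) (by fo))
    (by rw [hu0, hu3]; exact hbranch ⟨t - 2, i0⟩ ⟨t, i3⟩ (by fo) (by fo))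
  have hw0 := hw' 0
  have hw1 := hw' 1
  have hw2 := hw' 2
  have hw3 := hw' 3
  rw [hu0] at hw0 d01 d02 d03
  rw [hu1] at hw1 d01 d12 d13
  rw [hu2] at hw2 d02 d12 d23
  rw [hu3] at hw3 d03 d13 d23
  -- simple edges on the left part of the chain
  have simple_left : ∀ (j : ℕ) (hj : j + 3 ≤ t),
      T.a (v ⟨j, by omega⟩) (v ⟨j + 1, by omega⟩) = T.w (v ⟨j, by omega⟩) ∧
      T.a (v ⟨j, by omega⟩) (v ⟨j + 1, by omega⟩) = T.w (v ⟨j + 1, by omega⟩) := by
    intro j hj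
    have hp : 0 < T.a (v ⟨j, by omega⟩) (v ⟨j + 1, by omega⟩) :=
      Groth.Agent.H4.NumType.pos_of_ne T (v.injective.ne (by fne))
        (hchain ⟨j, by omega⟩ ⟨j + 1, by omega⟩ (by fo) (by fo))
    have hl := Groth.Agent.H4.NumType.w_le_left T hp
    have hr := Groth.Agent.H4.NumType.w_le_right T hp
    constructor
    · rcases Groth.Agent.H4.NumType.eq_or_two_le_left T hp with h | h
      · exact h
      · exact absurd (left_edge T t ht hn v hv hchain hbranch j hj 2 (by norm_num) (by linarith) (by linarith)) id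
    · rcases Groth.Agent.H4.NumType.eq_or_two_le_right T hp with h | h
      · exact h
      · exact absurd (left_edge T t ht hn v hv hchain hbranch j hj 1 (by norm_num) (by linarith) (by linarith)) id
  -- all weights on the chain agree
  have wconst : ∀ (m : ℕ) (hm : m < t), T.w (v ⟨m, by omega⟩) = T.w (v ⟨0, by omega⟩) := by
    intro m
    induction m with
    | zero => intro _; rfl
    | succ m ih =>
      intro hm
      have ihm := ih (by omega)
      by_cases hcase : m + 3 ≤ t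
      · obtain ⟨h1, h2⟩ := simple_left m hcase
        rw [← h2, h1]; exact ihm
      · have hm2 : m = t - 2 := by omega
        subst hm2
        have e1 : (⟨t - 2 + 1, by omega⟩ : Fin (t + 1)) = ⟨t - 1, i2⟩ := Fin.ext (by fo)
        rw [e1, hw2, ← hw0]
        exact ihm
  have wbranch : T.w (v ⟨t - 2, i0⟩) = T.w (v ⟨0, by omega⟩) := wconst (t - 2) (by omega)
  have hwc : w' = T.w (v ⟨0, by omega⟩) := by rw [← hw0]; exact wbranch
  refine ⟨T.w (v ⟨0, by omega⟩), ?_, ?_, ?_, ?_⟩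
  · intro j
    by_cases hjt : j.val < t
    · exact wconst j.val hjt
    · have hj : j = ⟨t, i3⟩ := Fin.ext (by have := j.isLt; fo)
      rw [hj, hw3, hwc]
  · intro j j' h1 h2
    by_cases hcase : j.val + 3 ≤ t
    · have hj' : j' = ⟨j.val + 1, by omega⟩ := Fin.ext h1
      rw [hj']
      rw [(simple_left j.val hcase).1]
      exact wconst j.val (by omega)
    · have hj : j = ⟨t - 2, i0⟩ := Fin.ext (by fo)
      have hj' : j' = ⟨t - 1, i2⟩ := Fin.ext (by fo)
      rw [hj, hj', d02, hwc]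
  · intro j j' h1 h2
    have hj : j = ⟨t - 2, i0⟩ := Fin.ext (by fo)
    have hj' : j' = ⟨t, i3⟩ := Fin.ext (by fo)
    rw [hj, hj', d03, hwc]
  · intro j k hjk hn1 hn2
    have hkt := k.isLt
    by_cases hk : k.val < t
    · exact vanish_chain T t ht hn v hv hchain j.val k.val (by omega) hk
    · have hk' : k = ⟨t, i3⟩ := Fin.ext (by fo)
      by_cases hj : j.val + 3 ≤ t
      · rw [hk']
        exact vanish_branch T t ht hn v hv hchain hbranch j.val hj
      · have hj' : j = ⟨t - 1, i2⟩ := Fin.ext (by fo)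
        rw [hk', hj']
        exact d23

end Groth.Agent.S7355
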