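import Groth.Statements.S7362
import Groth.Agent.H4.NumGenusOne

set_option autoImplicit false
open Finset
open Models Models.NumericalType

namespace Groth.Agent.S7362

/-- Genus one classification: case n = 2: let T be a minimal numerical type of genus 1 on two indices.
Then for some ordering i, j of the indices and some integers m, w, either m_i = m_j = m, a_ii = a_jj
= -2w, a_ij = 2w, w_i = w_j = w, g_i = g_j = 0; or m_i = 2m, m_j = m, a_ii = -2w, a_ij = 4w, a_jj =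
-8w, w_i = w, w_j = 4w, g_i = g_j = 0. Only the classification direction is stated. -/
theorem result (T : Models.NumericalType 2) (hmin : T.IsMinimal) (hg : T.genus = 1) :
    ∃ (i j : Fin 2) (m w : ℤ), i ≠ j ∧ T.g i = 0 ∧ T.g j = 0 ∧
      ((T.m i = m ∧ T.m j = m ∧ T.a i i = -2 * w ∧ T.a i j = 2 * w ∧ T.a j j = -2 * w ∧ T.w i = w ∧ T.w j = w) ∨
        (T.m i = 2 * m ∧ T.m j = m ∧ T.a i i = -2 * w ∧ T.a i j = 4 * w ∧ T.a j j = -8 * w ∧ T.w i = w ∧ T.w j = 4 * w)) := by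
  have hm2 := Groth.Agent.H4.NumType.all_minusTwo_of_genus_one T hmin (by norm_num) hg
  obtain ⟨g0, d0⟩ := hm2 0
  obtain ⟨g1, d1⟩ := hm2 1
  have hw0 := T.w_pos 0
  have hw1 := T.w_pos 1
  have hm0 := T.m_pos 0
  have hm1 := T.m_pos 1
  have hs : T.a 1 0 = T.a 0 1 := Groth.Agent.H4.NumType.a_symm T 1 0
  have R0 := Groth.Agent.H4.NumType.row_eq T 0
  have R1 := Groth.Agent.H4.NumType.row_eq T 1
  simp only [Fin.sum_univ_two] at R0 R1
  rw [d0] at R0
  rw [d1, hs] at R1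
  have hA : 0 < T.a 0 1 := by
    by_contra hcon
    push Not at hcon
    have : T.a 0 1 * T.m 1 ≤ 0 := mul_nonpos_of_nonpos_of_nonneg hcon hm1.le
    have : 0 < T.w 0 * T.m 0 := mul_pos hw0 hm0
    nlinarith
  have hr := Groth.Agent.H4.NumType.w_le_right T hA
  have cancel : ∀ {c x y : ℤ}, 0 < c → c * x = c * y → x = y := fun hc h => mul_left_cancel₀ hc.ne' h
  have type1 : T.a 0 1 = 2 * T.w 0 → ∃ (i j : Fin 2) (m w : ℤ), i ≠ j ∧ T.g i = 0 ∧ T.g j = 0 ∧
      ((T.m i = m ∧ T.m j = m ∧ T.a i i = -2 * w ∧ T.a i j = 2 * w ∧ T.a j j = -2 * w ∧ T.w i = w ∧ T.w j = w) ∨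
        (T.m i = 2 * m ∧ T.m j = m ∧ T.a i i = -2 * w ∧ T.a i j = 4 * w ∧ T.a j j = -8 * w ∧ T.w i = w ∧ T.w j = 4 * w)) := by
    intro hα
    rw [hα] at R0 R1
    have e1 : T.m 1 = T.m 0 := cancel hw0 (by linarith)
    rw [e1] at R1
    have e2 : T.w 0 = T.w 1 := by
      have : T.m 0 * T.w 0 = T.m 0 * T.w 1 := by linarith
      exact cancel hm0 this
    refine ⟨0, 1, T.m 0, T.w 0, by decide, g0, g1, Or.inl ⟨rfl, e1, d0, hα, ?_, rfl, e2.symm⟩⟩
    rw [d1, e2]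
  -- type 2 with the weight-1 index `i` and the weight-4 index `j`
  rcases Groth.Agent.H4.NumType.mult_cases_left T hA with hα | hα | hα | hα
  · -- A = w0
    rw [hα] at R0 R1
    have e1 : T.m 1 = 2 * T.m 0 := cancel hw0 (by linarith)
    rw [e1] at R1
    have e2 : T.w 0 = 4 * T.w 1 := by
      have : T.m 0 * T.w 0 = T.m 0 * (4 * T.w 1) := by linarith
      exact cancel hm0 this
    refine ⟨1, 0, T.m 0, T.w 1, by decide, g1, g0, Or.inr ⟨e1, rfl, d1, ?_, ?_, rfl, e2⟩⟩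
    · rw [hs, hα, e2]
    · rw [d0, e2]; ring
  · exact type1 hα
  · -- A = 3 w0: impossible
    exfalso
    rw [hα] at R0 R1
    have e1 : 3 * T.m 1 = 2 * T.m 0 := cancel hw0 (by linarith)
    rcases Groth.Agent.H4.NumType.mult_cases_right T hA with hβ | hβ | hβ | hβ
    · rw [hα] at hβ
      rw [hβ] at R1
      have : T.m 0 = 2 * T.m 1 := cancel hw1 (by linarith)
      omega
    · rw [hα] at hβ
      rw [hβ] at R1
      have : T.m 0 = T.m 1 := cancel hw1 (by linarith)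
      omega
    · rw [hα] at hβ
      rw [hβ] at R1
      have : 3 * T.m 0 = 2 * T.m 1 := cancel hw1 (by linarith)
      omega
    · rw [hα] at hβ
      have h3 : 4 * T.w 1 * T.m 0 ≤ 3 * T.w 0 * T.m 0 := mul_le_mul_of_nonneg_right hβ hm0.le
      have h4 : T.w 1 * (2 * T.m 0) ≤ T.w 1 * T.m 1 := by linarith
      have := le_of_mul_le_mul_left h4 hw1
      omega
  · -- 4 w0 ≤ A
    have h3 : 4 * T.w 0 * T.m 1 ≤ T.a 0 1 * T.m 1 := mul_le_mul_of_nonneg_right hα hm1.le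
    have h4 : T.w 0 * (2 * T.m 1) ≤ T.w 0 * T.m 0 := by linarith
    have h5 : 2 * T.m 1 ≤ T.m 0 := le_of_mul_le_mul_left h4 hw0
    have h6 : T.a 0 1 * (2 * T.m 1) ≤ T.a 0 1 * T.m 0 := mul_le_mul_of_nonneg_left h5 hA.le
    have h7 : T.m 1 * T.a 0 1 ≤ T.m 1 * T.w 1 := by linarith
    have h8 : T.a 0 1 ≤ T.w 1 := le_of_mul_le_mul_left h7 hm1
    have hβ : T.a 0 1 = T.w 1 := le_antisymm h8 hr
    rw [hβ] at R0 R1
    have e1 : T.m 0 = 2 * T.m 1 := cancel hw1 (by linarith)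
    rw [e1] at R0
    have e2 : T.w 1 = 4 * T.w 0 := by
      have : T.m 1 * T.w 1 = T.m 1 * (4 * T.w 0) := by linarith
      exact cancel hm1 this
    refine ⟨0, 1, T.m 1, T.w 0, by decide, g0, g1, Or.inr ⟨e1, rfl, d0, ?_, ?_, rfl, e2⟩⟩
    · rw [hβ, e2]
    · rw [d1, e2]; ring

end Groth.Agent.S7362
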