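import Groth.Statements.S7363
import Groth.Agent.H4.NumGenusOne

set_option autoImplicit false
open Finset
open Models Models.NumericalType

namespace Groth.Agent.S7363

theorem leaf_exact {p w a mi mj : ℤ} (hw : 0 < w) (h : a = p * w) (R : a * mj = 2 * w * mi) :
    p * mj = 2 * mi := by
  rw [h] at R
  exact mul_left_cancel₀ hw.ne' (by linear_combination R)

theorem mid_exact {p q w a b mi mj mk : ℤ} (hw : 0 < w) (ha : a = p * w) (hb : b = q * w)
    (R : a * mi + b * mk = 2 * w * mj) : p * mi + q * mk = 2 * mj := by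
  rw [ha, hb] at R
  exact mul_left_cancel₀ hw.ne' (by linear_combination R)

open Groth.Agent.H4.NumType in
/-- The case of a path `i — j — k` with `a i k = 0`. -/
theorem path_case (T : Models.NumericalType 3) (hm2 : ∀ i, T.IsMinusTwo i) (i j k : Fin 3)
    (hij : i ≠ j) (hjk : j ≠ k) (hik : i ≠ k) (hz : T.a i k = 0) (pij : 0 < T.a i j) (pjk : 0 < T.a j k) :
∃ (i j k : Fin 3) (m w : ℤ), i ≠ j ∧ j ≠ k ∧ i ≠ k ∧ T.g i = 0 ∧ T.g j = 0 ∧ T.g k = 0 ∧
      ((T.m i = m ∧ T.m j = m ∧ T.m k = m ∧ T.a i i = -2 * w ∧ T.a j j = -2 * w ∧ T.a k k = -2 * w ∧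
          T.a i j = w ∧ T.a i k = w ∧ T.a j k = w ∧ T.w i = w ∧ T.w j = w ∧ T.w k = w) ∨
        (T.m i = m ∧ T.m j = 2 * m ∧ T.m k = m ∧ T.a i i = -2 * w ∧ T.a i j = w ∧ T.a i k = 0 ∧ T.a j j = -2 * w ∧
          T.a j k = 3 * w ∧ T.a k k = -6 * w ∧ T.w i = w ∧ T.w j = w ∧ T.w k = 3 * w) ∨
        (T.m i = m ∧ T.m j = 2 * m ∧ T.m k = 3 * m ∧ T.a i i = -6 * w ∧ T.a i j = 3 * w ∧ T.a i k = 0 ∧ T.a j j = -6 * w ∧
          T.a j k = 3 * w ∧ T.a k k = -2 * w ∧ T.w i = 3 * w ∧ T.w j = 3 * w ∧ T.w k = w) ∨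
        (T.m i = 2 * m ∧ T.m j = 2 * m ∧ T.m k = m ∧ T.a i i = -2 * w ∧ T.a i j = 2 * w ∧ T.a i k = 0 ∧ T.a j j = -4 * w ∧
          T.a j k = 4 * w ∧ T.a k k = -8 * w ∧ T.w i = w ∧ T.w j = 2 * w ∧ T.w k = 4 * w) ∨
        (T.m i = m ∧ T.m j = m ∧ T.m k = m ∧ T.a i i = -2 * w ∧ T.a i j = 2 * w ∧ T.a i k = 0 ∧ T.a j j = -4 * w ∧
          T.a j k = 2 * w ∧ T.a k k = -2 * w ∧ T.w i = w ∧ T.w j = 2 * w ∧ T.w k = w) ∨
        (T.m i = m ∧ T.m j = 2 * m ∧ T.m k = m ∧ T.a i i = -4 * w ∧ T.a i j = 2 * w ∧ T.a i k = 0 ∧ T.a j j = -2 * w ∧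
          T.a j k = 2 * w ∧ T.a k k = -4 * w ∧ T.w i = 2 * w ∧ T.w j = w ∧ T.w k = 2 * w)) := by
  obtain ⟨gi, di⟩ := hm2 i
  obtain ⟨gj, dj⟩ := hm2 j
  obtain ⟨gk, dk⟩ := hm2 k
  have hwi := T.w_pos i
  have hwj := T.w_pos j
  have hwk := T.w_pos k
  have hmi := T.m_pos i
  have hmj := T.m_pos j
  have hmk := T.m_pos k
  have sji : T.a j i = T.a i j := a_symm T j i
  have ski : T.a k i = T.a i k := a_symm T k i
  have skj : T.a k j = T.a j k := a_symm T k j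
  have hsurj : Function.Surjective (emb3 hij hjk hik) :=
    Finite.surjective_of_injective (emb3 hij hjk hik).injective
  have Ri := row_full T (emb3 hij hjk hik) hsurj 0
  have Rj := row_full T (emb3 hij hjk hik) hsurj 1
  have Rk := row_full T (emb3 hij hjk hik) hsurj 2
  simp only [Fin.sum_univ_three, emb3_zero, emb3_one, emb3_two] at Ri Rj Rk
  rw [di, hz] at Ri
  rw [dj, sji] at Rj
  rw [dk, ski, hz, skj] at Rk
  have Ri' : T.a i j * T.m j = 2 * T.w i * T.m i := by linarith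
  have Rj' : T.a i j * T.m i + T.a j k * T.m k = 2 * T.w j * T.m j := by linarith
  have Rk' : T.a j k * T.m j = 2 * T.w k * T.m k := by linarith
  have lij := w_le_left T pij
  have rij := w_le_right T pij
  have ljk := w_le_left T pjk
  have rjk := w_le_right T pjk
  have posA : 0 < T.a i j * T.m i := mul_pos pij hmi
  have posB : 0 < T.a j k * T.m k := mul_pos pjk hmk
  -- no coefficient is ≥ 4
  have b1 : ¬ 4 * T.w i ≤ T.a i j := by
    intro h
    have h1 : 4 * T.w i * T.m j ≤ T.a i j * T.m j := mul_le_mul_of_nonneg_right h hmj.le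
    have h2 : T.w i * (2 * T.m j) ≤ T.w i * T.m i := by linarith
    have h2' := le_of_mul_le_mul_left h2 hwi
    have h3 : T.w j * T.m i ≤ T.a i j * T.m i := mul_le_mul_of_nonneg_right rij hmi.le
    have h5 : T.w j * T.m i < T.w j * (2 * T.m j) := by linarith
    have h5' := lt_of_mul_lt_mul_left h5 hwj.le
    omega
  have b2 : ¬ 4 * T.w j ≤ T.a i j := by
    intro h
    have h1 : 4 * T.w j * T.m i ≤ T.a i j * T.m i := mul_le_mul_of_nonneg_right h hmi.le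
    have h2 : T.w j * (2 * T.m i) < T.w j * T.m j := by linarith
    have h2' := lt_of_mul_lt_mul_left h2 hwj.le
    have h3 : T.w i * T.m j ≤ T.a i j * T.m j := mul_le_mul_of_nonneg_right lij hmj.le
    have h4 : T.w i * T.m j ≤ T.w i * (2 * T.m i) := by linarith
    have h4' := le_of_mul_le_mul_left h4 hwi
    omega
  have b3 : ¬ 4 * T.w j ≤ T.a j k := by
    intro h
    have h1 : 4 * T.w j * T.m k ≤ T.a j k * T.m k := mul_le_mul_of_nonneg_right h hmk.le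
    have h2 : T.w j * (2 * T.m k) < T.w j * T.m j := by linarith
    have h2' := lt_of_mul_lt_mul_left h2 hwj.le
    have h3 : T.w k * T.m j ≤ T.a j k * T.m j := mul_le_mul_of_nonneg_right rjk hmj.le
    have h4 : T.w k * T.m j ≤ T.w k * (2 * T.m k) := by linarith
    have h4' := le_of_mul_le_mul_left h4 hwk
    omega
  have b4 : ¬ 4 * T.w k ≤ T.a j k := by
    intro h
    have h1 : 4 * T.w k * T.m j ≤ T.a j k * T.m j := mul_le_mul_of_nonneg_right h hmj.le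
    have h2 : T.w k * (2 * T.m j) ≤ T.w k * T.m k := by linarith
    have h2' := le_of_mul_le_mul_left h2 hwk
    have h3 : T.w j * T.m k ≤ T.a j k * T.m k := mul_le_mul_of_nonneg_right ljk hmk.le
    have h5 : T.w j * T.m k < T.w j * (2 * T.m j) := by linarith
    have h5' := lt_of_mul_lt_mul_left h5 hwj.le
    omega
  have cα : T.a i j = 1 * T.w i ∨ T.a i j = 2 * T.w i ∨ T.a i j = 3 * T.w i := by
    rcases mult_cases_left T pij with h | h | h | h
    · exact Or.inl (by rw [h]; ring)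
    · exact Or.inr (Or.inl h)
    · exact Or.inr (Or.inr h)
    · exact absurd h b1
  have cα' : T.a i j = 1 * T.w j ∨ T.a i j = 2 * T.w j ∨ T.a i j = 3 * T.w j := by
    rcases mult_cases_right T pij with h | h | h | h
    · exact Or.inl (by rw [h]; ring)
    · exact Or.inr (Or.inl h)
    · exact Or.inr (Or.inr h)
    · exact absurd h b2
  have cβ : T.a j k = 1 * T.w j ∨ T.a j k = 2 * T.w j ∨ T.a j k = 3 * T.w j := by
    rcases mult_cases_left T pjk with h | h | h | h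
    · exact Or.inl (by rw [h]; ring)
    · exact Or.inr (Or.inl h)
    · exact Or.inr (Or.inr h)
    · exact absurd h b3
  have cβ' : T.a j k = 1 * T.w k ∨ T.a j k = 2 * T.w k ∨ T.a j k = 3 * T.w k := by
    rcases mult_cases_right T pjk with h | h | h | h
    · exact Or.inl (by rw [h]; ring)
    · exact Or.inr (Or.inl h)
    · exact Or.inr (Or.inr h)
    · exact absurd h b4
  rcases cα with a1 | a1 | a1 <;> rcases cα' with a2 | a2 | a2 <;>
    rcases cβ with a3 | a3 | a3 <;> rcases cβ' with a4 | a4 | a4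
  all_goals
    have e1 := leaf_exact hwi a1 Ri'
    have e2 := mid_exact hwj a2 a3 Rj'
    have e3 := leaf_exact hwk a4 Rk'
    first
    | (exfalso; omega)
    | exact ⟨i, j, k, T.m i, T.w i, hij, hjk, hik, gi, gj, gk, Or.inr (Or.inl ⟨by omega, by omega, by omega, by omega, by omega, by omega, by omega, by omega, by omega, by omega, by omega, by omega⟩)⟩
    | exact ⟨i, j, k, T.m i, T.w k, hij, hjk, hik, gi, gj, gk, Or.inr (Or.inr (Or.inl ⟨by omega, by omega, by omega, by omega, by omega, by omega, by omega, by omega, by omega, by omega, by omega, by omega⟩))⟩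
    | exact ⟨i, j, k, T.m k, T.w i, hij, hjk, hik, gi, gj, gk, Or.inr (Or.inr (Or.inr (Or.inl ⟨by omega, by omega, by omega, by omega, by omega, by omega, by omega, by omega, by omega, by omega, by omega, by omega⟩)))⟩
    | exact ⟨i, j, k, T.m i, T.w i, hij, hjk, hik, gi, gj, gk, Or.inr (Or.inr (Or.inr (Or.inr (Or.inl ⟨by omega, by omega, by omega, by omega, by omega, by omega, by omega, by omega, by omega, by omega, by omega, by omega⟩))))⟩
    | exact ⟨i, j, k, T.m i, T.w j, hij, hjk, hik, gi, gj, gk, Or.inr (Or.inr (Or.inr (Or.inr (Or.inr (⟨by omega, by omega, by omega, by omega, by omega, by omega, by omega, by omega, by omega, by omega, by omega, by omega⟩)))))⟩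
    | exact ⟨k, j, i, T.m k, T.w k, hjk.symm, hij.symm, hik.symm, gk, gj, gi, Or.inr (Or.inl ⟨by omega, by omega, by omega, by omega, by omega, by omega, by omega, by omega, by omega, by omega, by omega, by omega⟩)⟩
    | exact ⟨k, j, i, T.m k, T.w i, hjk.symm, hij.symm, hik.symm, gk, gj, gi, Or.inr (Or.inr (Or.inl ⟨by omega, by omega, by omega, by omega, by omega, by omega, by omega, by omega, by omega, by omega, by omega, by omega⟩))⟩
    | exact ⟨k, j, i, T.m i, T.w k, hjk.symm, hij.symm, hik.symm, gk, gj, gi, Or.inr (Or.inr (Or.inr (Or.inl ⟨by omega, by omega, by omega, by omega, by omega, by omega, by omega, by omega, by omega, by omega, by omega, by omega⟩)))⟩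
    | exact ⟨k, j, i, T.m k, T.w k, hjk.symm, hij.symm, hik.symm, gk, gj, gi, Or.inr (Or.inr (Or.inr (Or.inr (Or.inl ⟨by omega, by omega, by omega, by omega, by omega, by omega, by omega, by omega, by omega, by omega, by omega, by omega⟩))))⟩
    | exact ⟨k, j, i, T.m k, T.w j, hjk.symm, hij.symm, hik.symm, gk, gj, gi, Or.inr (Or.inr (Or.inr (Or.inr (Or.inr (⟨by omega, by omega, by omega, by omega, by omega, by omega, by omega, by omega, by omega, by omega, by omega, by omega⟩)))))⟩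

open Groth.Agent.H4.NumType in
/-- The triangle case. -/
theorem triangle_case (T : Models.NumericalType 3) (hm2 : ∀ i, T.IsMinusTwo i)
    (p01 : 0 < T.a 0 1) (p02 : 0 < T.a 0 2) (p12 : 0 < T.a 1 2) :
∃ (i j k : Fin 3) (m w : ℤ), i ≠ j ∧ j ≠ k ∧ i ≠ k ∧ T.g i = 0 ∧ T.g j = 0 ∧ T.g k = 0 ∧
      ((T.m i = m ∧ T.m j = m ∧ T.m k = m ∧ T.a i i = -2 * w ∧ T.a j j = -2 * w ∧ T.a k k = -2 * w ∧
          T.a i j = w ∧ T.a i k = w ∧ T.a j k = w ∧ T.w i = w ∧ T.w j = w ∧ T.w k = w) ∨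
        (T.m i = m ∧ T.m j = 2 * m ∧ T.m k = m ∧ T.a i i = -2 * w ∧ T.a i j = w ∧ T.a i k = 0 ∧ T.a j j = -2 * w ∧
          T.a j k = 3 * w ∧ T.a k k = -6 * w ∧ T.w i = w ∧ T.w j = w ∧ T.w k = 3 * w) ∨
        (T.m i = m ∧ T.m j = 2 * m ∧ T.m k = 3 * m ∧ T.a i i = -6 * w ∧ T.a i j = 3 * w ∧ T.a i k = 0 ∧ T.a j j = -6 * w ∧
          T.a j k = 3 * w ∧ T.a k k = -2 * w ∧ T.w i = 3 * w ∧ T.w j = 3 * w ∧ T.w k = w) ∨
        (T.m i = 2 * m ∧ T.m j = 2 * m ∧ T.m k = m ∧ T.a i i = -2 * w ∧ T.a i j = 2 * w ∧ T.a i k = 0 ∧ T.a j j = -4 * w ∧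
          T.a j k = 4 * w ∧ T.a k k = -8 * w ∧ T.w i = w ∧ T.w j = 2 * w ∧ T.w k = 4 * w) ∨
        (T.m i = m ∧ T.m j = m ∧ T.m k = m ∧ T.a i i = -2 * w ∧ T.a i j = 2 * w ∧ T.a i k = 0 ∧ T.a j j = -4 * w ∧
          T.a j k = 2 * w ∧ T.a k k = -2 * w ∧ T.w i = w ∧ T.w j = 2 * w ∧ T.w k = w) ∨
        (T.m i = m ∧ T.m j = 2 * m ∧ T.m k = m ∧ T.a i i = -4 * w ∧ T.a i j = 2 * w ∧ T.a i k = 0 ∧ T.a j j = -2 * w ∧
          T.a j k = 2 * w ∧ T.a k k = -4 * w ∧ T.w i = 2 * w ∧ T.w j = w ∧ T.w k = 2 * w)) := by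
  obtain ⟨g0, d0⟩ := hm2 0
  obtain ⟨g1, d1⟩ := hm2 1
  obtain ⟨g2, d2⟩ := hm2 2
  have hw0 := T.w_pos 0
  have hw1 := T.w_pos 1
  have hw2 := T.w_pos 2
  have hm0 := T.m_pos 0
  have hm1 := T.m_pos 1
  have hm2' := T.m_pos 2
  have s10 : T.a 1 0 = T.a 0 1 := a_symm T 1 0
  have s20 : T.a 2 0 = T.a 0 2 := a_symm T 2 0
  have s21 : T.a 2 1 = T.a 1 2 := a_symm T 2 1
  have R0 := row_eq T 0
  have R1 := row_eq T 1
  have R2 := row_eq T 2
  simp only [Fin.sum_univ_three] at R0 R1 R2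
  rw [d0] at R0
  rw [d1, s10] at R1
  rw [d2, s20, s21] at R2
  have l01 := w_le_left T p01
  have r01 := w_le_right T p01
  have l02 := w_le_left T p02
  have r02 := w_le_right T p02
  have l12 := w_le_left T p12
  have r12 := w_le_right T p12
  -- m1 + m2 ≤ 2 m0 etc.
  have i0 : T.m 1 + T.m 2 ≤ 2 * T.m 0 := by
    have h1 : T.w 0 * T.m 1 ≤ T.a 0 1 * T.m 1 := mul_le_mul_of_nonneg_right l01 hm1.le
    have h2 : T.w 0 * T.m 2 ≤ T.a 0 2 * T.m 2 := mul_le_mul_of_nonneg_right l02 hm2'.le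
    have h3 : T.w 0 * (T.m 1 + T.m 2) ≤ T.w 0 * (2 * T.m 0) := by linarith
    exact le_of_mul_le_mul_left h3 hw0
  have i1 : T.m 0 + T.m 2 ≤ 2 * T.m 1 := by
    have h1 : T.w 1 * T.m 0 ≤ T.a 0 1 * T.m 0 := mul_le_mul_of_nonneg_right r01 hm0.le
    have h2 : T.w 1 * T.m 2 ≤ T.a 1 2 * T.m 2 := mul_le_mul_of_nonneg_right l12 hm2'.le
    have h3 : T.w 1 * (T.m 0 + T.m 2) ≤ T.w 1 * (2 * T.m 1) := by linarith
    exact le_of_mul_le_mul_left h3 hw1
  have i2 : T.m 0 + T.m 1 ≤ 2 * T.m 2 := by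
    have h1 : T.w 2 * T.m 0 ≤ T.a 0 2 * T.m 0 := mul_le_mul_of_nonneg_right r02 hm0.le
    have h2 : T.w 2 * T.m 1 ≤ T.a 1 2 * T.m 1 := mul_le_mul_of_nonneg_right r12 hm1.le
    have h3 : T.w 2 * (T.m 0 + T.m 1) ≤ T.w 2 * (2 * T.m 2) := by linarith
    exact le_of_mul_le_mul_left h3 hw2
  have e1 : T.m 1 = T.m 0 := by omega
  have e2 : T.m 2 = T.m 0 := by omega
  rw [e1, e2] at R0 R1 R2
  have c0 : T.a 0 1 + T.a 0 2 = 2 * T.w 0 := by
    have : T.m 0 * (T.a 0 1 + T.a 0 2) = T.m 0 * (2 * T.w 0) := by linarith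
    exact mul_left_cancel₀ hm0.ne' this
  have c1 : T.a 0 1 + T.a 1 2 = 2 * T.w 1 := by
    have : T.m 0 * (T.a 0 1 + T.a 1 2) = T.m 0 * (2 * T.w 1) := by linarith
    exact mul_left_cancel₀ hm0.ne' this
  have c2 : T.a 0 2 + T.a 1 2 = 2 * T.w 2 := by
    have : T.m 0 * (T.a 0 2 + T.a 1 2) = T.m 0 * (2 * T.w 2) := by linarith
    exact mul_left_cancel₀ hm0.ne' this
  exact ⟨0, 1, 2, T.m 0, T.w 0, by decide, by decide, by decide, g0, g1, g2,
    Or.inl ⟨by omega, by omega, by omega, by omega, by omega, by omega, by omega, by omega, by omega,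
      by omega, by omega, by omega⟩⟩

/-- Genus one classification: case n = 3: let T be a minimal numerical type of genus 1 on three indices.
Then all g = 0 and, for some ordering i, j, k of the indices and some integers m, w, the data (m; a;
w) is one of: (m,m,m; a_ii = a_jj = a_kk = -2w, a_ij = a_ik = a_jk = w; w,w,w); (m,2m,m; a_ii = -2w,
a_ij = w, a_ik = 0, a_jj = -2w, a_jk = 3w, a_kk = -6w; w,w,3w); (m,2m,3m; a_ii = -6w, a_ij = 3w,
a_ik = 0, a_jj = -6w, a_jk = 3w, a_kk = -2w; 3w,3w,w); (2m,2m,m; a_ii = -2w, a_ij = 2w, a_ik = 0,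
a_jj = -4w, a_jk = 4w, a_kk = -8w; w,2w,4w); (m,m,m; a_ii = -2w, a_ij = 2w, a_ik = 0, a_jj = -4w,
a_jk = 2w, a_kk = -2w; w,2w,w); (m,2m,m; a_ii = -4w, a_ij = 2w, a_ik = 0, a_jj = -2w, a_jk = 2w,
a_kk = -4w; 2w,w,2w). Only the classification direction is stated. -/
theorem result (T : Models.NumericalType 3) (hmin : T.IsMinimal) (hg : T.genus = 1) :
    ∃ (i j k : Fin 3) (m w : ℤ), i ≠ j ∧ j ≠ k ∧ i ≠ k ∧ T.g i = 0 ∧ T.g j = 0 ∧ T.g k = 0 ∧
      ((T.m i = m ∧ T.m j = m ∧ T.m k = m ∧ T.a i i = -2 * w ∧ T.a j j = -2 * w ∧ T.a k k = -2 * w ∧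
          T.a i j = w ∧ T.a i k = w ∧ T.a j k = w ∧ T.w i = w ∧ T.w j = w ∧ T.w k = w) ∨
        (T.m i = m ∧ T.m j = 2 * m ∧ T.m k = m ∧ T.a i i = -2 * w ∧ T.a i j = w ∧ T.a i k = 0 ∧ T.a j j = -2 * w ∧
          T.a j k = 3 * w ∧ T.a k k = -6 * w ∧ T.w i = w ∧ T.w j = w ∧ T.w k = 3 * w) ∨
        (T.m i = m ∧ T.m j = 2 * m ∧ T.m k = 3 * m ∧ T.a i i = -6 * w ∧ T.a i j = 3 * w ∧ T.a i k = 0 ∧ T.a j j = -6 * w ∧
          T.a j k = 3 * w ∧ T.a k k = -2 * w ∧ T.w i = 3 * w ∧ T.w j = 3 * w ∧ T.w k = w) ∨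
        (T.m i = 2 * m ∧ T.m j = 2 * m ∧ T.m k = m ∧ T.a i i = -2 * w ∧ T.a i j = 2 * w ∧ T.a i k = 0 ∧ T.a j j = -4 * w ∧
          T.a j k = 4 * w ∧ T.a k k = -8 * w ∧ T.w i = w ∧ T.w j = 2 * w ∧ T.w k = 4 * w) ∨
        (T.m i = m ∧ T.m j = m ∧ T.m k = m ∧ T.a i i = -2 * w ∧ T.a i j = 2 * w ∧ T.a i k = 0 ∧ T.a j j = -4 * w ∧
          T.a j k = 2 * w ∧ T.a k k = -2 * w ∧ T.w i = w ∧ T.w j = 2 * w ∧ T.w k = w) ∨
        (T.m i = m ∧ T.m j = 2 * m ∧ T.m k = m ∧ T.a i i = -4 * w ∧ T.a i j = 2 * w ∧ T.a i k = 0 ∧ T.a j j = -2 * w ∧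
          T.a j k = 2 * w ∧ T.a k k = -4 * w ∧ T.w i = 2 * w ∧ T.w j = w ∧ T.w k = 2 * w)) := by
  have hm2 := Groth.Agent.H4.NumType.all_minusTwo_of_genus_one T hmin (by norm_num) hg
  have hnn : ∀ i j : Fin 3, i ≠ j → 0 ≤ T.a i j := fun i j h => T.offDiag_nonneg i j h
  have s10 : T.a 1 0 = T.a 0 1 := Groth.Agent.H4.NumType.a_symm T 1 0
  have s20 : T.a 2 0 = T.a 0 2 := Groth.Agent.H4.NumType.a_symm T 2 0
  have s21 : T.a 2 1 = T.a 1 2 := Groth.Agent.H4.NumType.a_symm T 2 1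
  have R0 := Groth.Agent.H4.NumType.row_eq T 0
  have R1 := Groth.Agent.H4.NumType.row_eq T 1
  have R2 := Groth.Agent.H4.NumType.row_eq T 2
  simp only [Fin.sum_univ_three] at R0 R1 R2
  rw [(hm2 0).2] at R0
  rw [(hm2 1).2, s10] at R1
  rw [(hm2 2).2, s20, s21] at R2
  have q0 : 0 < T.w 0 * T.m 0 := mul_pos (T.w_pos 0) (T.m_pos 0)
  have q1 : 0 < T.w 1 * T.m 1 := mul_pos (T.w_pos 1) (T.m_pos 1)
  have q2 : 0 < T.w 2 * T.m 2 := mul_pos (T.w_pos 2) (T.m_pos 2)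
  have pos : ∀ i j : Fin 3, i ≠ j → T.a i j ≠ 0 → 0 < T.a i j :=
    fun i j h h' => lt_of_le_of_ne (hnn i j h) (Ne.symm h')
  by_cases z01 : T.a 0 1 = 0 <;> by_cases z02 : T.a 0 2 = 0 <;> by_cases z12 : T.a 1 2 = 0
  · exfalso; rw [z01, z02] at R0; linarith
  · exfalso; rw [z01, z02] at R0; linarith
  · exfalso; rw [z01, z12] at R1; linarith
  · -- a01 = 0: path 0 - 2 - 1
    exact path_case T hm2 0 2 1 (by decide) (by decide) (by decide) z01 (pos 0 2 (by decide) z02)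
      (by rw [s21]; exact pos 1 2 (by decide) z12)
  · exfalso; rw [z02, z12] at R2; linarith
  · -- a02 = 0: path 0 - 1 - 2
    exact path_case T hm2 0 1 2 (by decide) (by decide) (by decide) z02 (pos 0 1 (by decide) z01)
      (pos 1 2 (by decide) z12)
  · -- a12 = 0: path 1 - 0 - 2
    exact path_case T hm2 1 0 2 (by decide) (by decide) (by decide) z12 (by rw [s10]; exact pos 0 1 (by decide) z01)
      (pos 0 2 (by decide) z02)
  · exact triangle_case T hm2 (pos 0 1 (by decide) z01) (pos 0 2 (by decide) z02) (pos 1 2 (by decide) z12)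

end Groth.Agent.S7363
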