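import Groth.Statements.S7402
import Groth.Agent.H4.UnivHomeoSub2
import Groth.Agent.H4.Seminormal

set_option autoImplicit false
universe u
open CategoryTheory AlgebraicGeometry
open Polynomial
open Mor

namespace Groth.Agent.S7402


open Groth.Agent.H4.UnivHomeoSub

/-- Let `A` be a ring and `x, y ∈ A` with `x^3 = y^2`. Then `A → B = A[t]/(t^2 - x, t^3 - y)` induces a
universal homeomorphism on spectra and isomorphisms on residue fields. -/
theorem result (A : Type u) [CommRing A] (x y : A) (h : x ^ 3 = y ^ 2) :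
    FlatMor.IsUnivHomeo (Spec.map (CommRingCat.ofHom (algebraMap A
      (A[X] ⧸ Ideal.span ({X ^ 2 - C x, X ^ 3 - C y} : Set A[X]))))) ∧
    ∀ q : Spec (CommRingCat.of (A[X] ⧸ Ideal.span ({X ^ 2 - C x, X ^ 3 - C y} : Set A[X]))),
      Function.Surjective ((Spec.map (CommRingCat.ofHom (algebraMap A
        (A[X] ⧸ Ideal.span ({X ^ 2 - C x, X ^ 3 - C y} : Set A[X]))))).residueFieldMap q) := by
  set S : Set A[X] := {X ^ 2 - C x, X ^ 3 - C y} with hS
  have hm1 : X ^ 2 - C x ∈ S := by simp [hS]
  have hm2 : X ^ 3 - C y ∈ S := by simp [hS]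
  -- relations in the quotient
  have hrel1 : (Ideal.Quotient.mk (Ideal.span S) X) ^ 2 = algebraMap A (A[X] ⧸ Ideal.span S) x := by
    rw [algebraMap_polyQuot, ← map_pow, Ideal.Quotient.eq]
    exact Ideal.subset_span hm1
  have hrel2 : (Ideal.Quotient.mk (Ideal.span S) X) ^ 3 = algebraMap A (A[X] ⧸ Ideal.span S) y := by
    rw [algebraMap_polyQuot, ← map_pow, Ideal.Quotient.eq]
    exact Ideal.subset_span hm2
  refine ⟨?_, ?_⟩
  · rw [Groth.Agent.H1.isUnivHomeo_iff_integral]
    refine ⟨?_, ?_, ?_⟩
    · rw [IsIntegralHom.SpecMap_iff]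
      exact isIntegral_polyQuot S _ hm1 (monic_X_pow_sub_C x (by norm_num))
    · apply universallyInjective_spec_of_field_points
      intro K _ ψ₁ ψ₂ hψ
      apply polyQuot_hom_ext S ψ₁ ψ₂ hψ
      apply Groth.Agent.H4.Seminormal.eq_of_sq_eq_of_cube_eq
      · rw [← map_pow ψ₁, ← map_pow ψ₂, hrel1]
        exact congrArg (fun f : A →+* K => f x) hψ
      · rw [← map_pow ψ₁, ← map_pow ψ₂, hrel2]
        exact congrArg (fun f : A →+* K => f y) hψ
    · apply surjective_spec_of_field_points
      intro K _ χ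
      have hxy : χ x ^ 3 = χ y ^ 2 := by rw [← map_pow, ← map_pow, h]
      by_cases hx : χ x = 0
      · have hy : χ y = 0 := by
          rw [hx] at hxy
          have : χ y ^ 2 = 0 := by rw [← hxy]; ring
          exact pow_eq_zero_iff (two_ne_zero) |>.mp this
        refine ⟨polyQuotLift S χ 0 ?_, polyQuotLift_comp S χ 0 _⟩
        intro g hg
        rcases hg with rfl | rfl
        · simp [hx]
        · simp [hy]
      · refine ⟨polyQuotLift S χ (χ y / χ x) ?_, polyQuotLift_comp S χ _ _⟩
        intro g hg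
        rcases hg with rfl | rfl
        · simp only [eval₂_sub, eval₂_pow, eval₂_X, eval₂_C]
          rw [div_pow, ← hxy]
          field_simp
          ring
        · simp only [eval₂_sub, eval₂_pow, eval₂_X, eval₂_C]
          have : (χ y / χ x) ^ 3 = (χ y)^2 * χ y / (χ x)^3 := by rw [div_pow]; ring
          rw [this, ← hxy]
          field_simp
          ring
  · intro q
    apply residueFieldMap_surjective_polyQuot S q
    set f := Spec.map (CommRingCat.ofHom (algebraMap A (A[X] ⧸ Ideal.span S))) with hf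
    set t := evAt q (Ideal.Quotient.mk (Ideal.span S) X) with ht
    have h1 : t ^ 2 ∈ (f.residueFieldMap q).hom.range := by
      rw [ht, ← map_pow, hrel1]
      exact ⟨_, (evAt_comp _ q x).symm⟩
    have h2 : t ^ 3 ∈ (f.residueFieldMap q).hom.range := by
      rw [ht, ← map_pow, hrel2]
      exact ⟨_, (evAt_comp _ q y).symm⟩
    by_cases h0 : t = 0
    · rw [h0]; exact zero_mem _
    · obtain ⟨u, hu⟩ := h1
      obtain ⟨v, hv⟩ := h2
      refine ⟨v / u, ?_⟩
      rw [map_div₀, hu, hv]
      field_simp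


end Groth.Agent.S7402
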