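import Groth.Statements.S7403
import Groth.Agent.H4.UnivHomeoSub3
import Groth.Agent.H4.Seminormal2
import Mathlib.FieldTheory.IsAlgClosed.AlgebraicClosure

set_option autoImplicit false
universe u
open CategoryTheory AlgebraicGeometry
open Polynomial
open Mor

namespace Groth.Agent.S7403


open Groth.Agent.H4.UnivHomeoSub

/-- Let `A` be a ring, `p` a prime number and `x, y ∈ A` with `p^p x = y^p`. Then `A → B = A[t]/(t^p -
x, p t - y)` induces a universal homeomorphism on spectra. -/
theorem result (A : Type u) [CommRing A] (p : ℕ) (hp : p.Prime) (x y : A)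
    (h : (p : A) ^ p * x = y ^ p) :
    FlatMor.IsUnivHomeo (Spec.map (CommRingCat.ofHom (algebraMap A
      (A[X] ⧸ Ideal.span ({X ^ p - C x, C (p : A) * X - C y} : Set A[X]))))) := by
  set S : Set A[X] := {X ^ p - C x, C (p : A) * X - C y} with hS
  have hm1 : X ^ p - C x ∈ S := by simp [hS]
  have hm2 : C (p : A) * X - C y ∈ S := by simp [hS]
  -- relations in the quotient
  have hrel1 : (Ideal.Quotient.mk (Ideal.span S) X) ^ p = algebraMap A (A[X] ⧸ Ideal.span S) x := by
    rw [algebraMap_polyQuot, ← map_pow, Ideal.Quotient.eq]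
    exact Ideal.subset_span hm1
  have hrel2 : algebraMap A (A[X] ⧸ Ideal.span S) (p : A) * (Ideal.Quotient.mk (Ideal.span S) X) =
      algebraMap A (A[X] ⧸ Ideal.span S) y := by
    rw [algebraMap_polyQuot, algebraMap_polyQuot, ← map_mul, Ideal.Quotient.eq]
    exact Ideal.subset_span hm2
  rw [Groth.Agent.H1.isUnivHomeo_iff_integral]
  refine ⟨?_, ?_, ?_⟩
  · rw [IsIntegralHom.SpecMap_iff]
    exact isIntegral_polyQuot S _ hm1 (monic_X_pow_sub_C x hp.ne_zero)
  · apply universallyInjective_spec_of_field_points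
    intro K _ ψ₁ ψ₂ hψ
    apply polyQuot_hom_ext S ψ₁ ψ₂ hψ
    apply Groth.Agent.H4.Seminormal.eq_of_pow_eq_of_mul_eq hp
    · rw [← map_pow ψ₁, ← map_pow ψ₂, hrel1]
      exact congrArg (fun f : A →+* K => f x) hψ
    · have e1 : (p : K) * ψ₁ (Ideal.Quotient.mk (Ideal.span S) X) =
          ψ₁ (algebraMap A (A[X] ⧸ Ideal.span S) (p : A) * (Ideal.Quotient.mk (Ideal.span S) X)) := by
        rw [map_mul, map_natCast, map_natCast]
      have e2 : (p : K) * ψ₂ (Ideal.Quotient.mk (Ideal.span S) X) =
          ψ₂ (algebraMap A (A[X] ⧸ Ideal.span S) (p : A) * (Ideal.Quotient.mk (Ideal.span S) X)) := by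
        rw [map_mul, map_natCast, map_natCast]
      rw [e1, e2, hrel2]
      exact congrArg (fun f : A →+* K => f y) hψ
  · apply surjective_spec_of_field_points'
    intro K _ χ
    have hxy : (p : K) ^ p * χ x = χ y ^ p := by
      rw [← map_pow, ← h, map_mul, map_pow, map_natCast]
    by_cases hpK : (p : K) = 0
    · have hy : χ y = 0 := by
        rw [hpK, zero_pow hp.ne_zero, zero_mul] at hxy
        exact (pow_eq_zero_iff hp.ne_zero).mp hxy.symm
      obtain ⟨z, hz⟩ := IsAlgClosed.exists_pow_nat_eq (algebraMap K (AlgebraicClosure K) (χ x)) hp.pos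
      refine ⟨AlgebraicClosure K, inferInstance, algebraMap K (AlgebraicClosure K),
        polyQuotLift S ((algebraMap K (AlgebraicClosure K)).comp χ) z ?_, polyQuotLift_comp S _ z _⟩
      intro g hg
      rcases hg with rfl | rfl
      · simp [hz]
      · rw [eval₂_sub, eval₂_mul, eval₂_C, eval₂_X, eval₂_C, RingHom.comp_apply, RingHom.comp_apply,
          map_natCast χ, hy, hpK]
        simp
    · refine ⟨K, inferInstance, RingHom.id K, polyQuotLift S χ (χ y / p) ?_, ?_⟩
      · intro g hg
        rcases hg with rfl | rfl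
        · simp only [eval₂_sub, eval₂_pow, eval₂_X, eval₂_C]
          rw [div_pow, ← hxy]
          field_simp
          ring
        · rw [eval₂_sub, eval₂_mul, eval₂_C, eval₂_X, eval₂_C, map_natCast]
          field_simp
          ring
      · rw [polyQuotLift_comp]; rfl


end Groth.Agent.S7403
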