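import Groth.Statements.S7404
import Groth.Agent.H4.UnivHomeoSub

set_option autoImplicit false
universe u
open CategoryTheory AlgebraicGeometry
open Mor

namespace Groth.Agent.S7404

open CategoryTheory AlgebraicGeometry Polynomial


open Groth.Agent.H4.UnivHomeoSub

variable {A B : Type u} [CommRing A] [CommRing B] [Algebra A B] (B' : Subalgebra A B)

theorem spec_comp : Spec.map (CommRingCat.ofHom (algebraMap A B)) =
    Spec.map (CommRingCat.ofHom (algebraMap B' B)) ≫ Spec.map (CommRingCat.ofHom (algebraMap A B')) := by
  rw [← Spec.map_comp]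
  rfl

theorem isIntegral_sub (h : (algebraMap A B).IsIntegral) : (algebraMap A B').IsIntegral := by
  intro b'
  have := h (b' : B)
  exact (isIntegral_algHom_iff B'.val Subtype.val_injective).mp this

theorem isIntegral_top (h : (algebraMap A B).IsIntegral) : (algebraMap B' B).IsIntegral := by
  have : algebraMap A B = (algebraMap B' B).comp (algebraMap A B') := rfl
  rw [this] at h
  exact RingHom.IsIntegral.tower_top _ _ h

theorem surjective_i (h : (algebraMap A B).IsIntegral) :
    Surjective (Spec.map (CommRingCat.ofHom (algebraMap B' B))) := by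
  have hint : Algebra.IsIntegral B' B := ⟨isIntegral_top B' h⟩
  refine ⟨fun p => ?_⟩
  have hker : (⊥ : Ideal B).comap (algebraMap B' B) ≤ p.asIdeal := by
    rw [← RingHom.ker_eq_comap_bot, (RingHom.injective_iff_ker_eq_bot _).mp Subtype.val_injective]
    exact bot_le
  obtain ⟨Q, -, hQ, hQp⟩ := Ideal.exists_ideal_over_prime_of_isIntegral p.asIdeal (⊥ : Ideal B) hker
  refine ⟨⟨Q, hQ⟩, ?_⟩
  apply PrimeSpectrum.ext
  exact hQp

theorem isIntegral_of_univHomeo
    (h : FlatMor.IsUnivHomeo (Spec.map (CommRingCat.ofHom (algebraMap A B)))) :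
    (algebraMap A B).IsIntegral :=
  IsIntegralHom.SpecMap_iff.mp ((Groth.Agent.H1.isUnivHomeo_iff_integral _).mp h).1

theorem isIntegral_of_univClosed
    (h : UniversallyClosed (Spec.map (CommRingCat.ofHom (algebraMap A B)))) :
    (algebraMap A B).IsIntegral :=
  IsIntegralHom.SpecMap_iff.mp
    (IsIntegralHom.iff_universallyClosed_and_isAffineHom.mpr ⟨h, inferInstance⟩)

theorem ui_sub (hint : (algebraMap A B).IsIntegral)
    (h : UniversallyInjective (Spec.map (CommRingCat.ofHom (algebraMap A B)))) :
    UniversallyInjective (Spec.map (CommRingCat.ofHom (algebraMap A B'))) := by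
  have := surjective_i B' hint
  rw [spec_comp B'] at h
  exact universallyInjective_of_comp_of_surjective
    (Spec.map (CommRingCat.ofHom (algebraMap B' B))) _

theorem integralHom_sub (hint : (algebraMap A B).IsIntegral) :
    IsIntegralHom (Spec.map (CommRingCat.ofHom (algebraMap A B'))) :=
  IsIntegralHom.SpecMap_iff.mpr (isIntegral_sub B' hint)

theorem surj_sub (h : Surjective (Spec.map (CommRingCat.ofHom (algebraMap A B)))) :
    Surjective (Spec.map (CommRingCat.ofHom (algebraMap A B'))) := by
  rw [spec_comp B'] at h
  exact Surjective.of_comp (Spec.map (CommRingCat.ofHom (algebraMap B' B))) _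

theorem univHomeo_sub (h : FlatMor.IsUnivHomeo (Spec.map (CommRingCat.ofHom (algebraMap A B)))) :
    FlatMor.IsUnivHomeo (Spec.map (CommRingCat.ofHom (algebraMap A B'))) := by
  have hint := isIntegral_of_univHomeo h
  obtain ⟨h1, h2, h3⟩ := (Groth.Agent.H1.isUnivHomeo_iff_integral _).mp h
  exact (Groth.Agent.H1.isUnivHomeo_iff_integral _).mpr
    ⟨integralHom_sub B' hint, ui_sub B' hint h2, surj_sub B' h3⟩

/-- Let `A → B` be a ring map and `B' ⊆ B` an `A`-subalgebra, with `f : Spec B → Spec A` and `f' : Spec
B' → Spec A` the induced morphisms. Each of the following properties passes from `f` to `f'`: being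
a universal homeomorphism; being a universal homeomorphism with trivial residue field extensions;
being universally closed; being both universally closed and universally injective. -/
theorem result {A B : Type u} [CommRing A] [CommRing B] [Algebra A B]
    (B' : Subalgebra A B) :
    (FlatMor.IsUnivHomeo (Spec.map (CommRingCat.ofHom (algebraMap A B))) →
      FlatMor.IsUnivHomeo (Spec.map (CommRingCat.ofHom (algebraMap A B')))) ∧
    ((FlatMor.IsUnivHomeo (Spec.map (CommRingCat.ofHom (algebraMap A B))) ∧
      ∀ x : Spec (CommRingCat.of B),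
        Function.Surjective ((Spec.map (CommRingCat.ofHom (algebraMap A B))).residueFieldMap x)) →
      FlatMor.IsUnivHomeo (Spec.map (CommRingCat.ofHom (algebraMap A B'))) ∧
      ∀ x : Spec (CommRingCat.of B'),
        Function.Surjective ((Spec.map (CommRingCat.ofHom (algebraMap A B'))).residueFieldMap x)) ∧
    (UniversallyClosed (Spec.map (CommRingCat.ofHom (algebraMap A B))) →
      UniversallyClosed (Spec.map (CommRingCat.ofHom (algebraMap A B')))) ∧
    (UniversallyClosed (Spec.map (CommRingCat.ofHom (algebraMap A B))) →
      UniversallyInjective (Spec.map (CommRingCat.ofHom (algebraMap A B))) →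
      UniversallyClosed (Spec.map (CommRingCat.ofHom (algebraMap A B'))) ∧
      UniversallyInjective (Spec.map (CommRingCat.ofHom (algebraMap A B')))) := by
  refine ⟨univHomeo_sub B', ?_, ?_, ?_⟩
  · rintro ⟨h1, h2⟩
    refine ⟨univHomeo_sub B' h1, fun x' => ?_⟩
    have hint := isIntegral_of_univHomeo h1
    obtain ⟨x, rfl⟩ := (surjective_i B' hint).surj x'
    apply residueFieldMap_surjective_of_comp
    have := h2 x
    rw [spec_comp B'] at this
    exact this
  · intro h
    have := integralHom_sub B' (isIntegral_of_univClosed h)
    infer_instance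
  · intro h1 h2
    have hint := isIntegral_of_univClosed h1
    have := integralHom_sub B' hint
    exact ⟨inferInstance, ui_sub B' hint h2⟩


end Groth.Agent.S7404
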