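import Groth.Statements.S7412
import Mathlib

set_option autoImplicit false
universe u
open Desc

namespace Groth.Agent.S7412

/-- Let `R` be a ring and `f : M → N` a map of `R`-modules. Then `f` is universally injective (`f ⊗ 1_P`
is injective for every `R`-module `P`; here `P` ranges over modules in the same universe, which
suffices) if and only if the map of character modules `C(N) → C(M)`, `C(-) = Hom_ℤ(-, ℚ/ℤ)`, is a
split surjection of `R`-modules. -/
theorem result {R : Type u} [CommRing R] {M N : Type u}
    [AddCommGroup M] [Module R M] [AddCommGroup N] [Module R N] (f : M →ₗ[R] N) :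
    (∀ (P : Type u) [AddCommGroup P] [Module R P], Function.Injective (f.lTensor P)) ↔
      ∃ g : CharacterModule M →ₗ[R] CharacterModule N, (CharacterModule.dual f).comp g = LinearMap.id := by
  have key1 : ∀ (P : Type u) [AddCommGroup P] [Module R P] (h : P →ₗ[R] CharacterModule N) (p : P) (m : M),
      (CharacterModule.dual (f.lTensor P) (CharacterModule.homEquiv h)) (p ⊗ₜ m) = h p (f m) := by
    intro P _ _ h p m
    show (CharacterModule.homEquiv h) ((f.lTensor P) (p ⊗ₜ m)) = _
    rw [LinearMap.lTensor_tmul]
    simp [CharacterModule.homEquiv]
    exact TensorProduct.liftAddHom_tmul _ _ _ _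
  have key2 : ∀ (P : Type u) [AddCommGroup P] [Module R P] (h : P →ₗ[R] CharacterModule M) (p : P) (m : M),
      (CharacterModule.homEquiv h) (p ⊗ₜ m) = h p m := by
    intro P _ _ h p m
    simp [CharacterModule.homEquiv]
    exact TensorProduct.liftAddHom_tmul _ _ _ _
  constructor
  · intro h
    have hinj := h (CharacterModule M)
    have hsurj := CharacterModule.dual_surjective_of_injective _ hinj
    obtain ⟨c', hc'⟩ := hsurj (CharacterModule.homEquiv (R := R) (A := CharacterModule M) (B := M) LinearMap.id)
    obtain ⟨g, rfl⟩ := (CharacterModule.homEquiv (R := R) (A := CharacterModule M) (B := N)).surjective c'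
    refine ⟨g, ?_⟩
    ext φ m
    have := congrArg (fun c : CharacterModule (TensorProduct R (CharacterModule M) M) => c (φ ⊗ₜ m)) hc'
    simp only [key1, key2] at this
    exact this
  · rintro ⟨g, hg⟩ P _ _
    rw [← CharacterModule.dual_surjective_iff_injective]
    intro c
    obtain ⟨h, rfl⟩ := (CharacterModule.homEquiv (R := R) (A := P) (B := M)).surjective c
    refine ⟨CharacterModule.homEquiv (g.comp h), ?_⟩
    ext x
    induction x using TensorProduct.induction_on with
    | zero => simp
    | tmul p m =>
      rw [key1, key2]
      have h1 := congrArg (fun F : CharacterModule M →ₗ[R] CharacterModule M => F (h p) m) hg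
      exact h1
    | add x y hx hy => simp only [map_add, hx, hy]

end Groth.Agent.S7412
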