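import Groth.Statements.S7415
-- import your own Groth.Agent.* helpers here

set_option autoImplicit false
universe u
open CategoryTheory AlgebraicGeometry
open Mor

namespace Groth.Agent.S7415

/-- Let `X` be a reduced scheme with finitely many irreducible components and `x ∈ X`. Then `x` has an
affine open neighbourhood `U` such that `O_X(U) → O_{X,x}` is injective. -/
theorem result (X : Scheme.{u}) [AlgebraicGeometry.IsReduced X]
    (hirr : (irreducibleComponents (X : Type u)).Finite) (x : X) : X.IsGermInjectiveAt x := by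
  set C : Set X := ⋃ Z ∈ {Z ∈ irreducibleComponents (X : Type u) | x ∉ Z}, Z with hCdef
  have hC : IsClosed C :=
    (hirr.subset (Set.sep_subset _ _)).isClosed_biUnion
      (fun Z hZ => isClosed_of_mem_irreducibleComponents Z hZ.1)
  have hxC : x ∉ C := by
    simp only [hCdef, Set.mem_iUnion, not_exists]
    intro Z hZ hx
    exact hZ.2 hx
  obtain ⟨U, hU, hxU, hUC⟩ := exists_isAffineOpen_mem_and_subset (x := x)
    (U := ⟨Cᶜ, hC.isOpen_compl⟩) hxC
  refine ⟨⟨U, hxU, hU, ?_⟩⟩
  rw [injective_iff_map_eq_zero]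
  intro s hs
  obtain ⟨V, hxV, i, _, hsV⟩ := X.presheaf.germ_eq x hxU hxU s 0 (by rw [hs, map_zero])
  rw [map_zero] at hsV
  apply eq_zero_of_basicOpen_eq_bot
  by_contra hne
  obtain ⟨u, hu⟩ : (X.basicOpen s : Set X).Nonempty := by
    rw [Set.nonempty_iff_ne_empty]
    intro h
    exact hne (TopologicalSpace.Opens.ext h)
  have huU : u ∈ U := X.basicOpen_le s hu
  have hZ := irreducibleComponent_mem_irreducibleComponents u
  have hxZ : x ∈ irreducibleComponent u := by
    by_contra hx
    exact hUC huU (Set.mem_biUnion (⟨hZ, hx⟩ : irreducibleComponent u ∈ {Z ∈ irreducibleComponents (X : Type u) | x ∉ Z}) mem_irreducibleComponent)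
  obtain ⟨z, hzZ, hz1, hz2⟩ := (isIrreducible_irreducibleComponent (x := u)).2 (X.basicOpen s) V
    (X.basicOpen s).2 V.2 ⟨u, mem_irreducibleComponent, hu⟩ ⟨x, hxZ, hxV⟩
  have : z ∈ X.basicOpen (X.presheaf.map i.op s) := by
    rw [Scheme.basicOpen_res]
    exact ⟨hz2, hz1⟩
  rw [hsV, Scheme.basicOpen_zero] at this
  exact this


end Groth.Agent.S7415
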