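import Groth.Statements.S7416
-- import your own Groth.Agent.* helpers here

set_option autoImplicit false
universe u
open CategoryTheory AlgebraicGeometry
open Mor

namespace Groth.Agent.S7416


theorem image_basicOpen_eq_basicOpen {U W : Scheme.{u}} [IsAffine U] (i : W ⟶ U) [IsOpenImmersion i]
    (f₀ : Γ(U, ⊤)) (W₁ : W.Opens) (h : i ''ᵁ W₁ = U.basicOpen f₀) (a : Γ(W, W₁)) :
    ∃ f : Γ(U, ⊤), i ''ᵁ (W.basicOpen a) = U.basicOpen f := by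
  obtain ⟨f, hf⟩ := (isAffineOpen_top U).basicOpen_basicOpen_is_basicOpen f₀
    (U.presheaf.map (eqToHom h.symm).op ((i.appIso W₁).inv a))
  refine ⟨f, ?_⟩
  rw [hf, Scheme.basicOpen_res_eq, Scheme.image_basicOpen]

theorem exists_affine_preimage {U W : Scheme.{u}} [IsAffine U] (i : W ⟶ U) [IsOpenImmersion i] (w : W) :
    ∃ (f₀ : Γ(U, ⊤)) (W₁ : W.Opens), IsAffineOpen W₁ ∧ w ∈ W₁ ∧ i ''ᵁ W₁ = U.basicOpen f₀ := by
  obtain ⟨f₀, hle, hmem⟩ := (isAffineOpen_top U).exists_basicOpen_le (V := i.opensRange)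
    ⟨i w, ⟨w, rfl⟩⟩ trivial
  refine ⟨f₀, i ⁻¹ᵁ (U.basicOpen f₀), ?_, hmem, ?_⟩
  · exact ((isAffineOpen_top U).basicOpen f₀).preimage_of_isOpenImmersion i hle
  · rw [Scheme.Hom.image_preimage_eq_opensRange_inf, inf_eq_right.mpr hle]

/-- Let `U`, `V` be affine schemes and `W → U`, `W → V` open immersions. Then every `w ∈ W` has an open
neighbourhood `W' ⊆ W` whose images in `U` and in `V` are standard opens `D(f) ⊆ U`, `D(g) ⊆ V` (in
particular `W'` is affine). -/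
theorem result {U V W : Scheme.{u}} [IsAffine U]
    [IsAffine V] (i : W ⟶ U) (j : W ⟶ V) [IsOpenImmersion i] [IsOpenImmersion j] (w : W) :
    ∃ (W' : W.Opens) (f : Γ(U, ⊤)) (g : Γ(V, ⊤)), w ∈ W' ∧ i ''ᵁ W' = U.basicOpen f ∧ j ''ᵁ W' = V.basicOpen g := by
  obtain ⟨f₀, W₁, hW₁, hw₁, h₁⟩ := exists_affine_preimage i w
  obtain ⟨g₀, W₂, hW₂, hw₂, h₂⟩ := exists_affine_preimage j w
  obtain ⟨a, b, hab, hwa⟩ := exists_basicOpen_le_affine_inter hW₁ hW₂ w ⟨hw₁, hw₂⟩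
  obtain ⟨f, hf⟩ := image_basicOpen_eq_basicOpen i f₀ W₁ h₁ a
  obtain ⟨g, hg⟩ := image_basicOpen_eq_basicOpen j g₀ W₂ h₂ b
  exact ⟨W.basicOpen a, f, g, hwa, hf, hab ▸ hg⟩


end Groth.Agent.S7416
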