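import Groth.Statements.S7428
import Mathlib
import Groth.Agent.H4.UHCrit

set_option autoImplicit false
universe u
open CategoryTheory AlgebraicGeometry
open Mor

namespace Groth.Agent.S7428

open CategoryTheory CategoryTheory.Limits AlgebraicGeometry TensorProduct
open Groth.Agent.H4.UHCrit



/-- Let `A → B` be a ring map with `Spec B → Spec A` dominant. Then some `A`-subalgebra `B' ⊆ B` has
`Spec B' → Spec A` a universal homeomorphism with trivial residue field extensions and contains the
image of `C → B` for every `A`-algebra `C` with an `A`-algebra map `C → B` such that `Spec C → Spec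
A` is a universal homeomorphism with trivial residue field extensions. (Trivial residue field
extensions: every residue field map of the morphism of spectra is surjective. The test algebras `C`
range over the universe of `A` and `B`.) -/
theorem result {A B : Type u} [CommRing A] [CommRing B] [Algebra A B]
    [IsDominant (Spec.map (CommRingCat.ofHom (algebraMap A B)))] :
    ∃ B' : Subalgebra A B, (FlatMor.IsUnivHomeo (Spec.map (CommRingCat.ofHom (algebraMap A B'))) ∧
      ∀ x : Spec (CommRingCat.of B'),
        Function.Surjective ((Spec.map (CommRingCat.ofHom (algebraMap A B'))).residueFieldMap x)) ∧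
      ∀ (C : Type u) [CommRing C] [Algebra A C] (g : C →ₐ[A] B),
        FlatMor.IsUnivHomeo (Spec.map (CommRingCat.ofHom (algebraMap A C))) →
        (∀ x : Spec (CommRingCat.of C),
          Function.Surjective ((Spec.map (CommRingCat.ofHom (algebraMap A C))).residueFieldMap x)) →
        g.range ≤ B' := by
  have hker := ker_le_of_isDominant (A := A) (B := B)
  let ι := {E : Subalgebra A B // GoodSub E ∧ ResSub E}
  haveI : Nonempty ι := ⟨⟨⊥, goodSub_bot, resSub_bot⟩⟩
  let E : ι → Subalgebra A B := fun i => i.1
  have dir : Directed (· ≤ ·) E := fun i j =>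
    ⟨⟨i.1 ⊔ j.1, goodSub_sup hker i.2.1 j.2.1, resSub_sup i.2.2 j.2.2⟩, le_sup_left, le_sup_right⟩
  refine ⟨⨆ i, E i, ⟨(uh_sub_iff hker _).mpr (goodSub_iSup E dir fun i => i.2.1),
    (res_alg_iff A _).mpr (resSub_iSup E dir fun i => i.2.2)⟩, ?_⟩
  intro C _ _ g hC hCres
  rw [uh_alg_iff] at hC
  rw [res_alg_iff] at hCres
  exact le_iSup E ⟨g.range, goodSub_range hC.1 hC.2.1 g, resSub_range hCres g⟩


end Groth.Agent.S7428
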