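import Groth.Statements.S7429
import Mathlib

set_option autoImplicit false
universe u
open CategoryTheory AlgebraicGeometry
open Desc

namespace Groth.Agent.S7429

/-- Precomposition with a morphism of the class `Q` (`P` local at the source for the `Q`-precoverage). -/
theorem precomp (Q : MorphismProperty Scheme.{u}) [Q.ContainsIdentities]
    (P : MorphismProperty Scheme.{u}) [P.IsLocalAtSource (Scheme.precoverage Q)]
    {U X Y : Scheme.{u}} (g : U ⟶ X) (hg : Q g) (h : X ⟶ Y) (hP : P h) : P (g ≫ h) := by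
  let Z : Option PUnit.{1} → Scheme.{u} := fun o => match o with | none => X | some _ => U
  let φ : ∀ o, Z o ⟶ X := fun o => match o with | none => 𝟙 X | some _ => g
  have hR : Presieve.ofArrows Z φ ∈ Scheme.precoverage Q X := by
    rw [Scheme.ofArrows_mem_precoverage_iff]
    refine ⟨fun x => ⟨none, ⟨x, rfl⟩⟩, ?_⟩
    rintro (_ | _)
    · exact Q.id_mem X
    · exact hg
  exact MorphismProperty.IsLocalAtSource.comp hR (φ (some PUnit.unit)) (Presieve.ofArrows.mk (some PUnit.unit)) hP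

/-- The largest open on which `f` has `P`, and its compatibility with `Q`-morphisms, for `Q` a class of
universally open morphisms containing the open immersions. -/
theorem largest (Q : MorphismProperty Scheme.{u}) [Q.ContainsIdentities] [Q.IsStableUnderComposition]
    (hQopen : ∀ {A B : Scheme.{u}} (g : A ⟶ B), Q g → IsOpenMap g)
    (hQimm : ∀ {A B : Scheme.{u}} (g : A ⟶ B) [IsOpenImmersion g], Q g)
    (hQres : ∀ {A B : Scheme.{u}} (g : A ⟶ B) (W : B.Opens), Q g → Q (g ∣_ W))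
    (P : MorphismProperty Scheme.{u}) [P.IsLocalAtSource (Scheme.precoverage Q)]
    {X Y : Scheme.{u}} (f : X ⟶ Y) :
    ∃ W : X.Opens, (P (W.ι ≫ f) ∧ ∀ W' : X.Opens, P (W'.ι ≫ f) → W' ≤ W) ∧
      ∀ (X' : Scheme.{u}) (g : X' ⟶ X) (_ : Q g) (V : X'.Opens),
        (P (V.ι ≫ g ≫ f) ∧ ∀ V' : X'.Opens, P (V'.ι ≫ g ≫ f) → V' ≤ V) → V = g ⁻¹ᵁ W := by
  -- general construction of the largest open
  have exists_largest : ∀ {X Y : Scheme.{u}} (f : X ⟶ Y),
      P ((⨆ W' : {W' : X.Opens // P (W'.ι ≫ f)}, (W' : X.Opens)).ι ≫ f) := by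
    intro X Y f
    set W : X.Opens := ⨆ W' : {W' : X.Opens // P (W'.ι ≫ f)}, (W' : X.Opens) with hW
    let Z : {W' : X.Opens // P (W'.ι ≫ f)} → Scheme.{u} := fun W' => (W' : X.Opens)
    let φ : ∀ i, Z i ⟶ (W : Scheme.{u}) := fun i => X.homOfLE (le_iSup (fun W' : {W' : X.Opens // P (W'.ι ≫ f)} => (W' : X.Opens)) i)
    have hR : Presieve.ofArrows Z φ ∈ Scheme.precoverage Q W := by
      rw [Scheme.ofArrows_mem_precoverage_iff]
      refine ⟨?_, fun i => hQimm _⟩
      rintro ⟨x, hx⟩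
      rw [hW, TopologicalSpace.Opens.mem_iSup] at hx
      obtain ⟨i, hi⟩ := hx
      exact ⟨i, ⟨⟨x, hi⟩, Scheme.homOfLE_apply' _ x hi⟩⟩
    refine MorphismProperty.IsLocalAtSource.of_forall_comp hR ?_
    rintro U g ⟨i⟩
    have : φ i ≫ W.ι ≫ f = (i : X.Opens).ι ≫ f := by
      rw [← Category.assoc, Scheme.homOfLE_ι]
    rw [this]
    exact i.2
  refine ⟨⨆ W' : {W' : X.Opens // P (W'.ι ≫ f)}, (W' : X.Opens), ⟨exists_largest f, ?_⟩, ?_⟩
  · intro W' hW'
    exact le_iSup (fun W' : {W' : X.Opens // P (W'.ι ≫ f)} => (W' : X.Opens)) ⟨W', hW'⟩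
  · intro X' g hg V ⟨hPV, hmax⟩
    set W : X.Opens := ⨆ W' : {W' : X.Opens // P (W'.ι ≫ f)}, (W' : X.Opens) with hW
    apply le_antisymm
    · -- V ≤ g⁻¹ W : the image of V is an open on which P holds
      intro x' hx'
      have hopen : IsOpen (g '' (V : Set X')) := hQopen g hg _ V.2
      let O : X.Opens := ⟨g '' (V : Set X'), hopen⟩
      -- the map V → O
      have hQVg : Q (V.ι ≫ g) := Q.comp_mem _ _ (hQimm _) hg
      let ψ := (V.ι ≫ g) ∣_ O
      have hψ : Q ψ := hQres _ O hQVg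
      have hsurj : Function.Surjective ψ.base := by
        rintro ⟨y, v, hv, rfl⟩
        refine ⟨⟨⟨v, hv⟩, ?_⟩, ?_⟩
        · show (V.ι ≫ g) ⟨v, hv⟩ ∈ O
          exact ⟨v, hv, by simp⟩
        · apply Subtype.ext
          rw [morphismRestrict_base_coe]
          simp
      have hR : Presieve.singleton ψ ∈ Scheme.precoverage Q O :=
        (Scheme.singleton_mem_precoverage_iff (P := Q) ψ).2 ⟨hsurj, hψ⟩
      have hPO : P (O.ι ≫ f) := by
        refine MorphismProperty.IsLocalAtSource.of_forall_comp hR ?_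
        rintro U k ⟨⟩
        have e : ψ ≫ O.ι ≫ f = ((V.ι ≫ g) ⁻¹ᵁ O).ι ≫ V.ι ≫ g ≫ f := by
          rw [← Category.assoc, morphismRestrict_ι]
          simp only [Category.assoc]
        rw [e]
        exact precomp Q P _ (hQimm _) _ hPV
      have hOW : O ≤ W := le_iSup (fun W' : {W' : X.Opens // P (W'.ι ≫ f)} => (W' : X.Opens)) ⟨O, hPO⟩
      exact hOW ⟨x', hx', rfl⟩
    · -- g⁻¹ W ≤ V
      apply hmax
      have : (g ⁻¹ᵁ W).ι ≫ g ≫ f = (g ∣_ W) ≫ W.ι ≫ f := by
        rw [← Category.assoc, ← Category.assoc, morphismRestrict_ι]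
      rw [this]
      exact precomp Q P _ (hQres g W hg) _ (exists_largest f)


/-- Suppose `P` is a property of scheme morphisms that is local on the source for the étale topology.
For every morphism `f : X → Y` there is a largest open `W(f) ⊆ X` such that `f|_{W(f)}` has `P`;
moreover for `g : X' → X` étale and `f' = f ∘ g` one has `W(f') = g⁻¹(W(f))`. -/
theorem result (P : MorphismProperty Scheme.{u})
    [P.IsLocalAtSource Scheme.etalePrecoverage] {X Y : Scheme.{u}} (f : X ⟶ Y) :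
    ∃ W : X.Opens, (P (W.ι ≫ f) ∧ ∀ W' : X.Opens, P (W'.ι ≫ f) → W' ≤ W) ∧
      ∀ (X' : Scheme.{u}) (g : X' ⟶ X) [Etale g] (V : X'.Opens),
        (P (V.ι ≫ g ≫ f) ∧ ∀ V' : X'.Opens, P (V'.ι ≫ g ≫ f) → V' ≤ V) → V = g ⁻¹ᵁ W := by
  have : P.IsLocalAtSource (Scheme.precoverage @Etale) := ‹P.IsLocalAtSource Scheme.etalePrecoverage›
  have h := largest (@Etale) (fun g hg => by have : Etale g := hg; exact g.isOpenMap)
    (fun g _ => inferInstance) (fun g W hg => by have : Etale g := hg; exact (inferInstance : Etale (g ∣_ W)))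
    P f
  obtain ⟨W, hW, hW'⟩ := h
  exact ⟨W, hW, fun X' g _ V hV => hW' X' g inferInstance V hV⟩

end Groth.Agent.S7429
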