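import Groth.Statements.S7431
import Mathlib.AlgebraicGeometry.Morphisms.OpenImmersion

set_option autoImplicit false
universe u
open CategoryTheory AlgebraicGeometry
open Lim

namespace Groth.Agent.S7431


theorem awayMap_bijective_of_pullback {B B' R R' : Type u} [CommRing B] [CommRing B']
    [CommRing R] [CommRing R'] (s : B →+* R) (t : R' →+* R) (p : B' →+* B) (q : B' →+* R')
    (hw : ∀ b', s (p b') = t (q b'))
    (hinj : ∀ b', p b' = 0 → q b' = 0 → b' = 0)
    (hex : ∀ b r', s b = t r' → ∃ b', p b' = b ∧ q b' = r')
    (h : B') (hiso : Function.Bijective (Localization.awayMap s (p h))) :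
    Function.Bijective (Localization.awayMap q h) := by
  obtain ⟨h1, h2⟩ := hiso
  rw [Localization.awayMap_injective_iff] at h1
  rw [Localization.awayMap_surjective_iff] at h2
  refine ⟨?_, ?_⟩
  · rw [Localization.awayMap_injective_iff]
    intro b' hb'
    obtain ⟨n, hn⟩ := h1 (p b') (by rw [hw, hb', map_zero])
    refine ⟨n, hinj _ ?_ ?_⟩
    · rw [map_mul, map_pow, hn]
    · rw [map_mul, hb', mul_zero]
  · rw [Localization.awayMap_surjective_iff]
    intro r'
    obtain ⟨b, m, hb⟩ := h2 (t r')
    obtain ⟨b', hb'1, hb'2⟩ := hex b (q h ^ m * r') (by rw [hb, map_mul, map_pow, hw])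
    exact ⟨b', m, hb'2⟩

theorem core {B' R' : Type u} [CommRing B'] [CommRing R'] (q : B' →+* R') {n : ℕ} (h : Fin n → B')
    (hb : ∀ i, Function.Bijective (Localization.awayMap q (h i))) :
    IsOpenImmersion (Scheme.Opens.ι (X := Spec (CommRingCat.of R'))
      (⨆ i, PrimeSpectrum.basicOpen (q (h i))) ≫ Spec.map (CommRingCat.ofHom q)) := by
  set W' : (Spec (CommRingCat.of R')).Opens := ⨆ i, PrimeSpectrum.basicOpen (q (h i)) with hW'
  -- the local pieces
  have key : ∀ i, IsOpenImmersion (Spec.map (CommRingCat.ofHom (algebraMap R' (Localization.Away (q (h i))))) ≫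
      Spec.map (CommRingCat.ofHom q)) := by
    intro i
    have e : Spec.map (CommRingCat.ofHom (algebraMap R' (Localization.Away (q (h i))))) ≫
      Spec.map (CommRingCat.ofHom q) = Spec.map (CommRingCat.ofHom (Localization.awayMap q (h i))) ≫
        Spec.map (CommRingCat.ofHom (algebraMap B' (Localization.Away (h i)))) := by
      rw [← Spec.map_comp, ← Spec.map_comp, ← CommRingCat.ofHom_comp, ← CommRingCat.ofHom_comp]
      congr 2
      exact (IsLocalization.map_comp _).symm
    rw [e]
    have : IsIso (CommRingCat.ofHom (Localization.awayMap q (h i))) := by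
      rw [ConcreteCategory.isIso_iff_bijective]
      exact hb i
    have := IsOpenImmersion.of_isLocalization (R := B') (S := Localization.Away (h i)) (h i)
    infer_instance
  have hle : ∀ i, (Spec.map (CommRingCat.ofHom (algebraMap R' (Localization.Away (q (h i)))))).opensRange ≤ W' := by
    intro i
    rw [Scheme.Hom.opensRange_localizationAway (R := CommRingCat.of R')]
    exact le_iSup (fun i => PrimeSpectrum.basicOpen (q (h i))) i
  have hrange : ∀ i, Set.range (Spec.map (CommRingCat.ofHom (algebraMap R' (Localization.Away (q (h i)))))) ⊆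
      Set.range W'.ι := by
    intro i
    rw [Scheme.Opens.range_ι]
    exact hle i
  have hmem : ∀ x : W', ∃ i, x.1 ∈ Set.range (Spec.map (CommRingCat.ofHom (algebraMap R' (Localization.Away (q (h i)))))) := by
    intro x
    have hx : x.1 ∈ (⨆ i, PrimeSpectrum.basicOpen (q (h i)) : (Spec (CommRingCat.of R')).Opens) := x.2
    obtain ⟨i, hi⟩ := TopologicalSpace.Opens.mem_iSup.mp hx
    refine ⟨i, ?_⟩
    have := Scheme.Hom.opensRange_localizationAway (R := CommRingCat.of R') (q (h i))
    rw [← Scheme.Hom.coe_opensRange, this]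
    exact hi
  apply IsOpenImmersion.of_forall_source_exists
  · intro x y hxy
    obtain ⟨i, u, hu⟩ := hmem x
    -- y also in the i-th piece
    have hy : y.1 ∈ Set.range (Spec.map (CommRingCat.ofHom (algebraMap R' (Localization.Away (q (h i)))))) := by
      have := Scheme.Hom.opensRange_localizationAway (R := CommRingCat.of R') (q (h i))
      rw [← Scheme.Hom.coe_opensRange, this]
      have hx1 : x.1 ∈ (PrimeSpectrum.basicOpen (q (h i)) : Set (PrimeSpectrum R')) := by
        have h1 : x.1 ∈ (Spec.map (CommRingCat.ofHom (algebraMap R' (Localization.Away (q (h i)))))).opensRange := ⟨u, hu⟩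
        rw [this] at h1
        exact h1
      have e1 : (Spec.map (CommRingCat.ofHom q)) x.1 = (Spec.map (CommRingCat.ofHom q)) y.1 := by
        simpa using hxy
      change q (h i) ∉ (y.1 : PrimeSpectrum R').asIdeal
      change q (h i) ∉ (x.1 : PrimeSpectrum R').asIdeal at hx1
      have e2 := congrArg (fun z : PrimeSpectrum B' => z.asIdeal) e1
      change Ideal.comap q (x.1 : PrimeSpectrum R').asIdeal = Ideal.comap q (y.1 : PrimeSpectrum R').asIdeal at e2
      intro hh
      apply hx1
      have : h i ∈ Ideal.comap q (x.1 : PrimeSpectrum R').asIdeal := by rw [e2]; exact hh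
      exact this
    obtain ⟨v, hv⟩ := hy
    have := key i
    have := (Scheme.Hom.isOpenEmbedding (Spec.map (CommRingCat.ofHom (algebraMap R' (Localization.Away (q (h i))))) ≫
      Spec.map (CommRingCat.ofHom q))).injective (a₁ := u) (a₂ := v) (by
      simp only [Scheme.Hom.comp_apply]
      rw [hu, hv]
      simpa using hxy)
    apply Subtype.ext
    rw [← hu, ← hv, this]
  · intro x
    obtain ⟨i, u, hu⟩ := hmem x
    refine ⟨_, IsOpenImmersion.lift W'.ι _ (hrange i), ?_, ?_, ?_⟩
    · have : IsOpenImmersion (IsOpenImmersion.lift W'.ι _ (hrange i) ≫ W'.ι) := by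
        rw [IsOpenImmersion.lift_fac]
        exact IsOpenImmersion.of_isLocalization (q (h i))
      exact IsOpenImmersion.of_comp _ W'.ι
    · refine ⟨u, ?_⟩
      apply W'.ι.isOpenEmbedding.injective
      rw [← Scheme.Hom.comp_apply, IsOpenImmersion.lift_fac]
      exact hu
    · rw [IsOpenImmersion.lift_fac_assoc]
      exact key i

/-- Let `B' = B ×_R R'` be a cartesian square of rings with maps `s : B → R`, `t : R' → R`, and let `W'
= D(f_1) ∪ … ∪ D(f_n) ⊆ Spec R'` with `t(f_i) = s(g_i)` for elements `g_i ∈ B` such that `B_{g_i} →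
R_{s(g_i)}` is an isomorphism for each `i`. Then the composite `W' → Spec R' → Spec B'`, the second
map coming from `B' → R'`, is an open immersion. -/
theorem result {B B' R R' : Type u} [CommRing B] [CommRing B']
    [CommRing R] [CommRing R'] (s : B →+* R) (t : R' →+* R) (p : B' →+* B) (q : B' →+* R')
    (hsq : IsPullback (CommRingCat.ofHom p) (CommRingCat.ofHom q) (CommRingCat.ofHom s) (CommRingCat.ofHom t))
    {n : ℕ} (f : Fin n → R') (g : Fin n → B) (hfg : ∀ i, t (f i) = s (g i))
    (hiso : ∀ i, Function.Bijective (Localization.awayMap s (g i))) :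
    IsOpenImmersion (Scheme.Opens.ι (X := Spec (CommRingCat.of R')) (⨆ i, PrimeSpectrum.basicOpen (f i)) ≫
      Spec.map (CommRingCat.ofHom q)) := by
  have hsq' := hsq.map (forget CommRingCat)
  have hw : ∀ b', s (p b') = t (q b') := by
    intro b'
    have := congrArg (fun φ => φ.hom b') hsq.w
    exact this
  have hinj : ∀ b', p b' = 0 → q b' = 0 → b' = 0 := by
    intro b' h1 h2
    exact Limits.Types.ext_of_isPullback hsq' (x₁ := b') (y₁ := (0 : B'))
      (h1.trans (map_zero p).symm) (h2.trans (map_zero q).symm)
  have hex : ∀ b r', s b = t r' → ∃ b', p b' = b ∧ q b' = r' := by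
    intro b r' hbr
    exact Limits.Types.exists_of_isPullback hsq' b r' hbr
  choose h hh1 hh2 using fun i => hex (g i) (f i) (hfg i).symm
  obtain rfl : g = fun i => p (h i) := funext fun i => (hh1 i).symm
  obtain rfl : f = fun i => q (h i) := funext fun i => (hh2 i).symm
  exact core q h (fun i => awayMap_bijective_of_pullback s t p q hw hinj hex (h i) (hiso i))


end Groth.Agent.S7431
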