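import Groth.Statements.S7443
import Mathlib
import Groth.Agent.H4.UHApprox

set_option autoImplicit false
universe u
open CategoryTheory AlgebraicGeometry
open Mor

namespace Groth.Agent.S7443

open CategoryTheory CategoryTheory.Limits AlgebraicGeometry TensorProduct
open Groth.Agent.H4.UHCrit Groth.Agent.H4.SemiNormal Groth.Agent.H4.SemiNormalTower Groth.Agent.H4.UHTower Groth.Agent.H4.FPColim Groth.Agent.H4.UHApprox



/-- Let `φ : A → B` be a ring map with `Spec B → Spec A` a universal homeomorphism. Then `B`, as an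
`A`-algebra, is the colimit of a filtered diagram of finitely presented `A`-algebras `B_i`, and
every `Spec B_i → Spec A` is again a universal homeomorphism. (The colimit is taken in the category
of rings under `A`, over a small filtered index category.) -/
theorem result {A B : Type u} [CommRing A] [CommRing B] (φ : A →+* B)
    (hφ : FlatMor.IsUnivHomeo (Spec.map (CommRingCat.ofHom φ))) :
    ∃ (J : Type u) (_ : SmallCategory J) (_ : IsFiltered J) (F : J ⥤ Under (CommRingCat.of A))
      (c : Limits.Cocone F) (_ : Limits.IsColimit c),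
      (∀ j, (F.obj j).hom.hom.FinitePresentation ∧ FlatMor.IsUnivHomeo (Spec.map (F.obj j).hom)) ∧
      Nonempty (c.pt ≅ Under.mk (CommRingCat.ofHom φ)) := by
  algebraize [φ]
  have hB : UHC A B := (uhc_iff A B).mp hφ
  obtain ⟨J, i1, i2, F, c, hc, hF, hiso⟩ := exists_filtered_colimit (𝒞 := clsUH hB) (by
    intro b
    obtain ⟨C, i1, i2, i3, hC, g, x, hx⟩ := lift_uh hB b
    exact ⟨C, i1, i2, i3, ⟨hC.1, hC.2, spec_surj_of_algHom g hB.2.1.2⟩, g, x, hx⟩)
  refine ⟨J, i1, i2, F, c, hc, ?_, hiso⟩
  intro j
  obtain ⟨alg, heq, hfp, hP⟩ := hF j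
  have h1 : (F.obj j).hom = CommRingCat.ofHom (algebraMap A (F.obj j).right) :=
    CommRingCat.hom_ext heq.symm
  refine ⟨?_, ?_⟩
  · rw [← heq]
    exact RingHom.finitePresentation_algebraMap.mpr hfp
  · rw [h1]
    exact (puh_iff _).mpr hP


end Groth.Agent.S7443
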