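import Groth.Statements.S7444
import Mathlib
import Groth.Agent.H4.UHApprox

set_option autoImplicit false
universe u
open CategoryTheory AlgebraicGeometry
open Mor

namespace Groth.Agent.S7444

open CategoryTheory CategoryTheory.Limits AlgebraicGeometry TensorProduct
open Groth.Agent.H4.UHCrit Groth.Agent.H4.SemiNormal Groth.Agent.H4.SemiNormalTower Groth.Agent.H4.UHTower Groth.Agent.H4.FPColim Groth.Agent.H4.UHApprox



/-- Let `φ : A → B` be a ring map such that `Spec B → Spec A` is a universal homeomorphism and all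
residue field extensions are trivial (every residue field map is surjective). Then `B`, as an
`A`-algebra, is the colimit of a filtered diagram of finitely presented `A`-algebras `B_i`, each of
which has the same two properties over `A`. (The colimit is taken in the category of rings under
`A`, over a small filtered index category.) -/
theorem result {A B : Type u} [CommRing A] [CommRing B]
    (φ : A →+* B) (hφ : FlatMor.IsUnivHomeo (Spec.map (CommRingCat.ofHom φ)))
    (hres : ∀ x : Spec (CommRingCat.of B), Function.Surjective ((Spec.map (CommRingCat.ofHom φ)).residueFieldMap x)) :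
    ∃ (J : Type u) (_ : SmallCategory J) (_ : IsFiltered J) (F : J ⥤ Under (CommRingCat.of A))
      (c : Limits.Cocone F) (_ : Limits.IsColimit c),
      (∀ j, (F.obj j).hom.hom.FinitePresentation ∧ FlatMor.IsUnivHomeo (Spec.map (F.obj j).hom) ∧
        ∀ x : Spec (F.obj j).right, Function.Surjective ((Spec.map (F.obj j).hom).residueFieldMap x)) ∧
      Nonempty (c.pt ≅ Under.mk (CommRingCat.ofHom φ)) := by
  algebraize [φ]
  have hSN : SN A B := (sn_iff A B).mp ⟨hφ, hres⟩
  have hB : UHC A B := uhc_of_sn hSN
  obtain ⟨J, i1, i2, F, c, hc, hF, hiso⟩ := exists_filtered_colimit (𝒞 := clsSN hSN) (by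
    intro b
    obtain ⟨C, i1, i2, i3, hC, g, x, hx⟩ := lift_uh hB b
    exact ⟨C, i1, i2, i3, ⟨⟨hC.1, hC.2, spec_surj_of_algHom g hB.2.1.2⟩,
      res_of_map hC.2 g hSN.2.1.2 hSN.2.2⟩, g, x, hx⟩)
  refine ⟨J, i1, i2, F, c, hc, ?_, hiso⟩
  intro j
  obtain ⟨alg, heq, hfp, hP⟩ := hF j
  have h1 : (F.obj j).hom = CommRingCat.ofHom (algebraMap A (F.obj j).right) :=
    CommRingCat.hom_ext heq.symm
  refine ⟨?_, ?_, ?_⟩
  · rw [← heq]
    exact RingHom.finitePresentation_algebraMap.mpr hfp
  · rw [h1]
    exact (puh_iff _).mpr hP.1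
  · rw [h1]
    exact (res_alg_iff A _).mpr hP.2


end Groth.Agent.S7444
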