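import Groth.Statements.S7451
import Groth.Agent.Lib.Helper8.ElemAut.Main
-- import your own Groth.Agent.* helpers here

set_option autoImplicit false
universe u
open CategoryTheory AlgebraicGeometry
open Desc

namespace Groth.Agent.S7451

/-- Let `k` be a field and `n ≥ 2`. For `i ≠ j` and `d ≥ 0` let `T_{i,j,d}` be the automorphism of
`𝔸^n_k` given by `x_i ↦ x_i + x_j^d` and fixing the other coordinates. Let `W ⊆ 𝔸^n_k` be a nonempty
open subscheme with `T_{i,j,d}⁻¹(W) = W` for all `i, j, d`. Then either `W = 𝔸^n_k`, or `k` has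
prime characteristic `p` and the complement `𝔸^n_k ∖ W` consists of finitely many closed points,
each of whose coordinates `a` in the residue field satisfies `a^(p^m) = a` for some `m ≥ 1`
(equivalently, is algebraic over `𝔽_p`). -/
theorem result (k : Type u) [Field k] (n : ℕ) (hn : 2 ≤ n)
    (W : (Spec (CommRingCat.of (MvPolynomial (Fin n) k))).Opens)
    (hW : (W : Set ↥(Spec (CommRingCat.of (MvPolynomial (Fin n) k)))).Nonempty)
    (hinv : ∀ (i j : Fin n), i ≠ j → ∀ d : ℕ,
      (Spec.map (CommRingCat.ofHom (MvPolynomial.aeval (R := k)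
        (Function.update MvPolynomial.X i (MvPolynomial.X i + MvPolynomial.X j ^ d) :
          Fin n → MvPolynomial (Fin n) k)).toRingHom)) ⁻¹ᵁ W = W) :
    W = ⊤ ∨ ∃ p : ℕ, p.Prime ∧ CharP k p ∧ ((W : Set ↥(Spec (CommRingCat.of (MvPolynomial (Fin n) k))))ᶜ).Finite ∧
      ∀ x : ↥(Spec (CommRingCat.of (MvPolynomial (Fin n) k))),
        x ∉ (W : Set ↥(Spec (CommRingCat.of (MvPolynomial (Fin n) k)))) →
        IsClosed ({x} : Set ↥(Spec (CommRingCat.of (MvPolynomial (Fin n) k)))) ∧ ∀ i : Fin n, ∃ m : ℕ, 0 < m ∧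
          (algebraMap (MvPolynomial (Fin n) k) x.asIdeal.ResidueField (MvPolynomial.X i)) ^ (p ^ m) =
            algebraMap (MvPolynomial (Fin n) k) x.asIdeal.ResidueField (MvPolynomial.X i) := by
  classical
  have hZc : IsClosed ((W : Set ↥(Spec (CommRingCat.of (MvPolynomial (Fin n) k))))ᶜ) :=
    W.isOpen.isClosed_compl
  obtain ⟨Z, hZdef⟩ : ∃ Z : Set (PrimeSpectrum (MvPolynomial (Fin n) k)),
      Z = ((W : Set ↥(Spec (CommRingCat.of (MvPolynomial (Fin n) k))))ᶜ) := ⟨_, rfl⟩
  have hZc' : IsClosed Z := by rw [hZdef]; exact hZc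
  have hZ : PrimeSpectrum.zeroLocus
      (PrimeSpectrum.vanishingIdeal Z : Set (MvPolynomial (Fin n) k)) = Z := by
    rw [PrimeSpectrum.zeroLocus_vanishingIdeal_eq_closure, hZc'.closure_eq]
  have hst : Groth.Agent.H8.ElemAut.Stable (PrimeSpectrum.vanishingIdeal Z) := by
    intro i j hij d f hf
    rw [PrimeSpectrum.mem_vanishingIdeal] at hf ⊢
    intro x hx
    have h1 := hinv i j hij d
    have h2 : (PrimeSpectrum.comap (MvPolynomial.aeval (R := k)
        (Function.update MvPolynomial.X i (MvPolynomial.X i + MvPolynomial.X j ^ d) :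
          Fin n → MvPolynomial (Fin n) k)).toRingHom x) ∈ Z := by
      rw [hZdef] at hx ⊢
      intro h3
      apply hx
      have h4 : x ∈ ((Spec.map (CommRingCat.ofHom (MvPolynomial.aeval (R := k)
        (Function.update MvPolynomial.X i (MvPolynomial.X i + MvPolynomial.X j ^ d) :
          Fin n → MvPolynomial (Fin n) k)).toRingHom)) ⁻¹ᵁ W) := h3
      rw [h1] at h4
      exact h4
    exact hf _ h2
  have hne : PrimeSpectrum.vanishingIdeal Z ≠ ⊥ := by
    intro hbot
    rw [hbot, PrimeSpectrum.zeroLocus_bot] at hZ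
    obtain ⟨x, hx⟩ := hW
    have h5 : (x : PrimeSpectrum (MvPolynomial (Fin n) k)) ∈
        (Set.univ : Set (PrimeSpectrum (MvPolynomial (Fin n) k))) := Set.mem_univ _
    rw [hZ, hZdef] at h5
    exact h5 hx
  rcases Groth.Agent.H8.ElemAut.main_ideal hn _ hst hne with h0 | ⟨p, hp, hchar, hfin, hpts⟩
  · left
    have h0' : ((W : Set ↥(Spec (CommRingCat.of (MvPolynomial (Fin n) k))))ᶜ) = ∅ :=
      hZdef.symm.trans (hZ.symm.trans h0)
    apply TopologicalSpace.Opens.ext
    exact Set.compl_empty_iff.mp h0'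
  · right
    rw [hZ] at hfin hpts
    refine ⟨p, hp, hchar, ?_, ?_⟩
    · rw [hZdef] at hfin
      exact hfin
    · intro x hx
      have hxZ : (x : PrimeSpectrum (MvPolynomial (Fin n) k)) ∈ Z := by
        rw [hZdef]
        exact hx
      obtain ⟨hmax, hco⟩ := hpts x hxZ
      refine ⟨(PrimeSpectrum.isClosed_singleton_iff_isMaximal x).mpr hmax, ?_⟩
      intro i
      obtain ⟨m, hm, hm'⟩ := hco i
      refine ⟨m, hm, ?_⟩
      have h6 := (Ideal.algebraMap_residueField_eq_zero (I := x.asIdeal)).mpr hm'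
      rw [map_sub, map_pow] at h6
      exact sub_eq_zero.mp h6

end Groth.Agent.S7451
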