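import Groth.Statements.S7456
-- import your own Groth.Agent.* helpers here

set_option autoImplicit false
universe u
open CategoryTheory CategoryTheory.Limits AlgebraicGeometry
open Grpd

namespace Groth.Agent.S7456


theorem c_s {S : Scheme.{u}} (G : Grpd.GroupoidScheme S) :
    G.c ≫ G.s = pullback.snd G.s G.t ≫ G.s := by
  have := G.comp_s (pullback.fst G.s G.t) (pullback.snd G.s G.t) pullback.condition
  have e : pullback.lift (pullback.fst G.s G.t) (pullback.snd G.s G.t) pullback.condition = 𝟙 _ := by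
    apply pullback.hom_ext <;> simp
  rw [e, Category.id_comp] at this
  exact this

theorem c_t {S : Scheme.{u}} (G : Grpd.GroupoidScheme S) :
    G.c ≫ G.t = pullback.fst G.s G.t ≫ G.t := by
  have := G.comp_t (pullback.fst G.s G.t) (pullback.snd G.s G.t) pullback.condition
  have e : pullback.lift (pullback.fst G.s G.t) (pullback.snd G.s G.t) pullback.condition = 𝟙 _ := by
    apply pullback.hom_ext <;> simp
  rw [e, Category.id_comp] at this
  exact this

theorem sub1 {S : Scheme.{u}} (G : Grpd.GroupoidScheme S) (W : Set G.U) :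
    ⇑G.s ⁻¹' (⇑G.t '' (⇑G.s ⁻¹' W)) ⊆ ⇑G.t ⁻¹' (⇑G.t '' (⇑G.s ⁻¹' W)) := by
  rintro r ⟨r', hr', hrr'⟩
  obtain ⟨z, hz1, hz2⟩ := Scheme.Pullback.exists_preimage_pullback (f := G.s) (g := G.t) r r' hrr'.symm
  refine ⟨G.c z, ?_, ?_⟩
  · change G.s (G.c z) ∈ W
    rw [← Scheme.Hom.comp_apply, c_s, Scheme.Hom.comp_apply, hz2]
    exact hr'
  · rw [← Scheme.Hom.comp_apply, c_t, Scheme.Hom.comp_apply, hz1]

theorem part1 {S : Scheme.{u}} (G : Grpd.GroupoidScheme S) (W : Set G.U) :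
    ⇑G.s ⁻¹' (⇑G.t '' (⇑G.s ⁻¹' W)) = ⇑G.t ⁻¹' (⇑G.t '' (⇑G.s ⁻¹' W)) := by
  apply Set.Subset.antisymm (sub1 G W)
  intro r hr
  have h1 : G.i r ∈ ⇑G.s ⁻¹' (⇑G.t '' (⇑G.s ⁻¹' W)) := by
    change G.s (G.i r) ∈ (⇑G.t '' (⇑G.s ⁻¹' W))
    rw [← Scheme.Hom.comp_apply, G.i_s]
    exact hr
  have h2 := sub1 G W h1
  change G.t (G.i r) ∈ (⇑G.t '' (⇑G.s ⁻¹' W)) at h2
  rw [← Scheme.Hom.comp_apply, G.i_t] at h2
  exact h2

/-- Let (U, R, s, t, c) be a groupoid scheme over S. For every subset W of U, the subset t(s^{-1}(W)) is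
set-theoretically R-invariant: its preimages under s and t coincide. If moreover s and t are open
maps and quasi-compact, then U is covered by R-invariant quasi-compact open subsets. (The published
statement also asserts that this set is open when W is open and s, t are open maps; this row omits
that clause.) (A groupoid scheme carries U, R, s, t, c, e, i over S with the groupoid axioms on
T-points; c is defined on the fibre product of s and t and sends a pair (a, b) with s(a) = t(b) to a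
composed with b.) -/
theorem result (S : Scheme.{u}) (G : Grpd.GroupoidScheme S) : (∀ W : Set G.U, ⇑G.s ⁻¹' (⇑G.t '' (⇑G.s ⁻¹' W)) = ⇑G.t ⁻¹' (⇑G.t '' (⇑G.s ⁻¹' W))) ∧ (IsOpenMap ⇑G.s → IsOpenMap ⇑G.t → QuasiCompact G.s → QuasiCompact G.t → ∀ u : G.U, ∃ W : G.U.Opens, IsCompact (W : Set G.U) ∧ u ∈ W ∧ G.s ⁻¹ᵁ W = G.t ⁻¹ᵁ W) := by
  refine ⟨part1 G, ?_⟩
  intro hs ht hqs hqt u
  obtain ⟨W₀, hW₀, huW₀, -⟩ := exists_isAffineOpen_mem_and_subset (x := u) (U := ⊤) trivial
  have hopen : IsOpen (⇑G.t '' (⇑G.s ⁻¹' (W₀ : Set G.U))) :=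
    ht _ (W₀.2.preimage G.s.continuous)
  refine ⟨⟨_, hopen⟩, ?_, ?_, ?_⟩
  · change IsCompact (⇑G.t '' (⇑G.s ⁻¹' (W₀ : Set G.U)))
    apply IsCompact.image _ G.t.continuous
    exact hqs.1 W₀ W₀.2 hW₀.isCompact
  · refine ⟨G.e u, ?_, ?_⟩
    · change G.s (G.e u) ∈ W₀
      rw [← Scheme.Hom.comp_apply, G.e_s]
      exact huW₀
    · rw [← Scheme.Hom.comp_apply, G.e_t]
      rfl
  · apply TopologicalSpace.Opens.ext
    exact part1 G W₀


end Groth.Agent.S7456
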