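import Groth.Statements.S7457
import Groth.Agent.H4.GrpdLib

set_option autoImplicit false
universe u
open CategoryTheory CategoryTheory.Limits AlgebraicGeometry
open Grpd

namespace Groth.Agent.S7457


open Groth.Agent.H4.GrpdLib

/-- Let (U, R, s, t, c) be a groupoid scheme over S. Let φ : R x_(t,U,t) R -> R x_(s,U,t) R be the
morphism sending a pair (a, b) with the same target to (a, a^{-1} composed with b), that is, the
morphism whose first component is the first projection and whose second component is c applied to (i
composed after the first projection, second projection). Then φ is an isomorphism and composed with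
c it gives the second projection. Moreover the square with sides c, the second projection R
x_(s,U,t) R -> R, s and s is cartesian. (A groupoid scheme carries U, R, s, t, c, e, i over S with
the groupoid axioms on T-points; c is defined on the fibre product of s and t and sends a pair (a,
b) with s(a) = t(b) to a composed with b.) -/
theorem result (S : Scheme.{u}) (G : Grpd.GroupoidScheme S) : (∀ φ : pullback G.t G.t ⟶ pullback G.s G.t, φ ≫ pullback.fst G.s G.t = pullback.fst G.t G.t → φ ≫ pullback.snd G.s G.t = pullback.lift (pullback.fst G.t G.t ≫ G.i) (pullback.snd G.t G.t) ((Category.assoc _ _ _).trans ((congrArg (fun x => pullback.fst G.t G.t ≫ x) G.i_s).trans pullback.condition)) ≫ G.c → IsIso φ ∧ φ ≫ G.c = pullback.snd G.t G.t) ∧ IsPullback G.c (pullback.snd G.s G.t) G.s G.s := by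
  refine ⟨?_, ?_⟩
  · intro φ h1 h2
    rw [lift_c] at h2
    have hc : φ ≫ G.c = pullback.snd G.t G.t := by
      rw [c_eq_comp, precomp_comp]
      rw [comp_congr G _ h1 h2]
      exact comp_i_comp G _ _ pullback.condition
    refine ⟨⟨pullback.lift (pullback.fst G.s G.t) G.c (c_t G).symm, ?_, ?_⟩, hc⟩
    · apply pullback.hom_ext
      · rw [Category.assoc, pullback.lift_fst, h1, Category.id_comp]
      · rw [Category.assoc, pullback.lift_snd, hc, Category.id_comp]
    · apply pullback.hom_ext
      · rw [Category.assoc, h1, pullback.lift_fst, Category.id_comp]
      · rw [Category.assoc, h2, precomp_comp, Category.id_comp]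
        rw [comp_congr G _ (by rw [← Category.assoc, pullback.lift_fst])
          (pullback.lift_snd _ _ _)]
        rw [comp_congr G _ rfl (c_eq_comp G)]
        exact i_comp_comp G _ _ pullback.condition
  · refine IsPullback.of_iso_pullback ⟨c_s G⟩
      ⟨pullback.lift G.c (pullback.snd G.s G.t) (c_s G),
        pullback.lift (comp G (pullback.fst G.s G.s) (pullback.snd G.s G.s ≫ G.i)
          (by rw [Category.assoc, G.i_t, pullback.condition])) (pullback.snd G.s G.s)
          (by rw [comp_s, Category.assoc, G.i_s]), ?_, ?_⟩ ?_ ?_
    · apply pullback.hom_ext
      · rw [Category.assoc, pullback.lift_fst, precomp_comp, Category.id_comp]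
        rw [comp_congr G _ (pullback.lift_fst _ _ _)
          (by rw [← Category.assoc, pullback.lift_snd])]
        rw [comp_congr G _ (c_eq_comp G) rfl]
        exact comp_comp_i G _ _ pullback.condition
      · rw [Category.assoc, pullback.lift_snd, pullback.lift_snd, Category.id_comp]
    · apply pullback.hom_ext
      · rw [Category.assoc, pullback.lift_fst, Category.id_comp, c_eq_comp, precomp_comp]
        rw [comp_congr G _ (pullback.lift_fst _ _ _) (pullback.lift_snd _ _ _)]
        exact comp_i_comp' G _ _ pullback.condition
      · rw [Category.assoc, pullback.lift_snd, pullback.lift_snd, Category.id_comp]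
    · exact pullback.lift_fst _ _ _
    · exact pullback.lift_snd _ _ _


end Groth.Agent.S7457
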