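import Groth.Statements.S7458
-- import your own Groth.Agent.* helpers here

set_option autoImplicit false
universe u
open CategoryTheory MonoidalCategory CartesianMonoidalCategory MonObj GrpObj AlgebraicGeometry
open GrpSch

namespace Groth.Agent.S7458


section gen

variable {C : Type*} [Category C] [CartesianMonoidalCategory C] {G T : C} [GrpObj G] (ψ : T ⟶ G)

/-- the shear automorphism `(t, g) ↦ (t, ψ(t) g)` -/
noncomputable def shear : T ⊗ G ≅ T ⊗ G where
  hom := lift (fst T G) ((fst T G ≫ ψ) * snd T G)
  inv := lift (fst T G) ((fst T G ≫ ψ)⁻¹ * snd T G)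
  hom_inv_id := by
    ext
    · simp
    · simp [comp_mul, comp_inv]
  inv_hom_id := by
    ext
    · simp
    · simp [comp_mul, comp_inv]

theorem shear_hom_snd : (shear ψ).hom ≫ snd T G = ψ ▷ G ≫ μ[G] := by
  simp only [shear, lift_snd, Hom.mul_def]
  congr 1
  ext <;> simp

end gen

theorem flat_translate (S : Scheme.{u}) (G : Over S) [GrpObj G] (T : Over S) (ψ : T ⟶ G)
    (hT : Flat T.hom) : Flat (ψ ▷ G ≫ μ[G]).left := by
  rw [← shear_hom_snd, Over.comp_left]
  have h1 : Flat (snd T G).left := by
    rw [Over.snd_left]
    infer_instance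
  have h2 : IsIso (shear ψ).hom.left := inferInstance
  infer_instance

/-- For a group scheme G over a scheme S, a scheme T flat over S and a morphism ψ : T -> G over S, the
map T x_S G -> G sending (t, g) to the product ψ(t)·g is a flat morphism; taking T = G and ψ the
identity, the multiplication G x_S G -> G is flat whenever G is flat over S. -/
theorem result (S : Scheme.{u}) (G : Over S) [GrpObj G] : (∀ (T : Over S) (ψ : T ⟶ G), Flat T.hom → Flat (ψ ▷ G ≫ μ[G]).left) ∧ (Flat G.hom → Flat μ[G].left) := by
  refine ⟨fun T ψ hT => flat_translate S G T ψ hT, fun hG => ?_⟩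
  have := flat_translate S G G (𝟙 G) hG
  simpa using this


end Groth.Agent.S7458
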