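import Groth.Statements.S7461
import Groth.Agent.H4.GrpdLib5

set_option autoImplicit false
universe u
open CategoryTheory CategoryTheory.Limits AlgebraicGeometry
open Grpd

namespace Groth.Agent.S7461


open Groth.Agent.H4.GrpdLib

theorem isFinLocFreeOfDeg_restrict {X Y : Scheme.{u}} (f : X ⟶ Y) [IsFinite f] [Flat f]
    [LocallyOfFinitePresentation f] (V : Y.Opens) (r : ℕ) (h : ∀ y ∈ V, f.finrank y = r) :
    Mor2.IsFinLocFreeOfDeg r (f ∣_ V) := by
  have sq := (isPullback_morphismRestrict f V).flip
  have h1 : IsFinite (f ∣_ V) := MorphismProperty.of_isPullback sq inferInstance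
  have h2 : Flat (f ∣_ V) := MorphismProperty.of_isPullback sq inferInstance
  have h3 : LocallyOfFinitePresentation (f ∣_ V) := MorphismProperty.of_isPullback sq inferInstance
  refine ⟨⟨h1, h2, h3⟩, fun y => ?_⟩
  rw [Scheme.Hom.finrank_of_isPullback _ _ _ _ sq y]
  exact h _ y.2

/-- Let (U, R, s, t, c) be a groupoid scheme over S with s and t finite locally free. Then U is a
disjoint union of R-invariant open subschemes U_r, r = 1, 2, 3, ..., such that s and t restricted
over U_r are finite locally free of rank r. Here the decomposition is indexed by all natural numbers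
with U_0 empty, R-invariance of U_r means s^{-1}(U_r) = t^{-1}(U_r), and 'finite locally free of
rank r' means finite, flat, locally of finite presentation with rank function constant equal to r.
(A groupoid scheme carries U, R, s, t, c, e, i over S with the groupoid axioms on T-points; c is
defined on the fibre product of s and t and sends a pair (a, b) with s(a) = t(b) to a composed with
b.) -/
theorem result (S : Scheme.{u}) (G : Grpd.GroupoidScheme S) [IsFinite G.s] [Flat G.s] [LocallyOfFinitePresentation G.s] [IsFinite G.t] [Flat G.t] [LocallyOfFinitePresentation G.t] : ∃ V : ℕ → G.U.Opens, V 0 = ⊥ ∧ (∀ r r', r ≠ r' → Disjoint (V r) (V r')) ∧ (⨆ r, V r) = ⊤ ∧ ∀ r, G.s ⁻¹ᵁ V r = G.t ⁻¹ᵁ V r ∧ Mor2.IsFinLocFreeOfDeg r (G.s ∣_ V r) ∧ Mor2.IsFinLocFreeOfDeg r (G.t ∣_ V r) := by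
  have hlc := Scheme.Hom.isLocallyConstant_finrank G.s
  refine ⟨fun r => ⟨G.s.finrank ⁻¹' {r}, hlc.isOpen_fiber r⟩, ?_, ?_, ?_, ?_⟩
  · apply TopologicalSpace.Opens.ext
    ext u
    simp only [TopologicalSpace.Opens.coe_mk, Set.mem_preimage, Set.mem_singleton_iff,
      TopologicalSpace.Opens.coe_bot, Set.mem_empty_iff_false, iff_false]
    have h1 := Scheme.Hom.one_le_finrank_map G.s (G.e u)
    rw [← Scheme.Hom.comp_apply, G.e_s] at h1
    intro h0
    have h2 : (𝟙 G.U : G.U ⟶ G.U) u = u := rfl
    rw [h2, h0] at h1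
    exact absurd h1 (by norm_num)
  · intro r r' hne
    rw [disjoint_iff]
    apply TopologicalSpace.Opens.ext
    ext u
    simp only [TopologicalSpace.Opens.coe_inf, TopologicalSpace.Opens.coe_mk, Set.mem_inter_iff,
      Set.mem_preimage, Set.mem_singleton_iff, TopologicalSpace.Opens.coe_bot,
      Set.mem_empty_iff_false, iff_false, not_and]
    intro h1 h2
    exact hne (h1.symm.trans h2)
  · rw [eq_top_iff]
    intro u _
    rw [TopologicalSpace.Opens.mem_iSup]
    exact ⟨G.s.finrank u, rfl⟩
  · intro r
    refine ⟨?_, ?_, ?_⟩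
    · apply TopologicalSpace.Opens.ext
      ext ρ
      change G.s.finrank (G.s ρ) = r ↔ G.s.finrank (G.t ρ) = r
      rw [finrank_s_eq]
    · exact isFinLocFreeOfDeg_restrict G.s _ r (fun y hy => hy)
    · refine isFinLocFreeOfDeg_restrict G.t _ r (fun y hy => ?_)
      rw [finrank_t_eq]
      exact hy


end Groth.Agent.S7461
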