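import Groth.Statements.S7464
import Groth.Agent.H4.GrpdLib2
import Mathlib.AlgebraicGeometry.Morphisms.QuasiFinite

set_option autoImplicit false
universe u
open CategoryTheory CategoryTheory.Limits AlgebraicGeometry
open Grpd

namespace Groth.Agent.S7464


open Groth.Agent.H4.GrpdLib

theorem eq_of_specializes_of_fibre {X Y : Scheme.{u}} (f : X ⟶ Y) [LocallyQuasiFinite f] {x x' : X}
    (h : x ⤳ x') (hf : f x = f x') : x = x' := by
  have hd := (f.isDiscrete_preimage_singleton (f x')).to_subtype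
  have h1 : (⟨x, hf⟩ : f ⁻¹' {f x'}) ⤳ (⟨x', rfl⟩ : f ⁻¹' {f x'}) :=
    Topology.IsInducing.subtypeVal.specializes_iff.mp h
  have := h1.eq
  exact congrArg Subtype.val this

variable {S : Scheme.{u}} (G : Grpd.GroupoidScheme S)

def Orb (v w : G.U) : Prop := ∃ ρ : G.R, G.s ρ = v ∧ G.t ρ = w

theorem orb_refl (v : G.U) : Orb G v v := by
  refine ⟨G.e v, ?_, ?_⟩
  · rw [← Scheme.Hom.comp_apply, G.e_s]; rfl
  · rw [← Scheme.Hom.comp_apply, G.e_t]; rfl

theorem orb_trans {v w x : G.U} (h1 : Orb G v w) (h2 : Orb G w x) : Orb G v x := by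
  obtain ⟨ρ, rfl, rfl⟩ := h1
  obtain ⟨ρ', h, rfl⟩ := h2
  obtain ⟨z, hz1, hz2⟩ := Scheme.Pullback.exists_preimage_pullback (f := G.s) (g := G.t) ρ' ρ h
  refine ⟨G.c z, ?_, ?_⟩
  · rw [← Scheme.Hom.comp_apply, c_s, Scheme.Hom.comp_apply, hz2]
  · rw [← Scheme.Hom.comp_apply, c_t, Scheme.Hom.comp_apply, hz1]

theorem step [IsFinite G.s] [IsFinite G.t] {v w : G.U} (h : Orb G v w) (hs : v ⤳ w) (hne : v ≠ w) :
    ∃ w', Orb G w w' ∧ w ⤳ w' ∧ w ≠ w' := by
  obtain ⟨ρ, rfl, rfl⟩ := h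
  obtain ⟨ρ', hρ, hρ'⟩ := (G.s.isClosedMap.specializingMap) hs
  refine ⟨G.t ρ', ⟨ρ', hρ', rfl⟩, hρ.map G.t.continuous, ?_⟩
  intro heq
  have := eq_of_specializes_of_fibre G.t hρ heq
  rw [← this] at hρ'
  exact hne hρ'

/-- Let (U, R, s, t, c) be a groupoid scheme over S with s and t finite, and let u, u' be distinct
points of U in the same orbit, say u = s(r) and u' = t(r). Then u' does not lie in the closure of u.
(The published statement calls u, u' points of R; this row takes them to be points of U, as the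
orbit condition and the proof require.) (A groupoid scheme carries U, R, s, t, c, e, i over S with
the groupoid axioms on T-points; c is defined on the fibre product of s and t and sends a pair (a,
b) with s(a) = t(b) to a composed with b.) -/
theorem result (S : Scheme.{u}) (G : Grpd.GroupoidScheme S) [IsFinite G.s] [IsFinite G.t] (r : G.R) (hne : G.s r ≠ G.t r) : ¬ (G.s r ⤳ G.t r) := by
  intro hsp
  set u := G.s r with hu
  let O : Set G.U := {w | Orb G u w}
  have hO : O.Finite := by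
    have : O = G.t '' (G.s ⁻¹' {u}) := by
      ext w
      constructor
      · rintro ⟨ρ, h1, h2⟩
        exact ⟨ρ, h1, h2⟩
      · rintro ⟨ρ, h1, h2⟩
        exact ⟨ρ, h1, h2⟩
    rw [this]
    exact (G.s.finite_preimage_singleton u).image _
  have : Finite O := hO
  let rel : O → O → Prop := fun x y => y.1 ⤳ x.1 ∧ x.1 ≠ y.1
  have : IsTrans O rel := ⟨by
    rintro x y z ⟨h1, h1'⟩ ⟨h2, h2'⟩
    refine ⟨h2.trans h1, ?_⟩
    intro hxz
    apply h2'
    rw [hxz] at h1
    exact (h1.antisymm h2).eq⟩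
  have : Std.Irrefl rel := ⟨by
    rintro x ⟨_, h⟩
    exact h rfl⟩
  have hwf : WellFounded rel := Finite.wellFounded_of_trans_of_irrefl rel
  let A : Set O := {w | ∃ v : O, v.1 ⤳ w.1 ∧ v.1 ≠ w.1}
  have hA : A.Nonempty := ⟨⟨G.t r, ⟨r, rfl, rfl⟩⟩, ⟨u, orb_refl G u⟩, hsp, hne⟩
  obtain ⟨m, ⟨v, hv1, hv2⟩, hmin⟩ := hwf.has_min A hA
  have hvm : Orb G v.1 m.1 := by
    obtain ⟨ρ, h1, h2⟩ := v.2
    -- symmetric: v ~ u
    have hsym : Orb G v.1 u := by
      refine ⟨G.i ρ, ?_, ?_⟩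
      · rw [← Scheme.Hom.comp_apply, G.i_s]; exact h2
      · rw [← Scheme.Hom.comp_apply, G.i_t]; exact h1
    exact orb_trans G hsym m.2
  obtain ⟨w', hw1, hw2, hw3⟩ := step G hvm hv1 hv2
  have hw'O : w' ∈ O := orb_trans G m.2 hw1
  exact hmin ⟨w', hw'O⟩ ⟨m, hw2, hw3⟩ ⟨hw2, fun h => hw3 h.symm⟩


end Groth.Agent.S7464
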