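import Groth.Statements.S7471
import Groth.Agent.H4.VCover

set_option autoImplicit false
universe w u
open HTop

namespace Groth.Agent.S7471

open CategoryTheory CategoryTheory.Limits AlgebraicGeometry in
/-- If E is a V covering of T and T' -> T is any morphism of schemes, then the family of base changes T'
x_T T_i -> T' is a V covering of T'. -/
theorem result {T T' : Scheme.{u}} (g : T' ⟶ T) (E : PreZeroHypercover.{w} T) (hE : HTop.IsVCover E) : HTop.IsVCover (E.pullback₁ g) := by
  rintro ⟨U', (hU' : IsAffineOpen U')⟩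
  have : IsAffine (U' : Scheme.{u}) := hU'
  obtain ⟨C, hC, hCR⟩ := Groth.Agent.H4.VCover.exists_standardV_refinesOver E hE
    (U' : Scheme.{u}) (U'.ι ≫ g)
  refine ⟨C, hC, fun j => ?_⟩
  obtain ⟨i, r, hr⟩ := hCR j
  refine ⟨i, pullback.lift (C.f j ≫ U'.ι) r (by rw [hr, Category.assoc]), ?_⟩
  exact pullback.lift_fst _ _ _


end Groth.Agent.S7471
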