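import Groth.Statements.S7472
import Groth.Agent.H4.VCover

set_option autoImplicit false
universe w u
open HTop

namespace Groth.Agent.S7472

open CategoryTheory CategoryTheory.Limits AlgebraicGeometry in
/-- Let E be a V covering of a scheme T and, for every member T_i of E, let F_i be a V covering of T_i.
Then the composite family of all T_ij -> T is a V covering of T. -/
theorem result {T : Scheme.{u}} (E : PreZeroHypercover.{w} T) (hE : HTop.IsVCover E) (F : ∀ i, PreZeroHypercover.{w} (E.X i)) (hF : ∀ i, HTop.IsVCover (F i)) : HTop.IsVCover (E.bind F) := by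
  rintro ⟨U, (hU : IsAffineOpen U)⟩
  obtain ⟨F₀, hF₀, hF₀R⟩ := hE ⟨U, hU⟩
  choose a r hr using hF₀R
  have hG : ∀ j : F₀.I₀, ∃ C : PreZeroHypercover.{0} (F₀.X j), IsStandardV C ∧
      RefinesOver (r j) C (F (a j)) := fun j => by
    have := hF₀.isAffine_obj j
    exact Groth.Agent.H4.VCover.exists_standardV_refinesOver (F (a j)) (hF (a j)) (F₀.X j) (r j)
  choose G hGV hGR using hG
  refine ⟨F₀.bind G, Groth.Agent.S7470.result F₀ hF₀ G hGV, ?_⟩
  rintro ⟨j, m⟩
  obtain ⟨l, s, hs⟩ := hGR j m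
  refine ⟨⟨a j, l⟩, s, ?_⟩
  change s ≫ ((F (a j)).f l ≫ E.f (a j)) = ((G j).f m ≫ F₀.f j) ≫ U.ι
  rw [← Category.assoc, hs, Category.assoc, hr j, Category.assoc]


end Groth.Agent.S7472
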