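import Groth.Statements.S7474
import Mathlib
import Groth.Agent.Lib.Helper1.VSheaf
import Groth.Agent.S7473

set_option autoImplicit false
universe w u
open HTop

namespace Groth.Agent.S7474

open CategoryTheory CategoryTheory.Limits AlgebraicGeometry in
/-- A presheaf F of sets on the category of all schemes has the sheaf property for every V covering
family exactly when F is a sheaf for the Zariski topology and has the sheaf property for each
standard V covering. -/
theorem result (F : Scheme.{u}ᵒᵖ ⥤ Type w) : HTop.IsVSheaf F ↔ (Presieve.IsSheaf Scheme.zariskiTopology F ∧ ∀ (T : Scheme.{u}) (E : PreZeroHypercover.{u} T), HTop.IsStandardV E → Presieve.IsSheafFor F E.presieve₀) := by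
  constructor
  · intro hF
    refine ⟨?_, ?_⟩
    · change Presieve.IsSheaf (Scheme.zariskiPrecoverage.toGrothendieck) F
      rw [Precoverage.isSheaf_toGrothendieck_iff_of_isStableUnderBaseChange]
      intro X R hR
      apply hF R
      obtain ⟨E₀, rfl⟩ := R.exists_eq_preZeroHypercover
      rw [presieve₀_mem_vPrecoverage_iff]
      exact Groth.Agent.S7473.result ⟨E₀, Scheme.zariskiPrecoverage_le_fpqcPrecoverage _ hR⟩
    · intro T E hE
      apply hF
      rw [presieve₀_mem_vPrecoverage_iff]
      exact Groth.Agent.Lib.Helper1.VSheaf.isVCover_of_isStandardV E hE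
  · rintro ⟨hzar, hst⟩ X R hR
    rw [vPrecoverage, PreZeroHypercoverFamily.mem_precoverage_iff] at hR
    obtain ⟨E, hE, rfl⟩ := hR
    exact Groth.Agent.Lib.Helper1.VSheaf.isSheafFor_of_isVCover hzar hst E hE

end Groth.Agent.S7474
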