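import Groth.Statements.S7475
import Mathlib
import Groth.Agent.Lib.Helper1.VSheaf
import Groth.Agent.S7474

set_option autoImplicit false
universe w u
open HTop

namespace Groth.Agent.S7475

namespace Aux
open CategoryTheory CategoryTheory.Limits AlgebraicGeometry
universe v w'

theorem isSheafFor_singleton_sigmaDesc_iff {F : Scheme.{u}ᵒᵖ ⥤ Type v}
    (hF : Presieve.IsSheaf Scheme.zariskiTopology F) {S : Scheme.{u}}
    (E : PreZeroHypercover.{u} S) [Finite E.I₀] :
    Presieve.IsSheafFor F (.singleton (Sigma.desc E.f)) ↔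
      Presieve.IsSheafFor F (.ofArrows E.X E.f) := by
  have : PreservesLimitsOfShape (Discrete (E.I₀ × E.I₀)) F :=
    preservesLimitsOfShape_discrete_of_isSheaf_zariskiTopology hF
  have : PreservesLimitsOfShape (Discrete E.I₀) F :=
    preservesLimitsOfShape_discrete_of_isSheaf_zariskiTopology hF
  rw [← Presieve.isSheafFor_sigmaDesc_iff E.f (coproductIsCoproduct _)
    (FinitaryExtensive.isVanKampen_finiteCoproducts (coproductIsCoproduct _)).isUniversal]
  rfl

theorem isStandardV_singleton_sigmaDesc {T : Scheme.{u}} (E : PreZeroHypercover.{u} T)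
    (hE : HTop.IsStandardV E) :
    HTop.IsStandardV (PreZeroHypercover.singleton.{w'} (Sigma.desc E.f)) := by
  have := hE.finite_index
  have := hE.isAffine_obj
  refine ⟨hE.isAffine, inferInstanceAs (Finite PUnit), fun _ => ?_, ?_⟩
  · change IsAffine (∐ E.X)
    infer_instance
  · intro V _ _ g
    obtain ⟨W, hd, hv, φ, hφ, j, g', hg'⟩ := hE.lift V g
    refine ⟨W, hd, hv, φ, hφ, PUnit.unit, g' ≫ Sigma.ι E.X j, ?_⟩
    change (g' ≫ Sigma.ι E.X j) ≫ Sigma.desc E.f = _
    rw [Category.assoc, Sigma.ι_desc, hg']

end Aux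

open CategoryTheory CategoryTheory.Limits AlgebraicGeometry in
/-- Variant with a single arrow: a presheaf of sets on all schemes has the sheaf property for every V
covering family exactly when it is a Zariski sheaf and has the sheaf property for every morphism V
-> U of affine schemes that on its own forms a standard V covering. -/
theorem result (F : Scheme.{u}ᵒᵖ ⥤ Type w) : HTop.IsVSheaf F ↔ (Presieve.IsSheaf Scheme.zariskiTopology F ∧ ∀ (U V : Scheme.{u}) (f : V ⟶ U), HTop.IsStandardV (PreZeroHypercover.singleton f) → Presieve.IsSheafFor F (Presieve.singleton f)) := by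
  rw [Groth.Agent.S7474.result]
  constructor
  · rintro ⟨hzar, hst⟩
    refine ⟨hzar, fun U V f hf => ?_⟩
    have := Groth.Agent.Lib.Helper1.VSheaf.isSheafFor_of_isStandardV hst _ hf
    rwa [PreZeroHypercover.presieve₀_singleton] at this
  · rintro ⟨hzar, hsing⟩
    refine ⟨hzar, fun T E hE => ?_⟩
    have := hE.finite_index
    change Presieve.IsSheafFor F (.ofArrows E.X E.f)
    rw [← Aux.isSheafFor_singleton_sigmaDesc_iff hzar E]
    exact hsing _ _ _ (Aux.isStandardV_singleton_sigmaDesc E hE)

end Groth.Agent.S7475
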