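import Groth.Statements.S7477
import Mathlib
import Groth.Agent.Lib.Helper1.VSubm

set_option autoImplicit false
universe w u
open HTop

namespace Groth.Agent.S7477

open CategoryTheory CategoryTheory.Limits AlgebraicGeometry in
/-- If {f_i : X_i -> X} is a V covering (indexed by a type in the universe of X), then the morphism from
the coproduct of the X_i to X induced by the f_i is universally submersive. -/
theorem result {X : Scheme.{u}} (E : PreZeroHypercover.{u} X) (hE : HTop.IsVCover E) : SGA1.UnivSubmersive (Sigma.desc E.f) := by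
  intro X' Y' i₁ i₂ f' h
  change Topology.IsQuotientMap f'
  apply Groth.Agent.Lib.Helper1.VSubm.isQuotientMap_of_isVCover_singleton.{0} f'
  rintro ⟨U, (hU : IsAffineOpen U)⟩
  have : IsAffine (U : Scheme.{u}) := hU
  obtain ⟨C, hC, hCR⟩ := Groth.Agent.H4.VCover.exists_standardV_refinesOver E hE
    (U : Scheme.{u}) (U.ι ≫ i₂)
  refine ⟨C, hC, fun k => ?_⟩
  obtain ⟨a, s, hs⟩ := hCR k
  refine ⟨PUnit.unit, h.lift (C.f k ≫ U.ι) (s ≫ Sigma.ι E.X a) ?_, ?_⟩
  · rw [Category.assoc, Category.assoc, Sigma.ι_desc, hs]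
  · exact h.lift_fst _ _ _

end Groth.Agent.S7477
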