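import Groth.Statements.S7494
-- import your own Groth.Agent.* helpers here

set_option autoImplicit false
universe u
open CategoryTheory MonoidalCategory CartesianMonoidalCategory MonObj GrpObj AlgebraicGeometry
open AlgGrp

namespace Groth.Agent.S7494

open CategoryTheory MonoidalCategory CartesianMonoidalCategory MonObj AlgebraicGeometry


section gen

variable {C : Type*} [Category C] [CartesianMonoidalCategory C] {G X : C} [GrpObj G]
  (act : G ⊗ X ⟶ X) (one_act : (η[G] ▷ X) ≫ act = (λ_ X).hom)
  (mul_act : (μ[G] ▷ X) ≫ act = (α_ G G X).hom ≫ (G ◁ act) ≫ act)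

include one_act in
theorem one_smul' {T : C} (x : T ⟶ X) : lift (toUnit T ≫ η[G]) x ≫ act = x := by
  have : lift (toUnit T ≫ η[G]) x = lift (toUnit T) x ≫ (η[G] ▷ X) := by
    simp
  rw [this, Category.assoc, one_act]
  simp

include mul_act in
theorem mul_smul' {T : C} (g h : T ⟶ G) (x : T ⟶ X) :
    lift (g * h) x ≫ act = lift g (lift h x ≫ act) ≫ act := by
  have : lift (g * h) x = lift (lift g h) x ≫ (μ[G] ▷ X) := by
    rw [Hom.mul_def]
    simp
  rw [this, Category.assoc, mul_act]
  simp

include one_act mul_act in
theorem free_iff :
    (∀ (T : C) (g : T ⟶ G) (x : T ⟶ X), lift g x ≫ act = x → g = toUnit T ≫ η[G]) ↔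
      Mono (lift act (snd G X)) := by
  constructor
  · intro hfree
    refine ⟨fun {T} p p' hpp' => ?_⟩
    have e1 : p ≫ snd G X = p' ≫ snd G X := by
      have := congrArg (fun k => k ≫ snd X X) hpp'
      simpa using this
    have e2 : p ≫ act = p' ≫ act := by
      have := congrArg (fun k => k ≫ fst X X) hpp'
      simpa using this
    set g := p ≫ fst G X with hg
    set g' := p' ≫ fst G X with hg'
    set x := p ≫ snd G X with hx
    have hp : p = lift g x := by ext <;> simp [hg, hx]
    have hp' : p' = lift g' x := by
      ext
      · simp [hg']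
      · simp only [lift_snd]; exact e1.symm
    rw [hp, hp'] at e2
    have h1 : lift (g'⁻¹ * g) x ≫ act = x := by
      rw [mul_smul' act mul_act, e2, ← mul_smul' act mul_act, inv_mul_cancel, Hom.one_def,
        one_smul' act one_act]
    have h2 := hfree T _ x h1
    rw [← Hom.one_def] at h2
    have h3 : g = g' := by
      have := congrArg (fun k => g' * k) h2
      simpa using this
    rw [hp, hp', h3]
  · intro hmono T g x hgx
    have : lift g x ≫ lift act (snd G X) = lift (toUnit T ≫ η[G]) x ≫ lift act (snd G X) := by
      ext
      · simp [hgx, one_smul' act one_act]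
      · simp
    have h2 := (cancel_mono _).mp this
    have := congrArg (fun k => k ≫ fst G X) h2
    simpa using this

end gen

/-- Let G be a group scheme over S acting on a scheme X over S by a. The action is free, meaning that
for every scheme T over S and all T-points g of G and x of X with g · x = x one has g = 1, if and
only if the morphism G x_S X -> X x_S X, (g, x) ↦ (a(g, x), x), is a monomorphism of schemes. -/
theorem result {S : Scheme.{u}} (G X : Over S) [GrpObj G] (a : AlgGrp.Action G X) : (∀ (T : Over S) (g : T ⟶ G) (x : T ⟶ X), lift g x ≫ a.act = x → g = toUnit T ≫ η[G]) ↔ Mono (lift a.act (snd G X)).left := by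
  rw [free_iff a.act a.one_act a.mul_act]
  constructor
  · intro h
    exact (Over.forget S).map_mono (lift a.act (snd G X))
  · intro h
    exact Over.mono_of_mono_left (lift a.act (snd G X))


end Groth.Agent.S7494
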