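import Groth.Statements.S7496
-- import your own Groth.Agent.* helpers here

set_option autoImplicit false
universe w u
open CategoryTheory CategoryTheory.Limits AlgebraicGeometry
open HTop

namespace Groth.Agent.S7496

open CategoryTheory AlgebraicGeometry TopologicalSpace


theorem isCompact_inf_preimage {X T : Scheme.{u}} [QuasiSeparatedSpace T] (f : X ⟶ T) (V : X.Opens)
    (hV : IsCompact (V : Set X)) (W : T.Opens) (hW : IsCompact (W : Set T)) :
    IsCompact ((V ⊓ f ⁻¹ᵁ W : X.Opens) : Set X) := by
  have hcs : CompactSpace (V : Scheme.{u}) := isCompact_iff_compactSpace.mp hV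
  have hqc : QuasiCompact (V.ι ≫ f) := quasiCompact_of_compactSpace _
  have hK : IsCompact (((V.ι ≫ f) ⁻¹ᵁ W : (V : Scheme.{u}).Opens) : Set (V : Scheme.{u})) :=
    Scheme.Hom.isCompact_preimage (V.ι ≫ f) hW
  have himg := hK.image V.ι.continuous
  convert himg using 1
  ext x
  simp only [Opens.coe_inf, Set.mem_inter_iff, SetLike.mem_coe, Set.mem_image]
  constructor
  · rintro ⟨hx1, hx2⟩
    exact ⟨⟨x, hx1⟩, hx2, rfl⟩
  · rintro ⟨y, hy, rfl⟩
    exact ⟨y.2, hy⟩

/-- Let T be a quasi-separated scheme and {f_i : T_i -> T} a family of morphisms. Then every affine open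
of T is the union of the images of finitely many quasi-compact opens of the T_i (the
quasi-compactness condition in the definition of an fpqc covering) if and only if for every point t
of T there are finitely many quasi-compact opens U_j of members T_(i_j) such that the union of the
f_(i_j)(U_j) is a neighbourhood of t. (The published statement also asks every f_i to be flat, on
both sides, and lists two more equivalent forms of the quasi-compactness condition; this row omits
flatness, which plays no part in the equivalence, and states only the equivalence of the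
quasi-compactness condition with the neighbourhood condition.) -/
theorem result {T : Scheme.{u}} [QuasiSeparatedSpace T] (E : PreZeroHypercover.{w} T) : QuasiCompactCover E ↔ ∀ t : T, ∃ (n : ℕ) (i : Fin n → E.I₀) (V : ∀ j, (E.X (i j)).Opens), (∀ j, IsCompact (V j : Set (E.X (i j)))) ∧ (⋃ j, ⇑(E.f (i j)) '' (V j : Set (E.X (i j)))) ∈ nhds t := by
  constructor
  · intro h t
    obtain ⟨U, hU, htU, -⟩ := exists_isAffineOpen_mem_and_subset (x := t) (U := ⊤) trivial
    obtain ⟨n, f, V, hV, hcov⟩ := QuasiCompactCover.exists_isAffineOpen_of_isCompact E hU.isCompact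
    refine ⟨n, f, V, fun j => (hV j).isCompact, ?_⟩
    rw [hcov]
    exact U.2.mem_nhds htU
  · intro h
    refine ⟨fun {U} hU => ?_⟩
    refine IsCompactOpenCovered.of_isCompact_of_forall_exists_isCompactOpenCovered hU.isCompact ?_
    intro x hxU
    obtain ⟨n, i, V, hV, hN⟩ := h x
    obtain ⟨O, hON, hOopen, hxO⟩ := mem_nhds_iff.mp hN
    obtain ⟨W, hW, hxW, hWle⟩ := Opens.isBasis_iff_nbhd.mp T.isBasis_affineOpens
      (show x ∈ (⟨O, hOopen⟩ : T.Opens) ⊓ U from ⟨hxO, hxU⟩)
    refine ⟨W, fun y hy => (hWle hy).2, hxW, W.2, ?_⟩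
    refine IsCompactOpenCovered.of_finite (κ := Fin n) i
      (fun j => V j ⊓ (E.f (i j)) ⁻¹ᵁ W)
      (fun j => isCompact_inf_preimage (E.f (i j)) (V j) (hV j) W (IsAffineOpen.isCompact hW)) ?_
    apply subset_antisymm
    · intro y hy
      simp only [Set.mem_iUnion, Set.mem_image] at hy
      obtain ⟨j, v, hv, rfl⟩ := hy
      exact hv.2
    · intro y hy
      have hyN : y ∈ ⋃ j, ⇑(E.f (i j)) '' (V j : Set (E.X (i j))) := hON (hWle hy).1
      simp only [Set.mem_iUnion, Set.mem_image] at hyN ⊢
      obtain ⟨j, v, hv, rfl⟩ := hyN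
      exact ⟨j, v, ⟨hv, hy⟩, rfl⟩


end Groth.Agent.S7496
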