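import Groth.Statements.S7497
-- import your own Groth.Agent.* helpers here

set_option autoImplicit false
universe u
open CategoryTheory CategoryTheory.Limits AlgebraicGeometry
open HTop

namespace Groth.Agent.S7497

/-- Let {f_i : T_i -> T} be a family of flat morphisms of schemes and {g_j : S_j -> T} an fpqc covering
such that for every j the family of base changes {S_j x_T T_i -> S_j} is an fpqc covering. Then {f_i
: T_i -> T} is an fpqc covering. (fpqc coverings are Mathlib's: flat, jointly surjective, every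
affine open of the target covered by images of finitely many quasi-compact opens.) -/
theorem result {T : Scheme.{u}} (E : PreZeroHypercover.{u} T) (hflat : ∀ i, Flat (E.f i)) (𝒱 : Scheme.Cover Scheme.fpqcPrecoverage T) (hloc : ∀ j, (E.pullback₁ (𝒱.f j)).presieve₀ ∈ Scheme.fpqcPrecoverage (𝒱.X j)) : E.presieve₀ ∈ Scheme.fpqcPrecoverage T := by
  have hV : 𝒱.presieve₀ ∈ Scheme.fpqcPrecoverage T := 𝒱.mem₀
  change 𝒱.presieve₀ ∈ Scheme.qcPrecoverage T ⊓ Scheme.precoverage @Flat T at hV
  have hloc' : ∀ j, (E.pullback₁ (𝒱.f j)).presieve₀ ∈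
      Scheme.qcPrecoverage (𝒱.X j) ⊓ Scheme.precoverage @Flat (𝒱.X j) := hloc
  change E.presieve₀ ∈ Scheme.qcPrecoverage T ⊓ Scheme.precoverage @Flat T
  constructor
  · rw [Scheme.presieve₀_mem_qcPrecoverage_iff]
    have h1 : QuasiCompactCover 𝒱.toPreZeroHypercover :=
      Scheme.presieve₀_mem_qcPrecoverage_iff.mp hV.1
    have h2 : ∀ j, QuasiCompactCover (E.pullback₁ (𝒱.f j)) := fun j =>
      Scheme.presieve₀_mem_qcPrecoverage_iff.mp (hloc' j).1
    let 𝒱' : PreZeroHypercover.{u} T := QuasiCompactCover.ulift 𝒱.toPreZeroHypercover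
    have h1' : QuasiCompactCover 𝒱' := inferInstance
    have h2' : ∀ j, QuasiCompactCover (E.pullback₁ (𝒱'.f j)) := fun j => h2 _
    have h3 : QuasiCompactCover (𝒱'.bind fun j => E.pullback₁ (𝒱'.f j)) :=
      inferInstance
    refine QuasiCompactCover.of_hom
      (𝒱 := 𝒱'.bind fun j => E.pullback₁ (𝒱'.f j)) ⟨fun p => p.2,
        fun p => pullback.snd (𝒱'.f p.1) (E.f p.2), fun p => ?_⟩
    exact pullback.condition.symm
  · rw [Scheme.presieve₀_mem_precoverage_iff]
    refine ⟨fun t => ?_, hflat⟩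
    obtain ⟨j, s, rfl⟩ := ((Scheme.presieve₀_mem_precoverage_iff _).mp hV.2).1 t
    obtain ⟨i, z, hz⟩ := ((Scheme.presieve₀_mem_precoverage_iff _).mp (hloc' j).2).1 s
    refine ⟨i, (pullback.snd (𝒱.f j) (E.f i)) z, ?_⟩
    have hz' : (pullback.fst (𝒱.f j) (E.f i)) z = s := hz
    rw [← hz', ← Scheme.Hom.comp_apply, ← Scheme.Hom.comp_apply, pullback.condition]


end Groth.Agent.S7497
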