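import Groth.Statements.S7498
import Groth.Agent.H4.GrpdLib2

set_option autoImplicit false
universe u
open CategoryTheory CategoryTheory.Limits AlgebraicGeometry
open Grpd

namespace Groth.Agent.S7498


open Groth.Agent.H4.GrpdLib

variable {S : Scheme.{u}} (G : Grpd.GroupoidScheme S)

/-- translation of fibres of `s` by an arrow `δ : b → a` (a `T`-valued arrow) -/
theorem exists_iso_fibres {T : Scheme.{u}} (a b : T ⟶ G.U) (δ : T ⟶ G.R) (hδs : δ ≫ G.s = b)
    (hδt : δ ≫ G.t = a) :
    ∃ φ : pullback G.s a ≅ pullback G.s b, φ.hom ≫ pullback.snd G.s b = pullback.snd G.s a ∧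
      ∀ (α : T ⟶ G.R) (hα : α ≫ G.s = a),
        pullback.lift α (𝟙 T) (by rw [hα, Category.id_comp]) ≫ φ.hom ≫ pullback.fst G.s b =
          comp G α δ (by rw [hα, hδt]) := by
  have h1 : pullback.fst G.s a ≫ G.s = (pullback.snd G.s a ≫ δ) ≫ G.t := by
    rw [Category.assoc, hδt]; exact pullback.condition
  have h2 : pullback.fst G.s b ≫ G.s = ((pullback.snd G.s b ≫ δ) ≫ G.i) ≫ G.t := by
    rw [Category.assoc _ G.i, G.i_t, Category.assoc, hδs]; exact pullback.condition
  have h2' : pullback.fst G.s b ≫ G.s = (pullback.snd G.s b ≫ δ) ≫ G.s := by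
    rw [Category.assoc, hδs]; exact pullback.condition
  let hom : pullback G.s a ⟶ pullback G.s b :=
    pullback.lift (comp G (pullback.fst G.s a) (pullback.snd G.s a ≫ δ) h1) (pullback.snd G.s a)
      (by rw [comp_s, Category.assoc, hδs])
  let inv : pullback G.s b ⟶ pullback G.s a :=
    pullback.lift (comp G (pullback.fst G.s b) ((pullback.snd G.s b ≫ δ) ≫ G.i) h2) (pullback.snd G.s b)
      (by rw [comp_s, Category.assoc _ G.i, G.i_s, Category.assoc, hδt])
  have hom_fst : hom ≫ pullback.fst G.s b = comp G (pullback.fst G.s a) (pullback.snd G.s a ≫ δ) h1 :=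
    pullback.lift_fst _ _ _
  have hom_snd : hom ≫ pullback.snd G.s b = pullback.snd G.s a := pullback.lift_snd _ _ _
  have inv_fst : inv ≫ pullback.fst G.s a =
      comp G (pullback.fst G.s b) ((pullback.snd G.s b ≫ δ) ≫ G.i) h2 := pullback.lift_fst _ _ _
  have inv_snd : inv ≫ pullback.snd G.s a = pullback.snd G.s b := pullback.lift_snd _ _ _
  refine ⟨⟨hom, inv, ?_, ?_⟩, hom_snd, ?_⟩
  · apply pullback.hom_ext
    · rw [Category.assoc, inv_fst, precomp_comp, Category.id_comp]
      rw [comp_congr G _ hom_fst (by rw [← Category.assoc, ← Category.assoc, hom_snd])]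
      exact comp_comp_i G _ _ h1
    · rw [Category.assoc, inv_snd, hom_snd, Category.id_comp]
  · apply pullback.hom_ext
    · rw [Category.assoc, hom_fst, precomp_comp, Category.id_comp]
      rw [comp_congr G _ inv_fst (by rw [← Category.assoc, inv_snd])]
      exact comp_i_comp' G _ _ h2'
    · rw [Category.assoc, hom_snd, inv_snd, Category.id_comp]
  · intro α hα
    change _ ≫ hom ≫ _ = _
    rw [hom_fst, precomp_comp]
    exact comp_congr G _ (pullback.lift_fst _ _ _)
      (by rw [← Category.assoc, pullback.lift_snd, Category.id_comp])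

/-- Let (U, R, s, t, c) be a groupoid scheme over S and r, r' points of R with t(r) = t(r'); put u =
s(r), u' = s(r') and let F_u, F_u' be the scheme-theoretic fibres of s. Then there are a field k
which is a common extension of κ(u) and κ(u') (morphisms a, b : Spec k -> U with images u, u') and
an isomorphism of the base changes (F_u)_k and (F_u')_k over Spec k, which moreover can be chosen to
send some point lying over r to a point lying over r'. (The published statement also compares the
germs of s at r and at r' when s and t are flat or flat of finite presentation; this row omits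
that.) (A groupoid scheme carries U, R, s, t, c, e, i over S with the groupoid axioms on T-points; c
is defined on the fibre product of s and t and sends a pair (a, b) with s(a) = t(b) to a composed
with b.) -/
theorem result (S : Scheme.{u}) (G : Grpd.GroupoidScheme S) (r r' : G.R) (h : G.t r = G.t r') : ∃ (k : Type u) (_ : Field k) (a b : Spec (CommRingCat.of k) ⟶ G.U) (φ : pullback G.s a ≅ pullback G.s b) (p : ↑(pullback G.s a)), a (IsLocalRing.closedPoint k) = G.s r ∧ b (IsLocalRing.closedPoint k) = G.s r' ∧ φ.hom ≫ pullback.snd G.s b = pullback.snd G.s a ∧ pullback.fst G.s a p = r ∧ pullback.fst G.s b (φ.hom p) = r' := by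
  obtain ⟨z, hz1, hz2⟩ := Scheme.Pullback.exists_preimage_pullback (f := G.t) (g := G.t) r r' h
  let k : Type u := (pullback G.t G.t).residueField z
  let ζ : Spec (CommRingCat.of k) ⟶ pullback G.t G.t := (pullback G.t G.t).fromSpecResidueField z
  have hζ : ∀ x, ζ x = z := fun x => Scheme.fromSpecResidueField_apply _ x
  let α := ζ ≫ pullback.fst G.t G.t
  let β := ζ ≫ pullback.snd G.t G.t
  have hαβ : α ≫ G.t = β ≫ G.t := by
    simp only [α, β, Category.assoc, pullback.condition]
  let δ := comp G (α ≫ G.i) β (by rw [Category.assoc, G.i_s, hαβ])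
  have hδs : δ ≫ G.s = β ≫ G.s := comp_s G _ _ _
  have hδt : δ ≫ G.t = α ≫ G.s := by
    rw [comp_t, Category.assoc, G.i_t]
  obtain ⟨φ, hφ1, hφ2⟩ := exists_iso_fibres G (α ≫ G.s) (β ≫ G.s) δ hδs hδt
  let P₀ : Spec (CommRingCat.of k) ⟶ pullback G.s (α ≫ G.s) :=
    pullback.lift α (𝟙 _) (by rw [Category.id_comp])
  refine ⟨k, inferInstance, α ≫ G.s, β ≫ G.s, φ, P₀ (IsLocalRing.closedPoint k), ?_, ?_, hφ1, ?_, ?_⟩
  · simp only [α, Scheme.Hom.comp_apply, hζ, hz1]
  · simp only [β, Scheme.Hom.comp_apply, hζ, hz2]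
  · rw [← Scheme.Hom.comp_apply, pullback.lift_fst]
    simp only [α, Scheme.Hom.comp_apply, hζ, hz1]
  · have e1 : P₀ ≫ φ.hom ≫ pullback.fst G.s (β ≫ G.s) = β :=
      (hφ2 α rfl).trans (comp_i_comp G α β hαβ)
    have e2 : pullback.fst G.s (β ≫ G.s) (φ.hom (P₀ (IsLocalRing.closedPoint k))) =
        (P₀ ≫ φ.hom ≫ pullback.fst G.s (β ≫ G.s)) (IsLocalRing.closedPoint k) := by
      simp only [Scheme.Hom.comp_apply]
    rw [e2, e1]
    simp only [β, Scheme.Hom.comp_apply, hζ, hz2]


end Groth.Agent.S7498
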