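import Groth.Statements.S7500
import Groth.Agent.H4.GrpdLib2

set_option autoImplicit false
universe u
open CategoryTheory CategoryTheory.Limits AlgebraicGeometry
open Grpd

namespace Groth.Agent.S7500


open Groth.Agent.H4.GrpdLib

variable {S : Scheme.{u}} (G : Grpd.GroupoidScheme S)

/-- `r₁ ∘ r₂⁻¹` -/
noncomputable def rho : pullback G.j G.j ⟶ G.R :=
  comp G (pullback.fst G.j G.j) (pullback.snd G.j G.j ≫ G.i)
    (by rw [Category.assoc, G.i_t, jj_s])

theorem rho_t : rho G ≫ G.t = pullback.fst G.j G.j ≫ G.t := by
  unfold rho; rw [comp_t]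

theorem rho_s : rho G ≫ G.s = pullback.fst G.j G.j ≫ G.t := by
  unfold rho; rw [comp_s, Category.assoc, G.i_s, jj_t]

noncomputable def gam : pullback G.j G.j ⟶ G.stabilizer :=
  stabLift G (rho G) (by rw [rho_t, rho_s])

noncomputable def psi : pullback G.j G.j ⟶ pullback G.stabilizerToU G.t :=
  pullback.lift (gam G) (pullback.snd G.j G.j) (by
    unfold gam
    rw [stabLift_toU, rho_t, jj_t])

/-- Let (U, R, s, t, c) be a groupoid scheme over S and G -> U its stabilizer group scheme (the base
change of j = (t, s) along the diagonal). The action of G on R by composition, base changed to G_0 =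
G x_(U, pr_0) (U x_S U), makes R a pseudo G_0-torsor over U x_S U. Concretely: let α : G x_(U, t) R
-> R x_(s, U, t) R be the morphism with components (γ viewed in R, r) and β : G x_(U, t) R -> R
x_(j, U x_S U, j) R the morphism with components (c ∘ α, r); then β is an isomorphism. (A groupoid
scheme carries U, R, s, t, c, e, i over S with the groupoid axioms on T-points; c is defined on the
fibre product of s and t and sends a pair (a, b) with s(a) = t(b) to a composed with b.) -/
theorem result (S : Scheme.{u}) (G : Grpd.GroupoidScheme S) (α : pullback G.stabilizerToU G.t ⟶ pullback G.s G.t) (hα₁ : α ≫ pullback.fst G.s G.t = pullback.fst G.stabilizerToU G.t ≫ pullback.fst G.j G.diag) (hα₂ : α ≫ pullback.snd G.s G.t = pullback.snd G.stabilizerToU G.t) (β : pullback G.stabilizerToU G.t ⟶ pullback G.j G.j) (hβ₁ : β ≫ pullback.fst G.j G.j = α ≫ G.c) (hβ₂ : β ≫ pullback.snd G.j G.j = pullback.snd G.stabilizerToU G.t) : IsIso β := by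
  change α ≫ pullback.fst G.s G.t = pullback.fst G.stabilizerToU G.t ≫ stabFst G at hα₁
  have hcond : (pullback.fst G.stabilizerToU G.t ≫ stabFst G) ≫ G.s =
      pullback.snd G.stabilizerToU G.t ≫ G.t := by
    rw [Category.assoc, stabFst_s]; exact pullback.condition
  have hαc : α ≫ G.c = comp G (pullback.fst G.stabilizerToU G.t ≫ stabFst G)
      (pullback.snd G.stabilizerToU G.t) hcond := by
    rw [c_eq_comp, precomp_comp, comp_congr G _ hα₁ hα₂]
  refine ⟨psi G, ?_, ?_⟩
  · apply pullback.hom_ext
    · -- into the stabilizer
      rw [Category.assoc, Category.id_comp]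
      unfold psi
      rw [pullback.lift_fst]
      unfold gam
      apply stab_hom_ext
      rw [Category.assoc, stabLift_fst]
      unfold rho
      rw [precomp_comp]
      rw [comp_congr G _ (hβ₁.trans hαc) (by rw [← Category.assoc, hβ₂])]
      exact comp_comp_i G _ _ hcond
    · rw [Category.assoc, Category.id_comp]
      unfold psi
      rw [pullback.lift_snd, hβ₂]
  · apply pullback.hom_ext
    · rw [Category.assoc, Category.id_comp, hβ₁, hαc, precomp_comp]
      have e1 : psi G ≫ pullback.fst G.stabilizerToU G.t ≫ stabFst G = rho G := by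
        unfold psi
        rw [← Category.assoc, pullback.lift_fst]
        unfold gam
        rw [stabLift_fst]
      have e2 : psi G ≫ pullback.snd G.stabilizerToU G.t = pullback.snd G.j G.j := by
        unfold psi
        rw [pullback.lift_snd]
      rw [comp_congr G _ e1 e2]
      unfold rho
      exact comp_i_comp' G _ _ (jj_s G)
    · rw [Category.assoc, Category.id_comp, hβ₂]
      unfold psi
      rw [pullback.lift_snd]


end Groth.Agent.S7500
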