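import Groth.Statements.S7502
import Groth.Agent.H4.FlatPull1
import Groth.Agent.Lib.Lead.QC.Pullback
import Groth.Agent.Lib.Lead.QC.Push
import Groth.Agent.Lib.Lead.QC.Closure
import Groth.Agent.Lib.Lead.QC.SerreSupp

set_option autoImplicit false
universe u
open CategoryTheory CategoryTheory.Limits AlgebraicGeometry
open Coh

namespace Groth.Agent.S7502

/-- Let f : Y -> X be a morphism of schemes which is quasi-compact, quasi-separated, flat and
surjective, with X and Y locally Noetherian. Let F be a quasi-coherent O_X-module, G a coherent
O_Y-module and φ : G -> f^*F an injective map of O_Y-modules. Then the O_X-module F ∩ f_*G, defined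
as the fibre product of the adjunction unit F -> f_*f^*F with f_*φ : f_*G -> f_*f^*F, is coherent.
('Coherent' is quasi-coherent of finite type, the usual notion on locally Noetherian schemes.) -/
theorem result {X Y : Scheme.{u}} (f : Y ⟶ X) [QuasiCompact f] [QuasiSeparated f] [Flat f] [Surjective f] [IsLocallyNoetherian X] [IsLocallyNoetherian Y] (F : X.Modules) (hF : Coh.IsQCoh F) (G : Y.Modules) (hG : Coh.IsCoh G) (φ : G ⟶ (Scheme.Modules.pullback f).obj F) [Mono φ] : Coh.IsCoh (Limits.pullback ((Scheme.Modules.pullbackPushforwardAdjunction f).unit.app F) ((Scheme.Modules.pushforward f).map φ)) := by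
  haveI hFq : F.IsQuasicoherent := hF
  haveI hGq : G.IsQuasicoherent := hG.1
  haveI := Groth.Agent.H4.FlatPull1.preservesFiniteLimits_pullback_of_flat f
  haveI hLF : ((Scheme.Modules.pullback f).obj F).IsQuasicoherent :=
    Groth.Agent.LD.QC.qc_pullback f F
  haveI h1 : ((Scheme.Modules.pushforward f).obj G).IsQuasicoherent :=
    Groth.Agent.LD.QC.qc_pushforward f G
  haveI h2 : ((Scheme.Modules.pushforward f).obj
      ((Scheme.Modules.pullback f).obj F)).IsQuasicoherent :=
    Groth.Agent.LD.QC.qc_pushforward f _
  have hK : (Limits.pullback ((Scheme.Modules.pullbackPushforwardAdjunction f).unit.app F)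
      ((Scheme.Modules.pushforward f).map φ)).IsQuasicoherent := by
    refine Groth.Agent.LD.QC.qc_limit _ (fun j => ?_)
    rcases j with _ | _ | _
    · exact h2
    · exact hFq
    · exact h1
  haveI := hK
  refine ⟨hK, ?_⟩
  haveI : Mono ((Scheme.Modules.pushforward f).map φ) := inferInstance
  obtain ⟨a, ha⟩ : ∃ a : Limits.pullback
      ((Scheme.Modules.pullbackPushforwardAdjunction f).unit.app F)
      ((Scheme.Modules.pushforward f).map φ) ⟶ F, a = Limits.pullback.fst _ _ := ⟨_, rfl⟩
  obtain ⟨b, hb⟩ : ∃ b : Limits.pullback
      ((Scheme.Modules.pullbackPushforwardAdjunction f).unit.app F)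
      ((Scheme.Modules.pushforward f).map φ) ⟶ (Scheme.Modules.pushforward f).obj G,
      b = Limits.pullback.snd _ _ := ⟨_, rfl⟩
  have cond : a ≫ (Scheme.Modules.pullbackPushforwardAdjunction f).unit.app F =
      b ≫ (Scheme.Modules.pushforward f).map φ := by
    rw [ha, hb]
    exact Limits.pullback.condition
  haveI : Mono a := by
    rw [ha]
    exact Limits.pullback.fst_of_mono
  have nat := (Scheme.Modules.pullbackPushforwardAdjunction f).counit.naturality φ
  have tri := (Scheme.Modules.pullbackPushforwardAdjunction f).left_triangle_components F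
  have hc : ((Scheme.Modules.pullback f).map b ≫
      (Scheme.Modules.pullbackPushforwardAdjunction f).counit.app G) ≫ φ =
      (Scheme.Modules.pullback f).map a := by
    calc ((Scheme.Modules.pullback f).map b ≫
          (Scheme.Modules.pullbackPushforwardAdjunction f).counit.app G) ≫ φ
        = (Scheme.Modules.pullback f).map b ≫
          ((Scheme.Modules.pullback f).map ((Scheme.Modules.pushforward f).map φ) ≫
            (Scheme.Modules.pullbackPushforwardAdjunction f).counit.app
              ((Scheme.Modules.pullback f).obj F)) := by
          rw [Category.assoc]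
          congr 1
          exact nat.symm
      _ = (Scheme.Modules.pullback f).map
            (a ≫ (Scheme.Modules.pullbackPushforwardAdjunction f).unit.app F) ≫
            (Scheme.Modules.pullbackPushforwardAdjunction f).counit.app
              ((Scheme.Modules.pullback f).obj F) := by
          rw [cond, Functor.map_comp, Category.assoc]
      _ = (Scheme.Modules.pullback f).map a := by
          rw [Functor.map_comp, Category.assoc]
          erw [tri]
          rw [Category.comp_id]
  haveI : Mono ((Scheme.Modules.pullback f).map a) := inferInstance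
  haveI : Mono ((Scheme.Modules.pullback f).map b ≫
      (Scheme.Modules.pullbackPushforwardAdjunction f).counit.app G) := mono_of_mono_fac hc
  have hcoh := Groth.Agent.LD.QC.isCoh_of_mono ((Scheme.Modules.pullback f).map b ≫
      (Scheme.Modules.pullbackPushforwardAdjunction f).counit.app G)
      (Groth.Agent.LD.QC.qc_pullback f _) hG
  exact Groth.Agent.LD.QC.isFiniteType_of_pullback_fpqc f _ hcoh.2

end Groth.Agent.S7502
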