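import Groth.Statements.S7505
import Groth.Agent.H4.GrpdLib4

set_option autoImplicit false
universe u
open CategoryTheory CategoryTheory.Limits AlgebraicGeometry
open Grpd

namespace Groth.Agent.S7505


open Groth.Agent.H4.GrpdLib

theorem isOpenMap_of_flat_lfp {X Y : Scheme.{u}} (g : X ⟶ Y) [Flat g] [LocallyOfFinitePresentation g] :
    IsOpenMap g := g.isOpenMap

/-- Let (U, R, s, t, c) be a groupoid scheme over S with stabilizer group scheme G -> U, let τ be the
étale, smooth or fppf topology (given as the corresponding precoverage K), and let P be a property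
of scheme morphisms that is τ-local on the target. (The published statement also allows the syntomic
topology; this row omits it.) Assume {s : R -> U} and {t : R -> U} are τ-coverings. If W is the
largest open subscheme of U such that the restriction G_W -> W of the stabilizer has P, then W is
R-invariant: s^{-1}(W) = t^{-1}(W). (A groupoid scheme carries U, R, s, t, c, e, i over S with the
groupoid axioms on T-points; c is defined on the fibre product of s and t and sends a pair (a, b)
with s(a) = t(b) to a composed with b.) -/
theorem result (S : Scheme.{u}) (G : Grpd.GroupoidScheme S) (K : Precoverage Scheme.{u}) (hK : K = Scheme.etalePrecoverage ∨ K = Scheme.precoverage @Smooth ∨ K = Scheme.fppfPrecoverage) (P : MorphismProperty Scheme.{u}) [P.IsLocalAtTarget K] (hs : Presieve.singleton G.s ∈ K G.U) (ht : Presieve.singleton G.t ∈ K G.U) (W : G.U.Opens) (hW : P (G.stabilizerToU ∣_ W)) (hmax : ∀ W' : G.U.Opens, P (G.stabilizerToU ∣_ W') → W' ≤ W) : G.s ⁻¹ᵁ W = G.t ⁻¹ᵁ W := by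
  have hKe : Scheme.etalePrecoverage = Scheme.precoverage @Etale := rfl
  have hKf : Scheme.fppfPrecoverage = Scheme.precoverage (@Flat ⊓ @LocallyOfFinitePresentation) := rfl
  rw [hKe, hKf] at hK
  rcases hK with rfl | rfl | rfl
  · exact invariant_of_maximal G @Etale (fun _ _ g hg => inferInstance)
      (fun g hg => isOpenMap_of_flat_lfp g) P hs ht G.stabilizerToU _ _ _
      (IsPullback.of_hasPullback G.stabilizerToU G.s) (isPullback_stabConj1 G) W hW hmax
  · exact invariant_of_maximal G @Smooth (fun _ _ g hg => inferInstance)
      (fun g hg => isOpenMap_of_flat_lfp g) P hs ht G.stabilizerToU _ _ _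
      (IsPullback.of_hasPullback G.stabilizerToU G.s) (isPullback_stabConj1 G) W hW hmax
  · exact invariant_of_maximal G (@Flat ⊓ @LocallyOfFinitePresentation)
      (fun _ _ g hg => ⟨inferInstance, inferInstance⟩)
      (fun g hg => by
        have := hg.1
        have := hg.2
        exact isOpenMap_of_flat_lfp g) P hs ht G.stabilizerToU _ _ _
      (IsPullback.of_hasPullback G.stabilizerToU G.s) (isPullback_stabConj1 G) W hW hmax


end Groth.Agent.S7505
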