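import Groth.Statements.S7510
import Groth.Agent.H4.GrpdLib2

set_option autoImplicit false
universe u
open CategoryTheory CategoryTheory.Limits AlgebraicGeometry
open Grpd

namespace Groth.Agent.S7510


open Groth.Agent.H4.GrpdLib

section W

variable (P Q : MorphismProperty Scheme.{u}) [P.RespectsIso]
  (W : ∀ {X Y : Scheme.{u}} (f : X ⟶ Y), Q f → X.Opens)
  (hWP : ∀ {X Y : Scheme.{u}} (f : X ⟶ Y) (hf : Q f), P ((W f hf).ι ≫ f))
  (hWmax : ∀ {X Y : Scheme.{u}} (f : X ⟶ Y) (hf : Q f) (V : X.Opens), P (V.ι ≫ f) → V ≤ W f hf)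

include hWP hWmax in
theorem W_iso {A B Y : Scheme.{u}} (θ : A ≅ B) (f : B ⟶ Y) (hf : Q f) (hf' : Q (θ.hom ≫ f)) :
    W (θ.hom ≫ f) hf' = θ.hom ⁻¹ᵁ (W f hf) := by
  apply le_antisymm
  · -- V' = W (θ ≫ f)
    set V' := W (θ.hom ≫ f) hf' with hV'
    have h1 : P ((θ.inv ⁻¹ᵁ V').ι ≫ f) := by
      have e : (θ.inv ⁻¹ᵁ V').ι ≫ f = (θ.inv ∣_ V') ≫ V'.ι ≫ θ.hom ≫ f := by
        rw [← Category.assoc (θ.inv ∣_ V'), morphismRestrict_ι, Category.assoc, θ.inv_hom_id_assoc]
      rw [e, P.cancel_left_of_respectsIso]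
      exact hWP _ hf'
    have h2 := hWmax f hf _ h1
    intro x hx
    have : θ.inv (θ.hom x) = x := by
      rw [← Scheme.Hom.comp_apply, θ.hom_inv_id]; rfl
    apply h2
    change θ.inv (θ.hom x) ∈ V'
    rw [this]
    exact hx
  · apply hWmax
    have e : (θ.hom ⁻¹ᵁ (W f hf)).ι ≫ θ.hom ≫ f = (θ.hom ∣_ (W f hf)) ≫ (W f hf).ι ≫ f := by
      rw [← Category.assoc (θ.hom ∣_ (W f hf)), morphismRestrict_ι, Category.assoc]
    rw [e, P.cancel_left_of_respectsIso]
    exact hWP _ hf

omit [P.RespectsIso] in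
theorem W_congr {X Y : Scheme.{u}} {f f' : X ⟶ Y} (hf : Q f) (hf' : Q f') (e : f = f') :
    W f hf = W f' hf' := by
  subst e; rfl

end W

/-- Let (U, R, s, t, c, e, i) be a groupoid scheme over S and g : U' -> U a morphism; write h = s ∘ pr_1
: U' x_(g,U,t) R -> U. Let P, Q, R be properties of morphisms of schemes, with P invariant under
composition with isomorphisms, such that (1) R implies Q, (2) Q is stable under base change and
composition, (3) every morphism f : X -> Y with Q has a largest open W(P, f) of X on which the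
restriction of f has P (given here as a function W with these two properties), and (4) for f with Q
and a base change along Y' -> Y with R, the preimage of W(P, f) in X x_Y Y' is W(P, f') for the base
change f'. If s, t have R and g has Q, then there is an open W of U' whose preimage in U' x_(g,U,t)
R equals W(P, h). (The published statement speaks of arbitrary properties of morphisms; this row
asks P to be invariant under composition with isomorphisms, which the proof uses to identify the
largest opens on the two isomorphic fibre products of h with t and with s.) (A groupoid scheme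
carries U, R, s, t, c, e, i over S with the groupoid axioms on T-points; c is defined on the fibre
product of s and t and sends a pair (a, b) with s(a) = t(b) to a composed with b.) -/
theorem result (S : Scheme.{u}) (G : Grpd.GroupoidScheme S) {U' : Scheme.{u}} (g : U' ⟶ G.U) (P Q R : MorphismProperty Scheme.{u}) [P.RespectsIso] (hRQ : R ≤ Q) [Q.IsStableUnderBaseChange] [Q.IsStableUnderComposition] (W : ∀ {X Y : Scheme.{u}} (f : X ⟶ Y), Q f → X.Opens) (hWP : ∀ {X Y : Scheme.{u}} (f : X ⟶ Y) (hf : Q f), P ((W f hf).ι ≫ f)) (hWmax : ∀ {X Y : Scheme.{u}} (f : X ⟶ Y) (hf : Q f) (V : X.Opens), P (V.ι ≫ f) → V ≤ W f hf) (hWbc : ∀ {X Y Y' : Scheme.{u}} (f : X ⟶ Y) (hf : Q f) (b : Y' ⟶ Y), R b → ∀ hf' : Q (pullback.snd f b), pullback.fst f b ⁻¹ᵁ W f hf = W (pullback.snd f b) hf') (hs : R G.s) (ht : R G.t) (hg : Q g) (hh : Q (pullback.snd g G.t ≫ G.s)) : ∃ V : U'.Opens, pullback.fst g G.t ⁻¹ᵁ V = W (pullback.snd g G.t ≫ G.s) hh := by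
  set pr₀ := pullback.fst g G.t with hpr₀
  set pr₁ := pullback.snd g G.t with hpr₁
  set h := pr₁ ≫ G.s with hh_def
  have hX : pr₀ ≫ g = pr₁ ≫ G.t := pullback.condition
  -- `Y = X ×_{h,t} R`
  set p := pullback.fst h G.t with hp
  set r' := pullback.snd h G.t with hr'
  have hY : (p ≫ pr₁) ≫ G.s = r' ≫ G.t := by
    rw [Category.assoc]; exact pullback.condition
  -- the multiplication map `m : Y ⟶ X`
  let m : pullback h G.t ⟶ pullback g G.t :=
    pullback.lift (p ≫ pr₀) (comp G (p ≫ pr₁) r' hY) (by rw [comp_t, Category.assoc, hX, Category.assoc])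
  have hm0 : m ≫ pr₀ = p ≫ pr₀ := pullback.lift_fst _ _ _
  have hm1 : m ≫ pr₁ = comp G (p ≫ pr₁) r' hY := pullback.lift_snd _ _ _
  have hmh : m ≫ h = r' ≫ G.s := by
    change m ≫ pr₁ ≫ G.s = r' ≫ G.s
    rw [← Category.assoc, hm1, comp_s]
  -- `Y' = X ×_{h,s} R`
  set p' := pullback.fst h G.s with hp'
  set r'' := pullback.snd h G.s with hr''
  have hY' : (p' ≫ pr₁) ≫ G.s = r'' ≫ G.s := by
    rw [Category.assoc]; exact pullback.condition
  have hY'i : (p' ≫ pr₁) ≫ G.s = (r'' ≫ G.i) ≫ G.t := by
    rw [Category.assoc r'', G.i_t, hY']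
  let n : pullback h G.s ⟶ pullback g G.t :=
    pullback.lift (p' ≫ pr₀) (comp G (p' ≫ pr₁) (r'' ≫ G.i) hY'i)
      (by rw [comp_t, Category.assoc, hX, Category.assoc])
  have hn0 : n ≫ pr₀ = p' ≫ pr₀ := pullback.lift_fst _ _ _
  have hn1 : n ≫ pr₁ = comp G (p' ≫ pr₁) (r'' ≫ G.i) hY'i := pullback.lift_snd _ _ _
  have hnh : n ≫ h = r'' ≫ G.t := by
    change n ≫ pr₁ ≫ G.s = r'' ≫ G.t
    rw [← Category.assoc, hn1, comp_s, Category.assoc, G.i_s]
  let θ : pullback h G.t ≅ pullback h G.s :=
    { hom := pullback.lift m r' hmh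
      inv := pullback.lift n r'' hnh
      hom_inv_id := by
        apply pullback.hom_ext
        · rw [Category.assoc, pullback.lift_fst, Category.id_comp]
          apply pullback.hom_ext
          · rw [Category.assoc, hn0, ← Category.assoc, pullback.lift_fst, hm0]
          · rw [Category.assoc, hn1, precomp_comp]
            rw [comp_congr G _ (by rw [← Category.assoc, pullback.lift_fst, hm1])
              (by rw [← Category.assoc, pullback.lift_snd])]
            exact comp_comp_i G _ _ hY
        · rw [Category.assoc, pullback.lift_snd, pullback.lift_snd, Category.id_comp]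
      inv_hom_id := by
        apply pullback.hom_ext
        · rw [Category.assoc, pullback.lift_fst, Category.id_comp]
          apply pullback.hom_ext
          · rw [Category.assoc, hm0, ← Category.assoc, pullback.lift_fst, hn0]
          · rw [Category.assoc, hm1, precomp_comp]
            rw [comp_congr G _ (by rw [← Category.assoc, pullback.lift_fst, hn1])
              (pullback.lift_snd _ _ _)]
            exact comp_i_comp' G _ _ hY'
        · rw [Category.assoc, pullback.lift_snd, pullback.lift_snd, Category.id_comp] }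
  have hθ1 : θ.hom ≫ pullback.fst h G.s = m := pullback.lift_fst _ _ _
  have hθ2 : θ.hom ≫ pullback.snd h G.s = r' := pullback.lift_snd _ _ _
  -- the section σ
  let σ : pullback g G.t ⟶ pullback h G.t :=
    pullback.lift (𝟙 _) (pr₁ ≫ G.i) (by rw [Category.id_comp, Category.assoc, G.i_t])
  have hσp : σ ≫ p = 𝟙 _ := pullback.lift_fst _ _ _
  have hσr : σ ≫ r' = pr₁ ≫ G.i := pullback.lift_snd _ _ _
  let e' : U' ⟶ pullback g G.t :=
    pullback.lift (𝟙 _) (g ≫ G.e) (by rw [Category.id_comp, Category.assoc, G.e_t, Category.comp_id])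
  have hσm : σ ≫ m = pr₀ ≫ e' := by
    apply pullback.hom_ext
    · rw [Category.assoc, hm0, ← Category.assoc, hσp, Category.id_comp, Category.assoc,
        pullback.lift_fst, Category.comp_id]
    · have e1 : (pr₀ ≫ e') ≫ pullback.snd g G.t = pr₀ ≫ g ≫ G.e := by
        rw [Category.assoc, pullback.lift_snd]
      rw [e1, Category.assoc, hm1, precomp_comp]
      rw [comp_congr G _ (by rw [← Category.assoc, hσp, Category.id_comp]) hσr]
      rw [comp_i, ← Category.assoc, ← Category.assoc, hX]
  have hQt : Q (pullback.snd h G.t) := Q.pullback_snd _ _ hh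
  have hQs : Q (pullback.snd h G.s) := Q.pullback_snd _ _ hh
  have hQθ : Q (θ.hom ≫ pullback.snd h G.s) := by rw [hθ2]; exact hQt
  refine ⟨e' ⁻¹ᵁ (W h hh), ?_⟩
  rw [← Scheme.Hom.comp_preimage, ← hσm, ← hθ1, Scheme.Hom.comp_preimage, Scheme.Hom.comp_preimage,
    hWbc h hh G.s hs hQs, ← W_iso P Q W hWP hWmax θ _ hQs hQθ,
    W_congr Q W hQθ hQt hθ2, ← hWbc h hh G.t ht hQt, ← Scheme.Hom.comp_preimage, hσp,
    Scheme.Hom.id_preimage]


end Groth.Agent.S7510
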