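import Groth.Statements.S7511
-- import your own Groth.Agent.* helpers here

set_option autoImplicit false
universe u
open CategoryTheory CategoryTheory.Limits AlgebraicGeometry
open HTop

namespace Groth.Agent.S7511

open CategoryTheory CategoryTheory.Limits AlgebraicGeometry TopologicalSpace


theorem desc_sigmaMk {T : Scheme.{u}} (E : PreZeroHypercover.{u} T) (p : Σ i, E.X i) :
    (Sigma.desc E.f) (sigmaMk E.X p) = E.f p.1 p.2 := by
  obtain ⟨i, x⟩ := p
  rw [sigmaMk_mk, ← Scheme.Hom.comp_apply, Sigma.ι_desc]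

theorem qc_iff {T : Scheme.{u}} (E : PreZeroHypercover.{u} T) :
    QuasiCompactCover E ↔ QuasiCompactCover (PreZeroHypercover.singleton.{u} (Sigma.desc E.f)) := by
  rw [quasiCompactCover_iff, quasiCompactCover_iff]
  refine forall_congr' fun U => forall_congr' fun hU => ?_
  rw [IsCompactOpenCovered.iff_isCompactOpenCovered_sigmaMk, IsCompactOpenCovered.iff_of_unique,
    IsCompactOpenCovered.iff_of_unique]
  constructor
  · rintro ⟨V, hV, himg⟩
    refine ⟨⟨sigmaMk E.X '' V.1, (sigmaMk E.X).isOpenMap _ V.2⟩, hV.image (sigmaMk E.X).continuous, ?_⟩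
    rw [← himg]
    ext t
    simp only [Set.mem_image]
    constructor
    · rintro ⟨z, ⟨p, hp, rfl⟩, rfl⟩
      exact ⟨p, hp, (desc_sigmaMk E p).symm⟩
    · rintro ⟨p, hp, rfl⟩
      exact ⟨sigmaMk E.X p, ⟨p, hp, rfl⟩, desc_sigmaMk E p⟩
  · rintro ⟨V, hV, himg⟩
    refine ⟨⟨sigmaMk E.X ⁻¹' V.1, V.2.preimage (sigmaMk E.X).continuous⟩,
      (sigmaMk E.X).isCompact_preimage.mpr hV, ?_⟩
    rw [← himg]
    ext t
    simp only [Set.mem_image]
    constructor
    · rintro ⟨p, hp, rfl⟩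
      exact ⟨sigmaMk E.X p, hp, desc_sigmaMk E p⟩
    · rintro ⟨z, hz, rfl⟩
      obtain ⟨p, rfl⟩ := (sigmaMk E.X).surjective z
      exact ⟨p, hz, (desc_sigmaMk E p).symm⟩

/-- Let {f_i : T_i -> T} be a family of morphisms of schemes (indexed by a type in the universe of T, so
that the coproduct exists). Then it is an fpqc covering if and only if the one-arrow family
consisting of the induced morphism from the coproduct of the T_i to T is an fpqc covering. -/
theorem result {T : Scheme.{u}} (E : PreZeroHypercover.{u} T) : E.presieve₀ ∈ Scheme.fpqcPrecoverage T ↔ Presieve.singleton (Sigma.desc E.f) ∈ Scheme.fpqcPrecoverage T := by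
  rw [← PreZeroHypercover.presieve₀_singleton.{u}]
  change E.presieve₀ ∈ Scheme.qcPrecoverage T ⊓ Scheme.precoverage @Flat T ↔
    (PreZeroHypercover.singleton.{u} (Sigma.desc E.f)).presieve₀ ∈
      Scheme.qcPrecoverage T ⊓ Scheme.precoverage @Flat T
  have hflat : (∀ i, Flat (E.f i)) ↔ Flat (Sigma.desc E.f) := by
    rw [IsZariskiLocalAtSource.iff_of_openCover (P := @Flat) (sigmaOpenCover E.X)]
    refine forall_congr' fun i => ?_
    change _ ↔ Flat (Sigma.ι E.X i ≫ Sigma.desc E.f)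
    rw [Sigma.ι_desc]
  have hsurj : (∀ x, ∃ i, x ∈ Set.range (E.f i)) ↔
      ∀ x, ∃ i : PUnit.{u + 1}, x ∈ Set.range (Sigma.desc E.f) := by
    refine forall_congr' fun t => ?_
    constructor
    · rintro ⟨i, x, rfl⟩
      exact ⟨⟨⟩, Sigma.ι E.X i x, by rw [← Scheme.Hom.comp_apply, Sigma.ι_desc]⟩
    · rintro ⟨-, z, rfl⟩
      obtain ⟨p, rfl⟩ := (sigmaMk E.X).surjective z
      exact ⟨p.1, p.2, (desc_sigmaMk E p).symm⟩
  constructor
  · rintro ⟨h1, h2⟩
    rw [Scheme.presieve₀_mem_qcPrecoverage_iff] at h1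
    rw [Scheme.presieve₀_mem_precoverage_iff] at h2
    refine ⟨Scheme.presieve₀_mem_qcPrecoverage_iff.mpr ((qc_iff E).mp h1), ?_⟩
    rw [Scheme.presieve₀_mem_precoverage_iff]
    exact ⟨hsurj.mp h2.1, fun _ => hflat.mp h2.2⟩
  · rintro ⟨h1, h2⟩
    rw [Scheme.presieve₀_mem_qcPrecoverage_iff] at h1
    rw [Scheme.presieve₀_mem_precoverage_iff] at h2
    refine ⟨Scheme.presieve₀_mem_qcPrecoverage_iff.mpr ((qc_iff E).mpr h1), ?_⟩
    rw [Scheme.presieve₀_mem_precoverage_iff]
    exact ⟨hsurj.mpr h2.1, hflat.mpr (h2.2 ⟨⟩)⟩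


end Groth.Agent.S7511
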