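import Groth.Statements.S7514
import Mathlib.FieldTheory.IsAlgClosed.AlgebraicClosure

set_option autoImplicit false
universe u
open CategoryTheory CategoryTheory.Limits AlgebraicGeometry
open Grpd

namespace Groth.Agent.S7514


theorem mono_of_unramified_of_injective_geometric_points {X Y : Scheme.{u}} (j : X ⟶ Y)
    [FormallyUnramified j] [LocallyOfFiniteType j]
    (h : ∀ (k : Type u) [Field k] [IsAlgClosed k],
      Function.Injective (fun r : Spec (CommRingCat.of k) ⟶ X => r ≫ j)) : Mono j := by
  rw [← pullback.isIso_diagonal_iff]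
  have hsurj : Function.Surjective (pullback.diagonal j) := by
    intro w
    let κ : Type u := (pullback j j).residueField w
    let k : Type u := AlgebraicClosure κ
    let g : Spec (CommRingCat.of k) ⟶ pullback j j :=
      Spec.map (CommRingCat.ofHom (algebraMap κ k)) ≫ (pullback j j).fromSpecResidueField w
    have hg : ∀ x, g x = w := fun x => by
      simp only [g, Scheme.Hom.comp_apply]
      exact Scheme.fromSpecResidueField_apply _ _
    have h12 : g ≫ pullback.fst j j = g ≫ pullback.snd j j := by
      apply h k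
      simp only [Category.assoc, pullback.condition]
    have hgd : g = (g ≫ pullback.fst j j) ≫ pullback.diagonal j := by
      apply pullback.hom_ext
      · simp
      · simp [h12]
    let pt : Spec (CommRingCat.of k) := IsLocalRing.closedPoint k
    refine ⟨(g ≫ pullback.fst j j) pt, ?_⟩
    rw [← Scheme.Hom.comp_apply, ← hgd, hg]
  have : Epi (pullback.diagonal j).base := (TopCat.epi_iff_surjective _).mpr hsurj
  exact IsOpenImmersion.isIso _

/-- Let S be a scheme, U a scheme over S and j : R -> U x_S U a pre-relation, with t = pr_0 ∘ j and s =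
pr_1 ∘ j. Assume (1) s and t are unramified (formally unramified and locally of finite type), (2)
for every algebraically closed field k, the map from k-points of R to pairs of k-points of U is
injective with image an equivalence relation, and (3) there are morphisms e : U -> R, i : R -> R and
c : R x_(s,U,t) R -> R such that j ∘ e is the diagonal, j ∘ i is j followed by the flip of the two
factors, and j ∘ c is pr_02 ∘ (j x j) (the arrow c(a, b) has target t(a) and source s(b)). Then j is
an equivalence relation: j is a monomorphism and, for every scheme T, the relation 'there is a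
T-point r of R with t ∘ r = a and s ∘ r = b' on T-points a, b of U is an equivalence relation. -/
theorem result {S U R : Scheme.{u}} (pU : U ⟶ S) (j : R ⟶ pullback pU pU) [FormallyUnramified (j ≫ pullback.fst pU pU)] [LocallyOfFiniteType (j ≫ pullback.fst pU pU)] [FormallyUnramified (j ≫ pullback.snd pU pU)] [LocallyOfFiniteType (j ≫ pullback.snd pU pU)] (h₂ : ∀ (k : Type u) [Field k] [IsAlgClosed k], Function.Injective (fun r : Spec (CommRingCat.of k) ⟶ R => r ≫ j) ∧ Equivalence (fun a b : Spec (CommRingCat.of k) ⟶ U => ∃ r : Spec (CommRingCat.of k) ⟶ R, r ≫ j ≫ pullback.fst pU pU = a ∧ r ≫ j ≫ pullback.snd pU pU = b)) (e : U ⟶ R) (he : e ≫ j = pullback.lift (𝟙 U) (𝟙 U) rfl) (i : R ⟶ R) (hi : i ≫ j = j ≫ (pullbackSymmetry pU pU).hom) (c : pullback (j ≫ pullback.snd pU pU) (j ≫ pullback.fst pU pU) ⟶ R) (hc₁ : c ≫ j ≫ pullback.fst pU pU = pullback.fst (j ≫ pullback.snd pU pU) (j ≫ pullback.fst pU pU) ≫ j ≫ pullback.fst pU pU) (hc₂ : c ≫ j ≫ pullback.snd pU pU = pullback.snd (j ≫ pullback.snd pU pU) (j ≫ pullback.fst pU pU) ≫ j ≫ pullback.snd pU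 pU) : Mono j ∧ ∀ T : Scheme.{u}, Equivalence (fun a b : T ⟶ U => ∃ r : T ⟶ R, r ≫ j ≫ pullback.fst pU pU = a ∧ r ≫ j ≫ pullback.snd pU pU = b) := by
  refine ⟨?_, ?_⟩
  · have : FormallyUnramified j := FormallyUnramified.of_comp j (pullback.fst pU pU)
    have : LocallyOfFiniteType j := locallyOfFiniteType_of_comp j (pullback.fst pU pU)
    exact mono_of_unramified_of_injective_geometric_points j (fun k _ _ => (h₂ k).1)
  · intro T
    refine ⟨?_, ?_, ?_⟩
    · intro a
      refine ⟨a ≫ e, ?_, ?_⟩
      · rw [Category.assoc, ← Category.assoc e, he, pullback.lift_fst, Category.comp_id]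
      · rw [Category.assoc, ← Category.assoc e, he, pullback.lift_snd, Category.comp_id]
    · rintro a b ⟨r, rfl, rfl⟩
      refine ⟨r ≫ i, ?_, ?_⟩
      · rw [Category.assoc, ← Category.assoc i, hi, Category.assoc, pullbackSymmetry_hom_comp_fst]
      · rw [Category.assoc, ← Category.assoc i, hi, Category.assoc, pullbackSymmetry_hom_comp_snd]
    · rintro a b d ⟨r₁, rfl, rfl⟩ ⟨r₂, h2, rfl⟩
      refine ⟨pullback.lift r₁ r₂ h2.symm ≫ c, ?_, ?_⟩
      · rw [Category.assoc, hc₁, pullback.lift_fst_assoc]
      · rw [Category.assoc, hc₂, pullback.lift_snd_assoc]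


end Groth.Agent.S7514
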