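import Groth.Statements.S7522
-- import your own Groth.Agent.* helpers here

set_option autoImplicit false
universe u
open CategoryTheory CategoryTheory.Limits AlgebraicGeometry
open Grpd

namespace Groth.Agent.S7522

/-- Let S be a scheme, U a scheme over S and j : R -> U x_S U a pre-equivalence relation, that is a
morphism such that for every scheme T the image of the T-points of R in pairs of T-points of U is an
equivalence relation; write t = pr_0 ∘ j and s = pr_1 ∘ j. Then the relation on the points of U in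
which x ∼ y when some point r of R has t(r) = x and s(r) = y is an equivalence relation. -/
theorem result {S U R : Scheme.{u}} (pU : U ⟶ S) (j : R ⟶ pullback pU pU) (hj : ∀ T : Scheme.{u}, Equivalence (fun a b : T ⟶ U => ∃ r : T ⟶ R, r ≫ j ≫ pullback.fst pU pU = a ∧ r ≫ j ≫ pullback.snd pU pU = b)) : Equivalence (fun x y : ↥U => ∃ r : R, (j ≫ pullback.fst pU pU) r = x ∧ (j ≫ pullback.snd pU pU) r = y) := by
  set t := j ≫ pullback.fst pU pU with ht
  set s := j ≫ pullback.snd pU pU with hs
  refine ⟨?_, ?_, ?_⟩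
  · intro x
    obtain ⟨r, hr1, hr2⟩ := (hj (Spec (U.residueField x))).refl (U.fromSpecResidueField x)
    let pt : Spec (U.residueField x) := default
    refine ⟨r pt, ?_, ?_⟩
    · rw [← Scheme.Hom.comp_apply, hr1, Scheme.fromSpecResidueField_apply]
    · rw [← Scheme.Hom.comp_apply, hr2, Scheme.fromSpecResidueField_apply]
  · rintro x y ⟨r, rfl, rfl⟩
    obtain ⟨r', hr1, hr2⟩ := (hj (Spec (R.residueField r))).symm
      ⟨R.fromSpecResidueField r, rfl, rfl⟩
    let pt : Spec (R.residueField r) := default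
    refine ⟨r' pt, ?_, ?_⟩
    · rw [← Scheme.Hom.comp_apply, hr1, Scheme.Hom.comp_apply, Scheme.fromSpecResidueField_apply]
    · rw [← Scheme.Hom.comp_apply, hr2, Scheme.Hom.comp_apply, Scheme.fromSpecResidueField_apply]
  · rintro x y z ⟨r₁, rfl, rfl⟩ ⟨r₂, h2, rfl⟩
    obtain ⟨w, hw1, hw2⟩ := Scheme.Pullback.exists_preimage_pullback (f := s) (g := t) r₁ r₂ h2.symm
    let T := Spec ((pullback s t).residueField w)
    let ι : T ⟶ pullback s t := (pullback s t).fromSpecResidueField w
    obtain ⟨r, hr1, hr2⟩ := (hj T).trans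
      (⟨ι ≫ pullback.fst s t, by rw [Category.assoc], by rw [Category.assoc, pullback.condition]⟩ : ∃ r : T ⟶ R, r ≫ t = ι ≫ pullback.fst s t ≫ t ∧
        r ≫ s = ι ≫ pullback.snd s t ≫ t) 
      (⟨ι ≫ pullback.snd s t, by rw [Category.assoc], by rw [Category.assoc]⟩ : ∃ r : T ⟶ R, r ≫ t = ι ≫ pullback.snd s t ≫ t ∧
        r ≫ s = ι ≫ pullback.snd s t ≫ s)
    let pt : T := default
    refine ⟨r pt, ?_, ?_⟩
    · rw [← Scheme.Hom.comp_apply, hr1, Scheme.Hom.comp_apply, Scheme.fromSpecResidueField_apply,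
        Scheme.Hom.comp_apply, hw1]
    · rw [← Scheme.Hom.comp_apply, hr2, Scheme.Hom.comp_apply, Scheme.fromSpecResidueField_apply,
        Scheme.Hom.comp_apply, hw2]


end Groth.Agent.S7522
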