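import Groth.Statements.S7524
import Groth.Agent.H4.Spectral

set_option autoImplicit false
universe u
open SpecSp

namespace Groth.Agent.S7524

/-- A continuous map f : X → Y of spectral spaces is spectral if and only if it is continuous when X and
Y both carry their constructible topologies. -/
theorem result {X Y : Type u} [TopologicalSpace X] [TopologicalSpace Y]
    [SpectralSpace X] [SpectralSpace Y] (f : X → Y) (hf : Continuous f) :
    IsSpectralMap f ↔ @Continuous X Y (constructibleTopology X) (constructibleTopology Y) f := by
  open Groth.Agent.H4.Spec in
  exact ⟨fun h => continuous_cons_of_isSpectralMap h,
    fun h => isSpectralMap_of_continuous_of_continuous_cons hf h⟩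


end Groth.Agent.S7524
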