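import Groth.Statements.S7528
import Groth.Agent.H4.Spectral3

set_option autoImplicit false
universe u
open SpecSp

namespace Groth.Agent.S7528

open Groth.Agent.H4.Spec

/-- For a spectral space X the following are equivalent: (1) X is profinite, i.e. quasi-compact,
Hausdorff and totally disconnected (quasi-compactness being automatic); (2) X is Hausdorff; (3) X is
totally disconnected; (4) every quasi-compact open subset is closed; (5) there are no nontrivial
specializations between points; (6) every point is closed; (7) every point is the generic point of
an irreducible component; (8) the constructible topology coincides with the topology of X. -/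
theorem result (X : Type u) [tX : TopologicalSpace X] [SpectralSpace X] :
    List.TFAE [
      T2Space X ∧ TotallyDisconnectedSpace X,
      T2Space X,
      TotallyDisconnectedSpace X,
      ∀ U : Set X, IsOpen U → IsCompact U → IsClosed U,
      ∀ x y : X, x ⤳ y → x = y,
      ∀ x : X, IsClosed ({x} : Set X),
      ∀ x : X, closure ({x} : Set X) ∈ irreducibleComponents X,
      constructibleTopology X = tX] := by
  tfae_have 1 → 2 := fun h => h.1
  tfae_have 2 → 1 := fun h => ⟨h, inferInstance⟩
  tfae_have 2 → 4 := fun h U _ hUc => hUc.isClosed
  tfae_have 4 → 8 := by
    intro h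
    apply le_antisymm cons_le
    apply le_generateFrom
    rintro s (⟨hso, -⟩ | ⟨hscl, hsc⟩)
    · exact hso
    · have := h sᶜ hscl.isOpen_compl hsc
      rwa [isClosed_compl_iff] at this
  tfae_have 8 → 2 := by
    intro h
    have := t2Space_cons (X := X)
    rwa [h] at this
  tfae_have 1 → 3 := fun h => h.2
  tfae_have 3 → 5 := by
    intro h x y hxy
    have hpc : IsPreconnected (closure ({x} : Set X)) := isPreconnected_singleton.closure
    have := isTotallyDisconnected_of_totallyDisconnectedSpace (closure ({x} : Set X))
      (closure ({x} : Set X)) subset_rfl hpc
    exact this (subset_closure rfl) (specializes_iff_mem_closure.mp hxy)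
  tfae_have 5 → 6 := by
    intro h x
    have : closure ({x} : Set X) = {x} := by
      ext y
      rw [← specializes_iff_mem_closure]
      exact ⟨fun hy => (h x y hy).symm, fun hy => by rw [Set.mem_singleton_iff.mp hy]⟩
    rw [← this]
    exact isClosed_closure
  tfae_have 6 → 5 := by
    intro h x y hxy
    have := specializes_iff_mem_closure.mp hxy
    rw [(h x).closure_eq] at this
    exact this.symm
  tfae_have 5 → 7 := by
    intro h x
    refine ⟨isIrreducible_singleton.closure, ?_⟩
    intro Z hZ hle
    obtain ⟨η, hη⟩ := QuasiSober.sober hZ.closure isClosed_closure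
    have hx : x ∈ closure Z := subset_closure (hle (subset_closure rfl))
    have : η = x := h η x (hη.specializes hx)
    rw [this] at hη
    rw [hη.def]
    exact subset_closure
  tfae_have 7 → 5 := by
    intro h x y hxy
    have hyx : closure ({y} : Set X) ⊆ closure ({x} : Set X) := by
      apply closure_minimal _ isClosed_closure
      rw [Set.singleton_subset_iff]
      exact specializes_iff_mem_closure.mp hxy
    have := (h y).2 isIrreducible_singleton.closure hyx
    have hx : x ∈ closure ({y} : Set X) := this (subset_closure rfl)
    have hyx' : y ⤳ x := specializes_iff_mem_closure.mpr hx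
    have hT0 : T0Space X := SpectralSpace.toT0Space
    exact (hxy.antisymm hyx').eq
  tfae_have 5 → 2 := by
    intro h
    refine ⟨fun x y hxy => ?_⟩
    rcases exists_common_generalization_or_disjoint_nhds x y with ⟨z, hzx, hzy⟩ | ⟨U, V, hU, hV, hx, hy, hd⟩
    · exact absurd ((h z x hzx).symm.trans (h z y hzy)) hxy
    · exact ⟨U, V, hU, hV, hx, hy, hd⟩
  tfae_finish


end Groth.Agent.S7528
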