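import Groth.Statements.S7530
import Groth.Agent.H4.Spectral3

set_option autoImplicit false
universe u
open SpecSp

namespace Groth.Agent.S7530

/-- Let f : X → Y be a map of spectral spaces which is spectral and bijective, and assume that
generalizations lift along f or that specializations lift along f. Then f is a homeomorphism. -/
theorem result {X Y : Type u} [TopologicalSpace X] [TopologicalSpace Y]
    [SpectralSpace X] [SpectralSpace Y] (f : X → Y) (hf : IsSpectralMap f) (hb : Function.Bijective f)
    (hlift : GeneralizingMap f ∨ SpecializingMap f) :
    IsHomeomorph f := by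
  open Groth.Agent.H4.Spec in
  refine ⟨hf.continuous, ?_, hb⟩
  rw [(PrespectralSpace.isTopologicalBasis (X := X)).isOpenMap_iff]
  rintro U ⟨hUo, hUc⟩
  have h1 : @IsClosed Y (constructibleTopology Y) (f '' U) :=
    isClosed_cons_image hf (isClosed_cons_of_isCompact_isOpen hUc hUo)
  have h2 : @IsClosed Y (constructibleTopology Y) (f '' Uᶜ) :=
    isClosed_cons_image hf (isClosed_cons_of_isClosed hUo.isClosed_compl)
  have h3 : f '' Uᶜ = (f '' U)ᶜ := Set.image_compl_eq hb
  rcases hlift with hg | hs
  · apply isOpen_of_isOpen_cons_of_stableUnderGeneralization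
    · rw [← isClosed_cons_compl_iff, ← h3]
      exact h2
    · exact hUo.stableUnderGeneralization.image hg
  · rw [← isClosed_compl_iff, ← h3]
    apply isClosed_of_isClosed_cons_of_stableUnderSpecialization h2
    exact hUo.isClosed_compl.stableUnderSpecialization.image hs


end Groth.Agent.S7530
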