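import Groth.Statements.S7538
import Groth.Agent.H4.SpectralLim6

set_option autoImplicit false
universe u
open CategoryTheory CategoryTheory.Limits
open SpecSp

namespace Groth.Agent.S7538

open Groth.Agent.H4.Spec Topology

/-- Let j ↦ X_j be a cofiltered diagram of spectral spaces with spectral transition maps f_a and X its
limit with projections p_j. (1) Any quasi-compact open U ⊆ X is p_i⁻¹(U_i) for some i and some
quasi-compact open U_i ⊆ X_i. (2) If U_i ⊆ X_i and U_j ⊆ X_j are quasi-compact opens with p_i⁻¹(U_i)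
⊆ p_j⁻¹(U_j), there are k and a : k → i, b : k → j with f_a⁻¹(U_i) ⊆ f_b⁻¹(U_j). (3) If U_i and
finitely many U_{l,i} are quasi-compact opens of X_i with p_i⁻¹(U_i) = ⋃_l p_i⁻¹(U_{l,i}), then
f_a⁻¹(U_i) = ⋃_l f_a⁻¹(U_{l,i}) for some a : j → i. (4) The same with intersections. -/
theorem result {J : Type u} [SmallCategory J] [IsCofiltered J] (F : J ⥤ TopCat.{u})
    (hF : ∀ j, SpectralSpace (F.obj j))
    (hFm : ∀ {i j : J} (a : i ⟶ j), IsSpectralMap (F.map a : F.obj i → F.obj j))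
    (c : Cone F) (hc : IsLimit c) :
    (∀ U : Set c.pt, IsOpen U → IsCompact U →
      ∃ (i : J) (Ui : Set (F.obj i)), IsOpen Ui ∧ IsCompact Ui ∧ c.π.app i ⁻¹' Ui = U) ∧
    (∀ (i j : J) (Ui : Set (F.obj i)) (Uj : Set (F.obj j)),
      IsOpen Ui → IsCompact Ui → IsOpen Uj → IsCompact Uj →
      c.π.app i ⁻¹' Ui ⊆ c.π.app j ⁻¹' Uj →
      ∃ (k : J) (a : k ⟶ i) (b : k ⟶ j), F.map a ⁻¹' Ui ⊆ F.map b ⁻¹' Uj) ∧
    (∀ (i : J) (n : ℕ) (Ui : Set (F.obj i)) (V : Fin n → Set (F.obj i)),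
      IsOpen Ui → IsCompact Ui → (∀ l, IsOpen (V l) ∧ IsCompact (V l)) →
      (c.π.app i ⁻¹' Ui = ⋃ l, c.π.app i ⁻¹' V l →
        ∃ (j : J) (a : j ⟶ i), F.map a ⁻¹' Ui = ⋃ l, F.map a ⁻¹' V l) ∧
      (c.π.app i ⁻¹' Ui = ⋂ l, c.π.app i ⁻¹' V l →
        ∃ (j : J) (a : j ⟶ i), F.map a ⁻¹' Ui = ⋂ l, F.map a ⁻¹' V l)) := by
  have hco : ∀ (j : J) (V : Set (F.obj j)), IsOpen V → IsCompact V →
      IsClosed[constructibleTopology (F.obj j)] V ∧ IsOpen[constructibleTopology (F.obj j)] V :=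
    fun j V ho hc' => ⟨isClosed_cons_of_isCompact_isOpen hc' ho,
      isOpen_cons_of_isCompact_isOpen hc' ho⟩
  refine ⟨fun U hUo hUc => exists_isCompact_isOpen_preimage_eq c hc hF hFm U hUo hUc, ?_, ?_⟩
  · intro i j Ui Uj hUio hUic hUjo hUjc hsub
    let a0 := IsCofiltered.minToLeft i j
    let b0 := IsCofiltered.minToRight i j
    have h1 : c.π.app (IsCofiltered.min i j) ⁻¹' (F.map a0 ⁻¹' Ui) ⊆
        c.π.app (IsCofiltered.min i j) ⁻¹' (F.map b0 ⁻¹' Uj) := by
      rw [proj_preimage_map_preimage, proj_preimage_map_preimage]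
      exact hsub
    obtain ⟨l, d, hd⟩ := (preimage_subset_preimage_iff_exists_hom c hc hF hFm _ _ _
      (isClosed_cons_preimage (hFm a0) (hco i Ui hUio hUic).1)
      (isOpen_cons_preimage (hFm b0) (hco j Uj hUjo hUjc).2)).1 h1
    refine ⟨l, d ≫ a0, d ≫ b0, ?_⟩
    intro y hy
    have h2 : y ∈ F.map d ⁻¹' (F.map a0 ⁻¹' Ui) := by
      change F.map a0 (F.map d y) ∈ Ui
      have h3 : F.map (d ≫ a0) y ∈ Ui := hy
      rwa [F.map_comp] at h3
    have h4 := hd h2
    change F.map (d ≫ b0) y ∈ Uj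
    rw [F.map_comp]
    exact h4
  · intro i n Ui V hUio hUic hV
    constructor
    · intro h
      have hEc : IsClosed[constructibleTopology (F.obj i)] (⋃ l, V l) :=
        @isClosed_iUnion_of_finite _ _ (constructibleTopology (F.obj i)) _ _
          (fun l => (hco i (V l) (hV l).1 (hV l).2).1)
      have hEo : IsOpen[constructibleTopology (F.obj i)] (⋃ l, V l) :=
        isOpen_cons_iUnion (fun l => (hco i (V l) (hV l).1 (hV l).2).2)
      obtain ⟨j, a, ha⟩ := exists_hom_preimage_eq_of_proj_preimage_eq c hc hF hFm i Ui (⋃ l, V l)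
        (hco i Ui hUio hUic).1 (hco i Ui hUio hUic).2 hEc hEo (by rw [h, Set.preimage_iUnion])
      exact ⟨j, a, by rw [ha, Set.preimage_iUnion]⟩
    · intro h
      have hEc : IsClosed[constructibleTopology (F.obj i)] (⋂ l, V l) :=
        isClosed_cons_iInter (fun l => (hco i (V l) (hV l).1 (hV l).2).1)
      have hEo : IsOpen[constructibleTopology (F.obj i)] (⋂ l, V l) :=
        @isOpen_iInter_of_finite _ _ (constructibleTopology (F.obj i)) _ _
          (fun l => (hco i (V l) (hV l).1 (hV l).2).2)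
      obtain ⟨j, a, ha⟩ := exists_hom_preimage_eq_of_proj_preimage_eq c hc hF hFm i Ui (⋂ l, V l)
        (hco i Ui hUio hUic).1 (hco i Ui hUio hUic).2 hEc hEo (by rw [h, Set.preimage_iInter])
      exact ⟨j, a, by rw [ha, Set.preimage_iInter]⟩


end Groth.Agent.S7538
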