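import Groth.Statements.S7539
import Groth.Agent.H4.Spectral4

set_option autoImplicit false
universe u
open SpecSp

namespace Groth.Agent.S7539

open Groth.Agent.H4.Spec Topology

/-- For a subset W of a spectral space X, these five conditions coincide: (1) W can be written as an
intersection of constructible subsets and is stable under generalization; (2) W is quasi-compact and
stable under generalization; (3) for some quasi-compact E ⊆ X, W consists exactly of the points that
specialize to a point of E; (4) W is the intersection of some family of quasi-compact opens; (5)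
there are a nonempty index set I and quasi-compact opens U_i with W = ⋂ U_i such that for all i, j
some U_k is contained in U_i ∩ U_j. -/
theorem result {X : Type u} [TopologicalSpace X] [SpectralSpace X] (W : Set X) :
    List.TFAE [
      (∃ S : Set (Set X), (∀ s ∈ S, Topology.IsConstructible s) ∧ W = ⋂₀ S) ∧ StableUnderGeneralization W,
      IsCompact W ∧ StableUnderGeneralization W,
      ∃ E : Set X, IsCompact E ∧ W = {x | ∃ e ∈ E, x ⤳ e},
      ∃ S : Set (Set X), (∀ s ∈ S, IsOpen s ∧ IsCompact s) ∧ W = ⋂₀ S,
      ∃ (I : Type u) (_ : Nonempty I) (U : I → Set X), (∀ i, IsOpen (U i) ∧ IsCompact (U i)) ∧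
        W = ⋂ i, U i ∧ ∀ i j, ∃ k, U k ⊆ U i ∩ U j] := by
  tfae_have 4 → 1 := by
    rintro ⟨S, hS, rfl⟩
    refine ⟨⟨S, fun s hs => (hS s hs).2.isConstructible (hS s hs).1, rfl⟩, ?_⟩
    intro x y hxy hx
    rw [Set.mem_sInter] at hx ⊢
    intro s hs
    exact (hS s hs).1.stableUnderGeneralization hxy (hx s hs)
  tfae_have 1 → 2 := by
    rintro ⟨⟨S, hS, rfl⟩, hgen⟩
    refine ⟨?_, hgen⟩
    apply isCompact_of_isClosed_cons
    exact isClosed_cons_sInter fun s hs => isClosed_cons_of_isConstructible (hS s hs)
  tfae_have 2 → 3 := by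
    rintro ⟨hc, hgen⟩
    refine ⟨W, hc, ?_⟩
    ext x
    constructor
    · intro hx
      exact ⟨x, hx, specializes_rfl⟩
    · rintro ⟨e, he, hxe⟩
      exact hgen hxe he
  tfae_have 3 → 4 := by
    rintro ⟨E, hE, rfl⟩
    refine ⟨{U | IsOpen U ∧ IsCompact U ∧ E ⊆ U}, fun s hs => ⟨hs.1, hs.2.1⟩, ?_⟩
    ext x
    simp only [Set.mem_ofPred_eq, Set.mem_sInter]
    constructor
    · rintro ⟨e, he, hxe⟩ U ⟨hUo, -, hEU⟩
      exact hUo.stableUnderGeneralization hxe (hEU he)
    · intro hx
      by_contra hcon
      simp only [not_exists, not_and] at hcon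
      have hcov : ∀ e ∈ E, ∃ U : Set X, (IsOpen U ∧ IsCompact U) ∧ e ∈ U ∧ x ∉ U := by
        intro e he
        have := hcon e he
        rw [specializes_iff_forall_open] at this
        simp only [not_forall] at this
        obtain ⟨V, hV, heV, hxV⟩ := this
        obtain ⟨U, hU, heU, hUV⟩ :=
          (PrespectralSpace.isTopologicalBasis (X := X)).exists_subset_of_mem_open heV hV
        exact ⟨U, hU, heU, fun h => hxV (hUV h)⟩
      choose! U hU heU hxU using hcov
      obtain ⟨t, htE, htfin, hcov'⟩ := hE.elim_finite_subcover_image (b := E) (c := U)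
        (fun e he => (hU e he).1) (fun e he => Set.mem_biUnion he (heU e he))
      have hmem := hx (⋃ e ∈ t, U e) ⟨isOpen_biUnion fun e he => (hU e (htE he)).1,
        htfin.isCompact_biUnion fun e he => (hU e (htE he)).2, hcov'⟩
      simp only [Set.mem_iUnion] at hmem
      obtain ⟨e, he, hxe⟩ := hmem
      exact hxU e (htE he) hxe
  tfae_have 4 → 5 := by
    rintro ⟨S, hS, rfl⟩
    classical
    refine ⟨{F : Finset (Set X) // (F : Set (Set X)) ⊆ S}, ⟨⟨∅, by simp⟩⟩,
      fun F => ⋂₀ (F.1 : Set (Set X)), ?_, ?_, ?_⟩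
    · intro F
      refine ⟨F.1.finite_toSet.isOpen_sInter fun s hs => (hS s (F.2 hs)).1, ?_⟩
      exact QuasiSeparatedSpace.isCompact_sInter F.1.finite_toSet
        (fun s hs => Or.inl (hS s (F.2 hs)).1) (fun s hs => (hS s (F.2 hs)).2)
    · ext x
      simp only [Set.mem_sInter, Set.mem_iInter]
      constructor
      · intro hx F s hs
        exact hx s (F.2 hs)
      · intro hx s hs
        exact hx ⟨{s}, by simpa using hs⟩ s (by simp)
    · intro F G
      refine ⟨⟨F.1 ∪ G.1, by
        intro s hs
        rcases Finset.mem_union.mp (Finset.mem_coe.mp hs) with h | h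
        · exact F.2 h
        · exact G.2 h⟩, ?_⟩
      intro x hx
      simp only [Set.mem_sInter] at hx
      refine ⟨?_, ?_⟩
      · rw [Set.mem_sInter]
        intro s hs
        exact hx s (by simp [Finset.mem_coe.mp hs])
      · rw [Set.mem_sInter]
        intro s hs
        exact hx s (by simp [Finset.mem_coe.mp hs])
  tfae_have 5 → 4 := by
    rintro ⟨I, _, U, hU, rfl, -⟩
    refine ⟨Set.range U, ?_, ?_⟩
    · rintro _ ⟨i, rfl⟩
      exact hU i
    · exact (Set.sInter_range U).symm
  tfae_finish


end Groth.Agent.S7539
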