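import Groth.Statements.S7544
import Groth.Agent.H4.Constr

set_option autoImplicit false
universe u
open ConstrTop

namespace Groth.Agent.S7544

open Groth.Agent.H4.Spec Topology

/-- Let X be a quasi-compact topological space whose quasi-compact opens form a basis and are closed
under pairwise intersection. Take T ⊆ X to be locally closed, quasi-compact, and with retrocompact
complement. Then T is constructible in X. -/
theorem result {X : Type u} [TopologicalSpace X]
    [CompactSpace X] [PrespectralSpace X] [QuasiSeparatedSpace X]
    (T : Set X) (hT : IsLocallyClosed T) (hTc : IsCompact T) (hTr : IsRetrocompact Tᶜ) :
    Topology.IsConstructible T := by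
  exact isConstructible_of_isLocallyClosed_isCompact hT hTc hTr


end Groth.Agent.S7544
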