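import Groth.Statements.S7546
import Groth.Agent.H4.Constr

set_option autoImplicit false
universe u
open ConstrTop

namespace Groth.Agent.S7546

/-- Let X be a topological space, Z ⊆ X irreducible and E ⊆ X a finite union of locally closed subsets
(for instance a constructible set). Then E ∩ Z is dense in Z if and only if E ∩ Z contains a subset
of the form U ∩ Z, U open in X, which is dense in Z. If moreover ξ ∈ Z is a generic point of Z,
these conditions are equivalent to ξ ∈ E. -/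
theorem result {X : Type u} [TopologicalSpace X] (Z : Set X) (hZ : IsIrreducible Z)
    {n : ℕ} (L : Fin n → Set X) (hL : ∀ i, IsLocallyClosed (L i)) (E : Set X) (hE : E = ⋃ i, L i) :
    (Z ⊆ closure (E ∩ Z) ↔ ∃ U : Set X, IsOpen U ∧ U ∩ Z ⊆ E ∧ Z ⊆ closure (U ∩ Z)) ∧
    (∀ ξ : X, ξ ∈ Z → Z ⊆ closure {ξ} → (Z ⊆ closure (E ∩ Z) ↔ ξ ∈ E)) := by
  subst hE
  have key : Z ⊆ closure ((⋃ i, L i) ∩ Z) →
      ∃ U : Set X, IsOpen U ∧ U ∩ Z ⊆ ⋃ i, L i ∧ Z ⊆ closure (U ∩ Z) := by
    intro h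
    have h1 : closure ((⋃ i, L i) ∩ Z) = ⋃ i, closure (L i ∩ Z) := by
      rw [Set.iUnion_inter, closure_iUnion_of_finite]
    rw [h1] at h
    obtain ⟨i, hi⟩ : ∃ i, Z ⊆ closure (L i ∩ Z) := by
      by_contra hcon
      simp only [not_exists] at hcon
      classical
      have := (isIrreducible_iff_sUnion_isClosed.mp hZ)
        (Finset.univ.image fun i => closure (L i ∩ Z))
        (by
          intro z hz
          obtain ⟨i, -, rfl⟩ := Finset.mem_image.mp hz
          exact isClosed_closure)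
        (by
          intro x hx
          obtain ⟨i, hi⟩ := Set.mem_iUnion.mp (h hx)
          exact Set.mem_sUnion.mpr ⟨_, Finset.mem_coe.mpr (Finset.mem_image.mpr ⟨i, Finset.mem_univ _, rfl⟩), hi⟩)
      obtain ⟨z, hz, hZz⟩ := this
      obtain ⟨i, -, rfl⟩ := Finset.mem_image.mp hz
      exact hcon i hZz
    obtain ⟨U, C, hU, hC, hLi⟩ := hL i
    have hZC : Z ⊆ C := by
      refine hi.trans (closure_minimal ?_ hC)
      rw [hLi]
      exact fun x hx => hx.1.2
    have hUZ : U ∩ Z = L i ∩ Z := by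
      rw [hLi]
      ext x
      constructor
      · rintro ⟨hxU, hxZ⟩
        exact ⟨⟨hxU, hZC hxZ⟩, hxZ⟩
      · rintro ⟨⟨hxU, -⟩, hxZ⟩
        exact ⟨hxU, hxZ⟩
    refine ⟨U, hU, ?_, ?_⟩
    · rw [hUZ]
      exact fun x hx => Set.mem_iUnion.mpr ⟨i, hx.1⟩
    · rw [hUZ]
      exact hi
  refine ⟨⟨key, ?_⟩, ?_⟩
  · rintro ⟨U, -, hUE, hd⟩
    refine hd.trans (closure_mono ?_)
    exact fun x hx => ⟨hUE hx, hx.2⟩
  · intro ξ hξZ hξ
    constructor
    · intro h
      obtain ⟨U, hU, hUE, hd⟩ := key h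
      obtain ⟨z, hz⟩ := hZ.nonempty
      obtain ⟨y, hyU, hy⟩ := mem_closure_iff.mp (hd hz) Set.univ isOpen_univ (Set.mem_univ _)
      have hyξ : y ∈ closure ({ξ} : Set X) := hξ hy.2
      obtain ⟨w, hwU, hw⟩ := mem_closure_iff.mp hyξ U hU hy.1
      rw [Set.mem_singleton_iff] at hw
      subst hw
      exact hUE ⟨hwU, hξZ⟩
    · intro hξE
      refine hξ.trans (closure_mono ?_)
      rw [Set.singleton_subset_iff]
      exact ⟨hξE, hξZ⟩


end Groth.Agent.S7546
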