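import Groth.Statements.S7547
import Mathlib

set_option autoImplicit false
universe u
open PtTop

namespace Groth.Agent.S7547

/-- Let X be a Kolmogorov topological space whose quasi-compact opens form a basis for the topology. If
X is not Jacobson, there is a point x ∈ X which is not closed but such that {x} is locally closed. -/
theorem result {X : Type u} [TopologicalSpace X]
    [T0Space X] [PrespectralSpace X] (hX : ¬ JacobsonSpace X) :
    ∃ x : X, ¬ IsClosed ({x} : Set X) ∧ IsLocallyClosed ({x} : Set X) := by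
  have : ∃ Z : Set X, IsClosed Z ∧ closure (Z ∩ closedPoints X) ≠ Z := by
    by_contra h
    simp only [not_exists, not_and, not_not] at h
    exact hX ⟨fun {Z} hZ => h Z hZ⟩
  obtain ⟨Z, hZ, hne⟩ := this
  have hsub : closure (Z ∩ closedPoints X) ⊆ Z := closure_minimal Set.inter_subset_left hZ
  have : ∃ z ∈ Z, z ∉ closure (Z ∩ closedPoints X) := by
    by_contra h
    simp only [not_exists, not_and, not_not] at h
    exact hne (subset_antisymm hsub h)
  obtain ⟨z, hzZ, hz⟩ := this
  obtain ⟨U', ⟨hU'o, hU'c⟩, hzU', hU'sub⟩ :=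
    (PrespectralSpace.isTopologicalBasis (X := X)).exists_subset_of_mem_open hz
      isClosed_closure.isOpen_compl
  let K : Set X := Z ∩ U'
  have hKc : IsCompact K := hU'c.inter_left hZ
  have : CompactSpace K := isCompact_iff_compactSpace.mp hKc
  obtain ⟨x, -, hx⟩ := IsClosed.exists_closed_singleton (X := K) isClosed_univ ⟨⟨z, hzZ, hzU'⟩, Set.mem_univ _⟩
  have hxcl : closure ({(x : X)} : Set X) ∩ K = {(x : X)} := by
    have h1 : closure ({x} : Set K) = {x} := hx.closure_eq
    rw [Topology.IsInducing.subtypeVal.closure_eq_preimage_closure_image, Set.image_singleton] at h1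
    ext y
    constructor
    · rintro ⟨hy1, hy2⟩
      have : (⟨y, hy2⟩ : K) ∈ (Subtype.val : K → X) ⁻¹' closure {(x : X)} := hy1
      rw [h1] at this
      exact congrArg Subtype.val this
    · intro hy
      rw [Set.mem_singleton_iff] at hy
      subst hy
      exact ⟨subset_closure rfl, x.2⟩
  refine ⟨x, ?_, ?_⟩
  · intro hxc
    have h1 : (x : X) ∈ Z ∩ closedPoints X := ⟨x.2.1, hxc⟩
    exact hU'sub x.2.2 (subset_closure h1)
  · refine ⟨U', closure {(x : X)}, hU'o, isClosed_closure, ?_⟩
    apply hxcl.symm.trans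
    ext y
    constructor
    · rintro ⟨hy1, hy2⟩
      exact ⟨hy2.2, hy1⟩
    · rintro ⟨hy1, hy2⟩
      exact ⟨hy2, closure_minimal (Set.singleton_subset_iff.mpr x.2.1) hZ hy2, hy1⟩


end Groth.Agent.S7547
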