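import Groth.Statements.S7548
import Mathlib

set_option autoImplicit false
universe u
open PtTop

namespace Groth.Agent.S7548

/-- Let X be a Jacobson space and let T = ⋃ T_i be a union of subsets T_i ⊆ X each locally closed in X
(open, closed, locally closed and constructible subsets are of this form). Then T is Jacobson and
every point of T closed in T is closed in X. -/
theorem result {X : Type u} [TopologicalSpace X] [JacobsonSpace X]
    {ι : Type u} (T : ι → Set X) (hT : ∀ i, IsLocallyClosed (T i)) :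
    JacobsonSpace ↥(⋃ i, T i) ∧
      closedPoints ↥(⋃ i, T i) ⊆ (Subtype.val : ↥(⋃ i, T i) → X) ⁻¹' closedPoints X := by
  have hsub : (Subtype.val : ↥(⋃ i, T i) → X) ⁻¹' closedPoints X ⊆ closedPoints ↥(⋃ i, T i) :=
    preimage_closedPoints_subset Subtype.val_injective continuous_subtype_val
  constructor
  · rw [jacobsonSpace_iff_locallyClosed]
    intro Z hZne hZ
    obtain ⟨L, hL, rfl⟩ := (Topology.IsInducing.subtypeVal.isLocallyClosed_iff).mp hZ
    obtain ⟨z, hz⟩ := hZne
    obtain ⟨i, hi⟩ := Set.mem_iUnion.mp z.2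
    obtain ⟨y, ⟨hyL, hyT⟩, hy⟩ := nonempty_inter_closedPoints (Z := L ∩ T i) ⟨z, hz, hi⟩
      (hL.inter (hT i))
    exact ⟨⟨y, Set.mem_iUnion.mpr ⟨i, hyT⟩⟩, hyL, hsub hy⟩
  · intro x hx
    obtain ⟨i, hi⟩ := Set.mem_iUnion.mp x.2
    have hx' : IsClosed ({x} : Set ↥(⋃ i, T i)) := hx
    have h1 : closure ({x} : Set ↥(⋃ i, T i)) = {x} := hx'.closure_eq
    rw [Topology.IsInducing.subtypeVal.closure_eq_preimage_closure_image, Set.image_singleton] at h1
    have h2 : ({(x : X)} : Set X) = closure {(x : X)} ∩ T i := by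
      ext y
      constructor
      · intro hy
        rw [Set.mem_singleton_iff] at hy
        subst hy
        exact ⟨subset_closure rfl, hi⟩
      · rintro ⟨hy1, hy2⟩
        have hyT : y ∈ ⋃ i, T i := Set.mem_iUnion.mpr ⟨i, hy2⟩
        have : (⟨y, hyT⟩ : ↥(⋃ i, T i)) ∈ (Subtype.val : ↥(⋃ i, T i) → X) ⁻¹' closure {(x : X)} := hy1
        rw [h1] at this
        exact congrArg Subtype.val this
    apply isClosed_singleton_of_isLocallyClosed_singleton
    rw [h2]
    exact isClosed_closure.isLocallyClosed.inter (hT i)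


end Groth.Agent.S7548
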