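import Groth.Statements.S7550
import Mathlib

set_option autoImplicit false
universe u
open PtTop

namespace Groth.Agent.S7550

/-- Let f : X → Y be a continuous and open map of topological spaces, with X Noetherian, every
irreducible closed subset of X having a generic point, and Y Kolmogorov. Then generalizations lift
along f. (Part (1), closed maps are specializing, is a library fact.) -/
theorem result {X Y : Type u} [TopologicalSpace X] [TopologicalSpace Y]
    [TopologicalSpace.NoetherianSpace X] [QuasiSober X] [T0Space Y]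
    (f : X → Y) (hf : Continuous f) (hfo : IsOpenMap f) :
    GeneralizingMap f := by
  intro x y' hy'
  -- hy' : y' ⤳ f x  (flip)
  change y' ⤳ f x at hy'
  let W : Set X := f ⁻¹' {y'}
  have hxW : x ∈ closure W := by
    rw [mem_closure_iff]
    intro U hU hxU
    have hfU : IsOpen (f '' U) := hfo U hU
    have : y' ∈ f '' U := hy'.mem_open hfU ⟨x, hxU, rfl⟩
    obtain ⟨x', hx'U, hx'⟩ := this
    exact ⟨x', hx'U, hx'⟩
  obtain ⟨S, hSfin, hScl, hSirr, hSU⟩ :=
    TopologicalSpace.NoetherianSpace.exists_finite_set_isClosed_irreducible (isClosed_closure (s := W))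
  let S' : Set (Set X) := {t ∈ S | (t ∩ W).Nonempty}
  have hS'fin : S'.Finite := hSfin.subset fun t ht => ht.1
  have hWS' : W ⊆ ⋃₀ S' := by
    intro w hw
    have : w ∈ ⋃₀ S := hSU ▸ subset_closure hw
    obtain ⟨t, ht, hwt⟩ := this
    exact ⟨t, ⟨ht, ⟨w, hwt, hw⟩⟩, hwt⟩
  have hcl : IsClosed (⋃₀ S') := by
    rw [Set.sUnion_eq_biUnion]
    exact hS'fin.isClosed_biUnion fun t ht => hScl t ht.1
  have hx' : x ∈ ⋃₀ S' := closure_minimal hWS' hcl hxW
  obtain ⟨t, ⟨htS, ⟨w, hwt, hwW⟩⟩, hxt⟩ := hx'
  obtain ⟨ξ, hξ⟩ := QuasiSober.sober (hSirr t htS) (hScl t htS)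
  have hξx : ξ ⤳ x := hξ.specializes hxt
  have hξw : ξ ⤳ w := hξ.specializes hwt
  have h1 : f ξ ⤳ y' := by
    have := hξw.map hf
    rwa [show f w = y' from hwW] at this
  have h2 : y' ⤳ f ξ := by
    have hξcl : ξ ∈ closure W := by
      rw [hSU]
      exact ⟨t, htS, hξ.mem⟩
    have : f ξ ∈ closure ({y'} : Set Y) := by
      have := map_mem_closure hf hξcl (t := {y'}) (fun a ha => ha)
      exact this
    exact specializes_iff_mem_closure.mpr this
  exact ⟨ξ, hξx, (h1.antisymm h2).eq⟩


end Groth.Agent.S7550
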