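import Groth.Statements.S7555
import Mathlib

set_option autoImplicit false
universe u
open PtTop

namespace Groth.Agent.S7555

/-- Let f : X → X be a surjective continuous self-map of a Hausdorff topological space with f ≠ id. Then
there is a closed subset E ⊊ X such that X = E ∪ f(E). -/
theorem result {X : Type u} [TopologicalSpace X] [T2Space X]
    (f : X → X) (hf : Continuous f) (hsurj : Function.Surjective f) (hne : f ≠ id) :
    ∃ E : Set X, IsClosed E ∧ E ≠ Set.univ ∧ E ∪ f '' E = Set.univ := by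
  have : ∃ p, f p ≠ p := by
    by_contra h
    simp only [not_exists, not_not] at h
    exact hne (funext h)
  obtain ⟨p, hp⟩ := this
  obtain ⟨U, V, hU, hV, hpU, hfpV, hUV⟩ := t2_separation hp.symm
  refine ⟨(U ∩ f ⁻¹' V)ᶜ, (hU.inter (hV.preimage hf)).isClosed_compl, ?_, ?_⟩
  · intro h
    have : p ∈ (U ∩ f ⁻¹' V)ᶜ := h ▸ Set.mem_univ p
    exact this ⟨hpU, hfpV⟩
  · rw [Set.eq_univ_iff_forall]
    intro x
    obtain ⟨y, rfl⟩ := hsurj x
    by_cases hy : y ∈ (U ∩ f ⁻¹' V)ᶜ
    · exact Or.inr ⟨y, hy, rfl⟩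
    · left
      simp only [Set.mem_compl_iff, not_not] at hy
      intro hfy
      exact Set.disjoint_left.mp hUV hfy.1 hy.2


end Groth.Agent.S7555
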