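import Groth.Statements.S7559
import Groth.Agent.H4.Strat

set_option autoImplicit false
universe u
open PtTop

namespace Groth.Agent.S7559

open Groth.Agent.H4.Spec Topology

/-- Let X be a topological space and X = ∐ P_k a finite partition into locally closed parts. Then there
is a finite stratification of X refining it: a finite partially ordered index set I and pairwise
disjoint locally closed strata S_i covering X with closure(S_j) ⊆ ⋃_{i ≤ j} S_i, such that every
part P_k is a union of strata. -/
theorem result {X : Type u} [TopologicalSpace X]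
    {n : ℕ} (P : Fin n → Set X) (hP : ∀ k, IsLocallyClosed (P k)) (hcov : ⋃ k, P k = Set.univ)
    (hdisj : ∀ k k', k ≠ k' → Disjoint (P k) (P k')) :
    ∃ (I : Type) (_ : Fintype I) (_ : PartialOrder I) (S : I → Set X),
      (∀ i, IsLocallyClosed (S i)) ∧ (⋃ i, S i = Set.univ) ∧ (∀ i j, i ≠ j → Disjoint (S i) (S j)) ∧
      (∀ j, closure (S j) ⊆ ⋃ i ∈ Set.Iic j, S i) ∧
      (∀ i k, (S i ∩ P k).Nonempty → S i ⊆ P k) := by
  let Z : Fin n ⊕ Fin n → Set X :=
    Sum.elim (fun k => closure (P k)) (fun k => (coborder (P k))ᶜ)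
  have hZ : ∀ l, IsClosed (Z l) := by
    rintro (k | k)
    · exact isClosed_closure
    · exact (hP k).isOpen_coborder.isClosed_compl
  refine ⟨(Finset (Fin n ⊕ Fin n))ᵒᵈ, inferInstance, inferInstance, stratum Z,
    fun A => isLocallyClosed_stratum Z hZ A, iUnion_stratum Z,
    fun A B h => disjoint_stratum Z h, fun B => closure_stratum_subset Z hZ B, ?_⟩
  intro A k h
  refine stratum_subset_of_measurable Z ?_ h
  intro x y hxy hx
  have h1 := hxy (Sum.inl k)
  have h2 := hxy (Sum.inr k)
  simp only [Z, Sum.elim_inl, Sum.elim_inr, Set.mem_compl_iff, not_iff_not] at h1 h2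
  rw [← coborder_inter_closure (s := P k)] at hx ⊢
  exact ⟨h2.1 hx.1, h1.1 hx.2⟩


end Groth.Agent.S7559
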