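import Groth.Statements.S7560
import Groth.Agent.H4.Strat

set_option autoImplicit false
universe u
open ConstrTop

namespace Groth.Agent.S7560

open Groth.Agent.H4.Spec Topology

/-- Let X be a topological space written as a finite union X = T_1 ∪ … ∪ T_n of constructible subsets.
Then there is a finite stratification X = ∐ S_i (pairwise disjoint locally closed strata indexed by
a finite partially ordered set, with closure(S_j) ⊆ ⋃_{i ≤ j} S_i) whose strata are constructible
and such that every T_k is a union of strata. -/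
theorem result {X : Type u} [TopologicalSpace X]
    {n : ℕ} (T : Fin n → Set X) (hT : ∀ k, Topology.IsConstructible (T k)) (hcov : ⋃ k, T k = Set.univ) :
    ∃ (I : Type) (_ : Fintype I) (_ : PartialOrder I) (S : I → Set X),
      (∀ i, IsLocallyClosed (S i) ∧ Topology.IsConstructible (S i)) ∧ (⋃ i, S i = Set.univ) ∧
      (∀ i j, i ≠ j → Disjoint (S i) (S j)) ∧
      (∀ j, closure (S j) ⊆ ⋃ i ∈ Set.Iic j, S i) ∧
      (∀ i k, (S i ∩ T k).Nonempty → S i ⊆ T k) := by
  choose κ inst Zk hZc hZk hmeas using fun k => exists_family_of_isConstructible (hT k)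
  letI : ∀ k, Fintype (κ k) := inst
  let Z : (Σ k : Fin n, κ k) → Set X := fun p => Zk p.1 p.2
  have hZ : ∀ l, IsClosed (Z l) := fun p => hZc p.1 p.2
  have hZ' : ∀ l, Topology.IsConstructible (Z l) := fun p => hZk p.1 p.2
  refine ⟨(Finset (Σ k : Fin n, κ k))ᵒᵈ, inferInstance, inferInstance, stratum Z,
    fun A => ⟨isLocallyClosed_stratum Z hZ A, isConstructible_stratum Z hZ' A⟩, iUnion_stratum Z,
    fun A B h => disjoint_stratum Z h, fun B => closure_stratum_subset Z hZ B, ?_⟩
  intro A k h
  refine stratum_subset_of_measurable Z ?_ h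
  intro x y hxy hx
  exact (hmeas k x y fun l => hxy ⟨k, l⟩).1 hx


end Groth.Agent.S7560
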