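import Groth.Statements.S7561
import Groth.Agent.H4.Strat2

set_option autoImplicit false
universe u
open PtTop

namespace Groth.Agent.S7561

open Groth.Agent.H4.Spec Topology

/-- Let X be a Noetherian topological space and X = ∐ P_k a finite partition into locally closed parts.
Then it is refined by a finite good stratification: a finite partition X = ∐ S_i into locally closed
strata such that S_i ∩ closure(S_j) ≠ ∅ implies S_i ⊆ closure(S_j), with every P_k a union of
strata. -/
theorem result {X : Type u} [TopologicalSpace X]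
    [TopologicalSpace.NoetherianSpace X]
    {n : ℕ} (P : Fin n → Set X) (hP : ∀ k, IsLocallyClosed (P k)) (hcov : ⋃ k, P k = Set.univ)
    (hdisj : ∀ k k', k ≠ k' → Disjoint (P k) (P k')) :
    ∃ (m : ℕ) (S : Fin m → Set X),
      (∀ i, IsLocallyClosed (S i)) ∧ (⋃ i, S i = Set.univ) ∧ (∀ i j, i ≠ j → Disjoint (S i) (S j)) ∧
      (∀ i j, (S i ∩ closure (S j)).Nonempty → S i ⊆ closure (S j)) ∧
      (∀ i k, (S i ∩ P k).Nonempty → S i ⊆ P k) := by
  let Z : Fin n ⊕ Fin n → Set X :=
    Sum.elim (fun k => closure (P k)) (fun k => (coborder (P k))ᶜ)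
  have hZ : ∀ l, IsClosed (Z l) := by
    rintro (k | k)
    · exact isClosed_closure
    · exact (hP k).isOpen_coborder.isClosed_compl
  obtain ⟨m, S, h1, h2, h3, h4, h5⟩ := exists_good_stratification_fin (Fin n ⊕ Fin n) Z hZ
  refine ⟨m, S, h1, h2, h3, h4, ?_⟩
  rintro i k ⟨x, hxS, hxP⟩ y hy
  have e1 := h5 i x hxS y hy (Sum.inl k)
  have e2 := h5 i x hxS y hy (Sum.inr k)
  simp only [Z, Sum.elim_inl, Sum.elim_inr, Set.mem_compl_iff, not_iff_not] at e1 e2
  rw [← coborder_inter_closure (s := P k)] at hxP ⊢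
  exact ⟨e2.1 hxP.1, e1.1 hxP.2⟩


end Groth.Agent.S7561
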