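import Groth.Statements.S7564
import Mathlib

set_option autoImplicit false
universe u
open PtTop

namespace Groth.Agent.S7564

/-- For a continuous surjection f : X → Y, if X has finitely many irreducible components, say n of them,
then Y has at most n irreducible components. -/
theorem result {X Y : Type u} [TopologicalSpace X] [TopologicalSpace Y]
    (f : X → Y) (hf : Continuous f) (hs : Function.Surjective f) (hfin : (irreducibleComponents X).Finite) :
    (irreducibleComponents Y).Finite ∧ (irreducibleComponents Y).ncard ≤ (irreducibleComponents X).ncard := by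
  classical
  have hsub : irreducibleComponents Y ⊆ (fun Z => closure (f '' Z)) '' irreducibleComponents X := by
    intro T hT
    have := (isIrreducible_iff_sUnion_isClosed.mp hT.1)
      (hfin.toFinset.image fun Z => closure (f '' Z))
      (by
        intro z hz
        obtain ⟨Z, -, rfl⟩ := Finset.mem_image.mp hz
        exact isClosed_closure)
      (by
        intro y _
        obtain ⟨x, rfl⟩ := hs y
        have hx : x ∈ ⋃₀ irreducibleComponents X := by
          rw [sUnion_irreducibleComponents]
          exact Set.mem_univ x
        obtain ⟨Z, hZ, hxZ⟩ := hx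
        exact Set.mem_sUnion.mpr ⟨_, Finset.mem_coe.mpr (Finset.mem_image.mpr
          ⟨Z, hfin.mem_toFinset.mpr hZ, rfl⟩), subset_closure ⟨x, hxZ, rfl⟩⟩)
    obtain ⟨z, hz, hTz⟩ := this
    obtain ⟨Z, hZ, rfl⟩ := Finset.mem_image.mp hz
    have hZ' : Z ∈ irreducibleComponents X := hfin.mem_toFinset.mp hZ
    have hirr : IsIrreducible (closure (f '' Z)) :=
      (hZ'.1.image f hf.continuousOn).closure
    exact ⟨Z, hZ', (subset_antisymm hTz (hT.2 hirr hTz)).symm⟩
  have hfinY : (irreducibleComponents Y).Finite := (hfin.image _).subset hsub
  refine ⟨hfinY, ?_⟩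
  calc (irreducibleComponents Y).ncard
      ≤ ((fun Z => closure (f '' Z)) '' irreducibleComponents X).ncard :=
        Set.ncard_le_ncard hsub (hfin.image _)
    _ ≤ (irreducibleComponents X).ncard := Set.ncard_image_le hfin


end Groth.Agent.S7564
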