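import Groth.Statements.S7567
import Groth.Agent.H4.Clopen

set_option autoImplicit false
universe u
open PtTop

namespace Groth.Agent.S7567

/-- Let X be a quasi-compact topological space whose quasi-compact opens form a basis, any two of them
meeting in a quasi-compact set. For a subset T ⊆ X these two conditions are equivalent: (a) T can be
written as an intersection of clopen subsets of X; (b) T is closed and is a union of connected
components of X. -/
theorem result {X : Type u} [TopologicalSpace X]
    [CompactSpace X] [PrespectralSpace X] [QuasiSeparatedSpace X] (T : Set X) :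
    (∃ S : Set (Set X), (∀ Z ∈ S, IsClopen Z) ∧ T = ⋂₀ S) ↔
      (IsClosed T ∧ ∀ x ∈ T, connectedComponent x ⊆ T) := by
  constructor
  · rintro ⟨S, hS, rfl⟩
    refine ⟨isClosed_sInter fun Z hZ => (hS Z hZ).1, ?_⟩
    intro x hx y hy
    rw [Set.mem_sInter] at hx ⊢
    intro Z hZ
    exact (hS Z hZ).connectedComponent_subset (hx Z hZ) hy
  · rintro ⟨hTcl, hsat⟩
    refine ⟨{Z | IsClopen Z ∧ T ⊆ Z}, fun Z hZ => hZ.1, ?_⟩
    apply subset_antisymm
    · intro x hx
      rw [Set.mem_sInter]
      intro Z hZ
      exact hZ.2 hx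
    · intro y hy
      by_contra hyT
      have hcov : ∀ x ∈ T, ∃ Z : Set X, IsClopen Z ∧ x ∈ Z ∧ y ∉ Z := by
        intro x hx
        have hyx : y ∉ connectedComponent x := fun h => hyT (hsat x hx h)
        rw [Groth.Agent.H4.Spec.connectedComponent_eq_sInter_isClopen x, Set.mem_sInter] at hyx
        simp only [not_forall] at hyx
        obtain ⟨Z, hZ, hyZ⟩ := hyx
        exact ⟨Z, hZ.1, hZ.2, hyZ⟩
      choose! Z hZclopen hxZ hyZ using hcov
      obtain ⟨t, htT, htfin, hcov'⟩ := hTcl.isCompact.elim_finite_subcover_image (b := T) (c := Z)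
        (fun x hx => (hZclopen x hx).2) (fun x hx => Set.mem_biUnion hx (hxZ x hx))
      have hW : IsClopen (⋃ x ∈ t, Z x) := htfin.isClopen_biUnion fun x hx => hZclopen x (htT hx)
      have := Set.mem_sInter.mp hy (⋃ x ∈ t, Z x) ⟨hW, hcov'⟩
      simp only [Set.mem_iUnion] at this
      obtain ⟨x, hx, hyx⟩ := this
      exact hyZ x (htT hx) hyx


end Groth.Agent.S7567
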