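import Groth.Statements.S7570
import Groth.Agent.H4.CoverLift

set_option autoImplicit false
universe u
open PtTop

namespace Groth.Agent.S7570

open Groth.Agent.H4.Spec Topology

/-- Let X be a topological space and Z ⊆ X a quasi-compact subset such that any two distinct points of Z
have disjoint open neighbourhoods in X. Let p ≥ 0, let U_i ⊆ X be opens with Z ⊆ ⋃ U_i, and for
every (p+1)-tuple let W_{i_0…i_p} ⊆ U_{i_0} ∩ … ∩ U_{i_p} be an open with W_{i_0…i_p} ∩ Z = U_{i_0}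
∩ … ∩ U_{i_p} ∩ Z. Then there are opens V_i with (1) Z ⊆ ⋃ V_i, (2) V_i ⊆ U_i, (3) closure(V_i) ∩ Z
⊆ U_i, and (4) V_{i_0} ∩ … ∩ V_{i_p} ⊆ W_{i_0…i_p} for all (p+1)-tuples. -/
theorem result {X : Type u} [TopologicalSpace X]
    (Z : Set X) (hZ : IsCompact Z)
    (hZsep : ∀ z ∈ Z, ∀ z' ∈ Z, z ≠ z' → ∃ A B : Set X, IsOpen A ∧ IsOpen B ∧ z ∈ A ∧ z' ∈ B ∧ Disjoint A B)
    {ι : Type u} (U : ι → Set X) (hU : ∀ i, IsOpen (U i)) (hcov : Z ⊆ ⋃ i, U i) (p : ℕ)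
    (W : (Fin (p + 1) → ι) → Set X) (hWo : ∀ t, IsOpen (W t)) (hWU : ∀ t, W t ⊆ ⋂ l, U (t l))
    (hWZ : ∀ t, W t ∩ Z = (⋂ l, U (t l)) ∩ Z) :
    ∃ V : ι → Set X, (∀ i, IsOpen (V i)) ∧ (Z ⊆ ⋃ i, V i) ∧ (∀ i, V i ⊆ U i) ∧
      (∀ i, closure (V i) ∩ Z ⊆ U i) ∧ (∀ t : Fin (p + 1) → ι, (⋂ l, V (t l)) ⊆ W t) := by
  have hloc : ∀ z ∈ Z, ∃ (i : ι) (N : Set X), IsOpen N ∧ z ∈ N ∧ N ⊆ U i ∧ closure N ∩ Z ⊆ U i := by
    intro z hz
    obtain ⟨i, hi⟩ := Set.mem_iUnion.1 (hcov hz)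
    have hK : IsCompact (Z \ U i) := hZ.diff (hU i)
    have h1 : Disjoint (nhdsSet (Z \ U i)) (nhds z) := by
      rw [hK.disjoint_nhdsSet_left]
      intro k hk
      have hne : k ≠ z := fun h => hk.2 (h ▸ hi)
      obtain ⟨A, B, hA, hB, hkA, hzB, hAB⟩ := hZsep k hk.1 z hz hne
      exact Filter.disjoint_iff.2 ⟨A, hA.mem_nhds hkA, B, hB.mem_nhds hzB, hAB⟩
    obtain ⟨B, hB, A, hA, hBA⟩ := Filter.disjoint_iff.1 h1
    obtain ⟨B', hB'o, hKB', hB'B⟩ := mem_nhdsSet_iff_exists.1 hB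
    obtain ⟨A', hA'A, hA'o, hzA'⟩ := mem_nhds_iff.1 hA
    refine ⟨i, A' ∩ U i, hA'o.inter (hU i), ⟨hzA', hi⟩, Set.inter_subset_right, ?_⟩
    rintro x ⟨hx, hxZ⟩
    by_contra hxU
    have hxB' : x ∈ B' := hKB' ⟨hxZ, hxU⟩
    have h2 : closure (A' ∩ U i) ⊆ B'ᶜ := by
      apply closure_minimal _ hB'o.isClosed_compl
      intro y hy hyB'
      exact Set.disjoint_left.1 hBA (hB'B hyB') (hA'A hy.1)
    exact h2 hx hxB'
  exact exists_opens_lifting_cover_core Z Z hZ U p W hWo (fun t => by rw [← hWZ t]; exact Set.inter_subset_left)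
    hloc subset_rfl


end Groth.Agent.S7570
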