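import Groth.Statements.S7577
import Groth.Agent.H4.Caten2

set_option autoImplicit false
universe u
open PtTop

namespace Groth.Agent.S7577

open Groth.Agent.H4.Spec

/-- Let X be a sober topological space and δ : X → ℤ a dimension function. Then X is catenary, and for
any specialization x ⤳ y the codimension of the closure of {y} in the closure of {x} equals δ(x) −
δ(y). -/
theorem result {X : Type u} [TopologicalSpace X] [QuasiSober X] [T0Space X]
    (δ : X → ℤ) (hδ : PtTop.IsDimensionFunction δ) :
    PtTop.IsCatenarySpace X ∧
    ∀ x y : X, x ⤳ y →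
      PtTop.codim (⟨closure {y}, isIrreducible_singleton.closure, isClosed_closure⟩ : TopologicalSpace.IrreducibleCloseds X)
        (closure {x}) = ((δ x - δ y).toNat : ℕ∞) := by
  have h1 := gp_lt hδ.1
  have h2 := gp_covBy (δ := δ) (fun x y h => hδ.2 x y h)
  refine ⟨fun T T' hTT' => Groth.Agent.H4.Caten.catenary_of_dimFun (fun T => δ (gp T)) h1 h2 T T' hTT', ?_⟩
  intro x y hxy
  have := Groth.Agent.H4.Caten.cod_eq_of_dimFun (fun T => δ (gp T)) h1 h2
    (a := pointClosure y) (b := pointClosure x) (pointClosure_le_iff.2 hxy)
  simp only [gp_pointClosure] at this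
  exact this

end Groth.Agent.S7577
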