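import Groth.Statements.S7578
import Groth.Agent.H4.Caten3

set_option autoImplicit false
universe u
open PtTop

namespace Groth.Agent.S7578

open Groth.Agent.H4.Spec

/-- Let X be a topological space which is locally Noetherian (every point has a Noetherian
neighbourhood) and sober, and let δ, δ' be two dimension functions on X. Then δ − δ' is locally
constant. -/
theorem result {X : Type u} [TopologicalSpace X] [QuasiSober X] [T0Space X]
    (hX : ∀ x : X, ∃ E ∈ nhds x, TopologicalSpace.NoetherianSpace E)
    (δ δ' : X → ℤ) (hδ : PtTop.IsDimensionFunction δ) (hδ' : PtTop.IsDimensionFunction δ') :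
    IsLocallyConstant (fun x => δ x - δ' x) := by
  apply isLocallyConstant_of_specializes_of_locallyNoetherian hX
  intro x y hxy
  have e1 := Groth.Agent.H4.Caten.cod_eq_of_dimFun (fun T => δ (gp T)) (gp_lt hδ.1)
    (gp_covBy (δ := δ) (fun x y h => hδ.2 x y h))
    (a := pointClosure y) (b := pointClosure x) (pointClosure_le_iff.2 hxy)
  have e2 := Groth.Agent.H4.Caten.cod_eq_of_dimFun (fun T => δ' (gp T)) (gp_lt hδ'.1)
    (gp_covBy (δ := δ') (fun x y h => hδ'.2 x y h))
    (a := pointClosure y) (b := pointClosure x) (pointClosure_le_iff.2 hxy)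
  simp only [gp_pointClosure] at e1 e2
  rw [e1] at e2
  have e3 : (δ x - δ y).toNat = (δ' x - δ' y).toNat := by exact_mod_cast e2
  have l1 : δ y ≤ δ x := by
    by_cases h : x = y
    · rw [h]
    · exact (hδ.1 x y hxy h).le
  have l2 : δ' y ≤ δ' x := by
    by_cases h : x = y
    · rw [h]
    · exact (hδ'.1 x y hxy h).le
  omega

end Groth.Agent.S7578
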