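import Groth.Statements.S7579
import Groth.Agent.H4.Spectral3

set_option autoImplicit false
universe u
open SpecSp

namespace Groth.Agent.S7579

open Groth.Agent.H4.Spec Topology

/-- Let X be a spectral space. Then X with its constructible topology is Hausdorff and totally
disconnected. The published statement also asserts that the constructible topology is quasi-compact;
this row states the Hausdorff and totally disconnected parts. -/
theorem result (X : Type u) [TopologicalSpace X] [SpectralSpace X] :
    T2Space (WithConstructibleTopology X) ∧ TotallyDisconnectedSpace (WithConstructibleTopology X) := by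
  have hcont : Continuous[_, constructibleTopology X]
      (WithTopology.ofTopology : WithConstructibleTopology X → X) :=
    WithTopology.continuous_ofTopology _
  have hinj : Function.Injective (WithTopology.ofTopology : WithConstructibleTopology X → X) :=
    WithTopology.ofTopology_injective _
  have hT2 : T2Space (WithConstructibleTopology X) :=
    @T2Space.of_injective_continuous (WithConstructibleTopology X) X _ (constructibleTopology X)
      t2Space_cons _ hinj hcont
  refine ⟨hT2, ?_⟩
  have hts : TotallySeparatedSpace (WithConstructibleTopology X) := by
    rw [totallySeparatedSpace_iff_exists_isClopen]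
    intro x y hxy
    have hne : x.ofTopology ≠ y.ofTopology := fun h => hxy (hinj h)
    have hins : ¬ Inseparable x.ofTopology y.ofTopology := fun h => hne h.eq
    rw [(PrespectralSpace.isTopologicalBasis (X := X)).inseparable_iff] at hins
    simp only [not_forall] at hins
    obtain ⟨U, ⟨hUo, hUc⟩, hU⟩ := hins
    have h1 : IsOpen[constructibleTopology X] U := hUc.isOpen_constructibleTopology_of_isOpen hUo
    have h2 : IsClosed[constructibleTopology X] U := isClosed_cons_of_isCompact_isOpen hUc hUo
    have hclopen : IsClopen ((WithTopology.ofTopology : WithConstructibleTopology X → X) ⁻¹' U) :=
      ⟨@IsClosed.preimage _ _ _ (constructibleTopology X) _ hcont _ h2,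
       @IsOpen.preimage _ _ _ (constructibleTopology X) _ hcont _ h1⟩
    by_cases hx : x.ofTopology ∈ U
    · have hy : y.ofTopology ∉ U := fun hy => hU (iff_of_true hx hy)
      exact ⟨_, hclopen, hx, hy⟩
    · have hy : y.ofTopology ∈ U := by
        by_contra hy
        exact hU (iff_of_false hx hy)
      have := hclopen.compl
      refine ⟨_, this, hx, ?_⟩
      simpa using hy
  infer_instance


end Groth.Agent.S7579
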