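import Groth.Statements.S7580
import Mathlib

set_option autoImplicit false
universe u
open PtTop

namespace Groth.Agent.S7580

/-- Let f : X → Y be a continuous map of topological spaces with f(X) dense in Y and Y Hausdorff. Then
the cardinality of Y is at most that of the double power set of X. -/
theorem result {X Y : Type u} [TopologicalSpace X] [TopologicalSpace Y] [T2Space Y]
    (f : X → Y) (hf : Continuous f) (hd : DenseRange f) :
    Cardinal.mk Y ≤ (2 : Cardinal.{u}) ^ ((2 : Cardinal.{u}) ^ Cardinal.mk X) := by
  have hinj : Function.Injective (fun y : Y => {A : Set X | y ∈ closure (f '' A)}) := by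
    intro y y' h
    by_contra hne
    obtain ⟨U, V, hU, hV, hyU, hy'V, hUV⟩ := t2_separation hne
    have h1 : y ∈ closure (f '' (f ⁻¹' U)) := by
      rw [mem_closure_iff]
      intro N hN hyN
      obtain ⟨x, hx⟩ := hd.exists_mem_open (hN.inter hU) ⟨y, hyN, hyU⟩
      exact ⟨f x, hx.1, x, hx.2, rfl⟩
    have h2 : y' ∉ closure (f '' (f ⁻¹' U)) := by
      intro h'
      obtain ⟨z, hzV, x, hx, rfl⟩ := mem_closure_iff.mp h' V hV hy'V
      exact Set.disjoint_left.mp hUV hx hzV
    have h3 : (f ⁻¹' U) ∈ {A : Set X | y ∈ closure (f '' A)} := h1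
    have h4 : {A : Set X | y ∈ closure (f '' A)} = {A : Set X | y' ∈ closure (f '' A)} := h
    rw [h4] at h3
    exact h2 h3
  have := Cardinal.mk_le_of_injective hinj
  simpa [Cardinal.mk_set] using this


end Groth.Agent.S7580
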