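import Groth.Statements.S7603
import Mathlib
import Groth.Agent.Lib.Helper2.IntegralNhd

set_option autoImplicit false
universe u
open CategoryTheory CategoryTheory.Limits AlgebraicGeometry
open Variety

namespace Groth.Agent.S7603

/-- (2) ⇔ (3): let X be a proper scheme over a field k which is geometrically normal (X_K is a normal
scheme for every extension field K of k). Then X is geometrically connected over k exactly when it
is geometrically irreducible over k. (The published statement lists geometric integrality as a
further equivalent condition; given geometric normality it is equivalent to geometric irreducibility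
by a direct argument, so this row omits it.) -/
theorem result (k : Type u) [Field k] (X : Scheme.{u}) [X.Over (Spec (CommRingCat.of k))] [IsProper (X ↘ (Spec (CommRingCat.of k)))]
    (hX : ∀ (K : Type u) [Field K] [Algebra k K], Pi1.IsNormalScheme (Curv2.bc k X K)) :
    GeometricallyConnected (X ↘ (Spec (CommRingCat.of k))) ↔ GeometricallyIrreducible (X ↘ (Spec (CommRingCat.of k))) := by
  haveI : LocallyOfFiniteType (X ↘ (Spec (CommRingCat.of k))) := inferInstance
  have hN : ∀ (K : Type u) [Field K] [Algebra k K], IsLocallyNoetherian (Curv2.bc k X K) := by
    intro K _ _
    haveI : LocallyOfFiniteType (Curv2.bcSnd k X K) :=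
      MorphismProperty.pullback_snd _ _ inferInstance
    exact LocallyOfFiniteType.isLocallyNoetherian (Curv2.bcSnd k X K)
  rw [GeometricallyConnected.eq_geometrically, GeometricallyIrreducible.eq_geometrically,
    geometrically_iff_of_commRing_of_isClosedUnderIsomorphisms,
    geometrically_iff_of_commRing_of_isClosedUnderIsomorphisms]
  refine forall_congr' fun K => forall_congr' fun _ => forall_congr' fun _ => ?_
  haveI := hN K
  constructor
  · intro h
    haveI : ConnectedSpace ↥(Curv2.bc k X K) := h
    haveI : IsIntegral (Curv2.bc k X K) :=
      (Groth.Agent.H2.isIntegral_iff_connectedSpace_and_isDomain_stalk _).mpr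
        ⟨inferInstance, fun x => (hX K x).1⟩
    show IrreducibleSpace ↥(Curv2.bc k X K)
    infer_instance
  · intro h
    haveI : IrreducibleSpace ↥(Curv2.bc k X K) := h
    show ConnectedSpace ↥(Curv2.bc k X K)
    infer_instance

end Groth.Agent.S7603
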