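import Groth.Statements.S7614
import Mathlib
import Groth.Agent.Lib.Helper1.FpqcQAffine

set_option autoImplicit false
universe u
open CategoryTheory CategoryTheory.Limits AlgebraicGeometry
open Variety

namespace Groth.Agent.S7614

/-- Let X be a scheme over a field k and K an extension field of k. If X_K is quasi-affine, then X is
quasi-affine. -/
theorem result (k : Type u) [Field k] (X : Scheme.{u}) [X.Over (Spec (CommRingCat.of k))] (K : Type u) [Field K] [Algebra k K]
    [(Curv2.bc k X K).IsQuasiAffine] : X.IsQuasiAffine := by
  haveI : Surjective (Spec.map (CommRingCat.ofHom (algebraMap k K))) := inferInstance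
  haveI : Flat (Spec.map (CommRingCat.ofHom (algebraMap k K))) := inferInstance
  exact Groth.Agent.H1.FpqcQAffine.isQuasiAffine_of_isPullback
    (Spec.map (CommRingCat.ofHom (algebraMap k K))) (X ↘ Spec (CommRingCat.of k))
    (Curv2.bcSnd k X K) (Curv2.bcFst k X K)
    (IsPullback.of_hasPullback (X ↘ Spec (CommRingCat.of k))
      (Spec.map (CommRingCat.ofHom (algebraMap k K))))

end Groth.Agent.S7614
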