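import Groth.Statements.S7620
import Mathlib
import Groth.Agent.Lib.Helper1.Chev1

set_option autoImplicit false
universe u
open CategoryTheory CategoryTheory.Limits AlgebraicGeometry
open scoped TensorProduct
open Variety

namespace Groth.Agent.S7620

/-- Let A → B be a finite type ring map (a finite type morphism of affine schemes X → S), p a prime of A
and suppose the fibre ring κ(p) ⊗_A B has Krull dimension d. Then there is an A-algebra homomorphism
π : A[t_1, …, t_d] → B such that the induced map of fibres κ(p) ⊗_A A[t_1, …, t_d] → κ(p) ⊗_A B is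
finite. -/
theorem result (A B : Type u) [CommRing A] [CommRing B] [Algebra A B] [Algebra.FiniteType A B]
    (p : Ideal A) [p.IsPrime] (d : ℕ) (hd : ringKrullDim (p.ResidueField ⊗[A] B) = d) :
    ∃ π : MvPolynomial (Fin d) A →ₐ[A] B,
      (Algebra.TensorProduct.map (AlgHom.id p.ResidueField p.ResidueField) π).toRingHom.Finite := by
  obtain ⟨m, hmd, b, hint⟩ := Groth.Agent.H1.Chev.exists_aeval_isIntegral A B p.ResidueField
    (Groth.Agent.H1.Chev.hfrac_residueField p) d hd.le
  let b' : Fin d → B := fun i => if h : (i : ℕ) < m then b ⟨i, h⟩ else 0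
  refine ⟨MvPolynomial.aeval b', ?_⟩
  set T := Algebra.TensorProduct.map (AlgHom.id p.ResidueField p.ResidueField)
    (MvPolynomial.aeval b' : MvPolynomial (Fin d) A →ₐ[A] B) with hT
  let θ : MvPolynomial (Fin m) p.ResidueField →ₐ[p.ResidueField]
      p.ResidueField ⊗[A] MvPolynomial (Fin d) A :=
    MvPolynomial.aeval (fun i => (1 : p.ResidueField) ⊗ₜ[A] (MvPolynomial.X (Fin.castLE hmd i)))
  have hcomp : T.comp θ = (MvPolynomial.aeval (fun i => (1 : p.ResidueField) ⊗ₜ[A] b i) :
      MvPolynomial (Fin m) p.ResidueField →ₐ[p.ResidueField] p.ResidueField ⊗[A] B) := by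
    ext i
    simp only [AlgHom.coe_comp, Function.comp_apply, θ, MvPolynomial.aeval_X, hT,
      Algebra.TensorProduct.map_tmul, AlgHom.coe_id, id_eq, b']
    congr 1
    simp
  have hTint : T.toRingHom.IsIntegral := by
    apply RingHom.IsIntegral.tower_top θ.toRingHom T.toRingHom
    have : T.toRingHom.comp θ.toRingHom = (T.comp θ).toRingHom := rfl
    rw [this, hcomp]
    exact hint
  apply RingHom.IsIntegral.to_finite hTint
  apply RingHom.FiniteType.of_comp_finiteType (f := algebraMap p.ResidueField _)
  have : T.toRingHom.comp (algebraMap p.ResidueField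
      (p.ResidueField ⊗[A] MvPolynomial (Fin d) A)) = algebraMap p.ResidueField _ := by
    exact RingHom.ext fun z => T.commutes z
  rw [this]
  exact RingHom.finiteType_algebraMap.mpr inferInstance

end Groth.Agent.S7620
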