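import Groth.Statements.S7622
import Groth.Agent.Lib.Helper5.CA.CohenQuot
import Groth.Agent.Lib.Helper5.CA.CoeffField

set_option autoImplicit false
universe u
open CategoryTheory CategoryTheory.Limits AlgebraicGeometry
open Variety

namespace Groth.Agent.S7622

/-- Let A be a Noetherian local algebra over a field k (such as the local ring of a locally Noetherian
k-scheme at a point) whose residue field κ is a separable extension of k, meaning geometrically
reduced over k; κ need not be algebraic over k. Then there are n ≥ 0, an ideal I of κ[[x_1, …, x_n]]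
and a k-algebra isomorphism e from κ[[x_1, …, x_n]]/I onto the completion A^∧ of A at its maximal
ideal which induces the identity on residue fields: for every a in A, the value of e on the constant
power series whose value is the residue class of a is congruent to the image of a modulo the
extended maximal ideal of A^∧. -/
theorem result (k A : Type u) [Field k] [CommRing A] [Algebra k A]
    [IsNoetherianRing A] [IsLocalRing A] [Algebra.IsGeometricallyReduced k (IsLocalRing.ResidueField A)] :
    ∃ (n : ℕ) (I : Ideal (MvPowerSeries (Fin n) (IsLocalRing.ResidueField A)))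
      (e : (MvPowerSeries (Fin n) (IsLocalRing.ResidueField A) ⧸ I) ≃ₐ[k]
        AdicCompletion (IsLocalRing.maximalIdeal A) A),
      ∀ a : A, e (Ideal.Quotient.mk I (MvPowerSeries.C (IsLocalRing.residue A a))) -
          algebraMap A (AdicCompletion (IsLocalRing.maximalIdeal A) A) a ∈
        (IsLocalRing.maximalIdeal A).map (algebraMap A (AdicCompletion (IsLocalRing.maximalIdeal A) A)) := by
  classical
  haveI : IsScalarTower k A (AdicCompletion (IsLocalRing.maximalIdeal A) A) :=
    IsScalarTower.of_algebraMap_eq (fun x => rfl)
  have hbij := AdicCompletion.residueField_map_bijective A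
  -- the k-algebra iso of IsLocalRing.residue fields
  let ι₀ : IsLocalRing.ResidueField A →ₐ[k] IsLocalRing.ResidueField (AdicCompletion (IsLocalRing.maximalIdeal A) A) :=
    { toRingHom := IsLocalRing.ResidueField.map (algebraMap A (AdicCompletion (IsLocalRing.maximalIdeal A) A))
      commutes' := fun c => by
        show IsLocalRing.ResidueField.map (algebraMap A (AdicCompletion (IsLocalRing.maximalIdeal A) A))
          (algebraMap k (IsLocalRing.ResidueField A) c) = algebraMap k _ c
        rw [IsScalarTower.algebraMap_apply k A (IsLocalRing.ResidueField A),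
          IsScalarTower.algebraMap_apply k (AdicCompletion (IsLocalRing.maximalIdeal A) A)
            (IsLocalRing.ResidueField (AdicCompletion (IsLocalRing.maximalIdeal A) A)),
          IsScalarTower.algebraMap_apply k A (AdicCompletion (IsLocalRing.maximalIdeal A) A)]
        exact IsLocalRing.ResidueField.map_residue _ _ }
  let ι : IsLocalRing.ResidueField A ≃ₐ[k] IsLocalRing.ResidueField (AdicCompletion (IsLocalRing.maximalIdeal A) A) :=
    AlgEquiv.ofBijective ι₀ hbij
  haveI : Algebra.IsGeometricallyReduced k (IsLocalRing.ResidueField (AdicCompletion (IsLocalRing.maximalIdeal A) A)) :=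
    Algebra.IsGeometricallyReduced.of_injective ι.symm.toAlgHom ι.symm.injective
  obtain ⟨σ, hσ⟩ := Groth.Agent.H5.exists_coefficientField (k := k) (A := AdicCompletion (IsLocalRing.maximalIdeal A) A)
  let σ' : IsLocalRing.ResidueField A →ₐ[k] AdicCompletion (IsLocalRing.maximalIdeal A) A := σ.comp ι.toAlgHom
  letI : Algebra (IsLocalRing.ResidueField A) (AdicCompletion (IsLocalRing.maximalIdeal A) A) := σ'.toRingHom.toAlgebra
  haveI : IsScalarTower k (IsLocalRing.ResidueField A) (AdicCompletion (IsLocalRing.maximalIdeal A) A) :=
    IsScalarTower.of_algebraMap_eq (fun c => (σ'.commutes c).symm)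
  have hK : Function.Surjective ((IsLocalRing.residue (AdicCompletion (IsLocalRing.maximalIdeal A) A)).comp
      (algebraMap (IsLocalRing.ResidueField A) (AdicCompletion (IsLocalRing.maximalIdeal A) A))) := by
    intro y
    refine ⟨ι.symm y, ?_⟩
    show IsLocalRing.residue _ (σ (ι (ι.symm y))) = y
    rw [hσ, AlgEquiv.apply_symm_apply]
  have hfg : (IsLocalRing.maximalIdeal (AdicCompletion (IsLocalRing.maximalIdeal A) A)).FG := by
    simpa [AdicCompletion.maximalIdeal_eq_map] using
      ((IsLocalRing.maximalIdeal A).fg_of_isNoetherianRing).map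
        (algebraMap A (AdicCompletion (IsLocalRing.maximalIdeal A) A))
  obtain ⟨n, ψ, hψ, -⟩ := Groth.Agent.H5.CA.exists_surjective_mvPowerSeries (IsLocalRing.ResidueField A)
    (AdicCompletion (IsLocalRing.maximalIdeal A) A) hfg hK
  let e₀ := Ideal.quotientKerAlgEquivOfSurjective hψ
  refine ⟨n, RingHom.ker ψ, e₀.restrictScalars k, fun a => ?_⟩
  have h1 : (e₀.restrictScalars k) (Ideal.Quotient.mk (RingHom.ker ψ)
      (MvPowerSeries.C (IsLocalRing.residue A a))) = σ (IsLocalRing.residue _ (algebraMap A _ a)) := by
    show e₀ (Ideal.Quotient.mk (RingHom.ker ψ) (MvPowerSeries.C (IsLocalRing.residue A a))) = _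
    have : (MvPowerSeries.C (IsLocalRing.residue A a) : MvPowerSeries (Fin n) (IsLocalRing.ResidueField A)) =
        algebraMap (IsLocalRing.ResidueField A) _ (IsLocalRing.residue A a) := by
      rw [MvPowerSeries.algebraMap_apply]; simp
    rw [this]
    have h2 : e₀ (Ideal.Quotient.mk (RingHom.ker ψ) (algebraMap (IsLocalRing.ResidueField A) _ (IsLocalRing.residue A a))) =
        ψ (algebraMap (IsLocalRing.ResidueField A) _ (IsLocalRing.residue A a)) :=
      Ideal.quotientKerAlgEquivOfSurjective_mk hψ _
    rw [h2, AlgHom.commutes]
    show σ (ι (IsLocalRing.residue A a)) = _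
    congr 1
  rw [h1, ← AdicCompletion.maximalIdeal_eq_map, ← IsLocalRing.residue_eq_zero_iff, map_sub, hσ, sub_self]


end Groth.Agent.S7622
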