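import Groth.Statements.S7627
import Mathlib
import Groth.Agent.Lib.Helper1.DimFormula5

set_option autoImplicit false
universe u
open CategoryTheory CategoryTheory.Limits AlgebraicGeometry
attribute [local instance] Curv2.resAlgebra
open scoped TensorProduct
open Variety

namespace Groth.Agent.S7627

/-- Let X be locally of finite type over a field k, K an extension field of k, y a point of X_K with
image x in X. Assume dim O_{X, x} = dim O_{X_K, y} and that κ(x) ⊗_k K is reduced (for instance
κ(x)/k separable or K/k separable). Then m_x O_{X_K, y} = m_y. -/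
theorem result (k : Type u) [Field k] (X : Scheme.{u}) [X.Over (Spec (CommRingCat.of k))] [LocallyOfFiniteType (X ↘ (Spec (CommRingCat.of k)))]
    (K : Type u) [Field K] [Algebra k K] (y : ↥(Curv2.bc k X K))
    (hdim : ringKrullDim ↥(X.presheaf.stalk (Curv2.bcFst k X K y)) = ringKrullDim ↥((Curv2.bc k X K).presheaf.stalk y))
    (hred : _root_.IsReduced (X.residueField (Curv2.bcFst k X K y) ⊗[k] K)) :
    Ideal.map ((Curv2.bcFst k X K).stalkMap y).hom (IsLocalRing.maximalIdeal ↥(X.presheaf.stalk (Curv2.bcFst k X K y))) =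
      IsLocalRing.maximalIdeal ↥((Curv2.bc k X K).presheaf.stalk y) := by
  letI alg : Algebra (X.presheaf.stalk (Curv2.bcFst k X K y)) ((Curv2.bc k X K).presheaf.stalk y) :=
    ((Curv2.bcFst k X K).stalkMap y).hom.toAlgebra
  haveI hloc : IsLocalHom (algebraMap (X.presheaf.stalk (Curv2.bcFst k X K y))
      ((Curv2.bc k X K).presheaf.stalk y)) :=
    inferInstanceAs (IsLocalHom ((Curv2.bcFst k X K).stalkMap y).hom)
  haveI hflatK : Flat (Spec.map (CommRingCat.ofHom (algebraMap k K))) := by
    rw [HasRingHomProperty.Spec_iff (P := @Flat)]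
    exact RingHom.flat_algebraMap_iff.mpr (inferInstance : Module.Flat k K)
  haveI hflat : Flat (Curv2.bcFst k X K) := MorphismProperty.pullback_fst _ _ hflatK
  haveI : Module.Flat (X.presheaf.stalk (Curv2.bcFst k X K y)) ((Curv2.bc k X K).presheaf.stalk y) :=
    Flat.stalkMap (Curv2.bcFst k X K) y
  haveI : IsLocallyNoetherian X :=
    LocallyOfFiniteType.isLocallyNoetherian (X ↘ (Spec (CommRingCat.of k)))
  haveI : LocallyOfFiniteType (pullback.snd (X ↘ (Spec (CommRingCat.of k)))
      (Spec.map (CommRingCat.ofHom (algebraMap k K)))) :=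
    MorphismProperty.pullback_snd _ _ inferInstance
  haveI : IsLocallyNoetherian (Curv2.bc k X K) :=
    LocallyOfFiniteType.isLocallyNoetherian (pullback.snd (X ↘ (Spec (CommRingCat.of k)))
      (Spec.map (CommRingCat.ofHom (algebraMap k K))))
  refine Groth.Agent.H1.DimFormula.map_maximalIdeal_eq_of_flat_of_dim_eq _ _ hdim ?_
  -- reducedness of the fibre
  obtain ⟨e⟩ := Groth.Agent.H1.DimFormula.nonempty_fiber_bcFst_iso k X K (Curv2.bcFst k X K y)
  haveI : IsReduced (Spec (CommRingCat.of (X.residueField (Curv2.bcFst k X K y) ⊗[k] K))) :=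
    inferInstance
  haveI : IsReduced ((Curv2.bcFst k X K).fiber (Curv2.bcFst k X K y)) :=
    isReduced_of_isOpenImmersion e.hom
  have hst : _root_.IsReduced (((Curv2.bcFst k X K).fiber (Curv2.bcFst k X K y)).presheaf.stalk
      ((Curv2.bcFst k X K).asFiber y)) := inferInstance
  exact isReduced_of_injective
    (Groth.Agent.H1.FibreStalk.fiberStalkEquiv (Curv2.bcFst k X K) y).toRingHom
    (Groth.Agent.H1.FibreStalk.fiberStalkEquiv (Curv2.bcFst k X K) y).injective

end Groth.Agent.S7627
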