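import Groth.Statements.S7644
import Mathlib

set_option autoImplicit false
universe u
open CategoryTheory CategoryTheory.Limits AlgebraicGeometry
open Variety

namespace Groth.Agent.S7644

/-- If X is an irreducible scheme of positive dimension, separated over a field k, and x is a closed
point of X, then the open subscheme obtained by removing x is not proper over k. -/
theorem result (k : Type u) [Field k] (X : Scheme.{u}) [X.Over (Spec (CommRingCat.of k))]
    [IsSeparated (X ↘ (Spec (CommRingCat.of k)))] [IrreducibleSpace X] (hdim : 0 < topologicalKrullDim X)
    (x : X) (hx : IsClosed ({x} : Set X)) :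
    ¬ IsProper (Scheme.Opens.ι (⟨({x} : Set X)ᶜ, hx.isOpen_compl⟩ : X.Opens) ≫ (X ↘ (Spec (CommRingCat.of k)))) := by
  intro hprop
  set U : X.Opens := ⟨({x} : Set X)ᶜ, hx.isOpen_compl⟩ with hU
  haveI : IsProper U.ι := IsProper.of_comp U.ι (X ↘ (Spec (CommRingCat.of k)))
  have hclosed : IsClosed (Set.range U.ι) := U.ι.isClosedMap.isClosed_range
  rw [Scheme.Opens.range_ι] at hclosed
  -- U is nonempty
  have hne : (U : Set X).Nonempty := by
    by_contra hempty
    rw [Set.not_nonempty_iff_eq_empty] at hempty
    have hsub : Subsingleton X := by
      constructor
      intro a b
      have ha : a ∈ ({x} : Set X) := by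
        by_contra h
        have : a ∈ (U : Set X) := h
        rw [hempty] at this
        exact this
      have hb : b ∈ ({x} : Set X) := by
        by_contra h
        have : b ∈ (U : Set X) := h
        rw [hempty] at this
        exact this
      rw [Set.mem_singleton_iff] at ha hb
      rw [ha, hb]
    have : topologicalKrullDim X ≤ 0 := by
      unfold topologicalKrullDim
      haveI : Subsingleton (TopologicalSpace.IrreducibleCloseds X) := by
        constructor
        intro a b
        apply TopologicalSpace.IrreducibleCloseds.ext
        ext z
        constructor
        · intro hz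
          obtain ⟨w, hw⟩ := b.isIrreducible.nonempty
          rw [Subsingleton.elim z w]; exact hw
        · intro hz
          obtain ⟨w, hw⟩ := a.isIrreducible.nonempty
          rw [Subsingleton.elim z w]; exact hw
      exact Order.krullDim_nonpos_of_subsingleton
    exact absurd hdim (not_lt.mpr this)
  have hdense : Dense (U : Set X) := U.2.dense hne
  have huniv : (U : Set X) = Set.univ := by
    rw [← hdense.closure_eq, hclosed.closure_eq]
  have : x ∈ (U : Set X) := by rw [huniv]; trivial
  exact this rfl

end Groth.Agent.S7644
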