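import Groth.Statements.S7652
import Groth.Agent.H4.TotFrac

set_option autoImplicit false
universe u
open CategoryTheory CategoryTheory.Limits AlgebraicGeometry
open Variety

namespace Groth.Agent.S7652

open scoped nonZeroDivisors

open Groth.Agent.H4.TotFrac

/-- For a reduced local Nagata ring (A, m) of Krull dimension one, write A' for the integral closure of
A in its total fraction ring. Then A' is a finite A-module, every localization of A' at a prime is
an integrally closed domain, and the quotient A'/A is an A-module of finite length. (The published
statement also says that A' is Nagata, which follows from the finiteness of A' over A; this row does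
not restate it.) -/
theorem result (A : Type u) [CommRing A] [IsLocalRing A]
    [IsReduced A] (hN : CAlg.IsNagata A) (hdim : ringKrullDim A = 1) :
    Module.Finite A (integralClosure A (FractionRing A)) ∧
      (∀ p : PrimeSpectrum (integralClosure A (FractionRing A)),
        IsDomain (Localization.AtPrime p.asIdeal) ∧ IsIntegrallyClosed (Localization.AtPrime p.asIdeal)) ∧
      Curv2.deltaInv A < ⊤ := by
  haveI : IsNoetherianRing A := hN.1
  haveI : Finite (MinP A) := (minimalPrimes.finite_of_isNoetherianRing A).to_subtype
  haveI : Ring.KrullDimLE 1 A := by
    rw [Ring.krullDimLE_iff, hdim]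
    exact le_rfl
  have hfin : ∀ p : MinP A, Module.Finite (A ⧸ p.1) (D p) := fun p =>
    hN.2 p.1 (FractionRing (A ⧸ p.1)) inferInstance
  haveI h1 : Module.Finite A (integralClosure A (FractionRing A)) := finite_of_components hfin
  have h3 : IsFiniteLength A (integralClosure A (FractionRing A) ⧸
      LinearMap.range (Algebra.linearMap A (integralClosure A (FractionRing A)))) := isFiniteLength_quot
  refine ⟨h1, fun P => locAtPrime_A' P.asIdeal, ?_⟩
  rw [lt_top_iff_ne_top]
  exact Module.length_ne_top_iff.mpr h3


end Groth.Agent.S7652
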