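import Groth.Statements.S7653
import Groth.Agent.H4.TotFrac2

set_option autoImplicit false
universe u
open CategoryTheory CategoryTheory.Limits AlgebraicGeometry
open Variety

namespace Groth.Agent.S7653

open scoped nonZeroDivisors

open Groth.Agent.H4.TotFrac

/-- For a reduced local Nagata ring A of Krull dimension one, the δ-invariant of A is zero exactly when
A is a DVR (in particular a domain). -/
theorem result (A : Type u) [CommRing A] [IsLocalRing A]
    [IsReduced A] (hN : CAlg.IsNagata A) (hdim : ringKrullDim A = 1) :
    Curv2.deltaInv A = 0 ↔ ∃ _ : IsDomain A, IsDiscreteValuationRing A := by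
  haveI : IsNoetherianRing A := hN.1
  haveI : Finite (MinP A) := (minimalPrimes.finite_of_isNoetherianRing A).to_subtype
  rw [deltaInv_eq_zero_iff]
  constructor
  · intro h
    haveI hdom : IsDomain A := isDomain_of_closed h
    refine ⟨hdom, ?_⟩
    haveI : IsIntegrallyClosed A := (isIntegrallyClosed_iff (FractionRing A)).mpr (fun {x} hx => h x hx)
    haveI : Ring.KrullDimLE 1 A := by
      rw [Ring.krullDimLE_iff, hdim]
      exact le_rfl
    haveI : Ring.DimensionLEOne A :=
      ⟨fun {p} hp hp' => (Ring.krullDimLE_one_iff_of_noZeroDivisors.mp inferInstance) p hp hp'⟩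
    have hnf : ¬ IsField A := by
      intro hf
      have := ringKrullDim_eq_zero_of_isField hf
      rw [hdim] at this
      exact one_ne_zero this
    haveI : IsDedekindDomain A := { }
    exact ((IsDiscreteValuationRing.TFAE A hnf).out 0 2).mpr ‹IsDedekindDomain A›
  · rintro ⟨hdom, hdvr⟩ x hx
    exact (isIntegrallyClosed_iff (FractionRing A)).mp inferInstance hx


end Groth.Agent.S7653
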