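import Groth.Statements.S7654
import Groth.Agent.Lib.Helper8.Delta.D10
import Groth.Agent.Lib.Helper8.Hens.Noeth
import Groth.Agent.Lib.Helper8.Hens.StrictTransfer
import Groth.Agent.Lib.Helper8.OneDim.Compl
-- import your own Groth.Agent.* helpers here

set_option autoImplicit false
universe u
open CategoryTheory CategoryTheory.Limits AlgebraicGeometry
open Variety

namespace Groth.Agent.S7654

/-- For a reduced local Nagata ring A of Krull dimension one, the δ-invariant does not change on passing
to a henselization of A, to a strict henselization of A, or to the completion of A. -/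
theorem result (A : Type u) [CommRing A] [IsLocalRing A]
    [IsReduced A] (hN : CAlg.IsNagata A) (hdim : ringKrullDim A = 1) :
    (∀ (B : Type u) [CommRing B] [IsLocalRing B] [Algebra A B] [IsLocalHom (algebraMap A B)],
        Hensel.IsHenselization A B → Curv2.deltaInv B = Curv2.deltaInv A) ∧
      (∀ (B : Type u) [CommRing B] [IsLocalRing B] [Algebra A B] [IsLocalHom (algebraMap A B)],
        Hensel.IsStrictHenselization A B → Curv2.deltaInv B = Curv2.deltaInv A) ∧
      Curv2.deltaInv (Curv2.cpl A) = Curv2.deltaInv A := by
  haveI : IsNoetherianRing A := hN.1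
  refine ⟨?_, ?_, ?_⟩
  · intro B _ _ _ _ hB
    haveI := hB
    haveI : Module.Flat A B := Groth.Agent.H8.Hens.flat_of_isHenselization (R := A) B
    haveI : IsNoetherianRing B :=
      (Groth.Agent.H8.Hens.isNoetherianRing_iff_of_isHenselization (R := A) B).1 inferInstance
    haveI : Algebra.IsSeparable (IsLocalRing.ResidueField A) (IsLocalRing.ResidueField B) :=
      Groth.Agent.H8.Hens.isSeparable_of_surjective_algebraMap
        (Groth.Agent.H8.Hens.residueField_map_bijective_of_isHenselization (R := A) B).2
    exact Groth.Agent.H8.Delta.deltaInv_eq_of_isNagata A B hN hdim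
      (Groth.Agent.H8.Hens.map_maximalIdeal_of_isHenselization (R := A) B)
  · intro B _ _ _ _ hB
    haveI := hB
    haveI : Module.Flat A B := Groth.Agent.H8.Hens.flat_of_isStrictHenselization (R := A) B
    haveI : IsNoetherianRing B :=
      (Groth.Agent.H8.Hens.isNoetherianRing_iff_of_isStrictHenselization (R := A) B).1 inferInstance
    haveI : Algebra.IsSeparable (IsLocalRing.ResidueField A) (IsLocalRing.ResidueField B) :=
      hB.isSepClosure.separable
    exact Groth.Agent.H8.Delta.deltaInv_eq_of_isNagata A B hN hdim
      (Groth.Agent.H8.Hens.map_maximalIdeal_of_isStrictHenselization (R := A) B)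
  · haveI : IsNoetherianRing (AdicCompletion (IsLocalRing.maximalIdeal A) A) :=
      Groth.Agent.H8.OneDim.isNoetherianRing_adicCompletion A
    haveI : Algebra.IsSeparable (IsLocalRing.ResidueField A)
        (IsLocalRing.ResidueField (AdicCompletion (IsLocalRing.maximalIdeal A) A)) :=
      Groth.Agent.H8.Hens.isSeparable_of_surjective_algebraMap
        (AdicCompletion.residueField_map_bijective (R := A)).2
    exact Groth.Agent.H8.Delta.deltaInv_eq_of_isNagata A
      (AdicCompletion (IsLocalRing.maximalIdeal A) A) hN hdim
      (AdicCompletion.maximalIdeal_eq_map (R := A)).symm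

end Groth.Agent.S7654
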