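import Groth.Statements.S7655
import Groth.Agent.H4.Brn4
import Groth.Agent.H4.Brn5

set_option autoImplicit false
universe u
open CategoryTheory CategoryTheory.Limits AlgebraicGeometry
open Variety

namespace Groth.Agent.S7655

open scoped nonZeroDivisors

open Groth.Agent.H4.TotFrac Groth.Agent.H4.Brn

/-- Let (A, m) be a reduced Nagata local ring of dimension one. Then the δ-invariant of A is at least
the number of geometric branches of A minus one. -/
theorem result (A : Type u) [CommRing A] [IsLocalRing A]
    [IsReduced A] (hN : CAlg.IsNagata A) (hdim : ringKrullDim A = 1) :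
    Brnch.numGeomBranches A ≤ Curv2.deltaInv A + 1 := by
  haveI : IsNoetherianRing A := hN.1
  have hfinmin := minimalPrimes.finite_of_isNoetherianRing A
  haveI : Finite (MinP A) := hfinmin.to_subtype
  have hfin : ∀ p : MinP A, Module.Finite (A ⧸ p.1) (D p) := fun p =>
    hN.2 p.1 (FractionRing (A ⧸ p.1)) inferInstance
  haveI h1 : Module.Finite A (integralClosure A (FractionRing A)) := finite_of_components hfin
  rw [numGeomBranches_eq_of_finite A hfinmin]
  have hinj : Function.Injective (Ideal.Quotient.mk (nilradical A)) := by
    rw [RingHom.injective_iff_ker_eq_bot, Ideal.mk_ker, nilradical_eq_zero, Ideal.zero_eq_bot]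
  let e0 : A ≃+* CAlg2.red A :=
    RingEquiv.ofBijective (Ideal.Quotient.mk (nilradical A)) ⟨hinj, Ideal.Quotient.mk_surjective⟩
  have he' : ∀ a : A, icEquiv e0 (algebraMap A (integralClosure A (FractionRing A)) a) = phi A a :=
    fun a => icEquiv_algebraMap e0 a
  let F : HomΩ A → {τ : integralClosure A (FractionRing A) →+*
      AlgebraicClosure (IsLocalRing.ResidueField A) //
      τ.comp (algebraMap A (integralClosure A (FractionRing A))) = Brnch.toClosure A} := fun τ =>
    ⟨τ.1.comp (icEquiv e0 : integralClosure A (FractionRing A) →+* CAlg2.normRed A), by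
      ext a
      rw [RingHom.comp_apply, RingHom.comp_apply, RingHom.coe_coe, he']
      exact congrFun (congrArg DFunLike.coe τ.2) a⟩
  have hF : Function.Injective F := by
    intro τ1 τ2 h
    apply Subtype.ext
    ext b
    have := congrFun (congrArg DFunLike.coe (congrArg Subtype.val h)) ((icEquiv e0).symm b)
    simpa [F] using this
  calc ENat.card (HomΩ A) ≤ _ := ENat.card_le_card_of_injective hF
    _ ≤ _ := card_hom_le _ (ker_toClosure A)
    _ ≤ _ := length_quot_map_le


end Groth.Agent.S7655
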