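import Groth.Statements.S7663
import Groth.Agent.Lib.Helper8.KrullAkizuki

set_option autoImplicit false
universe u
open CategoryTheory CategoryTheory.Limits AlgebraicGeometry
open Variety

namespace Groth.Agent.S7663

/-- Let K be a field and A, B ⊆ K subrings with fraction field K, with A Noetherian of dimension one.
Then A ⊗ B → K is not surjective (equivalently, the subring generated by A and B is not K) if and
only if some discrete valuation ring O ⊆ K with fraction field K contains both A and B. -/
theorem result (K : Type u) [Field K]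
    (A : Subring K) [IsFractionRing A K] (B : Subring K) [IsFractionRing B K] [IsNoetherianRing A] (hdim : ringKrullDim A = 1) :
    A ⊔ B ≠ ⊤ ↔ ∃ O : ValuationSubring K, IsDiscreteValuationRing O ∧ A ≤ O.toSubring ∧ B ≤ O.toSubring := by
  constructor
  · intro hne
    -- C = A ⊔ B is not a field
    let C : Subring K := A ⊔ B
    have hAC : A ≤ C := le_sup_left
    have hBC : B ≤ C := le_sup_right
    obtain ⟨c, hcC, hc0, hcinv⟩ : ∃ c : K, c ∈ C ∧ c ≠ 0 ∧ c⁻¹ ∉ C := by
      by_contra hcon
      push Not at hcon
      apply hne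
      rw [eq_top_iff]
      intro x _
      obtain ⟨a, b, hb, rfl⟩ := IsFractionRing.div_surjective (A := A) x
      have hb0 : ((algebraMap A K) b) ≠ 0 := by
        intro h
        have : b = 0 := IsFractionRing.injective A K (by rw [h, map_zero])
        exact nonZeroDivisors.ne_zero hb this
      rw [div_eq_mul_inv]
      exact C.mul_mem (hAC a.2) (hcon _ (hAC b.2) hb0)
    let cC : C := ⟨c, hcC⟩
    have hspan : Ideal.span {cC} ≠ ⊤ := by
      intro h
      rw [Ideal.span_singleton_eq_top] at h
      obtain ⟨d, hd⟩ := isUnit_iff_exists_inv.mp h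
      have : c * (d : K) = 1 := congrArg Subtype.val hd
      have hd' : (d : K) = c⁻¹ := eq_inv_of_mul_eq_one_right this
      exact hcinv (hd' ▸ d.2)
    obtain ⟨V, hCV, hnon⟩ := Ideal.image_subset_nonunits_valuationSubring _ hspan
    have hcV : c ∈ V.nonunits := hnon ⟨cC, Ideal.subset_span rfl, rfl⟩
    -- V is Noetherian by Krull–Akizuki
    haveI : Ring.KrullDimLE 1 A := by
      rw [Ring.krullDimLE_iff, hdim]; rfl
    let V' : Subalgebra A K :=
      { V.toSubring.toSubsemiring with algebraMap_mem' := fun a => hCV (hAC a.2) }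
    have hV' : IsNoetherianRing V' := Groth.Agent.H8.KA.isNoetherianRing_overring V'
    let e : V' ≃+* V :=
      { toFun := fun v => ⟨v.1, v.2⟩
        invFun := fun a => ⟨a.1, a.2⟩
        left_inv := fun _ => rfl
        right_inv := fun _ => rfl
        map_mul' := fun _ _ => rfl
        map_add' := fun _ _ => rfl }
    have hVn : IsNoetherianRing V := isNoetherianRing_of_ringEquiv V' e
    have hPID : IsPrincipalIdealRing V := ((IsBezout.TFAE (R := V)).out 0 1).1 hVn
    have hnf : IsLocalRing.maximalIdeal V ≠ ⊥ := by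
      intro h
      obtain ⟨hcmem, hc1⟩ := V.mem_nonunits_iff_exists_mem_maximalIdeal.mp hcV
      have hc2 : (⟨c, hcmem⟩ : V) = 0 := by
        have := h ▸ hc1
        exact (Submodule.mem_bot _).mp this
      exact hc0 (congrArg Subtype.val hc2)
    have hdvr : IsDiscreteValuationRing V :=
      { toIsPrincipalIdealRing := hPID, toIsLocalRing := inferInstance, not_a_field' := hnf }
    exact ⟨V, hdvr, hAC.trans hCV, hBC.trans hCV⟩
  · rintro ⟨O, hO, hA, hB⟩ h
    have hle : A ⊔ B ≤ O.toSubring := sup_le hA hB
    rw [h] at hle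
    haveI := hO
    obtain ⟨ϖ, hϖ⟩ := IsDiscreteValuationRing.exists_irreducible O
    apply hϖ.not_isUnit
    have hmem : (ϖ : K)⁻¹ ∈ O := hle (Subring.mem_top _)
    refine isUnit_iff_exists_inv.mpr ⟨⟨_, hmem⟩, ?_⟩
    apply Subtype.ext
    have h0 : (ϖ : K) ≠ 0 := fun h0 => hϖ.ne_zero (Subtype.ext h0)
    exact mul_inv_cancel₀ h0


end Groth.Agent.S7663
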