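import Groth.Statements.S7665
import Groth.Agent.H4.GlueDVR3

set_option autoImplicit false
universe u
open CategoryTheory CategoryTheory.Limits AlgebraicGeometry
open Variety

namespace Groth.Agent.S7665

open Groth.Agent.H4.GlueDVR3



/-- Let K be a field and A_1, …, A_r ⊆ K (r ≥ 1) Noetherian semi-local rings of dimension one with
fraction field K, and assume A_i and A_j generate K as a ring whenever i ≠ j. Then A = A_1 ∩ … ∩ A_r
is a Noetherian semi-local domain of dimension one with fraction field K contained in every A_i,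
each Spec A_i → Spec A is an open immersion, Spec A is the union of their images, and every closed
point of Spec A belongs to the image of exactly one Spec A_i. (The published statement asserts only
that some such subring A exists; this row takes A to be the intersection A_1 ∩ … ∩ A_r.) -/
theorem result (K : Type u) [Field K] (r : ℕ) (hr : 1 ≤ r)
    (A : Fin r → Subring K) [∀ i, IsNoetherianRing (A i)] [∀ i, IsFractionRing (A i) K]
    (hdim : ∀ i, ringKrullDim (A i) = 1) (hsl : ∀ i, Finite (MaximalSpectrum (A i)))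
    (hgen : ∀ i j, i ≠ j → A i ⊔ A j = ⊤) :
    IsNoetherianRing ↥(⨅ i, A i) ∧ ringKrullDim ↥(⨅ i, A i) = 1 ∧ Finite (MaximalSpectrum ↥(⨅ i, A i)) ∧
      IsFractionRing ↥(⨅ i, A i) K ∧
      (∀ i, IsOpenImmersion (Spec.map (CommRingCat.ofHom (Subring.inclusion (iInf_le A i))))) ∧
      (⋃ i, Set.range (Spec.map (CommRingCat.ofHom (Subring.inclusion (iInf_le A i)))).base) = Set.univ ∧
      (∀ m : PrimeSpectrum ↥(⨅ i, A i), m.asIdeal.IsMaximal →
        ∃! i, m ∈ Set.range (Spec.map (CommRingCat.ofHom (Subring.inclusion (iInf_le A i)))).base) := by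
  classical
  haveI := hsl
  have hr' : 0 < r := hr
  have hd : ∀ i, Ring.KrullDimLE 1 (A i) := fun i => by
    rw [Ring.krullDimLE_iff, hdim i]; rfl
  have hf : ∀ i, ¬ IsField (A i) := fun i hF => by
    have h0 := ringKrullDim_eq_zero_of_isField hF
    rw [hdim i] at h0
    exact one_ne_zero h0
  choose τ hτ using exists_tau r A hd hf hgen
  have hmem : ∀ i j, τ i ∈ A j := fun i j => by
    by_cases hj : j = i
    · subst hj; exact (hτ j).1
    · exact ((hτ i).2.2.2 j hj).choose
  have h : FamData r A τ :=
    { mem := hmem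
      inv := fun i => (hτ i).2.1
      ne := fun i => (hτ i).2.2.1
      jac := fun i j hj n hn => ((hτ i).2.2.2 j hj).choose_spec n hn }
  have hcover : ∀ q : PrimeSpectrum ↥(⨅ i, A i),
      ∃ i, q ∈ Set.range (Spec.map (CommRingCat.ofHom (Subring.inclusion (iInf_le A i)))).base := by
    intro q
    obtain ⟨i, hi⟩ := h.exists_notMem hr' q.asIdeal q.isPrime.ne_top
    refine ⟨i, ?_⟩
    rw [(h.isOpenImmersion hd i).2]
    exact hi
  refine ⟨h.isNoetherianRing hd hr', h.ringKrullDim_eq hd hr' hf,
    h.finite_maximalSpectrum hd hr' hf, h.isFractionRing hd hr',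
    fun i => (h.isOpenImmersion hd i).1, ?_, ?_⟩
  · apply Set.eq_univ_of_forall
    intro q
    obtain ⟨i, hi⟩ := hcover q
    exact Set.mem_iUnion.mpr ⟨i, hi⟩
  · intro m hm
    obtain ⟨i, hi⟩ := hcover m
    refine ⟨i, hi, fun j hj => ?_⟩
    rw [(h.isOpenImmersion hd i).2] at hi
    rw [(h.isOpenImmersion hd j).2] at hj
    exact h.unique_index hd hr' hf hgen m.asIdeal hm j i hj hi


end Groth.Agent.S7665
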