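import Groth.Statements.S7667
-- import your own Groth.Agent.* helpers here

set_option autoImplicit false
universe u
open CategoryTheory CategoryTheory.Limits AlgebraicGeometry
open Variety

namespace Groth.Agent.S7667

open CategoryTheory AlgebraicGeometry


variable (A : Type u) [CommRing A]

abbrev MinP := {p : PrimeSpectrum A // p.asIdeal ∈ minimalPrimes A}
abbrev LL := ∀ p : MinP A, Localization.AtPrime p.1.asIdeal

theorem isNilpotent_algebraMap_of_mem (q : MinP A) (t : A) (ht : t ∈ q.1.asIdeal) :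
    IsNilpotent (algebraMap A (Localization.AtPrime q.1.asIdeal) t) := by
  have h := IsLocalization.AtPrime.radical_map_of_mem_minimalPrimes
    (Localization.AtPrime q.1.asIdeal) q.1.asIdeal ⊥ q.2
  rw [Ideal.map_bot] at h
  have : algebraMap A (Localization.AtPrime q.1.asIdeal) t ∈
      q.1.asIdeal.map (algebraMap A (Localization.AtPrime q.1.asIdeal)) := Ideal.mem_map_of_mem _ ht
  rw [← h] at this
  exact this

variable [IsNoetherianRing A]

instance : Finite (MinP A) := by
  have h := minimalPrimes.finite_of_isNoetherianRing A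
  have hinj : Function.Injective (fun p : MinP A => (⟨p.1.asIdeal, p.2⟩ : minimalPrimes A)) := by
    intro p q hpq
    apply Subtype.ext
    apply PrimeSpectrum.ext
    exact congrArg Subtype.val hpq
  have := h.to_subtype
  exact Finite.of_injective _ hinj

/-- Step A -/
theorem exists_notMem_mul_mem_range (p₀ : MinP A) (ℓ : LL A) :
    ∃ s : A, s ∉ p₀.1.asIdeal ∧ algebraMap A (LL A) s * ℓ ∈ (algebraMap A (LL A)).range := by
  classical
  have := Fintype.ofFinite (MinP A)
  obtain ⟨x, s₀, hxs⟩ := IsLocalization.exists_mk'_eq p₀.1.asIdeal.primeCompl (ℓ p₀)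
  -- t in all other minimal primes, not in p₀
  have ht : ∃ t : A, (∀ q : MinP A, q ≠ p₀ → t ∈ q.1.asIdeal) ∧ t ∉ p₀.1.asIdeal := by
    by_contra hcon
    push Not at hcon
    have hle : (Finset.univ.filter (fun q : MinP A => q ≠ p₀)).inf (fun q => q.1.asIdeal) ≤
        p₀.1.asIdeal := by
      intro t ht
      apply hcon t
      intro q hq
      have hmem : q ∈ Finset.univ.filter (fun q : MinP A => q ≠ p₀) := by simp [hq]
      have := Finset.inf_le (f := fun q : MinP A => q.1.asIdeal) hmem
      exact this ht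
    rw [Ideal.IsPrime.inf_le' p₀.1.2] at hle
    obtain ⟨q, hq, hqle⟩ := hle
    rw [Finset.mem_filter] at hq
    apply hq.2
    apply Subtype.ext
    apply PrimeSpectrum.ext
    exact le_antisymm hqle (p₀.2.2 ⟨q.1.2, bot_le⟩ hqle)
  obtain ⟨t, ht1, ht2⟩ := ht
  have hnil : ∀ q : MinP A, q ≠ p₀ → ∃ N : ℕ, algebraMap A (Localization.AtPrime q.1.asIdeal) t ^ N = 0 :=
    fun q hq => isNilpotent_algebraMap_of_mem A q t (ht1 q hq)
  -- a uniform exponent
  have hN : ∃ N : ℕ, ∀ q : MinP A, q ≠ p₀ → algebraMap A (Localization.AtPrime q.1.asIdeal) t ^ N = 0 := by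
    choose! Nq hNq using hnil
    refine ⟨Finset.univ.sup Nq, fun q hq => ?_⟩
    have hle : Nq q ≤ Finset.univ.sup Nq := Finset.le_sup (Finset.mem_univ q)
    exact pow_eq_zero_of_le hle (hNq q hq)
  obtain ⟨N, hN⟩ := hN
  refine ⟨t ^ N * s₀, ?_, ⟨t ^ N * x, ?_⟩⟩
  · intro h
    rcases p₀.1.2.mem_or_mem h with h1 | h1
    · exact ht2 (p₀.1.2.mem_of_pow_mem N h1)
    · exact s₀.2 h1
  · funext q
    change algebraMap A (Localization.AtPrime q.1.asIdeal) (t ^ N * x) =
      algebraMap A (Localization.AtPrime q.1.asIdeal) (t ^ N * s₀) * ℓ q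
    by_cases hq : q = p₀
    · subst hq
      rw [map_mul, map_mul, ← hxs, mul_assoc, mul_comm (algebraMap A _ (s₀ : A)),
        IsLocalization.mk'_spec]
    · rw [map_mul, map_mul, map_pow, hN q hq, zero_mul, zero_mul, zero_mul]

variable [IsLocalRing A]

theorem prime_eq_maximal_of_lt (hdim : ringKrullDim A = 1) (p P : PrimeSpectrum A) (hlt : p < P) :
    P = IsLocalRing.closedPoint A := by
  have hle : P ≤ IsLocalRing.closedPoint A :=
    (PrimeSpectrum.asIdeal_le_asIdeal _ _).mp (IsLocalRing.le_maximalIdeal P.2.ne_top)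
  by_contra hne
  have hlt2 : P < IsLocalRing.closedPoint A := lt_of_le_of_ne hle hne
  have h1 := Order.height_add_one_le hlt
  have h2 := Order.height_add_one_le hlt2
  have h3 : (Order.height (IsLocalRing.closedPoint A) : WithBot ℕ∞) ≤ ringKrullDim A :=
    Order.height_le_krullDim _
  rw [hdim] at h3
  have h4 : (2 : ℕ∞) ≤ Order.height (IsLocalRing.closedPoint A) := by
    calc (2 : ℕ∞) = 0 + 1 + 1 := by norm_num
      _ ≤ Order.height p + 1 + 1 := by gcongr; exact zero_le
      _ ≤ Order.height P + 1 := by gcongr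
      _ ≤ _ := h2
  have h5 : ((2 : ℕ∞) : WithBot ℕ∞) ≤ 1 := (WithBot.coe_le_coe.mpr h4).trans h3
  have h6 : (2 : ℕ∞) ≤ 1 := by exact_mod_cast h5
  exact absurd h6 (by norm_num)

/-- Step B -/
theorem exists_pow_mul_mem_range (hdim : ringKrullDim A = 1) (a : A)
    (ha : a ∈ IsLocalRing.maximalIdeal A) (ℓ : LL A) :
    ∃ N : ℕ, algebraMap A (LL A) (a ^ N) * ℓ ∈ (algebraMap A (LL A)).range := by
  let J : Ideal A :=
    { carrier := {s | algebraMap A (LL A) s * ℓ ∈ (algebraMap A (LL A)).range}
      zero_mem' := by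
        change algebraMap A (LL A) 0 * ℓ ∈ (algebraMap A (LL A)).range
        rw [map_zero, zero_mul]; exact zero_mem _
      add_mem' := by
        intro s s' hs hs'
        change algebraMap A (LL A) (s + s') * ℓ ∈ (algebraMap A (LL A)).range
        rw [map_add, add_mul]
        exact add_mem hs hs'
      smul_mem' := by
        intro r s hs
        change algebraMap A (LL A) (r • s) * ℓ ∈ (algebraMap A (LL A)).range
        rw [smul_eq_mul, map_mul, mul_assoc]
        exact mul_mem ⟨r, rfl⟩ hs }
  have hrad : a ∈ J.radical := by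
    rw [Ideal.radical_eq_sInf, Ideal.mem_sInf]
    rintro P ⟨hJP, hP⟩
    obtain ⟨p, hp, hpP⟩ := Ideal.exists_minimalPrimes_le (bot_le : (⊥ : Ideal A) ≤ P)
    have hpprime : p.IsPrime := hp.1.1
    obtain ⟨s, hs1, hs2⟩ := exists_notMem_mul_mem_range A ⟨⟨p, hpprime⟩, hp⟩ ℓ
    have hsP : s ∈ P := hJP hs2
    have hlt : (⟨p, hpprime⟩ : PrimeSpectrum A) < ⟨P, hP⟩ := by
      refine lt_of_le_of_ne ((PrimeSpectrum.asIdeal_le_asIdeal _ _).mp hpP) ?_
      intro h
      apply hs1
      have : p = P := congrArg PrimeSpectrum.asIdeal h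
      change s ∈ p
      rw [this]; exact hsP
    have := prime_eq_maximal_of_lt A hdim _ _ hlt
    have h2 : P = IsLocalRing.maximalIdeal A := congrArg PrimeSpectrum.asIdeal this
    rw [h2]; exact ha
  obtain ⟨N, hN⟩ := hrad
  exact ⟨N, hN⟩

/-- Let A be a one-dimensional Noetherian local ring, L the product of the localizations A_p over its
minimal primes p, and I the intersection of those primes (the nilradical of A). If f ∈ L equals i +
a with a in the maximal ideal of A and i ∈ I·L, then for some positive integer n, f^n belongs to the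
subring of L obtained as the image of the structure map from A. -/
theorem result (A : Type u) [CommRing A]
    [IsLocalRing A] [IsNoetherianRing A] (hdim : ringKrullDim A = 1)
    (a : A) (ha : a ∈ IsLocalRing.maximalIdeal A)
    (i : ∀ p : {p : PrimeSpectrum A // p.asIdeal ∈ minimalPrimes A}, Localization.AtPrime p.1.asIdeal)
    (hi : i ∈ (nilradical A).map (algebraMap A (∀ p : {p : PrimeSpectrum A // p.asIdeal ∈ minimalPrimes A}, Localization.AtPrime p.1.asIdeal))) :
    ∃ n : ℕ, 0 < n ∧ (i + algebraMap A (∀ p : {p : PrimeSpectrum A // p.asIdeal ∈ minimalPrimes A}, Localization.AtPrime p.1.asIdeal) a) ^ n ∈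
      (algebraMap A (∀ p : {p : PrimeSpectrum A // p.asIdeal ∈ minimalPrimes A}, Localization.AtPrime p.1.asIdeal)).range := by
  change ∃ n : ℕ, 0 < n ∧ (i + algebraMap A (LL A) a) ^ n ∈ (algebraMap A (LL A)).range
  have hnil : IsNilpotent i := by
    have hle : (nilradical A).map (algebraMap A (LL A)) ≤ nilradical (LL A) := by
      rw [Ideal.map_le_iff_le_comap]
      intro x hx
      exact (mem_nilradical.mp hx).map (algebraMap A (LL A))
    exact mem_nilradical.mp (hle hi)
  obtain ⟨t, ht⟩ := hnil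
  have hB := fun j : ℕ => exists_pow_mul_mem_range A hdim a ha (i ^ j)
  choose Nj hNj using hB
  set N := (Finset.range t).sup Nj with hNdef
  refine ⟨N + t + 1, Nat.succ_pos _, ?_⟩
  rw [add_pow]
  refine Subring.sum_mem _ fun m hm => ?_
  rw [Finset.mem_range] at hm
  by_cases hmt : t ≤ m
  · rw [pow_eq_zero_of_le hmt ht, zero_mul, zero_mul]
    exact zero_mem _
  · push Not at hmt
    have hNm : Nj m ≤ N := Finset.le_sup (f := Nj) (Finset.mem_range.mpr hmt)
    have hsplit : N + t + 1 - m = (N + t + 1 - m - Nj m) + Nj m := by omega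
    rw [hsplit, pow_add, ← map_pow, ← map_pow]
    have h1 : i ^ m * (algebraMap A (LL A) (a ^ (N + t + 1 - m - Nj m)) * algebraMap A (LL A) (a ^ Nj m)) =
        algebraMap A (LL A) (a ^ (N + t + 1 - m - Nj m)) * (algebraMap A (LL A) (a ^ Nj m) * i ^ m) := by
      ring
    rw [h1]
    exact mul_mem (mul_mem ⟨_, rfl⟩ (hNj m)) (natCast_mem _ _)


end Groth.Agent.S7667
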