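import Groth.Statements.S7687
import Groth.Agent.H4.GlueDVR2

set_option autoImplicit false
universe u
open CategoryTheory CategoryTheory.Limits AlgebraicGeometry
open Variety

namespace Groth.Agent.S7687

open Groth.Agent.H4.GlueDVR Groth.Agent.H4.GlueDVR2



/-- Let K be a field and A, B ⊆ K Noetherian semi-local domains of dimension one with fraction field K
such that A ⊗ B → K is surjective, and R = A ∩ B. Then Spec A and Spec B each map to Spec R by an
open immersion, Spec R is the union of the two images, and the natural map A ⊗_R B → K is an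
isomorphism. -/
theorem result (K : Type u) [Field K]
    (A : Subring K) [IsFractionRing A K] (B : Subring K) [IsFractionRing B K] [IsNoetherianRing A] [IsNoetherianRing B]
    (hdimA : ringKrullDim A = 1) (hdimB : ringKrullDim B = 1)
    (hslA : Finite (MaximalSpectrum A)) (hslB : Finite (MaximalSpectrum B)) (hgen : A ⊔ B = ⊤) :
    IsOpenImmersion (Spec.map (CommRingCat.ofHom (Subring.inclusion (inf_le_left : A ⊓ B ≤ A)))) ∧
      IsOpenImmersion (Spec.map (CommRingCat.ofHom (Subring.inclusion (inf_le_right : A ⊓ B ≤ B)))) ∧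
      Set.range (Spec.map (CommRingCat.ofHom (Subring.inclusion (inf_le_left : A ⊓ B ≤ A)))).base ∪
        Set.range (Spec.map (CommRingCat.ofHom (Subring.inclusion (inf_le_right : A ⊓ B ≤ B)))).base = Set.univ ∧
      IsPushout (CommRingCat.ofHom (Subring.inclusion (inf_le_left : A ⊓ B ≤ A)))
        (CommRingCat.ofHom (Subring.inclusion (inf_le_right : A ⊓ B ≤ B)))
        (CommRingCat.ofHom A.subtype) (CommRingCat.ofHom B.subtype) := by
  have hdA : Ring.KrullDimLE 1 A := by rw [Ring.krullDimLE_iff, hdimA]; rfl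
  have hdB : Ring.KrullDimLE 1 B := by rw [Ring.krullDimLE_iff, hdimB]; rfl
  have hAf : ¬ IsField A := by
    intro hf
    have := ringKrullDim_eq_zero_of_isField hf
    rw [hdimA] at this
    exact one_ne_zero this
  have hBf : ¬ IsField B := by
    intro hf
    have := ringKrullDim_eq_zero_of_isField hf
    rw [hdimB] at this
    exact one_ne_zero this
  obtain ⟨t, htA, htinvA, ht0, htJ⟩ := exists_unit_jacobson A B hdA hdB hAf hBf hgen
  obtain ⟨s, hsB, hsinvB, hs0, hsJ⟩ := exists_unit_jacobson B A hdB hdA hBf hAf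
    (by rw [sup_comm]; exact hgen)
  have ht0' : (t : K) ≠ 0 := fun h => ht0 (Subtype.ext h)
  have hs0' : (s : K) ≠ 0 := fun h => hs0 (Subtype.ext h)
  -- t + s is a unit on both sides
  have huA : IsUnit ((⟨(t : K), htA⟩ : A) + s) := by
    apply isUnit_add_of_jacobson _ _ _ hsJ
    exact isUnit_iff_exists_inv.mpr ⟨⟨_, htinvA⟩, Subtype.ext (mul_inv_cancel₀ ht0')⟩
  have huB : IsUnit (t + (⟨(s : K), hsB⟩ : B)) := by
    rw [add_comm]
    apply isUnit_add_of_jacobson _ _ _ htJ
    exact isUnit_iff_exists_inv.mpr ⟨⟨_, hsinvB⟩, Subtype.ext (mul_inv_cancel₀ hs0')⟩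
  have hts0 : (t : K) + (s : K) ≠ 0 := by
    intro h0
    have : (⟨(t : K), htA⟩ : A) + s = 0 := Subtype.ext h0
    rw [this] at huA
    exact not_isUnit_zero huA
  refine assembly K A B (t : K) (s : K) htA t.2 s.2 hsB htinvA hsinvB
    (inv_mem_of_isUnit K _ huA) (inv_mem_of_isUnit K _ huB) ht0' hs0' hts0 ?_ ?_
  · intro x
    obtain ⟨n, b, hb⟩ := exists_pow_mul_mem K B hdB t htJ x
    exact ⟨n, hb ▸ b.2⟩
  · intro x
    obtain ⟨n, a, ha⟩ := exists_pow_mul_mem K A hdA s hsJ x
    exact ⟨n, ha ▸ a.2⟩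


end Groth.Agent.S7687
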