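import Groth.Statements.S8256
import Groth.Agent.Lib.Helper6.QCPush
import Groth.Agent.Lib.Helper6.Canon2

set_option autoImplicit false
universe u
open CategoryTheory CategoryTheory.Limits AlgebraicGeometry Opposite TopologicalSpace
open EGA2

namespace Groth.Agent.S8256

/-- Let Y be affine over S (g : Y → S affine) and X, X' affine over Y (f, f' affine), and let Z = X ×_Y
X' with projections p : Z → X, p' : Z → X'. Then Z is affine over Y and over S, and its direct-image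
algebra on S is the tensor product: the square of quasi-coherent O_S-algebras A(Y) → A(X), A(Y) →
A(X'), A(X) → A(Z), A(X') → A(Z), whose maps are induced by f, f', p, p', is a pushout square in the
category of quasi-coherent O_S-algebras. -/
theorem result {X X' Y Z S : Scheme.{u}} (g : Y ⟶ S) [IsAffineHom g]
    (f : X ⟶ Y) [IsAffineHom f] (f' : X' ⟶ Y) [IsAffineHom f'] (p : Z ⟶ X) (p' : Z ⟶ X') [IsAffineHom p]
    (hZ : IsPullback p p' f f') :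
    IsPushout
      (C := RelSpec.QCAlg S)
      (⟨AffAlg.algHom g (f ≫ g) f rfl, AffAlg.algHom_comm g (f ≫ g) f rfl⟩ :
        RelSpec.QCAlg.directImage g ⟶ RelSpec.QCAlg.directImage (f ≫ g))
      (⟨AffAlg.algHom g (f' ≫ g) f' rfl, AffAlg.algHom_comm g (f' ≫ g) f' rfl⟩ :
        RelSpec.QCAlg.directImage g ⟶ RelSpec.QCAlg.directImage (f' ≫ g))
      (⟨AffAlg.algHom (f ≫ g) (p ≫ f ≫ g) p rfl, AffAlg.algHom_comm (f ≫ g) (p ≫ f ≫ g) p rfl⟩ :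
        RelSpec.QCAlg.directImage (f ≫ g) ⟶ RelSpec.QCAlg.directImage (p ≫ f ≫ g))
      (⟨AffAlg.algHom (f' ≫ g) (p ≫ f ≫ g) p'
          ((Category.assoc p' f' g).symm.trans ((congrArg (· ≫ g) hZ.w.symm).trans (Category.assoc p f g))),
        AffAlg.algHom_comm (f' ≫ g) (p ≫ f ≫ g) p'
          ((Category.assoc p' f' g).symm.trans ((congrArg (· ≫ g) hZ.w.symm).trans (Category.assoc p f g)))⟩ :
        RelSpec.QCAlg.directImage (f' ≫ g) ⟶ RelSpec.QCAlg.directImage (p ≫ f ≫ g)) := by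
  refine Groth.Agent.H6.QCPush.isPushout_of_forall_affine _ _ _ _ fun U hU => ?_
  have hUS : IsAffineOpen (g ⁻¹ᵁ U) := hU.preimage g
  have hUX : IsAffineOpen (f ⁻¹ᵁ (g ⁻¹ᵁ U)) := hUS.preimage f
  have hUT : IsAffineOpen (f' ⁻¹ᵁ (g ⁻¹ᵁ U)) := hUS.preimage f'
  have hUY : (p ≫ f ≫ g) ⁻¹ᵁ U = p ⁻¹ᵁ (f ⁻¹ᵁ (g ⁻¹ᵁ U)) ⊓ p' ⁻¹ᵁ (f' ⁻¹ᵁ (g ⁻¹ᵁ U)) := by
    have h1 : p' ⁻¹ᵁ (f' ⁻¹ᵁ (g ⁻¹ᵁ U)) = p ⁻¹ᵁ (f ⁻¹ᵁ (g ⁻¹ᵁ U)) := by
      change (p' ≫ f') ⁻¹ᵁ (g ⁻¹ᵁ U) = (p ≫ f) ⁻¹ᵁ (g ⁻¹ᵁ U)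
      rw [hZ.w]
    rw [h1, inf_idem]
    rfl
  have key := (AlgebraicGeometry.isIso_pushoutSection_iff hZ (US := g ⁻¹ᵁ U)
    (UT := f' ⁻¹ᵁ (g ⁻¹ᵁ U)) (UX := f ⁻¹ᵁ (g ⁻¹ᵁ U)) le_rfl le_rfl hUY).mp
    (AlgebraicGeometry.isIso_pushoutSection_of_isAffineOpen hZ le_rfl le_rfl hUY hUS hUT hUX)
  have hw : p' ≫ f' ≫ g = p ≫ f ≫ g := by rw [← Category.assoc, ← hZ.w, Category.assoc]
  change IsPushout ((AffAlg.algHom g (f ≫ g) f rfl).app (op U))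
    ((AffAlg.algHom g (f' ≫ g) f' rfl).app (op U))
    ((AffAlg.algHom (f ≫ g) (p ≫ f ≫ g) p rfl).app (op U))
    ((AffAlg.algHom (f' ≫ g) (p ≫ f ≫ g) p' hw).app (op U))
  rw [Groth.Agent.H6.Canon.algHom_app, Groth.Agent.H6.Canon.algHom_app,
    Groth.Agent.H6.Canon.algHom_app, Groth.Agent.H6.Canon.algHom_app]
  exact key

end Groth.Agent.S8256
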