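import Groth.Statements.S8266
import Mathlib.AlgebraicGeometry.ProjectiveSpectrum.Proper

set_option autoImplicit false
universe u
open CategoryTheory CategoryTheory.Limits AlgebraicGeometry Opposite TopologicalSpace
open scoped HomogeneousIdeal
open EGA2

namespace Groth.Agent.S8266

open CategoryTheory CategoryTheory.Limits AlgebraicGeometry TopologicalSpace Opposite


theorem away_isReduced {A : Type u} [CommRing A] (𝒜 : ℕ → AddSubgroup A) [GradedRing 𝒜]
    (hred : ∀ x ∈ 𝒜₊, IsNilpotent x → x = 0) {d : ℕ} (hd : 0 < d) {f : A} (hf : f ∈ 𝒜 d) :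
    _root_.IsReduced (HomogeneousLocalization.Away 𝒜 f) := by
  constructor
  rintro x ⟨k, hk⟩
  obtain ⟨n, a, ha, rfl⟩ := HomogeneousLocalization.Away.mk_surjective 𝒜 hf x
  apply HomogeneousLocalization.val_injective
  rw [HomogeneousLocalization.val_zero, HomogeneousLocalization.Away.val_mk]
  have h1 := congrArg HomogeneousLocalization.val hk
  rw [HomogeneousLocalization.val_pow, HomogeneousLocalization.val_zero,
    HomogeneousLocalization.Away.val_mk, Localization.mk_pow, Localization.mk_eq_mk'_apply,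
    IsLocalization.mk'_eq_zero_iff] at h1
  obtain ⟨⟨m, j, rfl⟩, hm⟩ := h1
  simp only at hm
  have hnil : IsNilpotent (f * a) := by
    refine ⟨j + k, ?_⟩
    rw [mul_pow, pow_add, pow_add]
    calc f ^ j * f ^ k * (a ^ j * a ^ k) = (f ^ j * a ^ k) * (f ^ k * a ^ j) := by ring
      _ = 0 := by rw [hm, zero_mul]
  have hmem : f * a ∈ 𝒜₊ := by
    have h2 : f * a ∈ 𝒜 (d + n • d) := SetLike.mul_mem_graded hf ha
    exact HomogeneousIdeal.mem_irrelevant_of_mem _ (by positivity) h2
  have h0 := hred _ hmem hnil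
  rw [Localization.mk_eq_mk'_apply, IsLocalization.mk'_eq_zero_iff]
  exact ⟨⟨f, 1, pow_one f⟩, h0⟩

theorem proj_isReduced {A : Type u} [CommRing A] (𝒜 : ℕ → AddSubgroup A) [GradedRing 𝒜]
    (hred : ∀ x ∈ 𝒜₊, IsNilpotent x → x = 0) : IsReduced (Proj 𝒜) := by
  have : ∀ i, IsReduced ((Proj.affineOpenCover 𝒜).openCover.X i) := by
    intro i
    have : _root_.IsReduced (HomogeneousLocalization.Away 𝒜 i.2.1) :=
      away_isReduced 𝒜 hred i.1.2 i.2.2
    change IsReduced (Spec (.of (HomogeneousLocalization.Away 𝒜 i.2.1)))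
    infer_instance
  exact IsReduced.of_openCover _ (Proj.affineOpenCover 𝒜).openCover

/-- If the quasi-coherent positively graded O_Y-algebra 𝒮 is essentially reduced (affine-locally, no
nonzero nilpotent element in the irrelevant ideal), then Proj(𝒮) is reduced. -/
theorem result {Y P : Scheme.{u}} (𝒮 : RelProj.QCGrAlg Y)
    (hred : ∀ (U : Y.Opens) (hU : IsAffineOpen U) (x : 𝒮.presheaf.obj (op U)),
      x ∈ (𝒮.deg U hU)₊ → IsNilpotent x → x = 0)
    (p : P ⟶ Y)
    (chart : ∀ (U : Y.Opens) (hU : IsAffineOpen U), (((p ⁻¹ᵁ U : P.Opens) : Scheme.{u}) ≅ Proj (𝒮.deg U hU)))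
    (hP : RelProj.IsRelProj 𝒮 p chart) : IsReduced P := by
  have key : ∀ (U : Y.Opens) (hU : IsAffineOpen U),
      AlgebraicGeometry.IsReduced ((p ⁻¹ᵁ U : P.Opens) : Scheme.{u}) := by
    intro U hU
    have : AlgebraicGeometry.IsReduced (Proj (𝒮.deg U hU)) := proj_isReduced _ (hred U hU)
    exact isReduced_of_isOpenImmersion (chart U hU).hom
  have hcov : IsOpenCover (fun U : Y.affineOpens => p ⁻¹ᵁ U.1) := by
    rw [IsOpenCover, ← Scheme.Hom.preimage_iSup, iSup_affineOpens_eq_top]
    rfl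
  have : ∀ i, AlgebraicGeometry.IsReduced ((P.openCoverOfIsOpenCover _ hcov).X i) := by
    rintro ⟨U, hU⟩
    exact key U hU
  exact IsReduced.of_openCover _ (P.openCoverOfIsOpenCover _ hcov)


end Groth.Agent.S8266
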