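import Groth.Statements.S8264
import Groth.Agent.H4.RelProjLib
import Groth.Agent.S8266

set_option autoImplicit false
universe u
open CategoryTheory CategoryTheory.Limits AlgebraicGeometry Opposite TopologicalSpace
open scoped HomogeneousIdeal
open EGA2

namespace Groth.Agent.S8264

open CategoryTheory CategoryTheory.Limits AlgebraicGeometry TopologicalSpace Opposite
open Groth.Agent.H4 Groth.Agent.H4.RelProjLib


theorem proj_irreducible {A : Type u} [CommRing A] [IsDomain A] (𝒜 : ℕ → AddSubgroup A) [GradedRing 𝒜]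
    (h : (𝒜₊).toIdeal ≠ ⊥) : IrreducibleSpace (Proj 𝒜) := by
  let η : ProjectiveSpectrum 𝒜 :=
    ⟨⊥, by rw [HomogeneousIdeal.toIdeal_bot]; exact Ideal.isPrime_bot, fun hle => h (by
      rw [← le_bot_iff, ← HomogeneousIdeal.toIdeal_bot (𝒜 := 𝒜)]
      exact toIdeal_le_toIdeal_iff.mpr hle)⟩
  have hcl : closure ({η} : Set (ProjectiveSpectrum 𝒜)) = Set.univ := by
    rw [Set.eq_univ_iff_forall]
    intro y
    rw [← ProjectiveSpectrum.le_iff_mem_closure]
    change (⊥ : HomogeneousIdeal 𝒜) ≤ _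
    exact bot_le
  have : IsIrreducible (Set.univ : Set (ProjectiveSpectrum 𝒜)) := by
    rw [← hcl]
    exact isIrreducible_singleton.closure
  change IrreducibleSpace (ProjectiveSpectrum 𝒜)
  exact (irreducibleSpace_def _).mpr this

/-- Let Y be an integral scheme and 𝒮 a quasi-coherent positively graded O_Y-algebra with 𝒮_0 = O_Y
which is integral, stated here affine-locally: over every nonempty affine open U the ring 𝒮(U) is an
integral domain whose irrelevant ideal is nonzero (for Y integral this is equivalent to the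
stalkwise condition of the published text: every stalk 𝒮_y an integral domain with (𝒮_y)_+ ≠ 0).
Then Proj(𝒮) is integral and its structure morphism to Y is dominant. -/
theorem result {Y P : Scheme.{u}} [IsIntegral Y] (𝒮 : RelProj.QCGrAlg Y)
    (h0 : ∀ (U : Y.Opens) (hU : IsAffineOpen U), Function.Bijective (𝒮.strZero U hU).hom)
    (hint : ∀ (U : Y.Opens) (hU : IsAffineOpen U), (U : Set Y).Nonempty →
      IsDomain (𝒮.presheaf.obj (op U)) ∧ ((𝒮.deg U hU)₊).toIdeal ≠ ⊥)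
    (p : P ⟶ Y)
    (chart : ∀ (U : Y.Opens) (hU : IsAffineOpen U), (((p ⁻¹ᵁ U : P.Opens) : Scheme.{u}) ≅ Proj (𝒮.deg U hU)))
    (hP : RelProj.IsRelProj 𝒮 p chart) : IsIntegral P ∧ DenseRange p.base := by
  -- the preimage of a nonempty affine open is irreducible
  have hirr : ∀ (U : Y.Opens) (hU : IsAffineOpen U), (U : Set Y).Nonempty →
      IsIrreducible ((p ⁻¹ᵁ U : P.Opens) : Set P) := by
    intro U hU hne
    obtain ⟨hdom, hne0⟩ := hint U hU hne
    have h1 : IrreducibleSpace (Proj (𝒮.deg U hU)) := proj_irreducible _ hne0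
    have h2 : IsIrreducible (Set.univ : Set (Proj (𝒮.deg U hU))) := (irreducibleSpace_def _).mp h1
    have h3 := h2.image ((chart U hU).inv ≫ (p ⁻¹ᵁ U).ι)
      ((chart U hU).inv ≫ (p ⁻¹ᵁ U).ι).continuous.continuousOn
    rw [Set.image_univ, Scheme.Hom.comp_base, TopCat.coe_comp, Set.range_comp,
      Set.range_eq_univ.mpr (chart U hU).inv.surjective, Set.image_univ, Scheme.Opens.range_ι] at h3
    exact h3
  -- reducedness
  have hredu : IsReduced P := by
    have hcov : IsOpenCover (fun U : {U : Y.affineOpens // (U.1.1 : Set Y).Nonempty} => p ⁻¹ᵁ U.1.1) := by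
      rw [IsOpenCover, eq_top_iff]
      intro x _
      obtain ⟨U, hU, hxU⟩ : ∃ (U : Y.Opens), IsAffineOpen U ∧ p x ∈ U := by
        have : p x ∈ (⊤ : Y.Opens) := trivial
        rw [← iSup_affineOpens_eq_top Y, TopologicalSpace.Opens.mem_iSup] at this
        obtain ⟨U, hU⟩ := this
        exact ⟨U.1, U.2, hU⟩
      rw [Opens.mem_iSup]
      exact ⟨⟨⟨U, hU⟩, ⟨p x, hxU⟩⟩, hxU⟩
    have key : ∀ (U : Y.Opens) (hU : IsAffineOpen U), (U : Set Y).Nonempty →
        AlgebraicGeometry.IsReduced ((p ⁻¹ᵁ U : P.Opens) : Scheme.{u}) := by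
      intro U hU hne
      obtain ⟨hdom, hne0⟩ := hint U hU hne
      have : AlgebraicGeometry.IsReduced (Proj (𝒮.deg U hU)) :=
        Groth.Agent.S8266.proj_isReduced _ (fun x _ hx => hx.eq_zero)
      exact isReduced_of_isOpenImmersion (chart U hU).hom
    have : ∀ i, AlgebraicGeometry.IsReduced ((P.openCoverOfIsOpenCover _ hcov).X i) := by
      rintro ⟨⟨U, hU⟩, hne⟩
      exact key U hU hne
    exact IsReduced.of_openCover _ (P.openCoverOfIsOpenCover _ hcov)
  -- every nonempty open of Y contains a nonempty affine open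
  have haff : ∀ O : Y.Opens, (O : Set Y).Nonempty → ∃ (U : Y.Opens), IsAffineOpen U ∧
      (U : Set Y).Nonempty ∧ U ≤ O := by
    rintro O ⟨y, hy⟩
    obtain ⟨_, ⟨U, hU, rfl⟩, hyU, hUO⟩ := Y.isBasis_affineOpens.exists_subset_of_mem_open hy O.2
    exact ⟨U, hU, ⟨y, hyU⟩, hUO⟩
  have hpne : ∀ (U : Y.Opens) (hU : IsAffineOpen U), (U : Set Y).Nonempty →
      ((p ⁻¹ᵁ U : P.Opens) : Set P).Nonempty := fun U hU hne => (hirr U hU hne).1
  have hdense : DenseRange p.base := by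
    rw [DenseRange, dense_iff_inter_open]
    intro O hO hne
    obtain ⟨U, hU, hUne, hUO⟩ := haff ⟨O, hO⟩ hne
    obtain ⟨x, hx⟩ := hpne U hU hUne
    exact ⟨p x, hUO hx, x, rfl⟩
  refine ⟨?_, hdense⟩
  have hirrP : IrreducibleSpace P := by
    obtain ⟨U0, hU0, hU0ne, -⟩ := haff ⊤ ⟨(inferInstance : Nonempty Y).some, trivial⟩
    obtain ⟨x0, hx0⟩ := hpne U0 hU0 hU0ne
    have : Nonempty P := ⟨x0⟩
    rw [irreducibleSpace_def]
    refine ⟨⟨x0, trivial⟩, ?_⟩
    rintro A B hA hB ⟨a, -, ha⟩ ⟨b, -, hb⟩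
    obtain ⟨U, hU, haU⟩ : ∃ (U : Y.Opens), IsAffineOpen U ∧ p a ∈ U := by
      have : p a ∈ (⊤ : Y.Opens) := trivial
      rw [← iSup_affineOpens_eq_top Y, TopologicalSpace.Opens.mem_iSup] at this
      obtain ⟨U, hU⟩ := this
      exact ⟨U.1, U.2, hU⟩
    obtain ⟨V, hV, hbV⟩ : ∃ (V : Y.Opens), IsAffineOpen V ∧ p b ∈ V := by
      have : p b ∈ (⊤ : Y.Opens) := trivial
      rw [← iSup_affineOpens_eq_top Y, TopologicalSpace.Opens.mem_iSup] at this
      obtain ⟨U, hU⟩ := this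
      exact ⟨U.1, U.2, hU⟩
    have hUVne : ((U ⊓ V : Y.Opens) : Set Y).Nonempty := by
      have := (inferInstance : IrreducibleSpace Y)
      exact nonempty_preirreducible_inter U.2 V.2 ⟨p a, haU⟩ ⟨p b, hbV⟩
    obtain ⟨W, hW, hWne, hWUV⟩ := haff (U ⊓ V) hUVne
    have hWU : W ≤ U := hWUV.trans inf_le_left
    have hWV : W ≤ V := hWUV.trans inf_le_right
    obtain ⟨w, hw⟩ := hpne W hW hWne
    -- A meets p⁻¹W
    have hAW : (((p ⁻¹ᵁ W : P.Opens) : Set P) ∩ A).Nonempty := by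
      have := (hirr U hU ⟨p a, haU⟩).2 A (p ⁻¹ᵁ W : P.Opens) hA (p ⁻¹ᵁ W).2 ⟨a, haU, ha⟩ ⟨w, hWU hw, hw⟩
      obtain ⟨z, -, hzA, hzW⟩ := this
      exact ⟨z, hzW, hzA⟩
    have hBW : (((p ⁻¹ᵁ W : P.Opens) : Set P) ∩ B).Nonempty := by
      have := (hirr V hV ⟨p b, hbV⟩).2 B (p ⁻¹ᵁ W : P.Opens) hB (p ⁻¹ᵁ W).2 ⟨b, hbV, hb⟩ ⟨w, hWV hw, hw⟩
      obtain ⟨z, -, hzB, hzW⟩ := this
      exact ⟨z, hzW, hzB⟩
    obtain ⟨z, -, hz⟩ := (hirr W hW hWne).2 A B hA hB hAW hBW
    exact ⟨z, trivial, hz⟩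
  exact isIntegral_of_irreducibleSpace_of_isReduced P


end Groth.Agent.S8264
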