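import Groth.Statements.S8265
import Groth.Agent.H4.RelProjLib

set_option autoImplicit false
universe u
open CategoryTheory CategoryTheory.Limits AlgebraicGeometry Opposite TopologicalSpace
open scoped HomogeneousIdeal
open EGA2

namespace Groth.Agent.S8265

open CategoryTheory CategoryTheory.Limits AlgebraicGeometry TopologicalSpace Opposite
open Groth.Agent.H4 Groth.Agent.H4.RelProjLib


variable {A σ : Type u} [CommRing A] [SetLike σ A] [AddSubgroupClass σ A] (𝒜 : ℕ → σ) [GradedRing 𝒜]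

theorem exists_point_not_mem (e : A) (he : e ∈ 𝒜₊) (hne : ¬ IsNilpotent e) :
    ∃ x : ProjectiveSpectrum 𝒜, e ∉ x.asHomogeneousIdeal := by
  have hne' : e ∉ (⊥ : Ideal A).radical := fun h => hne (mem_nilradical.mp h)
  rw [Ideal.radical_eq_sInf, Ideal.mem_sInf] at hne'
  push Not at hne'
  obtain ⟨p, ⟨-, hp⟩, hep⟩ := hne'
  refine ⟨⟨p.homogeneousCore 𝒜, hp.homogeneousCore, ?_⟩, ?_⟩
  · intro hle
    exact hep (Ideal.toIdeal_homogeneousCore_le 𝒜 p (hle he))
  · intro h
    exact hep (Ideal.toIdeal_homogeneousCore_le 𝒜 p h)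

theorem domain_of_irreducible [hirr : IrreducibleSpace (ProjectiveSpectrum 𝒜)]
    (hred : ∀ x ∈ 𝒜₊, IsNilpotent x → x = 0)
    (h00 : ∀ x ∈ 𝒜 0, ∀ y ∈ 𝒜 0, x * y = 0 → x = 0 ∨ y = 0)
    (hd : ∀ x ∈ 𝒜 0, (∀ z : ProjectiveSpectrum 𝒜, x ∈ z.asHomogeneousIdeal) → x = 0) :
    IsDomain A ∧ (𝒜₊).toIdeal ≠ ⊥ := by
  obtain ⟨z0⟩ := hirr.toNonempty
  have hirrne : (𝒜₊).toIdeal ≠ ⊥ := by
    intro h
    apply z0.not_irrelevant_le
    rw [← toIdeal_le_toIdeal_iff, h]
    exact bot_le
  have hnt : Nontrivial A := by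
    refine ⟨⟨0, 1, fun h => z0.isPrime.ne_top ?_⟩⟩
    rw [Ideal.eq_top_iff_one, ← h]
    exact zero_mem _
  -- key lemma
  have Q : ∀ (x y : A) (m n : ℕ), x ∈ 𝒜 m → y ∈ 𝒜 n → 0 < n → y ≠ 0 → x * y = 0 → x = 0 := by
    intro x y m n hx hy hn hy0 hxy
    have hyirr : y ∈ 𝒜₊ := HomogeneousIdeal.mem_irrelevant_of_mem _ hn hy
    have hynil : ¬ IsNilpotent y := fun h => hy0 (hred y hyirr h)
    obtain ⟨z1, hz1⟩ := exists_point_not_mem 𝒜 y hyirr hynil
    have hdense : Dense ((ProjectiveSpectrum.basicOpen 𝒜 y : TopologicalSpace.Opens _) :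
        Set (ProjectiveSpectrum 𝒜)) :=
      (ProjectiveSpectrum.basicOpen 𝒜 y).2.dense ⟨z1, hz1⟩
    have hsub : ((ProjectiveSpectrum.basicOpen 𝒜 y : TopologicalSpace.Opens _) :
        Set (ProjectiveSpectrum 𝒜)) ⊆ ProjectiveSpectrum.zeroLocus 𝒜 {x} := by
      intro z hz
      rw [ProjectiveSpectrum.mem_zeroLocus, Set.singleton_subset_iff]
      have h0 : x * y ∈ z.asHomogeneousIdeal.toIdeal := by rw [hxy]; exact zero_mem _
      rcases z.isPrime.mem_or_mem h0 with h | h
      · exact h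
      · exact absurd h hz
    have huniv : ProjectiveSpectrum.zeroLocus 𝒜 {x} = Set.univ := by
      have := (ProjectiveSpectrum.isClosed_zeroLocus 𝒜 {x}).closure_subset_iff.mpr hsub
      rw [hdense.closure_eq] at this
      exact Set.univ_subset_iff.mp this
    have hall : ∀ z : ProjectiveSpectrum 𝒜, x ∈ z.asHomogeneousIdeal := by
      intro z
      have : z ∈ ProjectiveSpectrum.zeroLocus 𝒜 {x} := by rw [huniv]; trivial
      rw [ProjectiveSpectrum.mem_zeroLocus, Set.singleton_subset_iff] at this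
      exact this
    rcases Nat.eq_zero_or_pos m with hm | hm
    · subst hm
      exact hd x hx hall
    · have hxirr : x ∈ 𝒜₊ := HomogeneousIdeal.mem_irrelevant_of_mem _ hm hx
      by_contra hx0
      have hxnil : ¬ IsNilpotent x := fun h => hx0 (hred x hxirr h)
      obtain ⟨z, hz⟩ := exists_point_not_mem 𝒜 x hxirr hxnil
      exact hz (hall z)
  have hbot : (⊥ : Ideal A).IsPrime := by
    refine Ideal.IsHomogeneous.isPrime_of_homogeneous_mem_or_mem (𝒜 := 𝒜) (Ideal.IsHomogeneous.bot 𝒜)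
      bot_ne_top ?_
    rintro x y ⟨m, hx⟩ ⟨n, hy⟩ hxy
    rw [Ideal.mem_bot] at hxy
    simp only [Ideal.mem_bot]
    rcases Nat.eq_zero_or_pos n with hn | hn
    · rcases Nat.eq_zero_or_pos m with hm | hm
      · subst hn hm
        exact h00 x hx y hy hxy
      · subst hn
        by_cases hx0 : x = 0
        · exact Or.inl hx0
        · right
          exact Q y x 0 m hy hx hm hx0 (by rw [mul_comm]; exact hxy)
    · by_cases hy0 : y = 0
      · exact Or.inr hy0
      · left
        exact Q x y m n hx hy hn hy0 hxy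
  refine ⟨?_, hirrne⟩
  have : NoZeroDivisors A := ⟨fun {a b} hab => by
    have := hbot.mem_or_mem (show a * b ∈ (⊥ : Ideal A) by rw [Ideal.mem_bot]; exact hab)
    simpa only [Ideal.mem_bot] using this⟩
  exact NoZeroDivisors.to_isDomain A

/-- Let Y be an integral scheme and 𝒮 a quasi-coherent positively graded O_Y-algebra with 𝒮_0 = O_Y
which is essentially reduced (affine-locally, every nilpotent element of the irrelevant ideal of
𝒮(U) vanishes). If Proj(𝒮) is integral and dominant over Y, then 𝒮 is integral: over every nonempty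
affine open U, 𝒮(U) is an integral domain with nonzero irrelevant ideal (for Y integral, the
affine-local form of the stalkwise condition of the text). -/
theorem result {Y P : Scheme.{u}} [IsIntegral Y] (𝒮 : RelProj.QCGrAlg Y)
    (h0 : ∀ (U : Y.Opens) (hU : IsAffineOpen U), Function.Bijective (𝒮.strZero U hU).hom)
    (hred : ∀ (U : Y.Opens) (hU : IsAffineOpen U) (x : 𝒮.presheaf.obj (op U)),
      x ∈ (𝒮.deg U hU)₊ → IsNilpotent x → x = 0)
    (p : P ⟶ Y)
    (chart : ∀ (U : Y.Opens) (hU : IsAffineOpen U), (((p ⁻¹ᵁ U : P.Opens) : Scheme.{u}) ≅ Proj (𝒮.deg U hU)))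
    (hP : RelProj.IsRelProj 𝒮 p chart) [IsIntegral P] (hdom : DenseRange p.base)
    (U : Y.Opens) (hU : IsAffineOpen U) (hne : (U : Set Y).Nonempty) :
    IsDomain (𝒮.presheaf.obj (op U)) ∧ ((𝒮.deg U hU)₊).toIdeal ≠ ⊥ := by
  have hprojne : ∀ (V : Y.Opens) (hV : IsAffineOpen V), (V : Set Y).Nonempty →
      Nonempty (Proj (𝒮.deg V hV)) := by
    intro V hV hVne
    obtain ⟨x, hx⟩ := hdom.exists_mem_open V.2 hVne
    exact ⟨(chart V hV).hom (⟨x, hx⟩ : (p ⁻¹ᵁ V : P.Opens))⟩
  have hne' := hprojne U hU hne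
  have hint : IsIntegral (Proj (𝒮.deg U hU)) :=
    isIntegral_of_isOpenImmersion ((chart U hU).inv ≫ (p ⁻¹ᵁ U).ι)
  have hirr : IrreducibleSpace (ProjectiveSpectrum (𝒮.deg U hU)) := by
    have : IrreducibleSpace (Proj (𝒮.deg U hU)) := inferInstance
    exact this
  have : Nonempty U := ⟨⟨hne.some, hne.some_mem⟩⟩
  have hdomU : IsDomain Γ(Y, U) := inferInstance
  refine domain_of_irreducible (𝒮.deg U hU) (hred U hU) ?_ ?_
  · intro x hx y hy hxy
    obtain ⟨r, hr⟩ := (h0 U hU).2 ⟨x, hx⟩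
    obtain ⟨s, hs⟩ := (h0 U hU).2 ⟨y, hy⟩
    have hrs : (𝒮.strZero U hU).hom (r * s) = 0 := by
      rw [map_mul, hr, hs]
      exact Subtype.ext hxy
    have hrs0 : r * s = 0 := (h0 U hU).1 (by rw [hrs, map_zero])
    rcases mul_eq_zero.mp hrs0 with h | h
    · left
      have := congrArg Subtype.val hr
      rw [h, map_zero] at this
      exact this.symm
    · right
      have := congrArg Subtype.val hs
      rw [h, map_zero] at this
      exact this.symm
  · intro x hx hall
    obtain ⟨r, hr⟩ := (h0 U hU).2 ⟨x, hx⟩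
    have hxr : x = (𝒮.str.app (op U)).hom r := (congrArg Subtype.val hr).symm
    by_contra hx0
    have hr0 : r ≠ 0 := by
      rintro rfl
      apply hx0
      rw [hxr, map_zero]
    have hDne : ((Y.basicOpen r : Y.Opens) : Set Y).Nonempty := by
      rw [Set.nonempty_iff_ne_empty, Ne, ← Opens.coe_bot, SetLike.coe_set_eq,
        AlgebraicGeometry.basicOpen_eq_bot_iff]
      exact hr0
    obtain ⟨z'⟩ := hprojne (Y.basicOpen r) (hU.basicOpen r) hDne
    have hz := hall (ProjectiveSpectrum.comap (𝒮.res hU (hU.basicOpen r) (Y.basicOpen_le r))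
      (𝒮.irrelevant_le_map U hU r) z')
    have hz2 : (𝒮.res hU (hU.basicOpen r) (Y.basicOpen_le r)) x ∈ z'.asHomogeneousIdeal.toIdeal := hz
    have hunit : IsUnit ((𝒮.res hU (hU.basicOpen r) (Y.basicOpen_le r)) x) := by
      rw [hxr, RelProj.QCGrAlg.res_apply]
      have hnat := congrArg (fun t => t.hom r) (𝒮.str.naturality (homOfLE (Y.basicOpen_le r)).op)
      simp only [CommRingCat.hom_comp, RingHom.comp_apply] at hnat
      rw [← hnat]
      exact (RingedSpace.isUnit_res_basicOpen Y.toRingedSpace r).map _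
    exact z'.isPrime.ne_top (Ideal.eq_top_of_isUnit_mem _ hz2 hunit)


end Groth.Agent.S8265
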