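import Groth.Statements.S8267
import Groth.Agent.Lib.Helper6.SymU
import Groth.Agent.Lib.Helper6.QCLoc

set_option autoImplicit false
universe u
open CategoryTheory CategoryTheory.Limits AlgebraicGeometry Opposite TopologicalSpace
open EGA2

namespace Groth.Agent.S8267

/-- Let E be a quasi-coherent O_S-module of finite type and A (through j : E → A) its symmetric algebra.
Then the vector bundle V(E) = Spec(A) is of finite type over S, i.e. its (affine) structure morphism
is locally of finite type. -/
theorem result {S : Scheme.{u}} (E : S.Modules) (hE : Coh.IsCoh E)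
    (A : RelSpec.QCAlg S) (j : E ⟶ A.toModule) (hA : RelSpec.IsSymAlg E A j) :
    LocallyOfFiniteType A.π := by
  haveI : E.IsQuasicoherent := hE.1
  refine Groth.Agent.H6.QCLoc.π_of_forall_affine @LocallyOfFiniteType A fun U hU => ?_
  rw [HasRingHomProperty.Spec_iff (P := @LocallyOfFiniteType)]
  haveI : Module.Finite Γ(S, U) Γ(E, U) :=
    Groth.Agent.LD.QC.finite_sections_of_isFiniteType E hE.2 hU
  have h1 : (algebraMap Γ(S, U) (SymmetricAlgebra Γ(S, U) Γ(E, U))).FiniteType := by
    rw [RingHom.finiteType_algebraMap]
    exact Groth.Agent.H6.Sym.finiteType_symmetricAlgebra (R := Γ(S, U)) (M := Γ(E, U))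
  have h2 := Groth.Agent.H6.Sym.liftSec_bijective hA U hU
  have h3 : (A.str.app (op U)).hom =
      (Groth.Agent.H6.Sym.liftSec E A j U).comp
        (algebraMap Γ(S, U) (SymmetricAlgebra Γ(S, U) Γ(E, U))) := by
    ext a
    exact (Groth.Agent.H6.Sym.liftSec_algebraMap E A j U a).symm
  rw [h3]
  exact (RingHom.FiniteType.of_surjective _ h2.2).comp h1

end Groth.Agent.S8267
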