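import Groth.Statements.S8274
import Groth.Agent.H4.RelProjLib

set_option autoImplicit false
universe u
open CategoryTheory CategoryTheory.Limits AlgebraicGeometry Opposite TopologicalSpace
open scoped HomogeneousIdeal
open EGA2

namespace Groth.Agent.S8274

open CategoryTheory CategoryTheory.Limits AlgebraicGeometry TopologicalSpace Opposite
open Groth.Agent.H4 Groth.Agent.H4.RelProjLib


section
variable {Y P : Scheme.{u}} (𝒮 : RelProj.QCGrAlg Y) (p : P ⟶ Y)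
    (chart : ∀ (U : Y.Opens) (hU : IsAffineOpen U), (((p ⁻¹ᵁ U : P.Opens) : Scheme.{u}) ≅ Proj (𝒮.deg U hU)))
    (f : 𝒮.presheaf.obj (op ⊤))

/-- the open `D₊(f|U)` transported to `P`. -/
noncomputable def E (U : Y.Opens) (hU : IsAffineOpen U) : P.Opens :=
  (p ⁻¹ᵁ U).ι ''ᵁ ((chart U hU).hom ⁻¹ᵁ
            Proj.basicOpen (𝒮.deg U hU) ((𝒮.presheaf.map (homOfLE le_top).op).hom f))

theorem E_le (U : Y.Opens) (hU : IsAffineOpen U) : E 𝒮 p chart f U hU ≤ p ⁻¹ᵁ U := by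
  rintro _ ⟨y, -, rfl⟩
  exact y.2

theorem res_f (U V : Y.Opens) (h : V ≤ U) :
    (𝒮.presheaf.map (homOfLE h).op).hom ((𝒮.presheaf.map (homOfLE (le_top : U ≤ ⊤)).op).hom f) =
      (𝒮.presheaf.map (homOfLE (le_top : V ≤ ⊤)).op).hom f := by
  rw [← RingHom.comp_apply, ← CommRingCat.hom_comp, ← Functor.map_comp]
  rfl

variable (hP : RelProj.IsRelProj 𝒮 p chart)

include hP in
theorem E_compat (U : Y.Opens) (hU : IsAffineOpen U) (r : Γ(Y, U)) :
    E 𝒮 p chart f U hU ⊓ p ⁻¹ᵁ (Y.basicOpen r) = E 𝒮 p chart f (Y.basicOpen r) (hU.basicOpen r) := by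
  unfold E
  rw [← Scheme.ι_image_homOfLE_eq_ι_image_inf (p.preimage_mono (Y.basicOpen_le r)),
    ← Scheme.Hom.comp_preimage, hP.chart_res U hU r, Scheme.Hom.comp_preimage,
    Proj.map_preimage_basicOpen]
  congr 3
  exact res_f 𝒮 f U (Y.basicOpen r) (Y.basicOpen_le r)

include hP in
theorem E_compat' (U : Y.Opens) (hU : IsAffineOpen U) (r : Γ(Y, U)) (W : Y.Opens) (hW : IsAffineOpen W)
    (e : W = Y.basicOpen r) :
    E 𝒮 p chart f U hU ⊓ p ⁻¹ᵁ W = E 𝒮 p chart f W hW := by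
  subst e
  exact E_compat 𝒮 p chart f hP U hU r

end

/-- Let 𝒮 be a quasi-coherent positively graded O_Y-algebra, P = Proj(𝒮) with structure morphism p and
charts, and f a global section of 𝒮 homogeneous of degree d > 0. There is an open subset X_f of P
such that for every affine open U of Y, X_f ∩ p⁻¹(U) is the open D_+(f|U) of Proj 𝒮(U) transported
by the chart; moreover X_f is affine over Y. (The identification of X_f with the spectrum of a
quotient of the d-th Veronese algebra is not stated here.) -/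
theorem result {Y P : Scheme.{u}} (𝒮 : RelProj.QCGrAlg Y) (p : P ⟶ Y)
    (chart : ∀ (U : Y.Opens) (hU : IsAffineOpen U), (((p ⁻¹ᵁ U : P.Opens) : Scheme.{u}) ≅ Proj (𝒮.deg U hU)))
    (hP : RelProj.IsRelProj 𝒮 p chart) {d : ℕ} (hd : 0 < d) (f : 𝒮.presheaf.obj (op ⊤))
    (hf : ∀ (U : Y.Opens) (hU : IsAffineOpen U), (𝒮.presheaf.map (homOfLE le_top).op).hom f ∈ 𝒮.deg U hU d) :
    ∃ Xf : P.Opens,
      (∀ (U : Y.Opens) (hU : IsAffineOpen U),
        Xf ⊓ p ⁻¹ᵁ U =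
          (p ⁻¹ᵁ U).ι ''ᵁ ((chart U hU).hom ⁻¹ᵁ
            Proj.basicOpen (𝒮.deg U hU) ((𝒮.presheaf.map (homOfLE le_top).op).hom f))) ∧
      IsAffineHom (Xf.ι ≫ p) := by
  let Xf : P.Opens := ⨆ U : Y.affineOpens, E 𝒮 p chart f U.1 U.2
  have key : ∀ (V : Y.Opens) (hV : IsAffineOpen V), Xf ⊓ p ⁻¹ᵁ V = E 𝒮 p chart f V hV := by
    intro V hV
    apply le_antisymm
    · rintro x ⟨hxX, hxV⟩
      obtain ⟨⟨U, hU⟩, hxU⟩ := Opens.mem_iSup.mp hxX
      have hxU' : x ∈ p ⁻¹ᵁ U := E_le 𝒮 p chart f U hU hxU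
      obtain ⟨f₁, f₂, e, hx⟩ := exists_basicOpen_le_affine_inter hU hV (p x) ⟨hxU', hxV⟩
      have h1 : x ∈ E 𝒮 p chart f U hU ⊓ p ⁻¹ᵁ (Y.basicOpen f₁) := ⟨hxU, hx⟩
      rw [E_compat 𝒮 p chart f hP U hU f₁,
        ← E_compat' 𝒮 p chart f hP V hV f₂ _ (hU.basicOpen f₁) e] at h1
      exact h1.1
    · exact le_inf (le_iSup (fun U : Y.affineOpens => E 𝒮 p chart f U.1 U.2) ⟨V, hV⟩)
        (E_le 𝒮 p chart f V hV)
  refine ⟨Xf, key, ⟨fun U hU => ?_⟩⟩
  rw [Scheme.Hom.comp_preimage, ← Xf.ι.isAffineOpen_iff_of_isOpenImmersion,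
    Scheme.Hom.image_preimage_eq_opensRange_inf, Scheme.Opens.opensRange_ι, key U hU]
  unfold E
  apply IsAffineOpen.image_of_isOpenImmersion
  apply IsAffineOpen.preimage_of_isIso
  exact Proj.isAffineOpen_basicOpen _ _ (hf U hU) hd


end Groth.Agent.S8274
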