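import Groth.Statements.S8280
import Mathlib.AlgebraicGeometry.ProjectiveSpectrum.Proper

set_option autoImplicit false
universe u
open CategoryTheory CategoryTheory.Limits AlgebraicGeometry Opposite TopologicalSpace
open scoped HomogeneousIdeal
open EGA2

namespace Groth.Agent.S8280

open CategoryTheory CategoryTheory.Limits AlgebraicGeometry TopologicalSpace Opposite


/-- if the `g a` eventually generate, the `D₊(g a)` cover `Proj`. -/
theorem exists_mem_basicOpen {A : Type u} [CommRing A] (𝒜 : ℕ → AddSubgroup A) [GradedRing 𝒜]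
    {ι : Type u} (g : ι → A) (n₀ : ℕ)
    (hgen : ∀ n, n₀ ≤ n → (𝒜 n : Set A) ⊆ (Ideal.span (Set.range g) : Set A))
    (y : Proj 𝒜) : ∃ a, y ∈ Proj.basicOpen 𝒜 (g a) := by
  by_contra hcon
  push Not at hcon
  have hmem : ∀ a, g a ∈ y.asHomogeneousIdeal := fun a => by
    have := hcon a
    rw [Proj.mem_basicOpen] at this
    exact not_not.1 this
  have hspan : Ideal.span (Set.range g) ≤ y.asHomogeneousIdeal.toIdeal := by
    rw [Ideal.span_le]
    rintro _ ⟨a, rfl⟩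
    exact hmem a
  apply y.not_irrelevant_le
  rw [HomogeneousIdeal.irrelevant_le]
  intro i hi z hz
  have hz' : z ∈ 𝒜 i := hz
  have hpow : z ^ (n₀ + 1) ∈ 𝒜 ((n₀ + 1) • i) := SetLike.pow_mem_graded _ hz'
  have hle : n₀ ≤ (n₀ + 1) • i := by
    rw [smul_eq_mul]
    nlinarith
  have h1 : z ^ (n₀ + 1) ∈ y.asHomogeneousIdeal.toIdeal := hspan (hgen _ hle hpow)
  exact (y.isPrime.mem_of_pow_mem _ h1)

/-- Let (f_α) be global sections of the quasi-coherent positively graded O_Y-algebra 𝒮, homogeneous of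
positive degrees, such that the ideal they generate contains all 𝒮_n from some degree on
(affine-locally). Then the opens X_{f_α} of Proj(𝒮) (characterised chartwise by the basic opens
D_+(f_α|U)) cover Proj(𝒮). (The published hypothesis fixes one degree, valid over all of Y, from
which on the f_α generate; this row asks for such a degree over each affine open separately, which
is all the proof, carried out one affine open at a time, uses.) -/
theorem result {Y P : Scheme.{u}} (𝒮 : RelProj.QCGrAlg Y) (p : P ⟶ Y)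
    (chart : ∀ (U : Y.Opens) (hU : IsAffineOpen U), (((p ⁻¹ᵁ U : P.Opens) : Scheme.{u}) ≅ Proj (𝒮.deg U hU)))
    (hP : RelProj.IsRelProj 𝒮 p chart) {ι : Type u} (d : ι → ℕ) (hd : ∀ a, 0 < d a)
    (f : ι → 𝒮.presheaf.obj (op ⊤))
    (hf : ∀ (a : ι) (U : Y.Opens) (hU : IsAffineOpen U), (𝒮.presheaf.map (homOfLE le_top).op).hom (f a) ∈ 𝒮.deg U hU (d a))
    (hgen : ∀ (U : Y.Opens) (hU : IsAffineOpen U), ∃ n₀ : ℕ, ∀ n, n₀ ≤ n →
      (𝒮.deg U hU n : Set (𝒮.presheaf.obj (op U))) ⊆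
        (Ideal.span (Set.range fun a => (𝒮.presheaf.map (homOfLE (le_top : U ≤ ⊤)).op).hom (f a)) :
          Set (𝒮.presheaf.obj (op U))))
    (X : ι → P.Opens)
    (hX : ∀ (a : ι) (U : Y.Opens) (hU : IsAffineOpen U),
      X a ⊓ p ⁻¹ᵁ U =
        (p ⁻¹ᵁ U).ι ''ᵁ ((chart U hU).hom ⁻¹ᵁ
          Proj.basicOpen (𝒮.deg U hU) ((𝒮.presheaf.map (homOfLE le_top).op).hom (f a)))) :
    ⨆ a, X a = ⊤ := by
  rw [eq_top_iff]
  intro x _
  obtain ⟨U, hU, hxU⟩ : ∃ (U : Y.Opens), IsAffineOpen U ∧ p x ∈ U := by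
    have : p x ∈ (⊤ : Y.Opens) := trivial
    rw [← iSup_affineOpens_eq_top Y, TopologicalSpace.Opens.mem_iSup] at this
    obtain ⟨U, hU⟩ := this
    exact ⟨U.1, U.2, hU⟩
  have hx' : x ∈ p ⁻¹ᵁ U := hxU
  obtain ⟨n₀, hn₀⟩ := hgen U hU
  obtain ⟨a, ha⟩ := exists_mem_basicOpen (𝒮.deg U hU)
    (fun a => (𝒮.presheaf.map (homOfLE (le_top : U ≤ ⊤)).op).hom (f a)) n₀ hn₀
    ((chart U hU).hom (⟨x, hx'⟩ : (p ⁻¹ᵁ U : P.Opens)))
  rw [TopologicalSpace.Opens.mem_iSup]
  refine ⟨a, ?_⟩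
  have h2 : x ∈ X a ⊓ p ⁻¹ᵁ U := by
    rw [hX a U hU]
    exact ⟨⟨x, hx'⟩, ha, rfl⟩
  exact h2.1


end Groth.Agent.S8280
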