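import Groth.Statements.S8281
import Groth.Agent.H4.RelSpecLib2

set_option autoImplicit false
universe u
open CategoryTheory CategoryTheory.Limits AlgebraicGeometry Opposite TopologicalSpace
open EGA2

namespace Groth.Agent.S8281

open CategoryTheory CategoryTheory.Limits AlgebraicGeometry TopologicalSpace Opposite
open Groth.Agent.H4.RelSpecLib


section
variable {S S' : Scheme.{u}} (q : S' ⟶ S) (B : RelSpec.QCAlg S)
    (B' : RelSpec.QCAlg S') (u : B.presheaf ⟶ q.base _* B'.presheaf)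

/-- the chart ring map -/
noncomputable def ψ (U : S.Opens) (U' : S'.Opens) (hle : U' ≤ q ⁻¹ᵁ U) :
    B.presheaf.obj (op U) ⟶ B'.presheaf.obj (op U') :=
  (u.app (op U) : B.presheaf.obj (op U) ⟶ B'.presheaf.obj (op (q ⁻¹ᵁ U))) ≫
    B'.presheaf.map (homOfLE hle).op

theorem ψ_res (U : S.Opens) (U' V' : S'.Opens) (hle : U' ≤ q ⁻¹ᵁ U) (hV : V' ≤ U') :
    ψ q B B' u U U' hle ≫ B'.presheaf.map (homOfLE hV).op = ψ q B B' u U V' (hV.trans hle) := by
  unfold ψ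
  rw [Category.assoc, ← Functor.map_comp]
  rfl

theorem ψ_nat (U W : S.Opens) (hWU : W ≤ U) (V' : S'.Opens) (h : V' ≤ q ⁻¹ᵁ W) :
    B.presheaf.map (homOfLE hWU).op ≫ ψ q B B' u W V' h =
      ψ q B B' u U V' (h.trans (q.preimage_mono hWU)) := by
  unfold ψ
  have := u.naturality (homOfLE hWU).op
  rw [← Category.assoc, this, Category.assoc]
  congr 1
  change B'.presheaf.map _ ≫ B'.presheaf.map _ = _
  rw [← Functor.map_comp]
  rfl

theorem indep (U₁ U₂ : S.Opens) (hU₁ : IsAffineOpen U₁) (hU₂ : IsAffineOpen U₂) (U' : S'.Opens)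
    (hU' : IsAffineOpen U') (h1 : U' ≤ q ⁻¹ᵁ U₁) (h2 : U' ≤ q ⁻¹ᵁ U₂) :
    Spec.map (ψ q B B' u U₁ U' h1) ≫ B.ι U₁ hU₁ = Spec.map (ψ q B B' u U₂ U' h2) ≫ B.ι U₂ hU₂ := by
  apply chart_hom_ext B' U' hU' (fun V' => ∃ W : S.Opens, IsAffineOpen W ∧ W ≤ U₁ ⊓ U₂ ∧ V' ≤ q ⁻¹ᵁ W)
  · intro x hx
    have hqx : q.base x ∈ U₁ ⊓ U₂ := ⟨h1 hx, h2 hx⟩
    obtain ⟨W, hW, hxW, hWU⟩ := Opens.isBasis_iff_nbhd.mp S.isBasis_affineOpens hqx
    have hx' : x ∈ U' ⊓ q ⁻¹ᵁ W := ⟨hx, hxW⟩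
    obtain ⟨V', hV', hxV', hV'U⟩ := Opens.isBasis_iff_nbhd.mp S'.isBasis_affineOpens hx'
    exact ⟨V', hV', hV'U.trans inf_le_left, ⟨W, hW, hWU, hV'U.trans inf_le_right⟩, hxV'⟩
  · rintro V' hV' hVU ⟨W, hW, hWU, hVW⟩
    have hW1 : W ≤ U₁ := hWU.trans inf_le_left
    have hW2 : W ≤ U₂ := hWU.trans inf_le_right
    rw [← Spec.map_comp_assoc, ← Spec.map_comp_assoc, ψ_res, ψ_res,
      ← ψ_nat q B B' u U₁ W hW1 V' hVW, ← ψ_nat q B B' u U₂ W hW2 V' hVW,
      Spec.map_comp_assoc, Spec.map_comp_assoc, ι_res_le B U₁ W hU₁ hW hW1, ι_res_le B U₂ W hU₂ hW hW2]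

end

/-- Let q : S' → S be a morphism, B and B' quasi-coherent algebras over O_S and O_{S'}, and u : B →
q_*B' a q-morphism (compatible with the structure maps). Then u induces a unique morphism v =
Spec(u) : Spec(B') → Spec(B) which on the charts over affine opens U ⊆ S, U' ⊆ q⁻¹(U) is Spec of the
ring map B(U) → B'(U') given by u and restriction; it lies over q. -/
theorem result {S S' : Scheme.{u}} (q : S' ⟶ S) (B : RelSpec.QCAlg S)
    (B' : RelSpec.QCAlg S') (u : B.presheaf ⟶ q.base _* B'.presheaf)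
    (hu : B.str ≫ u = q.c ≫ (TopCat.Presheaf.pushforward CommRingCat.{u} q.base).map B'.str) :
    (∃! v : B'.spec ⟶ B.spec,
        ∀ (U : S.Opens) (hU : IsAffineOpen U) (U' : S'.Opens) (hU' : IsAffineOpen U') (hle : U' ≤ q ⁻¹ᵁ U),
          B'.ι U' hU' ≫ v =
            Spec.map ((u.app (op U) : B.presheaf.obj (op U) ⟶ B'.presheaf.obj (op (q ⁻¹ᵁ U))) ≫
              B'.presheaf.map (homOfLE hle).op) ≫ B.ι U hU) ∧
      ∀ v : B'.spec ⟶ B.spec,
        (∀ (U : S.Opens) (hU : IsAffineOpen U) (U' : S'.Opens) (hU' : IsAffineOpen U') (hle : U' ≤ q ⁻¹ᵁ U),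
          B'.ι U' hU' ≫ v =
            Spec.map ((u.app (op U) : B.presheaf.obj (op U) ⟶ B'.presheaf.obj (op (q ⁻¹ᵁ U))) ≫
              B'.presheaf.map (homOfLE hle).op) ≫ B.ι U hU) →
        v ≫ B.π = B'.π ≫ q := by
  -- the basis of affine opens of `S'` lying over an affine open of `S`
  let P : S'.Opens → Prop := fun U' => ∃ U : S.Opens, IsAffineOpen U ∧ U' ≤ q ⁻¹ᵁ U
  have hP : ∀ x : S', ∃ U' : S'.Opens, IsAffineOpen U' ∧ P U' ∧ x ∈ U' := by
    intro x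
    obtain ⟨U, hU, hxU, -⟩ := Opens.isBasis_iff_nbhd.mp S.isBasis_affineOpens
      (show q.base x ∈ (⊤ : S.Opens) from trivial)
    obtain ⟨U', hU', hxU', hU'U⟩ := Opens.isBasis_iff_nbhd.mp S'.isBasis_affineOpens
      (show x ∈ q ⁻¹ᵁ U from hxU)
    exact ⟨U', hU', ⟨U, hU, hU'U⟩, hxU'⟩
  have hP' : ∀ U' V' : S'.Opens, P U' → V' ≤ U' → P V' := by
    rintro U' V' ⟨U, hU, hle⟩ hV
    exact ⟨U, hU, hV.trans hle⟩
  refine ⟨?_, ?_⟩
  · obtain ⟨v, hv⟩ := exists_desc_basis B' P hP hP'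
      (fun U' hU' hPU' => Spec.map (ψ q B B' u hPU'.choose U' hPU'.choose_spec.2) ≫
        B.ι hPU'.choose hPU'.choose_spec.1)
      (by
        intro U' V' hU' hV' hPU' hVU
        rw [← Spec.map_comp_assoc, ψ_res]
        exact indep q B B' u _ _ _ _ V' hV' _ _)
    refine ⟨v, ?_, ?_⟩
    · intro U hU U' hU' hle
      rw [hv U' hU' ⟨U, hU, hle⟩]
      exact indep q B B' u _ _ _ _ U' hU' _ _
    · intro v' hv'
      apply hom_ext_basis B' P hP
      rintro U' hU' ⟨U, hU, hle⟩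
      rw [hv' U hU U' hU' hle, hv U' hU' ⟨U, hU, hle⟩]
      exact indep q B B' u _ _ _ _ U' hU' _ _
  · intro v hv
    apply hom_ext_basis B' P hP
    rintro U' hU' ⟨U, hU, hle⟩
    rw [reassoc_of% (hv U hU U' hU' hle), B.ι_π U hU, reassoc_of% (B'.ι_π U' hU'),
      ← IsAffineOpen.SpecMap_appLE_fromSpec q hU hU' hle, ← Spec.map_comp_assoc, ← Spec.map_comp_assoc]
    congr 2
    have h1 := NatTrans.congr_app hu (op U)
    rw [NatTrans.comp_app, NatTrans.comp_app] at h1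
    rw [← Category.assoc, h1]
    have h2 := B'.str.naturality (homOfLE hle).op
    rw [Scheme.Hom.appLE, Category.assoc, Category.assoc]
    exact congrArg (fun k => q.c.app (op U) ≫ k) h2.symm


end Groth.Agent.S8281
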