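import Groth.Statements.S8300
import Groth.Agent.H4.ConeLib
import Groth.Agent.S8299

set_option autoImplicit false
universe u
open CategoryTheory CategoryTheory.Limits AlgebraicGeometry Opposite TopologicalSpace
open scoped HomogeneousIdeal
noncomputable section
open EGA2

namespace Groth.Agent.S8300

open CategoryTheory CategoryTheory.Limits AlgebraicGeometry TopologicalSpace Opposite
open Groth.Agent.H4.RelSpecLib Groth.Agent.H4.ConeLib


/-- the domain of definition of `Proj ψ` is everything iff every prime containing the image of the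
irrelevant ideal contains the irrelevant ideal -/
theorem domOpen_eq_top_iff {A B : Type u} [CommRing A] [CommRing B] {𝒜 : ℕ → AddSubgroup A}
    {ℬ : ℕ → AddSubgroup B} [GradedRing 𝒜] [GradedRing ℬ] (ψ : 𝒜 →+*ᵍ ℬ) :
    RelCone.domOpen ψ = ⊤ ↔
      ∀ y : Ideal B, y.IsPrime → (∀ f ∈ (HomogeneousIdeal.irrelevant 𝒜).toIdeal, ψ f ∈ y) →
        (HomogeneousIdeal.irrelevant ℬ).toIdeal ≤ y := by
  classical
  constructor
  · intro htop y hy hsub
    by_contra hnot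
    -- homogeneous core
    have hcp : (y.homogeneousCore ℬ).toIdeal.IsPrime := hy.homogeneousCore
    have hnot' : ¬ HomogeneousIdeal.irrelevant ℬ ≤ y.homogeneousCore ℬ := by
      intro hle
      exact hnot (le_trans hle (Ideal.toIdeal_homogeneousCore_le ℬ y))
    let x : Proj ℬ := ⟨y.homogeneousCore ℬ, hcp, hnot'⟩
    have hx : x ∈ RelCone.domOpen ψ := by rw [htop]; trivial
    rw [RelCone.mem_domOpen] at hx
    obtain ⟨f, hf, hfx⟩ := hx
    apply hfx
    change ψ f ∈ (y.homogeneousCore ℬ).toIdeal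
    have hf0 : GradedRing.proj 𝒜 0 f = 0 := hf
    rw [← DirectSum.sum_support_decompose 𝒜 f, map_sum]
    refine Ideal.sum_mem _ fun d _ => ?_
    rcases Nat.eq_zero_or_pos d with rfl | hd
    · have : ((DirectSum.decompose 𝒜 f) 0 : A) = 0 := hf0
      rw [this, map_zero]; exact Ideal.zero_mem _
    · apply Ideal.mem_homogeneousCore_of_homogeneous_of_mem
      · exact ⟨d, ψ.map_mem (SetLike.coe_mem _)⟩
      · exact hsub _ (HomogeneousIdeal.mem_irrelevant_of_mem _ hd (SetLike.coe_mem _))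
  · intro h
    rw [eq_top_iff]
    intro x _
    rw [RelCone.mem_domOpen]
    by_contra hcon
    push Not at hcon
    exact x.not_irrelevant_le (h x.asHomogeneousIdeal.toIdeal x.isPrime hcon)

/-- Let q : Y' → Y be a morphism of schemes, 𝒮 and 𝒮' quasi-coherent positively graded algebras over O_Y
and O_{Y'} with 𝒮_0 = O_Y and 𝒮'_0 = O_{Y'}, and φ : 𝒮 → q_*𝒮' a graded q-morphism (a map of sheaves
of rings compatible with the structure maps through q^♯, whose components 𝒮(U) → 𝒮'(U') for affine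
opens U' ⊆ q⁻¹(U) preserve degrees, recorded as graded ring homomorphisms); let C = Spec(𝒮), C' =
Spec(𝒮') be the affine cones and Φ : C' → C the morphism Spec(φ), i.e. the morphism which on the
charts over affine opens U' ⊆ q⁻¹(U) is Spec of 𝒮(U) → 𝒮'(U'); let E ⊆ C and E' ⊆ C' be the pointed
affine cones (defined chart by chart as the complements of V(𝒮(U)_+), resp. V(𝒮'(U')_+)). Then
Proj(φ) is everywhere defined, which here means that for all affine opens U' ⊆ q⁻¹(U) the open of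
Proj 𝒮'(U') where the morphism induced by 𝒮(U) → 𝒮'(U') is defined (the complement of V_+ of the
ideal generated by the image of the irrelevant ideal of 𝒮(U)) is the whole of Proj 𝒮'(U'), if and
only if the inverse image of E under Φ equals E'. -/
theorem result {Y Y' : Scheme.{u}} (q : Y' ⟶ Y) (𝒮 : RelProj.QCGrAlg Y) (𝒮' : RelProj.QCGrAlg Y')
    (h0 : RelCone.StrZeroBij 𝒮) (h0' : RelCone.StrZeroBij 𝒮')
    (u : 𝒮.presheaf ⟶ q.base _* 𝒮'.presheaf)
    (hu : 𝒮.str ≫ u = q.c ≫ (TopCat.Presheaf.pushforward CommRingCat.{u} q.base).map 𝒮'.str)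
    (φ : ∀ (U : Y.Opens) (hU : IsAffineOpen U) (U' : Y'.Opens) (hU' : IsAffineOpen U') (_ : U' ≤ q ⁻¹ᵁ U),
      𝒮.deg U hU →+*ᵍ 𝒮'.deg U' hU')
    (hφ : ∀ (U : Y.Opens) (hU : IsAffineOpen U) (U' : Y'.Opens) (hU' : IsAffineOpen U') (hle : U' ≤ q ⁻¹ᵁ U),
      (φ U hU U' hU' hle).toRingHom =
        ((u.app (op U) : 𝒮.presheaf.obj (op U) ⟶ 𝒮'.presheaf.obj (op (q ⁻¹ᵁ U))) ≫
          𝒮'.presheaf.map (homOfLE hle).op).hom)
    (Φ : 𝒮'.toQCAlg.spec ⟶ 𝒮.toQCAlg.spec)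
    (hΦ : ∀ (U : Y.Opens) (hU : IsAffineOpen U) (U' : Y'.Opens) (hU' : IsAffineOpen U') (hle : U' ≤ q ⁻¹ᵁ U),
      𝒮'.toQCAlg.ι U' hU' ≫ Φ =
        Spec.map ((u.app (op U) : 𝒮.presheaf.obj (op U) ⟶ 𝒮'.presheaf.obj (op (q ⁻¹ᵁ U))) ≫
          𝒮'.presheaf.map (homOfLE hle).op) ≫ 𝒮.toQCAlg.ι U hU) :
    (∀ (U : Y.Opens) (hU : IsAffineOpen U) (U' : Y'.Opens) (hU' : IsAffineOpen U') (hle : U' ≤ q ⁻¹ᵁ U),
        RelCone.domOpen (φ U hU U' hU' hle) = ⊤) ↔
      Φ ⁻¹ᵁ RelCone.pointedCone 𝒮 = RelCone.pointedCone 𝒮' := by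
  -- the chart computation
  have key : ∀ (U : Y.Opens) (hU : IsAffineOpen U) (U' : Y'.Opens) (hU' : IsAffineOpen U')
      (hle : U' ≤ q ⁻¹ᵁ U) (y' : Spec (𝒮'.presheaf.obj (op U'))),
      Φ.base ((𝒮'.toQCAlg.ι U' hU').base y') ∈ RelCone.pointedCone 𝒮 ↔
        ∃ f ∈ (HomogeneousIdeal.irrelevant (𝒮.deg U hU)).toIdeal, (φ U hU U' hU' hle) f ∉ y'.asIdeal := by
    intro U hU U' hU' hle y'
    have e1 : Φ.base ((𝒮'.toQCAlg.ι U' hU').base y') = (𝒮.toQCAlg.ι U hU).base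
        ((Spec.map ((u.app (op U) : 𝒮.presheaf.obj (op U) ⟶ 𝒮'.presheaf.obj (op (q ⁻¹ᵁ U))) ≫
            𝒮'.presheaf.map (homOfLE hle).op)).base y') :=
      congrArg (fun k : Spec (𝒮'.presheaf.obj (op U')) ⟶ 𝒮.toQCAlg.spec => k.base y') (hΦ U hU U' hU' hle)
    rw [e1, mem_pointedCone_iff, mem_vertexCompl_iff]
    have e2 : ∀ f, (φ U hU U' hU' hle) f =
        ((u.app (op U) : 𝒮.presheaf.obj (op U) ⟶ 𝒮'.presheaf.obj (op (q ⁻¹ᵁ U))) ≫
          𝒮'.presheaf.map (homOfLE hle).op).hom f := fun f => congrArg (fun k => k f) (hφ U hU U' hU' hle)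
    constructor
    · rintro ⟨f, hf, hfy⟩
      exact ⟨f, hf, by rw [e2]; exact hfy⟩
    · rintro ⟨f, hf, hfy⟩
      exact ⟨f, hf, by rw [e2] at hfy; exact hfy⟩
  constructor
  · intro hdom
    apply le_antisymm (Groth.Agent.S8299.result q 𝒮 𝒮' h0 h0' u hu φ hφ Φ hΦ)
    intro x' hx'
    change Φ.base x' ∈ RelCone.pointedCone 𝒮
    obtain ⟨U, (hU : IsAffineOpen U), hxU, -⟩ := Opens.isBasis_iff_nbhd.mp Y.isBasis_affineOpens
      (show q.base (𝒮'.toQCAlg.π.base x') ∈ (⊤ : Y.Opens) from trivial)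
    obtain ⟨U', (hU' : IsAffineOpen U'), hxU', hle⟩ := Opens.isBasis_iff_nbhd.mp Y'.isBasis_affineOpens
      (show 𝒮'.toQCAlg.π.base x' ∈ q ⁻¹ᵁ U from hxU)
    obtain ⟨y', rfl⟩ := exists_chart 𝒮'.toQCAlg x' U' hU' hxU'
    rw [key U hU U' hU' hle]
    rw [mem_pointedCone_iff, mem_vertexCompl_iff] at hx'
    obtain ⟨g, hg, hgy⟩ := hx'
    by_contra hcon
    push Not at hcon
    exact hgy ((domOpen_eq_top_iff _).mp (hdom U hU U' hU' hle) y'.asIdeal y'.isPrime hcon hg)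
  · intro heq U hU U' hU' hle
    rw [domOpen_eq_top_iff]
    intro y hy hsub g hg
    by_contra hgy
    let y' : Spec (𝒮'.presheaf.obj (op U')) := ⟨y, hy⟩
    have h1 : (𝒮'.toQCAlg.ι U' hU').base y' ∈ RelCone.pointedCone 𝒮' := by
      rw [mem_pointedCone_iff, mem_vertexCompl_iff]
      exact ⟨g, hg, hgy⟩
    rw [← heq] at h1
    have h2 : Φ.base ((𝒮'.toQCAlg.ι U' hU').base y') ∈ RelCone.pointedCone 𝒮 := h1
    rw [key U hU U' hU' hle] at h2
    obtain ⟨f, hf, hfy⟩ := h2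
    exact hfy (hsub f hf)


end Groth.Agent.S8300
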