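import Groth.Statements.S8310
import Groth.Agent.H4.ProjG2

set_option autoImplicit false
universe u
open CategoryTheory AlgebraicGeometry
open scoped HomogeneousIdeal
open EGA2

namespace Groth.Agent.S8310


section
variable {R A B C : Type u} [CommRing R] [CommRing A] [Algebra R A]
    (𝒜 : ℕ → Submodule R A) [GradedAlgebra 𝒜] [CommRing B] [Algebra R B] (ℬ : ℕ → Submodule R B) [GradedAlgebra ℬ]
    (φ : B →ₐ[R] Polynomial A) (hφ : Function.Injective φ)
    (hdeg : ∀ n : ℕ, Submodule.map φ.toLinearMap (ℬ n) =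
      Submodule.map ((Polynomial.monomial n : A →ₗ[A] Polynomial A).restrictScalars R) (⨆ (m : ℕ) (_ : n ≤ m), 𝒜 m))
    [CommRing C] [Algebra R C] (𝒞 : ℕ → Submodule R C) [GradedAlgebra 𝒞]
    (π : ℬ →+*ᵍ 𝒞) (hπ : Function.Surjective π)
    (hker : RingHom.ker π.toRingHom =
      Ideal.span (⇑φ ⁻¹' (⇑(Polynomial.C : A →+* Polynomial A) '' ((HomogeneousIdeal.irrelevant 𝒜).toIdeal : Set A))))
    (ρ : 𝒞 →+*ᵍ 𝒜) (hρ : ∀ (n : ℕ) (b : B), b ∈ ℬ n → ρ (π b) = GradedRing.proj 𝒜 n ((φ b).coeff n))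

include hdeg in
theorem lift_sup {n : ℕ} {a : A} (ha : a ∈ ⨆ (m : ℕ) (_ : n ≤ m), 𝒜 m) :
    ∃ b ∈ ℬ n, φ b = Polynomial.monomial n a := by
  have h1 : Polynomial.monomial n a ∈ Submodule.map φ.toLinearMap (ℬ n) := by
    rw [hdeg n]
    exact ⟨a, ha, rfl⟩
  obtain ⟨b, hb, hb'⟩ := h1
  exact ⟨b, hb, hb'⟩

include hdeg in
theorem lift_mono {n m : ℕ} (h : n ≤ m) {a : A} (ha : a ∈ 𝒜 m) :
    ∃ b ∈ ℬ n, φ b = Polynomial.monomial n a :=
  lift_sup 𝒜 ℬ φ hdeg (Submodule.mem_iSup_of_mem m (Submodule.mem_iSup_of_mem h ha))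

include hdeg in
theorem exists_of_mem {n : ℕ} {b : B} (hb : b ∈ ℬ n) :
    ∃ a ∈ ⨆ (m : ℕ) (_ : n ≤ m), 𝒜 m, φ b = Polynomial.monomial n a := by
  have h1 : φ b ∈ Submodule.map φ.toLinearMap (ℬ n) := ⟨b, hb, rfl⟩
  rw [hdeg n] at h1
  obtain ⟨a, ha, ha'⟩ := h1
  exact ⟨a, ha, ha'.symm⟩

include hker in
theorem pi_eq_zero_of_C {b : B} {x : A} (hx : x ∈ (HomogeneousIdeal.irrelevant 𝒜).toIdeal)
    (hb : φ b = Polynomial.C x) : π b = 0 := by
  have : b ∈ RingHom.ker π.toRingHom := by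
    rw [hker]
    exact Ideal.subset_span ⟨x, hx, hb.symm⟩
  exact this

theorem mem_irrelevant_of_mem {m : ℕ} (hm : 0 < m) {x : A} (hx : x ∈ 𝒜 m) :
    x ∈ (HomogeneousIdeal.irrelevant 𝒜).toIdeal := by
  change x ∈ HomogeneousIdeal.irrelevant 𝒜
  rw [HomogeneousIdeal.mem_irrelevant_iff, GradedRing.proj_apply,
    DirectSum.decompose_of_mem_ne 𝒜 hx hm.ne']

include hφ hdeg hker in
/-- product of something in `S₊` with something in `S_[n]` is killed -/
theorem pi_eq_zero_of_mul {n m k : ℕ} (hm : 0 < m) (hk : n ≤ k) {x y : A} (hx : x ∈ 𝒜 m) (hy : y ∈ 𝒜 k)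
    {b : B} (hb : φ b = Polynomial.monomial n (x * y)) : π b = 0 := by
  obtain ⟨b', -, hb'⟩ := lift_mono 𝒜 ℬ φ hdeg hk hy
  obtain ⟨b'', -, hb''⟩ := lift_mono 𝒜 ℬ φ hdeg (Nat.zero_le m) hx
  have h0 : π b'' = 0 := pi_eq_zero_of_C 𝒜 ℬ φ 𝒞 π hker (mem_irrelevant_of_mem 𝒜 hm hx)
    (by rw [hb'']; rfl)
  have : b = b'' * b' := by
    apply hφ
    rw [map_mul φ, hb', hb'', hb, Polynomial.monomial_mul_monomial, zero_add]
  rw [this, map_mul, h0, zero_mul]

include hφ hdeg hker in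
theorem pi_pow_eq_zero {n m : ℕ} (h : n < m) {x : A} (hx : x ∈ 𝒜 m) {b : B}
    (hb : φ b = Polynomial.monomial n x) : (π b) ^ (m + 1) = 0 := by
  rw [← map_pow]
  have hxm : x ^ m ∈ 𝒜 (m • m) := SetLike.pow_mem_graded m hx
  refine pi_eq_zero_of_mul 𝒜 ℬ φ hφ hdeg 𝒞 π hker (n := n * (m + 1)) (k := m • m)
    (Nat.zero_lt_of_lt h) ?_ hx hxm ?_
  · simp only [smul_eq_mul]; nlinarith
  · rw [map_pow, hb, Polynomial.monomial_pow, pow_succ']

include hφ hdeg in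
theorem key (J : Ideal C) (n : ℕ)
    (hJ : ∀ m : ℕ, n < m → ∀ x ∈ 𝒜 m, ∀ b : B, φ b = Polynomial.monomial n x → π b ∈ J)
    {a : A} (ha : a ∈ ⨆ (m : ℕ) (_ : n ≤ m), 𝒜 m) (h0 : GradedRing.proj 𝒜 n a = 0)
    {b : B} (hb : φ b = Polynomial.monomial n a) : π b ∈ J := by
  have aux : ∃ b' : B, φ b' = Polynomial.monomial n (a - GradedRing.proj 𝒜 n a) ∧ π b' ∈ J := by
    refine Submodule.iSup_induction (fun m => ⨆ (_ : n ≤ m), 𝒜 m)
      (motive := fun a => ∃ b' : B, φ b' = Polynomial.monomial n (a - GradedRing.proj 𝒜 n a) ∧ π b' ∈ J)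
      ha ?_ ?_ ?_
    · intro m x hx
      by_cases hnm : n ≤ m
      · rw [iSup_pos hnm] at hx
        rcases hnm.lt_or_eq with hlt | rfl
        · have : GradedRing.proj 𝒜 n x = 0 := by
            rw [GradedRing.proj_apply, DirectSum.decompose_of_mem_ne 𝒜 hx hlt.ne']
          rw [this, sub_zero]
          obtain ⟨b', -, hb'⟩ := lift_mono 𝒜 ℬ φ hdeg hlt.le hx
          exact ⟨b', hb', hJ m hlt x hx b' hb'⟩
        · have : GradedRing.proj 𝒜 n x = x := by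
            rw [GradedRing.proj_apply, DirectSum.decompose_of_mem_same 𝒜 hx]
          rw [this, sub_self]
          exact ⟨0, by simp, by simp⟩
      · rw [iSup_neg hnm] at hx
        rw [Submodule.mem_bot] at hx
        subst hx
        exact ⟨0, by simp, by simp⟩
    · exact ⟨0, by simp, by simp⟩
    · rintro x y ⟨bx, hbx, hbx'⟩ ⟨by', hby, hby'⟩
      refine ⟨bx + by', ?_, ?_⟩
      · rw [map_add, hbx, hby, ← map_add, map_add (GradedRing.proj 𝒜 n)]
        congr 1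
        abel
      · rw [map_add]
        exact J.add_mem hbx' hby'
  obtain ⟨b', hb', hb''⟩ := aux
  rw [h0, sub_zero] at hb'
  have : b = b' := hφ (by rw [hb, hb'])
  rw [this]
  exact hb''

include hdeg hρ in
theorem rho_lift {n : ℕ} {a : A} (ha : a ∈ 𝒜 n) : ∃ c ∈ 𝒞 n, ρ c = a := by
  obtain ⟨b, hb, hb'⟩ := lift_mono 𝒜 ℬ φ hdeg le_rfl ha
  refine ⟨π b, π.2 hb, ?_⟩
  rw [hρ n b hb, hb', Polynomial.coeff_monomial, if_pos rfl, GradedRing.proj_apply,
    DirectSum.decompose_of_mem_same 𝒜 ha]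

include hdeg hρ in
theorem rho_surjective : Function.Surjective ρ := by
  intro a
  induction a using DirectSum.Decomposition.inductionOn 𝒜 with
  | zero => exact ⟨0, map_zero _⟩
  | homogeneous a =>
    obtain ⟨c, -, hc⟩ := rho_lift 𝒜 ℬ φ hdeg 𝒞 π ρ hρ a.2
    exact ⟨c, hc⟩
  | add a a' h h' =>
    obtain ⟨c, rfl⟩ := h
    obtain ⟨c', rfl⟩ := h'
    exact ⟨c + c', map_add _ _ _⟩

include hφ hdeg hπ hρ in
/-- homogeneous elements of `ker ρ` lie in `J` provided the basic ones do -/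
theorem ker_rho_le (J : Ideal C) {n : ℕ}
    (hJ : ∀ m : ℕ, n < m → ∀ x ∈ 𝒜 m, ∀ b : B, φ b = Polynomial.monomial n x → π b ∈ J)
    {c : C} (hc : c ∈ 𝒞 n) (h0 : ρ c = 0) : c ∈ J := by
  obtain ⟨b, hb, rfl⟩ := Groth.Agent.H4.ProjG.exists_mem_of_surjective π hπ hc
  obtain ⟨a, ha, hab⟩ := exists_of_mem 𝒜 ℬ φ hdeg hb
  have h1 := hρ n b hb
  rw [h0, hab, Polynomial.coeff_monomial, if_pos rfl] at h1
  exact key 𝒜 ℬ φ hφ hdeg 𝒞 π J n hJ ha h1.symm hab

include hφ hdeg hπ hρ hker in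
theorem ker_rho_nil (c : C) (h0 : ρ c = 0) : IsNilpotent c := by
  classical
  rw [← mem_nilradical, ← DirectSum.sum_support_decompose 𝒞 c]
  refine sum_mem (fun i _ => ?_)
  refine ker_rho_le 𝒜 ℬ φ hφ hdeg 𝒞 π hπ ρ hρ (nilradical C) ?_ (SetLike.coe_mem _) ?_
  · intro m hnm x hx b hb
    rw [mem_nilradical]
    exact ⟨m + 1, pi_pow_eq_zero 𝒜 ℬ φ hφ hdeg 𝒞 π hker hnm hx hb⟩
  · rw [GradedRingHom.map_directSumDecompose, h0, DirectSum.decompose_zero]
    rfl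

end

/-- Let S be a positively graded ring (an ℕ-graded R-algebra), S♮ the graded ring with S♮_n = S_[n] =
⊕_{m ≥ n} S_m (presented as a graded ring S' with an injective algebra homomorphism φ : S' → S[X]
carrying S'_n onto S_[n]·X^n), and T = S♮ ⊗_S S_0 = ⊕_n S_[n]/S_+S_[n] (presented as a graded ring
with a surjective graded homomorphism π : S' → T whose kernel is the ideal generated by the elements
of S' corresponding to the constants in S_+); let ρ : T → S be the surjective graded homomorphism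
sending the class of a ∈ S_[n] (in degree n) to the degree-n component of a, and Proj S → Proj T the
morphism it induces (a closed immersion, ρ being surjective). Then this morphism Proj S → Proj T is
bijective. -/
theorem result {R A B C : Type u} [CommRing R] [CommRing A] [Algebra R A]
    (𝒜 : ℕ → Submodule R A) [GradedAlgebra 𝒜] [CommRing B] [Algebra R B] (ℬ : ℕ → Submodule R B) [GradedAlgebra ℬ]
    (φ : B →ₐ[R] Polynomial A) (hφ : Function.Injective φ)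
    (hdeg : ∀ n : ℕ, Submodule.map φ.toLinearMap (ℬ n) =
      Submodule.map ((Polynomial.monomial n : A →ₗ[A] Polynomial A).restrictScalars R) (⨆ (m : ℕ) (_ : n ≤ m), 𝒜 m))
    [CommRing C] [Algebra R C] (𝒞 : ℕ → Submodule R C) [GradedAlgebra 𝒞]
    (π : ℬ →+*ᵍ 𝒞) (hπ : Function.Surjective π)
    (hker : RingHom.ker π.toRingHom =
      Ideal.span (⇑φ ⁻¹' (⇑(Polynomial.C : A →+* Polynomial A) '' ((HomogeneousIdeal.irrelevant 𝒜).toIdeal : Set A))))
    (ρ : 𝒞 →+*ᵍ 𝒜) (hρ : ∀ (n : ℕ) (b : B), b ∈ ℬ n → ρ (π b) = GradedRing.proj 𝒜 n ((φ b).coeff n))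
    (hirr : HomogeneousIdeal.irrelevant 𝒜 ≤ (HomogeneousIdeal.irrelevant 𝒞).map ρ) :
    Function.Bijective (Proj.map ρ hirr).base := by
  have hsurj := rho_surjective 𝒜 ℬ φ hdeg 𝒞 π ρ hρ
  constructor
  · have := Groth.Agent.H4.ProjG.isClosedImmersion_map_of_surjective ρ hirr hsurj
    exact (Proj.map ρ hirr).isClosedEmbedding.injective
  · exact Groth.Agent.H4.ProjG2.map_base_surjective_of_ker_nil ρ hirr hsurj
      (ker_rho_nil 𝒜 ℬ φ hφ hdeg 𝒞 π hπ hker ρ hρ)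


end Groth.Agent.S8310
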