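import Groth.Statements.S8312
import Groth.Agent.S8310

set_option autoImplicit false
universe u
open scoped HomogeneousIdeal
open EGA2

namespace Groth.Agent.S8312

open CategoryTheory AlgebraicGeometry


open Groth.Agent.S8310

section
variable {R A B : Type u} [CommRing R] [CommRing A] [Algebra R A]
    (𝒜 : ℕ → Submodule R A) [GradedAlgebra 𝒜] [CommRing B] [Algebra R B] (ℬ : ℕ → Submodule R B) [GradedAlgebra ℬ]
    (φ : B →ₐ[R] Polynomial A) (hφ : Function.Injective φ)
    (hdeg : ∀ n : ℕ, Submodule.map φ.toLinearMap (ℬ n) =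
      Submodule.map ((Polynomial.monomial n : A →ₗ[A] Polynomial A).restrictScalars R) (⨆ (m : ℕ) (_ : n ≤ m), 𝒜 m))
    {ι : Type u} (d : ι → ℕ) (hd : ∀ a, 0 < d a) (f : ι → A) (hf : ∀ a, f a ∈ 𝒜 (d a))
    (hrad : ∀ g ∈ (HomogeneousIdeal.irrelevant 𝒜).toIdeal, ∃ n : ℕ, 0 < n ∧ g ^ n ∈ Ideal.span (Set.range f))
    (fn : ι → B) (hfn : ∀ a, φ (fn a) = Polynomial.monomial (d a) (f a))

include hφ hdeg hf hrad hfn in
theorem claim1 {n m : ℕ} (hn : 0 < n) (hnm : n ≤ m) {a : A} (ha : a ∈ 𝒜 m) {g : B}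
    (hg : φ g = Polynomial.monomial n a) : g ∈ (Ideal.span (Set.range fn)).radical := by
  classical
  obtain ⟨k, hk, hak⟩ := hrad a (mem_irrelevant_of_mem 𝒜 (hn.trans_le hnm) ha)
  change a ^ k ∈ Submodule.span A (Set.range f) at hak
  rw [Finsupp.mem_span_range_iff_exists_finsupp] at hak
  obtain ⟨c, hc⟩ := hak
  set N := c.support.sup d + 1 with hN
  set M := m * (k * N) with hM
  have hdle : ∀ α ∈ c.support, d α ≤ n * (k * N) := by
    intro α hα
    have h1 : d α ≤ c.support.sup d := Finset.le_sup hα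
    have h2 : N ≤ n * (k * N) := by
      calc N = 1 * N := (one_mul N).symm
        _ ≤ (n * k) * N := Nat.mul_le_mul_right _ (Nat.mul_pos hn hk)
        _ = n * (k * N) := mul_assoc _ _ _
    omega
  have hnM : n * (k * N) ≤ M := by rw [hM]; exact Nat.mul_le_mul_right _ hnm
  -- a^(kN) decomposition
  have hpow : a ^ (k * N) = c.sum fun α cα => (cα * a ^ (k * (N - 1))) * f α := by
    have : a ^ (k * N) = a ^ k * a ^ (k * (N - 1)) := by
      rw [← pow_add]; congr 1; rw [hN]; simp [mul_add]; ring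
    rw [this, ← hc, Finsupp.sum, Finsupp.sum, Finset.sum_mul]
    refine Finset.sum_congr rfl (fun α _ => ?_)
    simp only [smul_eq_mul]; ring
  have hmem : a ^ (k * N) ∈ 𝒜 M := by
    have := SetLike.pow_mem_graded (k * N) ha
    rwa [smul_eq_mul, mul_comm] at this
  have hpow' : a ^ (k * N) = c.sum fun α cα =>
      (DirectSum.decompose 𝒜 (cα * a ^ (k * (N - 1))) (M - d α) : A) * f α := by
    have h1 : (DirectSum.decompose 𝒜 (a ^ (k * N)) M : A) = a ^ (k * N) :=
      DirectSum.decompose_of_mem_same 𝒜 hmem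
    rw [← h1]
    conv_lhs => rw [hpow]
    rw [Finsupp.sum, Finsupp.sum, DirectSum.decompose_sum, DFinsupp.finsetSum_apply,
      AddSubmonoidClass.coe_finsetSum]
    refine Finset.sum_congr rfl (fun α hα => ?_)
    exact DirectSum.coe_decompose_mul_of_right_mem_of_le 𝒜 (hf α) ((hdle α hα).trans hnM)
  -- lift each coefficient
  have hlift : ∀ α ∈ c.support, ∃ h : B, φ h = Polynomial.monomial (n * (k * N) - d α)
      (DirectSum.decompose 𝒜 (c α * a ^ (k * (N - 1))) (M - d α) : A) := by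
    intro α hα
    obtain ⟨h, -, hh⟩ := lift_mono 𝒜 ℬ φ hdeg (show n * (k * N) - d α ≤ M - d α by omega)
      (SetLike.coe_mem (DirectSum.decompose 𝒜 (c α * a ^ (k * (N - 1))) (M - d α)))
    exact ⟨h, hh⟩
  choose! h hh using hlift
  have hfin : g ^ (k * N) = ∑ α ∈ c.support, h α * fn α := by
    apply hφ
    rw [map_pow, hg, Polynomial.monomial_pow, map_sum, hpow', Finsupp.sum, map_sum]
    refine Finset.sum_congr rfl (fun α hα => ?_)
    rw [map_mul φ, hh α hα, hfn, Polynomial.monomial_mul_monomial,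
      Nat.sub_add_cancel (hdle α hα)]
  refine ⟨k * N, ?_⟩
  rw [hfin]
  exact sum_mem (fun α _ => Ideal.mul_mem_left _ _ (Ideal.subset_span ⟨α, rfl⟩))

include hφ hdeg hf hrad hfn in
theorem claim2 {n : ℕ} (hn : 0 < n) {g : B} (hg : g ∈ ℬ n) :
    g ∈ (Ideal.span (Set.range fn)).radical := by
  obtain ⟨a, ha, hab⟩ := exists_of_mem 𝒜 ℬ φ hdeg hg
  have aux : ∃ g' : B, φ g' = Polynomial.monomial n a ∧ g' ∈ (Ideal.span (Set.range fn)).radical := by
    refine Submodule.iSup_induction (fun m => ⨆ (_ : n ≤ m), 𝒜 m)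
      (motive := fun a => ∃ g' : B, φ g' = Polynomial.monomial n a ∧
        g' ∈ (Ideal.span (Set.range fn)).radical) ha ?_ ?_ ?_
    · intro m x hx
      by_cases hnm : n ≤ m
      · rw [iSup_pos hnm] at hx
        obtain ⟨g', -, hg'⟩ := lift_mono 𝒜 ℬ φ hdeg hnm hx
        exact ⟨g', hg', claim1 𝒜 ℬ φ hφ hdeg d f hf hrad fn hfn hn hnm hx hg'⟩
      · rw [iSup_neg hnm, Submodule.mem_bot] at hx
        subst hx
        exact ⟨0, by simp, Ideal.zero_mem _⟩
    · exact ⟨0, by simp, Ideal.zero_mem _⟩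
    · rintro x y ⟨gx, hgx, hgx'⟩ ⟨gy, hgy, hgy'⟩
      exact ⟨gx + gy, by rw [map_add, hgx, hgy, map_add], Ideal.add_mem _ hgx' hgy'⟩
  obtain ⟨g', hg', hg''⟩ := aux
  have : g = g' := hφ (by rw [hab, hg'])
  rw [this]
  exact hg''

end

/-- Let S be a positively graded ring (an ℕ-graded R-algebra) and S♮ the graded ring with S♮_n = S_[n] =
⊕_{m ≥ n} S_m, presented as a graded ring S' with an injective algebra homomorphism φ : S' → S[X]
carrying S'_n onto S_[n]·X^n; for a homogeneous f ∈ S_d write f♮ for the element of S' with φ(f♮) =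
f·X^d (f placed in degree d of S♮). If (f_α) is a family of homogeneous elements of S of positive
degrees such that every element of the irrelevant ideal S_+ has a positive power in the ideal
generated by the f_α (that is, S_+ is the radical in S_+ of that ideal), then every element of the
irrelevant ideal S'_+ has a positive power in the ideal of S' generated by the f_α♮. -/
theorem result {R A B : Type u} [CommRing R] [CommRing A] [Algebra R A]
    (𝒜 : ℕ → Submodule R A) [GradedAlgebra 𝒜] [CommRing B] [Algebra R B] (ℬ : ℕ → Submodule R B) [GradedAlgebra ℬ]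
    (φ : B →ₐ[R] Polynomial A) (hφ : Function.Injective φ)
    (hdeg : ∀ n : ℕ, Submodule.map φ.toLinearMap (ℬ n) =
      Submodule.map ((Polynomial.monomial n : A →ₗ[A] Polynomial A).restrictScalars R) (⨆ (m : ℕ) (_ : n ≤ m), 𝒜 m))
    {ι : Type u} (d : ι → ℕ) (hd : ∀ a, 0 < d a) (f : ι → A) (hf : ∀ a, f a ∈ 𝒜 (d a))
    (hrad : ∀ g ∈ (HomogeneousIdeal.irrelevant 𝒜).toIdeal, ∃ n : ℕ, 0 < n ∧ g ^ n ∈ Ideal.span (Set.range f))
    (fn : ι → B) (hfn : ∀ a, φ (fn a) = Polynomial.monomial (d a) (f a)) :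
    ∀ g ∈ (HomogeneousIdeal.irrelevant ℬ).toIdeal, ∃ n : ℕ, 0 < n ∧ g ^ n ∈ Ideal.span (Set.range fn) := by
  classical
  intro g hg
  have hrg : g ∈ (Ideal.span (Set.range fn)).radical := by
    rw [← DirectSum.sum_support_decompose ℬ g]
    refine sum_mem (fun i _ => ?_)
    rcases Nat.eq_zero_or_pos i with rfl | hi
    · have h0 : (DirectSum.decompose ℬ g 0 : B) = 0 := by
        have : g ∈ HomogeneousIdeal.irrelevant ℬ := hg
        rw [HomogeneousIdeal.mem_irrelevant_iff, GradedRing.proj_apply] at this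
        exact this
      rw [h0]
      exact Ideal.zero_mem _
    · exact claim2 𝒜 ℬ φ hφ hdeg d f hf hrad fn hfn hi (SetLike.coe_mem _)
  obtain ⟨n, hn⟩ := hrg
  refine ⟨n + 1, Nat.succ_pos _, ?_⟩
  rw [pow_succ]
  exact Ideal.mul_mem_right _ _ hn


end Groth.Agent.S8312
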