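import Groth.Statements.S8345
import Groth.Agent.H4.Constr2

set_option autoImplicit false
universe u
open ConstrTop

namespace Groth.Agent.S8345

open TopologicalSpace Topology



open TopologicalSpace in
/-- Suppose X is a topological space that is Noetherian. Then a subset s of X is constructible exactly
when s can be written as the union of finitely many locally closed subsets of X. -/
theorem result {X : Type u} [TopologicalSpace X]
    [NoetherianSpace X] (s : Set X) :
    Topology.IsConstructible s ↔
      ∃ (n : ℕ) (Z : Fin n → Set X), (∀ i, IsLocallyClosed (Z i)) ∧ s = ⋃ i, Z i := by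
  have hretro : ∀ U : Set X, IsRetrocompact U := fun U V _ _ => NoetherianSpace.isCompact _
  constructor
  · intro hs
    refine Groth.Agent.H4.Spec.isConstructible_sdiff_union_induction
      (p := fun s => ∃ (n : ℕ) (Z : Fin n → Set X), (∀ i, IsLocallyClosed (Z i)) ∧ s = ⋃ i, Z i)
      ?_ ?_ hs
    · intro U V hU _ hV _
      refine ⟨1, fun _ => U \ V, fun _ => ?_, ?_⟩
      · exact hU.isLocallyClosed.inter hV.isClosed_compl.isLocallyClosed
      · exact (Set.iUnion_const _).symm
    · rintro s t _ _ ⟨n, Z, hZ, rfl⟩ ⟨m, W, hW, rfl⟩
      refine ⟨n + m, Fin.append Z W, fun i => ?_, ?_⟩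
      · refine Fin.addCases (fun i => ?_) (fun i => ?_) i
        · rw [Fin.append_left]; exact hZ i
        · rw [Fin.append_right]; exact hW i
      · ext x
        simp only [Set.mem_union, Set.mem_iUnion]
        constructor
        · rintro (⟨i, hi⟩ | ⟨i, hi⟩)
          · exact ⟨Fin.castAdd m i, by rw [Fin.append_left]; exact hi⟩
          · exact ⟨Fin.natAdd n i, by rw [Fin.append_right]; exact hi⟩
        · rintro ⟨i, hi⟩
          revert hi
          refine Fin.addCases (fun i hi => ?_) (fun i hi => ?_) i
          · rw [Fin.append_left] at hi; exact Or.inl ⟨i, hi⟩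
          · rw [Fin.append_right] at hi; exact Or.inr ⟨i, hi⟩
  · rintro ⟨n, Z, hZ, rfl⟩
    refine IsConstructible.iUnion fun i => ?_
    obtain ⟨U, C, hU, hC, hUC⟩ := hZ i
    rw [hUC]
    refine IsConstructible.inter ((hretro U).isConstructible hU) ?_
    have : IsConstructible Cᶜ := (hretro Cᶜ).isConstructible hC.isOpen_compl
    exact this.of_compl


end Groth.Agent.S8345
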