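import Groth.Statements.S8346
import Groth.Agent.H4.Constr2

set_option autoImplicit false
universe u
open ConstrTop

namespace Groth.Agent.S8346

open TopologicalSpace Topology Set
open scoped Set.Notation


theorem key {X : Type u} [TopologicalSpace X] {T b V W : Set X} (hb : IsOpen b) (hbr : IsRetrocompact b)
    (hbV : b ⊆ V) (hV : IsOpen V) (hTV : IsConstructible (V ↓∩ T)) (hWc : IsCompact W) (hWo : IsOpen W) :
    IsCompact (T ∩ W ∩ b) := by
  have hf : IsOpenEmbedding (Set.inclusion hbV) :=
    IsOpenEmbedding.of_comp_iff (f := Set.inclusion hbV) hV.isOpenEmbedding_subtypeVal |>.mp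
      (by simpa [Function.comp_def] using hb.isOpenEmbedding_subtypeVal)
  have h1 : IsConstructible (b ↓∩ T) := by
    have := hTV.preimage_of_isOpenEmbedding hf
    exact this
  have h2 : IsRetrocompact (b ↓∩ T) := Groth.Agent.H4.Spec.isRetrocompact_of_isConstructible h1
  have h3 : IsCompact (b ↓∩ W) := by
    rw [IsEmbedding.subtypeVal.isCompact_iff, Subtype.image_preimage_coe]
    exact hbr hWc hWo
  have h4 : IsOpen (b ↓∩ W) := hWo.preimage continuous_subtype_val
  have h5 := (h2 h3 h4).image continuous_subtype_val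
  convert h5 using 1
  ext x
  simp only [mem_inter_iff, mem_image, mem_preimage, Subtype.exists, exists_and_right, exists_eq_right]
  tauto

open TopologicalSpace in
/-- Let X be a topological space admitting a basis of open subsets which are retrocompact in X. Then
every locally constructible subset T of X is retrocompact in X. -/
theorem result {X : Type u} [TopologicalSpace X]
    {B : Set (Set X)} (hB : IsTopologicalBasis B) (hBr : ∀ U ∈ B, IsRetrocompact U) {T : Set X}
    (hT : Topology.IsLocallyConstructible T) : IsRetrocompact T := by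
  intro W hWc hWo
  choose V hVn hVo hVc using hT
  have hb : ∀ x : X, ∃ b ∈ B, x ∈ b ∧ b ⊆ V x := fun x =>
    hB.exists_subset_of_mem_open (mem_of_mem_nhds (hVn x)) (hVo x)
  choose b hbB hxb hbV using hb
  obtain ⟨t, -, ht⟩ := hWc.elim_nhds_subcover b
    (fun x _ => (hB.isOpen (hbB x)).mem_nhds (hxb x))
  have heq : T ∩ W = ⋃ x ∈ t, T ∩ W ∩ b x := by
    ext y
    simp only [mem_inter_iff, mem_iUnion, exists_prop]
    constructor
    · rintro ⟨hyT, hyW⟩
      obtain ⟨x, hx, hy⟩ := mem_iUnion₂.mp (ht hyW)
      exact ⟨x, hx, ⟨hyT, hyW⟩, hy⟩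
    · rintro ⟨x, -, h, -⟩
      exact h
  rw [heq]
  exact t.finite_toSet.isCompact_biUnion fun x _ =>
    key (hB.isOpen (hbB x)) (hBr _ (hbB x)) (hbV x) (hVo x) (hVc x) hWc hWo


end Groth.Agent.S8346
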