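import Groth.Statements.S8348
import Mathlib.Algebra.Homology.ShortComplex.HomologicalComplex
import Mathlib.Algebra.Homology.HomologicalComplexAbelian
import Mathlib.CategoryTheory.Preadditive.Injective.Basic
import Mathlib.Algebra.Homology.ShortComplex.Exact
import Mathlib.Algebra.Homology.HomologicalComplexLimits

set_option autoImplicit false
universe v u
open CategoryTheory CategoryTheory.Limits
open HomAlg3

namespace Groth.Agent.S8348


variable {C : Type u} [Category.{v} C] [Abelian C]

theorem mono_f_of_mono {X Y : CochainComplex C ℕ} (f : X ⟶ Y) [Mono f] (i : ℕ) : Mono (f.f i) :=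
  inferInstanceAs (Mono ((HomologicalComplex.eval C (ComplexShape.up ℕ) i).map f))

/-- Let C be an abelian category and Q a cochain complex of objects of C in degrees 0, 1, 2, ... such
that every Q^i is injective, every homology object H^i(Q) with i ≥ 1 is zero, and every inclusion of
the cycles Z^i(Q) into Q^i (i ≥ 0) is a split monomorphism. Then Q is an injective object of the
category of cochain complexes of C indexed by the natural numbers. (The published statement is for
the narrower class of complexes with Z^i(Q) = B^i(Q) for every i ≥ 0, which in degree 0, where there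
is no incoming differential, forces Z^0(Q) = 0; this row allows a nonzero Z^0(Q), so that it pairs
with the embedding of an arbitrary complex into such a Q. Such a Q is the direct sum of Z^0(Q)
placed in degree 0 and of the two-term complexes with Z^{i+1}(Q) in degrees i and i+1 and the
identity as differential, and the published argument carries over with Z^i(Q) in place of B^i(Q) as
the first summand of Q^i.) -/
theorem result {C : Type u} [Category.{v} C] [Abelian C]
    (Q : CochainComplex C ℕ) (hinj : ∀ i : ℕ, Injective (Q.X i)) (hac : ∀ i : ℕ, IsZero (Q.homology (i + 1)))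
    (hsplit : ∀ i : ℕ, IsSplitMono (Q.iCycles i)) : Injective Q := by
  -- retractions of the cycle inclusions
  let r : ∀ i, Q.X i ⟶ Q.cycles i := fun i => @retraction _ _ _ _ (Q.iCycles i) (hsplit i)
  have hr : ∀ i, Q.iCycles i ≫ r i = 𝟙 _ := fun i =>
    @IsSplitMono.id _ _ _ _ (Q.iCycles i) (hsplit i)
  -- the epimorphisms `Q^i ⟶ Z^{i+1}`
  haveI hepi : ∀ i, Epi (Q.toCycles i (i + 1)) := fun i =>
    Preadditive.epi_of_isZero_cokernel' _ (Q.homologyIsCokernel i (i + 1) (by simp)) (hac i)
  have hιd : ∀ i, Q.iCycles i ≫ Q.toCycles i (i + 1) = 0 := fun i => by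
    rw [← cancel_mono (Q.iCycles (i + 1)), Category.assoc, Q.toCycles_i, Q.iCycles_d, zero_comp]
  let S : ℕ → ShortComplex C := fun i => ShortComplex.mk (Q.iCycles i) (Q.toCycles i (i + 1)) (hιd i)
  have hS : ∀ i, (S i).Exact := fun i =>
    ShortComplex.exact_of_f_is_kernel _
      (isKernelOfComp (Q.iCycles (i + 1)) (Q.d i (i + 1)) (Q.cyclesIsKernel i (i + 1) (by simp))
        (hιd i) (Q.toCycles_i i (i + 1)))
  haveI : ∀ i, Epi (S i).g := hepi
  have hk : ∀ i, (S i).f ≫ (𝟙 (Q.X i) - r i ≫ Q.iCycles i) = 0 := fun i => by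
    change Q.iCycles i ≫ _ = 0
    rw [Preadditive.comp_sub, Category.comp_id, reassoc_of% (hr i), sub_self]
  let σ : ∀ i, Q.cycles (i + 1) ⟶ Q.X i := fun i => (hS i).desc _ (hk i)
  have hσ : ∀ i, Q.toCycles i (i + 1) ≫ σ i = 𝟙 (Q.X i) - r i ≫ Q.iCycles i := fun i =>
    (hS i).g_desc _ (hk i)
  have hA : ∀ i, r i ≫ Q.iCycles i + Q.toCycles i (i + 1) ≫ σ i = 𝟙 _ := fun i => by
    rw [hσ]; abel
  have hB : ∀ i, σ i ≫ Q.d i (i + 1) = Q.iCycles (i + 1) := fun i => by
    rw [← cancel_epi (Q.toCycles i (i + 1)), reassoc_of% (hσ i), Preadditive.sub_comp,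
      Category.id_comp, Category.assoc, Q.iCycles_d, comp_zero, sub_zero, Q.toCycles_i]
  have hC : ∀ i, Q.d i (i + 1) ≫ r (i + 1) = Q.toCycles i (i + 1) := fun i => by
    rw [← Q.toCycles_i i (i + 1), Category.assoc, hr, Category.comp_id]
  constructor
  intro X Y g f _
  haveI : ∀ i, Mono (f.f i) := mono_f_of_mono f
  -- extensions
  have hext : ∀ i, ∃ a : Y.X i ⟶ Q.cycles i, f.f i ≫ a = g.f i ≫ r i := fun i => by
    haveI := hinj i
    refine ⟨Injective.factorThru (g.f i ≫ r i ≫ Q.iCycles i) (f.f i) ≫ r i, ?_⟩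
    rw [Injective.comp_factorThru_assoc, Category.assoc, Category.assoc, hr, Category.comp_id]
  choose a ha using hext
  let h : Y ⟶ Q :=
    { f := fun i => a i ≫ Q.iCycles i + Y.d i (i + 1) ≫ a (i + 1) ≫ σ i
      comm' := fun i j hij => by
        obtain rfl : i + 1 = j := hij
        simp only [Preadditive.add_comp, Preadditive.comp_add, Category.assoc, Q.iCycles_d,
          comp_zero, zero_add, hB, HomologicalComplex.d_comp_d_assoc, zero_comp, add_zero] }
  refine ⟨h, ?_⟩
  ext i
  change f.f i ≫ (a i ≫ Q.iCycles i + Y.d i (i + 1) ≫ a (i + 1) ≫ σ i) = g.f i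
  rw [Preadditive.comp_add, reassoc_of% (ha i), f.comm_assoc, reassoc_of% (ha (i + 1)),
    ← g.comm_assoc, reassoc_of% (hC i), ← Preadditive.comp_add, hA, Category.comp_id]


end Groth.Agent.S8348
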