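import Groth.Statements.S8349
import Mathlib.Algebra.Homology.ShortComplex.HomologicalComplex
import Mathlib.Algebra.Homology.HomologicalComplexAbelian
import Mathlib.CategoryTheory.Preadditive.Injective.Basic
import Mathlib.Algebra.Homology.Refinements
import Mathlib.CategoryTheory.Abelian.Refinements

set_option autoImplicit false
universe v u
open CategoryTheory CategoryTheory.Limits
open HomAlg3

namespace Groth.Agent.S8349


variable {C : Type u} [Category.{v} C] [Abelian C]

/-- exactness from a contracting homotopy at a spot. -/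
theorem exact_of_contraction (S : ShortComplex C) (r : S.X₂ ⟶ S.X₁) (s : S.X₃ ⟶ S.X₂)
    (h : r ≫ S.f + S.g ≫ s = 𝟙 S.X₂) : S.Exact := by
  rw [ShortComplex.exact_iff_exact_up_to_refinements]
  intro A x₂ hx₂
  refine ⟨A, 𝟙 A, inferInstance, x₂ ≫ r, ?_⟩
  have := congrArg (fun k => x₂ ≫ k) h
  simp only [Preadditive.comp_add, Category.comp_id] at this
  rw [reassoc_of% hx₂, zero_comp, add_zero] at this
  rw [Category.id_comp, Category.assoc, this]

theorem aux1 {X Y Z : C} : ((biprod.snd : X ⊞ Y ⟶ Y) ≫ (biprod.inl : Y ⟶ Y ⊞ Z)) ≫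
    (biprod.fst : Y ⊞ Z ⟶ Y) ≫ (biprod.inr : Y ⟶ X ⊞ Y) = biprod.snd ≫ biprod.inr := by simp

theorem aux2 {X Y Z : C} : ((biprod.fst : Y ⊞ Z ⟶ Y) ≫ (biprod.inr : Y ⟶ X ⊞ Y)) ≫
    (biprod.snd : X ⊞ Y ⟶ Y) ≫ (biprod.inl : Y ⟶ Y ⊞ Z) = biprod.fst ≫ biprod.inl := by simp

theorem aux3 {X Y Z : C} : ((biprod.fst : X ⊞ Y ⟶ X) ≫ (biprod.inl : X ⟶ X ⊞ Y)) ≫
    (biprod.snd : X ⊞ Y ⟶ Y) ≫ (biprod.inl : Y ⟶ Y ⊞ Z) = 0 := by simp

section
variable (I : ℕ → C)

/-- the complex with `Q^i = I^i ⊞ I^{i+1}` and differential `(x, y) ↦ (y, 0)`. -/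
noncomputable def Qc : CochainComplex C ℕ :=
  CochainComplex.of (fun i => I i ⊞ I (i + 1)) (fun i => biprod.snd ≫ biprod.inl)
    (fun i => by simp)

theorem Qc_d (i : ℕ) : (Qc I).d i (i + 1) = biprod.snd ≫ biprod.inl := by
  simp [Qc]

/-- the contraction `s : Q^{i+1} → Q^i`, `(u, v) ↦ (0, u)`. -/
noncomputable def sQ (i : ℕ) : (Qc I).X (i + 1) ⟶ (Qc I).X i :=
  (biprod.fst : I (i + 1) ⊞ I (i + 1 + 1) ⟶ I (i + 1)) ≫ (biprod.inr : I (i + 1) ⟶ I i ⊞ I (i + 1))

theorem d_sQ (i : ℕ) : (Qc I).d i (i + 1) ≫ sQ I i =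
    (biprod.snd : I i ⊞ I (i + 1) ⟶ I (i + 1)) ≫ (biprod.inr : I (i + 1) ⟶ I i ⊞ I (i + 1)) := by
  rw [Qc_d]
  exact aux1

theorem sQ_d (i : ℕ) : sQ I i ≫ (Qc I).d i (i + 1) =
    (biprod.fst : I (i + 1) ⊞ I (i + 1 + 1) ⟶ I (i + 1)) ≫
      (biprod.inl : I (i + 1) ⟶ I (i + 1) ⊞ I (i + 1 + 1)) := by
  rw [Qc_d]
  exact aux2

theorem isZero_homology_Qc (i : ℕ) : IsZero ((Qc I).homology (i + 1)) := by
  rw [← HomologicalComplex.exactAt_iff_isZero_homology,
    HomologicalComplex.exactAt_iff' _ i (i + 1) (i + 1 + 1) (by simp) (by simp)]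
  refine exact_of_contraction _ (sQ I i) (sQ I (i + 1)) ?_
  change sQ I i ≫ (Qc I).d i (i + 1) + (Qc I).d (i + 1) (i + 1 + 1) ≫ sQ I (i + 1) = 𝟙 _
  rw [sQ_d, d_sQ]
  exact biprod.total

theorem isSplitMono_iCycles_Qc (i : ℕ) : IsSplitMono ((Qc I).iCycles i) := by
  let p : (Qc I).X i ⟶ (Qc I).X i :=
    (biprod.fst : I i ⊞ I (i + 1) ⟶ I i) ≫ (biprod.inl : I i ⟶ I i ⊞ I (i + 1))
  have hp : p ≫ (Qc I).d i (i + 1) = 0 := by
    rw [Qc_d]; exact aux3
  have hp2 : p + (Qc I).d i (i + 1) ≫ sQ I i = 𝟙 _ := by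
    rw [d_sQ]; exact biprod.total
  refine ⟨⟨⟨(Qc I).liftCycles p (i + 1) (by simp) hp, ?_⟩⟩⟩
  rw [← cancel_mono ((Qc I).iCycles i), Category.assoc, HomologicalComplex.liftCycles_i,
    Category.id_comp]
  have := congrArg (fun k => (Qc I).iCycles i ≫ k) hp2
  simp only [Preadditive.comp_add, Category.comp_id] at this
  rw [HomologicalComplex.iCycles_d_assoc, zero_comp, add_zero] at this
  exact this

end

/-- Let C be an abelian category in which every object embeds in an injective object, and let A be a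
cochain complex of objects of C in degrees 0, 1, 2, .... Then there are a cochain complex Q, with
every Q^i injective, H^i(Q) = 0 for every i ≥ 1 and every cycle inclusion Z^i(Q) ⟶ Q^i (i ≥ 0) a
split monomorphism, and a monomorphism of complexes A ⟶ Q. (The published statement asks Z^i(Q) =
B^i(Q) for every i ≥ 0; in degree 0, where there is no incoming differential, this makes Z^0(Q) = 0,
and then no complex with nonzero degree-0 cycles, for instance a nonzero object placed in degree 0,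
embeds in such a Q, because the degree-0 component of a chain map into Q factors through Z^0(Q).
This row asks vanishing homology in positive degrees only; the published construction, which embeds
each A^i in an injective I^i and takes Q^i = I^i ⊕ I^{i+1}, proves that version once an injective
I^0 containing A^0 is used in degree 0 as well.) -/
theorem result {C : Type u} [Category.{v} C] [Abelian C]
    [EnoughInjectives C] (A : CochainComplex C ℕ) :
    ∃ (Q : CochainComplex C ℕ) (f : A ⟶ Q), Mono f ∧ (∀ i : ℕ, Injective (Q.X i)) ∧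
      (∀ i : ℕ, IsZero (Q.homology (i + 1))) ∧ ∀ i : ℕ, IsSplitMono (Q.iCycles i) := by
  let I : ℕ → C := fun i => Injective.under (A.X i)
  let f : A ⟶ Qc I :=
    { f := fun i => biprod.lift (Injective.ι (A.X i)) (A.d i (i + 1) ≫ Injective.ι (A.X (i + 1)))
      comm' := fun i j hij => by
        obtain rfl : i + 1 = j := hij
        rw [Qc_d]
        change biprod.lift (Injective.ι (A.X i)) (A.d i (i + 1) ≫ Injective.ι (A.X (i + 1))) ≫
          (biprod.snd : I i ⊞ I (i + 1) ⟶ I (i + 1)) ≫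
            (biprod.inl : I (i + 1) ⟶ I (i + 1) ⊞ I (i + 1 + 1)) =
          A.d i (i + 1) ≫ biprod.lift (Injective.ι (A.X (i + 1)))
            (A.d (i + 1) (i + 1 + 1) ≫ Injective.ι (A.X (i + 1 + 1)))
        apply biprod.hom_ext
        · simp only [Category.assoc, biprod.inl_fst, Category.comp_id]
          rw [biprod.lift_snd, biprod.lift_fst]
        · simp only [Category.assoc, biprod.inl_snd, comp_zero]
          rw [biprod.lift_snd, HomologicalComplex.d_comp_d_assoc, zero_comp] }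
  refine ⟨Qc I, f, ?_, ?_, isZero_homology_Qc I, isSplitMono_iCycles_Qc I⟩
  · haveI : ∀ i, Mono (f.f i) := fun i => by
      have : f.f i ≫ (biprod.fst : I i ⊞ I (i + 1) ⟶ I i) = Injective.ι (A.X i) :=
        biprod.lift_fst _ _
      exact mono_of_mono_fac this
    exact HomologicalComplex.mono_of_mono_f f inferInstance
  · intro i
    change Injective (I i ⊞ I (i + 1))
    infer_instance


end Groth.Agent.S8349
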