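import Groth.Statements.S8352
-- import your own Groth.Agent.* helpers here

set_option autoImplicit false
universe u
open CategoryTheory CategoryTheory.Limits Opposite
open HomAlg3

namespace Groth.Agent.S8352


section
variable {G : ℕᵒᵖ ⥤ Type u}
  (hG : ∀ n, Function.Surjective (G.map (homOfLE (Nat.le_succ n)).op))

/-- successive lifts of `x : G p` -/
noncomputable def up (p : ℕ) (x : G.obj (op p)) : (k : ℕ) → G.obj (op (p + k))
  | 0 => x
  | k + 1 => (hG (p + k) (up p x k)).choose

theorem up_succ (p : ℕ) (x : G.obj (op p)) (k : ℕ) :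
    G.map (homOfLE (Nat.le_succ (p + k))).op (up hG p x (k + 1)) = up hG p x k :=
  (hG (p + k) (up hG p x k)).choose_spec

theorem up_le (p : ℕ) (x : G.obj (op p)) (j k : ℕ) (h : j ≤ k) :
    G.map (homOfLE (Nat.add_le_add_left h p)).op (up hG p x k) = up hG p x j := by
  induction h with
  | refl =>
    have : (homOfLE (Nat.add_le_add_left (le_refl j) p)).op = 𝟙 (op (p + j)) := Subsingleton.elim _ _
    rw [this, G.map_id]; rfl
  | @step m h ih =>
    rw [← ih, ← up_succ hG p x m]
    rw [← types_comp_apply (G.map _) (G.map _), ← G.map_comp]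
    congr 1

include hG in
theorem exists_section (p : ℕ) (x : G.obj (op p)) :
    ∃ s : G.sections, s.val (op p) = x := by
  refine ⟨⟨fun n => G.map (homOfLE (Nat.le_add_left n.unop p)).op (up hG p x n.unop), ?_⟩, ?_⟩
  · intro ⟨n⟩ ⟨m⟩ f
    have hmn : m ≤ n := leOfHom f.unop
    simp only
    rw [← types_comp_apply (G.map _) (G.map f), ← G.map_comp]
    rw [← up_le hG p x m n hmn, ← types_comp_apply (G.map _) (G.map _), ← G.map_comp]
    congr 1
  · exact up_le hG p x 0 p (Nat.zero_le p)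
end

theorem mem_range_of_mem_eventualRange (F : ℕᵒᵖ ⥤ AddCommGrpCat.{u})
    (hF : (F ⋙ forget AddCommGrpCat).IsMittagLeffler) (p : ℕ) (x : F.obj (op p))
    (hx : x ∈ (F ⋙ forget AddCommGrpCat).eventualRange (op p)) :
    x ∈ (limit.π F (op p)).hom.range := by
  have hG : ∀ n, Function.Surjective
      ((F ⋙ forget AddCommGrpCat).toEventualRanges.map (homOfLE (Nat.le_succ n)).op) :=
    fun n => Functor.surjective_toEventualRanges _ hF _
  obtain ⟨s, hs⟩ := exists_section hG p ⟨x, hx⟩
  let s' := (F ⋙ forget AddCommGrpCat).toEventualRangesSectionsEquiv s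
  let t := isLimitOfPreserves (forget AddCommGrpCat) (limit.isLimit F)
  let y := (Types.isLimitEquivSections t).symm s'
  have hy := Types.isLimitEquivSections_symm_apply t s' (op p)
  refine ⟨y, ?_⟩
  have h2 : s'.val (op p) = x := congrArg Subtype.val hs
  rw [← h2, ← hy]
  rfl

theorem mem_eventualRange_iff (F : ℕᵒᵖ ⥤ AddCommGrpCat.{u}) (p : ℕ) (x : F.obj (op p)) :
    x ∈ (F ⋙ forget AddCommGrpCat).eventualRange (op p) ↔
      ∀ (k : ℕ) (hk : p ≤ k), x ∈ (F.map (homOfLE hk).op).hom.range := by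
  rw [Functor.mem_eventualRange_iff]
  constructor
  · intro h k hk
    exact h (homOfLE hk).op
  · intro h i f
    have hk : p ≤ i.unop := leOfHom f.unop
    have : f = (homOfLE hk).op := Subsingleton.elim _ _
    rw [this]
    exact h i.unop hk

theorem mem_range_of_forall (F : ℕᵒᵖ ⥤ AddCommGrpCat.{u})
    (hF : (F ⋙ forget AddCommGrpCat).IsMittagLeffler) (p : ℕ) (x : F.obj (op p))
    (hx : ∀ (k : ℕ) (hk : p ≤ k), x ∈ (F.map (homOfLE hk).op).hom.range) :
    x ∈ (limit.π F (op p)).hom.range :=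
  mem_range_of_mem_eventualRange F hF p x ((mem_eventualRange_iff F p x).2 hx)

theorem mem_range_map_of_mem_range (F : ℕᵒᵖ ⥤ AddCommGrpCat.{u}) (p : ℕ) (x : F.obj (op p))
    (hx : x ∈ (limit.π F (op p)).hom.range) (k : ℕ) (hk : p ≤ k) :
    x ∈ (F.map (homOfLE hk).op).hom.range := by
  obtain ⟨y, rfl⟩ := hx
  refine ⟨(limit.π F (op k)).hom y, ?_⟩
  rw [← limit.w F (homOfLE hk).op]
  rfl

/-- Category of abelian groups, system indexed by the natural numbers: Let (A_k) be an inverse system of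
abelian groups satisfying the Mittag-Leffler condition, A = lim A_k with projections π_p : A ⟶ A_p.
Filter A and each A_k by the kernels of the maps to A_{p-1} (with A_{-1} = 0); the graded piece
gr^p(A) is identified with Im(π_p) ∩ Ker(A_p ⟶ A_{p-1}) and gr^p(A_k), k ≥ p, with Im(A_k ⟶ A_p) ∩
Ker(A_p ⟶ A_{p-1}), a decreasing family of subgroups of A_p. The statement gr^p(A) ≅ lim_k gr^p(A_k)
then reads: Im(π_0) = ⋂_k Im(A_k ⟶ A_0), and for every p, Im(π_{p+1}) ∩ Ker(A_{p+1} ⟶ A_p) = ⋂_{k ≥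
p+1} (Im(A_k ⟶ A_{p+1}) ∩ Ker(A_{p+1} ⟶ A_p)). -/
theorem result (F : ℕᵒᵖ ⥤ AddCommGrpCat.{u})
    (hF : (F ⋙ forget AddCommGrpCat).IsMittagLeffler) :
    (limit.π F (op 0)).hom.range = ⨅ k : ℕ, (F.map (homOfLE (Nat.zero_le k)).op).hom.range ∧
      ∀ p : ℕ, (limit.π F (op (p + 1))).hom.range ⊓ (F.map (homOfLE (Nat.le_succ p)).op).hom.ker =
        ⨅ (k : ℕ) (hk : p + 1 ≤ k),
          (F.map (homOfLE hk).op).hom.range ⊓ (F.map (homOfLE (Nat.le_succ p)).op).hom.ker := by
  constructor
  · ext x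
    simp only [AddSubgroup.mem_iInf]
    constructor
    · intro hx k
      exact mem_range_map_of_mem_range F 0 x hx k (Nat.zero_le k)
    · intro hx
      exact mem_range_of_forall F hF 0 x (fun k _ => hx k)
  · intro p
    ext x
    simp only [AddSubgroup.mem_iInf, AddSubgroup.mem_inf]
    constructor
    · rintro ⟨hx, hker⟩ k hk
      exact ⟨mem_range_map_of_mem_range F (p + 1) x hx k hk, hker⟩
    · intro hx
      exact ⟨mem_range_of_forall F hF (p + 1) x (fun k hk => (hx k hk).1), (hx (p + 1) le_rfl).2⟩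


end Groth.Agent.S8352
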