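import Groth.Statements.S8353
import Mathlib

set_option autoImplicit false
universe u
open HomAlg3

namespace Groth.Agent.S8353

open Submodule

section Key
variable {S : Type u} [CommRing S] (J : Ideal S) [IsAdicComplete J S]
  {M : Type u} [AddCommGroup M] [Module S M]

theorem pow_smul_le (G : ℕ → Submodule S M) (hG1 : ∀ k, J • G k ≤ G (k + 1)) (K : ℕ) :
    J ^ K • G 0 ≤ G K := by
  induction K with
  | zero => simp
  | succ K ih =>
    rw [pow_succ', mul_smul]
    exact (Submodule.smul_mono (le_refl J) ih).trans (hG1 K)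

/-- one approximation step -/
theorem step {ι : Type u} [Fintype ι] (x : ι → M) (G : ℕ → Submodule S M)
    (hG1 : ∀ k, J • G k ≤ G (k + 1)) (hG2 : ∀ k, G (k + 1) ≤ J • G k ⊔ G (k + 2))
    (h0 : G 0 ≤ span S (Set.range x) ⊔ G 1) (k : ℕ) :
    G k ≤ J ^ k • span S (Set.range x) ⊔ G (k + 1) := by
  induction k with
  | zero => simpa using h0
  | succ k ih =>
    refine (hG2 k).trans ?_
    refine sup_le ?_ le_sup_right
    refine (Submodule.smul_mono (le_refl J) ih).trans ?_
    rw [Submodule.smul_sup, ← mul_smul, ← pow_succ']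
    exact sup_le le_sup_left ((hG1 (k + 1)).trans le_sup_right)

theorem step' {ι : Type u} [Fintype ι] (x : ι → M) (G : ℕ → Submodule S M)
    (hG1 : ∀ k, J • G k ≤ G (k + 1)) (hG2 : ∀ k, G (k + 1) ≤ J • G k ⊔ G (k + 2))
    (h0 : G 0 ≤ span S (Set.range x) ⊔ G 1) (k : ℕ) (y : M) :
    ∃ c : ι → S, (∀ i, c i ∈ J ^ k) ∧ (y ∈ G k → y - ∑ i, c i • x i ∈ G (k + 1)) := by
  by_cases hy : y ∈ G k
  · have h1 := step J x G hG1 hG2 h0 k hy
    obtain ⟨z, hz, w, hw, rfl⟩ := Submodule.mem_sup.mp h1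
    obtain ⟨a, ha, rfl⟩ := (Submodule.mem_ideal_smul_span_iff_exists_sum (J ^ k) x z).mp hz
    refine ⟨fun i => a i, ha, fun _ => ?_⟩
    rw [Finsupp.sum_fintype _ _ (fun i => zero_smul S (x i))]
    simpa using hw
  · exact ⟨0, fun i => Submodule.zero_mem _, fun h => absurd h hy⟩

theorem approx {ι : Type u} [Fintype ι] (x : ι → M) (G : ℕ → Submodule S M) (hx : ∀ i, x i ∈ G 0)
    (hG1 : ∀ k, J • G k ≤ G (k + 1)) (hG2 : ∀ k, G (k + 1) ≤ J • G k ⊔ G (k + 2))
    (h0 : G 0 ≤ span S (Set.range x) ⊔ G 1) (hanti : Antitone G) (hsep : ⨅ k, G k = ⊥)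
    (k₀ : ℕ) (y₀ : M) (hy₀ : y₀ ∈ G k₀) :
    ∃ a : ι → S, (∀ i, a i ∈ J ^ k₀) ∧ y₀ = ∑ i, a i • x i := by
  choose cf hcf1 hcf2 using step' J x G hG1 hG2 h0
  -- the sequences
  let ys : ℕ → M := fun k => Nat.rec y₀ (fun k y => y - ∑ i, cf (k₀ + k) y i • x i) k
  have ys0 : ys 0 = y₀ := rfl
  have ys1 : ∀ k, ys (k + 1) = ys k - ∑ i, cf (k₀ + k) (ys k) i • x i := fun k => rfl
  let as : ℕ → ι → S := fun k => Nat.rec 0 (fun k a => a + cf (k₀ + k) (ys k)) k
  have as0 : as 0 = 0 := rfl
  have as1 : ∀ k, as (k + 1) = as k + cf (k₀ + k) (ys k) := fun k => rfl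
  have hys : ∀ k, ys k ∈ G (k₀ + k) := by
    intro k
    induction k with
    | zero => exact hy₀
    | succ k ih => rw [ys1]; exact hcf2 (k₀ + k) (ys k) ih
  have hinv : ∀ k, y₀ = ∑ i, as k i • x i + ys k := by
    intro k
    induction k with
    | zero => simp [as0, ys0]
    | succ k ih =>
      rw [as1, ys1]
      simp only [Pi.add_apply, add_smul, Finset.sum_add_distrib]
      rw [ih]; abel
  have hinc : ∀ k i, as (k + 1) i - as k i ∈ J ^ (k₀ + k) := by
    intro k i
    rw [as1]
    simp only [Pi.add_apply, add_sub_cancel_left]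
    exact hcf1 _ _ i
  have hcauchy : ∀ i m l, as (m + l) i - as m i ∈ J ^ (k₀ + m) := by
    intro i m l
    induction l with
    | zero => simp
    | succ l ih =>
      have e : as (m + (l + 1)) i - as m i =
          (as (m + l + 1) i - as (m + l) i) + (as (m + l) i - as m i) := by
        rw [← add_assoc]; ring
      rw [e]
      refine Ideal.add_mem _ ?_ ih
      exact Ideal.pow_le_pow_right (by omega) (hinc (m + l) i)
  have hmem : ∀ i k, as k i ∈ J ^ k₀ := by
    intro i k
    have := hcauchy i 0 k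
    rw [zero_add, as0] at this
    simpa using Ideal.pow_le_pow_right (by omega) this
  -- limits
  have hlim : ∀ i, ∃ L : S, ∀ k, as k i ≡ L [SMOD (J ^ k • ⊤ : Submodule S S)] := by
    intro i
    refine IsPrecomplete.prec' (I := J) (fun k => as k i) ?_
    intro m l hml
    obtain ⟨d, rfl⟩ := Nat.exists_eq_add_of_le hml
    rw [SModEq.sub_mem]
    have h1 := hcauchy i m d
    have h2 : as m i - as (m + d) i ∈ J ^ m := by
      have := Ideal.pow_le_pow_right (show m ≤ k₀ + m by omega) h1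
      rw [← neg_sub]; exact Ideal.neg_mem_iff _ |>.mpr this
    simpa using h2
  choose a ha using hlim
  have ha' : ∀ i k, as k i - a i ∈ J ^ k := by
    intro i k
    have := ha i k
    rw [SModEq.sub_mem] at this
    simpa using this
  refine ⟨a, fun i => ?_, ?_⟩
  · have h1 := ha' i k₀
    have h2 := hmem i k₀
    have e : a i = as k₀ i - (as k₀ i - a i) := by ring
    rw [e]
    exact Ideal.sub_mem _ h2 h1
  · have hz : ∀ K, y₀ - ∑ i, a i • x i ∈ G K := by
      intro K
      have e : y₀ - ∑ i, a i • x i = ys K + ∑ i, (as K i - a i) • x i := by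
        rw [hinv K]
        simp only [sub_smul, Finset.sum_sub_distrib]
        abel
      rw [e]
      refine Submodule.add_mem _ (hanti (by omega) (hys K)) ?_
      refine Submodule.sum_mem _ (fun i _ => ?_)
      exact pow_smul_le J G hG1 K (Submodule.smul_mem_smul (ha' i K) (hx i))
    have : y₀ - ∑ i, a i • x i ∈ ⨅ k, G k := by
      rw [Submodule.mem_iInf]; exact hz
    rw [hsep, Submodule.mem_bot, sub_eq_zero] at this
    exact this

theorem key (G : ℕ → Submodule S M)
    (hG1 : ∀ k, J • G k ≤ G (k + 1)) (hG2 : ∀ k, G (k + 1) ≤ J • G k ⊔ G (k + 2))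
    (hanti : Antitone G) (hsep : ⨅ k, G k = ⊥)
    (hfg : (Submodule.map (G 1).mkQ (G 0)).FG) : (G 0).FG ∧ G 1 = J • G 0 := by
  obtain ⟨T, hT⟩ := hfg
  have hlift : ∀ t : T, ∃ y ∈ G 0, (G 1).mkQ y = t := by
    intro t
    have : (t : M ⧸ G 1) ∈ Submodule.map (G 1).mkQ (G 0) := by rw [← hT]; exact subset_span t.2
    exact this
  choose xT hxT1 hxT2 using hlift
  have himg : (G 1).mkQ '' (Set.range xT) = (T : Set (M ⧸ G 1)) := by
    ext z
    constructor
    · rintro ⟨_, ⟨t, rfl⟩, rfl⟩
      rw [hxT2]; exact t.2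
    · intro hz
      exact ⟨xT ⟨z, hz⟩, ⟨_, rfl⟩, hxT2 ⟨z, hz⟩⟩
  have h0 : G 0 ≤ span S (Set.range xT) ⊔ G 1 := by
    intro y hy
    have h1 : (G 1).mkQ y ∈ Submodule.map (G 1).mkQ (span S (Set.range xT)) := by
      rw [Submodule.map_span, himg, hT]
      exact ⟨y, hy, rfl⟩
    have h2 : y ∈ Submodule.comap (G 1).mkQ (Submodule.map (G 1).mkQ (span S (Set.range xT))) := h1
    rwa [Submodule.comap_map_eq, Submodule.ker_mkQ] at h2
  have hN : span S (Set.range xT) ≤ G 0 := by
    rw [Submodule.span_le]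
    rintro _ ⟨t, rfl⟩
    exact hxT1 t
  constructor
  · have : G 0 = span S (Set.range xT) := by
      apply le_antisymm _ hN
      intro y hy
      obtain ⟨a, -, rfl⟩ := approx J xT G hxT1 hG1 hG2 h0 hanti hsep 0 y hy
      exact Submodule.sum_mem _ (fun i _ => Submodule.smul_mem _ _ (subset_span ⟨i, rfl⟩))
    rw [this]
    exact Submodule.fg_span (Set.finite_range _)
  · apply le_antisymm _ (hG1 0)
    intro y hy
    obtain ⟨a, ha, rfl⟩ := approx J xT G hxT1 hG1 hG2 h0 hanti hsep 1 y hy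
    refine Submodule.sum_mem _ (fun i _ => ?_)
    rw [pow_one] at ha
    exact Submodule.smul_mem_smul (ha i) (hxT1 i)

end Key

/-- Let S be a Noetherian ring which is separated and complete for the adic topology of an ideal J, and
let M be an S-module with a decreasing filtration (F^p M)_{p ∈ ℤ} by submodules such that F^p M = M
for some p, J·F^p M ⊆ F^{p+1} M for all p, and ⋂_p F^p M = 0. Then the following are equivalent: (a)
M is a finitely generated S-module and J·F^p M = F^{p+1} M for all large p; (c) every F^p M /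
F^{p+1} M is a finitely generated S-module and, for all large p, the map J ⊗ (F^p M/F^{p+1} M) ⟶
F^{p+1} M/F^{p+2} M is surjective, that is F^{p+1} M = J·F^p M + F^{p+2} M. (The published statement
also lists a third equivalent condition, finite generation of the associated graded module over the
associated graded ring; this row states the equivalence of the other two.) -/
theorem result {S : Type u} [CommRing S] [IsNoetherianRing S]
    (J : Ideal S) [IsAdicComplete J S] {M : Type u} [AddCommGroup M] [Module S M]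
    (F : ℤ → Submodule S M) (hF : Antitone F) (hcod : ∃ p₀ : ℤ, F p₀ = ⊤)
    (hJ : ∀ p : ℤ, J • F p ≤ F (p + 1)) (hsep : ⨅ p : ℤ, F p = ⊥) :
    (Module.Finite S M ∧ ∃ p₁ : ℤ, ∀ p : ℤ, p₁ ≤ p → J • F p = F (p + 1)) ↔
      ((∀ p : ℤ, (Submodule.map (F (p + 1)).mkQ (F p)).FG) ∧
        ∃ p₁ : ℤ, ∀ p : ℤ, p₁ ≤ p → F (p + 1) = J • F p ⊔ F (p + 2)) := by
  constructor
  · rintro ⟨hfin, p₁, hp₁⟩
    haveI := hfin
    refine ⟨fun p => ?_, p₁, fun p hp => ?_⟩
    · exact Submodule.FG.map _ (IsNoetherian.noetherian (F p))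
    · rw [hp₁ p hp]
      have : F (p + 2) ≤ F (p + 1) := hF (by omega)
      exact (sup_eq_left.mpr this).symm
  · rintro ⟨hgr, p₁, hp₁⟩
    obtain ⟨p₀, hp₀⟩ := hcod
    have hkey : ∀ q : ℤ, p₁ ≤ q → (F q).FG ∧ F (q + 1) = J • F q := by
      intro q hq
      let G : ℕ → Submodule S M := fun k => F (q + k)
      have e1 : ∀ k : ℕ, q + ((k + 1 : ℕ) : ℤ) = q + k + 1 := fun k => by push_cast; ring
      have e2 : ∀ k : ℕ, q + ((k + 2 : ℕ) : ℤ) = q + k + 2 := fun k => by push_cast; ring
      have hG1 : ∀ k, J • G k ≤ G (k + 1) := fun k => by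
        show J • F (q + k) ≤ F (q + ((k + 1 : ℕ) : ℤ))
        rw [e1]; exact hJ _
      have hG2 : ∀ k, G (k + 1) ≤ J • G k ⊔ G (k + 2) := fun k => by
        show F (q + ((k + 1 : ℕ) : ℤ)) ≤ J • F (q + k) ⊔ F (q + ((k + 2 : ℕ) : ℤ))
        rw [e1, e2]
        exact (hp₁ (q + k) (by omega)).le
      have hanti : Antitone G := fun a b hab => hF (by
        have : (a : ℤ) ≤ b := by exact_mod_cast hab
        omega)
      have hsepG : ⨅ k, G k = ⊥ := by
        rw [eq_bot_iff]
        intro y hy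
        rw [Submodule.mem_iInf] at hy
        have : y ∈ ⨅ p : ℤ, F p := by
          rw [Submodule.mem_iInf]
          intro p
          by_cases hpq : p ≤ q
          · have h0 : y ∈ F (q + ((0 : ℕ) : ℤ)) := hy 0
            exact hF (by simp [hpq]) h0
          · have h1 : y ∈ F (q + (((p - q).toNat : ℕ) : ℤ)) := hy (p - q).toNat
            have e : q + (((p - q).toNat : ℕ) : ℤ) = p := by
              rw [Int.toNat_of_nonneg (by omega)]; ring
            rwa [e] at h1
        rwa [hsep] at this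
      have hfg0 : (Submodule.map (G 1).mkQ (G 0)).FG := by
        have h := hgr q
        have e0 : G 0 = F q := by show F (q + ((0 : ℕ) : ℤ)) = F q; simp
        have e1' : G 1 = F (q + 1) := by show F (q + ((1 : ℕ) : ℤ)) = F (q + 1); simp
        rw [e0, e1']; exact h
      have := key J G hG1 hG2 hanti hsepG hfg0
      have e0 : G 0 = F q := by show F (q + ((0 : ℕ) : ℤ)) = F q; simp
      have e1' : G 1 = F (q + 1) := by show F (q + ((1 : ℕ) : ℤ)) = F (q + 1); simp
      rw [e0, e1'] at this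
      exact this
    refine ⟨?_, p₁, fun p hp => ((hkey p hp).2).symm⟩
    -- finiteness
    obtain ⟨q₁, hq₁, hq₁'⟩ : ∃ q₁ : ℤ, p₁ ≤ q₁ ∧ p₀ ≤ q₁ := ⟨max p₁ p₀, le_max_left _ _, le_max_right _ _⟩
    have hall : ∀ n : ℕ, (F (q₁ - n)).FG := by
      intro n
      induction n with
      | zero => simpa using (hkey q₁ hq₁).1
      | succ n ih =>
        have e : q₁ - ((n + 1 : ℕ) : ℤ) + 1 = q₁ - n := by push_cast; ring
        have h1 := hgr (q₁ - ((n + 1 : ℕ) : ℤ))
        rw [e] at h1
        refine Submodule.fg_of_fg_map_of_fg_inf_ker (F (q₁ - n)).mkQ h1 ?_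
        rw [Submodule.ker_mkQ]
        have : F (q₁ - n) ≤ F (q₁ - ((n + 1 : ℕ) : ℤ)) := hF (by push_cast; omega)
        rw [inf_eq_right.mpr this]
        exact ih
    have := hall (q₁ - p₀).toNat
    rw [Int.toNat_of_nonneg (by omega), sub_sub_cancel, hp₀] at this
    exact Module.finite_def.mpr this


end Groth.Agent.S8353
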