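import Groth.Statements.S8361
import Groth.Prelude.Def_LieS
import Mathlib.AlgebraicGeometry.Morphisms.Immersion
import Mathlib.AlgebraicGeometry.Morphisms.IsIso
import Mathlib.RingTheory.Spectrum.Prime.RingHom

set_option autoImplicit false
universe u
open CategoryTheory MonObj AlgebraicGeometry
open LieS

namespace Groth.Agent.S8361

open CategoryTheory CategoryTheory.Limits AlgebraicGeometry Opposite


/-- `Spec φ` is an epimorphism of schemes when `φ` is injective and `Spec φ` is surjective. -/
theorem epi_spec_map {A A' : CommRingCat.{u}} (φ : A ⟶ A') (hinj : Function.Injective φ.hom)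
    (hsurj : Function.Surjective (Spec.map φ).base) : Epi (Spec.map φ) := by
  constructor
  intro G u v huv
  let e := equalizer.ι u v
  let l : Spec A' ⟶ equalizer u v := equalizer.lift (Spec.map φ) huv
  have hl : l ≫ e = Spec.map φ := equalizer.lift_ι _ _
  have hes : Function.Surjective e.base := by
    intro x
    obtain ⟨y, hy⟩ := hsurj x
    refine ⟨l.base y, ?_⟩
    rw [← hy, ← hl]
    rfl
  haveI : IsClosedImmersion e := by
    refine IsClosedImmersion.of_isPreimmersion e ?_
    rw [Set.range_eq_univ.2 hes]
    exact isClosed_univ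
  obtain ⟨haff, hsur⟩ := IsClosedImmersion.isAffine_surjective_of_isAffine e
  have hinj' : Function.Injective e.appTop.hom := by
    have h1 : e.appTop ≫ l.appTop = (Spec.map φ).appTop := by
      rw [← hl, Scheme.Hom.comp_appTop]
    have h2 : Function.Injective (Spec.map φ).appTop.hom := by
      have h3 : (Scheme.ΓSpecIso A).inv ≫ (Spec.map φ).appTop = φ ≫ (Scheme.ΓSpecIso A').inv := by
        rw [Iso.inv_comp_eq, ← Scheme.ΓSpecIso_naturality_assoc, Iso.hom_inv_id, Category.comp_id]
      have h4 : (Spec.map φ).appTop = (Scheme.ΓSpecIso A).hom ≫ φ ≫ (Scheme.ΓSpecIso A').inv := by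
        rw [← h3, Iso.hom_inv_id_assoc]
      rw [h4]
      intro a b hab
      simp only [CommRingCat.hom_comp, RingHom.coe_comp, Function.comp_apply] at hab
      have i1 := ((ConcreteCategory.isIso_iff_bijective (Scheme.ΓSpecIso A').inv).1 inferInstance).1
      have i2 := ((ConcreteCategory.isIso_iff_bijective (Scheme.ΓSpecIso A).hom).1 inferInstance).1
      exact i2 (hinj (i1 hab))
    intro a b hab
    apply h2
    rw [← h1]
    simp only [CommRingCat.hom_comp, RingHom.coe_comp, Function.comp_apply, hab]
  haveI : IsIso e.appTop :=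
    (ConcreteCategory.isIso_iff_bijective _).2 ⟨hinj', hsur⟩
  haveI : IsIso e :=
    ((MorphismProperty.isomorphisms Scheme).arrow_mk_iso_iff (arrowIsoSpecΓOfIsAffine e)).mpr
      (inferInstanceAs (IsIso (Spec.map (e.appTop))))
  exact (cancel_epi e).1 (equalizer.condition u v)


open LieS in
theorem mulHom_injective (B : Type u) [CommRing B] : Function.Injective (mulHom B) := by
  rw [injective_iff_map_eq_zero]
  intro x hx
  have h1 : (mulHom B x).fst.fst = x.fst := by
    simp [mulHom, toD2, TrivSqZeroExt.algebraMap_eq_inl']
  have h2 : (mulHom B x).snd.snd = x.snd := by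
    simp [mulHom, toD2, TrivSqZeroExt.algebraMap_eq_inl']
  rw [hx] at h1 h2
  ext
  · simpa using h1.symm
  · simpa using h2.symm

open LieS in
theorem spec_mulHom_surjective (B : Type u) [CommRing B] :
    Function.Surjective (Spec.map (CommRingCat.ofHom (R := DualNumber B) (S := D2 B) (mulHom B))).base := by
  let ρ : D2 B →+* B := (TrivSqZeroExt.fstHom B B B).toRingHom.comp
    (TrivSqZeroExt.fstHom (DualNumber B) (DualNumber B) (DualNumber B)).toRingHom
  have hρ : ρ.comp (mulHom B) = (TrivSqZeroExt.fstHom B B B).toRingHom := by
    refine RingHom.ext fun x => ?_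
    simp [ρ, mulHom, toD2, TrivSqZeroExt.algebraMap_eq_inl']
  have h1 : Function.Surjective
      (Spec.map (CommRingCat.ofHom (TrivSqZeroExt.fstHom B B B).toRingHom)).base := by
    intro p
    have hsurj : Function.Surjective (TrivSqZeroExt.fstHom B B B).toRingHom :=
      fun b => ⟨TrivSqZeroExt.inl b, by simp⟩
    have := range_comap_of_surjective _ (TrivSqZeroExt.fstHom B B B).toRingHom hsurj
    have hp : p ∈ PrimeSpectrum.zeroLocus
        ((RingHom.ker (TrivSqZeroExt.fstHom B B B).toRingHom : Ideal (DualNumber B)) : Set _) := by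
      intro x hx
      have hx0 : x.fst = 0 := by simpa using hx
      have hx2 : x * x = 0 := by
        ext <;> simp [hx0]
      have : x * x ∈ p.asIdeal := by rw [hx2]; exact zero_mem _
      exact (p.isPrime.mem_or_mem this).elim id id
    rw [← this] at hp
    obtain ⟨q, hq⟩ := hp
    exact ⟨q, hq⟩
  intro p
  obtain ⟨q, hq⟩ := h1 p
  refine ⟨(Spec.map (CommRingCat.ofHom ρ)).base q, ?_⟩
  rw [← hq, ← hρ, CommRingCat.ofHom_comp, Spec.map_comp]
  rfl

open LieS in

/-- Uniqueness of the bracket: for a group scheme G over a scheme S and an affine S-scheme T = Spec B: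
an element of Lie(G/S)(T) is determined by its pull-back along the coordinate-multiplying map from
the iterated dual numbers over T to the dual numbers over T; in particular the bracket of x and y,
the element whose pull-back is the commutator of x read in the second dual coordinate with y read in
the first, is unique when it exists. -/
theorem result (S : Scheme.{u}) (G : Over S) [GrpObj G] (B : Type u) [CommRing B]
    (f : Spec (CommRingCat.of B) ⟶ S) (x y z z' : LieS.Lie G B f)
    (h : LieS.IsBracket G B f x y z) (h' : LieS.IsBracket G B f x y z') : z = z' := by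
  have h0 : mulMap B f ≫ z.1 = mulMap B f ≫ z'.1 := h.trans h'.symm
  have h1 := congrArg (fun k => k.left) h0
  haveI := epi_spec_map (CommRingCat.ofHom (R := DualNumber B) (S := D2 B) (mulHom B)) (mulHom_injective B)
    (spec_mulHom_surjective B)
  have h2 : Spec.map (CommRingCat.ofHom (R := DualNumber B) (S := D2 B) (mulHom B)) ≫ z.1.left =
      Spec.map (CommRingCat.ofHom (R := DualNumber B) (S := D2 B) (mulHom B)) ≫ z'.1.left := h1
  have h3 := (cancel_epi _).1 h2
  apply Subtype.ext
  exact Over.OverMorphism.ext h3


end Groth.Agent.S8361
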