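import Groth.Statements.S8364
-- import your own Groth.Agent.* helpers here

set_option autoImplicit false
universe u
open SGA3

namespace Groth.Agent.S8364


/-- an algebra endomorphism congruent to the identity modulo a square-zero extended ideal is bijective -/
theorem bijective_of_congr_id (R A : Type u) [CommRing R] [CommRing A] [Algebra R A]
    (J : Ideal R) (hJ : J * J = ⊥) (χ : A →ₐ[R] A)
    (hχ : ∀ a : A, χ a - a ∈ Ideal.map (algebraMap R A) J) : Function.Bijective χ := by
  set I := Ideal.map (algebraMap R A) J with hI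
  have hII : I * I = ⊥ := by rw [hI, ← Ideal.map_mul, hJ, Ideal.map_bot]
  have hmul : ∀ x ∈ I, ∀ y ∈ I, x * y = 0 := by
    intro x hx y hy
    have : x * y ∈ I * I := Ideal.mul_mem_mul hx hy
    rwa [hII, Ideal.mem_bot] at this
  have hid : ∀ x ∈ I, χ x = x := by
    intro x hx
    refine Submodule.span_induction ?_ ?_ ?_ ?_ hx
    · rintro _ ⟨j, _, rfl⟩
      exact χ.commutes j
    · exact map_zero χ
    · intro x y _ _ hx hy
      rw [map_add, hx, hy]
    · intro a x hx' hx
      have hxI : x ∈ I := hx'
      rw [smul_eq_mul, map_mul, hx]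
      have h1 : (χ a - a) * x = 0 := hmul _ (hχ a) _ hxI
      linear_combination h1
  constructor
  · rw [injective_iff_map_eq_zero]
    intro a ha
    have h1 : a ∈ I := by
      have := hχ a
      rw [ha, zero_sub] at this
      simpa using I.neg_mem this
    rw [← hid a h1, ha]
  · intro b
    refine ⟨b - (χ b - b), ?_⟩
    rw [map_sub, hid _ (hχ b)]
    ring

/-- For a commutative ring R, an ideal J of R of square zero, a smooth R-algebra A and the extended
ideal I = J·A, every R-algebra automorphism of A/I lifts to an R-algebra automorphism of A. (The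
published statement concerns the automorphism functor of a smooth affine S-scheme E and affine test
schemes Y; this row is the case Y = S = Spec R, E = Spec A, which gives the general one after
replacing R by the ring of Y.) -/
theorem result (R A : Type u) [CommRing R] [CommRing A] [Algebra R A]
    [Algebra.Smooth R A] (J : Ideal R) (hJ : J * J = ⊥)
    (φ₀ : (A ⧸ Ideal.map (algebraMap R A) J) ≃ₐ[R] (A ⧸ Ideal.map (algebraMap R A) J)) :
    ∃ φ : A ≃ₐ[R] A,
      (Ideal.Quotient.mkₐ R (Ideal.map (algebraMap R A) J)).comp φ.toAlgHom =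
        φ₀.toAlgHom.comp (Ideal.Quotient.mkₐ R (Ideal.map (algebraMap R A) J)) := by
  have hII : Ideal.map (algebraMap R A) J * Ideal.map (algebraMap R A) J = ⊥ := by rw [← Ideal.map_mul, hJ, Ideal.map_bot]
  have hnil : IsNilpotent (Ideal.map (algebraMap R A) J) := ⟨2, by rw [pow_two, hII]; rfl⟩
  have : Algebra.FormallySmooth R A := Algebra.Smooth.formallySmooth
  set π := Ideal.Quotient.mkₐ R (Ideal.map (algebraMap R A) J) with hπ
  set φ := Algebra.FormallySmooth.lift (Ideal.map (algebraMap R A) J) hnil (φ₀.toAlgHom.comp π) with hφ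
  set ψ := Algebra.FormallySmooth.lift (Ideal.map (algebraMap R A) J) hnil (φ₀.symm.toAlgHom.comp π) with hψ
  have h1 : π.comp φ = φ₀.toAlgHom.comp π := Algebra.FormallySmooth.comp_lift (Ideal.map (algebraMap R A) J) hnil _
  have h2 : π.comp ψ = φ₀.symm.toAlgHom.comp π := Algebra.FormallySmooth.comp_lift (Ideal.map (algebraMap R A) J) hnil _
  have hmem : ∀ (χ : A →ₐ[R] A), π.comp χ = π → ∀ a, χ a - a ∈ Ideal.map (algebraMap R A) J := by
    intro χ hχ a
    have := AlgHom.congr_fun hχ a
    rw [← Ideal.Quotient.eq]
    exact this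
  have h3 : π.comp (ψ.comp φ) = π := by
    rw [← AlgHom.comp_assoc, h2, AlgHom.comp_assoc, h1, ← AlgHom.comp_assoc]
    ext a
    simp
  have h4 : π.comp (φ.comp ψ) = π := by
    rw [← AlgHom.comp_assoc, h1, AlgHom.comp_assoc, h2, ← AlgHom.comp_assoc]
    ext a
    simp
  have b1 := bijective_of_congr_id R A J hJ (ψ.comp φ) (hmem _ h3)
  have b2 := bijective_of_congr_id R A J hJ (φ.comp ψ) (hmem _ h4)
  have hbij : Function.Bijective φ := by
    constructor
    · exact Function.Injective.of_comp (f := ψ) b1.1
    · exact Function.Surjective.of_comp (g := ψ) b2.2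
  refine ⟨AlgEquiv.ofBijective φ hbij, ?_⟩
  exact h1


end Groth.Agent.S8364
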