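import Groth.Statements.S8362
import Groth.Agent.S8364
import Groth.Agent.H4.ProjG

set_option autoImplicit false
universe u
open CategoryTheory AlgebraicGeometry
open SGA3

namespace Groth.Agent.S8362

open CategoryTheory AlgebraicGeometry Limits


section
variable (R : Type u) [CommRing R] (J : Ideal R)

/-- the closed immersion `Spec R/J → Spec R` -/
noncomputable abbrev ii : Spec (CommRingCat.of (R ⧸ J)) ⟶ Spec (CommRingCat.of R) :=
  Spec.map (CommRingCat.ofHom (Ideal.Quotient.mk J))

variable {R J}

theorem fst_comp_left (X : Over (Spec (CommRingCat.of R))) (u : X ⟶ X)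
    (h : (Over.pullback (ii R J)).map u = 𝟙 _) :
    pullback.fst X.hom (ii R J) ≫ u.left = pullback.fst X.hom (ii R J) := by
  have := congrArg (fun m => CommaMorphism.left m ≫ pullback.fst X.hom (ii R J)) h
  simp only [Over.pullback_map_left, Over.id_left, Category.id_comp] at this
  rw [pullback.lift_fst] at this
  exact this

/-- affine case -/
theorem affine_case (hJ : J * J = ⊥) (X : Over (Spec (CommRingCat.of R))) [IsAffine X.left] (u : X ⟶ X)
    (h : (Over.pullback (ii R J)).map u = 𝟙 _) : IsIso u.left := by
  have key := fst_comp_left X u h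
  -- ring-level data
  let A : CommRingCat := Γ(X.left, ⊤)
  let ψ : CommRingCat.of R ⟶ A := (Scheme.ΓSpecIso (CommRingCat.of R)).inv ≫ X.hom.appTop
  have hψ : X.left.isoSpec.inv ≫ X.hom = Spec.map ψ := by
    rw [← Scheme.isoSpec_inv_naturality, Scheme.isoSpec_Spec_inv, ← Spec.map_comp]
  let _ : Algebra R A := ψ.hom.toAlgebra
  have halg : algebraMap R A = ψ.hom := rfl
  let φ : A ⟶ A := u.left.appTop
  have hφψ : ψ ≫ φ = ψ := by
    have := Over.w u
    have h2 := congrArg Scheme.Hom.appTop this
    rw [Scheme.Hom.comp_appTop] at h2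
    simp only [ψ, φ, Category.assoc]
    rw [h2]
  let φAlg : A →ₐ[R] A :=
    { φ.hom with
      commutes' := fun r => by
        have := congrArg (fun m => m.hom r) hφψ
        exact this }
  let JA : Ideal A := Ideal.map (algebraMap R A) J
  let t : Spec (CommRingCat.of (A ⧸ JA)) ⟶ X.left :=
    Spec.map (CommRingCat.ofHom (Ideal.Quotient.mk JA)) ≫ X.left.isoSpec.inv
  let s₀ : Spec (CommRingCat.of (A ⧸ JA)) ⟶ Spec (CommRingCat.of (R ⧸ J)) :=
    Spec.map (CommRingCat.ofHom (Ideal.quotientMap JA (algebraMap R A) Ideal.le_comap_map))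
  have hcomm : t ≫ X.hom = s₀ ≫ ii R J := by
    simp only [t, s₀, ii, Category.assoc]
    rw [hψ, ← Spec.map_comp, ← Spec.map_comp]
    congr 1
  have ht : t ≫ u.left = t := by
    have h1 : pullback.lift t s₀ hcomm ≫ pullback.fst X.hom (ii R J) = t := pullback.lift_fst _ _ _
    rw [← h1, Category.assoc, key]
  have hmk : φ ≫ CommRingCat.ofHom (Ideal.Quotient.mk JA) = CommRingCat.ofHom (Ideal.Quotient.mk JA) := by
    apply Spec.map_injective
    rw [Spec.map_comp, ← cancel_mono X.left.isoSpec.inv, Category.assoc,
      Scheme.isoSpec_inv_naturality]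
    exact ht
  have hbij : Function.Bijective φAlg := by
    refine Groth.Agent.S8364.bijective_of_congr_id R A J hJ φAlg (fun a => ?_)
    have := congrArg (fun m => m.hom a) hmk
    rw [← Ideal.Quotient.eq]
    exact this
  have hiso : IsIso φ := by
    rw [ConcreteCategory.isIso_iff_bijective]
    exact hbij
  have hu : u.left = X.left.isoSpec.hom ≫ Spec.map φ ≫ X.left.isoSpec.inv := by
    rw [Scheme.isoSpec_inv_naturality, Iso.hom_inv_id_assoc]
  rw [hu]
  infer_instance

theorem ii_surjective (hJ : J * J = ⊥) : Surjective (ii R J) := by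
  constructor
  intro (p : PrimeSpectrum R)
  have hp : J ≤ p.asIdeal := by
    intro x hx
    have : x * x ∈ p.asIdeal := by
      have h1 : x * x ∈ J * J := Ideal.mul_mem_mul hx hx
      rw [hJ, Ideal.mem_bot] at h1
      rw [h1]; exact zero_mem _
    rcases p.isPrime.mem_or_mem this with h | h <;> exact h
  have hmem : p ∈ Set.range (PrimeSpectrum.comap (Ideal.Quotient.mk J)) := by
    rw [range_comap_of_surjective _ _ Ideal.Quotient.mk_surjective,
      PrimeSpectrum.mem_zeroLocus, Ideal.mk_ker]
    exact hp
  obtain ⟨q, hq⟩ := hmem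
  exact ⟨q, hq⟩

theorem base_eq (hJ : J * J = ⊥) (X : Over (Spec (CommRingCat.of R))) (u : X ⟶ X)
    (h : (Over.pullback (ii R J)).map u = 𝟙 _) (x : X.left) : u.left.base x = x := by
  have := ii_surjective (R := R) (J := J) hJ
  have hs : Surjective (pullback.fst X.hom (ii R J)) := inferInstance
  obtain ⟨p, rfl⟩ := hs.surj x
  have key := fst_comp_left X u h
  have := congrArg (fun m => m.base p) key
  exact this

end

/-- Over an affine base S = Spec R with S₀ = Spec (R/J) for an ideal J of square zero: for an arbitrary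
S-scheme X, every S-endomorphism of X inducing the identity on X ×_S S₀ is an automorphism. (The
published statement is over an arbitrary base scheme with a quasi-coherent ideal of square zero;
this row is its case of an affine base, to which it reduces since being an isomorphism is local on
the base.) -/
theorem result (R : Type u) [CommRing R] (J : Ideal R) (hJ : J * J = ⊥)
    (X : Over (Spec (CommRingCat.of R))) (u : X ⟶ X)
    (h : (Over.pullback (Spec.map (CommRingCat.ofHom (Ideal.Quotient.mk J)))).map u = 𝟙 _) :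
    IsIso u := by
  have hbase := base_eq hJ X u h
  suffices hs : IsIso u.left by
    have : IsIso ((Over.forget (Spec (CommRingCat.of R))).map u) := hs
    exact isIso_of_reflects_iso u (Over.forget _)
  have hpre : ∀ U : X.left.Opens, u.left ⁻¹ᵁ U = U := by
    intro U
    ext x
    change u.left.base x ∈ U ↔ x ∈ U
    rw [hbase x]
  let 𝒰 := X.left.openCoverOfIsOpenCover (fun U : X.left.affineOpens => U.1)
    (iSup_affineOpens_eq_top X.left)
  -- the restricted endomorphisms
  have hr : ∀ U : X.left.Opens, Set.range (U.ι ≫ u.left).base ⊆ Set.range U.ι.base := by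
    intro U
    rintro _ ⟨x, rfl⟩
    rw [Scheme.Hom.comp_base, TopCat.comp_app, hbase]
    exact ⟨x, rfl⟩
  let v : ∀ U : X.left.Opens, (U : Scheme.{u}) ⟶ (U : Scheme.{u}) :=
    fun U => IsOpenImmersion.lift U.ι (U.ι ≫ u.left) (hr U)
  have hv : ∀ U : X.left.Opens, v U ≫ U.ι = U.ι ≫ u.left :=
    fun U => IsOpenImmersion.lift_fac _ _ _
  have hpb : ∀ U : X.left.Opens, IsPullback (v U) U.ι U.ι u.left := by
    intro U
    refine IsOpenImmersion.isPullback (v U) U.ι U.ι u.left (hv U).symm ?_
    rw [Scheme.Opens.opensRange_ι, hpre]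
  refine Groth.Agent.H4.ProjG.of_isPullback_openCover
    (P := MorphismProperty.isomorphisms Scheme.{u}) u.left 𝒰
    (fun U => (U.1 : Scheme.{u})) (fun U => v U.1) (fun U => U.1.ι) (fun U => hpb U.1) ?_
  intro U
  -- the restricted object over the base
  let XU : Over (Spec (CommRingCat.of R)) := Over.mk (U.1.ι ≫ X.hom)
  let ιU : XU ⟶ X := Over.homMk U.1.ι rfl
  let uU : XU ⟶ XU := Over.homMk (v U.1) (by
    change v U.1 ≫ U.1.ι ≫ X.hom = U.1.ι ≫ X.hom
    rw [← Category.assoc, hv, Category.assoc, Over.w u])
  have hcomm : uU ≫ ιU = ιU ≫ u := by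
    ext
    exact hv U.1
  have : Mono ιU := by
    have : Mono ιU.left := inferInstanceAs (Mono U.1.ι)
    exact Over.mono_of_mono_left ιU
  have hmono : Mono ((Over.pullback (ii R J)).map ιU) := inferInstance
  have hU : (Over.pullback (ii R J)).map uU = 𝟙 _ := by
    rw [← cancel_mono ((Over.pullback (ii R J)).map ιU), ← Functor.map_comp, hcomm,
      Functor.map_comp, h, Category.id_comp, Category.comp_id]
  have : IsAffine XU.left := U.2
  exact affine_case hJ XU uU hU


end Groth.Agent.S8362
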