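import Groth.Statements.S8369
import Groth.Agent.Lib.Helper3.CAlgAux

set_option autoImplicit false
universe u v
open SGA3

namespace Groth.Agent.S8369

open TensorProduct


theorem inter_smul_top_le (A : Type u) [CommRing A] (J : Ideal A)
    (M : Type v) [AddCommGroup M] [Module A M] (N : Submodule A M) [Module.Flat A (M ⧸ N)] :
    N ⊓ J • (⊤ : Submodule A M) ≤ J • N := by
  rintro x ⟨hxN, hxJ⟩
  have hinj : Function.Injective (N.subtype.rTensor (A ⧸ J)) :=
    Groth.Agent.H3.CAlgAux.rTensor_injective_of_flat_coker N.subtype N.mkQ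
      N.injective_subtype (LinearMap.exact_subtype_mkQ N) N.mkQ_surjective (A ⧸ J)
  set x' : N := ⟨x, hxN⟩ with hx'
  have h1 : (N.subtype.rTensor (A ⧸ J)) (x' ⊗ₜ[A] (1 : A ⧸ J)) = 0 := by
    apply (tensorQuotEquivQuotSMul M J).injective
    rw [LinearMap.rTensor_tmul, map_zero, ← map_one (Ideal.Quotient.mk J),
      tensorQuotEquivQuotSMul_tmul_mk, one_smul, Submodule.Quotient.mk_eq_zero]
    exact hxJ
  have h2 : x' ⊗ₜ[A] (1 : A ⧸ J) = 0 := hinj (by rw [h1, map_zero])
  have h3 : x' ∈ J • (⊤ : Submodule A N) := by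
    have := congrArg (tensorQuotEquivQuotSMul N J) h2
    rw [map_zero, ← map_one (Ideal.Quotient.mk J), tensorQuotEquivQuotSMul_tmul_mk, one_smul,
      Submodule.Quotient.mk_eq_zero] at this
    exact this
  have h4 : N.subtype x' ∈ Submodule.map N.subtype (J • (⊤ : Submodule A N)) :=
    Submodule.mem_map_of_mem h3
  rw [Submodule.map_smul'', Submodule.map_subtype_top] at h4
  exact h4

theorem le_of_le_sup_smul (A : Type u) [CommRing A] (J : Ideal A) (hJ : IsNilpotent J)
    (M : Type v) [AddCommGroup M] [Module A M] (N N' : Submodule A M)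
    (h : N ≤ N' ⊔ J • N) : N ≤ N' := by
  obtain ⟨k, hk⟩ := hJ
  have key : ∀ n : ℕ, N ≤ N' ⊔ J ^ n • N := by
    intro n
    induction n with
    | zero => rw [pow_zero, Ideal.one_eq_top, Submodule.top_smul]; exact le_sup_right
    | succ n ih =>
      calc N ≤ N' ⊔ J • N := h
        _ ≤ N' ⊔ J • (N' ⊔ J ^ n • N) := sup_le_sup_left (Submodule.smul_mono le_rfl ih) _
        _ = N' ⊔ (J • N' ⊔ J ^ (n + 1) • N) := by
            rw [Submodule.smul_sup, ← mul_smul, pow_succ']
        _ ≤ N' ⊔ J ^ (n + 1) • N := by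
            rw [← sup_assoc]
            exact sup_le_sup_right (sup_le le_rfl Submodule.smul_le_right) _
  have := key k
  rw [hk, Submodule.zero_eq_bot, Submodule.bot_smul, sup_bot_eq] at this
  exact this

/-- Let A be a commutative ring, J a nilpotent ideal, N ⊆ M A-modules with M/N flat over A. If elements
of N have images generating the image of N in M/JM, then they generate N. (The published statement
takes finitely many elements; this row allows an arbitrary set, which the same argument permits.) -/
theorem result (A : Type u) [CommRing A] (J : Ideal A) (hJ : IsNilpotent J)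
    (M : Type v) [AddCommGroup M] [Module A M] (N : Submodule A M) [Module.Flat A (M ⧸ N)] (s : Set M)
    (hs : s ⊆ N)
    (hgen : (Submodule.span A s).map (J • (⊤ : Submodule A M)).mkQ = N.map (J • (⊤ : Submodule A M)).mkQ) :
    Submodule.span A s = N := by
  have hle : Submodule.span A s ≤ N := Submodule.span_le.mpr hs
  refine le_antisymm hle ?_
  apply le_of_le_sup_smul A J hJ M
  intro x hx
  have h1 : (J • (⊤ : Submodule A M)).mkQ x ∈ N.map (J • (⊤ : Submodule A M)).mkQ :=
    Submodule.mem_map_of_mem hx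
  rw [← hgen] at h1
  obtain ⟨y, hy, hyx⟩ := h1
  have h2 : x - y ∈ J • (⊤ : Submodule A M) := by
    rw [← Submodule.Quotient.mk_eq_zero, Submodule.Quotient.mk_sub]
    change (J • (⊤ : Submodule A M)).mkQ x - (J • (⊤ : Submodule A M)).mkQ y = 0
    rw [hyx, sub_self]
  have h3 : x - y ∈ J • N := inter_smul_top_le A J M N ⟨N.sub_mem hx (hle hy), h2⟩
  have : x = y + (x - y) := by abel
  rw [this]
  exact Submodule.add_mem_sup hy h3


end Groth.Agent.S8369
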