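import Groth.Statements.S8371
-- import your own Groth.Agent.* helpers here

set_option autoImplicit false
universe u
open CategoryTheory MonObj AlgebraicGeometry
open LieS

namespace Groth.Agent.S8371


theorem map_val {S : Scheme.{u}} {G H : Over S} [GrpObj G] [GrpObj H] (B : Type u) [CommRing B]
    (f : Spec (CommRingCat.of B) ⟶ S) (φ : G ⟶ H) [IsMonHom φ] (v : LieS.Lie G B f) :
    (LieS.map B f φ v).1 = v.1 ≫ φ := rfl

/-- The sequence of Lie algebras, with M = O_S: if 1 → G' → G → G'' → 1 is a sequence of homomorphisms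
of group schemes over a scheme S which is exact on points with values in every S-scheme, then for
every affine S-scheme T = Spec B the derived morphisms give an exact sequence 1 → Lie(G'/S)(T) →
Lie(G/S)(T) → Lie(G''/S)(T) → 1: the first is injective, the second surjective, and the kernel of
the second is the image of the first. -/
theorem result (S : Scheme.{u}) (G' G G'' : Over S) [GrpObj G'] [GrpObj G] [GrpObj G'']
    (i : G' ⟶ G) [IsMonHom i] (q : G ⟶ G'') [IsMonHom q]
    (hex : ∀ T : Over S, Function.Injective (fun a : T ⟶ G' => a ≫ i) ∧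
      Function.Surjective (fun b : T ⟶ G => b ≫ q) ∧ ∀ b : T ⟶ G, b ≫ q = 1 ↔ ∃ a : T ⟶ G', a ≫ i = b)
    (B : Type u) [CommRing B] (f : Spec (CommRingCat.of B) ⟶ S) :
    Function.Injective (LieS.map B f i) ∧ Function.Surjective (LieS.map B f q) ∧
      ∀ v : LieS.Lie G B f, LieS.map B f q v = 1 ↔ ∃ w : LieS.Lie G' B f, LieS.map B f i w = v := by
  refine ⟨?_, ?_, ?_⟩
  · intro v w hvw
    apply Subtype.ext
    apply (hex (dpt B f)).1
    have := congrArg Subtype.val hvw
    rw [map_val, map_val] at this
    exact this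
  · intro v''
    obtain ⟨b, hb⟩ := (hex (dpt B f)).2.1 v''.1
    simp only at hb
    have hv'' : zeroSec B f ≫ v''.1 = 1 := v''.2
    set b₀ : pt B f ⟶ G := zeroSec B f ≫ b with hb₀
    have hb₀q : b₀ ≫ q = 1 := by
      rw [hb₀, Category.assoc, hb, hv'']
    set b' : dpt B f ⟶ G := b * (proj B f ≫ b₀)⁻¹ with hb'
    have hb'mem : b' ∈ LieS.Lie G B f := by
      rw [mem_Lie_iff, hb', MonObj.comp_mul, GrpObj.comp_inv, ← Category.assoc (zeroSec B f),
        zeroSec_proj, Category.id_comp, ← hb₀, mul_inv_cancel]
    refine ⟨⟨b', hb'mem⟩, ?_⟩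
    apply Subtype.ext
    rw [map_val]
    change b' ≫ q = v''.1
    rw [hb', MonObj.mul_comp, GrpObj.inv_comp, Category.assoc, hb₀q, MonObj.comp_one, inv_one,
      _root_.mul_one, hb]
  · intro v
    constructor
    · intro hv
      have h1 : v.1 ≫ q = 1 := by
        have := congrArg Subtype.val hv
        rw [map_val] at this
        exact this
      obtain ⟨a, ha⟩ := ((hex (dpt B f)).2.2 v.1).1 h1
      have hamem : a ∈ LieS.Lie G' B f := by
        rw [mem_Lie_iff]
        apply (hex (pt B f)).1
        simp only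
        rw [Category.assoc, ha, MonObj.one_comp]
        exact v.2
      refine ⟨⟨a, hamem⟩, ?_⟩
      apply Subtype.ext
      rw [map_val]
      exact ha
    · rintro ⟨w, rfl⟩
      apply Subtype.ext
      rw [map_val, map_val]
      change (w.1 ≫ i) ≫ q = 1
      exact ((hex (dpt B f)).2.2 (w.1 ≫ i)).2 ⟨w.1, rfl⟩


end Groth.Agent.S8371
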