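import Groth.Statements.S8383
-- import your own Groth.Agent.* helpers here

set_option autoImplicit false
universe u
open scoped TensorProduct
open SGA3t2b

namespace Groth.Agent.S8383


theorem exists_det_ne_zero {k K : Type*} [Field k] [Field K] [Algebra k K] {ι : Type*} [Fintype ι]
    [DecidableEq ι] {m : ℕ} (e : Fin m → K) (a : ι → ι → Fin m → k) (C : Matrix ι ι K)
    (hC : ∀ i' i, C i' i = ∑ α, a i' i α • e α) (hdet : C.det ≠ 0) :
    ∃ f : ι → Fin m, (Matrix.of fun i' i => a i' i (f i')).det ≠ 0 := by
  by_contra hcon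
  push Not at hcon
  apply hdet
  have hrow : C = fun i' => ∑ α, e α • (fun i => algebraMap k K (a i' i α)) := by
    ext i' i
    rw [hC, Finset.sum_apply]
    refine Finset.sum_congr rfl (fun α _ => ?_)
    rw [Pi.smul_apply, Algebra.smul_def, smul_eq_mul, mul_comm]
  have h1 : C.det = (Matrix.detRowAlternating (R := K) (n := ι)).toMultilinearMap C := rfl
  rw [h1, hrow, MultilinearMap.map_sum]
  refine Finset.sum_eq_zero (fun f _ => ?_)
  rw [MultilinearMap.map_smul_univ]
  have h2 : (Matrix.detRowAlternating (R := K) (n := ι)).toMultilinearMap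
      (fun i' => fun i => algebraMap k K (a i' i (f i'))) =
      algebraMap k K ((Matrix.of fun i' i => a i' i (f i')).det) := by
    rw [RingHom.map_det]
    rfl
  rw [h2, hcon f, map_zero, smul_zero]

/-- version for an arbitrary field extension -/
theorem aux (k K : Type u) [Field k] [Field K] [Algebra k K]
    (V : Type u) [AddCommGroup V] [Module k V] [Module.Finite k V] {ι : Type} [Fintype ι]
    (θ : Module.Basis ι K (Module.Dual K (K ⊗[k] V))) :
    ∃ x : V, ∀ i : ι, θ i ((1 : K) ⊗ₜ[k] x) ≠ 0 := by
  classical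
  let n := Module.finrank k V
  let b : Module.Basis (Fin n) k V := Module.finBasis k V
  let bK : Module.Basis (Fin n) K (K ⊗[k] V) := b.baseChange K
  let D : Module.Basis (Fin n) K (Module.Dual K (K ⊗[k] V)) := bK.dualBasis
  let eq : ι ≃ Fin n := θ.indexEquiv D
  let C : Matrix ι ι K := fun i' i => θ i' (bK (eq i))
  have hdet : C.det ≠ 0 := by
    let D' : Module.Basis ι K (Module.Dual K (K ⊗[k] V)) := D.reindex eq.symm
    have hCt : C = (D'.toMatrix θ).transpose := by
      ext i' i
      simp [C, D', D, Module.Basis.toMatrix_apply]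
    rw [hCt, Matrix.det_transpose]
    have hmul := Module.Basis.toMatrix_mul_toMatrix_flip D' θ
    intro h0
    have := congrArg Matrix.det hmul
    rw [Matrix.det_mul, h0, zero_mul, Matrix.det_one] at this
    exact zero_ne_one this
  let E : Submodule k K := Submodule.span k (Set.range (fun p : ι × ι => C p.1 p.2))
  have hfd : FiniteDimensional k E := FiniteDimensional.span_of_finite k (Set.finite_range _)
  let m := Module.finrank k E
  let bE : Module.Basis (Fin m) k E := Module.finBasis k E
  have hmem : ∀ i' i, C i' i ∈ E := fun i' i => Submodule.subset_span ⟨(i', i), rfl⟩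
  let e : Fin m → K := fun α => (bE α : K)
  let a : ι → ι → Fin m → k := fun i' i α => bE.repr ⟨C i' i, hmem i' i⟩ α
  have hC : ∀ i' i, C i' i = ∑ α, a i' i α • e α := by
    intro i' i
    have := congrArg Subtype.val (bE.sum_repr ⟨C i' i, hmem i' i⟩)
    rw [Submodule.coe_sum] at this
    simp only [Submodule.coe_smul] at this
    exact this.symm
  obtain ⟨f, hf⟩ := exists_det_ne_zero e a C hC hdet
  set A : Matrix ι ι k := Matrix.of fun i' i => a i' i (f i') with hA
  let ξ : ι → k := A⁻¹.mulVec (fun _ => 1)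
  have hξ : A.mulVec ξ = fun _ => 1 := by
    rw [Matrix.mulVec_mulVec, Matrix.mul_nonsing_inv A (isUnit_iff_ne_zero.mpr hf), Matrix.one_mulVec]
  refine ⟨∑ i, ξ i • b (eq i), ?_⟩
  intro i' h0
  have h1 : θ i' ((1 : K) ⊗ₜ[k] (∑ i, ξ i • b (eq i))) = ∑ α, (∑ i, ξ i * a i' i α) • e α := by
    rw [TensorProduct.tmul_sum, map_sum]
    have : ∀ i, θ i' ((1 : K) ⊗ₜ[k] (ξ i • b (eq i))) = ∑ α, (ξ i * a i' i α) • e α := by
      intro i
      rw [TensorProduct.tmul_smul, ← algebraMap_smul K (ξ i), map_smul]
      have : θ i' ((1 : K) ⊗ₜ[k] b (eq i)) = C i' i := by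
        simp [C, bK]
      rw [this, hC i' i, Finset.smul_sum]
      refine Finset.sum_congr rfl (fun α _ => ?_)
      rw [algebraMap_smul, smul_smul]
    simp_rw [this]
    rw [Finset.sum_comm]
    refine Finset.sum_congr rfl (fun α _ => ?_)
    rw [Finset.sum_smul]
  rw [h1] at h0
  have h2 : ∑ α, (∑ i, ξ i * a i' i α) • bE α = 0 := by
    apply Subtype.ext
    rw [Submodule.coe_sum]
    simp only [Submodule.coe_smul]
    exact h0
  have h3 := Fintype.linearIndependent_iff.mp bE.linearIndependent _ h2 (f i')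
  have h4 : (A.mulVec ξ) i' = 1 := by rw [hξ]
  rw [Matrix.mulVec, dotProduct] at h4
  simp only [hA, Matrix.of_apply] at h4
  have : ∑ i, ξ i * a i' i (f i') = 1 := by
    rw [← h4]
    refine Finset.sum_congr rfl (fun i _ => mul_comm _ _)
  rw [this] at h3
  exact one_ne_zero h3

/-- Let k be a finite field with algebraic closure K, V a finite-dimensional vector space over k, and
θ₁, …, θₙ a basis of the dual of the K-vector space K ⊗ V. Then there is x ∈ V with θᵢ(1 ⊗ x) ≠ 0
for every i. -/
theorem result (k : Type u) [Field k] [Finite k]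
    (V : Type u) [AddCommGroup V] [Module k V] [Module.Finite k V] {ι : Type} [Fintype ι]
    (θ : Module.Basis ι (AlgebraicClosure k) (Module.Dual (AlgebraicClosure k) (AlgebraicClosure k ⊗[k] V))) :
    ∃ x : V, ∀ i : ι, θ i ((1 : AlgebraicClosure k) ⊗ₜ[k] x) ≠ 0 := by
  exact aux k (AlgebraicClosure k) V θ


end Groth.Agent.S8383
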