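import Groth.Statements.S8441
import Mathlib.LinearAlgebra.Determinant
import Mathlib.LinearAlgebra.Matrix.Block

set_option autoImplicit false
universe u v w
open SGA3t2b

namespace Groth.Agent.S8441

/-- Let R be a root system with a system of simple roots a₁, …, aₙ and simple reflections rᵢ, and put θᵢ
= rₙ ⋯ rᵢ₊₁(aᵢ). Then the θᵢ form a basis of the group generated by the roots. Stated for a root
pairing over ℤ (Mathlib) with a base whose support is enumerated by Fin n: the θᵢ are ℤ-linearly
independent and their ℤ-span is the ℤ-span of all roots. -/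
theorem result {ι : Type u} {M : Type v} {N : Type w} [AddCommGroup M] [Module ℤ M]
    [AddCommGroup N] [Module ℤ N] (P : RootPairing ι ℤ M N) (b : P.Base) (n : ℕ) (e : Fin n ≃ ↥b.support) :
    LinearIndependent ℤ (fun i : Fin n =>
      ((List.finRange n).filter (fun j => i < j)).foldl (fun x j => P.reflection (e j : ι) x) (P.root (e i : ι))) ∧
    Submodule.span ℤ (Set.range (fun i : Fin n =>
      ((List.finRange n).filter (fun j => i < j)).foldl (fun x j => P.reflection (e j : ι) x) (P.root (e i : ι)))) =
      Submodule.span ℤ (Set.range P.root) := by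
  classical
  rename_i iM1 iM2 iN1 iN2
  obtain rfl : iM2 = AddCommGroup.toIntModule M := Subsingleton.elim _ _
  set a : Fin n → M := fun i => P.root (e i : ι) with ha_def
  have ha : LinearIndependent ℤ a := by
    have h1 : LinearIndependent ℤ (fun x : b.support => P.root x) := b.linearIndepOn_root
    exact h1.comp e e.injective
  -- the triangular shape
  have hshape : ∀ (i : Fin n) (L : List (Fin n)), (∀ j ∈ L, i < j) → ∀ x : M,
      (∃ c : Fin n → ℤ, c i = 1 ∧ (∀ l, l < i → c l = 0) ∧ x = ∑ l, c l • a l) →
      ∃ c : Fin n → ℤ, c i = 1 ∧ (∀ l, l < i → c l = 0) ∧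
        L.foldl (fun x j => P.reflection (e j : ι) x) x = ∑ l, c l • a l := by
    intro i L
    induction L with
    | nil => intro _ x hx; simpa using hx
    | cons j L ih =>
      intro hL x hx
      rw [List.foldl_cons]
      apply ih (fun j' hj' => hL j' (by simp [hj']))
      obtain ⟨c, hci, hcl, hx⟩ := hx
      have hij : i < j := hL j (by simp)
      rw [P.reflection_apply]
      generalize P.coroot' (e j : ι) x = t
      refine ⟨fun l => c l - (if l = j then t else 0), ?_, ?_, ?_⟩
      · simp [hci, hij.ne]
      · intro l hl
        have : l ≠ j := (hl.trans hij).ne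
        simp [hcl l hl, this]
      · simp only [sub_smul, Finset.sum_sub_distrib]
        rw [← hx]
        congr 1
        simp [ite_smul, Finset.sum_ite_eq', ha_def]
  have hθ : ∀ i : Fin n, ∃ c : Fin n → ℤ, c i = 1 ∧ (∀ l, l < i → c l = 0) ∧
      ((List.finRange n).filter (fun j => i < j)).foldl (fun x j => P.reflection (e j : ι) x)
        (P.root (e i : ι)) = ∑ l, c l • a l := by
    intro i
    apply hshape i _ (fun j hj => by simpa using (List.mem_filter.1 hj).2)
    refine ⟨fun l => if l = i then 1 else 0, by simp, fun l hl => by simp [hl.ne], ?_⟩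
    simp [ha_def]
  choose c hc1 hc0 hcθ using hθ
  set θ : Fin n → M := fun i => ((List.finRange n).filter (fun j => i < j)).foldl
      (fun x j => P.reflection (e j : ι) x) (P.root (e i : ι)) with hθ_def
  let φ : (Fin n → ℤ) →ₗ[ℤ] M := Fintype.linearCombination ℤ a
  have hφker : LinearMap.ker φ = ⊥ := by
    rw [LinearMap.ker_eq_bot]
    exact linearIndependent_iff_injective_fintypeLinearCombination.1 ha
  have hθφ : θ = φ ∘ c := by
    funext i
    show θ i = Fintype.linearCombination ℤ a (c i)
    rw [Fintype.linearCombination_apply]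
    exact hcθ i
  have hdet : (Pi.basisFun ℤ (Fin n)).det c = 1 := by
    rw [Module.Basis.det_apply]
    have hM : (Pi.basisFun ℤ (Fin n)).toMatrix c = Matrix.of fun i j => c j i := by
      ext i j
      simp [Module.Basis.toMatrix_apply]
    rw [hM, Matrix.det_of_isLowerTriangular]
    · simp [hc1]
    · intro i j hij
      simp only [Matrix.of_apply]
      exact hc0 j i hij
  obtain ⟨hli, hsp⟩ := ((Pi.basisFun ℤ (Fin n)).is_basis_iff_det (v := c)).2
    (by rw [hdet]; exact isUnit_one)
  refine ⟨?_, ?_⟩
  · show LinearIndependent ℤ θ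
    rw [hθφ]
    exact hli.map' φ hφker
  · show Submodule.span ℤ (Set.range θ) = _
    rw [hθφ, Set.range_comp, ← Submodule.map_span, hsp, Submodule.map_top]
    show LinearMap.range (Fintype.linearCombination ℤ a) = _
    rw [Fintype.range_linearCombination]
    have : Set.range a = P.root '' (b.support : Set ι) := by
      ext x
      constructor
      · rintro ⟨i, rfl⟩; exact ⟨e i, (e i).2, rfl⟩
      · rintro ⟨j, hj, rfl⟩; exact ⟨e.symm ⟨j, hj⟩, by simp [ha_def]⟩
    rw [this, b.span_int_root_support]

end Groth.Agent.S8441
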