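import Groth.Statements.S8471
import Mathlib

set_option autoImplicit false
open Red

namespace Groth.Agent.S8471

open Polynomial

section Transfer
variable {k : Type} [Field k]

local notation "M" => RatFunc k
local notation "K₂" => RatFunc (RatFunc k)
local notation "L" => FractionRing (MvPolynomial (Fin 2) k)

theorem eval_hom {E₁ E₂ : Type} [Field E₁] [Field E₂] (φ : E₁ →+* E₂) (f : k →+* E₁) (a : E₁)
    (F : RatFunc k) : φ (RatFunc.eval f a F) = RatFunc.eval (φ.comp f) (φ a) F := by
  simp only [RatFunc.eval, map_div₀, Polynomial.hom_eval₂]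

theorem eval_X_self (F : RatFunc k) :
    RatFunc.eval (algebraMap k (RatFunc k)) RatFunc.X F = F := by
  have h : ∀ p : k[X], p.eval₂ (algebraMap k (RatFunc k)) RatFunc.X = algebraMap k[X] (RatFunc k) p :=
    fun p => by rw [← RatFunc.aeval_X_left_eq_algebraMap, Polynomial.aeval_def]
  rw [RatFunc.eval, h, h, RatFunc.num_div_denom]

/-- the algebraically independent pair in `RatFunc (RatFunc k)` -/
theorem algIndep :
    AlgebraicIndependent k
      (![algebraMap (RatFunc k) (RatFunc (RatFunc k)) RatFunc.X, RatFunc.X] :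
        Fin 2 → RatFunc (RatFunc k)) := by
  have hx : AlgebraicIndependent k (fun _ : Unit => (RatFunc.X : RatFunc k)) := by
    rw [algebraicIndependent_unique_type_iff]
    exact RatFunc.transcendental_X
  have hy : AlgebraicIndependent (RatFunc k) (fun _ : Unit => (RatFunc.X : RatFunc (RatFunc k))) := by
    rw [algebraicIndependent_unique_type_iff]
    exact RatFunc.transcendental_X
  have h := AlgebraicIndependent.sumElim_comp hx hy
  let e : Fin 2 → Unit ⊕ Unit := ![Sum.inr (), Sum.inl ()]
  have he : Function.Injective e := by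
    intro i j hij
    fin_cases i <;> fin_cases j <;> simp_all [e]
  have h2 := h.comp e he
  convert h2 using 1
  ext i
  fin_cases i <;> simp [e]

theorem transfer (F : RatFunc k) (hF : F ≠ 0)
    (hFE : RatFunc.eval (algebraMap k (FractionRing (MvPolynomial (Fin 2) k)))
        (algebraMap (MvPolynomial (Fin 2) k) (FractionRing (MvPolynomial (Fin 2) k)) (MvPolynomial.X 0) +
          algebraMap (MvPolynomial (Fin 2) k) (FractionRing (MvPolynomial (Fin 2) k)) (MvPolynomial.X 1) *
            RatFunc.eval (algebraMap k (FractionRing (MvPolynomial (Fin 2) k)))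
              (algebraMap (MvPolynomial (Fin 2) k) (FractionRing (MvPolynomial (Fin 2) k)) (MvPolynomial.X 0)) F) F =
      RatFunc.eval (algebraMap k (FractionRing (MvPolynomial (Fin 2) k)))
          (algebraMap (MvPolynomial (Fin 2) k) (FractionRing (MvPolynomial (Fin 2) k)) (MvPolynomial.X 0)) F *
        RatFunc.eval (algebraMap k (FractionRing (MvPolynomial (Fin 2) k)))
          (algebraMap (MvPolynomial (Fin 2) k) (FractionRing (MvPolynomial (Fin 2) k)) (MvPolynomial.X 1)) F) :
    ((F.num.map (algebraMap k (RatFunc k))).comp (C (RatFunc.X : RatFunc k) + X * C F)) *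
        (F.denom.map (algebraMap k (RatFunc k))) =
      C F * (F.num.map (algebraMap k (RatFunc k))) *
        ((F.denom.map (algebraMap k (RatFunc k))).comp (C (RatFunc.X : RatFunc k) + X * C F)) := by
  let v : Fin 2 → K₂ := ![algebraMap M K₂ RatFunc.X, RatFunc.X]
  have hv : AlgebraicIndependent k v := algIndep
  let g : MvPolynomial (Fin 2) k →+* K₂ := (MvPolynomial.aeval v : MvPolynomial (Fin 2) k →ₐ[k] K₂)
  have hg : Function.Injective g := hv
  let φ : L →+* K₂ := IsFractionRing.lift hg
  have hφ : ∀ p, φ (algebraMap (MvPolynomial (Fin 2) k) L p) = g p := fun p =>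
    IsFractionRing.lift_algebraMap hg p
  have hφ0 : φ (algebraMap (MvPolynomial (Fin 2) k) L (MvPolynomial.X 0)) = algebraMap M K₂ RatFunc.X := by
    rw [hφ]; simp [g, v]
  have hφ1 : φ (algebraMap (MvPolynomial (Fin 2) k) L (MvPolynomial.X 1)) = RatFunc.X := by
    rw [hφ]; simp [g, v]
  have hφk : φ.comp (algebraMap k L) = algebraMap k K₂ := by
    ext c
    rw [RingHom.comp_apply, IsScalarTower.algebraMap_apply k (MvPolynomial (Fin 2) k) L, hφ]
    simp [g]
  have h1 := congrArg φ hFE
  rw [map_mul, eval_hom, eval_hom, eval_hom, hφk, map_add, map_mul, eval_hom, hφk, hφ0, hφ1] at h1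
  -- evaluation at constants
  have hk2 : algebraMap k K₂ = (algebraMap M K₂).comp (algebraMap k M) :=
    IsScalarTower.algebraMap_eq k M K₂
  have hs : RatFunc.eval (algebraMap k K₂) (algebraMap M K₂ RatFunc.X) F = algebraMap M K₂ F := by
    rw [hk2, ← eval_hom, eval_X_self]
  rw [hs] at h1
  -- rewrite everything as images of polynomials in `M[X]`
  have hpoly : ∀ q : M[X], algebraMap M[X] K₂ q = q.eval₂ (algebraMap M K₂) RatFunc.X := fun q => by
    rw [← RatFunc.aeval_X_left_eq_algebraMap, Polynomial.aeval_def]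
  have hl : (C (RatFunc.X : M) + X * C F : M[X]).eval₂ (algebraMap M K₂) RatFunc.X =
      algebraMap M K₂ RatFunc.X + RatFunc.X * algebraMap M K₂ F := by
    simp
    ring
  have hcomp : ∀ p : k[X], algebraMap M[X] K₂ ((p.map (algebraMap k M)).comp (C (RatFunc.X : M) + X * C F)) =
      p.eval₂ (algebraMap k K₂) (algebraMap M K₂ RatFunc.X + RatFunc.X * algebraMap M K₂ F) := fun p => by
    rw [hpoly, Polynomial.eval₂_comp, hl, Polynomial.eval₂_map, ← hk2]
  have hmap : ∀ p : k[X], algebraMap M[X] K₂ (p.map (algebraMap k M)) =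
      p.eval₂ (algebraMap k K₂) RatFunc.X := fun p => by
    rw [hpoly, Polynomial.eval₂_map, ← hk2]
  simp only [RatFunc.eval] at h1
  rw [← hcomp, ← hcomp, ← hmap, ← hmap] at h1
  -- nonvanishing
  have hQ0 : F.denom.map (algebraMap k M) ≠ 0 := by
    rw [Ne, Polynomial.map_eq_zero]
    exact RatFunc.denom_ne_zero F
  have hinj : Function.Injective (algebraMap M[X] K₂) := RatFunc.algebraMap_injective M
  have hlc : (C (RatFunc.X : M) + X * C F : M[X]).coeff 1 = F := by
    simp
  have hD0 : (F.denom.map (algebraMap k M)).comp (C (RatFunc.X : M) + X * C F) ≠ 0 := by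
    intro h
    rcases Polynomial.comp_eq_zero_iff.mp h with h | ⟨-, h⟩
    · exact hQ0 h
    · have := congrArg (fun p : M[X] => p.coeff 1) h
      simp only [hlc] at this
      rw [Polynomial.coeff_C] at this
      simp at this
      exact hF this
  have hQ0' : algebraMap M[X] K₂ (F.denom.map (algebraMap k M)) ≠ 0 := fun h =>
    hQ0 (hinj (h.trans (map_zero _).symm))
  have hD0' : algebraMap M[X] K₂ ((F.denom.map (algebraMap k M)).comp (C (RatFunc.X : M) + X * C F)) ≠ 0 :=
    fun h => hD0 (hinj (h.trans (map_zero _).symm))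
  have hCF : algebraMap M K₂ F = algebraMap M[X] K₂ (C F) := (RatFunc.algebraMap_C F).symm
  rw [hCF, div_eq_iff hD0', mul_div_assoc', div_mul_eq_mul_div, eq_div_iff hQ0'] at h1
  apply hinj
  simp only [map_mul]
  rw [h1]

end Transfer

section Alg
variable {k : Type} [Field k]

local notation "M" => RatFunc k

theorem lin_facts (F : RatFunc k) (hF : F ≠ 0) :
    (C (RatFunc.X : M) + X * C F : M[X]).natDegree = 1 ∧
    (C (RatFunc.X : M) + X * C F : M[X]).leadingCoeff = F ∧
    (C (RatFunc.X : M) + X * C F : M[X]).eval 0 = RatFunc.X := by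
  have e : (C (RatFunc.X : M) + X * C F : M[X]) = C F * X + C RatFunc.X := by ring
  rw [e]
  refine ⟨Polynomial.natDegree_linear hF, Polynomial.leadingCoeff_linear hF, by simp⟩

theorem denom_deg_zero (F : RatFunc k) (hF : F ≠ 0) (h0 : F.denom.eval 0 ≠ 0)
    (hid : ((F.num.map (algebraMap k M)).comp (C (RatFunc.X : M) + X * C F)) *
        (F.denom.map (algebraMap k M)) =
      C F * (F.num.map (algebraMap k M)) *
        ((F.denom.map (algebraMap k M)).comp (C (RatFunc.X : M) + X * C F))) :
    F.denom.natDegree = 0 := by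
  obtain ⟨hl1, hl2, hl3⟩ := lin_facts F hF
  set l : M[X] := C (RatFunc.X : M) + X * C F with hl
  set P := F.num with hP
  set Q := F.denom with hQ
  have hcop : IsCoprime P Q := RatFunc.isCoprime_num_denom F
  have hQm : Q.Monic := RatFunc.monic_denom F
  set Pm := P.map (algebraMap k M) with hPm
  set Qm := Q.map (algebraMap k M) with hQm'
  have hcopM : IsCoprime Pm Qm := hcop.map (Polynomial.mapRingHom (algebraMap k M))
  have hcopND : IsCoprime (Pm.comp l) (Qm.comp l) := hcopM.map (Polynomial.compRingHom l)
  have hQmm : Qm.Monic := hQm.map _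
  have hdvd : Qm.comp l ∣ Qm := by
    refine hcopND.symm.dvd_of_dvd_mul_left ?_
    first | rw [hid] | rw [mul_comm Qm, hid]
    exact Dvd.intro_left _ rfl
  obtain ⟨E, hE⟩ := hdvd
  set m := Q.natDegree with hm
  have hdegQm : Qm.natDegree = m := Polynomial.natDegree_map _
  have hdegD : (Qm.comp l).natDegree = m := by
    rw [Polynomial.natDegree_comp, hl1, mul_one, hdegQm]
  have hQm0 : Qm ≠ 0 := hQmm.ne_zero
  have hE0 : E ≠ 0 := by rintro rfl; rw [mul_zero] at hE; exact hQm0 hE
  have hD0 : Qm.comp l ≠ 0 := by rintro h; rw [h, zero_mul] at hE; exact hQm0 hE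
  have hdegE : E.natDegree = 0 := by
    have := congrArg Polynomial.natDegree hE
    rw [Polynomial.natDegree_mul hD0 hE0, hdegD, hdegQm] at this
    omega
  obtain ⟨e, rfl⟩ := Polynomial.natDegree_eq_zero.mp hdegE
  -- leading coefficients
  have hlc : (1 : M) = F ^ m * e := by
    have := congrArg Polynomial.leadingCoeff hE
    rw [Polynomial.leadingCoeff_mul, Polynomial.leadingCoeff_C,
      Polynomial.leadingCoeff_comp (by rw [hl1]; exact one_ne_zero), hl2, hQmm.leadingCoeff,
      hdegQm, one_mul] at this
    exact this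
  -- evaluation at zero
  have hev : algebraMap k M (Q.eval 0) = algebraMap k[X] M Q * e := by
    have := congrArg (Polynomial.eval 0) hE
    rw [Polynomial.eval_mul, Polynomial.eval_C, Polynomial.eval_comp, hl3, hQm',
      Polynomial.eval_zero_map, Polynomial.eval_map, ← Polynomial.aeval_def,
      RatFunc.aeval_X_left_eq_algebraMap] at this
    exact this
  -- combine
  have hQM0 : algebraMap k[X] M Q ≠ 0 := by
    rw [Ne, map_eq_zero_iff _ (RatFunc.algebraMap_injective k)]
    exact hQm.ne_zero
  have hFdef : F = algebraMap k[X] M P / algebraMap k[X] M Q := (RatFunc.num_div_denom F).symm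
  have hkey : algebraMap k[X] M (Q ^ (m + 1)) = algebraMap k[X] M (C (Q.eval 0) * P ^ m) := by
    rw [map_pow, map_mul, map_pow, RatFunc.algebraMap_C, ← RatFunc.algebraMap_eq_C, hev]
    have hFm : F ^ m ≠ 0 := pow_ne_zero _ hF
    have he : e = (F ^ m)⁻¹ := by
      field_simp
      rw [mul_comm]; exact hlc.symm
    have hPM0 : algebraMap k[X] M P ≠ 0 := by
      intro h
      apply hF
      rw [hFdef, h, zero_div]
    rw [he, hFdef, div_pow]
    field_simp
    ring
  have hkey' : Q ^ (m + 1) = C (Q.eval 0) * P ^ m := RatFunc.algebraMap_injective k hkey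
  have hc : IsCoprime (Q ^ (m + 1)) (P ^ m) := hcop.symm.pow
  have hd : Q ^ (m + 1) ∣ C (Q.eval 0) := by
    refine hc.dvd_of_dvd_mul_right ?_
    rw [hkey']
  have hC0 : (C (Q.eval 0) : k[X]) ≠ 0 := by rwa [Ne, Polynomial.C_eq_zero]
  have := Polynomial.natDegree_le_of_dvd hd hC0
  rw [Polynomial.natDegree_C, hQm.natDegree_pow] at this
  have h2 : (m + 1) * m = 0 := Nat.le_zero.mp this
  rcases Nat.mul_eq_zero.mp h2 with h | h
  · omega
  · exact h

theorem final (F : RatFunc k) (hF : F ≠ 0) (hQ1 : F.denom = 1) (h1 : F.num.eval 0 = 1)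
    (hid : ((F.num.map (algebraMap k M)).comp (C (RatFunc.X : M) + X * C F)) *
        (F.denom.map (algebraMap k M)) =
      C F * (F.num.map (algebraMap k M)) *
        ((F.denom.map (algebraMap k M)).comp (C (RatFunc.X : M) + X * C F))) :
    ∃ a : k, F = 1 + RatFunc.C a * RatFunc.X := by
  obtain ⟨hl1, hl2, hl3⟩ := lin_facts F hF
  rw [hQ1] at hid
  simp only [Polynomial.map_one, Polynomial.one_comp, mul_one] at hid
  have hFP : F = algebraMap k[X] M F.num := by
    have := RatFunc.num_div_denom F
    rw [hQ1, map_one, div_one] at this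
    exact this.symm
  have hP0 : F.num ≠ 0 := by
    intro h
    apply hF
    rw [hFP, h, map_zero]
  have hPm0 : F.num.map (algebraMap k M) ≠ 0 := by
    rwa [Ne, Polynomial.map_eq_zero]
  have hdeg : (F.num.map (algebraMap k M)).natDegree = F.num.natDegree := Polynomial.natDegree_map _
  have hlc := congrArg Polynomial.leadingCoeff hid
  rw [Polynomial.leadingCoeff_comp (by rw [hl1]; exact one_ne_zero), hl2, Polynomial.leadingCoeff_mul,
    Polynomial.leadingCoeff_C, hdeg] at hlc
  have hlc0 : (F.num.map (algebraMap k M)).leadingCoeff ≠ 0 := Polynomial.leadingCoeff_ne_zero.mpr hPm0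
  have hFd : F ^ F.num.natDegree = F := by
    apply mul_left_cancel₀ hlc0
    rw [hlc]; ring
  have hPd : F.num ^ F.num.natDegree = F.num := by
    apply RatFunc.algebraMap_injective k
    rw [map_pow, ← hFP, hFd]
  have hd : F.num.natDegree ≤ 1 := by
    have := congrArg Polynomial.natDegree hPd
    rw [Polynomial.natDegree_pow] at this
    by_contra hcon
    push Not at hcon
    nlinarith
  have hPform := Polynomial.eq_X_add_C_of_natDegree_le_one hd
  have hc0 : F.num.coeff 0 = 1 := by rw [Polynomial.coeff_zero_eq_eval_zero, h1]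
  refine ⟨F.num.coeff 1, ?_⟩
  conv_lhs => rw [hFP, hPform]
  rw [hc0, map_add, map_mul, RatFunc.algebraMap_C, RatFunc.algebraMap_X, Polynomial.C_1, map_one,
    add_comm]

/-- Let k be a field and F ∈ k(X) a rational function whose denominator does not vanish at 0 and with
F(0) = 1. Suppose that in the field of fractions L of k[X₀, X₁] one has F(X₀ + X₁ · F(X₀)) = F(X₀) ·
F(X₁) (the functional equation F(x + y F(x)) = F(x) F(y)). Then there is a ∈ k with F = 1 + a X.
(The published statement takes the identity on an open neighbourhood of the origin of 𝔾_a × 𝔾_a on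
which all terms are defined; this row takes it as an identity of rational functions in two
variables.) -/
theorem result (k : Type) [Field k] (F : RatFunc k)
    (h0 : F.denom.eval 0 ≠ 0) (h1 : F.num.eval 0 = F.denom.eval 0)
    (hFE : RatFunc.eval (algebraMap k (FractionRing (MvPolynomial (Fin 2) k)))
        (algebraMap (MvPolynomial (Fin 2) k) (FractionRing (MvPolynomial (Fin 2) k)) (MvPolynomial.X 0) +
          algebraMap (MvPolynomial (Fin 2) k) (FractionRing (MvPolynomial (Fin 2) k)) (MvPolynomial.X 1) *
            RatFunc.eval (algebraMap k (FractionRing (MvPolynomial (Fin 2) k)))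
              (algebraMap (MvPolynomial (Fin 2) k) (FractionRing (MvPolynomial (Fin 2) k)) (MvPolynomial.X 0)) F) F =
      RatFunc.eval (algebraMap k (FractionRing (MvPolynomial (Fin 2) k)))
          (algebraMap (MvPolynomial (Fin 2) k) (FractionRing (MvPolynomial (Fin 2) k)) (MvPolynomial.X 0)) F *
        RatFunc.eval (algebraMap k (FractionRing (MvPolynomial (Fin 2) k)))
          (algebraMap (MvPolynomial (Fin 2) k) (FractionRing (MvPolynomial (Fin 2) k)) (MvPolynomial.X 1)) F) :
    ∃ a : k, F = 1 + RatFunc.C a * RatFunc.X := by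
  have hF : F ≠ 0 := by
    intro h
    rw [h, RatFunc.num_zero, RatFunc.denom_zero] at h1
    simp at h1
  have hid := transfer F hF hFE
  have hm := denom_deg_zero F hF h0 hid
  have hQ1 : F.denom = 1 := Polynomial.eq_one_of_monic_natDegree_zero (RatFunc.monic_denom F) hm
  have h1' : F.num.eval 0 = 1 := by rw [h1, hQ1, Polynomial.eval_one]
  exact final F hF hQ1 h1' hid

end Alg


end Groth.Agent.S8471
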