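import Groth.Statements.S8524
import Groth.Prelude.Def_EtAcyc
import Mathlib.AlgebraicGeometry.Sites.Etale
import Mathlib.AlgebraicGeometry.Morphisms.UniversallyOpen
import Mathlib.AlgebraicGeometry.Morphisms.FlatDescent
import Mathlib.CategoryTheory.Sites.Whiskering

set_option autoImplicit false
universe u
open CategoryTheory CategoryTheory.Limits AlgebraicGeometry Opposite
open EtAcyc

namespace Groth.Agent.S8524


theorem primesIn_prod (L : Set ℕ) {ι : Type*} (t : Finset ι) (m : ι → ℕ)
    (h : ∀ i ∈ t, PrimesIn L (m i)) : PrimesIn L (∏ i ∈ t, m i) := by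
  refine ⟨Finset.prod_pos fun i hi => (h i hi).1, fun p hp hdvd => ?_⟩
  obtain ⟨i, hi, hpi⟩ := (Prime.dvd_finsetProd_iff hp.prime _).1 hdvd
  exact (h i hi).2 p hp hpi

/-- For the small etale site of a scheme and abelian sheaves: let L be a set of primes, F an abelian
L-torsion sheaf on the small etale site of a scheme X, and U an etale X-scheme with quasi-compact
underlying space. Then every section of F over U is killed by some positive integer all of whose
prime factors lie in L. -/
theorem result {X : Scheme.{u}} (L : Set ℕ) (F : EtCoh.Ab X)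
    (hF : EtAcyc.IsLTorsion L F) (U : X.Etale) [CompactSpace U.left] (s : EtCoh.sect F U) :
    ∃ m : ℕ, EtAcyc.PrimesIn L m ∧ m • s = 0 := by
  classical
  choose V g m hx hm hs using hF U s
  have hopen : ∀ x, IsOpen (Set.range (g x).left.base) := fun x =>
    (g x).left.isOpenMap.isOpen_range
  have hcov : (Set.univ : Set U.left) ⊆ ⋃ x, Set.range (g x).left.base := by
    intro x _
    obtain ⟨v, hv⟩ := hx x
    exact Set.mem_iUnion.2 ⟨x, v, hv⟩
  obtain ⟨t, ht⟩ := isCompact_univ.elim_finite_subcover _ hopen hcov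
  refine ⟨∏ x ∈ t, m x, primesIn_prod L t m fun x _ => hm x, ?_⟩
  have hsieve : Sieve.ofArrows (fun x : t => V x.1) (fun x : t => g x.1) ∈
      X.smallEtaleTopology U := by
    rw [Scheme.ofArrows_mem_smallEtaleTopology_iff]
    apply Set.eq_univ_of_univ_subset
    intro y hy
    obtain ⟨x, hx1, hx2⟩ := Set.mem_iUnion₂.1 (ht hy)
    exact Set.mem_iUnion.2 ⟨⟨x, hx1⟩, hx2⟩
  have hsh := (Presheaf.isSheaf_iff_isSheaf_forget X.smallEtaleTopology F.obj
    (forget AddCommGrpCat)).1 F.property
  have hsep := ((isSheaf_iff_isSheaf_of_type _ _).1 hsh).isSeparated _ hsieve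
  refine hsep.ext ?_
  rintro W f ⟨W', a, b, ⟨x⟩, rfl⟩
  have h1 : F.obj.map (g x.1).op ((∏ y ∈ t, m y) • s) = 0 := by
    rw [map_nsmul, ← Finset.mul_prod_erase t m x.2, mul_nsmul, hs, smul_zero]
  change (F.obj.map (a ≫ g x.1).op) _ = (F.obj.map (a ≫ g x.1).op) 0
  rw [op_comp, F.obj.map_comp]
  change F.obj.map a.op (F.obj.map (g x.1).op _) = _
  rw [h1, map_zero, map_zero]


end Groth.Agent.S8524
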