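import Groth.Statements.S8535
import Mathlib

set_option autoImplicit false
universe v v' u u'
open CategoryTheory CategoryTheory.Limits
open DeltaF

namespace Groth.Agent.S8535


section
variable {A : Type u} [Category.{v} A] [Abelian A]
    {B : Type u'} [Category.{v'} B] [Abelian B] (T T' : DeltaF.CohDeltaFunctor A B ℕ)
    (φ : T ⟶ T')

/-- the short exact sequence of a monomorphism -/
noncomputable abbrev sc {X Y : A} (u : X ⟶ Y) : ShortComplex A :=
  ShortComplex.mk u (cokernel.π u) (cokernel.condition u)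

theorem sc_shortExact {X Y : A} (u : X ⟶ Y) [Mono u] : (sc u).ShortExact where
  exact := ShortComplex.exact_cokernel u
  mono_f := inferInstanceAs (Mono u)
  epi_g := inferInstanceAs (Epi (cokernel.π u))

theorem mono_step (i : ℕ) (hepi : ∀ X : A, Epi ((φ.app i).app X))
    (hmono : ∀ X : A, Mono ((φ.app i).app X))
    (hT : ∀ X : A, ∃ (Y : A) (u : X ⟶ Y), Mono u ∧ (T.F (i + 1)).map u = 0) (X : A) :
    Mono ((φ.app (i + 1)).app X) := by
  obtain ⟨Y, u, hu, hTu⟩ := hT X
  have hS := sc_shortExact u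
  apply Preadditive.mono_of_cancel_zero
  intro W f hf
  -- δ is epi
  have hδepi : Epi (T.δ (sc u) hS i (i + 1) rfl) :=
    (T.exact₁ (sc u) hS i (i + 1) rfl).epi_f hTu
  obtain ⟨W₁, π₁, hπ₁, z, hz⟩ := surjective_up_to_refinements_of_epi (T.δ (sc u) hS i (i + 1) rfl) f
  have h1 : (z ≫ (φ.app i).app (sc u).X₃) ≫ T'.δ (sc u) hS i (i + 1) rfl = 0 := by
    rw [Category.assoc, ← φ.comm (sc u) hS i (i + 1) rfl, ← Category.assoc, ← hz, Category.assoc]
    have : f ≫ (φ.app (i + 1)).app (sc u).X₁ = 0 := hf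
    rw [this, comp_zero]
  obtain ⟨W₂, π₂, hπ₂, y', hy'⟩ :=
    (T'.exact₃ (sc u) hS i (i + 1) rfl).exact_up_to_refinements _ h1
  have := hepi (sc u).X₂
  obtain ⟨W₃, π₃, hπ₃, y, hy⟩ := surjective_up_to_refinements_of_epi ((φ.app i).app (sc u).X₂) y'
  have h2 : (π₃ ≫ π₂ ≫ z) ≫ (φ.app i).app (sc u).X₃ =
      (y ≫ (T.F i).map (sc u).g) ≫ (φ.app i).app (sc u).X₃ := by
    simp only [Category.assoc]
    rw [hy', ← Category.assoc π₃, hy, Category.assoc]
    congr 1
    exact ((φ.app i).naturality (sc u).g).symm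
  have := hmono (sc u).X₃
  have h3 : π₃ ≫ π₂ ≫ z = y ≫ (T.F i).map (sc u).g := (cancel_mono _).1 h2
  have h4 : (π₃ ≫ π₂ ≫ π₁) ≫ f = 0 := by
    simp only [Category.assoc]
    rw [hz, ← Category.assoc π₂, ← Category.assoc π₃, ← Category.assoc π₃] 
    rw [Category.assoc π₃ π₂ z, h3, Category.assoc, T.comp_δ, comp_zero]
  have : Epi (π₃ ≫ π₂ ≫ π₁) := epi_comp' hπ₃ (epi_comp' hπ₂ hπ₁)
  exact (cancel_epi _).1 (h4.trans comp_zero.symm)

theorem epi_step (i : ℕ) (hepi : ∀ X : A, Epi ((φ.app i).app X))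
    (hT' : ∀ X : A, ∃ (Y : A) (u : X ⟶ Y), Mono u ∧ (T'.F (i + 1)).map u = 0) (X : A) :
    Epi ((φ.app (i + 1)).app X) := by
  obtain ⟨Y, u, hu, hTu⟩ := hT' X
  have hS := sc_shortExact u
  have hδepi : Epi (T'.δ (sc u) hS i (i + 1) rfl) :=
    (T'.exact₁ (sc u) hS i (i + 1) rfl).epi_f hTu
  have := hepi (sc u).X₃
  have h1 : Epi (T.δ (sc u) hS i (i + 1) rfl ≫ (φ.app (i + 1)).app (sc u).X₁) := by
    rw [φ.comm (sc u) hS i (i + 1) rfl]
    infer_instance
  exact epi_of_epi (T.δ (sc u) hS i (i + 1) rfl) _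

end

/-- Let A and B be abelian categories, T and T' cohomological delta-functors from A to B in degrees ≥ 0
whose degree-0 components are left exact (they vanish in negative degrees), such that T^i is
effaceable for every i > 0, and let φ : T → T' be a morphism of delta-functors and n a natural
number. Then the following are equivalent: (a) φ^i is an isomorphism for i ≤ n and a monomorphism
for i = n + 1; (b) φ^0 is a monomorphism and φ^i is an epimorphism for every i ≤ n; (c) φ^0 is an
isomorphism and, for 0 < i ≤ n, T'^i is effaceable (every object X admits a monomorphism X → Y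
killed by T'^i). -/
theorem result {A : Type u} [Category.{v} A] [Abelian A]
    {B : Type u'} [Category.{v'} B] [Abelian B] (T T' : DeltaF.CohDeltaFunctor A B ℕ)
    (h0 : T.ZeroMono) (h0' : T'.ZeroMono) (hT : T.IsEffaceable) (φ : T ⟶ T') (n : ℕ) :
    ((∀ i : ℕ, i ≤ n → IsIso (φ.app i)) ∧ Mono (φ.app (n + 1)) ↔
      (Mono (φ.app 0) ∧ ∀ i : ℕ, i ≤ n → Epi (φ.app i))) ∧
    ((∀ i : ℕ, i ≤ n → IsIso (φ.app i)) ∧ Mono (φ.app (n + 1)) ↔
      (IsIso (φ.app 0) ∧ ∀ i : ℕ, 0 < i → i ≤ n → ∀ X : A, ∃ (Y : A) (u : X ⟶ Y), Mono u ∧ (T'.F i).map u = 0)) := by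
  have hTe : ∀ i : ℕ, ∀ X : A, ∃ (Y : A) (u : X ⟶ Y), Mono u ∧ (T.F (i + 1)).map u = 0 := hT
  -- objectwise criteria
  have iso_of : ∀ i : ℕ, (∀ X : A, Mono ((φ.app i).app X)) → (∀ X : A, Epi ((φ.app i).app X)) →
      IsIso (φ.app i) := by
    intro i hm he
    have : ∀ X : A, IsIso ((φ.app i).app X) := fun X => by
      have := hm X
      have := he X
      exact isIso_of_mono_of_epi _
    exact NatIso.isIso_of_isIso_app _
  constructor
  · constructor
    · rintro ⟨hiso, _⟩
      refine ⟨?_, fun i hi => ?_⟩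
      · have := hiso 0 (Nat.zero_le n)
        infer_instance
      · have := hiso i hi
        infer_instance
    · rintro ⟨hm0, hepi⟩
      have hepi' : ∀ i : ℕ, i ≤ n → ∀ X : A, Epi ((φ.app i).app X) := by
        intro i hi
        have := hepi i hi
        exact (NatTrans.epi_iff_epi_app _).1 inferInstance
      have hmono : ∀ i : ℕ, i ≤ n + 1 → ∀ X : A, Mono ((φ.app i).app X) := by
        intro i
        induction i with
        | zero =>
          intro _
          exact (NatTrans.mono_iff_mono_app _).1 hm0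
        | succ i ih =>
          intro hi
          exact mono_step T T' φ i (hepi' i (by omega)) (ih (by omega)) (hTe i)
      refine ⟨fun i hi => iso_of i (hmono i (by omega)) (hepi' i hi), ?_⟩
      have := hmono (n + 1) le_rfl
      exact NatTrans.mono_of_mono_app _
  · constructor
    · rintro ⟨hiso, _⟩
      refine ⟨hiso 0 (Nat.zero_le n), ?_⟩
      intro i hi0 hin X
      obtain ⟨j, rfl⟩ : ∃ j, i = j + 1 := ⟨i - 1, by omega⟩
      obtain ⟨Y, u, hu, hTu⟩ := hTe j X
      refine ⟨Y, u, hu, ?_⟩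
      have := hiso (j + 1) hin
      have hnat := (φ.app (j + 1)).naturality u
      rw [hTu, zero_comp] at hnat
      have h2 : IsIso ((φ.app (j + 1)).app X) := inferInstance
      exact (cancel_epi ((φ.app (j + 1)).app X)).1 (hnat.symm.trans comp_zero.symm)
    · rintro ⟨hiso0, heff⟩
      have hboth : ∀ i : ℕ, i ≤ n → (∀ X : A, Mono ((φ.app i).app X)) ∧
          (∀ X : A, Epi ((φ.app i).app X)) := by
        intro i
        induction i with
        | zero =>
          intro _
          exact ⟨fun X => inferInstance, fun X => inferInstance⟩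
        | succ i ih =>
          intro hi
          obtain ⟨hm, he⟩ := ih (by omega)
          exact ⟨mono_step T T' φ i he hm (hTe i),
            epi_step T T' φ i he (heff (i + 1) (Nat.succ_pos i) hi)⟩
      refine ⟨fun i hi => iso_of i (hboth i hi).1 (hboth i hi).2, ?_⟩
      have := mono_step T T' φ n (hboth n le_rfl).2 (hboth n le_rfl).1 (hTe n)
      exact NatTrans.mono_of_mono_app _


end Groth.Agent.S8535
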