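import Groth.Statements.S8591
import Mathlib
import Groth.Agent.H4.NormRes

set_option autoImplicit false
universe u
open CAlg

namespace Groth.Agent.S8591

open Polynomial

theorem minpoly_root_of_monic {k : Type u} [CommRing k] [Nontrivial k] (g : k[X]) (hg : g.Monic) :
    minpoly k (AdjoinRoot.root g) = g := by
  symm
  refine minpoly.unique' k (AdjoinRoot.root g) hg ?_ ?_
  · rw [AdjoinRoot.aeval_eq, AdjoinRoot.mk_self]
  · intro q hq
    by_cases hq0 : q = 0
    · exact Or.inl hq0
    · right
      rw [AdjoinRoot.aeval_eq]
      intro h0
      rw [AdjoinRoot.mk_eq_zero] at h0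
      exact hg.not_dvd_of_degree_lt hq0 hq h0

theorem norm_eq_resultant {k : Type u} [CommRing k] [Nontrivial k] (g P : k[X]) (hg : g.Monic) :
    Algebra.norm k (AdjoinRoot.mk g P) = resultant g P g.natDegree P.natDegree := by
  classical
  let h := AdjoinRoot.powerBasis' hg
  rw [Algebra.norm_eq_matrix_det h.basis, ← AdjoinRoot.aeval_eq, ← Polynomial.aeval_algHom_apply]
  have hgen : h.gen = AdjoinRoot.root g := AdjoinRoot.powerBasis'_gen hg
  have hcp : (Algebra.leftMulMatrix h.basis (AdjoinRoot.root g)).charpoly = g := by
    rw [← hgen, charpoly_leftMulMatrix h, hgen, minpoly_root_of_monic g hg]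
  have := Groth.Agent.H4.NormRes.det_aeval_eq_resultant P _
    (Algebra.leftMulMatrix h.basis (AdjoinRoot.root g))
  rw [hcp] at this
  exact this

/-- Let k be a commutative ring, M a finite free k-module, u an endomorphism of M with characteristic
polynomial χ, and P a polynomial over k. Then the norm, from the k-algebra k[T]/(χ) (free of rank
the rank of M) down to k, of the class of P(T) equals det(P(u)). (The published statement writes the
quotient by det(u - T), which generates the same ideal as χ(T) = det(T - u).) -/
theorem result (k : Type u) [CommRing k] (M : Type u) [AddCommGroup M] [Module k M]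
    [Module.Free k M] [Module.Finite k M] (u : M →ₗ[k] M) (P : Polynomial k) :
    Algebra.norm k (AdjoinRoot.mk u.charpoly P) = LinearMap.det (Polynomial.aeval u P) := by
  classical
  rcases subsingleton_or_nontrivial k with hk | hk
  · exact Subsingleton.elim _ _
  rw [norm_eq_resultant _ _ (LinearMap.charpoly_monic u)]
  let b := Module.finBasis k M
  have h1 : LinearMap.det (aeval u P) = (aeval (LinearMap.toMatrix b b u) P).det := by
    rw [← LinearMap.det_toMatrix b]
    congr 1
    exact (Polynomial.aeval_algHom_apply (LinearMap.toMatrixAlgEquiv b).toAlgHom u P).symm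
  rw [h1, Groth.Agent.H4.NormRes.det_aeval_eq_resultant, LinearMap.charpoly_toMatrix,
    LinearMap.charpoly_natDegree]


end Groth.Agent.S8591
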