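import Groth.Statements.S8604
import Mathlib
import Groth.Agent.H4.SemiLang

set_option autoImplicit false
universe u
open CAlg

namespace Groth.Agent.S8604

open Groth.Agent.H4.SemiLang



/-- Over an algebraically closed field: let k be an algebraically closed field of characteristic p > 0,
V a finite-dimensional k-vector space and F : V -> V a p-linear endomorphism (additive with F(a·v) =
a^p·F(v)). Let V^F be the set of vectors fixed by F (an F_p-subspace), V_0 the k-span of V^F and V_n
the k-span of the vectors killed by some iterate of F (these already form an F-stable subspace on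
which F is nilpotent). Then V = V_0 ⊕ V_n, and V^F ⊗ k -> V_0 is bijective in the sense that any
finitely many F-fixed vectors linearly independent over Z/p (every vanishing integer combination has
all coefficients divisible by p) are linearly independent over k. (The published statement asserts
this decomposition, with V^F ⊗ k ≅ V_0, for every PERFECT field k; that is false when k is not
separably closed — for k = Z/3, V = k and F = multiplication by 2 there are no nonzero fixed vectors
although F is bijective — and the decomposition is stated here over an algebraically closed field,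
the case in which it holds.) -/
theorem result (p : ℕ) [Fact p.Prime] (k : Type u) [Field k]
    [IsAlgClosed k] [CharP k p] (V : Type u) [AddCommGroup V] [Module k V] [FiniteDimensional k V]
    (F : V →+ V) (hF : ∀ (a : k) (v : V), F (a • v) = a ^ p • F v) :
    IsCompl (Submodule.span k {v : V | F v = v})
        (Submodule.span k {v : V | ∃ m : ℕ, (⇑F)^[m] v = 0}) ∧
      ∀ (s : Finset V), (∀ v ∈ s, F v = v) →
        (∀ c : s → ℤ, (∑ v : s, c v • (v : V)) = 0 → ∀ v : s, (p : ℤ) ∣ c v) →
          LinearIndependent k (fun v : s => (v : V)) := by
  classical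
  have h : IsQLin (k := k) p F := hF
  have hp := (Fact.out : p.Prime)
  have hq1 : 1 < p := hp.one_lt
  have hq0 : ((p : ℕ) : k) = 0 := CharP.cast_eq_zero k p
  refine ⟨⟨?_, ?_⟩, ?_⟩
  · -- disjoint
    rw [Submodule.disjoint_def]
    have hB : ∀ x ∈ Submodule.span k {v : V | ∃ m : ℕ, (⇑F)^[m] v = 0}, ∃ m : ℕ, F^[m] x = 0 := by
      intro x hxB
      induction hxB using Submodule.span_induction with
      | mem x hx => exact hx
      | zero => exact ⟨0, rfl⟩
      | add x y _ _ hx hy =>
        obtain ⟨m1, h1⟩ := hx
        obtain ⟨m2, h2⟩ := hy
        refine ⟨m1 + m2, ?_⟩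
        rw [iterate_map_add]
        have e1 : F^[m1 + m2] x = 0 := by
          rw [add_comm, Function.iterate_add_apply, h1, iterate_map_zero]
        have e2 : F^[m1 + m2] y = 0 := by
          rw [Function.iterate_add_apply, h2, iterate_map_zero]
        rw [e1, e2, add_zero]
      | smul c x _ hx =>
        obtain ⟨m, hm⟩ := hx
        exact ⟨m, by rw [h.iterate, hm, smul_zero]⟩
    intro x hxA hxB
    have hB := hB x hxB
    obtain ⟨m, hm⟩ := hB
    obtain ⟨t, ht, hspan, hli⟩ := exists_linearIndependent k {v : V | F v = v}
    rw [← hspan, ← Subtype.range_coe (s := t)] at hxA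
    obtain ⟨l, hl⟩ := (Finsupp.mem_span_range_iff_exists_finsupp).mp hxA
    rw [Finsupp.sum] at hl
    have hsum : ∑ i ∈ l.support, (l i) ^ (p ^ m) • (i : V) = 0 := by
      rw [← hm, ← hl, h.iterate_sum_smul]
      apply Finset.sum_congr rfl
      intro i _
      rw [Function.iterate_fixed (ht i.2) m]
    have hzero := linearIndependent_iff'.mp hli l.support (fun i => l i ^ (p ^ m)) hsum
    have hsupp : l.support = ∅ := by
      rw [Finset.eq_empty_iff_forall_notMem]
      intro i hi
      have := hzero i hi
      have h0 : l i = 0 := (pow_eq_zero_iff (pow_pos hp.pos m).ne').mp this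
      exact (Finsupp.mem_support_iff.mp hi) h0
    rw [← hl, hsupp, Finset.sum_empty]
  · -- codisjoint
    rw [codisjoint_iff, eq_top_iff]
    rintro v -
    obtain ⟨N, hN⟩ := iterate_mem_span_fixed hq1 hq0 h
    have hz := hN v
    rw [← Subtype.range_coe (s := {x : V | F x = x})] at hz
    obtain ⟨l, hl⟩ := (Finsupp.mem_span_range_iff_exists_finsupp).mp hz
    rw [Finsupp.sum] at hl
    have hroot : ∀ i, ∃ d : k, d ^ (p ^ (N + 1)) = l i := fun i =>
      IsAlgClosed.exists_pow_nat_eq (l i) (pow_pos hp.pos (N + 1))
    choose d hd using hroot
    set y : V := ∑ i ∈ l.support, d i • (i : V) with hy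
    have hFy : F^[N + 1] y = F^[N + 1] v := by
      rw [hy, h.iterate_sum_smul, ← hl]
      apply Finset.sum_congr rfl
      intro i _
      rw [hd, Function.iterate_fixed i.2 (N + 1)]
    have hyA : y ∈ Submodule.span k {v : V | F v = v} := by
      apply Submodule.sum_mem
      intro i _
      exact Submodule.smul_mem _ _ (Submodule.subset_span i.2)
    have hvy : v - y ∈ Submodule.span k {v : V | ∃ m : ℕ, (⇑F)^[m] v = 0} := by
      apply Submodule.subset_span
      refine ⟨N + 1, ?_⟩
      rw [iterate_map_sub, hFy, sub_self]
    have : v = y + (v - y) := by abel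
    rw [this]
    exact Submodule.add_mem_sup hyA hvy
  · intro s hs hind
    apply linearIndependent_fixed h hp.pos s hs
    intro g hg hsum
    have hn : ∀ v : s, ∃ n : ℤ, (n : k) = g v := by
      intro v
      have : g v ∈ (⊥ : Subfield k) := (Subfield.mem_bot_iff_pow_eq_self k p).mpr (hg v)
      exact (mem_bot_iff_intCast p k).mp this
    choose n hn using hn
    have hsum' : ∑ v : s, n v • (v : V) = 0 := by
      rw [← hsum]
      apply Finset.sum_congr rfl
      intro v _
      rw [← hn v, Int.cast_smul_eq_zsmul]
    intro v
    have := hind n hsum' v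
    rw [← hn v]
    exact (CharP.intCast_eq_zero_iff k p _).mpr this


end Groth.Agent.S8604
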