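import Groth.Statements.S8607
import Mathlib

set_option autoImplicit false
universe u
open CategoryTheory CategoryTheory.Limits AlgebraicGeometry Opposite
open DEt

namespace Groth.Agent.S8607


/-- a closed immersion through which a morphism factors, with scheme-theoretic image everything -/
theorem eq_of_comp_toImage {X Z W Y : Scheme.{u}} (g : X ⟶ Z) (a b : g.image ⟶ W) (q : W ⟶ Y) [IsSeparated q]
    (hq : a ≫ q = b ≫ q) (hab : g.toImage ≫ a = g.toImage ≫ b) : a = b := by
  let Z' : Over Y := Over.mk (a ≫ q)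
  let W' : Over Y := Over.mk q
  let X' : Over Y := Over.mk (g.toImage ≫ a ≫ q)
  let a' : Z' ⟶ W' := Over.homMk a rfl
  let b' : Z' ⟶ W' := Over.homMk b hq.symm
  let j' : X' ⟶ Z' := Over.homMk g.toImage rfl
  have : IsSeparated W'.hom := ‹_›
  have hj : j' ≫ a' = j' ≫ b' := by ext1; exact hab
  let l : X' ⟶ equalizer a' b' := equalizer.lift j' hj
  have hl : l.left ≫ (equalizer.ι a' b').left = g.toImage := by
    rw [← Over.comp_left, equalizer.lift_ι]; rfl
  have hker : ((equalizer.ι a' b').left ≫ g.imageι).ker = g.imageι.ker := by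
    apply le_antisymm
    · have h1 := Scheme.Hom.le_ker_comp l.left ((equalizer.ι a' b').left ≫ g.imageι)
      rw [← Category.assoc, hl, g.toImage_imageι] at h1
      rw [Scheme.Hom.imageι, Scheme.IdealSheafData.ker_subschemeι]
      exact h1
    · exact Scheme.Hom.le_ker_comp _ _
  have : IsIso (equalizer.ι a' b').left :=
    IsClosedImmersion.isIso_of_ker_eq ((equalizer.ι a' b').left ≫ g.imageι) g.imageι _ rfl hker
  rw [← cancel_epi (equalizer.ι a' b').left]
  exact congr($(equalizer.condition a' b').left)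

/-- The equalizing half of 'the category of compactifications of f is cofiltering': let f : X -> Y be a
morphism of quasi-compact quasi-separated schemes, (Xbar_1, j_1, fbar_1) and (Xbar_2, j_2, fbar_2)
two compactifications of f, and r, s : Xbar_1 -> Xbar_2 two morphisms of compactifications (r ∘ j_1
= j_2 = s ∘ j_1 and fbar_2 ∘ r = fbar_1 = fbar_2 ∘ s). Then there are a compactification (Xbar, j,
fbar) of f and a proper morphism t : Xbar -> Xbar_1 of compactifications (t ∘ j = j_1, fbar_1 ∘ t =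
fbar) with r ∘ t = s ∘ t. -/
theorem result {X Y : Scheme.{u}} [CompactSpace ↥X] [QuasiSeparatedSpace ↥X]
    [CompactSpace ↥Y] [QuasiSeparatedSpace ↥Y] {f : X ⟶ Y} (c₁ c₂ : DEt.Compactification f)
    (r s : c₁.Xbar ⟶ c₂.Xbar) (hr : c₁.j ≫ r = c₂.j) (hs : c₁.j ≫ s = c₂.j)
    (hr' : r ≫ c₂.fbar = c₁.fbar) (hs' : s ≫ c₂.fbar = c₁.fbar) :
    ∃ (c : DEt.Compactification f) (t : c.Xbar ⟶ c₁.Xbar), IsProper t ∧ c.j ≫ t = c₁.j ∧ t ≫ c₁.fbar = c.fbar ∧
      t ≫ r = t ≫ s := by
  have : QuasiSeparatedSpace ↥c₁.Xbar := quasiSeparatedSpace_of_quasiSeparated c₁.fbar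
  have : QuasiCompact c₁.j := inferInstance
  refine ⟨⟨c₁.j.image, c₁.j.toImage, c₁.j.imageι ≫ c₁.fbar, inferInstance, inferInstance, ?_⟩,
    c₁.j.imageι, inferInstance, ?_, rfl, ?_⟩
  · rw [← Category.assoc, c₁.j.toImage_imageι, c₁.fac]
  · exact c₁.j.toImage_imageι
  · apply eq_of_comp_toImage c₁.j _ _ c₂.fbar
    · rw [Category.assoc, Category.assoc, hr', hs']
    · rw [← Category.assoc, ← Category.assoc, c₁.j.toImage_imageι, hr, hs]


end Groth.Agent.S8607
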