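import Groth.Statements.S8611
import Groth.Agent.S8535
import Mathlib

set_option autoImplicit false
universe w v u
open CategoryTheory CategoryTheory.Limits
open SGA4h

namespace Groth.Agent.S8611

open SGA4h DeltaF

open Groth.Agent.S8535 (sc sc_shortExact)

section
variable {C : Type u} [Category.{v} C] [Abelian C]
    (T T' : DeltaF.CohDeltaFunctor C AddCommGrpCat.{w} ℕ) (φ : T ⟶ T')

theorem nat_apply (q : ℕ) {A M : C} (u : A ⟶ M) (x : (T.F q).obj A) :
    (φ.app q).app M ((T.F q).map u x) = (T'.F q).map u ((φ.app q).app A x) := by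
  rw [← ConcreteCategory.comp_apply, ← ConcreteCategory.comp_apply, (φ.app q).naturality u]

theorem comm_apply (S : ShortComplex C) (hS : S.ShortExact) (q : ℕ) (x : (T.F q).obj S.X₃) :
    (φ.app (q + 1)).app S.X₁ (T.δ S hS q (q + 1) rfl x) = T'.δ S hS q (q + 1) rfl ((φ.app q).app S.X₃ x) := by
  rw [← ConcreteCategory.comp_apply, ← ConcreteCategory.comp_apply, φ.comm S hS q (q + 1) rfl]

theorem inj_step (q : ℕ) (hbij : ∀ A : C, Function.Bijective ((φ.app q).app A))
    (hT : ∀ (A : C) (α : (T.F (q + 1)).obj A),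
      ∃ (M : C) (u : A ⟶ M), Mono u ∧ (T.F (q + 1)).map u α = 0) (A : C) :
    Function.Injective ((φ.app (q + 1)).app A) := by
  rw [injective_iff_map_eq_zero]
  intro α hα
  obtain ⟨M, u, hu, huα⟩ := hT A α
  have hS := sc_shortExact u
  obtain ⟨β, hβ⟩ := (ShortComplex.ab_exact_iff _).1 (T.exact₁ (sc u) hS q (q + 1) rfl) α huα
  have hβ' : T.δ (sc u) hS q (q + 1) rfl β = α := hβ
  have h1 : T'.δ (sc u) hS q (q + 1) rfl ((φ.app q).app (sc u).X₃ β) = 0 := by
    rw [← comm_apply, hβ']; exact hα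
  obtain ⟨γ', hγ'⟩ := (ShortComplex.ab_exact_iff _).1 (T'.exact₃ (sc u) hS q (q + 1) rfl) _ h1
  have hγ'' : (T'.F q).map (sc u).g γ' = (φ.app q).app (sc u).X₃ β := hγ'
  obtain ⟨γ, rfl⟩ := (hbij (sc u).X₂).2 γ'
  rw [← nat_apply] at hγ''
  have h2 : (T.F q).map (sc u).g γ = β := (hbij (sc u).X₃).1 hγ''
  rw [← hβ', ← h2, ← ConcreteCategory.comp_apply, T.comp_δ]
  rfl

theorem surj_step (q : ℕ) (hsurj : ∀ A : C, Function.Surjective ((φ.app q).app A))
    (hT' : ∀ (A : C) (α : (T'.F (q + 1)).obj A),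
      ∃ (M : C) (u : A ⟶ M), Mono u ∧ (T'.F (q + 1)).map u α = 0) (A : C) :
    Function.Surjective ((φ.app (q + 1)).app A) := by
  intro α'
  obtain ⟨M, u, hu, huα⟩ := hT' A α'
  have hS := sc_shortExact u
  obtain ⟨β', hβ'⟩ := (ShortComplex.ab_exact_iff _).1 (T'.exact₁ (sc u) hS q (q + 1) rfl) α' huα
  have hβ'' : T'.δ (sc u) hS q (q + 1) rfl β' = α' := hβ'
  obtain ⟨β, rfl⟩ := hsurj (sc u).X₃ β'
  exact ⟨T.δ (sc u) hS q (q + 1) rfl β, (comm_apply T T' φ (sc u) hS q β).trans hβ''⟩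

theorem eff_of_E (q : ℕ) (E : ObjectProperty C)
    (hE : ∀ A : C, ∃ (M : C) (i : A ⟶ M), Mono i ∧ E M)
    (hsurj : ∀ M : C, E M → Function.Surjective ((φ.app (q + 1)).app M))
    (hT : ∀ (A : C) (α : (T.F (q + 1)).obj A),
      ∃ (M : C) (u : A ⟶ M), Mono u ∧ (T.F (q + 1)).map u α = 0)
    (A : C) (α' : (T'.F (q + 1)).obj A) :
    ∃ (M : C) (u : A ⟶ M), Mono u ∧ (T'.F (q + 1)).map u α' = 0 := by
  obtain ⟨M, i, hi, hM⟩ := hE A
  obtain ⟨μ, hμ⟩ := hsurj M hM ((T'.F (q + 1)).map i α')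
  obtain ⟨M', v, hv, hvμ⟩ := hT M μ
  refine ⟨M', i ≫ v, mono_comp i v, ?_⟩
  rw [Functor.map_comp, ConcreteCategory.comp_apply, ← hμ, ← nat_apply, hvμ, map_zero]

theorem zero_inj (hT0 : T.ZeroMono) (E : ObjectProperty C)
    (hE : ∀ A : C, ∃ (M : C) (i : A ⟶ M), Mono i ∧ E M)
    (hinj : ∀ M : C, E M → Function.Injective ((φ.app 0).app M)) (A : C) :
    Function.Injective ((φ.app 0).app A) := by
  rw [injective_iff_map_eq_zero]
  intro x hx
  obtain ⟨M, i, hi, hM⟩ := hE A
  have hS := sc_shortExact i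
  have hmono : Function.Injective ((T.F 0).map i) :=
    (AddCommGrpCat.mono_iff_injective _).1 (hT0 (sc i) hS)
  apply hmono
  rw [map_zero]
  apply hinj M hM
  rw [nat_apply, hx, map_zero, map_zero]

theorem zero_surj (hT0 : T.ZeroMono) (hT'0 : T'.ZeroMono) (E : ObjectProperty C)
    (hE : ∀ A : C, ∃ (M : C) (i : A ⟶ M), Mono i ∧ E M)
    (hbij : ∀ M : C, E M → Function.Bijective ((φ.app 0).app M)) (A : C) :
    Function.Surjective ((φ.app 0).app A) := by
  intro y
  obtain ⟨M, i, hi, hM⟩ := hE A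
  have hS := sc_shortExact i
  have hmono' : Function.Injective ((T'.F 0).map i) :=
    (AddCommGrpCat.mono_iff_injective _).1 (hT'0 (sc i) hS)
  obtain ⟨m, hm⟩ := (hbij M hM).2 ((T'.F 0).map i y)
  have hQ : Function.Injective ((φ.app 0).app (sc i).X₃) :=
    zero_inj T T' φ hT0 E hE (fun M hM => (hbij M hM).1) _
  have h1 : (T.F 0).map (sc i).g m = 0 := by
    apply hQ
    rw [nat_apply, map_zero]
    show (T'.F 0).map (sc i).g ((φ.app 0).app M m) = 0
    rw [hm, ← ConcreteCategory.comp_apply, ← Functor.map_comp]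
    have : i ≫ (sc i).g = 0 := (sc i).zero
    rw [this, Functor.map_zero]
    rfl
  obtain ⟨x, hx⟩ := (ShortComplex.ab_exact_iff _).1 (T.exact₂ (sc i) hS 0) m h1
  have hx' : (T.F 0).map i x = m := hx
  refine ⟨x, hmono' ?_⟩
  rw [← nat_apply, hx', hm]

theorem all_of_zero_eff (hbij0 : ∀ A : C, Function.Bijective ((φ.app 0).app A))
    (hT : ∀ (q : ℕ) (A : C) (α : (T.F (q + 1)).obj A),
      ∃ (M : C) (u : A ⟶ M), Mono u ∧ (T.F (q + 1)).map u α = 0)
    (hT' : ∀ (q : ℕ) (A : C) (α : (T'.F (q + 1)).obj A),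
      ∃ (M : C) (u : A ⟶ M), Mono u ∧ (T'.F (q + 1)).map u α = 0) :
    ∀ (q : ℕ) (A : C), Function.Bijective ((φ.app q).app A) := by
  intro q
  induction q with
  | zero => exact hbij0
  | succ q ih =>
    intro A
    exact ⟨inj_step T T' φ q ih (hT q) A, surj_step T T' φ q (fun A => (ih A).2) (hT' q) A⟩

end

/-- Let C be an abelian category, T and T' cohomological delta-functors on C in degrees ≥ 0 with values
in abelian groups, both left exact in degree 0, with T effaceable in every degree q > 0 (every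
element of T^q(A) is killed by T^q(u) for some monomorphism u : A → M, depending on the element),
and φ : T → T' a morphism of delta-functors. Let E be a class of objects such that every object
admits a monomorphism into a member of E. Then the following are equivalent: (i) φ^q(A) is bijective
for all q and all A; (ii) φ^0(M) is bijective and φ^q(M) is surjective for q > 0, for all M in E;
(iii) φ^0(A) is bijective for all A and T' is effaceable in every degree > 0 (in the same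
element-wise sense). Stated as (i) ⇔ (ii) together with (i) ⇔ (iii). -/
theorem result {C : Type u} [Category.{v} C] [Abelian C]
    (T T' : DeltaF.CohDeltaFunctor C AddCommGrpCat.{w} ℕ) (hT0 : T.ZeroMono) (hT'0 : T'.ZeroMono)
    (hT : ∀ (q : ℕ) (A : C) (α : (T.F (q + 1)).obj A),
      ∃ (M : C) (u : A ⟶ M), Mono u ∧ (T.F (q + 1)).map u α = 0)
    (φ : T ⟶ T') (E : ObjectProperty C)
    (hE : ∀ A : C, ∃ (M : C) (i : A ⟶ M), Mono i ∧ E M) :
    ((∀ (q : ℕ) (A : C), IsIso ((φ.app q).app A)) ↔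
      ((∀ M : C, E M → IsIso ((φ.app 0).app M)) ∧
        ∀ (q : ℕ) (M : C), E M → Epi ((φ.app (q + 1)).app M))) ∧
    ((∀ (q : ℕ) (A : C), IsIso ((φ.app q).app A)) ↔
      ((∀ A : C, IsIso ((φ.app 0).app A)) ∧
        ∀ (q : ℕ) (A : C) (α : (T'.F (q + 1)).obj A),
          ∃ (M : C) (u : A ⟶ M), Mono u ∧ (T'.F (q + 1)).map u α = 0)) := by
  have key : ∀ {X Y : AddCommGrpCat.{w}} (f : X ⟶ Y), IsIso f ↔ Function.Bijective f :=
    fun f => ConcreteCategory.isIso_iff_bijective f
  constructor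
  · constructor
    · intro h
      exact ⟨fun M _ => h 0 M, fun q M _ => inferInstance⟩
    · rintro ⟨h0, hs⟩ q A
      rw [key]
      have hbijE : ∀ M : C, E M → Function.Bijective ((φ.app 0).app M) :=
        fun M hM => (key _).1 (h0 M hM)
      have hbij0 : ∀ A : C, Function.Bijective ((φ.app 0).app A) := fun A =>
        ⟨zero_inj T T' φ hT0 E hE (fun M hM => (hbijE M hM).1) A,
          zero_surj T T' φ hT0 hT'0 E hE hbijE A⟩
      have hT' : ∀ (q : ℕ) (A : C) (α : (T'.F (q + 1)).obj A),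
          ∃ (M : C) (u : A ⟶ M), Mono u ∧ (T'.F (q + 1)).map u α = 0 := fun q =>
        eff_of_E T T' φ q E hE
          (fun M hM => (AddCommGrpCat.epi_iff_surjective _).1 (hs q M hM)) (hT q)
      exact all_of_zero_eff T T' φ hbij0 hT hT' q A
  · constructor
    · intro h
      refine ⟨fun A => h 0 A, fun q A α' => ?_⟩
      have hb := (key _).1 (h (q + 1) A)
      obtain ⟨α, rfl⟩ := hb.2 α'
      obtain ⟨M, u, hu, huα⟩ := hT q A α
      exact ⟨M, u, hu, by rw [← nat_apply, huα, map_zero]⟩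
    · rintro ⟨h0, hT'⟩ q A
      rw [key]
      exact all_of_zero_eff T T' φ (fun A => (key _).1 (h0 A)) hT hT' q A


end Groth.Agent.S8611
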