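import Groth.Statements.S8612
import Groth.Agent.S8611
import Groth.Agent.H4.AbFiltColim
import Mathlib

set_option autoImplicit false
universe w v u
open CategoryTheory CategoryTheory.Limits
open SGA4h

namespace Groth.Agent.S8612

open SGA4h DeltaF

open Groth.Agent.S8535 (sc sc_shortExact)
open Groth.Agent.S8611 (nat_apply comm_apply)
open Groth.Agent.H4.AbFiltColim (exists_rep eventually_zero)

section
variable {C : Type u} [Category.{v} C] [Abelian C]
    (T T' : DeltaF.CohDeltaFunctor C AddCommGrpCat.{w} ℕ) (φ : T ⟶ T')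

theorem inj_of_iso (q : ℕ) {A B : C} (e : B ≅ A) (h : Function.Injective ((φ.app q).app B)) :
    Function.Injective ((φ.app q).app A) := by
  rw [injective_iff_map_eq_zero]
  intro x hx
  have h1 : (T.F q).map e.inv x = 0 := by
    apply h
    rw [nat_apply, hx, map_zero, map_zero]
  have h2 : (T.F q).map e.hom ((T.F q).map e.inv x) = x := by
    rw [← ConcreteCategory.comp_apply, ← Functor.map_comp, e.inv_hom_id, CategoryTheory.Functor.map_id]
    rfl
  rw [← h2, h1, map_zero]

theorem surj_of_iso (q : ℕ) {A B : C} (e : B ≅ A) (h : Function.Surjective ((φ.app q).app B)) :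
    Function.Surjective ((φ.app q).app A) := by
  intro y
  obtain ⟨x, hx⟩ := h ((T'.F q).map e.inv y)
  refine ⟨(T.F q).map e.hom x, ?_⟩
  rw [nat_apply, hx, ← ConcreteCategory.comp_apply, ← Functor.map_comp, e.inv_hom_id, CategoryTheory.Functor.map_id]
  rfl

variable [HasFilteredColimitsOfSize.{v, v} C]
    [∀ n, PreservesFilteredColimitsOfSize.{v, v} (T.F n)] [∀ n, PreservesFilteredColimitsOfSize.{v, v} (T'.F n)]
    (D : ObjectProperty C)
    (hD : ∀ A : C, ∃ (J : Type v) (_ : SmallCategory J) (_ : IsFiltered J) (K : J ⥤ C) (c : Cocone K)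
      (_ : IsColimit c), (∀ j, D (K.obj j)) ∧ Nonempty (c.pt ≅ A))

include hD in
theorem inj_of_D (q : ℕ) (h : ∀ A : C, D A → Function.Injective ((φ.app q).app A)) (A : C) :
    Function.Injective ((φ.app q).app A) := by
  obtain ⟨J, _, _, K, c, hc, hK, ⟨e⟩⟩ := hD A
  apply inj_of_iso T T' φ q e
  haveI := PreservesFilteredColimitsOfSize.preserves_filtered_colimits (F := T.F q) J
  haveI := PreservesFilteredColimitsOfSize.preserves_filtered_colimits (F := T'.F q) J
  have hcT : IsColimit ((T.F q).mapCocone c) := isColimitOfPreserves (T.F q) hc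
  have hcT' : IsColimit ((T'.F q).mapCocone c) := isColimitOfPreserves (T'.F q) hc
  rw [injective_iff_map_eq_zero]
  intro x hx
  obtain ⟨j, y, hy⟩ := exists_rep (K ⋙ T.F q) _ hcT x
  have hy' : (T.F q).map (c.ι.app j) y = x := hy
  have h1 : (T'.F q).map (c.ι.app j) ((φ.app q).app (K.obj j) y) = 0 :=
    (nat_apply T T' φ q (c.ι.app j) y).symm.trans ((congrArg _ hy').trans hx)
  obtain ⟨k, f, hf⟩ := eventually_zero (K ⋙ T'.F q) _ hcT' j ((φ.app q).app (K.obj j) y) h1
  have hf' : (T'.F q).map (K.map f) ((φ.app q).app (K.obj j) y) = 0 := hf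
  rw [← nat_apply] at hf'
  have h2 : (T.F q).map (K.map f) y = 0 := by
    apply h _ (hK k)
    rw [hf', map_zero]
  have h3 : K.map f ≫ c.ι.app k = c.ι.app j := c.w f
  rw [← hy', ← h3, Functor.map_comp, ConcreteCategory.comp_apply, h2, map_zero]

include hD in
theorem surj_of_D (q : ℕ) (h : ∀ A : C, D A → Function.Surjective ((φ.app q).app A)) (A : C) :
    Function.Surjective ((φ.app q).app A) := by
  obtain ⟨J, _, _, K, c, hc, hK, ⟨e⟩⟩ := hD A
  apply surj_of_iso T T' φ q e
  haveI := PreservesFilteredColimitsOfSize.preserves_filtered_colimits (F := T'.F q) J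
  have hcT' : IsColimit ((T'.F q).mapCocone c) := isColimitOfPreserves (T'.F q) hc
  intro y
  obtain ⟨j, z, hz⟩ := exists_rep (K ⋙ T'.F q) _ hcT' y
  have hz' : (T'.F q).map (c.ι.app j) z = y := hz
  obtain ⟨x, hx⟩ := h _ (hK j) z
  exact ⟨(T.F q).map (c.ι.app j) x, (nat_apply T T' φ q (c.ι.app j) x).trans ((congrArg _ hx).trans hz')⟩

end

/-- Let C be an abelian category with filtered colimits, T and T' cohomological delta-functors on C in
degrees ≥ 0 with values in abelian groups, both left exact in degree 0 and commuting with filtered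
colimits in every degree, and φ : T → T' a morphism of delta-functors. Let D and E be classes of
objects such that (a) every object of C is a filtered colimit of objects of D and (b) every object
of D admits a monomorphism into a member of E. Then φ^q(A) is bijective for all q and all A if and
only if φ^q(M) is bijective for all q and all M in E. -/
theorem result {C : Type u} [Category.{v} C] [Abelian C]
    [HasFilteredColimitsOfSize.{v, v} C]
    (T T' : DeltaF.CohDeltaFunctor C AddCommGrpCat.{w} ℕ) (hT0 : T.ZeroMono) (hT'0 : T'.ZeroMono)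
    [∀ n, PreservesFilteredColimitsOfSize.{v, v} (T.F n)] [∀ n, PreservesFilteredColimitsOfSize.{v, v} (T'.F n)]
    (φ : T ⟶ T') (D E : ObjectProperty C)
    (hD : ∀ A : C, ∃ (J : Type v) (_ : SmallCategory J) (_ : IsFiltered J) (K : J ⥤ C) (c : Cocone K)
      (_ : IsColimit c), (∀ j, D (K.obj j)) ∧ Nonempty (c.pt ≅ A))
    (hE : ∀ A : C, D A → ∃ (M : C) (i : A ⟶ M), Mono i ∧ E M) :
    (∀ (q : ℕ) (A : C), IsIso ((φ.app q).app A)) ↔
      ∀ (q : ℕ) (M : C), E M → IsIso ((φ.app q).app M) := by
  have key : ∀ {X Y : AddCommGrpCat.{w}} (f : X ⟶ Y), IsIso f ↔ Function.Bijective f :=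
    fun f => ConcreteCategory.isIso_iff_bijective f
  constructor
  · intro h q M _
    exact h q M
  intro h
  have hEb : ∀ (q : ℕ) (M : C), E M → Function.Bijective ((φ.app q).app M) :=
    fun q M hM => (key _).1 (h q M hM)
  suffices H : ∀ (q : ℕ) (A : C), Function.Bijective ((φ.app q).app A) from
    fun q A => (key _).2 (H q A)
  intro q
  induction q with
  | zero =>
    -- injective on D
    have hinjD : ∀ A : C, D A → Function.Injective ((φ.app 0).app A) := by
      intro A hA
      obtain ⟨M, i, hi, hM⟩ := hE A hA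
      rw [injective_iff_map_eq_zero]
      intro x hx
      have hS := sc_shortExact i
      have hmono : Function.Injective ((T.F 0).map i) :=
        (AddCommGrpCat.mono_iff_injective _).1 (hT0 (sc i) hS)
      apply hmono
      rw [map_zero]
      apply (hEb 0 M hM).1
      rw [nat_apply, hx, map_zero, map_zero]
    have hinj := inj_of_D T T' φ D hD 0 hinjD
    have hsurjD : ∀ A : C, D A → Function.Surjective ((φ.app 0).app A) := by
      intro A hA y
      obtain ⟨M, i, hi, hM⟩ := hE A hA
      have hS := sc_shortExact i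
      have hmono' : Function.Injective ((T'.F 0).map i) :=
        (AddCommGrpCat.mono_iff_injective _).1 (hT'0 (sc i) hS)
      obtain ⟨m, hm⟩ := (hEb 0 M hM).2 ((T'.F 0).map i y)
      have h1 : (T.F 0).map (sc i).g m = 0 := by
        apply hinj (sc i).X₃
        rw [nat_apply, map_zero]
        show (T'.F 0).map (sc i).g ((φ.app 0).app M m) = 0
        rw [hm, ← ConcreteCategory.comp_apply, ← Functor.map_comp]
        have : i ≫ (sc i).g = 0 := (sc i).zero
        rw [this, Functor.map_zero]
        rfl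
      obtain ⟨x, hx⟩ := (ShortComplex.ab_exact_iff _).1 (T.exact₂ (sc i) hS 0) m h1
      have hx' : (T.F 0).map i x = m := hx
      refine ⟨x, hmono' ?_⟩
      rw [← nat_apply, hx', hm]
    have hsurj := surj_of_D T T' φ D hD 0 hsurjD
    exact fun A => ⟨hinj A, hsurj A⟩
  | succ q ih =>
    have hinjD : ∀ A : C, D A → Function.Injective ((φ.app (q + 1)).app A) := by
      intro A hA
      obtain ⟨M, i, hi, hM⟩ := hE A hA
      have hS := sc_shortExact i
      rw [injective_iff_map_eq_zero]
      intro α hα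
      -- T^{q+1}(i) α = 0
      have h1 : (T.F (q + 1)).map i α = 0 := by
        apply (hEb (q + 1) M hM).1
        rw [nat_apply, hα, map_zero, map_zero]
      obtain ⟨β, hβ⟩ := (ShortComplex.ab_exact_iff _).1 (T.exact₁ (sc i) hS q (q + 1) rfl) α h1
      have hβ' : T.δ (sc i) hS q (q + 1) rfl β = α := hβ
      have h2 : T'.δ (sc i) hS q (q + 1) rfl ((φ.app q).app (sc i).X₃ β) = 0 := by
        rw [← comm_apply, hβ']; exact hα
      obtain ⟨γ', hγ'⟩ := (ShortComplex.ab_exact_iff _).1 (T'.exact₃ (sc i) hS q (q + 1) rfl) _ h2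
      have hγ'' : (T'.F q).map (sc i).g γ' = (φ.app q).app (sc i).X₃ β := hγ'
      obtain ⟨γ, rfl⟩ := (ih (sc i).X₂).2 γ'
      rw [← nat_apply] at hγ''
      have h3 : (T.F q).map (sc i).g γ = β := (ih (sc i).X₃).1 hγ''
      rw [← hβ', ← h3, ← ConcreteCategory.comp_apply, T.comp_δ]
      rfl
    have hinj := inj_of_D T T' φ D hD (q + 1) hinjD
    have hsurjD : ∀ A : C, D A → Function.Surjective ((φ.app (q + 1)).app A) := by
      intro A hA α'
      obtain ⟨M, i, hi, hM⟩ := hE A hA
      have hS := sc_shortExact i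
      obtain ⟨μ, hμ⟩ := (hEb (q + 1) M hM).2 ((T'.F (q + 1)).map i α')
      -- T^{q+1}(π) μ = 0 by injectivity at Q
      have h1 : (T.F (q + 1)).map (sc i).g μ = 0 := by
        apply hinj (sc i).X₃
        rw [nat_apply, map_zero]
        show (T'.F (q + 1)).map (sc i).g ((φ.app (q + 1)).app M μ) = 0
        rw [hμ, ← ConcreteCategory.comp_apply, ← Functor.map_comp]
        have : i ≫ (sc i).g = 0 := (sc i).zero
        rw [this, Functor.map_zero]
        rfl
      obtain ⟨α, hα⟩ := (ShortComplex.ab_exact_iff _).1 (T.exact₂ (sc i) hS (q + 1)) μ h1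
      have hα' : (T.F (q + 1)).map i α = μ := hα
      -- α' - φ α is killed by T'(i), so comes from δ'
      have h2 : (T'.F (q + 1)).map i (α' - (φ.app (q + 1)).app A α) = 0 := by
        rw [map_sub, ← nat_apply, hα', hμ, sub_self]
      obtain ⟨β', hβ'⟩ := (ShortComplex.ab_exact_iff _).1 (T'.exact₁ (sc i) hS q (q + 1) rfl) _ h2
      have hβ'' : T'.δ (sc i) hS q (q + 1) rfl β' = α' - (φ.app (q + 1)).app A α := hβ'
      obtain ⟨β, rfl⟩ := (ih (sc i).X₃).2 β'
      refine ⟨α + T.δ (sc i) hS q (q + 1) rfl β, ?_⟩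
      rw [map_add]
      have := comm_apply T T' φ (sc i) hS q β
      rw [hβ''] at this
      show (φ.app (q + 1)).app A α + (φ.app (q + 1)).app (sc i).X₁ (T.δ (sc i) hS q (q + 1) rfl β) = α'
      rw [this]; abel
    have hsurj := surj_of_D T T' φ D hD (q + 1) hsurjD
    exact fun A => ⟨hinj A, hsurj A⟩


end Groth.Agent.S8612
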