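import Groth.Statements.S8625
import Mathlib

set_option autoImplicit false
universe u
open SGA4h

namespace Groth.Agent.S8625


variable {G : Type u} [Group G] (F : G →* G)

theorem fix_L' (g : G) (h : F (F g * g⁻¹) = F g * g⁻¹) : F (g⁻¹ * F g) = g⁻¹ * F g := by
  have h2 : F (F g) = F g * g⁻¹ * F g := by
    have := h
    rw [map_mul, map_inv] at this
    calc F (F g) = F (F g) * (F g)⁻¹ * F g := by group
      _ = F g * g⁻¹ * F g := by rw [this]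
  rw [map_mul, map_inv, h2]; group

theorem fix_L (g : G) (h : F (g⁻¹ * F g) = g⁻¹ * F g) : F (F g * g⁻¹) = F g * g⁻¹ := by
  have h2 : F (F g) = F g * g⁻¹ * F g := by
    have := h
    rw [map_mul, map_inv] at this
    calc F (F g) = F g * ((F g)⁻¹ * F (F g)) := by group
      _ = F g * g⁻¹ * F g := by rw [this]; group
  rw [map_mul, map_inv, h2]; group

theorem keyA (x y : G) (hx : F (F x * x⁻¹) = F x * x⁻¹) (hy : F (F y * y⁻¹) = F y * y⁻¹)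
    (hx' : F (x⁻¹ * F x) = x⁻¹ * F x) (hy' : F (y⁻¹ * F y) = y⁻¹ * F y)
    (h : IsConj (⟨F x * x⁻¹, hx⟩ : ↥(F.eqLocus (MonoidHom.id G))) ⟨F y * y⁻¹, hy⟩) :
    IsConj (⟨x⁻¹ * F x, hx'⟩ : ↥(F.eqLocus (MonoidHom.id G))) ⟨y⁻¹ * F y, hy'⟩ := by
  rw [isConj_iff] at h ⊢
  obtain ⟨⟨c, hc⟩, hcc⟩ := h
  have hc' : F c = c := hc
  have hcc' : c * (F x * x⁻¹) * c⁻¹ = F y * y⁻¹ := congrArg Subtype.val hcc
  -- y = c x d with d fixed
  have hd : F (y⁻¹ * (c * x)) = y⁻¹ * (c * x) := by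
    have : F y = c * (F x * x⁻¹) * c⁻¹ * y := by rw [hcc']; group
    rw [map_mul, map_inv, map_mul, this, hc']; group
  refine ⟨⟨y⁻¹ * (c * x), hd⟩, ?_⟩
  apply Subtype.ext
  show y⁻¹ * (c * x) * (x⁻¹ * F x) * (y⁻¹ * (c * x))⁻¹ = y⁻¹ * F y
  have : F y = c * (F x * x⁻¹) * c⁻¹ * y := by rw [hcc']; group
  rw [this]; group

theorem keyB (x y : G) (hx : F (F x * x⁻¹) = F x * x⁻¹) (hy : F (F y * y⁻¹) = F y * y⁻¹)
    (hx' : F (x⁻¹ * F x) = x⁻¹ * F x) (hy' : F (y⁻¹ * F y) = y⁻¹ * F y)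
    (h : IsConj (⟨x⁻¹ * F x, hx'⟩ : ↥(F.eqLocus (MonoidHom.id G))) ⟨y⁻¹ * F y, hy'⟩) :
    IsConj (⟨F x * x⁻¹, hx⟩ : ↥(F.eqLocus (MonoidHom.id G))) ⟨F y * y⁻¹, hy⟩ := by
  rw [isConj_iff] at h ⊢
  obtain ⟨⟨c, hc⟩, hcc⟩ := h
  have hc' : F c = c := hc
  have hcc' : c * (x⁻¹ * F x) * c⁻¹ = y⁻¹ * F y := congrArg Subtype.val hcc
  have hFy : F y = y * (c * (x⁻¹ * F x) * c⁻¹) := by rw [hcc']; group
  have hd : F (y * c * x⁻¹) = y * c * x⁻¹ := by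
    rw [map_mul, map_mul, map_inv, hFy, hc']; group
  refine ⟨⟨y * c * x⁻¹, hd⟩, ?_⟩
  apply Subtype.ext
  show y * c * x⁻¹ * (F x * x⁻¹) * (y * c * x⁻¹)⁻¹ = F y * y⁻¹
  rw [hFy]; group

/-- Let G be a group with an endomorphism F, and assume the Lang map g ↦ F(g)g⁻¹ is surjective (for
instance the geometric points of a connected algebraic group over F_q with its Frobenius, where the
surjectivity is the classical result of Lang; the other Lang map g ↦ g⁻¹F(g) is then surjective too,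
by g ↦ g⁻¹). Let G^F be the subgroup of fixed points of F. (i) If F(g)g⁻¹ is fixed by F then so is
g⁻¹F(g). (ii), (iii) There is a bijection of the set of conjugacy classes of G^F with itself
sending, for every g with F(g)g⁻¹ ∈ G^F, the class of F(g)g⁻¹ to the class of g⁻¹F(g) (in particular
the latter class depends only on the former). -/
theorem result {G : Type u} [Group G] (F : G →* G)
    (hL : Function.Surjective fun g : G => F g * g⁻¹) :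
    (∀ g : G, F (F g * g⁻¹) = F g * g⁻¹ → F (g⁻¹ * F g) = g⁻¹ * F g) ∧
    ∃ φ : ConjClasses ↥(F.eqLocus (MonoidHom.id G)) → ConjClasses ↥(F.eqLocus (MonoidHom.id G)),
      Function.Bijective φ ∧
      ∀ (g : G) (h : F (F g * g⁻¹) = F g * g⁻¹) (h' : F (g⁻¹ * F g) = g⁻¹ * F g),
        φ (ConjClasses.mk (⟨F g * g⁻¹, h⟩ : ↥(F.eqLocus (MonoidHom.id G)))) =
          ConjClasses.mk (⟨g⁻¹ * F g, h'⟩ : ↥(F.eqLocus (MonoidHom.id G))) := by
  refine ⟨fix_L' F, ?_⟩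
  -- choose representatives
  have hrep : ∀ C : ConjClasses ↥(F.eqLocus (MonoidHom.id G)), ∃ g : G,
      ∃ h : F (F g * g⁻¹) = F g * g⁻¹, ConjClasses.mk (⟨F g * g⁻¹, h⟩ : ↥(F.eqLocus (MonoidHom.id G))) = C := by
    intro C
    obtain ⟨⟨a, ha⟩, rfl⟩ := ConjClasses.mk_surjective C
    obtain ⟨g, hg⟩ := hL a
    have hg' : F g * g⁻¹ = a := hg
    have ha' : F a = a := ha
    refine ⟨g, by rw [hg']; exact ha', ?_⟩
    congr 1
    exact Subtype.ext hg'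
  choose rep hrep1 hrep2 using hrep
  let φ : ConjClasses ↥(F.eqLocus (MonoidHom.id G)) → ConjClasses ↥(F.eqLocus (MonoidHom.id G)) :=
    fun C => ConjClasses.mk ⟨(rep C)⁻¹ * F (rep C), fix_L' F _ (hrep1 C)⟩
  have hspec : ∀ (g : G) (h : F (F g * g⁻¹) = F g * g⁻¹) (h' : F (g⁻¹ * F g) = g⁻¹ * F g),
        φ (ConjClasses.mk (⟨F g * g⁻¹, h⟩ : ↥(F.eqLocus (MonoidHom.id G)))) =
          ConjClasses.mk (⟨g⁻¹ * F g, h'⟩ : ↥(F.eqLocus (MonoidHom.id G))) := by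
    intro g h h'
    show ConjClasses.mk _ = _
    rw [ConjClasses.mk_eq_mk_iff_isConj]
    apply keyA F _ _ (hrep1 _) h
    rw [← ConjClasses.mk_eq_mk_iff_isConj]
    exact hrep2 _
  refine ⟨φ, ⟨?_, ?_⟩, hspec⟩
  · intro C D hCD
    rw [← hrep2 C, ← hrep2 D]
    rw [ConjClasses.mk_eq_mk_iff_isConj]
    apply keyB F _ _ (hrep1 C) (hrep1 D) (fix_L' F _ (hrep1 C)) (fix_L' F _ (hrep1 D))
    rw [← ConjClasses.mk_eq_mk_iff_isConj]
    exact hCD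
  · intro D
    obtain ⟨⟨b, hb⟩, rfl⟩ := ConjClasses.mk_surjective D
    have hb' : F b = b := hb
    obtain ⟨k, hk⟩ := hL b⁻¹
    have hk' : F k * k⁻¹ = b⁻¹ := hk
    have e : (k⁻¹)⁻¹ * F k⁻¹ = b := by
      have : b = (F k * k⁻¹)⁻¹ := by rw [hk']; group
      rw [this, map_inv]; group
    have h' : F ((k⁻¹)⁻¹ * F k⁻¹) = (k⁻¹)⁻¹ * F k⁻¹ := by rw [e]; exact hb'
    refine ⟨ConjClasses.mk ⟨F k⁻¹ * (k⁻¹)⁻¹, fix_L F _ h'⟩, ?_⟩
    rw [hspec k⁻¹ (fix_L F _ h') h']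
    congr 1
    exact Subtype.ext e


end Groth.Agent.S8625
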