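import Groth.Statements.S8630
import Mathlib

set_option autoImplicit false
open Zeta

namespace Groth.Agent.S8630

open Polynomial

theorem exists_denom (A : Polynomial ℚ) : ∃ (b : ℕ) (_ : 0 < b) (A₀ : Polynomial ℤ),
    A₀.map (Int.castRingHom ℚ) = C (b : ℚ) * A := by
  obtain ⟨⟨b, hb⟩, h⟩ := IsLocalization.integerNormalization_map_to_map (nonZeroDivisors ℤ) A
  have hb0 : b ≠ 0 := nonZeroDivisors.ne_zero hb
  have h' : (IsLocalization.integerNormalization (nonZeroDivisors ℤ) A).map (Int.castRingHom ℚ) = C (b : ℚ) * A := by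
    have : algebraMap ℤ ℚ = Int.castRingHom ℚ := rfl
    rw [this] at h
    rw [h]
    ext n
    simp [Polynomial.coeff_smul]
  rcases lt_or_gt_of_ne hb0 with hlt | hgt
  · refine ⟨b.natAbs, Int.natAbs_pos.mpr hb0, - IsLocalization.integerNormalization (nonZeroDivisors ℤ) A, ?_⟩
    rw [Polynomial.map_neg, h']
    have : ((b.natAbs : ℤ) : ℚ) = - (b : ℚ) := by
      rw [← Int.cast_neg]; congr 1; omega
    rw [show ((b.natAbs : ℕ) : ℚ) = ((b.natAbs : ℤ) : ℚ) by simp, this]
    simp
  · refine ⟨b.natAbs, Int.natAbs_pos.mpr hb0, IsLocalization.integerNormalization (nonZeroDivisors ℤ) A, ?_⟩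
    rw [h']
    have : ((b.natAbs : ℤ) : ℚ) = (b : ℚ) := by
      congr 1; omega
    rw [show ((b.natAbs : ℕ) : ℚ) = ((b.natAbs : ℤ) : ℚ) by simp, this]

theorem not_dvd_coeff_zero (p : ℕ) [hp : Fact p.Prime] (Q₁ : Polynomial ℤ)
    (hQ₁ : ∃ n, ¬ (p : ℤ) ∣ Q₁.coeff n) :
    ∀ (k : ℕ) (m : ℤ) (W : PowerSeries ℤ), m.natAbs = k → m ≠ 0 →
      (Q₁ : PowerSeries ℤ) * W = PowerSeries.C m → ¬ (p : ℤ) ∣ Q₁.coeff 0 := by
  intro k
  induction k using Nat.strong_induction_on with
  | _ k ih =>
    intro m W hk hm hW hdiv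
    by_cases hpm : (p : ℤ) ∣ m
    · have h1 : PowerSeries.map (Int.castRingHom (ZMod p)) (Q₁ : PowerSeries ℤ) *
          PowerSeries.map (Int.castRingHom (ZMod p)) W = 0 := by
        rw [← map_mul, hW, PowerSeries.map_C]
        have : (Int.castRingHom (ZMod p)) m = 0 := by
          simpa using (ZMod.intCast_zmod_eq_zero_iff_dvd m p).mpr hpm
        rw [this, map_zero]
      have h2 : PowerSeries.map (Int.castRingHom (ZMod p)) (Q₁ : PowerSeries ℤ) ≠ 0 := by
        obtain ⟨n, hn⟩ := hQ₁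
        intro h0
        apply hn
        have := congrArg (PowerSeries.coeff n) h0
        rw [PowerSeries.coeff_map, Polynomial.coeff_coe, map_zero] at this
        exact (ZMod.intCast_zmod_eq_zero_iff_dvd _ p).mp (by simpa using this)
      have h3 : PowerSeries.map (Int.castRingHom (ZMod p)) W = 0 := by
        rcases mul_eq_zero.mp h1 with h | h
        · exact absurd h h2
        · exact h
      have h4 : ∀ n, (p : ℤ) ∣ PowerSeries.coeff n W := by
        intro n
        have := congrArg (PowerSeries.coeff n) h3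
        rw [PowerSeries.coeff_map, map_zero] at this
        exact (ZMod.intCast_zmod_eq_zero_iff_dvd _ p).mp (by simpa using this)
      choose w hw using h4
      obtain ⟨m', rfl⟩ := hpm
      have hp0 : (p : ℤ) ≠ 0 := by exact_mod_cast hp.out.ne_zero
      have hm' : m' ≠ 0 := by rintro rfl; simp at hm
      have hW' : W = PowerSeries.C (p : ℤ) * PowerSeries.mk w := by
        ext n
        rw [PowerSeries.coeff_C_mul, PowerSeries.coeff_mk, hw]
      have h5 : (Q₁ : PowerSeries ℤ) * PowerSeries.mk w = PowerSeries.C m' := by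
        have : PowerSeries.C (p : ℤ) * ((Q₁ : PowerSeries ℤ) * PowerSeries.mk w) =
            PowerSeries.C (p : ℤ) * PowerSeries.C m' := by
          rw [← map_mul, ← hW, hW']; ring
        refine mul_left_cancel₀ ?_ this
        intro h
        apply hp0
        simpa using congrArg (PowerSeries.coeff 0) h
      refine ih m'.natAbs ?_ m' (PowerSeries.mk w) rfl hm' h5 hdiv
      rw [← hk, Int.natAbs_mul]
      have : 1 < ((p : ℤ)).natAbs := by simpa using hp.out.one_lt
      have h0 : 0 < m'.natAbs := Int.natAbs_pos.mpr hm'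
      nlinarith
    · apply hpm
      have := congrArg (PowerSeries.coeff 0) hW
      rw [PowerSeries.coeff_zero_eq_constantCoeff_apply, map_mul] at this
      rw [PowerSeries.coeff_zero_C] at this
      rw [← this]
      apply Dvd.dvd.mul_right
      rwa [← PowerSeries.coeff_zero_eq_constantCoeff_apply, Polynomial.coeff_coe]


theorem integral_of_denom (Q : Polynomial ℚ) (hQ : Q.coeff 0 = 1) :
    ∀ (d : ℕ), 0 < d → ∀ (Q₁ : Polynomial ℤ) (W : PowerSeries ℤ) (m : ℤ), m ≠ 0 →
      Q₁.map (Int.castRingHom ℚ) = C (d : ℚ) * Q → (Q₁ : PowerSeries ℤ) * W = PowerSeries.C m →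
      ∃ Q₀ : Polynomial ℤ, Q₀.map (Int.castRingHom ℚ) = Q := by
  intro d
  induction d using Nat.strong_induction_on with
  | _ d ih =>
    intro hd Q₁ W m hm hQ₁ hW
    by_cases hd1 : d = 1
    · subst hd1
      exact ⟨Q₁, by rw [hQ₁]; simp⟩
    have hp : (Nat.minFac d).Prime := Nat.minFac_prime hd1
    haveI : Fact (Nat.minFac d).Prime := ⟨hp⟩
    set p := Nat.minFac d with hpdef
    have hpd : p ∣ d := Nat.minFac_dvd d
    by_cases hall : ∀ n, (p : ℤ) ∣ Q₁.coeff n
    · obtain ⟨Q₂, hQ₂⟩ := (Polynomial.C_dvd_iff_dvd_coeff _ _).mpr hall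
      obtain ⟨d', hd'⟩ := hpd
      have hd'pos : 0 < d' := by
        rcases Nat.eq_zero_or_pos d' with h | h
        · subst h; omega
        · exact h
      have hlt : d' < d := by
        rw [hd']; nlinarith [hp.one_lt]
      have hp0 : (p : ℚ) ≠ 0 := by exact_mod_cast hp.ne_zero
      refine ih d' hlt hd'pos Q₂ (PowerSeries.C (p : ℤ) * W) m hm ?_ ?_
      · have : C (p : ℚ) * Q₂.map (Int.castRingHom ℚ) = C (p : ℚ) * (C (d' : ℚ) * Q) := by
          have h1 : (C (p : ℤ) * Q₂).map (Int.castRingHom ℚ) = C (d : ℚ) * Q := by rw [← hQ₂, hQ₁]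
          rw [Polynomial.map_mul, Polynomial.map_C] at h1
          rw [show (Int.castRingHom ℚ) (p : ℤ) = (p : ℚ) by simp] at h1
          rw [h1, hd', ← mul_assoc, ← C_mul]; push_cast; rfl
        refine mul_left_cancel₀ ?_ this
        intro h
        apply hp0
        simpa using congrArg (fun f => Polynomial.coeff f 0) h
      · rw [← hW, hQ₂, Polynomial.coe_mul, Polynomial.coe_C]; ring
    · push_neg at hall
      exfalso
      have := not_dvd_coeff_zero p Q₁ hall _ m W rfl hm hW
      apply this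
      have h0 : ((Q₁.coeff 0 : ℤ) : ℚ) = (d : ℚ) := by
        have := congrArg (fun f => Polynomial.coeff f 0) hQ₁
        simpa [hQ] using this
      have : Q₁.coeff 0 = (d : ℤ) := by exact_mod_cast h0
      rw [this]
      exact_mod_cast hpd

/-- Fatou's lemma: let P, Q ∈ ℚ[T] be coprime with constant coefficient 1, and suppose the power series
P/Q has integer coefficients, i.e. P = Q·Z in ℚ⟦T⟧ for a power series Z with coefficients in ℤ. Then
P and Q have integer coefficients. -/
theorem result (P Q : Polynomial ℚ)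
    (hPQ : IsCoprime P Q) (hP : P.coeff 0 = 1) (hQ : Q.coeff 0 = 1) (Z : PowerSeries ℤ)
    (hZ : (P : PowerSeries ℚ) = (Q : PowerSeries ℚ) * PowerSeries.map (Int.castRingHom ℚ) Z) :
    (∃ P₀ : Polynomial ℤ, P₀.map (Int.castRingHom ℚ) = P) ∧
      ∃ Q₀ : Polynomial ℤ, Q₀.map (Int.castRingHom ℚ) = Q := by
  have hinj : Function.Injective (PowerSeries.map (Int.castRingHom ℚ)) :=
    PowerSeries.map_injective _ Int.cast_injective
  have hcoe : ∀ A : Polynomial ℤ, ((A.map (Int.castRingHom ℚ) : Polynomial ℚ) : PowerSeries ℚ) =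
      PowerSeries.map (Int.castRingHom ℚ) (A : PowerSeries ℤ) := by
    intro A
    ext n
    simp [Polynomial.coeff_coe, PowerSeries.coeff_map]
  have hQint : ∃ Q₀ : Polynomial ℤ, Q₀.map (Int.castRingHom ℚ) = Q := by
    obtain ⟨U, V, hUV⟩ := hPQ
    obtain ⟨bU, hbU, U₀, hU₀⟩ := exists_denom U
    obtain ⟨bV, hbV, V₀, hV₀⟩ := exists_denom V
    obtain ⟨d, hd, Q₁, hQ₁⟩ := exists_denom Q
    refine integral_of_denom Q hQ d hd Q₁
      ((C (bV : ℤ) * U₀ : Polynomial ℤ) * Z + (C (bU : ℤ) * V₀ : Polynomial ℤ)) ((d : ℤ) * bU * bV) ?_ hQ₁ ?_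
    · have := hd.ne'; have := hbU.ne'; have := hbV.ne'
      positivity
    · apply hinj
      rw [map_mul, map_add, map_mul, ← hcoe, ← hcoe, ← hcoe, hQ₁]
      rw [Polynomial.map_mul, Polynomial.map_mul, hU₀, hV₀, Polynomial.map_C, Polynomial.map_C]
      rw [PowerSeries.map_C]
      have e1 : (C ((d : ℚ)) * Q : Polynomial ℚ) = C (d : ℚ) * Q := rfl
      simp only [Polynomial.coe_mul, Polynomial.coe_C, eq_intCast, Int.cast_natCast, Int.cast_mul]
      have hUV' : (U : PowerSeries ℚ) * (P : PowerSeries ℚ) + (V : PowerSeries ℚ) * (Q : PowerSeries ℚ) = 1 := by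
        rw [← Polynomial.coe_mul, ← Polynomial.coe_mul, ← Polynomial.coe_add, hUV, Polynomial.coe_one]
      rw [hZ] at hUV'
      have : PowerSeries.C (d : ℚ) * (Q : PowerSeries ℚ) *
          (PowerSeries.C (bV : ℚ) * (PowerSeries.C (bU : ℚ) * (U : PowerSeries ℚ)) * PowerSeries.map (Int.castRingHom ℚ) Z +
            PowerSeries.C (bU : ℚ) * (PowerSeries.C (bV : ℚ) * (V : PowerSeries ℚ))) =
          PowerSeries.C (d : ℚ) * PowerSeries.C (bU : ℚ) * PowerSeries.C (bV : ℚ) *
            ((U : PowerSeries ℚ) * ((Q : PowerSeries ℚ) * PowerSeries.map (Int.castRingHom ℚ) Z) + (V : PowerSeries ℚ) * (Q : PowerSeries ℚ)) := by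
        ring
      rw [this, hUV', mul_one, map_mul, map_mul]
  refine ⟨?_, hQint⟩
  obtain ⟨Q₀, rfl⟩ := hQint
  rw [← Polynomial.mem_lifts, Polynomial.lifts_iff_coeff_lifts]
  intro n
  refine ⟨PowerSeries.coeff n ((Q₀ : PowerSeries ℤ) * Z), ?_⟩
  rw [← Polynomial.coeff_coe, hZ, hcoe, ← map_mul, PowerSeries.coeff_map]


end Groth.Agent.S8630
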