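import Groth.Statements.S8661
import Groth.Agent.Lib.Helper8.LCIHom.KAt2
-- import your own Groth.Agent.* helpers here

set_option autoImplicit false
universe u
open CategoryTheory CategoryTheory.Limits AlgebraicGeometry
open Synt

namespace Groth.Agent.S8661

/-- Let f : X ⟶ Y and g : Y ⟶ Z be local complete intersection morphisms in the factorisation sense
(around each point, locally of finite type and factoring as a Koszul-regular immersion followed by a
smooth morphism). Then f ≫ g is a local complete intersection morphism in the same sense. -/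
theorem result {X Y Z : Scheme.{u}} (f : X ⟶ Y) (g : Y ⟶ Z)
    (hf : ∀ x : X, Synt.IsKoszulAt f x) (hg : ∀ y : Y, Synt.IsKoszulAt g y) : ∀ x : X, Synt.IsKoszulAt (f ≫ g) x := by
  have h1 := Groth.Agent.H8.LCIHom.lcip_of_forall_isKoszulAt f hf
  have h2 := Groth.Agent.H8.LCIHom.lcip_of_forall_isKoszulAt g hg
  exact Groth.Agent.H8.LCIHom.isKoszulAt_of_lcip (f ≫ g)
    (Groth.Agent.H8.LCIHom.lcip_comp f g h1 h2)

end Groth.Agent.S8661
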