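import Groth.Statements.S8666
import Mathlib

set_option autoImplicit false
universe u
open CAlg

namespace Groth.Agent.S8666


section
variable {A : Type u} [CommRing A] {M : Type u} [AddCommGroup M] [Module A M]

def IsGen (P : Ideal A) (s : M) : Prop := ∀ m : M, ∃ a u : A, u ∉ P ∧ u • m = a • s

theorem IsGen.mono {P Q : Ideal A} {s : M} (hPQ : P ≤ Q) (h : IsGen Q s) : IsGen P s := fun m =>
  let ⟨a, u, hu, e⟩ := h m
  ⟨a, u, fun hu' => hu (hPQ hu'), e⟩

theorem span_eq_top_of_isGen (P : Ideal A) [P.IsPrime] (s : M) (h : IsGen P s) :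
    Submodule.span (Localization.AtPrime P) {LocalizedModule.mkLinearMap P.primeCompl M s} = ⊤ := by
  rw [eq_top_iff]
  rintro x -
  induction x using LocalizedModule.induction_on with
  | h m t =>
    obtain ⟨a, u, hu, hum⟩ := h m
    have : LocalizedModule.mk m t = Localization.mk a ((⟨u, hu⟩ : P.primeCompl) * t) •
        LocalizedModule.mkLinearMap P.primeCompl M s := by
      rw [LocalizedModule.mkLinearMap_apply, LocalizedModule.mk_smul_mk, mul_one, ← hum]
      exact (LocalizedModule.mk_cancel_common_left (⟨u, hu⟩ : P.primeCompl) t m).symm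
    rw [this]
    exact Submodule.smul_mem _ _ (Submodule.mem_span_singleton_self _)

theorem exists_equiv (P : Ideal A) [P.IsPrime] [Module.Invertible A M] :
    Nonempty (LocalizedModule P.primeCompl M ≃ₗ[Localization.AtPrime P] Localization.AtPrime P) := by
  have : Module.Free (Localization.AtPrime P) (LocalizedModule P.primeCompl M) := inferInstance
  exact (Module.Invertible.free_iff_linearEquiv).1 this

theorem isGen_of_isUnit (P : Ideal A) [P.IsPrime]
    (e : LocalizedModule P.primeCompl M ≃ₗ[Localization.AtPrime P] Localization.AtPrime P) (s : M)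
    (hs : IsUnit (e (LocalizedModule.mk s 1))) : IsGen P s := by
  intro m
  obtain ⟨w, hw⟩ := hs
  have h1 : LocalizedModule.mk m (1 : P.primeCompl) =
      (e (LocalizedModule.mk m 1) * ↑w⁻¹) • LocalizedModule.mk s (1 : P.primeCompl) := by
    apply e.injective
    rw [map_smul, smul_eq_mul, ← hw, mul_assoc, Units.inv_mul, mul_one]
  obtain ⟨⟨a, v⟩, hc⟩ : ∃ av : A × P.primeCompl, Localization.mk av.1 av.2 = e (LocalizedModule.mk m 1) * ↑w⁻¹ := by
    induction (e (LocalizedModule.mk m 1) * ↑w⁻¹) using Localization.induction_on with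
    | H y => exact ⟨y, rfl⟩
  rw [← hc, LocalizedModule.mk_smul_mk, mul_one] at h1
  obtain ⟨v', hv'⟩ := LocalizedModule.mk_eq.1 h1
  refine ⟨v' * a, v' * v, (v' * v).2, ?_⟩
  simp only [Submonoid.smul_def, one_smul, OneMemClass.coe_one] at hv'
  rw [mul_smul, mul_smul]
  exact hv'

theorem exists_isUnit (P : Ideal A) [P.IsPrime]
    (e : LocalizedModule P.primeCompl M ≃ₗ[Localization.AtPrime P] Localization.AtPrime P) :
    ∃ m : M, IsUnit (e (LocalizedModule.mk m 1)) := by
  obtain ⟨⟨m, t⟩, h⟩ : ∃ mt : M × P.primeCompl, LocalizedModule.mk mt.1 mt.2 = e.symm 1 := by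
    induction e.symm 1 using LocalizedModule.induction_on with
    | h m t => exact ⟨(m, t), rfl⟩
  refine ⟨m, ?_⟩
  have h1 : LocalizedModule.mk m (1 : P.primeCompl) =
      Localization.mk (t : A) (1 : P.primeCompl) • LocalizedModule.mk m t := by
    rw [LocalizedModule.mk_smul_mk, one_mul]
    exact (LocalizedModule.mk_cancel_common_left t 1 m).symm.trans (by rw [mul_one]; rfl)
  rw [h1, map_smul, h, LinearEquiv.apply_symm_apply, smul_eq_mul, mul_one,
    Localization.mk_one_eq_algebraMap]
  exact IsLocalization.map_units _ t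
end

/-- Let A be a Noetherian ring, M an invertible A-module and p_1, …, p_k finitely many primes of A
(points of Spec A). Then there is a single element s ∈ M whose image generates M_{p_i} as an
A_{p_i}-module for every i, i.e. s is a basis of the stalk of M at each of the given points. -/
theorem result (A : Type u) [CommRing A] [IsNoetherianRing A]
    (M : Type u) [AddCommGroup M] [Module A M] [Module.Invertible A M] (ι : Type) [Finite ι] (p : ι → PrimeSpectrum A) :
    ∃ s : M, ∀ i : ι, Submodule.span (Localization.AtPrime (p i).asIdeal)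
      {LocalizedModule.mkLinearMap (p i).asIdeal.primeCompl M s} = ⊤ := by
  classical
  have hSfin : (Set.range p).Finite := Set.finite_range p
  let Mx : Finset (PrimeSpectrum A) := hSfin.toFinset.filter (fun q => Maximal (· ∈ Set.range p) q)
  have hMx : ∀ q, q ∈ Mx ↔ Maximal (· ∈ Set.range p) q := by
    intro q
    simp only [Mx, Finset.mem_filter, Set.Finite.mem_toFinset]
    exact ⟨fun h => h.2, fun h => ⟨h.prop, h⟩⟩
  have he : ∀ q : PrimeSpectrum A, Nonempty (LocalizedModule q.asIdeal.primeCompl M ≃ₗ[Localization.AtPrime q.asIdeal]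
      Localization.AtPrime q.asIdeal) := fun q => exists_equiv q.asIdeal
  let e := fun q => (he q).some
  choose m hm using fun q : PrimeSpectrum A => exists_isUnit q.asIdeal (e q)
  have ha : ∀ q : PrimeSpectrum A, ∃ a : A, q ∈ Mx → (a ∈ ∏ q' ∈ Mx.erase q, q'.asIdeal ∧ a ∉ q.asIdeal) := by
    intro q
    by_cases hq : q ∈ Mx
    · have : ¬ (∏ q' ∈ Mx.erase q, q'.asIdeal ≤ q.asIdeal) := by
        rw [Ideal.IsPrime.prod_le q.isPrime]
        rintro ⟨q', hq', hle⟩
        have hq'M := (hMx q').1 (Finset.mem_of_mem_erase hq')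
        have hqS := ((hMx q).1 hq).prop
        have : q ≤ q' := hq'M.le_of_ge hqS hle
        exact (Finset.ne_of_mem_erase hq') (le_antisymm hle this)
      obtain ⟨a, ha1, ha2⟩ := SetLike.not_le_iff_exists.1 this
      exact ⟨a, fun _ => ⟨ha1, ha2⟩⟩
    · exact ⟨0, fun h => absurd h hq⟩
  choose a ha using ha
  have ha' : ∀ q ∈ Mx, ∀ q' ∈ Mx, q' ≠ q → a q' ∈ q.asIdeal := by
    intro q hq q' hq' hne
    have h1 := (ha q' hq').1
    have h2 : ∏ q'' ∈ Mx.erase q', q''.asIdeal ≤ q.asIdeal :=
      Ideal.prod_le_inf.trans (Finset.inf_le (Finset.mem_erase.2 ⟨hne.symm, hq⟩))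
    exact h2 h1
  let s : M := ∑ q ∈ Mx, a q • m q
  have key : ∀ q ∈ Mx, IsGen q.asIdeal s := by
    intro q hq
    apply isGen_of_isUnit q.asIdeal (e q)
    let L : M →ₗ[A] Localization.AtPrime q.asIdeal :=
      ((e q).toLinearMap.restrictScalars A).comp (LocalizedModule.mkLinearMap q.asIdeal.primeCompl M)
    have hL : ∀ x : M, L x = e q (LocalizedModule.mk x 1) := fun x => rfl
    rw [← hL]
    have hs : L s = a q • L (m q) + ∑ q' ∈ Mx.erase q, a q' • L (m q') := by
      simp only [s, map_sum, map_smul]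
      rw [Finset.add_sum_erase Mx (fun q' => a q' • L (m q')) hq]
    have hx : IsUnit (a q • L (m q)) := by
      rw [Algebra.smul_def]
      refine IsUnit.mul ?_ (by rw [hL]; exact hm q)
      exact IsLocalization.map_units _ (⟨a q, (ha q hq).2⟩ : q.asIdeal.primeCompl)
    have hy : ∑ q' ∈ Mx.erase q, a q' • L (m q') ∈ IsLocalRing.maximalIdeal (Localization.AtPrime q.asIdeal) := by
      apply Ideal.sum_mem
      intro q' hq'
      rw [Algebra.smul_def]
      apply Ideal.mul_mem_right
      rw [IsLocalization.AtPrime.to_map_mem_maximal_iff _ q.asIdeal]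
      exact ha' q hq q' (Finset.mem_of_mem_erase hq') (Finset.ne_of_mem_erase hq')
    rw [hs]
    by_contra hnu
    have h1 : a q • L (m q) + ∑ q' ∈ Mx.erase q, a q' • L (m q') ∈
        IsLocalRing.maximalIdeal (Localization.AtPrime q.asIdeal) := by
      rw [IsLocalRing.mem_maximalIdeal, mem_nonunits_iff]; exact hnu
    have h2 : a q • L (m q) ∈ IsLocalRing.maximalIdeal (Localization.AtPrime q.asIdeal) := by
      have := Ideal.sub_mem _ h1 hy
      simpa using this
    rw [IsLocalRing.mem_maximalIdeal, mem_nonunits_iff] at h2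
    exact h2 hx
  refine ⟨s, fun i => ?_⟩
  obtain ⟨q, hpq, hq⟩ := hSfin.exists_le_maximal (Set.mem_range_self i)
  exact span_eq_top_of_isGen _ _ ((key q ((hMx q).2 hq)).mono hpq)


end Groth.Agent.S8666
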