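import Groth.Statements.S8690
import Mathlib
import Groth.Agent.Lib.Helper9.Lambda.GammaFil

set_option autoImplicit false
universe u v
open LambdaRing

namespace Groth.Agent.S8690

/-- Let K be a binomial ring carrying its binomial λ-structure, and A a λ-ring in the strict sense which
is an augmented K-λ-algebra with augmentation ε : A → K. Let Fil^m A denote the γ-filtration of A
with respect to ε (the ideal generated by the products γ^{i_1}(x_1) ⋯ γ^{i_r}(x_r) with i_1 + ⋯ +
i_r ≥ m and every ε(x_s) = 0). Then for every m ≥ 1 and every z ∈ Fil^m A, γ^m(z) ≡ (−1)^{m−1}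
(m−1)! · z modulo Fil^{m+1} A; equivalently the m-th Chern class of z in Gr^m A is the class of
(−1)^{m−1} (m−1)! z. The hypotheses hP and hQ, that the universal polynomials exist for all indices,
are true statements carried so that the identities of A can be used at every index. -/
theorem result
    (K : Type u) [CommRing K] [LambdaRing.LambdaOps K] [BinomialRing K] (hKb : LambdaRing.IsBinomial K)
    (hK : LambdaRing.IsSpecial K)
    (A : Type v) [CommRing A] [LambdaRing.LambdaOps A] [Algebra K A] (hA : LambdaRing.IsSpecial A)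
    (hP : ∀ n : ℕ, ∃ P : MvPolynomial (Fin n ⊕ Fin n) ℤ, LambdaRing.IsMulPoly n P)
    (hQ : ∀ i j : ℕ, ∃ Q : MvPolynomial (Fin (i * j)) ℤ, LambdaRing.IsCompPoly i j Q)
    (ε : A →ₐ[K] K) (hε : LambdaRing.IsAugLambdaAlg K A ε)
    (m : ℕ) (hm : 1 ≤ m) (z : A) (hz : z ∈ LambdaRing.gammaFil (ε : A →+* K) m) :
    LambdaRing.gamma m z - (-1 : A) ^ (m - 1) * ((m - 1).factorial : A) * z ∈
      LambdaRing.gammaFil (ε : A →+* K) (m + 1) := by
  obtain ⟨R, hR, rfl⟩ := Groth.Agent.H9.Lambda.exists_opg_of_mem_gammaFil ε m z hz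
  obtain ⟨R'', hR'', h⟩ := Groth.Agent.H9.Lambda.gamma_opg_leading hKb R m hm hR
  have h2 := h A hA hε.isLambdaAlg (fun a : {a : A // ε a = 0} => (a : A))
  have e : (-1 : A) ^ (m - 1) * ((m - 1).factorial : A) *
      Groth.Agent.H9.Lambda.opg (fun a : {a : A // ε a = 0} => (a : A)) R =
      Groth.Agent.H9.Lambda.cLead A m *
        Groth.Agent.H9.Lambda.opg (fun a : {a : A // ε a = 0} => (a : A)) R := rfl
  rw [e, h2]
  exact Groth.Agent.H9.Lambda.opg_mem_gammaFil (ε : A →+* K) _ (fun a => a.2) R'' (m + 1) hR''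

end Groth.Agent.S8690
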