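import Groth.Statements.S8691
import Mathlib
import Groth.Agent.Lib.Helper9.Lambda.RankTransfer
import Groth.Agent.Lib.Helper9.Lambda.RankGamma
import Groth.Agent.Lib.Helper9.Lambda.IntAlg

set_option autoImplicit false
universe u
open Finset
open LambdaRing

namespace Groth.Agent.S8691

/-- Let K be a λ-ring in the strict sense, d a natural number and N ∈ K with λ^i(N) = 0 for every i > d;
put λ_{−1}(N) = Σ_{i=0}^{d} (−1)^i λ^i(N). Then for every p ≥ 1 and every x ∈ K the element λ^p(x ·
λ_{−1}(N)) is divisible by λ_{−1}(N). (The published statement is for the λ-ring generated over the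
integers by N and x subject to λ^i(N) = 0 for i > d, a polynomial ring; the divisibility passes to
any λ-ring along the λ-homomorphism sending the generators to N and x, which is the substituted form
stated here.) The hypotheses hP and hQ, existence of the universal polynomials, are true statements
carried so that the identities of K can be used at every index. -/
theorem result (K : Type u) [CommRing K] [LambdaRing.LambdaOps K]
    (hK : LambdaRing.IsSpecial K)
    (hP : ∀ n : ℕ, ∃ P : MvPolynomial (Fin n ⊕ Fin n) ℤ, LambdaRing.IsMulPoly n P)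
    (hQ : ∀ i j : ℕ, ∃ Q : MvPolynomial (Fin (i * j)) ℤ, LambdaRing.IsCompPoly i j Q)
    (d : ℕ) (N : K) (hN : ∀ i : ℕ, d < i → LambdaRing.LambdaOps.lam i N = 0)
    (p : ℕ) (hp : 1 ≤ p) (x : K) :
    (∑ i ∈ range (d + 1), (-1 : K) ^ i * LambdaRing.LambdaOps.lam i N) ∣
      LambdaRing.LambdaOps.lam p (x * ∑ i ∈ range (d + 1), (-1 : K) ^ i * LambdaRing.LambdaOps.lam i N) := by
  classical
  rcases Nat.eq_zero_or_pos d with rfl | hd
  · have : (∑ i ∈ range (0 + 1), (-1 : K) ^ i * LambdaRing.LambdaOps.lam i N) = 1 := by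
      simp [LambdaRing.LambdaOps.lam_zero]
    rw [this]
    exact one_dvd _
  obtain ⟨d', rfl⟩ : ∃ d', d = d' + 1 := ⟨d - 1, by omega⟩
  have h1 := hK.lam_one_eq_zero
  have hu' : (∑ j ∈ range (d' + 1 + 1), (-1 : K) ^ j * LambdaRing.LambdaOps.lam j N) =
      (-1) ^ (d' + 1) * LambdaRing.gamma (d' + 1) (N - ((d' + 1 : ℕ) : K)) :=
    Groth.Agent.H9.Lambda.gamma_rank_top h1 N (d' + 1) hN
  set u := ∑ j ∈ range (d' + 1 + 1), (-1 : K) ^ j * LambdaRing.LambdaOps.lam j N with hu
  let _ : LambdaRing.LambdaOps ℤ := LambdaRing.binomialLambdaOps ℤ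
  have hKb : LambdaRing.IsBinomial ℤ := Groth.Agent.H9.Lambda.isBinomial_int
  have hAK : LambdaRing.IsLambdaAlg ℤ K := Groth.Agent.H9.Lambda.isLambdaAlg_int h1
  let xs : Bool → K := fun b => if b then x else N - ((d' + 1 : ℕ) : K)
  let F : Groth.Agent.H9.Lambda.Ops Bool ℤ :=
    MvPolynomial.C ((-1) ^ (d' + 1)) * MvPolynomial.X (true, 0)
  obtain ⟨G, hG2⟩ := Groth.Agent.H9.Lambda.lam_div.{0, u, 0} hKb false d' F p hp
  have h2 := hG2 K hK hAK xs (fun k hk =>
    Groth.Agent.H9.Lambda.gamma_rank_eq_zero h1 N (d' + 1) hN (k + 1) (by omega))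
  have hval : Groth.Agent.H9.Lambda.opg xs (MvPolynomial.X (false, d') * F) = x * u := by
    rw [map_mul, Groth.Agent.H9.Lambda.opg_X, map_mul, Groth.Agent.H9.Lambda.opg_X,
      Groth.Agent.H9.Lambda.gamma_one_left, ← MvPolynomial.algebraMap_eq, AlgHom.commutes, hu']
    show LambdaRing.gamma (d' + 1) (N - ((d' + 1 : ℕ) : K)) *
      (algebraMap ℤ K ((-1) ^ (d' + 1)) * x) = _
    rw [map_pow, map_neg, map_one]
    ring
  rw [hval] at h2
  have hgu : LambdaRing.gamma (d' + 1) (xs false) = (-1) ^ (d' + 1) * u := by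
    rw [hu', ← mul_assoc, ← mul_pow]
    simp [xs]
  rw [h2, hgu]
  exact ⟨(-1) ^ (d' + 1) * Groth.Agent.H9.Lambda.opg xs G, by ring⟩

end Groth.Agent.S8691
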