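import Groth.Statements.S8695
import Mathlib
import Groth.Agent.Lib.Helper9.Lambda.RankTransfer
import Groth.Agent.Lib.Helper9.Lambda.RankGamma
import Groth.Agent.Lib.Helper9.Lambda.GammaFil

set_option autoImplicit false
universe u v
open Finset nonZeroDivisors
open LambdaRing

namespace Groth.Agent.S8695

/-- In the case where λ_{−1}(N) is a non-zero-divisor: let K be a binomial ring with its binomial
λ-structure, A a λ-ring in the strict sense which is an augmented K-λ-algebra with augmentation ε,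
and Fil^n A the γ-filtration (the ideal generated by products of γ^{i}(z) with ε(z) = 0 of total
weight ≥ n; all of A for n = 0). Let d ≥ 1 and N ∈ A be of rank d, that is λ^k(N) = 0 for all k > d
and ε(N) = d; put λ_{−1}(N) = Σ_{i ≤ d} (−1)^i λ^i(N), and suppose λ_{−1}(N) is a non-zero-divisor.
Then for p ≥ 1 and x ∈ A, the unique y with y · λ_{−1}(N) = γ^p(x · λ_{−1}(N)) — when it exists —
lies in Fil^{p−d} A. (The published statement is γ^p(N, x) ∈ Fil^{p−d} A for the element γ^p(N, x)
defined by substitution from the universal λ-ring, where it is characterised by γ^p(N, x) ·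
λ_{−1}(N) = γ^p(x · λ_{−1}(N)); this row covers the case in which that identity determines the
element, λ_{−1}(N) being a non-zero-divisor. The published statement also omits the condition ε(N) =
d, which its proof uses when it maps the universal generator to N − d compatibly with the
augmentations; without it N = 0, d = 1, x = 1, p = 2 in the integers gives γ^2(1) = 1 outside Fil^1
= 0, so ε(N) = d is assumed here, as is the standing assumption d ≥ 1.) The hypotheses hP and hQ,
existence of the universal polynomials, are true statements carried so that the identities of A can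
be used at every index. -/
theorem result
    (K : Type u) [CommRing K] [LambdaRing.LambdaOps K] [BinomialRing K] (hKb : LambdaRing.IsBinomial K)
    (hK : LambdaRing.IsSpecial K)
    (A : Type v) [CommRing A] [LambdaRing.LambdaOps A] [Algebra K A] (hA : LambdaRing.IsSpecial A)
    (hP : ∀ n : ℕ, ∃ P : MvPolynomial (Fin n ⊕ Fin n) ℤ, LambdaRing.IsMulPoly n P)
    (hQ : ∀ i j : ℕ, ∃ Q : MvPolynomial (Fin (i * j)) ℤ, LambdaRing.IsCompPoly i j Q)
    (ε : A →ₐ[K] K) (hε : LambdaRing.IsAugLambdaAlg K A ε)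
    (d : ℕ) (hd : 1 ≤ d) (N : A) (hN : ∀ k : ℕ, d < k → LambdaRing.LambdaOps.lam k N = 0) (hNε : ε N = (d : K))
    (hnzd : (∑ j ∈ range (d + 1), (-1 : A) ^ j * LambdaRing.LambdaOps.lam j N) ∈ A⁰)
    (p : ℕ) (hp : 1 ≤ p) (x y : A)
    (hy : y * (∑ j ∈ range (d + 1), (-1 : A) ^ j * LambdaRing.LambdaOps.lam j N) = LambdaRing.gamma p (x * (∑ j ∈ range (d + 1), (-1 : A) ^ j * LambdaRing.LambdaOps.lam j N))) :
    y ∈ LambdaRing.gammaFil (ε : A →+* K) (p - d) := by
  classical
  obtain ⟨d', rfl⟩ : ∃ d', d = d' + 1 := ⟨d - 1, by omega⟩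
  have h1 := hA.lam_one_eq_zero
  have hu' : (∑ j ∈ range (d' + 1 + 1), (-1 : A) ^ j * LambdaRing.LambdaOps.lam j N) =
      (-1) ^ (d' + 1) * LambdaRing.gamma (d' + 1) (N - ((d' + 1 : ℕ) : A)) :=
    Groth.Agent.H9.Lambda.gamma_rank_top h1 N (d' + 1) hN
  set u := ∑ j ∈ range (d' + 1 + 1), (-1 : A) ^ j * LambdaRing.LambdaOps.lam j N with hu
  let xs : Bool → A := fun b => if b then x - algebraMap K A (ε x) else N - ((d' + 1 : ℕ) : A)
  have hxs : ∀ b, ε (xs b) = 0 := by
    intro b
    cases b
    · show ε (N - ((d' + 1 : ℕ) : A)) = 0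
      rw [map_sub, hNε, map_natCast, sub_self]
    · show ε (x - algebraMap K A (ε x)) = 0
      rw [map_sub, AlgHom.commutes]
      simp
  let F : Groth.Agent.H9.Lambda.Ops Bool K :=
    MvPolynomial.C ((-1) ^ (d' + 1)) * (MvPolynomial.C (ε x) + MvPolynomial.X (true, 0))
  have hF : Groth.Agent.H9.Lambda.WtGE F 0 := by
    have := (Groth.Agent.H9.Lambda.wtGE_C (ι := Bool) ((-1 : K) ^ (d' + 1))).mul
      ((Groth.Agent.H9.Lambda.wtGE_C (ε x)).add
        ((Groth.Agent.H9.Lambda.wtGE_X (K := K) true 0).mono (Nat.zero_le _)))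
    exact this
  have hR : Groth.Agent.H9.Lambda.WtGE (MvPolynomial.X (false, d') * F) (d' + 1) := by
    have := (Groth.Agent.H9.Lambda.wtGE_X (K := K) false d').mul hF
    exact this
  obtain ⟨G, hG, hG2⟩ := Groth.Agent.H9.Lambda.gamma_div.{u, v, 0} hKb false d' F (d' + 1)
    (by omega) hR p hp
  have h2 := hG2 A hA hε.isLambdaAlg xs (fun k hk =>
    Groth.Agent.H9.Lambda.gamma_rank_eq_zero h1 N (d' + 1) hN (k + 1) (by omega))
  have hval : Groth.Agent.H9.Lambda.opg xs (MvPolynomial.X (false, d') * F) = x * u := by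
    rw [map_mul, Groth.Agent.H9.Lambda.opg_X, map_mul, map_add, Groth.Agent.H9.Lambda.opg_X,
      Groth.Agent.H9.Lambda.gamma_one_left, ← MvPolynomial.algebraMap_eq, AlgHom.commutes,
      AlgHom.commutes, hu']
    show LambdaRing.gamma (d' + 1) (N - ((d' + 1 : ℕ) : A)) *
      (algebraMap K A ((-1) ^ (d' + 1)) * (algebraMap K A (ε x) + (x - algebraMap K A (ε x)))) = _
    rw [map_pow, map_neg, map_one]
    ring
  rw [hval, ← hy] at h2
  have hgu : LambdaRing.gamma (d' + 1) (xs false) = (-1) ^ (d' + 1) * u := by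
    rw [hu', ← mul_assoc, ← mul_pow]
    simp [xs]
  have h3 : (y - (-1) ^ (d' + 1) * Groth.Agent.H9.Lambda.opg xs G) * u = 0 := by
    rw [sub_mul, h2, hgu]
    ring
  have h4 := (mul_right_mem_nonZeroDivisors_eq_zero_iff hnzd).1 h3
  rw [sub_eq_zero] at h4
  rw [h4]
  apply Ideal.mul_mem_left
  exact Groth.Agent.H9.Lambda.gammaFil_antitone _ (by omega)
    (Groth.Agent.H9.Lambda.opg_mem_gammaFil (ε : A →+* K) xs hxs G _ hG)

end Groth.Agent.S8695
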