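import Groth.Statements.S8696
import Mathlib
import Groth.Agent.Lib.Helper9.Lambda.RankTransfer
import Groth.Agent.Lib.Helper9.Lambda.RankGamma
import Groth.Agent.Lib.Helper9.Lambda.GammaFil

set_option autoImplicit false
universe u v
open Finset nonZeroDivisors
open LambdaRing

namespace Groth.Agent.S8696

/-- In the case where λ_{−1}(N) is a non-zero-divisor: let K be a binomial ring with its binomial
λ-structure, R a λ-ring in the strict sense which is an augmented K-λ-algebra with augmentation ε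
and γ-filtration Fil^n R, d ≥ 1, N ∈ R of rank d (λ^k(N) = 0 for all k > d and ε(N) = d), λ_{−1}(N)
= Σ_{i ≤ d} (−1)^i λ^i(N) a non-zero-divisor, i a natural number and x ∈ Fil^i R. If y ∈ R satisfies
y · λ_{−1}(N) = γ^{d+i}(x · λ_{−1}(N)), then y − (−1)^{d+i−1} (d+i−1)! · x ∈ Fil^{i+1} R. (The
published statement is about the element γ^{d+i}(N, x) defined by substitution from the universal
λ-ring, characterised there by γ^{q}(N, x) · λ_{−1}(N) = γ^{q}(x · λ_{−1}(N)); this row covers the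
case in which that identity determines the element. The published statement also omits ε(N) = d,
which its proof uses when it maps the universal generator to N − d compatibly with the
augmentations; it is assumed here, together with the standing assumption d ≥ 1.) The hypotheses hP
and hQ, existence of the universal polynomials, are true statements carried so that the identities
of R can be used at every index. -/
theorem result
    (K : Type u) [CommRing K] [LambdaRing.LambdaOps K] [BinomialRing K] (hKb : LambdaRing.IsBinomial K)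
    (hK : LambdaRing.IsSpecial K)
    (A : Type v) [CommRing A] [LambdaRing.LambdaOps A] [Algebra K A] (hA : LambdaRing.IsSpecial A)
    (hP : ∀ n : ℕ, ∃ P : MvPolynomial (Fin n ⊕ Fin n) ℤ, LambdaRing.IsMulPoly n P)
    (hQ : ∀ i j : ℕ, ∃ Q : MvPolynomial (Fin (i * j)) ℤ, LambdaRing.IsCompPoly i j Q)
    (ε : A →ₐ[K] K) (hε : LambdaRing.IsAugLambdaAlg K A ε)
    (d : ℕ) (hd : 1 ≤ d) (N : A) (hN : ∀ k : ℕ, d < k → LambdaRing.LambdaOps.lam k N = 0) (hNε : ε N = (d : K))
    (hnzd : (∑ j ∈ range (d + 1), (-1 : A) ^ j * LambdaRing.LambdaOps.lam j N) ∈ A⁰)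
    (i : ℕ) (x : A) (hx : x ∈ LambdaRing.gammaFil (ε : A →+* K) i) (y : A)
    (hy : y * (∑ j ∈ range (d + 1), (-1 : A) ^ j * LambdaRing.LambdaOps.lam j N) = LambdaRing.gamma (d + i) (x * (∑ j ∈ range (d + 1), (-1 : A) ^ j * LambdaRing.LambdaOps.lam j N))) :
    y - (-1 : A) ^ (d + i - 1) * ((d + i - 1).factorial : A) * x ∈ LambdaRing.gammaFil (ε : A →+* K) (i + 1) := by
  classical
  obtain ⟨d', rfl⟩ : ∃ d', d = d' + 1 := ⟨d - 1, by omega⟩
  have h1 := hA.lam_one_eq_zero
  have hu' : (∑ j ∈ range (d' + 1 + 1), (-1 : A) ^ j * LambdaRing.LambdaOps.lam j N) =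
      (-1) ^ (d' + 1) * LambdaRing.gamma (d' + 1) (N - ((d' + 1 : ℕ) : A)) :=
    Groth.Agent.H9.Lambda.gamma_rank_top h1 N (d' + 1) hN
  set u := ∑ j ∈ range (d' + 1 + 1), (-1 : A) ^ j * LambdaRing.LambdaOps.lam j N with hu
  obtain ⟨Rx, hRx, hRx2⟩ := Groth.Agent.H9.Lambda.exists_opg_of_mem_gammaFil ε i x hx
  have hN0 : ε (N - ((d' + 1 : ℕ) : A)) = 0 := by
    rw [map_sub, hNε, map_natCast, sub_self]
  let i₀ : {a : A // ε a = 0} := ⟨N - ((d' + 1 : ℕ) : A), hN0⟩
  let xs : {a : A // ε a = 0} → A := fun a => (a : A)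
  let F : Groth.Agent.H9.Lambda.Ops {a : A // ε a = 0} K :=
    MvPolynomial.C ((-1) ^ (d' + 1)) * Rx
  have hF : Groth.Agent.H9.Lambda.WtGE F i := by
    have := (Groth.Agent.H9.Lambda.wtGE_C (ι := {a : A // ε a = 0}) ((-1 : K) ^ (d' + 1))).mul hRx
    rwa [zero_add] at this
  have hR : Groth.Agent.H9.Lambda.WtGE (MvPolynomial.X (i₀, d') * F) (d' + 1 + i) :=
    (Groth.Agent.H9.Lambda.wtGE_X (K := K) i₀ d').mul hF
  obtain ⟨G, hG, hG2⟩ := Groth.Agent.H9.Lambda.gamma_div_leading.{u, v, v} hKb i₀ d' F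
    (d' + 1 + i) (by omega) hR
  have h2 := hG2 A hA hε.isLambdaAlg xs (fun k hk =>
    Groth.Agent.H9.Lambda.gamma_rank_eq_zero h1 N (d' + 1) hN (k + 1) (by omega))
  have hval : Groth.Agent.H9.Lambda.opg xs (MvPolynomial.X (i₀, d') * F) = x * u := by
    rw [map_mul, Groth.Agent.H9.Lambda.opg_X, map_mul, ← MvPolynomial.algebraMap_eq,
      AlgHom.commutes, hRx2, hu']
    show LambdaRing.gamma (d' + 1) (N - ((d' + 1 : ℕ) : A)) *
      (algebraMap K A ((-1) ^ (d' + 1)) * x) = _
    rw [map_pow, map_neg, map_one]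
    ring
  rw [hval, ← hy] at h2
  have hgu : LambdaRing.gamma (d' + 1) (xs i₀) = (-1) ^ (d' + 1) * u := by
    rw [hu', ← mul_assoc, ← mul_pow]
    simp [xs, i₀]
  have h3 : (y - Groth.Agent.H9.Lambda.cLead A (d' + 1 + i) * x -
      (-1) ^ (d' + 1) * Groth.Agent.H9.Lambda.opg xs G) * u = 0 := by
    have e : (y - Groth.Agent.H9.Lambda.cLead A (d' + 1 + i) * x -
        (-1) ^ (d' + 1) * Groth.Agent.H9.Lambda.opg xs G) * u =
        (y * u - Groth.Agent.H9.Lambda.cLead A (d' + 1 + i) * (x * u)) -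
          (-1) ^ (d' + 1) * u * Groth.Agent.H9.Lambda.opg xs G := by ring
    rw [e, h2, hgu]
    ring
  have h4 := (mul_right_mem_nonZeroDivisors_eq_zero_iff hnzd).1 h3
  rw [sub_eq_zero] at h4
  show y - Groth.Agent.H9.Lambda.cLead A (d' + 1 + i) * x ∈ _
  rw [h4]
  apply Ideal.mul_mem_left
  exact Groth.Agent.H9.Lambda.gammaFil_antitone _ (by omega)
    (Groth.Agent.H9.Lambda.opg_mem_gammaFil (ε : A →+* K) xs (fun a => a.2) G _ hG)

end Groth.Agent.S8696
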