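import Groth.Statements.S8697
import Mathlib
import Groth.Agent.Lib.Helper9.Lambda.GammaFil2

set_option autoImplicit false
universe u v
open Finset
open LambdaRing

namespace Groth.Agent.S8697

/-- Let K be a binomial ring with its binomial λ-structure and B a λ-ring in the strict sense which is
an augmented K-λ-algebra with augmentation ε. Let x ∈ B satisfy ε(x) = 0 and γ^k(x) = 0 for every k
> n, and assume that γ^1(x), …, γ^n(x) are algebraically independent over K and generate B as a
K-algebra — so B is the K-λ-algebra generated by one element subject to the relations γ^k = 0 for k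
> n, a polynomial ring K[γ^1 x, …, γ^n x]. Then for every k, the k-th ideal Fil^k B of the
γ-filtration (generated by the products of γ^{i}(z), ε(z) = 0, of total weight ≥ k) is the ideal
generated by the monomials ∏_j (γ^j x)^{e_j} with Σ_j j·e_j ≥ k: the λ-ring filtration is the
filtration by the weight in the γ^j x. (With λ in place of γ — relations λ^k x = 0 for k > n and
weights in the λ^j x — the assertion fails already for n = 1, where γ^i(x) = x for all i ≥ 1 puts x
in every Fil^k while x is not in the ideal (x²); the form with γ stated here is the one the proof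
establishes.) The hypotheses hP and hQ, existence of the universal polynomials, are true statements
carried so that the identities of B can be used at every index. -/
theorem result
    (K : Type u) [CommRing K] [LambdaRing.LambdaOps K] [BinomialRing K] (hKb : LambdaRing.IsBinomial K)
    (hK : LambdaRing.IsSpecial K)
    (B : Type v) [CommRing B] [LambdaRing.LambdaOps B] [Algebra K B] (hB : LambdaRing.IsSpecial B)
    (hP : ∀ n : ℕ, ∃ P : MvPolynomial (Fin n ⊕ Fin n) ℤ, LambdaRing.IsMulPoly n P)
    (hQ : ∀ i j : ℕ, ∃ Q : MvPolynomial (Fin (i * j)) ℤ, LambdaRing.IsCompPoly i j Q)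
    (ε : B →ₐ[K] K) (hε : LambdaRing.IsAugLambdaAlg K B ε)
    (n : ℕ) (x : B) (hx : ε x = 0) (hγ : ∀ k : ℕ, n < k → LambdaRing.gamma k x = 0)
    (hind : AlgebraicIndependent K (fun j : Fin n => LambdaRing.gamma ((j : ℕ) + 1) x))
    (hgen : Algebra.adjoin K (Set.range fun j : Fin n => LambdaRing.gamma ((j : ℕ) + 1) x) = ⊤)
    (k : ℕ) :
    LambdaRing.gammaFil (ε : B →+* K) k =
      Ideal.span {m : B | ∃ e : Fin n → ℕ, k ≤ ∑ j : Fin n, ((j : ℕ) + 1) * e j ∧
        m = ∏ j : Fin n, LambdaRing.gamma ((j : ℕ) + 1) x ^ e j} := by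
  classical
  set W : ℕ → Ideal B := fun k => Ideal.span {m : B | ∃ e : Fin n → ℕ,
    k ≤ ∑ j : Fin n, ((j : ℕ) + 1) * e j ∧
      m = ∏ j : Fin n, LambdaRing.gamma ((j : ℕ) + 1) x ^ e j} with hW
  have h0 : W 0 = ⊤ := by
    rw [Ideal.eq_top_iff_one]
    exact Ideal.subset_span ⟨0, Nat.zero_le _, by simp⟩
  have hanti : Antitone W := by
    intro a b hab
    apply Ideal.span_mono
    rintro m ⟨e, he, rfl⟩
    exact ⟨e, le_trans hab he, rfl⟩
  have hmul : ∀ i j, W i * W j ≤ W (i + j) := by
    intro i j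
    simp only [hW]
    rw [Ideal.span_mul_span', Ideal.span_le]
    rintro _ ⟨_, ⟨e1, h1, rfl⟩, _, ⟨e2, h2, rfl⟩, rfl⟩
    refine Ideal.subset_span ⟨e1 + e2, ?_, ?_⟩
    · simp only [Pi.add_apply, mul_add, Finset.sum_add_distrib]
      omega
    · simp only [Pi.add_apply, pow_add, Finset.prod_mul_distrib]
  have key : ∀ z : B, ∃ R : Groth.Agent.H9.Lambda.Ops Unit K,
      Groth.Agent.H9.Lambda.opg (fun _ : Unit => x) R = z := by
    intro z
    have hz' : z ∈ Algebra.adjoin K
        (Set.range fun j : Fin n => LambdaRing.gamma ((j : ℕ) + 1) x) := by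
      rw [hgen]; trivial
    induction hz' using Algebra.adjoin_induction with
    | mem p hp =>
      obtain ⟨j, rfl⟩ := hp
      exact ⟨MvPolynomial.X ((), (j : ℕ)), Groth.Agent.H9.Lambda.opg_X _ _ _⟩
    | algebraMap c => exact ⟨algebraMap K _ c, AlgHom.commutes _ _⟩
    | add p q _ _ hp hq =>
      obtain ⟨p', rfl⟩ := hp
      obtain ⟨q', rfl⟩ := hq
      exact ⟨p' + q', map_add _ _ _⟩
    | mul p q _ _ hp hq =>
      obtain ⟨p', rfl⟩ := hp
      obtain ⟨q', rfl⟩ := hq
      exact ⟨p' * q', map_mul _ _ _⟩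
  apply le_antisymm
  · refine Groth.Agent.H9.Lambda.gammaFil_le_of _ W h0 hmul hanti ?_ k
    intro z hz i hi
    obtain ⟨R, rfl⟩ := key z
    have hR : Groth.Agent.H9.Lambda.WtGE R 1 :=
      Groth.Agent.H9.Lambda.wtGE_one_of_aug ε hε.map_lam _ (fun _ => hx) R hz
    refine Groth.Agent.H9.Lambda.gamma_opg_mem hKb hB hε.isLambdaAlg _ W h0 hmul hanti ?_ R hR i hi
    intro _ j
    by_cases hj : j < n
    · refine Ideal.subset_span ⟨Pi.single ⟨j, hj⟩ 1, ?_, ?_⟩
      · rw [Finset.sum_eq_single ⟨j, hj⟩]
        · simp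
        · intro b _ hb
          simp [hb]
        · simp
      · rw [Finset.prod_eq_single ⟨j, hj⟩]
        · simp
        · intro b _ hb
          simp [hb]
        · simp
    · rw [hγ (j + 1) (by omega)]
      exact Ideal.zero_mem _
  · rw [Ideal.span_le]
    rintro _ ⟨e, he, rfl⟩
    refine Groth.Agent.H9.Lambda.gammaFil_antitone _ he ?_
    exact Groth.Agent.H9.Lambda.prod_pow_mem_fil (LambdaRing.gammaFil (ε : B →+* K))
      (Groth.Agent.H9.Lambda.gammaFil_zero _) (Groth.Agent.H9.Lambda.gammaFil_mul _)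
      Finset.univ (fun j : Fin n => LambdaRing.gamma ((j : ℕ) + 1) x) (fun j => (j : ℕ) + 1) e
      (fun j _ => Groth.Agent.H9.Lambda.gamma_mem_gammaFil _ x hx _)

end Groth.Agent.S8697
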