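import Groth.Statements.S8698
import Mathlib
import Groth.Agent.Lib.Helper9.Lambda.GammaFil2

set_option autoImplicit false
universe u v w
open Finset
open LambdaRing

namespace Groth.Agent.S8698

/-- Let K be a binomial ring with its binomial λ-structure, A a λ-ring in the strict sense which is an
augmented K-λ-algebra with augmentation ε_A, and B a λ-ring in the strict sense which is at once an
augmented K-λ-algebra with augmentation ε_B and an A-algebra compatibly with the K-structures, the
structure map A → B commuting with the λ^n and ε_B restricting to ε_A on A. Let x ∈ B with ε_B(x) =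
0, and assume that the family (γ^{j+1} x)_{j ∈ ℕ} is algebraically independent over A and generates
B as an A-algebra: B is the free λ-ring A[X, γ^2 X, γ^3 X, …] on one generator over A, augmented by
X ↦ 0. Then for every k the k-th ideal Fil^k B of the γ-filtration of B is the ideal generated by
the products a · m where m = ∏_j (γ^{j+1} x)^{e_j} is a monomial of weight i = Σ_j (j+1) e_j and a
lies in (the image of) Fil^{k−i} A, with Fil^s A = A for s ≤ 0; that is, Fil^k B = Fil^k A +
Fil^{k−1} A·M_1 + ⋯ + Fil^0 A·M_k + (monomials of weight > k), M_i denoting the monomials of weight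
i. The hypotheses hP and hQ, existence of the universal polynomials, are true statements carried so
that the identities of A and B can be used at every index. -/
theorem result
    (K : Type u) [CommRing K] [LambdaRing.LambdaOps K] [BinomialRing K] (hKb : LambdaRing.IsBinomial K)
    (hK : LambdaRing.IsSpecial K)
    (A : Type v) [CommRing A] [LambdaRing.LambdaOps A] [Algebra K A] (hA : LambdaRing.IsSpecial A)
    (εA : A →ₐ[K] K) (hεA : LambdaRing.IsAugLambdaAlg K A εA)
    (B : Type w) [CommRing B] [LambdaRing.LambdaOps B] [Algebra K B] [Algebra A B] [IsScalarTower K A B]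
    (hB : LambdaRing.IsSpecial B) (hAB : LambdaRing.IsLambdaAlg A B)
    (εB : B →ₐ[K] K) (hεB : LambdaRing.IsAugLambdaAlg K B εB) (hεAB : ∀ a : A, εB (algebraMap A B a) = εA a)
    (hP : ∀ n : ℕ, ∃ P : MvPolynomial (Fin n ⊕ Fin n) ℤ, LambdaRing.IsMulPoly n P)
    (hQ : ∀ i j : ℕ, ∃ Q : MvPolynomial (Fin (i * j)) ℤ, LambdaRing.IsCompPoly i j Q)
    (x : B) (hx : εB x = 0)
    (hind : AlgebraicIndependent A (fun j : ℕ => LambdaRing.gamma (j + 1) x))
    (hgen : Algebra.adjoin A (Set.range fun j : ℕ => LambdaRing.gamma (j + 1) x) = ⊤)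
    (k : ℕ) :
    LambdaRing.gammaFil (εB : B →+* K) k =
      Ideal.span {b : B | ∃ (e : ℕ →₀ ℕ) (a : A),
        a ∈ LambdaRing.gammaFil (εA : A →+* K) (k - e.sum fun j n => (j + 1) * n) ∧
        b = algebraMap A B a * e.prod fun j n => LambdaRing.gamma (j + 1) x ^ n} := by
  classical
  set W : ℕ → Ideal B := fun k => Ideal.span {b : B | ∃ (e : ℕ →₀ ℕ) (a : A),
        a ∈ LambdaRing.gammaFil (εA : A →+* K) (k - e.sum fun j n => (j + 1) * n) ∧
        b = algebraMap A B a * e.prod fun j n => LambdaRing.gamma (j + 1) x ^ n} with hW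
  have hsumadd : ∀ e1 e2 : ℕ →₀ ℕ, ((e1 + e2).sum fun j n => (j + 1) * n) =
      (e1.sum fun j n => (j + 1) * n) + (e2.sum fun j n => (j + 1) * n) := by
    intro e1 e2
    exact Finsupp.sum_add_index' (fun _ => by simp) (fun _ _ _ => by ring)
  have hprodadd : ∀ e1 e2 : ℕ →₀ ℕ,
      ((e1 + e2).prod fun j n => LambdaRing.gamma (j + 1) x ^ n) =
      (e1.prod fun j n => LambdaRing.gamma (j + 1) x ^ n) *
        (e2.prod fun j n => LambdaRing.gamma (j + 1) x ^ n) := by
    intro e1 e2
    exact Finsupp.prod_add_index' (fun _ => by simp) (fun _ _ _ => by rw [pow_add])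
  have h0 : W 0 = ⊤ := by
    rw [Ideal.eq_top_iff_one]
    refine Ideal.subset_span ⟨0, 1, ?_, by simp⟩
    rw [Nat.zero_sub, Groth.Agent.H9.Lambda.gammaFil_zero]
    trivial
  have hanti : Antitone W := by
    intro a b hab
    apply Ideal.span_mono
    rintro m ⟨e, a', he, rfl⟩
    exact ⟨e, a', Groth.Agent.H9.Lambda.gammaFil_antitone _ (Nat.sub_le_sub_right hab _) he, rfl⟩
  have hmul : ∀ i j, W i * W j ≤ W (i + j) := by
    intro i j
    simp only [hW]
    rw [Ideal.span_mul_span', Ideal.span_le]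
    rintro _ ⟨_, ⟨e1, a1, h1, rfl⟩, _, ⟨e2, a2, h2, rfl⟩, rfl⟩
    refine Ideal.subset_span ⟨e1 + e2, a1 * a2, ?_, ?_⟩
    · rw [hsumadd]
      have h3 := Groth.Agent.H9.Lambda.gammaFil_mul (εA : A →+* K) _ _ (Ideal.mul_mem_mul h1 h2)
      refine Groth.Agent.H9.Lambda.gammaFil_antitone _ ?_ h3
      omega
    · rw [hprodadd, map_mul]
      ring
  let y : ({a : A // εA a = 0} ⊕ Unit) → B :=
    Sum.elim (fun a => algebraMap A B (a : A)) (fun _ => x)
  have hy0 : ∀ i, εB (y i) = 0 := by
    rintro (a | _)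
    · show εB (algebraMap A B (a : A)) = 0
      rw [hεAB]; exact a.2
    · exact hx
  have key : ∀ z : B, ∃ R : Groth.Agent.H9.Lambda.Ops ({a : A // εA a = 0} ⊕ Unit) K,
      Groth.Agent.H9.Lambda.opg y R = z := by
    intro z
    have hz' : z ∈ Algebra.adjoin A
        (Set.range fun j : ℕ => LambdaRing.gamma (j + 1) x) := by
      rw [hgen]; trivial
    induction hz' using Algebra.adjoin_induction with
    | mem p hp =>
      obtain ⟨j, rfl⟩ := hp
      exact ⟨MvPolynomial.X (Sum.inr (), j), Groth.Agent.H9.Lambda.opg_X _ _ _⟩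
    | algebraMap a =>
      have ha : εA (a - algebraMap K A (εA a)) = 0 := by
        rw [map_sub, AlgHom.commutes]
        simp
      refine ⟨MvPolynomial.C (εA a) + MvPolynomial.X (Sum.inl ⟨a - algebraMap K A (εA a), ha⟩, 0), ?_⟩
      rw [map_add, Groth.Agent.H9.Lambda.opg_X, Groth.Agent.H9.Lambda.gamma_one_left,
        ← MvPolynomial.algebraMap_eq, AlgHom.commutes]
      show algebraMap K B (εA a) + algebraMap A B (a - algebraMap K A (εA a)) = _
      rw [map_sub, ← IsScalarTower.algebraMap_apply K A B]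
      ring
    | add p q _ _ hp hq =>
      obtain ⟨p', rfl⟩ := hp
      obtain ⟨q', rfl⟩ := hq
      exact ⟨p' + q', map_add _ _ _⟩
    | mul p q _ _ hp hq =>
      obtain ⟨p', rfl⟩ := hp
      obtain ⟨q', rfl⟩ := hq
      exact ⟨p' * q', map_mul _ _ _⟩
  apply le_antisymm
  · refine Groth.Agent.H9.Lambda.gammaFil_le_of _ W h0 hmul hanti ?_ k
    intro z hz i hi
    obtain ⟨R, rfl⟩ := key z
    have hR : Groth.Agent.H9.Lambda.WtGE R 1 :=
      Groth.Agent.H9.Lambda.wtGE_one_of_aug εB hεB.map_lam y hy0 R hz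
    refine Groth.Agent.H9.Lambda.gamma_opg_mem hKb hB hεB.isLambdaAlg y W h0 hmul hanti ?_ R hR i hi
    rintro (a | _) j
    · show LambdaRing.gamma (j + 1) (algebraMap A B (a : A)) ∈ W (j + 1)
      rw [← Groth.Agent.H9.Lambda.map_gamma (algebraMap A B) (fun n a => hAB n a)]
      refine Ideal.subset_span ⟨0, LambdaRing.gamma (j + 1) (a : A), ?_, by simp⟩
      simp only [Finsupp.sum_zero_index, Nat.sub_zero]
      exact Groth.Agent.H9.Lambda.gamma_mem_gammaFil _ _ a.2 _
    · show LambdaRing.gamma (j + 1) x ∈ W (j + 1)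
      refine Ideal.subset_span ⟨Finsupp.single j 1, 1, ?_, ?_⟩
      · rw [Finsupp.sum_single_index (by simp)]
        simp only [mul_one, Nat.sub_self]
        rw [Groth.Agent.H9.Lambda.gammaFil_zero]
        trivial
      · rw [Finsupp.prod_single_index (by simp)]
        simp
  · rw [Ideal.span_le]
    rintro _ ⟨e, a, ha, rfl⟩
    have h1 : algebraMap A B a ∈ LambdaRing.gammaFil (εB : B →+* K)
        (k - e.sum fun j n => (j + 1) * n) :=
      Groth.Agent.H9.Lambda.map_mem_gammaFil (εA : A →+* K) (εB : B →+* K) (algebraMap A B)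
        (fun a => hεAB a) (fun n a => hAB n a) _ a ha
    have h2 : (e.prod fun j n => LambdaRing.gamma (j + 1) x ^ n) ∈
        LambdaRing.gammaFil (εB : B →+* K) (e.sum fun j n => (j + 1) * n) :=
      Groth.Agent.H9.Lambda.prod_pow_mem_fil (LambdaRing.gammaFil (εB : B →+* K))
        (Groth.Agent.H9.Lambda.gammaFil_zero _) (Groth.Agent.H9.Lambda.gammaFil_mul _)
        e.support (fun j : ℕ => LambdaRing.gamma (j + 1) x) (fun j => j + 1) e
        (fun j _ => Groth.Agent.H9.Lambda.gamma_mem_gammaFil _ x hx _)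
    have h3 := Groth.Agent.H9.Lambda.gammaFil_mul (εB : B →+* K) _ _ (Ideal.mul_mem_mul h1 h2)
    refine Groth.Agent.H9.Lambda.gammaFil_antitone _ ?_ h3
    omega

end Groth.Agent.S8698
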