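import Groth.Statements.S8702
import Groth.Agent.H4.LambdaAdams
import Mathlib

set_option autoImplicit false
universe u
open LambdaRing

namespace Groth.Agent.S8702

open MvPolynomial Finset

open Groth.Agent.H4.LambdaAdams

section
variable {K : Type u} [CommRing K] [Algebra ℚ K]

theorem isUnit_succ (n : ℕ) : IsUnit ((n : K) + 1) := by
  have h : ((n : K) + 1) = algebraMap ℚ K ((n : ℚ) + 1) := by simp
  rw [h]
  apply IsUnit.map
  exact IsUnit.mk0 _ (by positivity)

/-- coefficients of the solution of `F' = Ψ F`, `F(0) = 1` where `Ψ = ∑ c k t^k` -/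
noncomputable def lamC (c : ℕ → K) : ℕ → K
  | 0 => 1
  | n + 1 => algebraMap ℚ K ((n : ℚ) + 1)⁻¹ * ∑ i : Fin (n + 1), c (n - i) * lamC c i
decreasing_by exact i.isLt

theorem lamC_zero (c : ℕ → K) : lamC c 0 = 1 := by rw [lamC]

theorem lamC_succ (c : ℕ → K) (n : ℕ) :
    lamC c (n + 1) * ((n : K) + 1) = ∑ p ∈ antidiagonal n, c p.1 * lamC c p.2 := by
  rw [lamC]
  have h : ((n : K) + 1) = algebraMap ℚ K ((n : ℚ) + 1) := by simp
  rw [h, mul_comm, ← mul_assoc, ← map_mul, mul_inv_cancel₀ (by positivity), map_one, one_mul]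
  rw [Finset.Nat.sum_antidiagonal_eq_sum_range_succ_mk, Finset.sum_range]
  rw [← Equiv.sum_comp Fin.revPerm]
  apply Finset.sum_congr rfl
  intro i _
  simp only [Fin.revPerm_apply, Fin.val_rev]
  have : n - (n + 1 - (i + 1)) = i := by omega
  have h2 : n + 1 - ((i : ℕ) + 1) = n - i := by omega
  rw [h2]
  congr 2
  omega

theorem deriv_mk_lamC (c : ℕ → K) :
    PowerSeries.derivative K (PowerSeries.mk (lamC c)) = PowerSeries.mk c * PowerSeries.mk (lamC c) := by
  ext n
  rw [PowerSeries.coeff_derivative, PowerSeries.coeff_mul, PowerSeries.coeff_mk, lamC_succ]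
  simp only [PowerSeries.coeff_mk]

theorem ode_unique (Ψ F G : PowerSeries K) (h0 : PowerSeries.constantCoeff F = PowerSeries.constantCoeff G)
    (hF : PowerSeries.derivative K F = Ψ * F) (hG : PowerSeries.derivative K G = Ψ * G) : F = G := by
  ext n
  induction n using Nat.strong_induction_on with
  | _ n ih =>
    rcases n with _ | n
    · rw [PowerSeries.coeff_zero_eq_constantCoeff_apply, PowerSeries.coeff_zero_eq_constantCoeff_apply, h0]
    · have h1 := congrArg (PowerSeries.coeff n) hF
      have h2 := congrArg (PowerSeries.coeff n) hG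
      rw [PowerSeries.coeff_derivative, PowerSeries.coeff_mul] at h1 h2
      have h3 : ∑ p ∈ antidiagonal n, PowerSeries.coeff p.1 Ψ * PowerSeries.coeff p.2 F =
          ∑ p ∈ antidiagonal n, PowerSeries.coeff p.1 Ψ * PowerSeries.coeff p.2 G := by
        apply Finset.sum_congr rfl
        intro p hp
        have hp2 : p.2 < n + 1 := by
          have := Finset.HasAntidiagonal.mem_antidiagonal.1 hp; omega
        rw [ih p.2 hp2]
      rw [h3, ← h2] at h1
      exact (isUnit_succ n).mul_left_injective h1
end

theorem lambdaOps_ext {K : Type u} [CommRing K] (L L' : LambdaOps K)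
    (h : ∀ n x, @LambdaOps.lam K _ L n x = @LambdaOps.lam K _ L' n x) : L = L' := by
  cases L with
  | mk lam h0 h1 hadd =>
    cases L' with
    | mk lam' h0' h1' hadd' =>
      have : lam = lam' := by funext n x; exact h n x
      subst this
      rfl

/-- Let K be a commutative ring which is an algebra over the rationals, and let ψ^k : K → K, k ≥ 1, be
additive maps with ψ^1 the identity. Then there is one and only one pre-λ-structure on K whose Adams
operations (defined through the logarithmic derivative of λ_t) are the ψ^k for every k ≥ 1, namely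
λ_t(x) = exp(Σ_{k ≥ 1} (−1)^{k−1} ψ^k(x) t^k / k): in characteristic zero, pre-λ-structures and
families of additive operations ψ^k with ψ^1 = id determine each other. (The value of the family at
k = 0 is ignored.) -/
theorem result (K : Type u) [CommRing K] [Algebra ℚ K]
    (ψ : ℕ → K →+ K) (hψ : ψ 1 = AddMonoidHom.id K) :
    ∃! L : LambdaRing.LambdaOps K, ∀ k : ℕ, 1 ≤ k → ∀ x : K, @LambdaRing.adamsOp K _ L k x = ψ k x := by
  let c : K → ℕ → K := fun x k => (-1) ^ k * ψ (k + 1) x
  have hc_add : ∀ x y, PowerSeries.mk (c (x + y)) = PowerSeries.mk (c x) + PowerSeries.mk (c y) := by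
    intro x y
    ext k
    simp only [map_add, PowerSeries.coeff_mk, c]
    ring
  have hmul : ∀ x y, PowerSeries.mk (lamC (c (x + y))) = PowerSeries.mk (lamC (c x)) * PowerSeries.mk (lamC (c y)) := by
    intro x y
    apply ode_unique (PowerSeries.mk (c (x + y)))
    · rw [map_mul, PowerSeries.constantCoeff_mk, PowerSeries.constantCoeff_mk, PowerSeries.constantCoeff_mk,
        lamC_zero, lamC_zero, lamC_zero, mul_one]
    · exact deriv_mk_lamC _
    · rw [Derivation.leibniz, deriv_mk_lamC, deriv_mk_lamC, hc_add]
      simp only [smul_eq_mul]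
      ring
  let L : LambdaOps K :=
    { lam := fun n x => lamC (c x) n
      lam_zero := fun x => lamC_zero _
      lam_one := fun x => by
        have := lamC_succ (c x) 0
        simp only [Nat.cast_zero, zero_add, mul_one, Finset.Nat.antidiagonal_zero, Finset.sum_singleton] at this
        rw [this, lamC_zero]
        simp [c, hψ]
      lam_add := fun k x y => by
        have := congrArg (PowerSeries.coeff k) (hmul x y)
        rw [PowerSeries.coeff_mul, PowerSeries.coeff_mk, Finset.Nat.sum_antidiagonal_eq_sum_range_succ_mk] at this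
        simpa only [PowerSeries.coeff_mk] using this }
  have hLseries : ∀ x, @lamSeries K _ L x = PowerSeries.mk (lamC (c x)) := fun x => rfl
  have hLlog : ∀ x, @logDerivSeries K _ L x = PowerSeries.mk (c x) := by
    intro x
    have h1 := @deriv_lamSeries K _ L x
    rw [hLseries, deriv_mk_lamC] at h1
    have h2 := @lamSeries_mul_inv K _ L x
    rw [hLseries] at h2
    calc @logDerivSeries K _ L x = @logDerivSeries K _ L x * (PowerSeries.mk (lamC (c x)) * (PowerSeries.mk (lamC (c x))).invOfUnit 1) := by
          rw [h2, mul_one]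
      _ = (PowerSeries.mk (c x) * PowerSeries.mk (lamC (c x))) * (PowerSeries.mk (lamC (c x))).invOfUnit 1 := by
          rw [h1]; ring
      _ = PowerSeries.mk (c x) := by rw [mul_assoc, h2, mul_one]
  refine ⟨L, ?_, ?_⟩
  · intro k hk x
    obtain ⟨k, rfl⟩ : ∃ j, k = j + 1 := ⟨k - 1, by omega⟩
    show (-1 : K) ^ k * PowerSeries.coeff k (@logDerivSeries K _ L x) = ψ (k + 1) x
    rw [hLlog, PowerSeries.coeff_mk]
    simp only [c]
    rw [← mul_assoc, ← mul_pow]
    simp
  · intro L' hL'
    apply lambdaOps_ext
    intro n x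
    have h1 := @deriv_lamSeries K _ L' x
    have h2 : @logDerivSeries K _ L' x = PowerSeries.mk (c x) := by
      ext k
      rw [@coeff_logDeriv K _ L' x k, hL' (k + 1) (by omega) x, PowerSeries.coeff_mk]
    rw [h2] at h1
    have h3 : @lamSeries K _ L' x = PowerSeries.mk (lamC (c x)) := by
      apply ode_unique (PowerSeries.mk (c x)) _ _ _ h1 (deriv_mk_lamC _)
      rw [@constantCoeff_lamSeries K _ L' x]
      rw [PowerSeries.constantCoeff_mk, lamC_zero]
    have := congrArg (PowerSeries.coeff n) h3
    rw [PowerSeries.coeff_mk, lamSeries, PowerSeries.coeff_mk] at this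
    exact this


end Groth.Agent.S8702
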