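import Groth.Statements.S8703
import Groth.Agent.H4.LambdaAdams
import Mathlib

set_option autoImplicit false
universe u
open LambdaRing

namespace Groth.Agent.S8703

open MvPolynomial Finset

open Groth.Agent.H4.LambdaAdams

theorem isUnit_succ (K' : Type u) [CommRing K'] [Algebra ℚ K'] (n : ℕ) : IsUnit ((n : K') + 1) := by
  have h : ((n : K') + 1) = algebraMap ℚ K' ((n : ℚ) + 1) := by simp
  rw [h]
  apply IsUnit.map
  exact IsUnit.mk0 _ (by positivity)

/-- The Adams operations commute with λ-homomorphisms, and conversely, if K and K' are pre-λ-rings which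
are algebras over the rationals, a ring homomorphism f : K → K' commuting with the ψ^k for all k ≥ 1
is a λ-homomorphism (commutes with all λ^i), the λ^i being expressible through the ψ^k in
characteristic zero. -/
theorem result (K K' : Type u) [CommRing K] [CommRing K']
    [LambdaRing.LambdaOps K] [LambdaRing.LambdaOps K'] [Algebra ℚ K] [Algebra ℚ K'] (f : K →+* K') :
    LambdaRing.IsLambdaHom f ↔
      ∀ k : ℕ, 1 ≤ k → ∀ x : K, f (LambdaRing.adamsOp k x) = LambdaRing.adamsOp k (f x) := by
  have hN : ∀ (x : K) (n : ℕ), f (LambdaOps.lam (n + 1) x) * ((n : K') + 1) =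
      ∑ p ∈ antidiagonal n, ((-1) ^ p.1 * f (adamsOp (p.1 + 1) x)) * f (LambdaOps.lam p.2 x) := by
    intro x n
    have := congrArg f (newton x n)
    simpa [map_sum] using this
  constructor
  · intro hf k hk x
    obtain ⟨n, rfl⟩ : ∃ j, k = j + 1 := ⟨k - 1, by omega⟩
    induction n using Nat.strong_induction_on with
    | _ n ih =>
      have h1 := hN x n
      have h2 := newton (f x) n
      have hf' : ∀ (i : ℕ) (x : K), f (LambdaOps.lam i x) = LambdaOps.lam i (f x) := hf
      rw [hf'] at h1
      rw [h1] at h2
      simp only [hf'] at h2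
      rw [Finset.Nat.sum_antidiagonal_eq_sum_range_succ_mk, Finset.Nat.sum_antidiagonal_eq_sum_range_succ_mk,
        Finset.sum_range_succ, Finset.sum_range_succ] at h2
      have h3 : ∑ i ∈ range n, ((-1 : K') ^ i * f (adamsOp (i + 1) x)) * LambdaOps.lam (n - i) (f x) =
          ∑ i ∈ range n, ((-1 : K') ^ i * adamsOp (i + 1) (f x)) * LambdaOps.lam (n - i) (f x) := by
        apply Finset.sum_congr rfl
        intro i hi
        rw [ih i (Finset.mem_range.1 hi) (by omega)]
      rw [h3] at h2
      have h4 := add_left_cancel h2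
      simp only [Nat.sub_self, LambdaOps.lam_zero, mul_one] at h4
      have h5 : (-1 : K') ^ n * ((-1 : K') ^ n * f (adamsOp (n + 1) x)) =
          (-1 : K') ^ n * ((-1 : K') ^ n * adamsOp (n + 1) (f x)) := by rw [h4]
      rw [← mul_assoc, ← mul_assoc, ← mul_pow] at h5
      simpa using h5
  · intro hψ i x
    induction i using Nat.strong_induction_on with
    | _ i ih =>
      rcases i with _ | n
      · rw [LambdaOps.lam_zero, LambdaOps.lam_zero, map_one]
      · have h1 := hN x n
        have h2 := newton (f x) n
        have h3 : ∑ p ∈ antidiagonal n, ((-1 : K') ^ p.1 * f (adamsOp (p.1 + 1) x)) * f (LambdaOps.lam p.2 x) =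
            ∑ p ∈ antidiagonal n, ((-1 : K') ^ p.1 * adamsOp (p.1 + 1) (f x)) * LambdaOps.lam p.2 (f x) := by
          apply Finset.sum_congr rfl
          intro p hp
          have hp2 : p.2 < n + 1 := by
            have := Finset.HasAntidiagonal.mem_antidiagonal.1 hp; omega
          rw [hψ (p.1 + 1) (by omega), ih p.2 hp2]
        rw [h3, ← h2] at h1
        exact (isUnit_succ K' n).mul_left_injective h1


end Groth.Agent.S8703
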