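import Groth.Statements.S8704
import Groth.Agent.Lib.Helper2.LamGamma
import Mathlib

set_option autoImplicit false
universe u v
open LambdaRing

namespace Groth.Agent.S8704

open MvPolynomial Finset

open Groth.Agent.H2.Lam (gamma_add lam_zero_of_pos)

section
variable {K : Type u} [CommRing K] {A : Type v} [CommRing A] [LambdaRing.LambdaOps A] [Algebra K A]
  (ε : A →ₐ[K] K) (S : Set A)

def gens (n : ℕ) : Set A :=
  {y : A | ∃ l : List (ℕ × A), (∀ p ∈ l, p.2 ∈ S) ∧ n ≤ (l.map Prod.fst).sum ∧
    y = (l.map fun p => LambdaRing.gamma p.1 (p.2 - algebraMap K A (ε p.2))).prod}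

def W (n : ℕ) : Submodule K A := Submodule.span K (gens ε S n)

theorem gens_mul {m n : ℕ} {x y : A} (hx : x ∈ gens ε S m) (hy : y ∈ gens ε S n) : x * y ∈ gens ε S (m + n) := by
  obtain ⟨l, hl, hls, rfl⟩ := hx
  obtain ⟨l', hl', hls', rfl⟩ := hy
  refine ⟨l ++ l', ?_, ?_, ?_⟩
  · intro p hp
    rcases List.mem_append.1 hp with h | h
    · exact hl p h
    · exact hl' p h
  · rw [List.map_append, List.sum_append]; omega
  · rw [List.map_append, List.prod_append]

theorem W_mul {m n : ℕ} {x y : A} (hx : x ∈ W ε S m) (hy : y ∈ W ε S n) : x * y ∈ W ε S (m + n) := by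
  have h1 : x * y ∈ W ε S m * W ε S n := Submodule.mul_mem_mul hx hy
  have h2 : W ε S m * W ε S n ≤ W ε S (m + n) := by
    rw [W, W, Submodule.span_mul_span]
    apply Submodule.span_mono
    rintro _ ⟨a, ha, b, hb, rfl⟩
    exact gens_mul ε S ha hb
  exact h2 h1

theorem W_anti {m n : ℕ} (h : m ≤ n) : W ε S n ≤ W ε S m := by
  apply Submodule.span_mono
  rintro y ⟨l, hl, hls, rfl⟩
  exact ⟨l, hl, h.trans hls, rfl⟩

theorem one_mem_W : (1 : A) ∈ W ε S 0 :=
  Submodule.subset_span ⟨[], by simp, by simp, by simp⟩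

/-- the property `γ^i(x) ∈ W_i` for all `i` -/
def Q (x : A) : Prop := ∀ i : ℕ, LambdaRing.gamma i x ∈ W ε S i

theorem gamma_zero_left (x : A) : LambdaRing.gamma 0 x = 1 := by simp [LambdaRing.gamma]

theorem gamma_one_left (x : A) : LambdaRing.gamma 1 x = x := by
  simp [LambdaRing.gamma, Finset.sum_range_succ, LambdaOps.lam_one]

theorem gamma_zero_right {i : ℕ} (hi : 0 < i) : LambdaRing.gamma i (0 : A) = 0 := by
  rw [LambdaRing.gamma, if_neg (by omega)]
  apply Finset.sum_eq_zero
  intro j _
  by_cases hj : j = 0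
  · simp [hj]
  · rw [if_neg hj, lam_zero_of_pos (by omega), mul_zero]

theorem Q_gen {s : A} (hs : s ∈ S) : Q ε S (s - algebraMap K A (ε s)) := by
  intro i
  exact Submodule.subset_span ⟨[(i, s)], by simpa using hs, by simp, by simp⟩

theorem Q_zero : Q ε S (0 : A) := by
  intro i
  rcases Nat.eq_zero_or_pos i with rfl | hi
  · rw [gamma_zero_left]; exact one_mem_W ε S
  · rw [gamma_zero_right hi]; exact zero_mem _

theorem Q_add {a b : A} (ha : Q ε S a) (hb : Q ε S b) : Q ε S (a + b) := by
  intro i
  rw [gamma_add]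
  apply Submodule.sum_mem
  intro j hj
  have hj' : j ≤ i := by have := Finset.mem_range.1 hj; omega
  have := W_mul ε S (ha j) (hb (i - j))
  rwa [Nat.add_sub_cancel' hj'] at this

theorem Q_neg {a : A} (ha : Q ε S a) : Q ε S (-a) := by
  intro i
  induction i using Nat.strong_induction_on with
  | _ i ih =>
    rcases Nat.eq_zero_or_pos i with rfl | hi
    · rw [gamma_zero_left]; exact one_mem_W ε S
    · have h1 := gamma_add i a (-a)
      rw [add_neg_cancel, gamma_zero_right hi, Finset.sum_range_succ', gamma_zero_left, one_mul,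
        Nat.sub_zero] at h1
      have h2 : LambdaRing.gamma i (-a) =
          - ∑ j ∈ range i, LambdaRing.gamma (j + 1) a * LambdaRing.gamma (i - (j + 1)) (-a) := by
        rw [eq_neg_iff_add_eq_zero, add_comm]; exact h1.symm
      rw [h2]
      apply Submodule.neg_mem
      apply Submodule.sum_mem
      intro j hj
      have hj' : j + 1 ≤ i := by have := Finset.mem_range.1 hj; omega
      have := W_mul ε S (ha (j + 1)) (ih (i - (j + 1)) (by omega))
      rwa [Nat.add_sub_cancel' hj'] at this

theorem Q_of_ker (hS : AddSubgroup.closure S = ⊤) {x : A} (hx : ε x = 0) : Q ε S x := by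
  let φ : A →+ A := AddMonoidHom.id A - ((algebraMap K A : K →+* A).toAddMonoidHom.comp (ε : A →+* K).toAddMonoidHom)
  have hφ : ∀ a, φ a = a - algebraMap K A (ε a) := fun a => rfl
  have hall : ∀ a : A, Q ε S (φ a) := by
    intro a
    have ha : a ∈ AddSubgroup.closure S := by rw [hS]; trivial
    induction ha using AddSubgroup.closure_induction with
    | mem s hs => rw [hφ]; exact Q_gen ε S hs
    | zero => rw [map_zero]; exact Q_zero ε S
    | add a b _ _ iha ihb => rw [map_add]; exact Q_add ε S iha ihb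
    | neg a _ iha => rw [map_neg]; exact Q_neg ε S iha
  have := hall x
  rwa [hφ, hx, map_zero, sub_zero] at this

theorem smul_mem_W (hS : AddSubgroup.closure S = ⊤) (n : ℕ) (a : A) {w : A} (hw : w ∈ W ε S n) :
    a * w ∈ W ε S n := by
  have h0 : ε (a - algebraMap K A (ε a)) = 0 := by
    rw [map_sub, AlgHom.commutes, Algebra.algebraMap_self_apply, sub_self]
  have h1 := Q_of_ker ε S hS h0 1
  rw [gamma_one_left] at h1
  have h2 : a * w = (a - algebraMap K A (ε a)) * w + ε a • w := by
    rw [Algebra.smul_def]; ring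
  rw [h2]
  apply Submodule.add_mem
  · have := W_mul ε S h1 hw
    exact W_anti ε S (by omega) this
  · exact Submodule.smul_mem _ _ hw

theorem list_prod_mem (hS : AddSubgroup.closure S = ⊤) (l : List (ℕ × A)) (hl : ∀ p ∈ l, ε p.2 = 0) :
    (l.map fun p => LambdaRing.gamma p.1 p.2).prod ∈ W ε S (l.map Prod.fst).sum := by
  induction l with
  | nil => simpa using one_mem_W ε S
  | cons p l ih =>
    simp only [List.map_cons, List.prod_cons, List.sum_cons]
    apply W_mul ε S
    · exact Q_of_ker ε S hS (hl p (List.mem_cons_self ..)) p.1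
    · exact ih (fun q hq => hl q (List.mem_cons_of_mem _ hq))
end

/-- Let K and A be λ-rings in the strict sense, A an augmented K-λ-algebra with augmentation ε : A → K,
and Fil^n A its γ-filtration, the ideal generated by the products γ^{i_1}(x_1) ⋯ γ^{i_k}(x_k) with
i_1 + ⋯ + i_k ≥ n and all ε(x_r) = 0. If a subset S generates A as an abelian group, then Fil^n A,
as a K-submodule of A, is generated over K by the products γ^{i_1}(s_1 − ε(s_1)) ⋯ γ^{i_k}(s_k −
ε(s_k)) with s_r ∈ S and i_1 + ⋯ + i_k ≥ n. -/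
theorem result
    (K : Type u) [CommRing K] [LambdaRing.LambdaOps K] (hK : LambdaRing.IsSpecial K)
    (A : Type v) [CommRing A] [LambdaRing.LambdaOps A] [Algebra K A] (hA : LambdaRing.IsSpecial A)
    (ε : A →ₐ[K] K) (hε : LambdaRing.IsAugLambdaAlg K A ε)
    (S : Set A) (hS : AddSubgroup.closure S = ⊤) (n : ℕ) :
    (LambdaRing.gammaFil (ε : A →+* K) n).restrictScalars K =
      Submodule.span K {y : A | ∃ l : List (ℕ × A), (∀ p ∈ l, p.2 ∈ S) ∧ n ≤ (l.map Prod.fst).sum ∧
        y = (l.map fun p => LambdaRing.gamma p.1 (p.2 - algebraMap K A (ε p.2))).prod} := by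
  change _ = W ε S n
  apply le_antisymm
  · -- the ideal with carrier W n
    let I : Ideal A :=
      { carrier := W ε S n
        add_mem' := fun ha hb => Submodule.add_mem _ ha hb
        zero_mem' := Submodule.zero_mem _
        smul_mem' := fun a w hw => smul_mem_W ε S hS n a hw }
    have hI : LambdaRing.gammaFil (ε : A →+* K) n ≤ I := by
      apply Ideal.span_le.2
      rintro y ⟨l, hl, hls, rfl⟩
      exact W_anti ε S hls (list_prod_mem ε S hS l hl)
    intro x hx
    exact hI hx
  · apply Submodule.span_le.2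
    rintro y ⟨l, hl, hls, rfl⟩
    show _ ∈ LambdaRing.gammaFil (ε : A →+* K) n
    apply Ideal.subset_span
    refine ⟨l.map fun p => (p.1, p.2 - algebraMap K A (ε p.2)), ?_, ?_, ?_⟩
    · intro p hp
      obtain ⟨q, hq, rfl⟩ := List.mem_map.1 hp
      show ε (q.2 - algebraMap K A (ε q.2)) = 0
      rw [map_sub, AlgHom.commutes, Algebra.algebraMap_self_apply, sub_self]
    · simpa [List.map_map, Function.comp_def] using hls
    · simp [List.map_map, Function.comp_def]


end Groth.Agent.S8704
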