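import Groth.Statements.S8705
import Mathlib

set_option autoImplicit false
universe u
open SGA7

namespace Groth.Agent.S8705


variable (P : Type u) [AddCommGroup P]

noncomputable def ε : (P →₀ ℤ) →ₗ[ℤ] P := Finsupp.linearCombination ℤ (fun p : P => p)

noncomputable def d0 : (P × P →₀ ℤ) →ₗ[ℤ] (P →₀ ℤ) := Finsupp.linearCombination ℤ
  (fun pq : P × P => Finsupp.single (pq.1 + pq.2) 1 - Finsupp.single pq.1 1 - Finsupp.single pq.2 1)

noncomputable def d1 : (P × P × P →₀ ℤ) →ₗ[ℤ] (P × P →₀ ℤ) := Finsupp.linearCombination ℤ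
  (fun t : P × P × P => Finsupp.single (t.1 + t.2.1, t.2.2) 1 - Finsupp.single (t.1, t.2.1 + t.2.2) 1
    + Finsupp.single (t.1, t.2.1) 1 - Finsupp.single (t.2.1, t.2.2) 1)

noncomputable def d1' : (P × P →₀ ℤ) →ₗ[ℤ] (P × P →₀ ℤ) := Finsupp.linearCombination ℤ
  (fun pq : P × P => Finsupp.single pq 1 - Finsupp.single (pq.2, pq.1) 1)

noncomputable def N : Submodule ℤ (P × P →₀ ℤ) := LinearMap.range (d1 P) ⊔ LinearMap.range (d1' P)

abbrev Q := (P × P →₀ ℤ) ⧸ N P

variable {P}

/-- The normalised universal symmetric cocycle. -/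
noncomputable def c (p q : P) : Q P :=
  Submodule.Quotient.mk (Finsupp.single (p, q) 1 - Finsupp.single ((0 : P), (0 : P)) 1)

lemma c_symm (p q : P) : c p q = c q p := by
  unfold c
  rw [Submodule.Quotient.eq]
  have : (Finsupp.single (p, q) (1:ℤ) - Finsupp.single ((0 : P), (0 : P)) 1 -
      (Finsupp.single (q, p) 1 - Finsupp.single ((0 : P), (0 : P)) 1)) = d1' P (Finsupp.single (p, q) 1) := by
    simp [d1']
  rw [this]
  exact Submodule.mem_sup_right (LinearMap.mem_range_self _ _)

lemma c_cocycle (p q r : P) : c (p + q) r + c p q = c p (q + r) + c q r := by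
  unfold c
  rw [← Submodule.Quotient.mk_add, ← Submodule.Quotient.mk_add, Submodule.Quotient.eq]
  have : (Finsupp.single (p + q, r) (1:ℤ) - Finsupp.single ((0 : P), (0 : P)) 1 +
        (Finsupp.single (p, q) 1 - Finsupp.single ((0 : P), (0 : P)) 1) -
      (Finsupp.single (p, q + r) 1 - Finsupp.single ((0 : P), (0 : P)) 1 +
        (Finsupp.single (q, r) 1 - Finsupp.single ((0 : P), (0 : P)) 1))) =
      d1 P (Finsupp.single (p, q, r) 1) := by
    simp [d1]
    abel
  rw [this]
  exact Submodule.mem_sup_left (LinearMap.mem_range_self _ _)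

lemma c_zero_zero : c (0 : P) 0 = 0 := by
  unfold c
  simp

lemma c_zero_left (p : P) : c 0 p = 0 := by
  have := c_cocycle (0 : P) 0 p
  simp only [add_zero, zero_add, c_zero_zero] at this
  -- this : c 0 p = c 0 p + c 0 p
  have h2 : c 0 p + 0 = c 0 p + c 0 p := by simpa using this
  exact (add_left_cancel h2).symm

lemma c_zero_right (p : P) : c p 0 = 0 := by rw [c_symm, c_zero_left]

variable (P)

/-- The extension of `P` by `Q P` defined by the cocycle `c`. -/
@[ext] structure E where
  a : Q P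
  p : P

variable {P}

noncomputable instance : Add (E P) := ⟨fun x y => ⟨x.a + y.a + c x.p y.p, x.p + y.p⟩⟩
noncomputable instance : Zero (E P) := ⟨⟨0, 0⟩⟩
noncomputable instance : Neg (E P) := ⟨fun x => ⟨- x.a - c x.p (- x.p), - x.p⟩⟩

@[simp] lemma add_a (x y : E P) : (x + y).a = x.a + y.a + c x.p y.p := rfl
@[simp] lemma add_p (x y : E P) : (x + y).p = x.p + y.p := rfl
@[simp] lemma zero_a : (0 : E P).a = 0 := rfl
@[simp] lemma zero_p : (0 : E P).p = 0 := rfl
@[simp] lemma neg_a (x : E P) : (-x).a = - x.a - c x.p (- x.p) := rfl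
@[simp] lemma neg_p (x : E P) : (-x).p = - x.p := rfl

noncomputable instance : AddCommGroup (E P) where
  add_assoc x y z := by
    ext
    · simp only [add_a, add_p]
      have := c_cocycle x.p y.p z.p
      calc x.a + y.a + c x.p y.p + z.a + c (x.p + y.p) z.p
          = x.a + y.a + z.a + (c (x.p + y.p) z.p + c x.p y.p) := by abel
        _ = x.a + y.a + z.a + (c x.p (y.p + z.p) + c y.p z.p) := by rw [this]
        _ = _ := by abel
    · simp [add_assoc]
  zero_add x := by
    ext
    · simp [c_zero_left]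
    · simp
  add_zero x := by
    ext
    · simp [c_zero_right]
    · simp
  nsmul := nsmulRec
  zsmul := zsmulRec
  neg_add_cancel x := by
    ext
    · simp only [add_a, neg_a, neg_p, zero_a]
      rw [c_symm (-x.p) x.p]
      abel
    · simp
  add_comm x y := by
    ext
    · simp only [add_a]
      rw [c_symm x.p y.p]
      abel
    · simp [add_comm]

/-- the inclusion of `Q P` -/
noncomputable def ι : Q P →+ E P where
  toFun a := ⟨a, 0⟩
  map_zero' := rfl
  map_add' a b := by
    ext
    · simp [c_zero_zero]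
    · simp

lemma ι_injective : Function.Injective (ι (P := P)) := by
  intro a b h
  have := congrArg E.a h
  exact this

/-- the canonical map from the free group -/
noncomputable def φ : (P →₀ ℤ) →+ E P :=
  Finsupp.liftAddHom (fun p => (zmultiplesHom (E P)) ⟨0, p⟩)

lemma φ_single (p : P) : φ (Finsupp.single p (1:ℤ)) = ⟨0, p⟩ := by
  simp [φ]

noncomputable def σ : (P × P →₀ ℤ) →+ ℤ := Finsupp.liftAddHom (fun _ => AddMonoidHom.id ℤ)

lemma σ_single (x : P × P) (n : ℤ) : σ (Finsupp.single x n) = n := by simp [σ]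

noncomputable def τ : (P →₀ ℤ) →+ ℤ := Finsupp.liftAddHom (fun _ => AddMonoidHom.id ℤ)

lemma τ_single (x : P) (n : ℤ) : τ (Finsupp.single x n) = n := by simp [τ]

lemma τ_d0 (y : P × P →₀ ℤ) : τ (d0 P y) = - σ y := by
  have : (τ (P := P)).comp (d0 P).toAddMonoidHom = - σ := by
    apply Finsupp.addHom_ext
    intro x n
    simp only [AddMonoidHom.comp_apply, LinearMap.toAddMonoidHom_coe, AddMonoidHom.neg_apply, σ_single]
    have : Finsupp.single x n = n • Finsupp.single x (1:ℤ) := by simp
    rw [this, map_zsmul, map_zsmul]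
    simp [d0, τ_single]
  exact DFunLike.congr_fun this y

noncomputable def θ : (P × P →₀ ℤ) →+ Q P :=
  Finsupp.liftAddHom (fun x => (zmultiplesHom (Q P)) (c x.1 x.2))

lemma θ_single (x : P × P) : θ (Finsupp.single x (1:ℤ)) = c x.1 x.2 := by
  simp [θ]

lemma single_eq_smul {α : Type*} (x : α) (n : ℤ) : Finsupp.single x n = n • Finsupp.single x (1:ℤ) := by
  simp

lemma φ_d0 (y : P × P →₀ ℤ) : φ (d0 P y) = - ι (θ y) := by
  have : (φ (P := P)).comp (d0 P).toAddMonoidHom = - (ι.comp θ) := by
    apply Finsupp.addHom_ext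
    intro x n
    obtain ⟨p, q⟩ := x
    simp only [AddMonoidHom.comp_apply, LinearMap.toAddMonoidHom_coe, AddMonoidHom.neg_apply]
    rw [single_eq_smul, map_zsmul, map_zsmul, map_zsmul, map_zsmul, θ_single, ← smul_neg]
    congr 1
    have h : ((⟨0, p⟩ : E P) + ⟨0, q⟩ : E P) = ⟨0, p + q⟩ + ι (c p q) := by
      ext
      · simp [ι, c_zero_right]
      · simp [ι]
    simp only [d0, Finsupp.linearCombination_single, one_smul, map_sub, φ_single]
    rw [sub_sub, h]
    abel
  exact DFunLike.congr_fun this y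

lemma θ_eq (y : P × P →₀ ℤ) :
    θ y = Submodule.Quotient.mk y - σ y • Submodule.Quotient.mk (Finsupp.single ((0:P),(0:P)) 1) := by
  have : (θ (P := P)) = (Submodule.mkQ (N P)).toAddMonoidHom -
      ((zmultiplesHom (Q P)) (Submodule.Quotient.mk (Finsupp.single ((0:P),(0:P)) 1))).comp σ := by
    apply Finsupp.addHom_ext
    intro x n
    rw [single_eq_smul, map_zsmul, map_zsmul, θ_single]
    congr 1
    simp [c, σ_single]
  rw [this]
  simp

lemma mem_N_of_d0_eq_zero (y : P × P →₀ ℤ) (h : d0 P y = 0) : y ∈ N P := by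
  have h1 : ι (θ y) = 0 := by
    have := φ_d0 y
    rw [h, map_zero] at this
    exact neg_eq_zero.mp this.symm
  have h2 : θ y = 0 := ι_injective (by rw [h1, map_zero])
  have h3 : σ y = 0 := by
    have := τ_d0 y
    rw [h, map_zero] at this
    omega
  rw [θ_eq, h3, zero_smul, sub_zero] at h2
  exact (Submodule.Quotient.mk_eq_zero _).mp h2

lemma d0_d1 (t : P × P × P →₀ ℤ) : d0 P (d1 P t) = 0 := by
  have : (d0 P).comp (d1 P) = 0 := by
    apply Finsupp.lhom_ext
    intro x n
    obtain ⟨p, q, r⟩ := x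
    rw [single_eq_smul, map_zsmul]
    simp only [LinearMap.zero_apply, smul_eq_zero]
    right
    simp only [LinearMap.comp_apply, d1, d0, Finsupp.linearCombination_single, one_smul, map_sub, map_add]
    rw [add_assoc p q r]
    abel
  exact DFunLike.congr_fun this t

lemma d0_d1' (t : P × P →₀ ℤ) : d0 P (d1' P t) = 0 := by
  have : (d0 P).comp (d1' P) = 0 := by
    apply Finsupp.lhom_ext
    intro x n
    obtain ⟨p, q⟩ := x
    rw [single_eq_smul, map_zsmul]
    simp only [LinearMap.zero_apply, smul_eq_zero]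
    right
    simp only [LinearMap.comp_apply, d1', d0, Finsupp.linearCombination_single, one_smul, map_sub]
    rw [add_comm q p]
    abel
  exact DFunLike.congr_fun this t

lemma ker_d0 : LinearMap.ker (d0 P) = N P := by
  apply le_antisymm
  · intro y hy
    exact mem_N_of_d0_eq_zero y (LinearMap.mem_ker.mp hy)
  · apply sup_le
    · rintro _ ⟨t, rfl⟩
      exact LinearMap.mem_ker.mpr (d0_d1 t)
    · rintro _ ⟨t, rfl⟩
      exact LinearMap.mem_ker.mpr (d0_d1' t)

lemma ε_d0 (y : P × P →₀ ℤ) : ε P (d0 P y) = 0 := by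
  have : (ε P).comp (d0 P) = 0 := by
    apply Finsupp.lhom_ext
    intro x n
    obtain ⟨p, q⟩ := x
    rw [single_eq_smul, map_zsmul]
    have : ((ε P).comp (d0 P)) (Finsupp.single (p, q) 1) = 0 := by
      simp [LinearMap.comp_apply, ε, d0]
    rw [this, smul_zero]
    rfl
  exact DFunLike.congr_fun this y

/-- additive section modulo the range of d0 -/
noncomputable def s : P →+ (P →₀ ℤ) ⧸ LinearMap.range (d0 P) where
  toFun p := Submodule.Quotient.mk (Finsupp.single p 1)
  map_zero' := by
    rw [Submodule.Quotient.mk_eq_zero]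
    refine ⟨- Finsupp.single ((0:P),(0:P)) 1, ?_⟩
    simp [d0]
  map_add' p q := by
    rw [← Submodule.Quotient.mk_add, Submodule.Quotient.eq]
    refine ⟨Finsupp.single (p, q) 1, ?_⟩
    simp [d0]
    abel

lemma s_ε (x : P →₀ ℤ) : s (ε P x) = Submodule.Quotient.mk x := by
  have : (s (P := P)).comp (ε P).toAddMonoidHom = (Submodule.mkQ (LinearMap.range (d0 P))).toAddMonoidHom := by
    apply Finsupp.addHom_ext
    intro p n
    simp only [AddMonoidHom.comp_apply, LinearMap.toAddMonoidHom_coe]
    rw [single_eq_smul, map_zsmul, map_zsmul, map_zsmul]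
    congr 1
    simp [ε, s]
  exact DFunLike.congr_fun this x

lemma ker_ε : LinearMap.ker (ε P) = LinearMap.range (d0 P) := by
  apply le_antisymm
  · intro x hx
    have := s_ε x
    rw [LinearMap.mem_ker.mp hx, map_zero] at this
    exact (Submodule.Quotient.mk_eq_zero _).mp this.symm
  · rintro _ ⟨y, rfl⟩
    exact LinearMap.mem_ker.mpr (ε_d0 y)

/-- In the case of the punctual topos (ordinary abelian groups): let P be an abelian group and consider
the complex of free abelian groups Z[P × P × P] ⊕ Z[P × P] → Z[P × P] → Z[P], augmented to P by [p]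
↦ p, with d₀[p, q] = [p + q] − [p] − [q], with d₁ on the first summand given by [p, q, r] ↦ [p + q,
r] − [p, q + r] + [p, q] − [q, r] and on the second summand by [p, q] ↦ [p, q] − [q, p]. Then the
augmentation is surjective with kernel the image of d₀ (so H₀ is P), and the kernel of d₀ is the sum
of the images of the two components of d₁ (so H₁ vanishes). (The published statement is for abelian
sheaves on an arbitrary topos; this row is its case of a one-point space.) -/
theorem result (P : Type u) [AddCommGroup P] :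
    letI ε : (P →₀ ℤ) →ₗ[ℤ] P := Finsupp.linearCombination ℤ (fun p : P => p)
    letI d₀ : (P × P →₀ ℤ) →ₗ[ℤ] (P →₀ ℤ) := Finsupp.linearCombination ℤ
      (fun pq : P × P => Finsupp.single (pq.1 + pq.2) 1 - Finsupp.single pq.1 1 - Finsupp.single pq.2 1)
    letI d₁ : (P × P × P →₀ ℤ) →ₗ[ℤ] (P × P →₀ ℤ) := Finsupp.linearCombination ℤ
      (fun t : P × P × P => Finsupp.single (t.1 + t.2.1, t.2.2) 1 - Finsupp.single (t.1, t.2.1 + t.2.2) 1
        + Finsupp.single (t.1, t.2.1) 1 - Finsupp.single (t.2.1, t.2.2) 1)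
    letI d₁' : (P × P →₀ ℤ) →ₗ[ℤ] (P × P →₀ ℤ) := Finsupp.linearCombination ℤ
      (fun pq : P × P => Finsupp.single pq 1 - Finsupp.single (pq.2, pq.1) 1)
    Function.Surjective ε ∧ LinearMap.ker ε = LinearMap.range d₀ ∧
      LinearMap.ker d₀ = LinearMap.range d₁ ⊔ LinearMap.range d₁' := by
  refine ⟨?_, ker_ε, ker_d0⟩
  intro p
  exact ⟨Finsupp.single p 1, by simp⟩


end Groth.Agent.S8705
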