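import Groth.Statements.S8710
import Mathlib
import Groth.Agent.H4.TorLES

set_option autoImplicit false
universe u
open CategoryTheory CategoryTheory.Limits
open SGA7

namespace Groth.Agent.S8710

open Groth.Agent.H4.TorLES

theorem shortExact_of {R : Type u} [CommRing R] {M₁ M₂ M₃ : Type u} [AddCommGroup M₁] [AddCommGroup M₂]
    [AddCommGroup M₃] [Module R M₁] [Module R M₂] [Module R M₃] (a : M₁ →ₗ[R] M₂) (b : M₂ →ₗ[R] M₃)
    (hinj : Function.Injective a) (hex : Function.Exact a b) (hsurj : Function.Surjective b) :
    (ShortComplex.mk (ModuleCat.ofHom a) (ModuleCat.ofHom b) (by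
      ext x; exact hex.apply_apply_eq_zero x)).ShortExact where
  exact := (ShortComplex.ShortExact.moduleCat_exact_iff_function_exact _).2 hex
  mono_f := (ModuleCat.mono_iff_injective _).2 hinj
  epi_g := (ModuleCat.epi_iff_surjective _).2 hsurj

/-- Let f : B' → B be a surjective map of R-algebras with B' flat over R, g : C → B a map of R-algebras,
P = B' ×_B C their fibre product (the equalizer of f ∘ pr₁ and g ∘ pr₂ in B' × C), S an R-algebra
and n a natural number. If Tor_i^R(C, S) = 0 for 0 < i < n and Tor_i^R(B, S) = 0 for 0 < i ≤ n, then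
Tor_i^R(P, S) = 0 for 0 < i < n. Here Tor_i^R(M, S) is the i-th left derived functor of M ⊗_R − on
R-modules, evaluated at S. (The published statement asks the vanishing for B only in degrees 0 < i <
n; the published proof and the corollary following it use it in degrees 0 < i ≤ n, which this row
assumes.) -/
theorem result (R B' B C S : Type u) [CommRing R] [CommRing B'] [CommRing B]
    [CommRing C] [CommRing S] [Algebra R B'] [Algebra R B] [Algebra R C] [Algebra R S]
    (f : B' →ₐ[R] B) (hf : Function.Surjective f) (g : C →ₐ[R] B) [Module.Flat R B'] (n : ℕ)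
    (hC : ∀ i : ℕ, 0 < i → i < n →
      IsZero (((Tor (ModuleCat.{u} R) i).obj (ModuleCat.of R C)).obj (ModuleCat.of R S)))
    (hB : ∀ i : ℕ, 0 < i → i ≤ n →
      IsZero (((Tor (ModuleCat.{u} R) i).obj (ModuleCat.of R B)).obj (ModuleCat.of R S))) :
    letI P := AlgHom.equalizer (f.comp (AlgHom.fst R B' C)) (g.comp (AlgHom.snd R B' C))
    ∀ i : ℕ, 0 < i → i < n →
      IsZero (((Tor (ModuleCat.{u} R) i).obj (ModuleCat.of R ↥P)).obj (ModuleCat.of R S)) := by
  intro i hi hin
  let P := AlgHom.equalizer (f.comp (AlgHom.fst R B' C)) (g.comp (AlgHom.snd R B' C))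
  change IsZero (((Tor (ModuleCat.{u} R) i).obj (ModuleCat.of R ↥P)).obj (ModuleCat.of R S))
  obtain ⟨j, rfl⟩ : ∃ j, i = j + 1 := ⟨i - 1, by omega⟩
  let K : Submodule R B' := LinearMap.ker f.toLinearMap
  -- first sequence
  have hT1 := shortExact_of (R := R) K.subtype f.toLinearMap K.subtype_injective
    (by
      intro x
      constructor
      · intro hx; exact ⟨⟨x, hx⟩, rfl⟩
      · rintro ⟨y, rfl⟩; exact y.2) hf
  have hK : IsZero ((torCx (ModuleCat.of R K) (ModuleCat.of R S)).homology (j + 1)) := by
    refine isZero_left _ hT1 (ModuleCat.of R S) (j + 1) ?_ ?_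
    · exact (isZero_Tor_iff _ _ _).1 (hB (j + 1 + 1) (by omega) (by omega))
    · exact isZero_of_flat (ModuleCat.of R B') (ModuleCat.of R S) j
  -- second sequence
  let ι : K →ₗ[R] P :=
    { toFun := fun k => ⟨(k.1, 0), by
        rw [AlgHom.mem_equalizer]
        simp only [AlgHom.comp_apply, AlgHom.fst_apply, AlgHom.snd_apply, map_zero]
        exact k.2⟩
      map_add' := fun a b => by
        apply Subtype.ext
        simp
      map_smul' := fun r a => by
        apply Subtype.ext
        simp }
  let π : P →ₗ[R] C := (LinearMap.snd R B' C).comp P.val.toLinearMap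
  have hιinj : Function.Injective ι := by
    intro a b hab
    have := congrArg (fun x : P => x.1.1) hab
    exact Subtype.ext this
  have hπsurj : Function.Surjective π := by
    intro c
    obtain ⟨b', hb'⟩ := hf (g c)
    exact ⟨⟨(b', c), by
      rw [AlgHom.mem_equalizer]
      simpa using hb'⟩, rfl⟩
  have hex : Function.Exact ι π := by
    intro x
    constructor
    · intro hx
      have hx2 : x.1.2 = 0 := hx
      have hmem := x.2
      rw [AlgHom.mem_equalizer] at hmem
      simp only [AlgHom.comp_apply, AlgHom.fst_apply, AlgHom.snd_apply] at hmem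
      rw [hx2, map_zero] at hmem
      refine ⟨⟨x.1.1, hmem⟩, ?_⟩
      apply Subtype.ext
      exact Prod.ext rfl hx2.symm
    · rintro ⟨y, rfl⟩; rfl
  have hT2 := shortExact_of (R := R) ι π hιinj hex hπsurj
  rw [isZero_Tor_iff]
  refine isZero_mid _ hT2 (ModuleCat.of R S) (j + 1) hK ?_
  exact (isZero_Tor_iff _ _ _).1 (hC (j + 1) (by omega) hin)


end Groth.Agent.S8710
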