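import Groth.Statements.S8719
import Mathlib
import Groth.Agent.H4.MvPSVars

set_option autoImplicit false
universe u
open VanCyc

namespace Groth.Agent.S8719

open MvPowerSeries Groth.Agent.H4.MvPSVars



/-- The formal computation carried out in its proof: let k be a field and f a power series in k[[x_0,
..., x_n]] with vanishing constant and linear terms whose degree-two part is a non-degenerate
quadratic form (the Gram determinant of its polar bilinear form is a unit). Then the partial
derivatives of f generate the maximal ideal of k[[x_0, ..., x_n]] (so f together with its partial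
derivatives cut out the origin with multiplicity one). -/
theorem result (k : Type u) [Field k] (n : ℕ)
    (f : MvPowerSeries (Fin (n + 1)) k) (hf : VanCyc.NondegQuadSeries f) :
    Ideal.span (Set.range fun i : Fin (n + 1) => MvPowerSeries.pderiv k i f) =
      IsLocalRing.maximalIdeal (MvPowerSeries (Fin (n + 1)) k) := by
  classical
  obtain ⟨⟨h0, h1⟩, hnd⟩ := hf
  set a := VanCyc.quadPart f with ha
  set M := VanCyc.polarMatrix a with hM
  have hMu : IsUnit M.det := hnd
  rw [maximalIdeal_eq_span_range_X]
  set m := Ideal.span (Set.range (X : Fin (n+1) → MvPowerSeries (Fin (n+1)) k)) with hm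
  apply le_antisymm
  · rw [Ideal.span_le]
    rintro _ ⟨i, rfl⟩
    rw [SetLike.mem_coe, mem_span_range_X_iff, ← coeff_zero_eq_constantCoeff_apply, coeff_pderiv]
    simp [h1 i]
  · have key : ∀ i, pderiv k i f - ∑ l, C (M i l) * X l ∈ m * m := by
      intro i
      apply mem_sq_of_coeff
      intro d hd
      have hX : ∀ (e : Fin (n+1) →₀ ℕ), coeff e (∑ l, C (M i l) * X l : MvPowerSeries (Fin (n+1)) k)
          = ∑ l, M i l * coeff e (X l : MvPowerSeries (Fin (n+1)) k) := by
        intro e
        rw [map_sum]
        apply Finset.sum_congr rfl
        intro l _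
        rw [coeff_C_mul]
      rcases degree_le_one hd with rfl | ⟨l, rfl⟩
      · rw [map_sub, hX, coeff_pderiv]
        simp [h1 i, coeff_zero_X]
      · rw [map_sub, hX, coeff_pderiv]
        simp only [coeff_index_single_X, mul_ite, mul_one, mul_zero, Finset.sum_ite_eq,
          Finset.mem_univ, if_true]
        rw [sub_eq_zero]
        simp only [hM, VanCyc.polarMatrix, ha, VanCyc.quadPart]
        by_cases hil : i = l
        · subst hil
          simp only [if_true, Finsupp.single_eq_same, ← Finsupp.single_add]
          push_cast
          ring
        · rw [if_neg hil]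
          rw [Finsupp.single_eq_of_ne hil]
          rcases lt_or_gt_of_ne hil with h | h
          · rw [if_pos h, if_neg hil, if_pos h]
            simp [add_comm]
          · rw [if_neg (not_lt.mpr h.le), if_neg (Ne.symm hil), if_pos h]
            simp
    apply Submodule.le_of_le_smul_of_le_jacobson_bot (I := m)
      (Submodule.fg_span (Set.finite_range _)) span_range_X_le_jacobson
    rw [hm, Ideal.span_le]
    rintro _ ⟨j, rfl⟩
    rw [SetLike.mem_coe, ← hm]
    -- inverse matrix
    have hinv : M⁻¹ * M = 1 := Matrix.nonsing_inv_mul M hMu
    have e1 : (X j : MvPowerSeries (Fin (n+1)) k) =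
        ∑ i, C (M⁻¹ j i) * pderiv k i f - ∑ i, C (M⁻¹ j i) * (pderiv k i f - ∑ l, C (M i l) * X l) := by
      rw [← Finset.sum_sub_distrib]
      simp only [mul_sub, sub_sub_cancel]
      simp only [Finset.mul_sum]
      rw [Finset.sum_comm]
      have : ∀ l, ∑ i, C (M⁻¹ j i) * (C (M i l) * (X l : MvPowerSeries (Fin (n+1)) k)) =
          C ((M⁻¹ * M) j l) * X l := by
        intro l
        rw [Matrix.mul_apply, map_sum, Finset.sum_mul]
        apply Finset.sum_congr rfl
        intro i _
        rw [map_mul, mul_assoc]
      simp only [this, hinv, Matrix.one_apply]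
      simp
    rw [e1]
    apply Submodule.sub_mem
    · apply Submodule.mem_sup_left
      apply Ideal.sum_mem
      intro i _
      exact Ideal.mul_mem_left _ _ (Ideal.subset_span ⟨i, rfl⟩)
    · apply Submodule.mem_sup_right
      rw [smul_eq_mul]
      apply Ideal.sum_mem
      intro i _
      exact Ideal.mul_mem_left _ _ (key i)


end Groth.Agent.S8719
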