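import Groth.Statements.S8720
import Mathlib
import Groth.Agent.H4.MvPSVars

set_option autoImplicit false
universe u
open VanCyc

namespace Groth.Agent.S8720

open MvPowerSeries Groth.Agent.H4.MvPSVars


lemma single_add_single_eq {α : Type*} [DecidableEq α] (a b c d : α) :
    (Finsupp.single a 1 + Finsupp.single b 1 : α →₀ ℕ) = Finsupp.single c 1 + Finsupp.single d 1 ↔
      (a = c ∧ b = d) ∨ (a = d ∧ b = c) := by
  constructor
  · intro h
    have ha := DFunLike.congr_fun h a
    simp only [Finsupp.coe_add, Pi.add_apply, Finsupp.single_eq_same] at ha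
    by_cases hac : a = c
    · subst hac
      left
      refine ⟨rfl, ?_⟩
      have := add_left_cancel h
      exact (Finsupp.single_left_inj one_ne_zero).mp this
    · by_cases had : a = d
      · subst had
        right
        refine ⟨rfl, ?_⟩
        rw [add_comm (Finsupp.single c 1)] at h
        have := add_left_cancel h
        exact (Finsupp.single_left_inj one_ne_zero).mp this
      · exfalso
        rw [Finsupp.single_eq_of_ne hac, Finsupp.single_eq_of_ne had] at ha
        omega
  · rintro (⟨rfl, rfl⟩ | ⟨rfl, rfl⟩)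
    · rfl
    · rw [add_comm]

lemma ne_single_add_single {α : Type*} (d : α →₀ ℕ) (h : d.degree ≠ 2) (c e : α) :
    d ≠ Finsupp.single c 1 + Finsupp.single e 1 := by
  rintro rfl
  apply h
  rw [map_add, Finsupp.degree_single, Finsupp.degree_single]

variable (k : Type u) [Field k] (m : ℕ)

noncomputable def Q0 : MvPowerSeries (Option (Fin m ⊕ Fin m)) k :=
  MvPowerSeries.X none ^ 2 +
    ∑ i : Fin m, MvPowerSeries.X (some (Sum.inl i)) * MvPowerSeries.X (some (Sum.inr i))

lemma coeff_Q0 (d : Option (Fin m ⊕ Fin m) →₀ ℕ) :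
    coeff d (Q0 k m) = (if d = Finsupp.single none 1 + Finsupp.single none 1 then 1 else 0) +
      ∑ i : Fin m, if d = Finsupp.single (some (Sum.inl i)) 1 + Finsupp.single (some (Sum.inr i)) 1
        then 1 else 0 := by
  classical
  rw [Q0, map_add, map_sum, X_pow_eq, coeff_monomial, ← Finsupp.single_add]
  congr 1
  apply Finset.sum_congr rfl
  intro i _
  rw [X_def, X_def, monomial_mul_monomial, coeff_monomial, mul_one]

lemma q0 : coeff 0 (Q0 k m) = 0 := by
  classical
  rw [coeff_Q0, if_neg (ne_single_add_single _ (by simp) _ _), zero_add]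
  apply Finset.sum_eq_zero
  intro i _
  rw [if_neg (ne_single_add_single _ (by simp) _ _)]

lemma q1 (a : Option (Fin m ⊕ Fin m)) : coeff (Finsupp.single a 1) (Q0 k m) = 0 := by
  classical
  rw [coeff_Q0, if_neg (ne_single_add_single _ (by simp [Finsupp.degree_single]) _ _), zero_add]
  apply Finset.sum_eq_zero
  intro i _
  rw [if_neg (ne_single_add_single _ (by simp [Finsupp.degree_single]) _ _)]

lemma q2 : coeff (Finsupp.single none 1 + Finsupp.single none 1) (Q0 k m) = 1 := by
  classical
  rw [coeff_Q0, if_pos rfl]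
  simp [single_add_single_eq]

lemma q3 (j : Fin m ⊕ Fin m) :
    coeff (Finsupp.single none 1 + Finsupp.single (some j) 1) (Q0 k m) = 0 := by
  classical
  rw [coeff_Q0]
  simp [single_add_single_eq, Finsupp.single_left_inj]

lemma q4 (a : Option (Fin m ⊕ Fin m)) (j : Fin m ⊕ Fin m) :
    coeff (Finsupp.single a 1 + Finsupp.single (some j.swap) 1) (Q0 k m) =
      if a = some j then 1 else 0 := by
  classical
  rw [coeff_Q0]
  rcases j with i | i
  · simp [single_add_single_eq]
    have : ∀ x, (a = some (Sum.inl x) ∧ i = x) ↔ (i = x ∧ a = some (Sum.inl i)) := by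
      intro x
      constructor
      · rintro ⟨h1, rfl⟩
        exact ⟨rfl, h1⟩
      · rintro ⟨rfl, h1⟩
        exact ⟨h1, rfl⟩
    simp only [this]
    by_cases h : a = some (Sum.inl i) <;> simp [h, Finset.filter_eq]
  · simp [single_add_single_eq]
    have : ∀ x, (a = some (Sum.inr x) ∧ i = x) ↔ (i = x ∧ a = some (Sum.inr i)) := by
      intro x
      constructor
      · rintro ⟨h1, rfl⟩
        exact ⟨rfl, h1⟩
      · rintro ⟨rfl, h1⟩
        exact ⟨h1, rfl⟩
    simp only [this]
    by_cases h : a = some (Sum.inr i) <;> simp [h, Finset.filter_eq]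

lemma coeff_mul_eq_zero {σ R : Type*} [CommRing R] (c φ : MvPowerSeries σ R) (d : σ →₀ ℕ)
    (h : ∀ j ≤ d, coeff j φ = 0) : coeff d (c * φ) = 0 := by
  classical
  rw [coeff_mul]
  apply Finset.sum_eq_zero
  rintro ⟨i, j⟩ hij
  rw [Finset.HasAntidiagonal.mem_antidiagonal] at hij
  have : j ≤ d := by
    rw [← hij]
    exact le_add_self
  simp only
  rw [h j this, mul_zero]

lemma le_single_one {α : Type*} (a : α) (j : α →₀ ℕ) (h : j ≤ Finsupp.single a 1) :
    j = 0 ∨ j = Finsupp.single a 1 := by
  classical
  have hd : j.degree ≤ 1 := by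
    have := Finsupp.degree_mono h
    rwa [Finsupp.degree_single] at this
  rcases degree_le_one hd with h0 | ⟨b, rfl⟩
  · exact Or.inl h0
  · right
    have := h b
    simp only [Finsupp.single_eq_same] at this
    by_cases hba : b = a
    · rw [hba]
    · rw [Finsupp.single_eq_of_ne hba] at this
      omega

variable {k m}

/-- the ideal of series with vanishing constant and `x_0`-linear coefficient -/
def I' : Ideal (MvPowerSeries (Option (Fin m ⊕ Fin m)) k) where
  carrier := {φ | coeff 0 φ = 0 ∧ coeff (Finsupp.single none 1) φ = 0}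
  add_mem' := by
    rintro φ ψ ⟨h1, h2⟩ ⟨h3, h4⟩
    exact ⟨by rw [map_add, h1, h3, add_zero], by rw [map_add, h2, h4, add_zero]⟩
  zero_mem' := ⟨by simp, by simp⟩
  smul_mem' := by
    rintro c φ ⟨h1, h2⟩
    refine ⟨?_, ?_⟩
    · rw [smul_eq_mul]
      apply coeff_mul_eq_zero
      intro j hj
      have : j = 0 := le_antisymm hj zero_le
      rw [this, h1]
    · rw [smul_eq_mul]
      apply coeff_mul_eq_zero
      intro j hj
      rcases le_single_one _ _ hj with rfl | rfl
      · exact h1
      · exact h2

lemma mem_I' (φ : MvPowerSeries (Option (Fin m ⊕ Fin m)) k) :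
    φ ∈ (I' : Ideal (MvPowerSeries (Option (Fin m ⊕ Fin m)) k)) ↔
      coeff 0 φ = 0 ∧ coeff (Finsupp.single none 1) φ = 0 := Iff.rfl

lemma eq_single_none (d : Option (Fin m ⊕ Fin m) →₀ ℕ) (h : ∀ j, d (some j) = 0) :
    d = Finsupp.single none (d none) := by
  ext a
  rcases a with _ | j
  · simp
  · rw [h j]
    simp

/-- Splitting off the part in `x_0` alone. -/
lemma split (φ : MvPowerSeries (Option (Fin m ⊕ Fin m)) k) :
    ∃ (ψ : Option (Fin m ⊕ Fin m) → MvPowerSeries (Option (Fin m ⊕ Fin m)) k)
      (φ₂ : MvPowerSeries (Option (Fin m ⊕ Fin m)) k),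
      φ = ∑ a ∈ (Finset.univ.image some : Finset (Option (Fin m ⊕ Fin m))), X a * ψ a + φ₂ ∧
      ∀ d, coeff d φ₂ = if (∀ j, d (some j) = 0) then coeff d φ else 0 := by
  classical
  let φ₂ : MvPowerSeries (Option (Fin m ⊕ Fin m)) k :=
    fun d => if (∀ j, d (some j) = 0) then coeff d φ else 0
  have h2 : ∀ d, coeff d φ₂ = if (∀ j, d (some j) = 0) then coeff d φ else 0 := fun d => rfl
  obtain ⟨ψ, hψ⟩ := exists_decomp (Finset.univ.image some : Finset (Option (Fin m ⊕ Fin m)))
    (φ - φ₂) (by
      intro d hd
      have : ∀ j, d (some j) = 0 := fun j => hd _ (Finset.mem_image_of_mem _ (Finset.mem_univ j))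
      rw [map_sub, h2, if_pos this, sub_self])
  refine ⟨ψ, φ₂, ?_, h2⟩
  rw [← hψ]
  ring

lemma X_pow_dvd_of (n : ℕ) (φ₂ : MvPowerSeries (Option (Fin m ⊕ Fin m)) k)
    (h2 : ∀ d, ¬ (∀ j, d (some j) = 0) → coeff d φ₂ = 0)
    (h : ∀ i < n, coeff (Finsupp.single none i) φ₂ = 0) : X none ^ n ∣ φ₂ := by
  rw [X_pow_dvd_iff]
  intro d hd
  by_cases h' : ∀ j, d (some j) = 0
  · rw [eq_single_none d h']
    exact h _ hd
  · exact h2 d h'

lemma I_eq_I' : Ideal.span ({MvPowerSeries.X none ^ 2} ∪
        Set.range fun j : Fin m ⊕ Fin m =>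
          (MvPowerSeries.X (some j) : MvPowerSeries (Option (Fin m ⊕ Fin m)) k)) = I' := by
  classical
  apply le_antisymm
  · rw [Ideal.span_le]
    rintro _ (h | ⟨j, rfl⟩)
    · rw [Set.mem_singleton_iff] at h
      subst h
      rw [SetLike.mem_coe, mem_I', X_pow_eq, coeff_monomial, coeff_monomial]
      constructor
      · rw [if_neg]
        intro h
        have := congrArg Finsupp.degree h
        simp [Finsupp.degree_single] at this
      · rw [if_neg]
        intro h
        have := congrArg Finsupp.degree h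
        simp [Finsupp.degree_single] at this
    · rw [SetLike.mem_coe, mem_I', coeff_zero_X, coeff_index_single_X]
      simp
  · intro φ hφ
    obtain ⟨h0, h1⟩ := (mem_I' φ).mp hφ
    obtain ⟨ψ, φ₂, hdec, hφ₂⟩ := split φ
    rw [hdec]
    apply Ideal.add_mem
    · apply Ideal.sum_mem
      intro a ha
      obtain ⟨j, _, rfl⟩ := Finset.mem_image.mp ha
      exact Ideal.mul_mem_right _ _ (Ideal.subset_span (Or.inr ⟨j, rfl⟩))
    · have : X none ^ 2 ∣ φ₂ := by
        apply X_pow_dvd_of
        · intro d hd
          rw [hφ₂, if_neg hd]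
        · intro i hi
          rw [hφ₂]
          split_ifs
          · interval_cases i
            · simpa using h0
            · exact h1
          · rfl
      obtain ⟨χ, rfl⟩ := this
      exact Ideal.mul_mem_right _ _ (Ideal.subset_span (Or.inl rfl))

/-- the pair of coefficients -/
noncomputable def π : MvPowerSeries (Option (Fin m ⊕ Fin m)) k →ₗ[k] k × k :=
  (coeff (0 : Option (Fin m ⊕ Fin m) →₀ ℕ)).prod (coeff (Finsupp.single none 1))

lemma finrank_quot : Module.finrank k (MvPowerSeries (Option (Fin m ⊕ Fin m)) k ⧸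
    (I' : Ideal (MvPowerSeries (Option (Fin m ⊕ Fin m)) k))) = 2 := by
  classical
  have hker : (I' : Ideal (MvPowerSeries (Option (Fin m ⊕ Fin m)) k)).restrictScalars k =
      LinearMap.ker (π (k := k) (m := m)) := by
    ext φ
    simp [π, mem_I']
  have hsurj : Function.Surjective (π (k := k) (m := m)) := by
    rintro ⟨a, b⟩
    refine ⟨monomial 0 a + monomial (Finsupp.single none 1) b, ?_⟩
    have h1 : (0 : Option (Fin m ⊕ Fin m) →₀ ℕ) ≠ Finsupp.single none 1 := by
      intro h
      have := congrArg Finsupp.degree h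
      simp [Finsupp.degree_single] at this
    apply Prod.ext
    · show coeff 0 (monomial 0 a + monomial (Finsupp.single none 1) b) = a
      rw [map_add, coeff_monomial_same, coeff_monomial_ne h1, add_zero]
    · show coeff (Finsupp.single none 1) (monomial 0 a + monomial (Finsupp.single none 1) b) = b
      rw [map_add, coeff_monomial_same, coeff_monomial_ne (Ne.symm h1), zero_add]
  have e1 := (Submodule.Quotient.restrictScalarsEquiv k
    (I' : Ideal (MvPowerSeries (Option (Fin m ⊕ Fin m)) k))).symm
  have e2 := (Submodule.quotEquivOfEq _ _ hker)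
  have e3 := (LinearMap.quotKerEquivOfSurjective (π (k := k) (m := m)) hsurj)
  rw [(e1 ≪≫ₗ e2 ≪≫ₗ e3).finrank_eq]
  simp

lemma X_some_mem_I' (j : Fin m ⊕ Fin m) :
    (X (some j) : MvPowerSeries (Option (Fin m ⊕ Fin m)) k) ∈
      (I' : Ideal (MvPowerSeries (Option (Fin m ⊕ Fin m)) k)) := by
  classical
  rw [mem_I', coeff_zero_X, coeff_index_single_X]
  simp

lemma X_none_sq_mem_I' :
    (X none ^ 2 : MvPowerSeries (Option (Fin m ⊕ Fin m)) k) ∈
      (I' : Ideal (MvPowerSeries (Option (Fin m ⊕ Fin m)) k)) := by
  rw [← I_eq_I']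
  exact Ideal.subset_span (Or.inl rfl)

lemma mem_mI (φ : MvPowerSeries (Option (Fin m ⊕ Fin m)) k)
    (h1 : ∀ d : Option (Fin m ⊕ Fin m) →₀ ℕ, d.degree ≤ 1 → coeff d φ = 0)
    (h2 : coeff (Finsupp.single none 2) φ = 0) :
    φ ∈ Ideal.span (Set.range (X : Option (Fin m ⊕ Fin m) → MvPowerSeries (Option (Fin m ⊕ Fin m)) k)) *
      (I' : Ideal (MvPowerSeries (Option (Fin m ⊕ Fin m)) k)) := by
  classical
  obtain ⟨ψ, φ₂, hdec, hφ₂⟩ := split φ
  have hφ₂' : ∀ d : Option (Fin m ⊕ Fin m) →₀ ℕ, d.degree ≤ 1 → coeff d φ₂ = 0 := by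
    intro d hd
    rw [hφ₂]
    split_ifs
    · exact h1 d hd
    · rfl
  rw [hdec]
  apply Ideal.add_mem
  · apply Ideal.sum_mem
    intro a ha
    have hψ : constantCoeff (ψ a) = 0 := by
      rw [← coeff_single_sum_X_mul _ ψ a ha]
      have : ∑ b ∈ (Finset.univ.image some : Finset (Option (Fin m ⊕ Fin m))), X b * ψ b = φ - φ₂ := by
        rw [hdec]
        ring
      rw [this, map_sub, h1 _ (by simp [Finsupp.degree_single]),
        hφ₂' _ (by simp [Finsupp.degree_single]), sub_zero]
    obtain ⟨j, _, rfl⟩ := Finset.mem_image.mp ha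
    rw [mul_comm (X (some j)) (ψ (some j))]
    exact Ideal.mul_mem_mul ((mem_span_range_X_iff _).mpr hψ) (X_some_mem_I' j)
  · have : X none ^ 3 ∣ φ₂ := by
      apply X_pow_dvd_of
      · intro d hd
        rw [hφ₂, if_neg hd]
      · intro i hi
        interval_cases i
        · exact hφ₂' _ (by simp [Finsupp.degree_single])
        · exact hφ₂' _ (by simp [Finsupp.degree_single])
        · rw [hφ₂]
          split_ifs
          · exact h2
          · rfl
    obtain ⟨χ, rfl⟩ := this
    have : (X none ^ 3 * χ : MvPowerSeries (Option (Fin m ⊕ Fin m)) k) = X none * (X none ^ 2 * χ) := by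
      ring
    rw [this]
    exact Ideal.mul_mem_mul (Ideal.subset_span ⟨none, rfl⟩) (Ideal.mul_mem_right _ _ X_none_sq_mem_I')

/-- The formal computation carried out in its proof: let k be a field of characteristic 2, m a natural
number, and f a power series over k in the variables x_0 and x_i, x_i' (i = 1, ..., m) whose terms
of degree less than 3 are exactly those of x_0^2 + x_1 x_1' + ... + x_m x_m'. Then the ideal
generated by f and all its partial derivatives is the ideal generated by x_0^2 and the x_i, x_i',
and the quotient of the power series ring by this ideal is two-dimensional over k. (Characteristic 2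
is what makes the derivative in x_0 lose its linear term.) -/
theorem result (k : Type u) [Field k] [CharP k 2] (m : ℕ)
    (f : MvPowerSeries (Option (Fin m ⊕ Fin m)) k)
    (hf : ∀ d : Option (Fin m ⊕ Fin m) →₀ ℕ, d.degree < 3 →
      MvPowerSeries.coeff d f = MvPowerSeries.coeff d
        (MvPowerSeries.X none ^ 2 +
          ∑ i : Fin m, MvPowerSeries.X (some (Sum.inl i)) * MvPowerSeries.X (some (Sum.inr i)))) :
    Ideal.span ({f} ∪ Set.range fun i : Option (Fin m ⊕ Fin m) => MvPowerSeries.pderiv k i f) =
      Ideal.span ({MvPowerSeries.X none ^ 2} ∪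
        Set.range fun j : Fin m ⊕ Fin m => (MvPowerSeries.X (some j) : MvPowerSeries (Option (Fin m ⊕ Fin m)) k)) ∧
    Module.finrank k (MvPowerSeries (Option (Fin m ⊕ Fin m)) k ⧸
      Ideal.span ({MvPowerSeries.X none ^ 2} ∪
        Set.range fun j : Fin m ⊕ Fin m => (MvPowerSeries.X (some j) : MvPowerSeries (Option (Fin m ⊕ Fin m)) k))) = 2 := by
  classical
  have hI := I_eq_I' (k := k) (m := m)
  rw [hI]
  refine ⟨?_, finrank_quot⟩
  have hfQ : ∀ d : Option (Fin m ⊕ Fin m) →₀ ℕ, d.degree < 3 → coeff d f = coeff d (Q0 k m) := hf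
  have h2 : (2 : k) = 0 := by
    have := CharP.cast_eq_zero k 2
    exact_mod_cast this
  have hsw : ∀ j : Fin m ⊕ Fin m, j ≠ j.swap := by
    rintro (i | i) h <;> simp at h
  apply le_antisymm
  · rw [Ideal.span_le]
    rintro _ (h | ⟨a, rfl⟩)
    · rw [Set.mem_singleton_iff] at h
      subst h
      rw [SetLike.mem_coe, mem_I', hfQ _ (by simp), hfQ _ (by simp [Finsupp.degree_single]), q0, q1]
      exact ⟨rfl, rfl⟩
    · rw [SetLike.mem_coe, mem_I', coeff_pderiv, coeff_pderiv, zero_add,
        hfQ _ (by simp [Finsupp.degree_single]), q1, zero_mul,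
        hfQ _ (by rw [map_add, Finsupp.degree_single, Finsupp.degree_single]; norm_num)]
      refine ⟨rfl, ?_⟩
      rcases a with _ | j
      · rw [q2, Finsupp.single_eq_same]
        push_cast
        rw [one_mul, one_add_one_eq_two, h2]
      · rw [q3, zero_mul]
  · set mm := Ideal.span (Set.range
      (X : Option (Fin m ⊕ Fin m) → MvPowerSeries (Option (Fin m ⊕ Fin m)) k)) with hmm
    set J := Ideal.span ({f} ∪ Set.range fun i : Option (Fin m ⊕ Fin m) => MvPowerSeries.pderiv k i f)
      with hJ
    have hfg : (I' : Ideal (MvPowerSeries (Option (Fin m ⊕ Fin m)) k)).FG := by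
      rw [← hI]
      exact Submodule.fg_span (Set.Finite.union (Set.finite_singleton _) (Set.finite_range _))
    apply Submodule.le_of_le_smul_of_le_jacobson_bot (I := mm) hfg span_range_X_le_jacobson
    -- x_0^2
    have hx0 : (X none ^ 2 : MvPowerSeries (Option (Fin m ⊕ Fin m)) k) ∈ J ⊔ mm • I' := by
      have e1 : (X none ^ 2 : MvPowerSeries (Option (Fin m ⊕ Fin m)) k) =
          f - ((f - Q0 k m) + ∑ i : Fin m, X (some (Sum.inl i)) * X (some (Sum.inr i))) := by
        rw [Q0]
        ring
      rw [e1]
      apply Submodule.sub_mem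
      · exact Submodule.mem_sup_left (Ideal.subset_span (Or.inl rfl))
      · apply Submodule.mem_sup_right
        rw [smul_eq_mul]
        apply Ideal.add_mem
        · apply mem_mI
          · intro d hd
            rw [map_sub, hfQ d (by omega), sub_self]
          · rw [map_sub, hfQ _ (by simp [Finsupp.degree_single]), sub_self]
        · apply Ideal.sum_mem
          intro i _
          exact Ideal.mul_mem_mul (Ideal.subset_span ⟨_, rfl⟩) (X_some_mem_I' _)
    conv_lhs => rw [← hI]
    rw [Ideal.span_le]
    rintro _ (h | ⟨j, rfl⟩)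
    · rw [Set.mem_singleton_iff] at h
      subst h
      exact hx0
    · show X (some j) ∈ _
      have h0ne : (0 : Option (Fin m ⊕ Fin m) →₀ ℕ) ≠ Finsupp.single none 2 := by
        intro h
        have := congrArg Finsupp.degree h
        simp [Finsupp.degree_single] at this
      have hne : ∀ a : Option (Fin m ⊕ Fin m),
          (Finsupp.single a 1 : Option (Fin m ⊕ Fin m) →₀ ℕ) ≠ Finsupp.single none 2 := by
        intro a h
        have := congrArg Finsupp.degree h
        simp [Finsupp.degree_single] at this
      set g := pderiv k (some j.swap) f with hg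
      set c := coeff (Finsupp.single none 2) g with hc
      have hφ : g - X (some j) - C c * X none ^ 2 ∈ mm * I' := by
        apply mem_mI
        · intro d hd
          rcases degree_le_one hd with rfl | ⟨a, rfl⟩
          · rw [map_sub, map_sub, hg, coeff_pderiv, zero_add, hfQ _ (by simp [Finsupp.degree_single]),
              q1, coeff_zero_X, coeff_C_mul, X_pow_eq, coeff_monomial, if_neg h0ne]
            simp
          · rw [map_sub, map_sub, hg, coeff_pderiv,
              hfQ _ (by rw [map_add, Finsupp.degree_single, Finsupp.degree_single]; norm_num),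
              q4, coeff_index_single_X, coeff_C_mul, X_pow_eq, coeff_monomial, if_neg (hne a)]
            by_cases ha : a = some j
            · subst ha
              rw [if_pos rfl, Finsupp.single_eq_of_ne]
              · simp
              · intro h
                exact hsw j (Option.some_injective _ h).symm
            · rw [if_neg ha]
              simp
        · rw [map_sub, map_sub, ← hc, coeff_C_mul, X_pow_eq, coeff_monomial_same, coeff_X,
            if_neg (hne _).symm]
          ring
      have e2 : (X (some j) : MvPowerSeries (Option (Fin m ⊕ Fin m)) k) =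
          g - C c * X none ^ 2 - (g - X (some j) - C c * X none ^ 2) := by ring
      rw [e2]
      apply Submodule.sub_mem
      · apply Submodule.sub_mem
        · exact Submodule.mem_sup_left (Ideal.subset_span (Or.inr ⟨_, rfl⟩))
        · exact Ideal.mul_mem_left _ _ hx0
      · apply Submodule.mem_sup_right
        rw [smul_eq_mul]
        exact hφ


end Groth.Agent.S8720
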