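import Groth.Statements.S8721
import Mathlib
import Groth.Agent.H4.SemiLang

set_option autoImplicit false
universe u v
open SGA7II

namespace Groth.Agent.S8721

open Groth.Agent.H4.SemiLang


theorem main' (k : Type u) [Field k] [IsSepClosed k] (p : ℕ)
    [Fact p.Prime] [CharP k p] (r : ℕ) (hr : 0 < r) (V : Type v) [AddCommGroup V] [Module k V]
    [FiniteDimensional k V] (φ : V →+ V) (hφ : ∀ (c : k) (v : V), φ (c • v) = c ^ (p ^ r) • φ v) :
    ∃ b : Module.Basis (Fin (Module.finrank k ↥(⨅ n : ℕ, Submodule.span k (Set.range (φ^[n + 1])))))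
        k ↥(⨅ n : ℕ, Submodule.span k (Set.range (φ^[n + 1]))),
      (∀ i, φ (b i : V) = (b i : V)) ∧
      ∀ v : V, φ v = v → ∃ c : Fin (Module.finrank k
          ↥(⨅ n : ℕ, Submodule.span k (Set.range (φ^[n + 1])))) → k,
        (∀ i, c i ^ (p ^ r) = c i) ∧ v = ∑ i, c i • (b i : V) := by
  classical
  have h : IsQLin (k := k) (p ^ r) φ := hφ
  have hq1 : 1 < p ^ r := Nat.one_lt_pow hr.ne' (Fact.out : p.Prime).one_lt
  have hq0 : ((p ^ r : ℕ) : k) = 0 := by
    push_cast
    rw [CharP.cast_eq_zero k p, zero_pow hr.ne']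
  set W : ℕ → Submodule k V := fun n => Submodule.span k (Set.range (φ^[n + 1])) with hW
  have hWanti : ∀ n, W (n + 1) ≤ W n := by
    intro n
    rw [hW]
    apply Submodule.span_mono
    rintro _ ⟨u, rfl⟩
    exact ⟨φ u, (Function.iterate_succ_apply φ (n + 1) u).symm⟩
  have hWanti' : Antitone W := antitone_nat_of_succ_le hWanti
  have hφW : ∀ n, ∀ w ∈ W n, φ w ∈ W (n + 1) := by
    intro n w hw
    have := h.map_mem_span _ hw
    refine Submodule.span_mono ?_ this
    rintro _ ⟨_, ⟨u, rfl⟩, rfl⟩
    exact ⟨u, Function.iterate_succ_apply' φ (n + 1) u⟩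
  obtain ⟨N, hN⟩ := IsArtinian.monotone_stabilizes
    (⟨fun n => OrderDual.toDual (W n), fun a b hab => hWanti' hab⟩ : ℕ →o (Submodule k V)ᵒᵈ)
  have hN' : ∀ m, N ≤ m → W N = W m := fun m hm => congrArg OrderDual.ofDual (hN m hm)
  set Vss : Submodule k V := ⨅ n : ℕ, W n with hVss
  have hVssN : Vss = W N := by
    apply le_antisymm (iInf_le _ N)
    apply le_iInf
    intro n
    rcases le_total n N with hn | hn
    · exact hWanti' hn
    · exact (hN' n hn).le
  have hstable : ∀ w ∈ Vss, φ w ∈ Vss := by
    intro w hw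
    rw [hVssN] at hw ⊢
    rw [hN' (N + 1) (by omega)]
    exact hφW N w hw
  let φ' : Vss →+ Vss :=
    { toFun := fun w => ⟨φ w, hstable w w.2⟩
      map_zero' := by
        apply Subtype.ext
        simp
      map_add' := by
        intro x y
        apply Subtype.ext
        simp }
  have hφ'val : ∀ w : Vss, ((φ' w : Vss) : V) = φ (w : V) := fun w => rfl
  have h' : IsQLin (k := k) (p ^ r) φ' := by
    intro c w
    apply Subtype.ext
    rw [hφ'val, Submodule.coe_smul, Submodule.coe_smul, hφ'val, h]
  have hnd' : Nondeg (k := k) φ' := by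
    rw [Nondeg]
    apply Submodule.map_injective_of_injective Vss.injective_subtype
    rw [Submodule.map_subtype_top, Submodule.map_span]
    apply le_antisymm
    · rw [Submodule.span_le]
      rintro _ ⟨_, ⟨w, rfl⟩, rfl⟩
      exact (φ' w).2
    · conv_lhs => rw [hVssN, hN' (N + 1) (by omega)]
      apply Submodule.span_mono
      rintro _ ⟨u, rfl⟩
      have hu : φ^[N + 1] u ∈ Vss := by
        rw [hVssN]
        exact Submodule.subset_span ⟨u, rfl⟩
      refine ⟨φ' ⟨φ^[N + 1] u, hu⟩, ⟨_, rfl⟩, ?_⟩
      show φ (φ^[N + 1] u) = _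
      exact (Function.iterate_succ_apply' φ (N + 1) u).symm
  obtain ⟨b, hb⟩ := exists_basis_fixed hq1 hq0 h' hnd'
  refine ⟨b, fun i => ?_, fun v hv => ?_⟩
  · have := congrArg Subtype.val (hb i)
    exact this
  · have hvV : v ∈ Vss := by
      rw [hVss, Submodule.mem_iInf]
      intro n
      apply Submodule.subset_span
      exact ⟨v, Function.iterate_fixed hv (n + 1)⟩
    have hv' : φ' ⟨v, hvV⟩ = ⟨v, hvV⟩ := Subtype.ext hv
    refine ⟨fun i => b.repr ⟨v, hvV⟩ i, fun i => ?_, ?_⟩
    · have h1 : φ' (∑ i, b.repr ⟨v, hvV⟩ i • b i) = ∑ i, b.repr ⟨v, hvV⟩ i ^ (p ^ r) • φ' (b i) :=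
        h'.map_sum_smul _ _ _
      rw [b.sum_repr, hv'] at h1
      simp only [hb] at h1
      have h2 := congrArg (fun x => b.repr x i) h1
      simp only [b.repr_sum_self] at h2
      exact h2.symm
    · have := congrArg Subtype.val (b.sum_repr ⟨v, hvV⟩)
      rw [Submodule.coe_sum] at this
      simp only [Submodule.coe_smul] at this
      exact this.symm

/-- Let k be a separably closed field of characteristic p > 0, q = p^r with r >= 1, V a
finite-dimensional k-vector space and phi : V -> V additive with phi(c v) = c^q phi(v). Let V_ss be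
the intersection, over n >= 1, of the k-subspaces spanned by the images of the iterates phi^n (the
semisimple part of V). Then V_ss has a k-basis consisting of phi-fixed vectors, and every phi-fixed
vector of V is a linear combination of this basis with coefficients c satisfying c^q = c; that is,
V_ss is obtained from the F_q-space of fixed vectors by extension of scalars. -/
theorem result (k : Type u) [Field k] [IsSepClosed k] (p : ℕ)
    [Fact p.Prime] [CharP k p] (r : ℕ) (hr : 0 < r) (V : Type v) [AddCommGroup V] [Module k V]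
    [FiniteDimensional k V] (φ : V →+ V) (hφ : ∀ (c : k) (v : V), φ (c • v) = c ^ (p ^ r) • φ v) :
    let Vss : Submodule k V := ⨅ n : ℕ, Submodule.span k (Set.range (φ^[n + 1]))
    ∃ b : Module.Basis (Fin (Module.finrank k ↥Vss)) k ↥Vss, (∀ i, φ (b i : V) = (b i : V)) ∧
      ∀ v : V, φ v = v → ∃ c : Fin (Module.finrank k ↥Vss) → k,
        (∀ i, c i ^ (p ^ r) = c i) ∧ v = ∑ i, c i • (b i : V) := by
  intro Vss
  exact main' k p r hr V φ hφ


end Groth.Agent.S8721
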