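import Groth.Statements.S8722
import Mathlib
import Groth.Agent.H4.SemiLang

set_option autoImplicit false
universe u v
open SGA7II

namespace Groth.Agent.S8722

open Groth.Agent.H4.SemiLang



/-- Let k be a separably closed field of characteristic p > 0, q = p^r with r >= 1, V a
finite-dimensional k-vector space and phi : V -> V additive with phi(c v) = c^q phi(v), semisimple
in the sense that its image spans V. Then for n >= 1 the fixed vectors of the n-th iterate of phi
are exactly the finite linear combinations of phi-fixed vectors with coefficients c satisfying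
c^(q^n) = c; that is, the fixed space of phi^n is obtained from the F_q-space of phi-fixed vectors
by extending scalars to F_{q^n}. -/
theorem result (k : Type u) [Field k] [IsSepClosed k] (p : ℕ)
    [Fact p.Prime] [CharP k p] (r : ℕ) (hr : 0 < r) (V : Type v) [AddCommGroup V] [Module k V]
    [FiniteDimensional k V] (φ : V →+ V) (hφ : ∀ (c : k) (v : V), φ (c • v) = c ^ (p ^ r) • φ v)
    (hss : Submodule.span k (Set.range φ) = ⊤) (n : ℕ) (hn : 0 < n) (v : V) :
    φ^[n] v = v ↔ ∃ (s : Finset V) (c : V → k), (∀ w ∈ s, φ w = w) ∧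
      (∀ w ∈ s, c w ^ ((p ^ r) ^ n) = c w) ∧ v = ∑ w ∈ s, c w • w := by
  classical
  have h : IsQLin (k := k) (p ^ r) φ := hφ
  have hq1 : 1 < p ^ r := Nat.one_lt_pow hr.ne' (Fact.out : p.Prime).one_lt
  have hq0 : ((p ^ r : ℕ) : k) = 0 := by
    push_cast
    rw [CharP.cast_eq_zero k p, zero_pow hr.ne']
  constructor
  · intro hv
    obtain ⟨b, hb⟩ := exists_basis_fixed hq1 hq0 h hss
    have hrepr : ∀ i, b.repr v i ^ ((p ^ r) ^ n) = b.repr v i := by
      have h1 : φ^[n] (∑ i, b.repr v i • b i) = ∑ i, b.repr v i ^ ((p ^ r) ^ n) • b i :=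
        iterate_eq_sum h b hb n _
      rw [b.sum_repr, hv] at h1
      intro i
      have h2 := congrArg (fun x => b.repr x i) h1
      simp only [b.repr_sum_self] at h2
      exact h2.symm
    refine ⟨Finset.univ.image b, fun w => if hw : ∃ i, b i = w then b.repr v hw.choose else 0,
      ?_, ?_, ?_⟩
    · intro w hw
      obtain ⟨i, _, rfl⟩ := Finset.mem_image.mp hw
      exact hb i
    · intro w hw
      obtain ⟨i, _, rfl⟩ := Finset.mem_image.mp hw
      simp only
      rw [dif_pos ⟨i, rfl⟩]
      exact hrepr _
    · rw [Finset.sum_image (fun i _ j _ hij => b.injective hij)]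
      conv_lhs => rw [← b.sum_repr v]
      apply Finset.sum_congr rfl
      intro i _
      have hex : ∃ j, b j = b i := ⟨i, rfl⟩
      simp only
      rw [dif_pos hex]
      have : hex.choose = i := b.injective hex.choose_spec
      rw [this]
  · rintro ⟨s, c, hfix, hc, rfl⟩
    rw [h.iterate_sum_smul]
    apply Finset.sum_congr rfl
    intro w hw
    rw [hc w hw]
    congr 1
    exact Function.iterate_fixed (hfix w hw) n


end Groth.Agent.S8722
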