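import Groth.Statements.S8724
import Mathlib

set_option autoImplicit false
open LefPen

namespace Groth.Agent.S8724

open Finset

section
variable {R : Type*} [CommRing R] (y z : R)

theorem geom (k : ℕ) : y ^ (k + 1) - z ^ (k + 1) = (y - z) * ∑ p ∈ antidiagonal k, y ^ p.1 * z ^ p.2 := by
  rw [Finset.Nat.sum_antidiagonal_eq_sum_range_succ_mk, mul_comm]
  have := Commute.geom_sum₂_mul (Commute.all y z) (k + 1)
  rw [← this]
  rfl

theorem key (c : ℕ → R) (N : ℕ) :
    ∑ k ∈ range (N + 1), c k * (y ^ k - z ^ k) =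
      (y - z) * ∑ m ∈ range N, c (m + 1) * ∑ p ∈ antidiagonal m, y ^ p.1 * z ^ p.2 := by
  rw [Finset.sum_range_succ', pow_zero, pow_zero, sub_self, mul_zero, add_zero, Finset.mul_sum]
  apply Finset.sum_congr rfl
  intro m _
  rw [geom]; ring

/-- reindexing the triangle -/
theorem tri (N : ℕ) (M : ℕ) (hM : N ≤ M) (G : ℕ × ℕ → R) :
    ∑ m ∈ range N, ∑ p ∈ antidiagonal m, G p =
      ∑ i ∈ range M, ∑ j ∈ range M, if i + j + 1 ≤ N then G (i, j) else 0 := by
  rw [← Finset.sum_product', ← Finset.sum_filter, ← Finset.sum_biUnion]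
  · apply Finset.sum_congr _ (fun _ _ => rfl)
    ext ⟨i, j⟩
    simp only [mem_biUnion, mem_range, Finset.HasAntidiagonal.mem_antidiagonal, mem_filter, mem_product]
    constructor
    · rintro ⟨m, hm, rfl⟩
      omega
    · rintro ⟨-, h⟩
      exact ⟨i + j, by omega, rfl⟩
  · intro a _ b _ hab
    simp only [Function.onFun]
    rw [Finset.disjoint_left]
    intro p hp hp'
    rw [Finset.HasAntidiagonal.mem_antidiagonal] at hp hp'
    exact hab (hp.symm.trans hp')
end

/-- The algebraic identity established in its proof: let a >= 1 and work in Z[y, z]. Then (1+y)^(a-1) -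
(1+z)^(a-1) = (y - z) * (sum over i, j >= 0 with i + j + 1 <= a - 1 of C(a-1, i+j+1) y^i z^j), and
(1+y)^a z - (1+z)^a y = (y - z) * (-1 + sum over i, j >= 1 with i + j <= a of C(a, i+j) y^i z^j).
Consequently the rational function -((1+y)^(a-1) - (1+z)^(a-1)) / ((1+y)^a z - (1+z)^a y), the
generating series of the primitive middle Hodge numbers of smooth hypersurfaces of degree a, equals
(sum_{i,j >= 0} C(a-1, i+j+1) y^i z^j) / (1 - sum_{i,j >= 1} C(a, i+j) y^i z^j). -/
theorem result (a : ℕ) (ha : 1 ≤ a) :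
    let y : MvPolynomial (Fin 2) ℤ := MvPolynomial.X 0
    let z : MvPolynomial (Fin 2) ℤ := MvPolynomial.X 1
    ((1 + y) ^ (a - 1) - (1 + z) ^ (a - 1) =
      (y - z) * ∑ i ∈ Finset.range a, ∑ j ∈ Finset.range a,
        if i + j + 1 ≤ a - 1 then ((a - 1).choose (i + j + 1) : MvPolynomial (Fin 2) ℤ) * y ^ i * z ^ j else 0) ∧
    ((1 + y) ^ a * z - (1 + z) ^ a * y =
      (y - z) * (-1 + ∑ i ∈ Finset.range (a + 1), ∑ j ∈ Finset.range (a + 1),
        if 1 ≤ i ∧ 1 ≤ j ∧ i + j ≤ a then (a.choose (i + j) : MvPolynomial (Fin 2) ℤ) * y ^ i * z ^ j else 0)) := by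
  intro y z
  have hpow : ∀ (n : ℕ) (t : MvPolynomial (Fin 2) ℤ), (1 + t) ^ n = ∑ k ∈ range (n + 1), (n.choose k : MvPolynomial (Fin 2) ℤ) * t ^ k := by
    intro n t
    rw [add_comm, add_pow]
    apply Finset.sum_congr rfl
    intro k _
    rw [one_pow, mul_one, mul_comm]
  constructor
  · obtain ⟨n, rfl⟩ : ∃ n, a = n + 1 := ⟨a - 1, by omega⟩
    simp only [Nat.add_sub_cancel]
    rw [hpow, hpow, ← Finset.sum_sub_distrib]
    simp only [← mul_sub]
    rw [key y z (fun k => (n.choose k : MvPolynomial (Fin 2) ℤ)) n]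
    congr 1
    simp only [Finset.mul_sum]
    have h1 : ∑ m ∈ range n, ∑ p ∈ antidiagonal m, (n.choose (m + 1) : MvPolynomial (Fin 2) ℤ) * (y ^ p.1 * z ^ p.2) =
        ∑ m ∈ range n, ∑ p ∈ antidiagonal m, (n.choose (p.1 + p.2 + 1) : MvPolynomial (Fin 2) ℤ) * (y ^ p.1 * z ^ p.2) := by
      apply Finset.sum_congr rfl
      intro m _
      apply Finset.sum_congr rfl
      intro p hp
      rw [Finset.HasAntidiagonal.mem_antidiagonal.1 hp]
    rw [h1, tri n (n + 1) (by omega) (fun p => (n.choose (p.1 + p.2 + 1) : MvPolynomial (Fin 2) ℤ) * (y ^ p.1 * z ^ p.2))]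
    apply Finset.sum_congr rfl
    intro i _
    apply Finset.sum_congr rfl
    intro j _
    split_ifs
    · ring
    · rfl
  · obtain ⟨n, rfl⟩ : ∃ n, a = n + 1 := ⟨a - 1, by omega⟩
    -- left-hand side
    have hL : (1 + y) ^ (n + 1) * z - (1 + z) ^ (n + 1) * y =
        (z - y) + y * z * ∑ m ∈ range (n + 1), ((n + 1).choose (m + 1) : MvPolynomial (Fin 2) ℤ) * (y ^ m - z ^ m) := by
      rw [hpow, hpow, Finset.sum_range_succ' _ (n + 1), Finset.sum_range_succ' _ (n + 1)]
      simp only [Nat.choose_zero_right, Nat.cast_one, pow_zero, mul_one]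
      rw [add_mul, add_mul, Finset.sum_mul, Finset.sum_mul, Finset.mul_sum]
      have : ∀ (u v : MvPolynomial (Fin 2) ℤ) (s t : MvPolynomial (Fin 2) ℤ), (s + 1 * u) - (t + 1 * v) = (u - v) + (s - t) := by
        intros; ring
      rw [this, ← Finset.sum_sub_distrib]
      congr 1
      apply Finset.sum_congr rfl
      intro m _
      ring
    -- right-hand side double sum
    have hR : ∑ i ∈ Finset.range (n + 1 + 1), ∑ j ∈ Finset.range (n + 1 + 1),
        (if 1 ≤ i ∧ 1 ≤ j ∧ i + j ≤ n + 1 then ((n + 1).choose (i + j) : MvPolynomial (Fin 2) ℤ) * y ^ i * z ^ j else 0) =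
        y * z * ∑ m ∈ range n, ∑ p ∈ antidiagonal m, ((n + 1).choose (p.1 + p.2 + 2) : MvPolynomial (Fin 2) ℤ) * (y ^ p.1 * z ^ p.2) := by
      rw [tri n (n + 1) (by omega) (fun p => ((n + 1).choose (p.1 + p.2 + 2) : MvPolynomial (Fin 2) ℤ) * (y ^ p.1 * z ^ p.2))]
      rw [Finset.sum_range_succ' _ (n + 1)]
      have h0 : ∑ j ∈ Finset.range (n + 1 + 1),
          (if 1 ≤ 0 ∧ 1 ≤ j ∧ 0 + j ≤ n + 1 then ((n + 1).choose (0 + j) : MvPolynomial (Fin 2) ℤ) * y ^ 0 * z ^ j else 0) = 0 := by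
        apply Finset.sum_eq_zero
        intro j _
        rw [if_neg (by omega)]
      rw [h0, add_zero, Finset.mul_sum]
      apply Finset.sum_congr rfl
      intro i _
      rw [Finset.sum_range_succ' _ (n + 1), if_neg (by omega), add_zero, Finset.mul_sum]
      apply Finset.sum_congr rfl
      intro j _
      by_cases h : i + j + 1 ≤ n
      · rw [if_pos h, if_pos (by omega)]
        have : i + 1 + (j + 1) = i + j + 2 := by ring
        rw [this]; ring
      · rw [if_neg h, if_neg (by omega), mul_zero]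
    rw [hL, hR, key y z (fun k => ((n + 1).choose (k + 1) : MvPolynomial (Fin 2) ℤ)) n]
    have h1 : ∑ m ∈ range n, ((n + 1).choose (m + 1 + 1) : MvPolynomial (Fin 2) ℤ) * ∑ p ∈ antidiagonal m, y ^ p.1 * z ^ p.2 =
        ∑ m ∈ range n, ∑ p ∈ antidiagonal m, ((n + 1).choose (p.1 + p.2 + 2) : MvPolynomial (Fin 2) ℤ) * (y ^ p.1 * z ^ p.2) := by
      apply Finset.sum_congr rfl
      intro m _
      rw [Finset.mul_sum]
      apply Finset.sum_congr rfl
      intro p hp
      rw [Finset.HasAntidiagonal.mem_antidiagonal.1 hp]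
    rw [h1]
    ring


end Groth.Agent.S8724
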