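import Groth.Statements.S8737
import Groth.Agent.Lib.Helper9.Misc.CE2
import Groth.Agent.Lib.Helper9.Misc.CE3
import Groth.Agent.Lib.Helper7.AzQE4

set_option autoImplicit false
universe u v
open SGA7II

namespace Groth.Agent.S8737

/-- Let A be a commutative ring, V a free A-module of rank 2m with m >= 1, and Q a quadratic form on V
which is non-degenerate in the sense that its polar bilinear form induces a bijection V -> Hom_A(V,
A). Let Z be the centre of the even Clifford algebra C^+(Q), and regard C^+(Q) as a Z-algebra
through the inclusion of the centre. Then Z is an etale A-algebra which is finitely generated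
projective of rank 2 at every prime of A, and C^+(Q) is an Azumaya algebra over Z. (The published
statement allows V locally free of rank 2m; this row takes V free.) -/
theorem result (A : Type u) [CommRing A] (V : Type v) [AddCommGroup V] [Module A V]
    [Module.Free A V] [Module.Finite A V] (m : ℕ) (hm : 1 ≤ m) (hV : Module.finrank A V = 2 * m)
    (Q : QuadraticForm A V) (hQ : Function.Bijective (QuadraticMap.polarBilin Q)) :
    letI : Algebra ↥(Subalgebra.center A ↥(CliffordAlgebra.even Q)) ↥(CliffordAlgebra.even Q) :=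
      (Subalgebra.center A ↥(CliffordAlgebra.even Q)).val.toRingHom.toAlgebra'
        (fun c x => (Subalgebra.mem_center_iff.mp c.2 x).symm)
    Algebra.Etale A ↥(Subalgebra.center A ↥(CliffordAlgebra.even Q)) ∧
      Module.Finite A ↥(Subalgebra.center A ↥(CliffordAlgebra.even Q)) ∧
      Module.Projective A ↥(Subalgebra.center A ↥(CliffordAlgebra.even Q)) ∧
      (∀ p : PrimeSpectrum A, Module.rankAtStalk ↥(Subalgebra.center A ↥(CliffordAlgebra.even Q)) p = 2) ∧
      IsAzumaya ↥(Subalgebra.center A ↥(CliffordAlgebra.even Q)) ↥(CliffordAlgebra.even Q) := by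
  classical
  haveI : Nontrivial A := by
    rcases subsingleton_or_nontrivial A with h | h
    · exfalso
      have := Module.finrank_subsingleton (R := A) (M := V)
      omega
    · exact h
  have hreg : QuadGrp.IsRegular Q := hQ
  haveI : IsAzumaya A (CliffordAlgebra Q) := Groth.Agent.H9.QG.isAzumaya_clifford Q hreg m hV
  have hn : 0 < Module.finrank A V := by omega
  obtain ⟨x₁, x₂, x₃, hx⟩ := Groth.Agent.H9.CE.exists_three (Module.finBasis A V) hn Q hreg
  have hfin := Groth.Agent.H9.CE.finite_center Q x₁ x₂ x₃ hx
  have hproj := Groth.Agent.H9.CE.projective_center Q x₁ x₂ x₃ hx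
  have hunr := Groth.Agent.H9.CE.formallyUnramified_center m hm hV Q hreg
  have hrank := Groth.Agent.H9.CE.rankAtStalk_center m hm hV Q hreg
  have het : Algebra.Etale A ↥(Subalgebra.center A ↥(CliffordAlgebra.even Q)) :=
    Groth.Agent.H7.AzQE.etale_of_isQuadEtale A _ ⟨hfin, hproj, hunr, hrank⟩
  refine ⟨het, hfin, hproj, hrank, ?_⟩
  haveI := hfin
  haveI := hunr
  letI inst : Algebra ↥(Subalgebra.center A ↥(CliffordAlgebra.even Q)) ↥(CliffordAlgebra.even Q) :=
    (Subalgebra.center A ↥(CliffordAlgebra.even Q)).val.toRingHom.toAlgebra'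
      (fun c x => (Subalgebra.mem_center_iff.mp c.2 x).symm)
  exact Groth.Agent.H9.CE.isAzumaya_centralizer (R := A) (C := CliffordAlgebra Q)
    (Z := ↥(Subalgebra.center A ↥(CliffordAlgebra.even Q))) (B := ↥(CliffordAlgebra.even Q))
    ((CliffordAlgebra.even Q).val.comp (Subalgebra.center A ↥(CliffordAlgebra.even Q)).val)
    (Algebra.FormallyUnramified.elem A ↥(Subalgebra.center A ↥(CliffordAlgebra.even Q)))
    (fun z => Algebra.FormallyUnramified.one_tmul_mul_elem z)
    Algebra.FormallyUnramified.lmul_elem
    (CliffordAlgebra.even Q).val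
    (fun z => rfl)
    (fun b z => (congrArg Subtype.val (Subalgebra.mem_center_iff.mp z.2 b)).symm)
    (fun c hc => by
      have hmem : c ∈ CliffordAlgebra.evenOdd Q 0 := by
        apply Groth.Agent.H9.CE.mem_even_of_comm_isZ m hV Q hreg
        intro z hz
        exact hc ⟨⟨z, hz.1⟩, (Groth.Agent.H9.CE.mem_center_iff_isZ Q _).mpr hz⟩
      exact ⟨⟨c, hmem⟩, rfl⟩)
    Subtype.val_injective
    (fun a b h => Subtype.ext (Subtype.ext h))

end Groth.Agent.S8737
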