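import Groth.Statements.S8754
import Groth.Agent.Lib.Helper2.PshModCoind3

set_option autoImplicit false
universe u
open CategoryTheory Limits
open Adeq

namespace Groth.Agent.S8754

/-- The category of module-valued functors on `A`-algebras has enough injectives (it is a category of
presheaves of modules). -/
theorem result (A : Type u) [CommRing A] : EnoughInjectives (Adeq.MVF A) := by
  haveI : ∀ X : ((Adeq.Alg A)ᵒᵖ)ᵒᵖ, EnoughInjectives (ModuleCat.{u + 1} ((Adeq.ringOf A).obj X)) :=
    fun X => inferInstance
  exact Groth.Agent.H2.PshModCoind.enoughInjectives_presheafOfModules.{u + 1, u, u + 1, u}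
    (Adeq.ringOf A)

end Groth.Agent.S8754
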