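import Groth.Statements.S8757
import Groth.Agent.Lib.Helper2.Adeq2Main
import Groth.Agent.Lib.Helper2.Adeq2Pull

set_option autoImplicit false
universe u
open CategoryTheory Limits AlgebraicGeometry
open Adeq

namespace Groth.Agent.S8757

/-- The pullback `f^* M` of an adequate `O`-module `M` on the big fppf site of `S` along a morphism of
schemes `f : T → S` is an adequate `O`-module on the big fppf site of `T`. -/
theorem result {S T : Scheme.{u}} (f : T ⟶ S) (M : BigSite.Mod Scheme.fppfPrecoverage S)
    (hM : Adeq.adequateMod Scheme.fppfPrecoverage S M) :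
    Adeq.adequateMod Scheme.fppfPrecoverage T ((BigSite.pullMod Scheme.fppfPrecoverage f).obj M) := by
  refine ⟨T.affineOpenCover.I₀, T.affineOpenCover.X, T.affineOpenCover.f, ?_, fun j => ?_⟩
  · show Presieve.ofArrows _ _ ∈ Scheme.precoverage (@Flat ⊓ @LocallyOfFinitePresentation) T
    rw [Scheme.ofArrows_mem_precoverage_iff]
    exact ⟨fun x => ⟨T.affineOpenCover.idx x, T.affineOpenCover.covers x⟩,
      fun j => ⟨inferInstance, inferInstance⟩⟩
  · exact (Adeq.adequate _).prop_of_iso
      (Groth.Agent.H2.Adeq2Pull.pullIso f (T.affineOpenCover.f j) Scheme.fppfPrecoverage M).symm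
      (Groth.Agent.H2.Adeq2Main.adequate_of_adequateMod Scheme.fppfPrecoverage
        Groth.Agent.H2.Adeq2Ref.refines_fppf S M hM _ (T.affineOpenCover.f j ≫ f))

end Groth.Agent.S8757
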