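import Groth.Statements.S8761
import Groth.Agent.Lib.Helper2.Adeq2Main
import Groth.Agent.Lib.Helper2.Adeq2Ker

set_option autoImplicit false
universe u
open CategoryTheory Limits AlgebraicGeometry
open Adeq

namespace Groth.Agent.S8761

/-- The kernel, in the category of all `O`-modules on the big fppf site of `S`, of a morphism between
adequate `O`-modules is adequate. -/
theorem result (S : Scheme.{u}) {M N : BigSite.Mod Scheme.fppfPrecoverage S} (φ : M ⟶ N)
    (hM : Adeq.adequateMod Scheme.fppfPrecoverage S M) (hN : Adeq.adequateMod Scheme.fppfPrecoverage S N) :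
    Adeq.adequateMod Scheme.fppfPrecoverage S (kernel φ) := by
  obtain ⟨ι, R, a, hcov, hadq⟩ := hM
  refine ⟨ι, R, a, hcov, fun i => ?_⟩
  exact Groth.Agent.H2.Adeq2Ker.adequate_toMVF_kernel Scheme.fppfPrecoverage (a i) φ (hadq i)
    (Groth.Agent.H2.Adeq2Main.adequate_of_adequateMod Scheme.fppfPrecoverage
      Groth.Agent.H2.Adeq2Ref.refines_fppf S N hN (R i) (a i))

end Groth.Agent.S8761
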