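import Groth.Statements.S8782
import Groth.Agent.Lib.Helper2.AdeqTan

set_option autoImplicit false
universe u
open CategoryTheory Limits
open AdeqTF

namespace Groth.Agent.S8782

/-- If `0 → F → G → H → 0` is a short exact sequence of module-valued functors on `A`-algebras and `F`,
`H` have right exact tangent functors (for every `A`-algebra `B` and short exact `0 → N₁ → N → N₂ →
0` of `B`-modules, `T(B, N₁) → T(B, N) → T(B, N₂) → 0` is exact), so does `G`. -/
theorem result (A : Type u) [CommRing A] (C : ShortComplex (Adeq.MVF A))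
    (hC : C.ShortExact)
    (h₁ : (∀ (B : Adeq.Alg A) (S : ShortComplex (ModuleCat.{u} B)), S.ShortExact →
        Function.Surjective (AdeqTF.tangentMap B C.X₁ S.g) ∧
          (AdeqTF.tangentMap B C.X₁ S.g).ker = (AdeqTF.tangentMap B C.X₁ S.f).range))
    (h₃ : (∀ (B : Adeq.Alg A) (S : ShortComplex (ModuleCat.{u} B)), S.ShortExact →
        Function.Surjective (AdeqTF.tangentMap B C.X₃ S.g) ∧
          (AdeqTF.tangentMap B C.X₃ S.g).ker = (AdeqTF.tangentMap B C.X₃ S.f).range)) :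
    (∀ (B : Adeq.Alg A) (S : ShortComplex (ModuleCat.{u} B)), S.ShortExact →
        Function.Surjective (AdeqTF.tangentMap B C.X₂ S.g) ∧
          (AdeqTF.tangentMap B C.X₂ S.g).ker = (AdeqTF.tangentMap B C.X₂ S.f).range) := by
  intro B S hS
  have hpt := Groth.Agent.H2.AdeqFive.shortExact_pointwise C hC
  obtain ⟨hFs, hFk⟩ := h₁ B S hS
  obtain ⟨hHs, hHk⟩ := h₃ B S hS
  exact Groth.Agent.H2.AdeqTan.nine_mid
    (AdeqTF.tangentMap B C.X₁ S.f) (AdeqTF.tangentMap B C.X₁ S.g)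
    (AdeqTF.tangentMap B C.X₂ S.f) (AdeqTF.tangentMap B C.X₂ S.g)
    (AdeqTF.tangentMap B C.X₃ S.f) (AdeqTF.tangentMap B C.X₃ S.g)
    (Groth.Agent.H2.AdeqTan.tanHom S.X₁ C.f) (Groth.Agent.H2.AdeqTan.tanHom S.X₂ C.f)
    (Groth.Agent.H2.AdeqTan.tanHom S.X₃ C.f)
    (Groth.Agent.H2.AdeqTan.tanHom S.X₁ C.g) (Groth.Agent.H2.AdeqTan.tanHom S.X₂ C.g)
    (Groth.Agent.H2.AdeqTan.tanHom S.X₃ C.g)
    (fun x => Groth.Agent.H2.AdeqTan.tanHom_tangentMap S.f C.f x)
    (fun x => Groth.Agent.H2.AdeqTan.tanHom_tangentMap S.g C.f x)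
    (fun x => Groth.Agent.H2.AdeqTan.tanHom_tangentMap S.f C.g x)
    (fun x => Groth.Agent.H2.AdeqTan.tanHom_tangentMap S.g C.g x)
    (Groth.Agent.H2.AdeqTan.tanHom_surjective S.X₁ C.g (fun X => (hpt X).2.1))
    (Groth.Agent.H2.AdeqTan.tanHom_surjective S.X₂ C.g (fun X => (hpt X).2.1))
    (Groth.Agent.H2.AdeqTan.tanHom_injective S.X₃ C.f (fun X => (hpt X).1))
    (fun y hy => Groth.Agent.H2.AdeqTan.tanHom_exact S.X₂ C.f C.g (fun X => (hpt X).1)
      (fun X => (hpt X).2.2) y hy)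
    (fun y hy => Groth.Agent.H2.AdeqTan.tanHom_exact S.X₃ C.f C.g (fun X => (hpt X).1)
      (fun X => (hpt X).2.2) y hy)
    (fun x => Groth.Agent.H2.AdeqTan.tangentMap_comp_zero C.X₂ S.f S.g S.zero x)
    hFs hFk hHs hHk

end Groth.Agent.S8782
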