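import Groth.Statements.S8800
import Mathlib

set_option autoImplicit false
universe u v
open AdicRing

namespace Groth.Agent.S8800


lemma complLift {C : Type*} {B : Type*} [CommRing C] [CommRing B] (𝔠 : Ideal C) (𝔞 : Ideal B)
    [IsAdicComplete 𝔞 B] (φ : C →+* B) (h : 𝔠.map φ ≤ 𝔞) :
    ∃ ψ : AdicCompletion 𝔠 C →+* B, ∀ c, ψ (AdicCompletion.of 𝔠 C c) = φ c := by
  have hle : ∀ n, 𝔠 ^ n ≤ (𝔞 ^ n).comap φ := by
    intro n
    rw [← Ideal.map_le_iff_le_comap, Ideal.map_pow]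
    exact Ideal.pow_right_mono h n
  let f : ∀ n, AdicCompletion 𝔠 C →+* B ⧸ 𝔞 ^ n := fun n =>
    (Ideal.quotientMap (𝔞 ^ n) φ (hle n)).comp (AdicCompletion.evalₐ 𝔠 n).toRingHom
  have hf : ∀ {m n : ℕ} (hle : m ≤ n), (Ideal.Quotient.factorPow 𝔞 hle).comp (f n) = f m := by
    intro m n hmn
    ext x
    obtain ⟨x, rfl⟩ := AdicCompletion.mk_surjective 𝔠 C x
    simp only [f, RingHom.comp_apply, AlgHom.toRingHom_eq_coe, RingHom.coe_coe,
      AdicCompletion.evalₐ_mk, Ideal.quotientMap_mk, Ideal.Quotient.factor_mk]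
    rw [← Ideal.quotientMap_mk (f := φ) (H := hle m), ← Ideal.quotientMap_mk (f := φ) (H := hle m)]
    exact congrArg _ (AdicCompletion.Ideal.mk_eq_mk 𝔠 hmn x)
  refine ⟨IsAdicComplete.liftRingHom 𝔞 f hf, fun c => ?_⟩
  rw [IsHausdorff.eq_iff_smodEq (I := 𝔞)]
  intro n
  rw [SModEq.sub_mem, smul_eq_mul, Ideal.mul_top, ← Ideal.Quotient.eq]
  rw [IsAdicComplete.mk_liftRingHom]
  simp [f]

/-- Let A be a Noetherian ring and I an ideal of A. Let B be an A-algebra which is complete for the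
IB-adic topology and such that B/IB is an A-algebra of finite type. Then B is a Noetherian ring. -/
theorem result (A : Type u) [CommRing A] [IsNoetherianRing A] (I : Ideal A) (B : Type v) [CommRing B] [Algebra A B] [IsAdicComplete (I.map (algebraMap A B)) B] (hB : Algebra.FiniteType A (B ⧸ I.map (algebraMap A B))) : IsNoetherianRing B := by
  classical
  set 𝔞 := I.map (algebraMap A B) with h𝔞
  obtain ⟨s, hs⟩ := (isNoetherianRing_iff_ideal_fg A).mp inferInstance I
  obtain ⟨m, f, hf⟩ := Algebra.FiniteType.iff_quotient_mvPolynomial''.mp hB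
  choose b hb using fun j => Ideal.Quotient.mk_surjective (f (MvPolynomial.X j))
  let R' := MvPolynomial (Fin m) A
  let φ0 : R' →ₐ[A] B := MvPolynomial.aeval b
  have hφ0 : ∀ p, Ideal.Quotient.mk 𝔞 (φ0 p) = f p := by
    intro p
    have : (Ideal.Quotient.mkₐ A 𝔞).comp φ0 = f := by
      apply MvPolynomial.algHom_ext
      intro j
      simp [φ0, hb]
    exact AlgHom.congr_fun this p
  let C' := MvPolynomial s R'
  let φ : C' →+* B := MvPolynomial.eval₂Hom φ0.toRingHom (fun i => algebraMap A B i.1)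
  let 𝔠 : Ideal C' := MvPolynomial.idealOfVars s R'
  have h𝔠 : 𝔠.map φ = 𝔞 := by
    simp only [𝔠, MvPolynomial.idealOfVars, Ideal.map_span, ← Set.range_comp]
    rw [h𝔞, ← hs, Ideal.map_span]
    congr 1
    ext y
    have hX : ∀ i : s, φ (MvPolynomial.X i) = algebraMap A B i.1 :=
      fun i => MvPolynomial.eval₂Hom_X' _ _ _
    simp only [Set.mem_range, Function.comp_apply, Set.mem_image, Finset.mem_coe, Subtype.exists]
    constructor
    · rintro ⟨a, ha, rfl⟩
      exact ⟨a, ha, (hX ⟨a, ha⟩).symm⟩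
    · rintro ⟨a, ha, rfl⟩
      exact ⟨a, ha, hX ⟨a, ha⟩⟩
  obtain ⟨ψ, hψ⟩ := complLift 𝔠 𝔞 φ h𝔠.le
  haveI : IsNoetherianRing (AdicCompletion 𝔠 C') :=
    isNoetherianRing_of_ringEquiv _ (MvPowerSeries.toAdicCompletionAlgEquiv s R').toRingEquiv
  let J : Ideal (AdicCompletion 𝔠 C') := 𝔠.map (algebraMap C' (AdicCompletion 𝔠 C'))
  haveI : IsAdicComplete J (AdicCompletion 𝔠 C') := by
    rw [IsAdicComplete.map_algebraMap_iff]
    exact AdicCompletion.isAdicComplete (MvPolynomial.idealOfVars_fg s R')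
  have hJ : J.map ψ = 𝔞 := by
    have : ψ.comp (algebraMap C' (AdicCompletion 𝔠 C')) = φ := RingHom.ext fun c => hψ c
    rw [Ideal.map_map, this, h𝔠]
  have hsurj : Function.Surjective ψ := by
    haveI : IsHausdorff (J.map ψ) B := by rw [hJ]; infer_instance
    apply surjective_of_mk_map_comp_surjective (I := J) ψ
    intro y
    obtain ⟨y, rfl⟩ := Ideal.Quotient.mk_surjective y
    obtain ⟨p, hp⟩ := hf (Ideal.Quotient.mk 𝔞 y)
    refine ⟨AdicCompletion.of 𝔠 C' (MvPolynomial.C p), ?_⟩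
    simp only [RingHom.comp_apply, hψ]
    have h1 : φ (MvPolynomial.C p) = φ0 p := MvPolynomial.eval₂Hom_C _ _ _
    rw [Ideal.Quotient.eq, hJ, ← Ideal.Quotient.eq, h1, hφ0, hp]
  exact isNoetherianRing_of_surjective _ _ ψ hsurj


end Groth.Agent.S8800
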