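import Groth.Statements.S8815
import Groth.Agent.H4.AlgzLib3

set_option autoImplicit false
universe u
open CategoryTheory AlgebraicGeometry
open Algz

namespace Groth.Agent.S8815


open Groth.Agent.H4.AlgzLib

variable (A : Type u) [CommRing A] [IsNoetherianRing A] [IsLocalRing A]

/-- the dimension function `p ↦ dim A/p` -/
noncomputable def dfun : (Spec (CommRingCat.of A)) → ℤ := fun y =>
  ((Order.coheight (α := PrimeSpectrum A) y).toNat : ℤ)

theorem spec_le_iff (x y : PrimeSpectrum A) :
    @Specializes (Spec (CommRingCat.of A)) _ x y ↔ x ≤ y :=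
  (PrimeSpectrum.le_iff_specializes x y).symm

theorem coheight_coe (y : PrimeSpectrum A) :
    ((Order.coheight y).toNat : ℕ∞) = Order.coheight y :=
  ENat.natCast_toNat (coheight_ne_top A y)

theorem isDimFun (hA : CAlg.IsCatenary A) : Cyc.IsDimFun (Spec (CommRingCat.of A)) (dfun A) := by
  intro x y hxy hne
  have hle : @LE.le (PrimeSpectrum A) _ x y := (spec_le_iff A x y).mp hxy
  have hlt : @LT.lt (PrimeSpectrum A) _ x y := lt_of_le_of_ne hle hne
  constructor
  · have h1 := Order.coheight_add_one_le hlt
    rw [← coheight_coe A x, ← coheight_coe A y] at h1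
    have h2 : (Order.coheight (α := PrimeSpectrum A) y).toNat + 1 ≤
        (Order.coheight (α := PrimeSpectrum A) x).toNat := by exact_mod_cast h1
    unfold dfun
    exact_mod_cast h2
  · intro himm
    have hcov : @CovBy (PrimeSpectrum A) _ x y := by
      refine ⟨hlt, fun c hc1 hc2 => ?_⟩
      rcases himm c ((spec_le_iff A x c).mpr hc1.le) ((spec_le_iff A c y).mpr hc2.le) with h | h
      · exact hc1.ne' h
      · exact hc2.ne h
    have h1 := coheight_eq_of_covBy A hA hcov
    rw [← coheight_coe A x, ← coheight_coe A y] at h1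
    have h2 : (Order.coheight (α := PrimeSpectrum A) x).toNat =
        (Order.coheight (α := PrimeSpectrum A) y).toNat + 1 := by exact_mod_cast h1
    unfold dfun
    exact_mod_cast h2

theorem codimPt_le_coheight (y : Spec (CommRingCat.of A))
    (h : y ⤳ (IsLocalRing.closedPoint A : Spec (CommRingCat.of A))) :
    codimPt y (IsLocalRing.closedPoint A : Spec (CommRingCat.of A)) h ≤
      Order.coheight (α := PrimeSpectrum A) y := by
  unfold codimPt
  let F : Set.Ici (Specialization.toEquiv (IsLocalRing.closedPoint A : Spec (CommRingCat.of A))) →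
      (PrimeSpectrum A)ᵒᵈ := fun x => OrderDual.toDual (Specialization.ofEquiv x.1 : PrimeSpectrum A)
  have hF : StrictMono F := by
    intro a b hab
    have h1 : @Specializes (Spec (CommRingCat.of A)) _ (Specialization.ofEquiv b.1)
        (Specialization.ofEquiv a.1) := hab.le
    have h2 : ¬ @Specializes (Spec (CommRingCat.of A)) _ (Specialization.ofEquiv a.1)
        (Specialization.ofEquiv b.1) := fun h' => hab.not_ge h'
    rw [spec_le_iff] at h1 h2
    exact lt_of_le_not_ge h1 h2
  exact Order.height_le_height_apply_of_strictMono F hF _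

theorem aux (hA : CAlg.IsCatenary A) (y : Spec (CommRingCat.of A)) (Z : Set (Spec (CommRingCat.of A)))
    (hmem : ∀ z, z ∈ Z ↔ z = (IsLocalRing.closedPoint A : Spec (CommRingCat.of A)))
    (hclosed : IsClosed Z) :
    ((Algz.deltaZ Z y : ℕ∞) : WithBot ℕ∞) = ringKrullDim (A ⧸ y.asIdeal) := by
  rw [ringKrullDim_quotient_eq_coheight]
  have hspec : y ⤳ (IsLocalRing.closedPoint A : Spec (CommRingCat.of A)) :=
    IsLocalRing.specializes_closedPoint (y : PrimeSpectrum A)
  have hle : deltaZ Z y ≤ Order.coheight (α := PrimeSpectrum A) y :=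
    (Groth.Agent.S8813.deltaZ_le_codimPt Z y _ hspec ((hmem _).mpr rfl)).trans
      (codimPt_le_coheight A y hspec)
  have hfin : deltaZ Z y ≠ ⊤ :=
    fun htop => coheight_ne_top A y (top_le_iff.mp (htop ▸ hle))
  obtain ⟨n, hn⟩ := ENat.ne_top_iff_exists.mp hfin
  obtain ⟨z, hz, hzle⟩ := Groth.Agent.S8814.result (Spec (CommRingCat.of A)) Z hclosed (dfun A)
    (isDimFun A hA) y n hn.symm
  rw [hmem] at hz
  have hm : dfun A z = 0 := by
    rw [hz]
    unfold dfun
    have : Order.coheight (IsLocalRing.closedPoint A) = 0 := by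
      rw [Order.coheight_eq_zero]
      intro b hb
      exact (PrimeSpectrum.asIdeal_le_asIdeal _ _).mp (IsLocalRing.le_maximalIdeal b.2.ne_top)
    rw [this]; rfl
  rw [hm, add_zero] at hzle
  have hge : Order.coheight (α := PrimeSpectrum A) y ≤ n := by
    rw [← coheight_coe A y]
    unfold dfun at hzle
    exact_mod_cast hzle
  rw [← hn] at hle ⊢
  exact congrArg _ (le_antisymm hle hge)

/-- Let A be a catenary Noetherian local ring, Y = Spec A and Z the closed point. Then δ_Z(y) equals the
dimension of the closure of y, i.e. dim(A/p_y), for every point y. -/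
theorem result (A : Type u) [CommRing A] [IsNoetherianRing A] [IsLocalRing A] (hA : CAlg.IsCatenary A) (y : Spec (CommRingCat.of A)) : ((Algz.deltaZ ({IsLocalRing.closedPoint A} : Set (Spec (CommRingCat.of A))) y : ℕ∞) : WithBot ℕ∞) = ringKrullDim (A ⧸ y.asIdeal) := by
  refine aux A hA y _ (fun z => Iff.rfl) ?_
  exact (PrimeSpectrum.isClosed_singleton_iff_isMaximal _).mpr
      (inferInstanceAs (IsLocalRing.maximalIdeal A).IsMaximal)


end Groth.Agent.S8815
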