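import Groth.Statements.S8822
import Mathlib
import Groth.Agent.S8800

set_option autoImplicit false
universe u v
open AdicRing

namespace Groth.Agent.S8822


lemma isPrecomplete_of_surjective {R : Type*} [CommRing R] (I : Ideal R) {M N : Type*}
    [AddCommGroup M] [Module R M] [AddCommGroup N] [Module R N] [IsPrecomplete I M]
    (g : M →ₗ[R] N) (hg : Function.Surjective g) : IsPrecomplete I N := by
  rw [← AdicCompletion.of_surjective_iff]
  intro y
  obtain ⟨x, rfl⟩ := AdicCompletion.map_surjective I hg y
  obtain ⟨m, rfl⟩ := AdicCompletion.of_surjective I M x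
  exact ⟨g m, (AdicCompletion.map_of I g m).symm⟩

/-- Let A be a Noetherian ring and I an ideal. Let B be an A-algebra which is complete for the IB-adic
topology and such that B/IB is of finite type over A, and let J be an ideal of B. Then B/J is
complete for the I(B/J)-adic topology (so B/J is again an object of the same category, the finite
type condition on (B/J)/I(B/J) being immediate). -/
theorem result (A : Type u) [CommRing A] [IsNoetherianRing A] (I : Ideal A) (B : Type v) [CommRing B] [Algebra A B] [IsAdicComplete (I.map (algebraMap A B)) B] (hB : Algebra.FiniteType A (B ⧸ I.map (algebraMap A B))) (J : Ideal B) : IsAdicComplete (I.map (algebraMap A (B ⧸ J))) (B ⧸ J) := by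
  haveI : IsNoetherianRing B := Groth.Agent.S8800.result A I B hB
  have h1 : I.map (algebraMap A (B ⧸ J)) =
      (I.map (algebraMap A B)).map (algebraMap B (B ⧸ J)) := by
    rw [Ideal.map_map]
    rfl
  rw [h1, IsAdicComplete.map_algebraMap_iff]
  haveI : IsHausdorff (I.map (algebraMap A B)) (B ⧸ J) :=
    IsHausdorff.of_le_jacobson _ _ (IsAdicComplete.le_jacobson_bot _)
  haveI : IsPrecomplete (I.map (algebraMap A B)) (B ⧸ J) :=
    isPrecomplete_of_surjective _ (Submodule.mkQ J) (Submodule.mkQ_surjective J)
  exact ⟨⟩


end Groth.Agent.S8822
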