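import Groth.Statements.S8823
import Groth.Agent.Lib.Helper5.Pop.PairApprox

set_option autoImplicit false
universe u
open AdicRing

namespace Groth.Agent.S8823



/-- Let A be a Noetherian G-ring and I an ideal of A. Let B and C be A-algebras of finite type, φ an
A-algebra map from the IB-adic completion of B to the IC-adic completion of C, and N ≥ 1. Then one
can find an etale C-algebra C' for which the induced map C/IC → C'/IC' is a bijection, together with
a homomorphism of A-algebras ψ : B → C' that approximates φ to order N: given any b ∈ B, some c ∈ C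
satisfies ψ(b) − c ∈ I^N C', while the image of φ(b) in C/I^N C (the N-th truncation of the
completion) coincides with the class of c. -/
theorem result (A : Type u) [CommRing A] (hA : CAlg.IsGRing A) (I : Ideal A) (B C : Type u) [CommRing B] [Algebra A B] [Algebra.FiniteType A B] [CommRing C] [Algebra A C] [Algebra.FiniteType A C] (φ : (AdicCompletion (I.map (algebraMap A B)) B) →ₐ[A] (AdicCompletion (I.map (algebraMap A C)) C)) (N : ℕ) (hN : 1 ≤ N) : ∃ (C' : Type u) (_ : CommRing C') (_ : Algebra C C') (_ : Algebra A C') (_ : IsScalarTower A C C') (_ : Algebra.Etale C C') (ψ : B →ₐ[A] C'), ((∀ c' : C', ∃ c : C, algebraMap C C' c - c' ∈ I.map (algebraMap A C')) ∧ ∀ c : C, algebraMap C C' c ∈ I.map (algebraMap A C') → c ∈ I.map (algebraMap A C)) ∧ ∀ b : B, ∃ c : C, ψ b - algebraMap C C' c ∈ (I.map (algebraMap A C')) ^ N ∧ AdicCompletion.eval (I.map (algebraMap A C)) C N (φ (AdicCompletion.of (I.map (algebraMap A B)) B b)) = Submodule.Quotient.mk c := by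
  classical
  haveI : IsScalarTower A B (AdicCompletion (I.map (algebraMap A B)) B) :=
    IsScalarTower.of_algebraMap_eq fun _ => rfl
  obtain ⟨C', _, _, hEt, hiso, ψ, hψ, hmain⟩ := Groth.Agent.H5.Pop.approx_pair_etale A hA I B C
    (φ.comp (IsScalarTower.toAlgHom A B (AdicCompletion (I.map (algebraMap A B)) B))) N
  letI : Algebra A C' := ((algebraMap C C').comp (algebraMap A C)).toAlgebra
  haveI : IsScalarTower A C C' := IsScalarTower.of_algebraMap_eq fun _ => rfl
  have hIC' : I.map (algebraMap A C') = (I.map (algebraMap A C)).map (algebraMap C C') := by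
    rw [Ideal.map_map]
    rfl
  have hsurj : ∀ c' : C', ∃ c : C, c' - algebraMap C C' c ∈
      (I.map (algebraMap A C)).map (algebraMap C C') := by
    intro c'
    obtain ⟨x, hx⟩ := hiso.2 (Ideal.Quotient.mk _ c')
    obtain ⟨c, rfl⟩ := Ideal.Quotient.mk_surjective x
    rw [Ideal.quotientMap_mk, Ideal.Quotient.eq] at hx
    refine ⟨c, ?_⟩
    have := Ideal.neg_mem_iff _ |>.mpr hx
    rwa [neg_sub] at this
  refine ⟨C', inferInstance, inferInstance, inferInstance, inferInstance, hEt,
    { ψ with commutes' := hψ }, ⟨fun c' => ?_, fun c hc => ?_⟩, fun b => ?_⟩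
  · obtain ⟨c, hc⟩ := hsurj c'
    refine ⟨c, ?_⟩
    rw [hIC']
    have := Ideal.neg_mem_iff _ |>.mpr hc
    rwa [neg_sub] at this
  · rw [hIC'] at hc
    have h1 : Ideal.quotientMap ((I.map (algebraMap A C)).map (algebraMap C C')) (algebraMap C C')
        Ideal.le_comap_map (Ideal.Quotient.mk _ c) = Ideal.quotientMap _ (algebraMap C C')
        Ideal.le_comap_map (Ideal.Quotient.mk _ 0) := by
      rw [Ideal.quotientMap_mk, Ideal.quotientMap_mk, map_zero, map_zero]
      exact Ideal.Quotient.eq_zero_iff_mem.mpr hc
    have h2 := hiso.1 h1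
    rw [map_zero] at h2
    exact Ideal.Quotient.eq_zero_iff_mem.mp h2
  · obtain ⟨c, hc⟩ := Groth.Agent.H8.PairHens.exists_sub_mem_pow hsurj N (ψ b)
    rw [Ideal.map_pow] at hc
    refine ⟨c, ?_, ?_⟩
    · rw [hIC']
      exact hc
    · have h3 := hmain b c hc
      have hh : ((I.map (algebraMap A C)) ^ N • ⊤ : Ideal C) = (I.map (algebraMap A C)) ^ N := by
        ext x; simp
      have h4 : Ideal.quotientEquivAlgOfEq C hh
          (AdicCompletion.eval (I.map (algebraMap A C)) C N
            (φ (AdicCompletion.of (I.map (algebraMap A B)) B b))) =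
          Ideal.quotientEquivAlgOfEq C hh (Submodule.Quotient.mk c) := h3
      exact (Ideal.quotientEquivAlgOfEq C hh).injective h4

end Groth.Agent.S8823
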