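import Groth.Statements.S8834
import Mathlib

set_option autoImplicit false
universe u
open AdicRing

namespace Groth.Agent.S8834

/-- Let A be a Noetherian ring complete for the adic topology of an ideal I and B a Noetherian ring
complete for the adic topology of an ideal J, with an algebra map A → B sending I into the radical
of J (a continuous homomorphism of adic Noetherian topological rings; the radicals of I and J are
the ideals of topologically nilpotent elements). Assume B/√J is of finite type over A, equivalently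
over A/√I. Then B is topologically of finite type over A: there are b_1, …, b_s ∈ B such that the
A-algebra map A[x_1, …, x_s] → B with x_i ↦ b_i has dense image for the J-adic topology, that is,
for every y ∈ B and every n there is a polynomial whose value at b differs from y by an element of
J^n. -/
theorem result (A : Type u) [CommRing A] [IsNoetherianRing A] (I : Ideal A) [IsAdicComplete I A] (B : Type u) [CommRing B] [Algebra A B] [IsNoetherianRing B] (J : Ideal B) [IsAdicComplete J B] (hIJ : I.map (algebraMap A B) ≤ J.radical) (hft : Algebra.FiniteType A (B ⧸ J.radical)) : ∃ s : ℕ, ∃ b : Fin s → B, ∀ (y : B) (n : ℕ), ∃ p : MvPolynomial (Fin s) A, y - MvPolynomial.aeval b p ∈ J ^ n := by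
  classical
  set R := J.radical with hR
  have hRfg : R.FG := (isNoetherianRing_iff_ideal_fg B).mp inferInstance R
  obtain ⟨k, g, hg⟩ := (Submodule.fg_iff_exists_fin_generating_family).mp hRfg
  obtain ⟨m, f, hf⟩ := Algebra.FiniteType.iff_quotient_mvPolynomial''.mp hft
  choose b1 hb1 using fun j => Ideal.Quotient.mk_surjective (f (MvPolynomial.X j))
  let b : Fin (m + k) → B := Fin.append b1 g
  refine ⟨m + k, b, ?_⟩
  let S : Subalgebra A B := (MvPolynomial.aeval b : MvPolynomial (Fin (m + k)) A →ₐ[A] B).range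
  have hb1S : ∀ j, b1 j ∈ S := fun j =>
    ⟨MvPolynomial.X (Fin.castAdd k j), by simp [b]⟩
  have hgS : ∀ i, g i ∈ S := fun i =>
    ⟨MvPolynomial.X (Fin.natAdd m i), by simp [b]⟩
  have hgR : ∀ i, g i ∈ R := fun i => by
    rw [← hg]; exact Submodule.subset_span ⟨i, rfl⟩
  -- (a)
  have ha : ∀ y : B, ∃ s ∈ S, y - s ∈ R := by
    intro y
    obtain ⟨p, hp⟩ := hf (Ideal.Quotient.mk R y)
    refine ⟨MvPolynomial.aeval b1 p, ?_, ?_⟩
    · have : (MvPolynomial.aeval b1 : MvPolynomial (Fin m) A →ₐ[A] B).range ≤ S := by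
        rw [← Algebra.adjoin_range_eq_range_aeval]
        apply Algebra.adjoin_le
        rintro _ ⟨j, rfl⟩
        exact hb1S j
      exact this ⟨p, rfl⟩
    · rw [← Ideal.Quotient.eq, ← hp]
      have : (Ideal.Quotient.mkₐ A R).comp (MvPolynomial.aeval b1) = f := by
        apply MvPolynomial.algHom_ext
        intro j
        simp [hb1]
      exact (AlgHom.congr_fun this p).symm
  -- (c)
  have hc : ∀ v ∈ R, ∃ s ∈ S, s ∈ R ∧ v - s ∈ R ^ 2 := by
    intro v hv
    rw [← hg] at hv
    induction hv using Submodule.span_induction with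
    | mem x hx =>
      obtain ⟨i, rfl⟩ := hx
      exact ⟨g i, hgS i, hgR i, by simp⟩
    | zero => exact ⟨0, S.zero_mem, R.zero_mem, by simp⟩
    | add x y _ _ hx hy =>
      obtain ⟨s1, h1, h1', h1''⟩ := hx
      obtain ⟨s2, h2, h2', h2''⟩ := hy
      refine ⟨s1 + s2, S.add_mem h1 h2, R.add_mem h1' h2', ?_⟩
      have : x + y - (s1 + s2) = (x - s1) + (y - s2) := by ring
      rw [this]
      exact (R ^ 2).add_mem h1'' h2''
    | smul c x hxm hx =>
      obtain ⟨s1, h1, h1', h1''⟩ := hx
      obtain ⟨sc, hsc, hsc'⟩ := ha c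
      have hxR : x ∈ R := by rw [← hg]; exact hxm
      refine ⟨sc * s1, S.mul_mem hsc h1, R.mul_mem_left _ h1', ?_⟩
      have : c • x - sc * s1 = sc * (x - s1) + (c - sc) * x := by
        rw [smul_eq_mul]; ring
      rw [this]
      refine (R ^ 2).add_mem ((R ^ 2).mul_mem_left _ h1'') ?_
      rw [pow_two]
      exact Ideal.mul_mem_mul hsc' hxR
  -- (b)
  have hbk : ∀ (k : ℕ) (z : B), z ∈ R ^ k → ∃ s ∈ S, s ∈ R ^ k ∧ z - s ∈ R ^ (k + 1) := by
    intro k
    induction k with
    | zero =>
      intro z _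
      obtain ⟨s, hs, hs'⟩ := ha z
      exact ⟨s, hs, by simp, by simpa using hs'⟩
    | succ k ih =>
      intro z hz
      rw [pow_succ] at hz
      refine Submodule.mul_induction_on hz ?_ ?_
      · intro u hu v hv
        obtain ⟨su, hsu, hsu', hsu''⟩ := ih u hu
        obtain ⟨sv, hsv, hsv', hsv''⟩ := hc v hv
        refine ⟨su * sv, S.mul_mem hsu hsv, ?_, ?_⟩
        · rw [pow_succ]; exact Ideal.mul_mem_mul hsu' hsv'
        · have : u * v - su * sv = (u - su) * v + su * (v - sv) := by ring
          rw [this]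
          refine (R ^ (k + 1 + 1)).add_mem ?_ ?_
          · rw [pow_succ R (k + 1)]; exact Ideal.mul_mem_mul hsu'' hv
          · have : R ^ (k + 1 + 1) = R ^ k * R ^ 2 := by rw [← pow_add]
            rw [this]; exact Ideal.mul_mem_mul hsu' hsv''
      · rintro x y ⟨s1, h1, h1', h1''⟩ ⟨s2, h2, h2', h2''⟩
        refine ⟨s1 + s2, S.add_mem h1 h2, (R ^ (k + 1)).add_mem h1' h2', ?_⟩
        have : x + y - (s1 + s2) = (x - s1) + (y - s2) := by ring
        rw [this]
        exact (R ^ (k + 1 + 1)).add_mem h1'' h2''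
  -- (d)
  have hd : ∀ (n : ℕ) (y : B), ∃ s ∈ S, y - s ∈ R ^ n := by
    intro n
    induction n with
    | zero => intro y; exact ⟨0, S.zero_mem, by simp⟩
    | succ n ih =>
      intro y
      obtain ⟨s, hs, hs'⟩ := ih y
      obtain ⟨s', hs1, _, hs3⟩ := hbk n (y - s) hs'
      refine ⟨s + s', S.add_mem hs hs1, ?_⟩
      have : y - (s + s') = y - s - s' := by ring
      rw [this]; exact hs3
  obtain ⟨N, hN⟩ := Ideal.exists_radical_pow_le_of_fg J hRfg
  intro y n
  obtain ⟨s, ⟨p, rfl⟩, hs'⟩ := hd (N * n) y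
  refine ⟨p, ?_⟩
  have : R ^ (N * n) ≤ J ^ n := by
    rw [pow_mul]
    exact Ideal.pow_right_mono hN n
  exact this hs'


end Groth.Agent.S8834
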