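import Groth.Statements.S8844
import Groth.Agent.Lib.Helper8.Rig.Descent
-- import your own Groth.Agent.* helpers here

set_option autoImplicit false
universe u
open AdicRing

namespace Groth.Agent.S8844

/-- Consider a commutative square of adic Noetherian topological rings with all maps adic and
topologically of finite type: A a Noetherian ring complete for the adic topology of an ideal I; B,
A' and B' Noetherian algebras complete for the IB-, IA'- and IB'-adic topologies, B' an algebra over
B and over A' compatibly with A, with B/IB and A'/IA' of finite type over A and B'/IB' of finite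
type over B and over A'. Assume A → A' is flat and B → B' is faithfully flat. If A' → B' is rig-flat
— for every f' ∈ A', every ring map A'_{f'} → B'_{f'} of completed principal localizations
compatible with the map of ordinary localizations A'[1/f'] → B'[1/f'] (there is exactly one), and
every rig-closed prime q of B'_{f'} (I B'_{f'} ⊄ q and q maximal among the primes not containing I
B'_{f'}), the local ring (B'_{f'})_q is flat over A'_{f'} — then A → B is rig-flat in the same form:
for every f ∈ A, every ring map A_{f} → B_{f} of completed principal localizations compatible with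
the map of ordinary localizations A[1/f] → B[1/f], and every rig-closed prime q of B_{f}, the local
ring (B_{f})_q is flat over A_{f}. -/
theorem result (A : Type u) [CommRing A] [IsNoetherianRing A] (I : Ideal A) [IsAdicComplete I A] (B : Type u) [CommRing B] [Algebra A B] [IsNoetherianRing B] [IsAdicComplete (I.map (algebraMap A B)) B] (hftB : Algebra.FiniteType A (B ⧸ (I.map (algebraMap A B)))) (A' : Type u) [CommRing A'] [Algebra A A'] [IsNoetherianRing A'] [IsAdicComplete (I.map (algebraMap A A')) A'] (hftA' : Algebra.FiniteType A (A' ⧸ (I.map (algebraMap A A')))) (B' : Type u) [CommRing B'] [Algebra A B'] [Algebra B B'] [Algebra A' B'] [IsScalarTower A B B'] [IsScalarTower A A' B'] [IsNoetherianRing B'] [IsAdicComplete (I.map (algebraMap A B')) B'] (hftB'B : Algebra.FiniteType B (B' ⧸ (I.map (algebraMap A B')))) (hftB'A' : Algebra.FiniteType A' (B' ⧸ (I.map (algebraMap A B')))) [Module.Flat A A'] [Module.FaithfullyFlat B B'] (hA'B' : (∀ f' : A', ∀ ψf' : (AdicCompletion ((I.map (algebraMap A A')).map (algebraMap A' (Localization.Away f'))) (Localization.Away f')) →+* (AdicCompletion (((I.map (algebraMap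 A A')).map (algebraMap A' B')).map (algebraMap B' (Localization.Away (algebraMap A' B' f')))) (Localization.Away (algebraMap A' B' f'))), ψf'.comp (algebraMap (Localization.Away f') (AdicCompletion ((I.map (algebraMap A A')).map (algebraMap A' (Localization.Away f'))) (Localization.Away f'))) = (algebraMap (Localization.Away (algebraMap A' B' f')) (AdicCompletion (((I.map (algebraMap A A')).map (algebraMap A' B')).map (algebraMap B' (Localization.Away (algebraMap A' B' f')))) (Localization.Away (algebraMap A' B' f')))).comp (Localization.awayMap (algebraMap A' B') f') → ∀ qf' : PrimeSpectrum (AdicCompletion (((I.map (algebraMap A A')).map (algebraMap A' B')).map (algebraMap B' (Localization.Away (algebraMap A' B' f')))) (Localization.Away (algebraMap A' B' f'))), (¬ ((((I.map (algebraMap A A')).map (algebraMap A' B')).map (algebraMap B' (Localization.Away (algebraMap A' B' f')))).map (algebraMap (Localization.Away (algebraMap A' B' f')) (AdicCompletion (((I.map (algebraMap A A')).map (algebraMap A' B')).map (algebraMap B' (Localization.Away (algebraMap A' B' f')))) (Localization.Away (algebraMap A' B' f')))))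 ≤ qf'.asIdeal ∧ ∀ y : PrimeSpectrum (AdicCompletion (((I.map (algebraMap A A')).map (algebraMap A' B')).map (algebraMap B' (Localization.Away (algebraMap A' B' f')))) (Localization.Away (algebraMap A' B' f'))), qf' ≤ y → ¬ ((((I.map (algebraMap A A')).map (algebraMap A' B')).map (algebraMap B' (Localization.Away (algebraMap A' B' f')))).map (algebraMap (Localization.Away (algebraMap A' B' f')) (AdicCompletion (((I.map (algebraMap A A')).map (algebraMap A' B')).map (algebraMap B' (Localization.Away (algebraMap A' B' f')))) (Localization.Away (algebraMap A' B' f'))))) ≤ y.asIdeal → y = qf') → ((algebraMap (AdicCompletion (((I.map (algebraMap A A')).map (algebraMap A' B')).map (algebraMap B' (Localization.Away (algebraMap A' B' f')))) (Localization.Away (algebraMap A' B' f'))) (Localization.AtPrime qf'.asIdeal)).comp ψf').Flat)) : (∀ f : A, ∀ ψf : (AdicCompletion (I.map (algebraMap A (Localization.Away f))) (Localization.Away f)) →+* (AdicCompletion ((I.map (algebraMap A B)).map (algebraMap B (Localization.Away (algebraMap A B f)))) (Localization.Away (algebraMap A B f))), ψf.comp (algebraMap (Localization.Away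 f) (AdicCompletion (I.map (algebraMap A (Localization.Away f))) (Localization.Away f))) = (algebraMap (Localization.Away (algebraMap A B f)) (AdicCompletion ((I.map (algebraMap A B)).map (algebraMap B (Localization.Away (algebraMap A B f)))) (Localization.Away (algebraMap A B f)))).comp (Localization.awayMap (algebraMap A B) f) → ∀ qf : PrimeSpectrum (AdicCompletion ((I.map (algebraMap A B)).map (algebraMap B (Localization.Away (algebraMap A B f)))) (Localization.Away (algebraMap A B f))), (¬ (((I.map (algebraMap A B)).map (algebraMap B (Localization.Away (algebraMap A B f)))).map (algebraMap (Localization.Away (algebraMap A B f)) (AdicCompletion ((I.map (algebraMap A B)).map (algebraMap B (Localization.Away (algebraMap A B f)))) (Localization.Away (algebraMap A B f))))) ≤ qf.asIdeal ∧ ∀ y : PrimeSpectrum (AdicCompletion ((I.map (algebraMap A B)).map (algebraMap B (Localization.Away (algebraMap A B f)))) (Localization.Away (algebraMap A B f))), qf ≤ y → ¬ (((I.map (algebraMap A B)).map (algebraMap B (Localization.Away (algebraMap A B f)))).map (algebraMap (Localization.Away (algebraMap A B f)) (AdicCompletion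 ((I.map (algebraMap A B)).map (algebraMap B (Localization.Away (algebraMap A B f)))) (Localization.Away (algebraMap A B f))))) ≤ y.asIdeal → y = qf) → ((algebraMap (AdicCompletion ((I.map (algebraMap A B)).map (algebraMap B (Localization.Away (algebraMap A B f)))) (Localization.Away (algebraMap A B f))) (Localization.AtPrime qf.asIdeal)).comp ψf).Flat) := by
  intro f ψf hψf qf hqf
  haveI : Module.Flat B B' := inferInstance
  have hI : I.FG := IsNoetherian.noetherian I
  -- the four canonical maps
  have hu1 : IsUnit (algebraMap B (Localization.Away (algebraMap A B f)) (algebraMap A B f)) :=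
    IsLocalization.Away.algebraMap_isUnit _
  have hψ : ψf = Groth.Agent.H8.Rig.CLoc.lift A B I (I.map (algebraMap A B)) f (algebraMap A B f)
      hu1 le_rfl :=
    Groth.Agent.H8.Rig.CLoc.lift_unique A B I _ f _ hI (IsNoetherian.noetherian _) hu1 le_rfl
      ψf hψf
  have hu2 : IsUnit (algebraMap A' (Localization.Away (algebraMap A A' f)) (algebraMap A A' f)) :=
    IsLocalization.Away.algebraMap_isUnit _
  have hu3 : IsUnit (algebraMap B' (Localization.Away (algebraMap A' B' (algebraMap A A' f)))
      (algebraMap A' B' (algebraMap A A' f))) :=
    IsLocalization.Away.algebraMap_isUnit _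
  have hfg : algebraMap B B' (algebraMap A B f) = algebraMap A' B' (algebraMap A A' f) := by
    rw [← IsScalarTower.algebraMap_apply, ← IsScalarTower.algebraMap_apply]
  have hu4 : IsUnit (algebraMap B' (Localization.Away (algebraMap A' B' (algebraMap A A' f)))
      (algebraMap B B' (algebraMap A B f))) := by
    rw [hfg]; exact hu3
  have hu5 : IsUnit (algebraMap B' (Localization.Away (algebraMap A' B' (algebraMap A A' f)))
      (algebraMap A B' f)) := by
    rw [IsScalarTower.algebraMap_apply A A' B']; exact hu3
  have hK : (I.map (algebraMap A B)).map (algebraMap B B') =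
      (I.map (algebraMap A A')).map (algebraMap A' B') := by
    rw [Ideal.map_map, Ideal.map_map, ← IsScalarTower.algebraMap_eq, ← IsScalarTower.algebraMap_eq]
  have hIL : I.map (algebraMap A B') ≤ (I.map (algebraMap A A')).map (algebraMap A' B') := by
    rw [Ideal.map_map, ← IsScalarTower.algebraMap_eq]
  have hflatα := Groth.Agent.H8.Rig.CLoc.lift_flat A A' I (I.map (algebraMap A A')) f
    (algebraMap A A' f) hu2 rfl
  have hflatβ := Groth.Agent.H8.Rig.CLoc.lift_flat B B' (I.map (algebraMap A B))
    ((I.map (algebraMap A A')).map (algebraMap A' B')) (algebraMap A B f)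
    (algebraMap A' B' (algebraMap A A' f)) hu4 hK
  -- commutativity
  have hcomm : (Groth.Agent.H8.Rig.CLoc.lift B B' (I.map (algebraMap A B))
      ((I.map (algebraMap A A')).map (algebraMap A' B')) (algebraMap A B f)
      (algebraMap A' B' (algebraMap A A' f)) hu4 hK.le).comp
      (Groth.Agent.H8.Rig.CLoc.lift A B I (I.map (algebraMap A B)) f (algebraMap A B f)
        hu1 le_rfl) =
      (Groth.Agent.H8.Rig.CLoc.lift A' B' (I.map (algebraMap A A'))
      ((I.map (algebraMap A A')).map (algebraMap A' B')) (algebraMap A A' f)
      (algebraMap A' B' (algebraMap A A' f)) hu3 le_rfl).comp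
      (Groth.Agent.H8.Rig.CLoc.lift A A' I (I.map (algebraMap A A')) f (algebraMap A A' f)
        hu2 le_rfl) := by
    rw [Groth.Agent.H8.Rig.CLoc.lift_trans A B B' I _ _ f _ _ hI (IsNoetherian.noetherian _)
      hu1 hu4 hu5 le_rfl hK.le hIL,
      Groth.Agent.H8.Rig.CLoc.lift_trans A A' B' I _ _ f _ _ hI (IsNoetherian.noetherian _)
      hu2 hu3 hu5 le_rfl le_rfl hIL]
  -- a prime over `qf`
  obtain ⟨Q, hQ⟩ := Groth.Agent.H8.Rig.CLoc.comap_lift_surjective B B' (I.map (algebraMap A B))
    ((I.map (algebraMap A A')).map (algebraMap A' B')) (algebraMap A B f)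
    (algebraMap A' B' (algebraMap A A' f)) hu4 hK hfg qf
  subst hQ
  rw [hψ]
  haveI := Groth.Agent.H8.Rig.CLoc.isNoetherianRing B' ((I.map (algebraMap A A')).map
    (algebraMap A' B')) (algebraMap A' B' (algebraMap A A' f))
  have hQI : ¬ ((((I.map (algebraMap A A')).map (algebraMap A' B')).map (algebraMap B'
      (Localization.Away (algebraMap A' B' (algebraMap A A' f))))).map
      (algebraMap (Localization.Away (algebraMap A' B' (algebraMap A A' f)))
        (Groth.Agent.H8.Rig.CLoc B' ((I.map (algebraMap A A')).map (algebraMap A' B'))
          (algebraMap A' B' (algebraMap A A' f))))) ≤ Q.asIdeal := by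
    intro hle
    apply hqf.1
    have h1 := Groth.Agent.H8.Rig.CLoc.map_lift_eq B B' (I.map (algebraMap A B))
      ((I.map (algebraMap A A')).map (algebraMap A' B')) (algebraMap A B f)
      (algebraMap A' B' (algebraMap A A' f)) hu4 hK.le
    have h2 := h1.trans (congrArg (fun L : Ideal B' => (L.map (algebraMap B'
      (Localization.Away (algebraMap A' B' (algebraMap A A' f))))).map
      (algebraMap (Localization.Away (algebraMap A' B' (algebraMap A A' f)))
        (Groth.Agent.H8.Rig.CLoc B' ((I.map (algebraMap A A')).map (algebraMap A' B'))
          (algebraMap A' B' (algebraMap A A' f))))) hK)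
    rw [← h2] at hle
    exact Ideal.map_le_iff_le_comap.mp hle
  have F1 := Groth.Agent.H8.Rig.flat_atPrime_of_rigFlat
    (Groth.Agent.H8.Rig.CLoc.lift A' B' (I.map (algebraMap A A'))
      ((I.map (algebraMap A A')).map (algebraMap A' B')) (algebraMap A A' f)
      (algebraMap A' B' (algebraMap A A' f)) hu3 le_rfl) _
    (fun Q hQ => hA'B' (algebraMap A A' f) _
      (Groth.Agent.H8.Rig.CLoc.lift_comp A' B' _ _ _ _ _ _) Q hQ) Q hQI
  have F2 := hflatα.comp F1
  rw [RingHom.comp_assoc, ← hcomm] at F2
  exact Groth.Agent.H8.Rig.flat_atPrime_descent _ _ hflatβ Q F2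

end Groth.Agent.S8844
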