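import Groth.Statements.S8854
import Mathlib

set_option autoImplicit false
universe u
open SDiv

namespace Groth.Agent.S8854

/-- Let R be a Noetherian unique factorisation domain and I ⊆ R an ideal such that every associated
prime of R/I is minimal over I (R/I has no embedded primes) and every prime minimal over I has
height 1. Then I is principal: it is generated by one element. -/
theorem result (R : Type u) [CommRing R] [IsDomain R] [IsNoetherianRing R]
    [UniqueFactorizationMonoid R] (I : Ideal R)
    (h1 : ∀ p : Ideal R, p ∈ associatedPrimes R (R ⧸ I) → p ∈ I.minimalPrimes)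
    (h2 : ∀ p : Ideal R, p ∈ I.minimalPrimes → p.height = 1) :
    ∃ f : R, I = Ideal.span {f} := by
  classical
  -- general claim by Noetherian induction
  have aux : ∀ I : Ideal R, I ≠ ⊥ → (∀ P ∈ associatedPrimes R (R ⧸ I), P.height = 1) →
      ∃ f : R, I = Ideal.span {f} := by
    intro I
    induction I using WellFoundedGT.induction with
    | ind I ih =>
      intro hne hass
      by_cases htop : I = ⊤
      · exact ⟨1, by simp [htop]⟩
      have : Nontrivial (R ⧸ I) := Ideal.Quotient.nontrivial_iff.2 htop
      obtain ⟨P, hP⟩ := associatedPrimes.nonempty R (R ⧸ I)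
      have hP1 := hass P hP
      have hPprime : P.IsPrime := hP.isPrime
      obtain ⟨p, hpP, hp⟩ := Ideal.IsPrime.exists_mem_prime_of_ne_bot hPprime (Ideal.ne_bot_of_height_eq_one hP1)
      have hPp : P = Ideal.span {p} := Ideal.eq_span_singleton_of_height_eq_one hP1 hpP hp
      have hIP : I ≤ P := by
        have := hP.annihilator_le
        rwa [Submodule.annihilator_top, Ideal.annihilator_quotient] at this
      set J : Ideal R := Submodule.colon I {p} with hJ
      have hmemJ : ∀ r, r ∈ J ↔ r * p ∈ I := fun r => by
        rw [hJ, Submodule.mem_colon_singleton]; rfl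
      have hIJ : I ≤ J := fun x hx => (hmemJ x).2 (I.mul_mem_right _ hx)
      have hIeq : I = Ideal.span {p} * J := by
        apply le_antisymm
        · intro y hy
          have := hIP hy
          rw [hPp, Ideal.mem_span_singleton] at this
          obtain ⟨x, rfl⟩ := this
          exact Ideal.mul_mem_mul (Ideal.mem_span_singleton_self p) ((hmemJ x).2 (by rwa [mul_comm]))
        · rw [Ideal.mul_le]
          intro a ha b hb
          rw [Ideal.mem_span_singleton] at ha
          obtain ⟨c, rfl⟩ := ha
          have := (hmemJ b).1 hb
          have h2 : p * c * b = c * (b * p) := by ring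
          rw [h2]; exact I.mul_mem_left _ this
      have hJne : J ≠ I := by
        intro hJI
        apply hne
        have hpow : ∀ n : ℕ, I ≤ Ideal.span {p} ^ n := by
          intro n
          induction n with
          | zero => simp
          | succ n ihn =>
            calc I = Ideal.span {p} * I := by conv_lhs => rw [hIeq, hJI]
              _ ≤ Ideal.span {p} * Ideal.span {p} ^ n := Ideal.mul_mono_right ihn
              _ = Ideal.span {p} ^ (n + 1) := by rw [pow_succ']
        have hnt : Ideal.span {p} ≠ (⊤ : Ideal R) := by
          rw [← hPp]; exact hPprime.ne_top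
        have := Ideal.iInf_pow_eq_bot_of_isDomain (Ideal.span {p}) hnt
        rw [eq_bot_iff, ← this]
        exact le_iInf hpow
      have hlt : I < J := lt_of_le_of_ne hIJ (Ne.symm hJne)
      have hJbot : J ≠ ⊥ := fun h => hne (by rw [hIeq, h, Ideal.mul_bot])
      -- the injection R/J → R/I, multiplication by p
      let φ : (R ⧸ J) →ₗ[R] (R ⧸ I) := Submodule.mapQ J I (LinearMap.mulRight R p) (by
        intro x hx
        rw [Submodule.mem_comap]
        simpa using (hmemJ x).1 hx)
      have hφ : Function.Injective φ := by
        rw [← LinearMap.ker_eq_bot, LinearMap.ker_eq_bot']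
        intro x hx
        obtain ⟨x, rfl⟩ := Submodule.Quotient.mk_surjective _ x
        rw [Submodule.mapQ_apply, Submodule.Quotient.mk_eq_zero] at hx
        rw [Submodule.Quotient.mk_eq_zero]
        exact (hmemJ x).2 (by simpa using hx)
      obtain ⟨g, hg⟩ := ih J hlt hJbot (fun Q hQ => hass Q (associatedPrimes.subset_of_injective hφ hQ))
      exact ⟨p * g, by rw [hIeq, hg, Ideal.span_singleton_mul_span_singleton]⟩
  by_cases hI : I = ⊥
  · exact ⟨0, by simp [hI]⟩
  · exact aux I hI (fun P hP => h2 P (h1 P hP))

end Groth.Agent.S8854
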