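import Groth.Statements.S8867
import Groth.Agent.H4.MeroReg
import Groth.Agent.Lib.Lead.QC.AssPoint

set_option autoImplicit false
universe u
open CategoryTheory CategoryTheory.Limits AlgebraicGeometry TopologicalSpace
open SDiv

namespace Groth.Agent.S8867

open Groth.Agent.LD.QC


lemma isWeakAssPoint_of_maximal {X : Scheme.{u}} (x : X) (hmax : ∀ y : X, y ⤳ x → y = x) :
    Curv2.IsWeakAssPoint (Coh.structureModule X) x := by
  obtain ⟨U, hU, hxU, -⟩ := exists_isAffineOpen_mem_and_subset (x := x) (U := (⊤ : X.Opens))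
    (Set.mem_univ _)
  rw [isWeakAssPoint_iff_mem_weakAss (Coh.structureModule X) hU x hxU, mem_weakAss_iff]
  have hmin := primeIdealOf_mem_minimalPrimes_of_maximal hU x hxU hmax
  refine ⟨(show Γ(Coh.structureModule X, U) from (1 : Γ(X, U))), ?_⟩
  have hker : (LinearMap.ker (LinearMap.toSpanSingleton Γ(X, U) Γ(Coh.structureModule X, U)
      (show Γ(Coh.structureModule X, U) from (1 : Γ(X, U)))) : Ideal Γ(X, U)) = ⊥ := by
    rw [eq_bot_iff]
    intro a ha
    have : a * (1 : Γ(X, U)) = 0 := ha
    rw [mul_one] at this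
    exact this
  rw [hker]
  exact hmin

/-- Let X be a locally Noetherian scheme with no embedded points, i.e. every associated point of O_X is
maximal among the associated points of O_X under specialization, and L an invertible O_X-module.
Then some meromorphic section of L is regular. -/
theorem result (X : Scheme.{u}) [IsLocallyNoetherian X]
    (hne : ∀ x : ↥X, Curv2.IsAssPoint (Coh.structureModule X) x →
      ∀ y : ↥X, Curv2.IsAssPoint (Coh.structureModule X) y → y ⤳ x → y = x)
    (L : X.Modules) (hL : PicF.IsInvertible L) : Mero.HasRegularMero L := by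
  apply Groth.Agent.H4.MeroReg.hasRegularMero_of_weakAss _ _ L hL
  · intro x hx y hyx
    obtain ⟨U, hU, hyU, -⟩ := exists_isAffineOpen_mem_and_subset (x := y) (U := (⊤ : X.Opens))
      (Set.mem_univ _)
    obtain ⟨q, hq, hqy⟩ := Ideal.exists_minimalPrimes_le
      (I := (⊥ : Ideal Γ(X, U))) (J := (hU.primeIdealOf ⟨y, hyU⟩).asIdeal) bot_le
    let q' : PrimeSpectrum Γ(X, U) := ⟨q, hq.1.1⟩
    have hgen := maximal_fromSpec_of_minimalPrimes hU q' hq
    have hη : hU.fromSpec q' ⤳ y := by
      have h1 : q' ⤳ hU.primeIdealOf ⟨y, hyU⟩ := (PrimeSpectrum.le_iff_specializes _ _).mp hqy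
      have h2 := h1.map hU.fromSpec.continuous
      rwa [hU.fromSpec_primeIdealOf ⟨y, hyU⟩] at h2
    have hηw := isWeakAssPoint_of_maximal _ hgen
    have h3 := hne x ((isAssPoint_iff_isWeakAssPoint _ x).mpr hx) _
      ((isAssPoint_iff_isWeakAssPoint _ _).mpr hηw) (hη.trans hyx)
    rw [h3] at hη
    exact (hyx.antisymm hη).eq
  · intro U hUc
    haveI : CompactSpace ↥(U : Scheme.{u}) := isCompact_iff_compactSpace.mp hUc
    haveI : IsNoetherian (U : Scheme.{u}) := ⟨⟩
    exact finite_irreducibleComponents_of_isNoetherian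


end Groth.Agent.S8867
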