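import Groth.Statements.S8870
import Groth.Agent.Lib.Lead.QC.WeakAss
import Groth.Agent.Lib.Lead.QC.WeakAssSES
import Groth.Agent.Lib.Lead.QC.IdealMod

set_option autoImplicit false
universe u
open CategoryTheory CategoryTheory.Limits AlgebraicGeometry TopologicalSpace
open SDiv

namespace Groth.Agent.S8870

/-- Let X be a scheme and 0 → F₁ → F₂ → F₃ → 0 a short exact sequence of quasi-coherent O_X-modules.
Then WeakAss(F₂) ⊆ WeakAss(F₁) ∪ WeakAss(F₃) and WeakAss(F₁) ⊆ WeakAss(F₂). -/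
theorem result (X : Scheme.{u}) (S : ShortComplex X.Modules) (hS : S.ShortExact)
    (h₁ : Coh.IsQCoh S.X₁) (h₂ : Coh.IsQCoh S.X₂) (h₃ : Coh.IsQCoh S.X₃) :
    (∀ x : ↥X, Curv2.IsWeakAssPoint S.X₂ x → Curv2.IsWeakAssPoint S.X₁ x ∨ Curv2.IsWeakAssPoint S.X₃ x) ∧
      (∀ x : ↥X, Curv2.IsWeakAssPoint S.X₁ x → Curv2.IsWeakAssPoint S.X₂ x) := by
  haveI : S.X₁.IsQuasicoherent := h₁
  haveI : S.X₂.IsQuasicoherent := h₂
  haveI : S.X₃.IsQuasicoherent := h₃
  haveI := hS.mono_f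
  have hsm : ∀ {M N : X.Modules} (φ : M ⟶ N) (U : X.Opens) (r : Γ(X, U)) (n : Γ(M, U)),
      φ.app U (r • n) = r • φ.app U n := fun φ U r n => Scheme.Modules.Hom.app_smul φ r n
  constructor
  · intro x hx
    obtain ⟨U, hU, hxU, -⟩ := exists_isAffineOpen_mem_and_subset (x := x) (U := ⊤) trivial
    rw [LD.QC.isWeakAssPoint_iff_mem_weakAss _ hU x hxU] at hx
    rw [LD.QC.isWeakAssPoint_iff_mem_weakAss _ hU x hxU,
      LD.QC.isWeakAssPoint_iff_mem_weakAss _ hU x hxU]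
    exact LD.QC.weakAss_subset_union_of_exact (S.f.app U).hom (S.g.app U).hom
      (LD.QC.mono_app S.f U) (hsm S.f U) (hsm S.g U)
      (fun n hn => LD.QC.exact_sections' S hS.exact U n hn) hx
  · intro x hx
    obtain ⟨U, hU, hxU, -⟩ := exists_isAffineOpen_mem_and_subset (x := x) (U := ⊤) trivial
    rw [LD.QC.isWeakAssPoint_iff_mem_weakAss _ hU x hxU] at hx
    rw [LD.QC.isWeakAssPoint_iff_mem_weakAss _ hU x hxU]
    exact LD.QC.weakAss_subset_of_injective (S.f.app U).hom (LD.QC.mono_app S.f U) (hsm S.f U) hx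

end Groth.Agent.S8870
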