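import Groth.Statements.S8876
import Mathlib
import Groth.Agent.H4.FittSheaf
import Groth.Agent.S6891

set_option autoImplicit false
universe u
open CategoryTheory CategoryTheory.Limits AlgebraicGeometry TopologicalSpace
open SDiv

namespace Groth.Agent.S8876

open Groth.Agent.H4.Fitting Groth.Agent.H4.FittSheaf Groth.Agent.LD.QC

/-- Let S be a scheme and F a quasi-coherent O_S-module of finite type. Then the closed subset of S cut
out by Fit_0(F) equals the support of F (the scheme-theoretic support and the Fit_0 subscheme have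
the same underlying set). -/
theorem result (S : Scheme.{u}) (F : S.Modules) (hF : Coh.IsQCoh F) (hft : CohB1.IsFT F) :
    ((Fitt.sheafIdeal F 0).support : Set ↥S) = CohB1.support F := by
  haveI : F.IsQuasicoherent := hF
  have hft' : F.IsFiniteType := hft
  ext x
  obtain ⟨U, hU, hxU, -⟩ := exists_isAffineOpen_mem_and_subset (x := x) (U := ⊤) trivial
  haveI : Module.Finite Γ(S, U) Γ(F, U) := finite_sections_of_isFiniteType F hft' hU
  rw [SetLike.mem_coe, Scheme.IdealSheafData.mem_support_iff_of_mem (U := ⟨U, hU⟩) hxU,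
    sheafIdeal_ideal F hft' 0 ⟨U, hU⟩, mem_zeroLocus_iff_le_primeIdealOf hU _ x hxU]
  show _ ↔ ¬ Subsingleton (F.presheaf.stalk x)
  rw [← mem_support_iff_not_subsingleton_stalk F hU x hxU,
    ← (Groth.Agent.S6891.result (R := Γ(S, U)) Γ(F, U) ⊥).2.1, PrimeSpectrum.mem_zeroLocus]
  rfl


end Groth.Agent.S8876
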