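import Groth.Statements.S8886
import Mathlib

set_option autoImplicit false
universe u
open CategoryTheory CategoryTheory.Limits AlgebraicGeometry TopologicalSpace
open SDiv

namespace Groth.Agent.S8886

open TensorProduct

/-- sections over a "small" affine open of the source of a flat morphism with integral target and
reduced generic fibre form a reduced ring. -/
lemma isReduced_sections {X Y : Scheme.{u}} (f : X ⟶ Y) [Flat f] [IsIntegral Y]
    [IsReduced (f.fiber (genericPoint ↥Y))] {U : X.Opens} {V : Y.Opens} (hU : IsAffineOpen U)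
    (hV : IsAffineOpen V) (e : U ≤ f ⁻¹ᵁ V) : _root_.IsReduced Γ(X, U) := by
  by_cases hne : (U : Set X).Nonempty
  swap
  · have : U = ⊥ := by
      ext x
      simp only [Opens.coe_bot, Set.mem_empty_iff_false, iff_false]
      exact fun hx => hne ⟨x, hx⟩
    subst this
    infer_instance
  obtain ⟨x, hx⟩ := hne
  have hηV : genericPoint Y ∈ V := by
    have : (V : Set Y).Nonempty := ⟨f x, e hx⟩
    exact ((genericPoint_spec Y).mem_open_set_iff V.2).mpr (by simpa using this)
  let η := genericPoint Y
  let φ : Γ(Y, V) ⟶ Γ(X, U) := f.appLE V U e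
  let ψ : Γ(Y, V) ⟶ Y.residueField η := Y.presheaf.germ V η hηV ≫ Y.residue η
  have hφ : φ.hom.Flat := f.flat_appLE hV hU e
  letI : Algebra Γ(Y, V) Γ(X, U) := φ.hom.toAlgebra
  letI : Algebra Γ(Y, V) (Y.residueField η) := ψ.hom.toAlgebra
  haveI : Module.Flat Γ(Y, V) Γ(X, U) := hφ
  have hψinj : Function.Injective (algebraMap Γ(Y, V) (Y.residueField η)) := by
    have h1 : Function.Injective (Y.presheaf.germ V η hηV).hom :=
      germ_injective_of_isIntegral Y η hηV
    have h2 : Function.Injective (Y.residue η).hom := by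
      letI : Field (Y.presheaf.stalk η) := inferInstanceAs (Field Y.functionField)
      exact RingHom.injective (Y.residue η).hom
    exact h2.comp h1
  have hinj : Function.Injective
      (Algebra.TensorProduct.includeLeft : Γ(X, U) →ₐ[Γ(Y, V)] Γ(X, U) ⊗[Γ(Y, V)] (Y.residueField η)) :=
    Algebra.TensorProduct.includeLeft_injective hψinj
  have h1 : Spec.map φ ≫ hV.fromSpec = hU.fromSpec ≫ f := IsAffineOpen.SpecMap_appLE_fromSpec f hV hU e
  have h2 : Spec.map ψ ≫ hV.fromSpec = 𝟙 _ ≫ Y.fromSpecResidueField η := by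
    rw [Category.id_comp, Scheme.fromSpecResidueField, ← hV.fromSpecStalk_eq_fromSpecStalk hηV,
      IsAffineOpen.fromSpecStalk, Spec.map_comp, Category.assoc]
  haveI : IsReduced (pullback f (Y.fromSpecResidueField η)) :=
    ‹IsReduced (f.fiber (genericPoint ↥Y))›
  haveI : IsReduced (pullback (Spec.map φ) (Spec.map ψ)) :=
    isReduced_of_isOpenImmersion (pullback.map (Spec.map φ) (Spec.map ψ) f
      (Y.fromSpecResidueField η) hU.fromSpec (𝟙 _) hV.fromSpec h1 h2)
  haveI : IsReduced (Spec (CommRingCat.of (Γ(X, U) ⊗[Γ(Y, V)] (Y.residueField η)))) :=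
    isReduced_of_isOpenImmersion (pullbackSpecIso Γ(Y, V) Γ(X, U) (Y.residueField η)).inv
  have h3 : _root_.IsReduced (Γ(X, U) ⊗[Γ(Y, V)] (Y.residueField η)) :=
    (affine_isReduced_iff (CommRingCat.of (Γ(X, U) ⊗[Γ(Y, V)] (Y.residueField η)))).mp inferInstance
  exact isReduced_of_injective _ hinj

/-- Let f : X ⟶ Y be a flat morphism of schemes with Y integral. If the scheme-theoretic fibre of f over
the generic point of Y is integral, then X is integral. -/
theorem result {X Y : Scheme.{u}} (f : X ⟶ Y) [Flat f] [IsIntegral Y]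
    (h : IsIntegral (f.fiber (genericPoint ↥Y))) : IsIntegral X := by
  haveI := h
  let η := genericPoint Y
  let ξ' : f.fiber η := genericPoint (f.fiber η)
  let ξ : X := f.fiberι η ξ'
  have hξ : ∀ x : X, ξ ⤳ x := by
    intro x
    have h1 : η ⤳ f x := genericPoint_specializes (f x)
    obtain ⟨x', hx'x, hx'⟩ := Flat.generalizingMap f h1
    have h2 : x' ∈ Set.range (f.fiberι η) := by rw [f.range_fiberι]; exact hx'
    obtain ⟨z, rfl⟩ := h2
    exact ((genericPoint_specializes z).map (f.fiberι η).continuous).trans hx'x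
  haveI : IrreducibleSpace X := by
    rw [irreducibleSpace_def]
    have h1 : closure ({ξ} : Set X) = Set.univ := by
      rw [Set.eq_univ_iff_forall]
      intro x
      exact specializes_iff_mem_closure.mp (hξ x)
    have h2 : IsIrreducible (closure ({ξ} : Set X)) := isIrreducible_singleton.closure
    rw [h1] at h2
    exact h2
  haveI : ∀ x : X, _root_.IsReduced (X.presheaf.stalk x) := by
    intro x
    obtain ⟨V, hV, hfxV, -⟩ := exists_isAffineOpen_mem_and_subset (x := f x) (U := ⊤) trivial
    obtain ⟨U, hU, hxU, hUV⟩ := exists_isAffineOpen_mem_and_subset (x := x) (U := f ⁻¹ᵁ V) hfxV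
    haveI := isReduced_sections f hU hV hUV
    letI : Algebra Γ(X, U) (X.presheaf.stalk x) :=
      TopCat.Presheaf.algebra_section_stalk X.presheaf ⟨x, hxU⟩
    haveI := hU.isLocalization_stalk ⟨x, hxU⟩
    exact isReduced_localizationPreserves (hU.primeIdealOf ⟨x, hxU⟩).asIdeal.primeCompl _
      inferInstance
  haveI : IsReduced X := isReduced_of_isReduced_stalk X
  exact isIntegral_of_irreducibleSpace_of_isReduced X


end Groth.Agent.S8886
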