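import Groth.Statements.S8887
import Mathlib
import Groth.Agent.H4.GenFree
import Groth.Agent.H4.FittSheaf2

set_option autoImplicit false
universe u
open CategoryTheory CategoryTheory.Limits AlgebraicGeometry TopologicalSpace
open SDiv

namespace Groth.Agent.S8887

open Groth.Agent.LD.QC Groth.Agent.H4.GenFree

/-- Let X be an integral scheme and F a quasi-coherent O_X-module of finite type, of rank r (r being the
finite dimension of the generic stalk of F as a vector space over the function field of X). Then one
can find an open subset U of X, not empty, on which the restriction of F is isomorphic to the free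
module of rank r. -/
theorem result (X : Scheme.{u}) [IsIntegral X] (F : X.Modules) (hF : Coh.IsQCoh F)
    (hft : CohB1.IsFT F) :
    ∃ U : X.Opens, (U : Set ↥X).Nonempty ∧
      Nonempty (F.restrict U.ι ≅ FlatMod.freeMod (↑U)
        (Module.finrank ↑(X.presheaf.stalk (genericPoint ↥X)) ↑(F.presheaf.stalk (genericPoint ↥X)))) := by
  haveI : F.IsQuasicoherent := hF
  have hft' : F.IsFiniteType := hft
  obtain ⟨U, hU, hηU, -⟩ := exists_isAffineOpen_mem_and_subset (x := genericPoint X) (U := ⊤) trivial
  haveI : Module.Finite Γ(X, U) Γ(F, U) := finite_sections_of_isFiniteType F hft' hU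
  haveI : Nonempty U := ⟨⟨_, hηU⟩⟩
  letI : Algebra Γ(X, U) (X.presheaf.stalk (genericPoint X)) :=
    TopCat.Presheaf.algebra_section_stalk X.presheaf ⟨genericPoint X, hηU⟩
  haveI := hU.isLocalization_stalk ⟨genericPoint X, hηU⟩
  letI := stalkΓModule F (genericPoint X) U hηU
  haveI : IsScalarTower Γ(X, U) (X.presheaf.stalk (genericPoint X))
      (F.presheaf.stalk (genericPoint X)) :=
    IsScalarTower.of_algebraMap_smul (fun r m => rfl)
  haveI := isLocalizedModule_germ F hU (genericPoint X) hηU
  letI : Field (X.presheaf.stalk (genericPoint X)) :=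
    inferInstanceAs (Field X.functionField)
  obtain ⟨a, haS, ha⟩ := exists_equiv_away (A := Γ(X, U)) (M := Γ(F, U))
    (hU.primeIdealOf ⟨genericPoint X, hηU⟩).asIdeal.primeCompl
    (K := X.presheaf.stalk (genericPoint X)) (M' := F.presheaf.stalk (genericPoint X))
    (germLinear F (genericPoint X) U hηU)
  have hxf : genericPoint X ∈ X.basicOpen a :=
    mem_basicOpen_of_mem_primeCompl hU _ hηU a haS
  letI : Algebra Γ(X, U) Γ(X, X.basicOpen a) := resAlgebra (X.basicOpen_le a)
  letI : Module Γ(X, U) Γ(F, X.basicOpen a) := resModule F (X.basicOpen_le a)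
  haveI : IsScalarTower Γ(X, U) Γ(X, X.basicOpen a) Γ(F, X.basicOpen a) :=
    resModule_isScalarTower F (X.basicOpen_le a)
  haveI : IsLocalization.Away a Γ(X, X.basicOpen a) := hU.isLocalization_basicOpen a
  haveI : IsLocalizedModule.Away a (resLinear F (X.basicOpen_le a)) :=
    isLocalizedModule_basicOpen F hU a
  have h1 := ha Γ(X, X.basicOpen a) Γ(F, X.basicOpen a) (resLinear F (X.basicOpen_le a))
  obtain ⟨e⟩ := (restrict_fromSpec_iso_freeMod_iff F (hU.basicOpen a) _).mpr h1
  exact ⟨X.basicOpen a, ⟨_, hxf⟩, freeMod_of_range_subset F (hU.basicOpen a).fromSpec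
    (X.basicOpen a).ι (range_ι_subset_range_fromSpec (hU.basicOpen a)) _ e⟩


end Groth.Agent.S8887
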