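import Groth.Statements.S8888
import Mathlib
import Groth.Agent.Lib.Lead.QC.StalkPullback

set_option autoImplicit false
universe u
open CategoryTheory CategoryTheory.Limits AlgebraicGeometry TopologicalSpace
open SDiv

namespace Groth.Agent.S8888

open Groth.Agent.LD.QC TensorProduct

lemma rank_aux {X Y : Scheme.{u}} (f : X ⟶ Y) (G : Y.Modules) [G.IsQuasicoherent] (x : X)
    (hfield : IsField (Y.presheaf.stalk (f x))) (y : Y) (hy : f x = y) :
    Module.rank ↑(X.presheaf.stalk x) ↑(((Scheme.Modules.pullback f).obj G).presheaf.stalk x) =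
      Module.rank ↑(Y.presheaf.stalk y) ↑(G.presheaf.stalk y) := by
  subst hy
  letI := stalkModuleOver f ((Scheme.Modules.pullback f).obj G) x
  letI : Algebra (Y.presheaf.stalk (f x)) (X.presheaf.stalk x) := (f.stalkMap x).hom.toAlgebra
  haveI : IsScalarTower (Y.presheaf.stalk (f x)) (X.presheaf.stalk x)
      (((Scheme.Modules.pullback f).obj G).presheaf.stalk x) :=
    IsScalarTower.of_algebraMap_smul fun r m => rfl
  obtain ⟨σ, hσ⟩ := exists_stalk_pullback_isBaseChange f G x
  haveI hfree : Module.Free (Y.presheaf.stalk (f x)) (G.presheaf.stalk (f x)) := by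
    letI : Field (Y.presheaf.stalk (f x)) := hfield.toField
    exact Module.Free.of_divisionRing _ _
  have e := @IsBaseChange.equiv _ _ _ _ _ _ _ _ _ _ _ _
    (IsScalarTower.of_algebraMap_smul fun r m => rfl) _ hσ
  have := Module.rank_baseChange (R := X.presheaf.stalk x) (S := Y.presheaf.stalk (f x))
    (M' := G.presheaf.stalk (f x))
  rw [Cardinal.lift_id] at this
  exact e.rank_eq.symm.trans this

/-- Let f : X ⟶ Y be a dominant morphism of integral schemes and G a quasi-coherent O_Y-module. Then the
rank of f^*G on X, the dimension of its stalk at the generic point of X over the function field of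
X, equals the rank of G on Y. -/
theorem result {X Y : Scheme.{u}} [IsIntegral X] [IsIntegral Y] (f : X ⟶ Y) [IsDominant f]
    (G : Y.Modules) (hG : Coh.IsQCoh G) :
    Module.rank ↑(X.presheaf.stalk (genericPoint ↥X)) ↑(((Scheme.Modules.pullback f).obj G).presheaf.stalk (genericPoint ↥X)) =
      Module.rank ↑(Y.presheaf.stalk (genericPoint ↥Y)) ↑(G.presheaf.stalk (genericPoint ↥Y)) := by
  haveI : G.IsQuasicoherent := hG
  have h1 : f (genericPoint X) = genericPoint Y := by
    have h2 : IsGenericPoint (f (genericPoint X)) (closure (f '' Set.univ)) :=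
      (genericPoint_spec X).image f.continuous
    rw [Set.image_univ, f.denseRange.closure_range] at h2
    exact (h2.eq (genericPoint_spec Y))
  refine rank_aux f G (genericPoint X) ?_ _ h1
  rw [h1]
  exact Field.toIsField (Y.functionField)


end Groth.Agent.S8888
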