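import Groth.Statements.S8889
import Groth.Agent.Lib.Lead.QC.WeakAssInj

set_option autoImplicit false
universe u
open CategoryTheory CategoryTheory.Limits AlgebraicGeometry TopologicalSpace
open SDiv

namespace Groth.Agent.S8889

/-- Let X be a scheme and φ : F ⟶ G a morphism of quasi-coherent O_X-modules. Assume that for every
point x of X either the stalk map F_x → G_x is injective or x is not a weakly associated point of F.
Then φ is injective. -/
theorem result (X : Scheme.{u}) {F G : X.Modules} (φ : F ⟶ G) (hF : Coh.IsQCoh F)
    (hG : Coh.IsQCoh G)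
    (h : ∀ x : ↥X, Function.Injective ((TopCat.Presheaf.stalkFunctor AddCommGrpCat.{u} x).map (Scheme.Modules.Hom.mapPresheaf φ)) ∨ ¬ Curv2.IsWeakAssPoint F x) :
    Mono φ := by
  haveI : F.IsQuasicoherent := hF
  haveI : G.IsQuasicoherent := hG
  have hinj : ∀ U : X.Opens, Function.Injective (φ.app U) := by
    intro U
    rw [injective_iff_map_eq_zero]
    intro n hn
    apply LD.QC.eq_zero_of_germ_eq_zero_at_weakAss' F U n
    intro x hx hw
    have hix := (h x).resolve_right (not_not.mpr hw)
    apply hix
    have h1 := TopCat.Presheaf.stalkFunctor_map_germ_apply U x hx (Scheme.Modules.Hom.mapPresheaf φ) n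
    refine Eq.trans h1 ?_
    have h2 : ((Scheme.Modules.Hom.mapPresheaf φ).app (Opposite.op U)) n = 0 := hn
    rw [h2]
    exact (map_zero _).trans (map_zero _).symm
  have hm : Mono ((Scheme.Modules.toPresheaf X).map φ) := by
    apply (config := {allowSynthFailures := true}) NatTrans.mono_of_mono_app
    intro U
    rw [AddCommGrpCat.mono_iff_injective]
    exact hinj U.unop
  exact (Scheme.Modules.toPresheaf X).mono_of_mono_map hm

end Groth.Agent.S8889
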