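import Groth.Statements.S8899
import Groth.Agent.Lib.Lead.QC.WeakAssFlat

set_option autoImplicit false
universe u
open CategoryTheory CategoryTheory.Limits AlgebraicGeometry TopologicalSpace
open SDiv

namespace Groth.Agent.S8899

/-- Let f : X ⟶ S be a morphism of schemes, G a quasi-coherent O_S-module and x a point of X over s = f
x such that f is flat at x, no point of f⁻¹(s) other than x specialises to x (x is the generic point
of some irreducible component of the fibre X_s), and s is weakly associated to G. Then x is weakly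
associated to f^*G. -/
theorem result {X S : Scheme.{u}} (f : X ⟶ S) (G : S.Modules) (hG : Coh.IsQCoh G)
    (x : ↥X) (hfl : (f.stalkMap x).hom.Flat) (hgen : ∀ y : ↥X, f y = f x → y ⤳ x → y = x)
    (hs : Curv2.IsWeakAssPoint G (f x)) : Curv2.IsWeakAssPoint ((Scheme.Modules.pullback f).obj G) x := by
  haveI : G.IsQuasicoherent := hG
  obtain ⟨m, hm⟩ := hs
  set P := (Scheme.Modules.pullback f).obj G with hP
  letI algAB : Algebra (S.presheaf.stalk (f x)) (X.presheaf.stalk x) := (f.stalkMap x).hom.toAlgebra
  letI mAT : Module (S.presheaf.stalk (f x)) (P.presheaf.stalk x) := LD.QC.stalkModuleOver f P x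
  haveI tABT : IsScalarTower (S.presheaf.stalk (f x)) (X.presheaf.stalk x) (P.presheaf.stalk x) :=
    IsScalarTower.of_algebraMap_smul fun r m => rfl
  obtain ⟨σ, hσ⟩ := LD.QC.exists_stalk_pullback_isBaseChange f G x
  haveI : Module.Flat (S.presheaf.stalk (f x)) (X.presheaf.stalk x) := hfl
  exact ⟨σ m, LD.QC.radical_ker_baseChange_eq_maximalIdeal
    (LD.QC.radical_map_maximalIdeal_stalkMap f x hgen) σ hσ m hm⟩

end Groth.Agent.S8899
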