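import Groth.Statements.S8901
import Groth.Agent.Lib.Lead.QC.WeakAssReduced
import Groth.Agent.Lib.Lead.QC.BlowUpReg

set_option autoImplicit false
universe u
open CategoryTheory CategoryTheory.Limits AlgebraicGeometry TopologicalSpace
open SDiv

namespace Groth.Agent.S8901

/-- Let f : X ⟶ Y be a morphism of schemes under which each weakly associated point of X (of O_X) goes
to a point of Y with no proper generization (the generic point of some irreducible component of Y).
Then pullbacks of meromorphic functions are defined for f: for every open U ⊆ Y and every regular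
section s of O_Y over U, the pulled-back section of O_X over f⁻¹U is regular. -/
theorem result {X Y : Scheme.{u}} (f : X ⟶ Y)
    (h : ∀ x : ↥X, Curv2.IsWeakAssPoint (Coh.structureModule X) x → ∀ y : ↥Y, y ⤳ f x → y = f x)
    (U : Y.Opens) (s : Γ(Y, U)) (hs : s ∈ Mero.regSub Y U) : f.app U s ∈ Mero.regSub X (f ⁻¹ᵁ U) := by
  rintro ⟨x, hx⟩
  change X.presheaf.germ (f ⁻¹ᵁ U) x hx (f.app U s) ∈ _
  obtain ⟨V, hV, hxV, hVU0⟩ := exists_isAffineOpen_mem_and_subset (x := f x) (U := U) hx
  have hVU : V ≤ U := hVU0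
  obtain ⟨W, hW, hxW, hWV0⟩ := exists_isAffineOpen_mem_and_subset (x := x) (U := f ⁻¹ᵁ V) hxV
  have hWV : W ≤ f ⁻¹ᵁ V := hWV0
  have hsV : X.presheaf.map (homOfLE (show W ≤ f ⁻¹ᵁ U from fun z hz => hVU (hWV hz))).op (f.app U s) =
      f.appLE V W hWV (Y.presheaf.map (homOfLE hVU).op s) := by
    rw [← CommRingCat.comp_apply, ← CommRingCat.comp_apply, Scheme.Hom.map_appLE, Scheme.Hom.appLE]
  have hsnzd : Y.presheaf.map (homOfLE hVU).op s ∈ nonZeroDivisors Γ(Y, V) := by
    apply LD.QC.mem_nonZeroDivisors_of_germ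
    intro y hy
    rw [TopCat.Presheaf.germ_res_apply]
    exact hs ⟨y, hVU hy⟩
  have ht : f.appLE V W hWV (Y.presheaf.map (homOfLE hVU).op s) ∈ nonZeroDivisors Γ(X, W) := by
    rw [mem_nonZeroDivisors_iff_right]
    intro z hz
    by_contra hz0
    obtain ⟨x', hx', hw, hann⟩ := LD.QC.exists_isWeakAssPoint_of_ne_zero' (Coh.structureModule X) hW
      (show Γ(Coh.structureModule X, W) from z) hz0
    have hmem := hann (f.appLE V W hWV (Y.presheaf.map (homOfLE hVU).op s)) (by
      change f.appLE V W hWV (Y.presheaf.map (homOfLE hVU).op s) * z = 0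
      rw [mul_comm]; exact hz)
    have hmin := LD.QC.primeIdealOf_mem_minimalPrimes_of_maximal hV (f x') (hWV hx') (h x' hw)
    have h1 := IsAffineOpen.comap_primeIdealOf_appLE V hV W hW hWV hx'
    have h2 : Y.presheaf.map (homOfLE hVU).op s ∈ (hV.primeIdealOf ⟨f x', hWV hx'⟩).asIdeal := by
      rw [← h1]
      exact hmem
    exact Set.disjoint_left.mp (Ideal.disjoint_nonZeroDivisors_of_mem_minimalPrimes hmin) h2 hsnzd
  have h3 := LD.QC.germ_mem_nonZeroDivisors hW _ ht x hxW
  rw [← hsV, TopCat.Presheaf.germ_res_apply] at h3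
  exact h3

end Groth.Agent.S8901
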