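import Groth.Statements.S8916
import Groth.Agent.Lib.Helper3.JacSmooth2
import Groth.Agent.S8917

set_option autoImplicit false
universe u
open CategoryTheory CategoryTheory.Limits AlgebraicGeometry TopologicalSpace
open SDiv

namespace Groth.Agent.S8916

/-- Let f : X ⟶ S be flat, locally of finite presentation and quasi-separated, and d ≥ 0 such that all
irreducible components of each nonempty fibre of f have dimension d. Then the closed subset of X
defined by the Fitting ideal Fit_d(Ω_{X/S}) is exactly the set of points at which f is not smooth,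
i.e. which have no open neighbourhood on which f is smooth. The published statement does not assume
f quasi-separated; this row does, because the module Ω_{X/S} used here is defined for
quasi-separated f. -/
theorem result {X S : Scheme.{u}} (f : X ⟶ S) [Flat f] [LocallyOfFinitePresentation f] [QuasiSeparated f]
    (d : ℕ) (hdim : ∀ s : ↥S, ∀ T ∈ irreducibleComponents ↥(f.fiber s), topologicalKrullDim ↥T = d) (x : ↥X) :
    x ∈ (Fitt.sheafIdeal (Omega.sheaf f) d).support ↔ ¬ ∃ U : X.Opens, x ∈ U ∧ Smooth (U.ι ≫ f) := by
  haveI : LocallyOfFiniteType f := inferInstance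
  have hfd : ∀ x : X, FlatMor.fibreDimAt f x = (d : WithBot ℕ∞) :=
    (Groth.Agent.H1.RelDim.hasRelDim_iff f d).mp hdim
  rw [H5.DS.exists_smooth_nhd_iff_lfp f x, ← Scheme.Hom.mem_smoothLocus]
  constructor
  · intro hmem hsm
    exact Groth.Agent.H3.JacSmooth.not_mem_fitt_of_mem_smoothLocus f d (fun y _ => hfd y) x hsm hmem
  · intro hns
    by_contra hnm
    exact hns (Groth.Agent.H3.JacSmooth.mem_smoothLocus_of_not_mem_fitt_of_flat f d x
      (Flat.stalkMap f x) (Groth.Agent.S8917.result f (S.fromSpecResidueField (f x)) d) hnm (hfd x).ge)

end Groth.Agent.S8916
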