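import Groth.Statements.S8926


set_option autoImplicit false
universe u
open InjHull

namespace Groth.Agent.S8926

/-- Suppose R → S is an epimorphism of rings and E is an S-module whose underlying R-module (via
restriction of scalars) is injective; then E is injective as an S-module as well. -/
theorem result (R S : Type u) [CommRing R] [CommRing S] [Algebra R S] [Algebra.IsEpi R S] (E : Type u) [AddCommGroup E] [Module S E] [Module R E] [IsScalarTower R S E] [Module.Injective R E] : Module.Injective S E := by
  refine ⟨fun X Y _ _ _ _ f hf g => ?_⟩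
  letI : Module R X := Module.compHom X (algebraMap R S)
  letI : Module R Y := Module.compHom Y (algebraMap R S)
  haveI : IsScalarTower R S X := IsScalarTower.of_algebraMap_smul fun r x => rfl
  haveI : IsScalarTower R S Y := IsScalarTower.of_algebraMap_smul fun r x => rfl
  obtain ⟨h, hh⟩ := Module.Injective.extension_property R E _ _ (f.restrictScalars R) hf
    (g.restrictScalars R)
  -- `h` is `S`-linear because `R → S` is an epimorphism
  have key : ∀ (s : S) (y : Y), h (s • y) = s • h y := by
    intro s y
    let μ : TensorProduct R S Y →ₗ[R] Y :=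
      TensorProduct.lift (LinearMap.restrictScalars₁₂ R R (LinearMap.lsmul S Y))
    have hμ : Function.Injective μ := Algebra.injective_lift_lsmul R S Y
    let φ1 : TensorProduct R S Y →ₗ[R] E :=
      TensorProduct.lift ((LinearMap.restrictScalars₁₂ R R (LinearMap.lsmul S E)).compr₂ LinearMap.id
        |>.compl₂ h)
    have hrep : ∀ x : TensorProduct R S Y, x = (1 : S) ⊗ₜ[R] μ x := by
      intro x
      apply hμ
      simp [μ]
    have h1 : φ1 (s ⊗ₜ[R] y) = s • h y := by simp [φ1]
    have h2 : φ1 ((1 : S) ⊗ₜ[R] μ (s ⊗ₜ[R] y)) = h (s • y) := by simp [φ1, μ]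
    rw [← h1, hrep (s ⊗ₜ[R] y), h2]
  refine ⟨{ toFun := h, map_add' := h.map_add, map_smul' := fun s y => key s y }, fun x => ?_⟩
  exact LinearMap.congr_fun hh x

end Groth.Agent.S8926
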