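import Groth.Statements.S8928
import Mathlib

set_option autoImplicit false
universe u
open scoped TensorProduct
open Disc

namespace Groth.Agent.S8928

open TensorProduct


attribute [local instance] Algebra.TensorProduct.rightAlgebra

lemma key (A B : Type u) [CommRing A] [CommRing B] [Algebra A B]
    (h2 : Module.Flat (FractionRing A) (FractionRing A ⊗[A] B))
    (q : Ideal B) [q.IsPrime] (hq : ∀ s ∈ nonZeroDivisors A, algebraMap A B s ∉ q) :
    Module.Flat A (Localization.AtPrime q) := by
  let M := Algebra.algebraMapSubmonoid B (nonZeroDivisors A)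
  have hM : M ≤ q.primeCompl := by
    rintro _ ⟨s, hs, rfl⟩
    exact hq s hs
  haveI : IsLocalization M (FractionRing A ⊗[A] B) := IsLocalization.tensorRight (FractionRing A) (nonZeroDivisors A)
  let g : (FractionRing A ⊗[A] B) →+* Localization.AtPrime q :=
    IsLocalization.lift (M := M) (S := FractionRing A ⊗[A] B) (g := algebraMap B (Localization.AtPrime q))
      (fun y => IsLocalization.map_units (Localization.AtPrime q) (⟨(y : B), hM y.2⟩ : q.primeCompl))
  letI : Algebra (FractionRing A ⊗[A] B) (Localization.AtPrime q) := g.toAlgebra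
  haveI : IsScalarTower B (FractionRing A ⊗[A] B) (Localization.AtPrime q) :=
    IsScalarTower.of_algebraMap_eq (fun x => (IsLocalization.lift_eq _ x).symm)
  haveI : IsLocalization (q.primeCompl.map (algebraMap B (FractionRing A ⊗[A] B))) (Localization.AtPrime q) :=
    IsLocalization.isLocalization_of_submonoid_le (FractionRing A ⊗[A] B) (Localization.AtPrime q) M q.primeCompl hM
  haveI : Module.Flat (FractionRing A ⊗[A] B) (Localization.AtPrime q) :=
    IsLocalization.flat (Localization.AtPrime q) (q.primeCompl.map (algebraMap B (FractionRing A ⊗[A] B)))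
  haveI : Module.Flat A (FractionRing A ⊗[A] B) := Module.Flat.trans A (FractionRing A) (FractionRing A ⊗[A] B)
  haveI : IsScalarTower A (FractionRing A ⊗[A] B) (Localization.AtPrime q) := by
    refine @IsScalarTower.of_algebraMap_eq A (FractionRing A ⊗[A] B) (Localization.AtPrime q) _ _ _ _ _ _
      (fun a => ?_)
    have e1 : algebraMap A (FractionRing A ⊗[A] B) a = algebraMap B (FractionRing A ⊗[A] B) (algebraMap A B a) := by
      rw [Algebra.TensorProduct.algebraMap_apply, Algebra.TensorProduct.right_algebraMap_apply]
      rw [Algebra.algebraMap_eq_smul_one, Algebra.algebraMap_eq_smul_one (A := B), TensorProduct.smul_tmul]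
    rw [e1, ← IsScalarTower.algebraMap_apply B (FractionRing A ⊗[A] B) (Localization.AtPrime q),
      ← IsScalarTower.algebraMap_apply A B (Localization.AtPrime q)]
  exact Module.Flat.trans A (FractionRing A ⊗[A] B) (Localization.AtPrime q)

lemma not_mem_nzd_of_mem_assoc {R : Type*} [CommRing R] [IsNoetherianRing R] {p : Ideal R}
    (hp : IsAssociatedPrime p R)
    {r : R} (hr : r ∈ p) : r ∉ nonZeroDivisors R := by
  obtain ⟨hprime, x, hx⟩ := isAssociatedPrime_iff.mp hp
  intro hnz
  rw [hx, Submodule.mem_colon_singleton] at hr
  have hx0 : x = 0 := by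
    have := (mem_nonZeroDivisors_iff_right.mp hnz) x (by simpa [mul_comm] using hr)
    exact this
  apply hprime.ne_top
  rw [hx, hx0]
  ext y
  simp [Submodule.mem_colon_singleton]

/-- Let A → B be a map of Noetherian rings such that nonzerodivisors of A map to nonzerodivisors of B
and Q(A) ⊗_A B is flat over the total ring of fractions Q(A). Then B_q is flat over A for every
associated prime q of B and for every prime q of B lying over an associated prime of A. -/
theorem result (A B : Type u) [CommRing A] [CommRing B] [IsNoetherianRing A] [IsNoetherianRing B] [Algebra A B] (h1 : nonZeroDivisors A ≤ (nonZeroDivisors B).comap (algebraMap A B)) (h2 : Module.Flat (FractionRing A) (FractionRing A ⊗[A] B)) : (∀ (q : Ideal B) [q.IsPrime], IsAssociatedPrime q B → Module.Flat A (Localization.AtPrime q)) ∧ (∀ (q : Ideal B) [q.IsPrime], IsAssociatedPrime (q.comap (algebraMap A B)) A → Module.Flat A (Localization.AtPrime q)) := by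
  constructor
  · intro q _ hq
    apply key A B h2 q
    intro s hs hsq
    exact not_mem_nzd_of_mem_assoc hq hsq (h1 hs)
  · intro q _ hq
    apply key A B h2 q
    intro s hs hsq
    exact not_mem_nzd_of_mem_assoc hq (Ideal.mem_comap.mpr hsq) hs


end Groth.Agent.S8928
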