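import Groth.Statements.S8936
import Groth.Agent.Lib.Helper6.InjHull

set_option autoImplicit false
universe u v
open InjHull

namespace Groth.Agent.S8936

/-- For a directed system (E_i) of R-modules over a nonempty directed preorder and a compatible family
of essential injections M → E_i, the induced map from M to the direct limit of the E_i is an
essential injection. -/
theorem result (R : Type u) [CommRing R] (ι : Type v) [Preorder ι] [IsDirectedOrder ι] [DecidableEq ι] (i₀ : ι) (E : ι → Type v) [∀ i, AddCommGroup (E i)] [∀ i, Module R (E i)] (f : ∀ i j, i ≤ j → E i →ₗ[R] E j) [DirectedSystem E fun i j h => f i j h] (M : Type v) [AddCommGroup M] [Module R M] (g : ∀ i, M →ₗ[R] E i) (hg : ∀ i j (h : i ≤ j), f i j h ∘ₗ g i = g j) (he : ∀ i, InjHull.IsEssentialInj (g i)) : InjHull.IsEssentialInj (Module.DirectLimit.of R ι E f i₀ ∘ₗ g i₀) := by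
  haveI : Nonempty ι := ⟨i₀⟩
  -- all the composites `M → E j → lim` agree
  have hcompat : ∀ (j : ι) (m : M),
      Module.DirectLimit.of R ι E f j (g j m) = Module.DirectLimit.of R ι E f i₀ (g i₀ m) := by
    intro j m
    obtain ⟨k, hik, hjk⟩ := exists_ge_ge i₀ j
    have h1 : f i₀ k hik (g i₀ m) = g k m := LinearMap.congr_fun (hg i₀ k hik) m
    have h2 : f j k hjk (g j m) = g k m := LinearMap.congr_fun (hg j k hjk) m
    rw [← Module.DirectLimit.of_f (hij := hjk), h2, ← h1, Module.DirectLimit.of_f]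
  have hinj : Function.Injective (Module.DirectLimit.of R ι E f i₀ ∘ₗ g i₀) := by
    rw [← LinearMap.ker_eq_bot, eq_bot_iff]
    intro m hm
    rw [LinearMap.mem_ker, LinearMap.comp_apply] at hm
    obtain ⟨k, hik, hk⟩ := Module.DirectLimit.of.zero_exact hm
    have h1 : f i₀ k hik (g i₀ m) = g k m := LinearMap.congr_fun (hg i₀ k hik) m
    rw [h1] at hk
    rw [Submodule.mem_bot]
    exact (he k).injective (hk.trans (map_zero _).symm)
  rw [Groth.Agent.H6.IH.isEssentialInj_iff]
  refine ⟨hinj, fun x hx => ?_⟩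
  obtain ⟨j, y, rfl⟩ := Module.DirectLimit.exists_of x
  have hy : y ≠ 0 := fun h => hx (by rw [h, map_zero])
  obtain ⟨r, hr0, m, hm⟩ := ((Groth.Agent.H6.IH.isEssentialInj_iff (g j)).mp (he j)).2 y hy
  have hrx : r • Module.DirectLimit.of R ι E f j y =
      (Module.DirectLimit.of R ι E f i₀ ∘ₗ g i₀) m := by
    rw [← map_smul, ← hm, hcompat j m]
    rfl
  refine ⟨r, ?_, m, hrx.symm⟩
  rw [hrx]
  intro h0
  have hm0 : m = 0 := hinj (h0.trans (map_zero _).symm)
  rw [hm0, map_zero] at hm
  exact hr0 hm.symm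

end Groth.Agent.S8936
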