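import Groth.Statements.S8963
import Groth.Agent.Lib.Helper8.QFD.F
-- import your own Groth.Agent.* helpers here

set_option autoImplicit false
universe u
open TensorProduct
open QFDual

namespace Groth.Agent.S8963

/-- Invertibility of the relative dualizing module is a fibrewise condition. Let A → B be a flat
homomorphism of Noetherian rings with a factorization A → B' → B, A → B' finite and Spec B → Spec B'
an open immersion, so that A → B is quasi-finite and ω_{B/A} = B ⊗_{B'} Hom_A(B', A). The B-module
ω_{B/A} is invertible exactly when, for every prime p of A and every presentation of the fibre rings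
B'_p = B' ⊗_A κ(p), B_p = B ⊗_A κ(p) as cocartesian squares over the residue field κ(p) (compatibly
with B' → B), the module ω_{B_p/κ(p)} = B_p ⊗_{B'_p} Hom_{κ(p)}(B'_p, κ(p)) is an invertible
B_p-module. -/
theorem result (A B' B : Type u) [CommRing A] [CommRing B'] [CommRing B] [IsNoetherianRing A] [IsNoetherianRing B] [Algebra A B'] [Algebra B' B] [Algebra A B] [IsScalarTower A B' B] [Module.Flat A B] (hf : QFDual.IsQFFactor A B' B) : Module.Invertible B (QFDual.omega A B' B) ↔ ∀ (p : Ideal A) [p.IsPrime] (B'₁ B₁ : Type u) [CommRing B'₁] [CommRing B₁] [Algebra B' B'₁] [Algebra p.ResidueField B'₁] [Algebra A B'₁] [IsScalarTower A p.ResidueField B'₁] [IsScalarTower A B' B'₁] [Algebra B B₁] [Algebra p.ResidueField B₁] [Algebra A B₁] [IsScalarTower A p.ResidueField B₁] [IsScalarTower A B B₁] [Algebra B'₁ B₁] [Algebra B' B₁] [IsScalarTower B' B'₁ B₁] [IsScalarTower B' B B₁] [IsScalarTower p.ResidueField B'₁ B₁], Algebra.IsPushout A p.ResidueField B' B'₁ → Algebra.IsPushout A p.ResidueField B B₁ → Module.Invertible B₁ (QFDual.omega p.ResidueField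 B'₁ B₁) := by
  haveI : Module.Finite A B' := hf.finite
  haveI : Module.FinitePresentation A B' := Module.finitePresentation_of_finite A B'
  constructor
  · intro hinv p _ B'₁ B₁ _ _ _ _ _ _ _ _ _ _ _ _ _ _ _ _ _ h hB
    haveI := hinv
    exact Groth.Agent.H8.QFD.invertible_fibre_of_invertible hf.isOpenImmersion h
  · intro h
    apply Groth.Agent.H8.QFD.invertible_omega_of_fibres hf.isOpenImmersion
    intro p _
    letI iR1 : Algebra p.ResidueField (B' ⊗[A] p.ResidueField) := Algebra.TensorProduct.rightAlgebra
    letI iR2 : Algebra p.ResidueField (B ⊗[A] p.ResidueField) := Algebra.TensorProduct.rightAlgebra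
    letI iF : Algebra (B' ⊗[A] p.ResidueField) (B ⊗[A] p.ResidueField) :=
      Groth.Agent.H8.QFD.fibAlg A B' B p
    haveI t1 := Groth.Agent.H8.QFD.fib_tower1 A B' B p
    haveI t2 := Groth.Agent.H8.QFD.fib_tower2 A B' B p
    haveI t3 : IsScalarTower A p.ResidueField (B' ⊗[A] p.ResidueField) :=
      Algebra.TensorProduct.right_isScalarTower
    haveI t4 : IsScalarTower A p.ResidueField (B ⊗[A] p.ResidueField) :=
      Algebra.TensorProduct.right_isScalarTower
    exact h p (B' ⊗[A] p.ResidueField) (B ⊗[A] p.ResidueField)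
      (Groth.Agent.H8.QFD.fib_pushout A B' p) (Groth.Agent.H8.QFD.fib_pushout A B p)

end Groth.Agent.S8963
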