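import Groth.Statements.S8971
import Groth.Agent.Lib.Helper5.CA2.AssFlat2
import Groth.Agent.Lib.Helper5.QFDual.OIBridge
import Groth.Agent.Lib.Helper5.Disc.AssOmega

set_option autoImplicit false
universe u
open TensorProduct
open QFDual

namespace Groth.Agent.S8971

/-- Let A → B be a quasi-finite homomorphism of Noetherian rings, presented by writing it as a composite
A → B' → B, where the map A → B' is finite and the induced morphism Spec B → Spec B' is an open
immersion, so that ω_{B/A} = B ⊗_{B'} Hom_A(B', A) (B' acting on Hom_A(B', A) through the argument).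
Then Ass_B(ω_{B/A}) is the set of primes of B whose preimage in A is an associated prime of A. -/
theorem result (A B' B : Type u) [CommRing A] [CommRing B'] [CommRing B] [IsNoetherianRing A] [IsNoetherianRing B] [Algebra A B'] [Algebra B' B] [Algebra A B] [IsScalarTower A B' B] (hf : QFDual.IsQFFactor A B' B) : associatedPrimes B (QFDual.omega A B' B) = {q : Ideal B | q.IsPrime ∧ q.comap (algebraMap A B) ∈ associatedPrimes A A} := by
  haveI : Module.Finite A B' := hf.finite
  haveI : IsNoetherianRing B' := IsNoetherianRing.of_finite A B'
  haveI : Module.Flat B' B := H5OIBridge.flat_of_isOpenImmersion hf.isOpenImmersion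
  have hcc : ∀ q : Ideal B, (q.comap (algebraMap B' B)).comap (algebraMap A B') =
      q.comap (algebraMap A B) := fun q => by
    rw [Ideal.comap_comap, ← IsScalarTower.algebraMap_eq]
  ext q
  constructor
  · intro hq
    obtain ⟨hqp, n, hn⟩ := isAssociatedPrime_iff.mp hq
    refine ⟨hqp, ?_⟩
    have h1 : q.comap (algebraMap B' B) ∈ associatedPrimes B' (Disc.Omega A B') :=
      H5AssFlat.comap_mem_ass_of_flat q n (fun b => by
        rw [hn, Submodule.mem_colon_singleton, Submodule.mem_bot])
    have h2 := (H5AssOmega.forward _ h1).2
    rwa [hcc] at h2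
  · rintro ⟨hqp, hq⟩
    haveI := hqp
    haveI : (q.comap (algebraMap B' B)).IsPrime := Ideal.comap_isPrime _ _
    have h1 : q.comap (algebraMap B' B) ∈ associatedPrimes B' (Disc.Omega A B') :=
      H5AssOmega.backward _ (by rwa [hcc])
    exact H5AssFlat.mem_ass_of_comap_mem
      (H5OIBridge.comap_injective_of_isOpenImmersion hf.isOpenImmersion) q h1

end Groth.Agent.S8971
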