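import Groth.Statements.S8974
-- import your own Groth.Agent.* helpers here

set_option autoImplicit false
universe u
open Synt

namespace Groth.Agent.S8974

theorem exponent_injective (n d : ℕ) : Function.Injective (UnivIdx.exponent (n := n) (d := d)) := by
  intro E E' h
  apply Subtype.ext
  funext i
  apply Fin.ext
  have := DFunLike.congr_fun h i
  simpa [UnivIdx.exponent] using this

theorem exists_idx (n d : ℕ) (m : Fin n →₀ ℕ) (hm : (m.sum fun _ e => e) ≤ d) :
    ∃ E : UnivIdx n d, E.exponent = m := by
  have hsum : ∑ i, m i ≤ d := by
    rw [Finsupp.sum_fintype] at hm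
    · exact hm
    · intro i; rfl
  have hle : ∀ i, m i < d + 1 := by
    intro i
    have : m i ≤ ∑ j, m j := Finset.single_le_sum (f := fun j => m j) (fun _ _ => Nat.zero_le _) (Finset.mem_univ i)
    omega
  refine ⟨⟨fun i => ⟨m i, hle i⟩, by simpa using hsum⟩, ?_⟩
  ext i
  simp [UnivIdx.exponent]

/-- Let R be a ring, n, d ≥ 1 and g_1, …, g_n ∈ R[y_1, …, y_n] of total degree at most d. Then there is
a ring map φ : A = ℤ[a_{i,E}] → R (E running over exponent vectors with |E| ≤ d) such that applying
φ to the coefficients of the universal polynomial f_i = Σ_E a_{i,E} x^E gives g_i for each i. (The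
published statement is for a locally quasi-finite syntomic morphism of schemes and asserts, locally,
a cartesian square with the universal family; this row is its affine core: the coefficient map.) -/
theorem result (R : Type u) [CommRing R] (n d : ℕ) (hn : 1 ≤ n) (hd : 1 ≤ d) (g : Fin n → MvPolynomial (Fin n) R) (hg : ∀ i, (g i).totalDegree ≤ d) : ∃ φ : Synt.UnivBase n d →+* R, ∀ i, MvPolynomial.map φ (Synt.univPoly n d i) = g i := by
  classical
  refine ⟨MvPolynomial.eval₂Hom (Int.castRingHom R)
    (fun p : Fin n × UnivIdx n d => (g p.1).coeff p.2.exponent), ?_⟩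
  intro i
  ext m
  simp only [univPoly, map_sum, MvPolynomial.map_monomial, MvPolynomial.coeff_sum,
    MvPolynomial.coeff_monomial, MvPolynomial.coe_eval₂Hom, MvPolynomial.eval₂_X]
  by_cases hm : (m.sum fun _ e => e) ≤ d
  · obtain ⟨E, hE⟩ := exists_idx n d m hm
    rw [Finset.sum_eq_single E]
    · simp [hE]
    · intro E' _ hne
      rw [if_neg]
      intro h
      exact hne (exponent_injective n d (h.trans hE.symm))
    · intro h; exact absurd (Finset.mem_univ E) h
  · rw [Finset.sum_eq_zero]
    · symm
      apply MvPolynomial.coeff_eq_zero_of_totalDegree_lt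
      have := hg i
      simp only [Finsupp.sum] at hm
      omega
    · intro E _
      rw [if_neg]
      intro h
      apply hm
      rw [← h]
      have hE := E.2
      rw [Finsupp.sum_fintype]
      · simpa [UnivIdx.exponent] using hE
      · intro i; rfl

end Groth.Agent.S8974
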