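import Groth.Statements.S8977
import Mathlib
import Groth.Agent.Lib.Helper1.SigmaVal

set_option autoImplicit false
universe u
open HTop

namespace Groth.Agent.S8977

open CategoryTheory CategoryTheory.Limits AlgebraicGeometry in
/-- For a Noetherian scheme X and a finite family of finite type morphisms X_i → X, the induced morphism
from the coproduct of the X_i to X is universally submersive if and only if the family is an h
covering. -/
theorem result {X : Scheme.{u}} [IsNoetherian X] (E : PreZeroHypercover.{u} X) [Finite E.I₀] [∀ i, LocallyOfFiniteType (E.f i)] [∀ i, QuasiCompact (E.f i)] : SGA1.UnivSubmersive (Sigma.desc E.f) ↔ HTop.IsHCover E := by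
  have hqc : QuasiCompact (Sigma.desc E.f) :=
    Groth.Agent.Lib.Helper1.SigmaVal.quasiCompact_sigmaDesc E.f
  have hft : LocallyOfFiniteType (Sigma.desc E.f) :=
    IsZariskiLocalAtSource.sigmaDesc (fun i => inferInstance)
  constructor
  · intro h
    refine ⟨fun i => LocallyOfFinitePresentation.iff_locallyOfFiniteType.2 inferInstance, ?_⟩
    apply Groth.Agent.Lib.Helper1.HCov.isVCover_of_hasValLift_of_quasiCompact E inferInstance
      inferInstance
    rw [← Groth.Agent.Lib.Helper1.SigmaVal.valLift_sigmaDesc_iff]
    exact Groth.Agent.Lib.Helper1.Subtr7.valLift_of_dvrPairs _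
      (Groth.Agent.Lib.Helper1.Subtr7.dvrPairs_of_univSubmersive _ h)
  · rintro ⟨-, h⟩
    exact Groth.Agent.Lib.Helper1.Subtr3.univSubmersive_of_univSSubtrusive
      (Groth.Agent.Lib.Helper1.SigmaVal.univSSubtrusive_sigmaDesc_of_isVCover E h)

end Groth.Agent.S8977
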