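import Groth.Statements.S8980
import Mathlib
import Groth.Agent.Lib.Helper1.PhCov
import Groth.Agent.H4.VCover

set_option autoImplicit false
universe u
open HTop

namespace Groth.Agent.S8980

namespace Aux
open CategoryTheory CategoryTheory.Limits AlgebraicGeometry TopologicalSpace
universe w w'

theorem isVCover_of_hom {T : Scheme.{u}} {E : PreZeroHypercover.{w} T}
    {E' : PreZeroHypercover.{w'} T} (h : HTop.IsVCover E) (φ : E.Hom E') : HTop.IsVCover E' := by
  intro U
  obtain ⟨F, hF, hR⟩ := h U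
  exact ⟨F, hF, hR.of_hom φ⟩

theorem exists_fin_affineOpens_subordinate {Z : Scheme.{u}} [CompactSpace Z] {ι : Type w}
    (O : ι → Z.Opens) (hO : ∀ z : Z, ∃ i, z ∈ O i) :
    ∃ (n : ℕ) (W : Fin n → Z.Opens) (a : Fin n → ι), (∀ k, IsAffineOpen (W k)) ∧
      (∀ k, W k ≤ O (a k)) ∧ ∀ z : Z, ∃ k, z ∈ W k := by
  have hex : ∀ z : Z, ∃ (i : ι) (W : Z.Opens), IsAffineOpen W ∧ z ∈ W ∧ W ≤ O i := by
    intro z
    obtain ⟨i, hi⟩ := hO z
    obtain ⟨W, hW, hzW, hWle⟩ := exists_isAffineOpen_mem_and_subset (x := z) (U := O i) hi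
    exact ⟨i, W, hW, hzW, hWle⟩
  choose i W hW hzW hWle using hex
  obtain ⟨t, ht⟩ := isCompact_univ.elim_finite_subcover (fun z => (W z : Set Z))
    (fun z => (W z).2) (fun z _ => Set.mem_iUnion.mpr ⟨z, hzW z⟩)
  let e : Fin t.card ≃ t := t.equivFin.symm
  refine ⟨t.card, fun k => W (e k), fun k => i (e k), fun k => hW _, fun k => hWle _, fun z => ?_⟩
  have := ht (Set.mem_univ z)
  simp only [Set.mem_iUnion] at this
  obtain ⟨z', hz't, hz⟩ := this
  exact ⟨e.symm ⟨z', hz't⟩, by simpa using hz⟩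

theorem isVCover_of_isVCover_sigmaDesc {T : Scheme.{u}} (E : PreZeroHypercover.{u} T)
    (h : HTop.IsVCover (PreZeroHypercover.singleton.{w} (Sigma.desc E.f))) : HTop.IsVCover E := by
  rintro ⟨U, (hU : IsAffineOpen U)⟩
  obtain ⟨C, hC, hCR⟩ := h ⟨U, hU⟩
  choose _i r₀ hr using hCR
  let r : ∀ k, C.X k ⟶ ∐ E.X := fun k => r₀ k
  have hr' : ∀ k, r k ≫ Sigma.desc E.f = C.f k ≫ U.ι := hr
  -- cover each C.X k
  have hex : ∀ k : C.I₀, ∃ (n : ℕ) (W : Fin n → (C.X k).Opens) (a : Fin n → E.I₀),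
      (∀ l, IsAffineOpen (W l)) ∧
      (∀ l, W l ≤ r k ⁻¹ᵁ (Sigma.ι E.X (a l)).opensRange) ∧
      ∀ z : C.X k, ∃ l, z ∈ W l := by
    intro k
    have := hC.isAffine_obj k
    refine exists_fin_affineOpens_subordinate
      (O := fun i => r k ⁻¹ᵁ (Sigma.ι E.X i).opensRange) (fun z => ?_)
    obtain ⟨i, y, hy⟩ := (sigmaOpenCover E.X).exists_eq (r k z)
    exact ⟨i, y, hy⟩
  choose n W a hW hWle hWcov using hex
  let G : ∀ k : C.I₀, PreZeroHypercover.{0} (C.X k) := fun k =>
    Groth.Agent.H4.VCover.opensFamily (C.X k) (n k) (W k)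
  have hG : ∀ k, HTop.IsStandardV (G k) := fun k => by
    have := hC.isAffine_obj k
    exact Groth.Agent.H4.VCover.isStandardV_opensFamily (C.X k) (n k) (W k) (hW k) (hWcov k)
  refine ⟨C.bind G, Groth.Agent.S7470.result C hC G hG, ?_⟩
  rintro ⟨k, (l : Fin (n k))⟩
  have hrange : Set.range ((W k l).ι ≫ r k) ⊆
      Set.range (Sigma.ι E.X (a k l)) := by
    rintro _ ⟨x, rfl⟩
    exact hWle k l x.2
  let s : ((W k l : (C.X k).Opens) : Scheme.{u}) ⟶ E.X (a k l) :=
    IsOpenImmersion.lift (Sigma.ι E.X (a k l)) ((W k l).ι ≫ r k) hrange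
  have hs : s ≫ Sigma.ι E.X (a k l) = (W k l).ι ≫ r k :=
    IsOpenImmersion.lift_fac _ _ _
  refine ⟨a k l, s, ?_⟩
  change s ≫ E.f (a k l) = ((W k l).ι ≫ C.f k) ≫ U.ι
  rw [← Sigma.ι_desc E.f (a k l), ← Category.assoc, hs, Category.assoc, hr' k, Category.assoc]

end Aux

open CategoryTheory CategoryTheory.Limits AlgebraicGeometry in
/-- A family of morphisms T_i → T, indexed by a type in the universe of T and all locally of finite
presentation, is an h covering if and only if the one-member family given by the induced morphism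
from the coproduct of the T_i to T is an h covering. (The published statement also lists, as a
further equivalent condition, that some h covering refines the family; that equivalence is immediate
from the definitions and is not restated here.) -/
theorem result {T : Scheme.{u}} (E : PreZeroHypercover.{u} T) (hE : ∀ i, LocallyOfFinitePresentation (E.f i)) : HTop.IsHCover E ↔ HTop.IsHCover (PreZeroHypercover.singleton.{0} (Sigma.desc E.f)) := by
  constructor
  · rintro ⟨-, hV⟩
    refine ⟨fun _ => IsZariskiLocalAtSource.sigmaDesc hE, ?_⟩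
    exact Aux.isVCover_of_hom hV
      { s₀ := fun _ => PUnit.unit
        h₀ := fun i => Sigma.ι E.X i
        w₀ := fun i => Sigma.ι_desc E.f i }
  · rintro ⟨-, hV⟩
    exact ⟨hE, Aux.isVCover_of_isVCover_sigmaDesc E hV⟩

end Groth.Agent.S8980
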