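import Groth.Statements.S8991
import Mathlib
import Groth.Agent.Lib.Helper1.PhCov

set_option autoImplicit false
universe u
open HTop

namespace Groth.Agent.S8991

open CategoryTheory CategoryTheory.Limits AlgebraicGeometry Opposite in
/-- A ph sheaf on schemes over S takes the same sections on an S-scheme and on any thickening of it. -/
theorem result (S : Scheme.{u}) (F : HTop.ShPh S) {X X' : Over S} (f : X ⟶ X') (hf : MoreMor.IsThickening f.left) : Function.Bijective (F.obj.map f.op) := by
  have hci : IsClosedImmersion f.left := hf.1
  have hsurj : Surjective f.left := hf.2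
  have hF : Presieve.IsSheaf (HTop.Jph S) F.obj := (isSheaf_iff_isSheaf_of_type _ _).mp F.property
  have hmono : Mono f := by
    have : Mono f.left := inferInstance
    exact Over.mono_of_mono_left f
  have hH : HTop.IsPhCover (PreZeroHypercover.singleton.{u+1} f.left) :=
    Groth.Agent.Lib.Helper1.HCov.isPhCover_singleton_of_proper_surjective f.left
  have hcov0 : Sieve.generate (Presieve.singleton f.left) ∈ HTop.phTopology X'.left := by
    apply Precoverage.generate_mem_toGrothendieck
    have := (HTop.presieve₀_mem_phPrecoverage_iff (PreZeroHypercover.singleton.{u+1} f.left)).mpr hH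
    rwa [PreZeroHypercover.presieve₀_singleton] at this
  have hcov : Sieve.generate (Presieve.singleton f) ∈ HTop.Jph S X' :=
    Groth.Agent.Lib.Helper1.HCov.generate_singleton_mem_over _ f hcov0
  have h1 : Presieve.IsSheafFor F.obj (Presieve.singleton f) := hF.isSheafFor _ hcov
  exact Groth.Agent.Lib.Helper1.HCov.bijective_of_mono_of_isSheafFor_singleton f h1

end Groth.Agent.S8991
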