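import Groth.Statements.S8992
-- import your own Groth.Agent.* helpers here

set_option autoImplicit false
universe u
open HTop

namespace Groth.Agent.S8992

/-- An algebra over the prime field with p elements is absolutely weakly normal if and only if its p-th
power map is bijective (the algebra is perfect). -/
theorem result (p : ℕ) [Fact p.Prime] (A : Type u) [CommRing A] [Algebra (ZMod p) A] : HTop.IsAWNRing A ↔ PerfectRing A p := by
  have hp : p.Prime := Fact.out
  have hp0 : (p : A) = 0 := by
    have h1 : (p : A) = algebraMap (ZMod p) A (p : ZMod p) := (map_natCast _ p).symm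
    rw [h1, ZMod.natCast_self, map_zero]
  constructor
  · rintro ⟨_, h⟩
    refine ⟨?_⟩
    have key : ∀ x : A, ∃! a : A, x = a ^ p := by
      intro x
      have := h p hp x 0 (by rw [hp0, zero_pow hp.ne_zero, zero_mul])
      obtain ⟨a, ⟨ha, _⟩, huniq⟩ := this
      exact ⟨a, ha, fun b hb => huniq b ⟨hb, by rw [hp0, zero_mul]⟩⟩
    constructor
    · intro a b hab
      obtain ⟨c, _, huniq⟩ := key (a ^ p)
      rw [huniq a rfl, huniq b hab]
    · intro x
      obtain ⟨a, ha, _⟩ := key x
      exact ⟨a, ha.symm⟩
  · intro hperf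
    have hbij := hperf.bijective_frobenius
    have hinj : ∀ a b : A, a ^ p = b ^ p → a = b := fun a b h => hbij.1 h
    have hinjk : ∀ k : ℕ, ∀ a b : A, a ^ (p ^ k) = b ^ (p ^ k) → a = b := by
      intro k
      induction k with
      | zero => intro a b h; simpa using h
      | succ k ih =>
        intro a b h
        apply ih
        apply hinj
        rw [← pow_mul, ← pow_mul, ← pow_succ]
        exact h
    have hred : ∀ (a : A) (n : ℕ), a ^ n = 0 → a = 0 := by
      intro a n h
      apply hinjk n
      have hle : n ≤ p ^ n := (Nat.lt_pow_self hp.one_lt).le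
      rw [zero_pow (pow_ne_zero _ hp.ne_zero)]
      exact pow_eq_zero_of_le hle h
    refine ⟨?_, ?_⟩
    · -- seminormal
      intro x y hxy
      obtain ⟨i, j, hij⟩ : ∃ i j : ℕ, 2 * i + 3 * j = p := by
        rcases hp.eq_two_or_odd with h2 | hodd
        · exact ⟨1, 0, by omega⟩
        · have : 3 ≤ p := by
            have := hp.two_le
            omega
          exact ⟨(p - 3) / 2, 1, by omega⟩
      obtain ⟨a, ha⟩ := hbij.2 (x ^ i * y ^ j)
      have ha : a ^ p = x ^ i * y ^ j := ha
      have h2 : a ^ 2 = x := by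
        apply hinj
        rw [← pow_mul, mul_comm, pow_mul, ha, mul_pow, ← pow_mul, ← pow_mul, mul_comm j 2, pow_mul y,
          ← hxy, ← pow_mul, ← pow_add, ← hij]
        congr 1
        ring
      have h3 : a ^ 3 = y := by
        apply hinj
        rw [← pow_mul, mul_comm, pow_mul, ha, mul_pow, ← pow_mul, ← pow_mul, mul_comm i 3, pow_mul x,
          hxy, ← pow_mul, ← pow_add, ← hij]
        congr 1
        ring
      refine ⟨a, ⟨h2.symm, h3.symm⟩, ?_⟩
      rintro b ⟨hb2, hb3⟩
      have : (b - a) ^ 3 = 0 := by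
        have e1 : b ^ 2 = a ^ 2 := by rw [h2, hb2]
        have e2 : b ^ 3 = a ^ 3 := by rw [h3, hb3]
        have e3 : b ^ 2 * a = a ^ 3 := by rw [e1]; ring
        have e4 : b * a ^ 2 = b ^ 3 := by rw [← e1]; ring
        calc (b - a) ^ 3 = b ^ 3 - 3 * (b ^ 2 * a) + 3 * (b * a ^ 2) - a ^ 3 := by ring
          _ = 0 := by rw [e3, e4, e2]; ring
      have := hred _ _ this
      exact sub_eq_zero.mp this
    · intro l hl x y hxy
      by_cases hlp : l = p
      · subst hlp
        rw [hp0, zero_pow hp.ne_zero, zero_mul] at hxy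
        have hy : y = 0 := hred y l hxy.symm
        obtain ⟨a, ha⟩ := hbij.2 x
        have ha : a ^ l = x := ha
        refine ⟨a, ⟨ha.symm, by rw [hy, hp0, zero_mul]⟩, ?_⟩
        rintro b ⟨hb, _⟩
        exact hinj _ _ (by rw [ha, ← hb])
      · have hcop : Nat.Coprime l p := (Nat.coprime_primes hl hp).mpr hlp
        have hu : IsUnit (l : A) := by
          have h1 : (l : A) = algebraMap (ZMod p) A (l : ZMod p) := (map_natCast _ l).symm
          rw [h1]
          exact ((ZMod.isUnit_iff_coprime l p).mpr hcop).map _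
        obtain ⟨u, hu⟩ := hu
        refine ⟨↑u⁻¹ * y, ⟨?_, ?_⟩, ?_⟩
        · rw [mul_pow, ← hxy, ← hu, ← mul_assoc, ← mul_pow, Units.inv_mul, one_pow, one_mul]
        · rw [← hu, ← mul_assoc, Units.mul_inv, one_mul]
        · rintro b ⟨_, hb⟩
          rw [hb, ← hu, ← mul_assoc, Units.inv_mul, one_mul]

end Groth.Agent.S8992
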