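import Groth.Statements.S8993
import Mathlib
import Groth.Prelude.Def_Flat
import Groth.Prelude.Def_HTop2
import Groth.Agent.H4.UHCharP

set_option autoImplicit false
universe u
open HTop

namespace Groth.Agent.S8993

open CategoryTheory CategoryTheory.Limits AlgebraicGeometry TensorProduct


open Groth.Agent.H4.UHCharP Groth.Agent.H4.UHTower

/-- For a ring A of prime characteristic p, the map from A to the direct limit of A along Frobenius (the
perfect closure) is an absolute weak normalization of A. (The published statement also identifies,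
over a base of characteristic p, the h sheafification of the structure sheaf on quasi-compact
quasi-separated objects with this colimit; that part is not stated here.) -/
theorem result (p : ℕ) [Fact p.Prime] (A : Type u) [CommRing A] [CharP A p] : HTop.IsRingAWN (PerfectClosure.of A p) := by
  have hp : p.Prime := Fact.out
  constructor
  · rw [uh_charP_iff p]
    refine ⟨fun a ha => ?_, fun x => ?_⟩
    · obtain ⟨n, hn⟩ := mem_pNilradical.mp (IsPRadical.ker_le (PerfectClosure.of A p) p ha)
      exact ⟨_, hn⟩
    · obtain ⟨n, y, hy⟩ := IsPRadical.pow_mem (PerfectClosure.of A p) p x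
      exact ⟨n, y, hy⟩
  · intro C _ ψ hψ
    haveI : Nontrivial A := CharP.nontrivial_of_char_ne_one (v := p) hp.ne_one
    haveI : Nontrivial C := by
      letI := ψ.toAlgebra
      have hU : UHC A C := (uhc_iff A C).mp hψ
      obtain ⟨m, hm⟩ := Ideal.exists_maximal A
      obtain ⟨Q, -⟩ := hU.2.1.2 ⟨m, hm.isPrime⟩
      by_contra hC
      rw [not_nontrivial_iff_subsingleton] at hC
      exact Q.isPrime.ne_top (Subsingleton.elim _ _)
    haveI : CharP C p := (CharP.charP_iff_prime_eq_zero hp).mpr (by
      rw [← map_natCast ψ, CharP.cast_eq_zero, map_zero])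
    obtain ⟨hker, hpow⟩ := (uh_charP_iff p ψ).mp hψ
    haveI : IsPRadical ψ p := ⟨fun c => by
      obtain ⟨n, a, ha⟩ := hpow c
      exact ⟨n, a, ha⟩, fun a ha => by
      obtain ⟨N, hN⟩ := hker a ha
      refine mem_pNilradical.mpr ⟨N, ?_⟩
      have : N ≤ p ^ N := (Nat.lt_pow_self hp.one_lt).le
      rw [← Nat.sub_add_cancel this, pow_add, hN, mul_zero]⟩
    refine ⟨PerfectRing.lift ψ (PerfectClosure.of A p) p, PerfectRing.lift_comp _ _ _, ?_⟩
    intro χ' hχ'
    have := PerfectRing.comp_lift ψ χ' p
    rw [← this]
    congr 1


end Groth.Agent.S8993
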