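import Groth.Statements.S9001
import Mathlib
import Groth.Agent.Lib.Helper1.HensML
import Groth.Agent.Lib.Helper1.DirSumAss

set_option autoImplicit false
universe u
open FlatMor

namespace Groth.Agent.S9001

namespace H1.S9001aux

open IsLocalRing TensorProduct Groth.Agent.H1.DirSumAss

variable {R S : Type u} [CommRing R] [IsLocalRing R] [CommRing S] [Algebra R S]
  (N : Type u) [AddCommGroup N] [Module S N] [Module R N] [IsScalarTower R S N]

theorem eq_zero_of_smul_eq
    (L : Type u) [AddCommGroup L] [Module R L] (i : N →ₗ[R] L) (ρ : L →ₗ[R] N)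
    (hρi : ∀ n, ρ (i n) = n)
    (M : Type u) [AddCommGroup M] [Module R M]
    (hL : ∀ z' : L ⊗[R] M, ∃ (pr : L →ₗ[R] L) (A : Submodule R L),
      A.FG ∧ (∀ x, pr x ∈ A) ∧ pr.rTensor M z' = z')
    (z : N ⊗[R] M) (g : S) (hg : g ∈ (maximalIdeal R).map (algebraMap R S))
    (hgz : g • z = z) : z = 0 := by
  obtain ⟨pr, A, hA, hprA, hprz⟩ := hL (i.rTensor M z)
  let μ : N →ₗ[R] N := (LinearMap.lsmul S N g).restrictScalars R
  let θ : L →ₗ[R] L := (pr ∘ₗ i) ∘ₗ μ ∘ₗ ρ ∘ₗ pr
  have hθ : ∀ x, θ x ∈ maximalIdeal R • A := by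
    intro x
    exact map_smul_mem N (pr ∘ₗ i) A (fun n => hprA _) g hg (ρ (pr x))
  have hbij := bijective_one_sub_of_mem A hA θ hθ
  have hρiz : ρ.rTensor M (i.rTensor M z) = z := by
    rw [← LinearMap.rTensor_comp_apply]
    have : ρ ∘ₗ i = LinearMap.id := LinearMap.ext hρi
    rw [this, LinearMap.rTensor_id_apply]
  have hθz : θ.rTensor M (i.rTensor M z) = i.rTensor M z := by
    change ((pr ∘ₗ i) ∘ₗ μ ∘ₗ ρ ∘ₗ pr).rTensor M (i.rTensor M z) = _
    simp only [LinearMap.rTensor_comp_apply]
    rw [hprz, hρiz, rTensor_lsmul, hgz, hprz]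
  have h2 : (LinearMap.id - θ : L →ₗ[R] L).rTensor M (i.rTensor M z) = 0 := by
    rw [LinearMap.rTensor_sub, LinearMap.sub_apply, hθz, LinearMap.rTensor_id_apply, sub_self]
  let e : L ≃ₗ[R] L := LinearEquiv.ofBijective (LinearMap.id - θ) hbij
  have h3 : (e.rTensor M) (i.rTensor M z) = 0 := h2
  have hz' : i.rTensor M z = 0 := by
    have := congrArg (e.rTensor M).symm h3
    rwa [LinearEquiv.symm_apply_apply, map_zero] at this
  rw [← hρiz, hz', map_zero]

end H1.S9001aux

open IsLocalRing TensorProduct in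
/-- Over a henselian local ring R with maximal ideal m, for an R-algebra S and an S-module N which is
countably generated and Mittag-Leffler as an R-module, every associated prime q of the S-module N
⊗_R M (M any R-module) satisfies q + mS ≠ S. (Associated primes are taken here in the sense of
primes equal to the radical of the annihilator of some element, a larger set than the annihilators
of elements used in the published statement; the published argument goes through once the chosen
element of q is replaced by a suitable power of it, so the row states this slightly stronger form.) -/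
theorem result {R S : Type u} [CommRing R] [HenselianLocalRing R] [CommRing S] [Algebra R S] (N : Type u) [AddCommGroup N] [Module S N] [Module R N] [IsScalarTower R S N] (hcg : CAlg.IsCountablyGenerated R N) (hML : CAlg.IsMittagLeffler R N) (M : Type u) [AddCommGroup M] [Module R M] (q : Ideal S) [q.IsPrime] (hq : q ∈ associatedPrimes S (N ⊗[R] M)) : q ⊔ (maximalIdeal R).map (algebraMap R S) ≠ ⊤ := by
  classical
  obtain ⟨ι, F, hF, hfp⟩ := Groth.Agent.H1.HensML.main hcg hML
  let e : (DirectSum ι fun i => F i) ≃ₗ[R] N :=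
    LinearEquiv.ofBijective (DirectSum.coeLinearMap F) hF
  haveI : ∀ i, Module.Finite R (F i) := fun i => inferInstance
  intro htop
  obtain ⟨hqp, z, hz⟩ := hq
  have h1 : (1 : S) ∈ q ⊔ (maximalIdeal R).map (algebraMap R S) := by
    rw [htop]; exact Submodule.mem_top
  obtain ⟨f, hf, g, hg, hfg⟩ := Submodule.mem_sup.mp h1
  rw [hz] at hf
  obtain ⟨k, hk⟩ := hf
  rw [Submodule.mem_colon_singleton, Submodule.mem_bot] at hk
  have hg' : 1 - f ^ k ∈ (maximalIdeal R).map (algebraMap R S) := by
    have h2 : (∑ i ∈ Finset.range k, f ^ i) * (f - 1) = f ^ k - 1 := geom_sum_mul f k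
    have h3 : f - 1 = -g := by rw [← hfg]; ring
    have h4 : 1 - f ^ k = (∑ i ∈ Finset.range k, f ^ i) * g := by
      rw [h3] at h2
      linear_combination h2
    rw [h4]
    exact Ideal.mul_mem_left _ _ hg
  have hgz : (1 - f ^ k) • z = z := by
    rw [sub_smul, one_smul, hk, sub_zero]
  have hz0 : z = 0 := by
    refine H1.S9001aux.eq_zero_of_smul_eq N (DirectSum ι fun i => F i) e.symm.toLinearMap
      e.toLinearMap (fun n => e.apply_symm_apply n) M (fun z' => ?_) z _ hg' hgz
    obtain ⟨T, hT⟩ := Groth.Agent.H1.DirSumAss.exists_prT (R := R) (fun i => F i) M z'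
    exact ⟨Groth.Agent.H1.DirSumAss.prT (fun i => F i) T,
      Groth.Agent.H1.DirSumAss.AT (fun i => F i) T,
      Groth.Agent.H1.DirSumAss.AT_fg (fun i => F i) T,
      Groth.Agent.H1.DirSumAss.prT_mem (fun i => F i) T, hT T (Finset.Subset.refl T)⟩
  apply hqp.ne_top
  rw [hz, hz0]
  rw [Ideal.radical_eq_top, eq_top_iff]
  intro s _
  rw [Submodule.mem_colon_singleton, smul_zero]
  exact Submodule.zero_mem _

end Groth.Agent.S9001
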