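import Groth.Statements.S9008


set_option autoImplicit false
universe u
open FlatMor

namespace Groth.Agent.S9008

/-- For Spec B → Spec A affine of finite type: a finite B-module is universally pure along the fibre
over a prime p of A exactly when every base change of it along a ring map A → A' is pure along the
fibre over every prime of A' above p. -/
theorem result {A B : Type u} [CommRing A] [CommRing B] [Algebra A B] [Algebra.FiniteType A B] (N : Type u) [AddCommGroup N] [Module B N] [Module.Finite B N] (p : Ideal A) [p.IsPrime] : FlatCA.IsUnivPureAlong A B N p ↔ ∀ (A' B' N' : Type u) [CommRing A'] [CommRing B'] [Algebra A A'] [Algebra B B'] [Algebra A' B'] [Algebra A B'] [IsScalarTower A B B'] [IsScalarTower A A' B'] [Algebra.IsPushout A B A' B'] [AddCommGroup N'] [Module B' N'] [Module B N'] [IsScalarTower B B' N'] (g : N →ₗ[B] N'), IsBaseChange B' g → ∀ (p' : Ideal A') [p'.IsPrime], p'.LiesOver p → FlatCA.IsPureAlong A' B' N' p' := by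
  constructor
  · intro h A' B' N' iA' iB' iAA' iBB' iA'B' iAB' iT1 iT2 iPO iN' iM1 iM2 iT3 g hg p' ip' hp'
    intro A'' B'' N'' jA jB jAA jBB jAB jA'B jT1 jT2 jN jM1 jM2 jT3 jM4 jT5 f t' t it' it P iP hEt himp
    obtain ⟨hpush, hbc, hle, hover, hPover, hass, hcl⟩ := himp
    letI : Algebra A A'' := ((algebraMap A' A'').comp (algebraMap A A')).toAlgebra
    haveI : IsScalarTower A A' A'' := IsScalarTower.of_algebraMap_eq' rfl
    letI : Algebra B B'' := ((algebraMap B' B'').comp (algebraMap B B')).toAlgebra
    haveI : IsScalarTower B B' B'' := IsScalarTower.of_algebraMap_eq' rfl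
    letI : Algebra A B'' := ((algebraMap A'' B'').comp (algebraMap A A'')).toAlgebra
    haveI : IsScalarTower A A'' B'' := IsScalarTower.of_algebraMap_eq' rfl
    have key : ∀ x : A, algebraMap A'' B'' (algebraMap A' A'' (algebraMap A A' x)) =
        algebraMap B' B'' (algebraMap A B' x) := by
      intro x
      rw [IsScalarTower.algebraMap_apply A A' B', ← IsScalarTower.algebraMap_apply A' B' B'',
        IsScalarTower.algebraMap_apply A' A'' B'']
    haveI : IsScalarTower A B' B'' := IsScalarTower.of_algebraMap_eq (fun x => key x)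
    haveI : IsScalarTower A B B'' := IsScalarTower.of_algebraMap_eq (fun x => by
      show algebraMap A'' B'' (algebraMap A' A'' (algebraMap A A' x)) =
        algebraMap B' B'' (algebraMap B B' (algebraMap A B x))
      rw [key x, IsScalarTower.algebraMap_apply A B B'])
    letI : Module B N'' := Module.compHom N'' (algebraMap B B'')
    haveI : IsScalarTower B B'' N'' := ⟨fun b b'' n => by
      rw [Algebra.smul_def, mul_smul]; rfl⟩
    haveI : IsScalarTower B B' N'' := ⟨fun b b' n => by
      rw [Algebra.smul_def, mul_smul]
      exact (algebraMap_smul B'' (algebraMap B B' b) (b' • n)).symm⟩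
    haveI h1 : Algebra.IsPushout A A' B B' := Algebra.IsPushout.symm iPO
    have h2 : Algebra.IsPushout A' A'' B' B'' := Algebra.IsPushout.symm hpush
    have h3 : Algebra.IsPushout A A'' B B'' := (Algebra.IsPushout.comp_iff A A' B B' (T := A'') (T' := B'')).mpr h2
    have h4 : Algebra.IsPushout A B A'' B'' := Algebra.IsPushout.symm h3
    have h5 : IsBaseChange B'' ((f.restrictScalars B).comp g) := IsBaseChange.comp hg hbc
    haveI : t.LiesOver p' := hover
    haveI : p'.LiesOver p := hp'
    have h6 : t.LiesOver p := Ideal.LiesOver.trans t p' p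
    exact h A'' B'' N'' ((f.restrictScalars B).comp g) t' t P ⟨h4, h5, hle, h6, hPover, hass, hcl⟩
  · intro H A' B' N' iA' iB' iAA' iBB' iA'B' iAB' iT1 iT2 iN' iM1 iM2 iT3 iM4 iT5 f t' t it' it P iP himp
    obtain ⟨hpush, hbc, hle, hover, hPover, hass, hcl⟩ := himp
    haveI := hpush
    have hpure := H A' B' N' f hbc t hover
    have hself : t.LiesOver t := ⟨by simp [Ideal.under]⟩
    refine hpure A' B' N' (LinearEquiv.refl B' N').toLinearMap t' t P ?_
      ⟨inferInstance, IsBaseChange.ofEquiv _, hle, hself, hPover, hass, hcl⟩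
    refine ⟨inferInstance, hself, ?_⟩
    have hid : Ideal.ResidueField.mapₐ t t (Algebra.ofId A' A') hself.over = AlgHom.id _ _ := by
      ext
    rw [hid]
    exact Function.bijective_id

end Groth.Agent.S9008
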