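import Groth.Statements.S9016
import Groth.Agent.Lib.Lead.FF.Descent3

set_option autoImplicit false
universe u
open FlatMor

namespace Groth.Agent.S9016

open CategoryTheory CategoryTheory.Limits AlgebraicGeometry Opposite in
/-- For f : X → S and a homomorphism u : F → G of quasi-coherent O_X-modules, the functor on schemes
over S with one point on T when the base change u_T on X_T = X ×_S T is zero and empty otherwise,
written as the subfunctor of the final functor generated by that condition, satisfies the sheaf
condition for the fpqc topology. -/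
theorem result {X S : Scheme.{u}} (f : X ⟶ S) {F G : X.Modules} [Coh.IsQCoh F] [Coh.IsQCoh G] (u : F ⟶ G) :
    Presheaf.IsSheaf (QuotSh.J Scheme.fpqcPrecoverage S)
      (FlatFun.genPSp S (fun T => ((Scheme.Modules.pullback (pullback.fst f T.hom)).map u) = 0)) := by
  refine Groth.Agent.LD.FF.isSheaf_genPSp_fpqc f u
    (fun {Z} h => (Scheme.Modules.pullback h).map u = 0) ?_ ?_
  · intro T T₀ k hk
    refine (Groth.Agent.LD.FF.eq_zero_pullback_comp_iff (Groth.Agent.LD.FF.bcMap f k)
      (pullback.fst f T₀.hom) (Groth.Agent.LD.FF.bcMap_fst f k) u).2 ?_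
    rw [hk, Functor.map_zero]
  · intro T ι Ti g hfl hs h
    haveI := hfl
    exact (Groth.Agent.LD.FF.eq_zero_bc_iff f u T Ti g hs).2 h

end Groth.Agent.S9016
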