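import Groth.Statements.S9019
import Groth.Agent.Lib.Lead.FF.LimPres2

set_option autoImplicit false
universe u
open FlatMor

namespace Groth.Agent.S9019

open CategoryTheory CategoryTheory.Limits AlgebraicGeometry Opposite in
/-- For f : X → S quasi-compact and a homomorphism u : F → G of quasi-coherent O_X-modules with F of
finite type, the functor F_zero (one point on T when the base change u_T on X ×_S T is zero, empty
otherwise; the subfunctor of the final functor generated by that condition) is limit preserving. -/
theorem result {X S : Scheme.{u}} (f : X ⟶ S) [QuasiCompact f] {F G : X.Modules} [Coh.IsQCoh F] [Coh.IsQCoh G]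
    (hF : CohB1.IsFT F) (u : F ⟶ G) :
    AlgSp.IsLimitPreserving (FlatFun.genPSp S (fun T => ((Scheme.Modules.pullback (pullback.fst f T.hom)).map u) = 0)) := by
  haveI : F.IsQuasicoherent := ‹Coh.IsQCoh F›
  haveI : G.IsQuasicoherent := ‹Coh.IsQCoh G›
  refine Groth.Agent.LD.FF.isLimitPreserving_genPSp_of_exists
    (fun T => (Scheme.Modules.pullback (pullback.fst f T.hom)).map u = 0) ?_ ?_
  · intro T T₀ k hk
    refine (Groth.Agent.LD.FF.eq_zero_pullback_comp_iff (Groth.Agent.LD.FF.bcMap f k)
      (pullback.fst f T₀.hom) (Groth.Agent.LD.FF.bcMap_fst f k) u).2 ?_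
    rw [hk, Functor.map_zero]
  · intro I _ _ D c hc hD hT h
    exact Groth.Agent.LD.FF.exists_zero_of_isLimit f D hF u c hc hD h

end Groth.Agent.S9019
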