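import Groth.Statements.S9038
-- import your own Groth.Agent.* helpers here

set_option autoImplicit false
universe u
open Topology
open CohTop

namespace Groth.Agent.S9038

/-- In the category of Hausdorff locally quasi-compact spaces, call a family of continuous maps f_i :
X_i → X a qc covering when every point of X has a neighbourhood of the form ⋃_{i ∈ t} f_i(E_i) with
t a finite set of indices and E_i ⊆ X_i quasi-compact. If (f_i : X_i → X) is a qc covering and for
each i the family (g_{ij} : X_{ij} → X_i)_j is a qc covering, then the family of composites X_{ij} →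
X, indexed by the pairs (i, j), is a qc covering. -/
theorem result
    {B : Type u} [TopologicalSpace B] [T2Space B] [LocallyCompactSpace B]
    {ι : Type u} {X : ι → Type u} [∀ i, TopologicalSpace (X i)] [∀ i, T2Space (X i)]
    [∀ i, LocallyCompactSpace (X i)]
    (f : ∀ i, X i → B) (hf : ∀ i, Continuous (f i))
    (hcov : ∀ x : B, ∃ (t : Finset ι) (E : ∀ i, Set (X i)),
      (∀ i ∈ t, IsCompact (E i)) ∧ (⋃ i ∈ t, f i '' E i) ∈ 𝓝 x)
    {κ : ι → Type u} {Y : ∀ i, κ i → Type u} [∀ i j, TopologicalSpace (Y i j)] [∀ i j, T2Space (Y i j)]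
    [∀ i j, LocallyCompactSpace (Y i j)]
    (g : ∀ i j, Y i j → X i) (hg : ∀ i j, Continuous (g i j))
    (hcov' : ∀ (i : ι) (x : X i), ∃ (t : Finset (κ i)) (E : ∀ j, Set (Y i j)),
      (∀ j ∈ t, IsCompact (E j)) ∧ (⋃ j ∈ t, g i j '' E j) ∈ 𝓝 x) :
    ∀ x : B, ∃ (t : Finset (Σ i, κ i)) (E : ∀ p : (Σ i, κ i), Set (Y p.1 p.2)),
      (∀ p ∈ t, IsCompact (E p)) ∧ (⋃ p ∈ t, f p.1 '' (g p.1 p.2 '' E p)) ∈ 𝓝 x := by
  classical
  -- key lemma: every compact subset of `X i` is covered by finitely many images of compacts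
  have key : ∀ (i : ι) (K : Set (X i)), IsCompact K →
      ∃ (s : Finset (κ i)) (E : ∀ j, Set (Y i j)), (∀ j, IsCompact (E j)) ∧
        K ⊆ ⋃ j ∈ s, g i j '' E j := by
    intro i K hK
    refine hK.induction_on (p := fun K => ∃ (s : Finset (κ i)) (E : ∀ j, Set (Y i j)),
      (∀ j, IsCompact (E j)) ∧ K ⊆ ⋃ j ∈ s, g i j '' E j) ?_ ?_ ?_ ?_
    · exact ⟨∅, fun _ => ∅, fun _ => isCompact_empty, Set.empty_subset _⟩
    · rintro K₁ K₂ h12 ⟨s, E, hE, hsub⟩
      exact ⟨s, E, hE, h12.trans hsub⟩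
    · rintro K₁ K₂ ⟨s₁, E₁, hE₁, hsub₁⟩ ⟨s₂, E₂, hE₂, hsub₂⟩
      refine ⟨s₁ ∪ s₂, fun j => E₁ j ∪ E₂ j, fun j => (hE₁ j).union (hE₂ j), ?_⟩
      apply Set.union_subset
      · intro z hz
        have := hsub₁ hz
        simp only [Set.mem_iUnion, Set.mem_image] at this ⊢
        obtain ⟨j, hj, y, hy, rfl⟩ := this
        exact ⟨j, Finset.mem_union_left _ hj, y, Or.inl hy, rfl⟩
      · intro z hz
        have := hsub₂ hz
        simp only [Set.mem_iUnion, Set.mem_image] at this ⊢
        obtain ⟨j, hj, y, hy, rfl⟩ := this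
        exact ⟨j, Finset.mem_union_right _ hj, y, Or.inr hy, rfl⟩
    · intro z _
      obtain ⟨s, E, hE, hN⟩ := hcov' i z
      refine ⟨⋃ j ∈ s, g i j '' E j, mem_nhdsWithin_of_mem_nhds hN, s,
        fun j => if j ∈ s then E j else ∅, ?_, ?_⟩
      · intro j
        by_cases hj : j ∈ s
        · simp only [hj, if_true]; exact hE j hj
        · simp only [hj, if_false]; exact isCompact_empty
      · intro w hw
        simp only [Set.mem_iUnion, Set.mem_image] at hw ⊢
        obtain ⟨j, hj, y, hy, rfl⟩ := hw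
        exact ⟨j, hj, y, by simpa [hj] using hy, rfl⟩
  intro x
  obtain ⟨t, E, hE, hN⟩ := hcov x
  have hKc : ∀ i, IsCompact (if i ∈ t then E i else ∅) := by
    intro i
    by_cases hi : i ∈ t
    · simp only [hi, if_true]; exact hE i hi
    · simp only [hi, if_false]; exact isCompact_empty
  choose s E' hE' hsub using fun i => key i _ (hKc i)
  refine ⟨t.sigma s, fun p => E' p.1 p.2, fun p _ => hE' p.1 p.2, ?_⟩
  refine Filter.mem_of_superset hN ?_
  intro b hb
  simp only [Set.mem_iUnion, Set.mem_image] at hb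
  obtain ⟨i, hi, e, he, rfl⟩ := hb
  have he' : e ∈ (if i ∈ t then E i else ∅) := by simpa [hi] using he
  have := hsub i he'
  simp only [Set.mem_iUnion, Set.mem_image] at this
  obtain ⟨j, hj, y, hy, rfl⟩ := this
  simp only [Set.mem_iUnion, Set.mem_image]
  exact ⟨⟨i, j⟩, Finset.mem_sigma.mpr ⟨hi, hj⟩, g i j y, ⟨y, hy, rfl⟩, rfl⟩

end Groth.Agent.S9038
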