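import Groth.Statements.S9046
import Groth.Agent.Lib.Helper7.MSL2
import Groth.Agent.Lib.Helper7.MSL3
-- import your own Groth.Agent.* helpers here

set_option autoImplicit false
universe u
open CategoryTheory CategoryTheory.Limits Opposite
open ModSite

namespace Groth.Agent.S9046

/-- On a ringed site (C, O), let α : E → F and f : G → F be maps of complexes of O-modules where E is
strictly perfect and vanishes in degrees below a, and f induces isomorphisms on H^j for all j > a
and a surjection on H^a. Then locally α lifts through f up to homotopy: every object V has a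
covering sieve such that over each of its arrows W → V there is a map of complexes β : E|_W → G|_W
with β ≫ f|_W homotopic to α|_W. (The published statement is phrased over the localisation (C/U,
O_U) at an object U with a covering of U; this row states it at every object of an arbitrary ringed
site, which covers that case.) -/
theorem result
    {C : Type u} [SmallCategory C] {J : GrothendieckTopology C} (O : Sheaf J CommRingCat.{u})
    (E F G : CochainComplex (ModSite.Mod O) ℤ) (α : E ⟶ F) (f : G ⟶ F)
    (hE : DCoh.IsStrictlyPerfectMod (ModSite.ringSh O) E) (a : ℤ)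
    (hEa : ∀ j : ℤ, j < a → IsZero (E.X j))
    (hiso : ∀ j : ℤ, a < j → IsIso (HomologicalComplex.homologyMap f j))
    (hepi : Epi (HomologicalComplex.homologyMap f a)) (V : C) :
    ∃ R ∈ J V, ∀ ⦃W : C⦄ (g : W ⟶ V), R g →
      ∃ β : ((ModSite.restr O W).mapHomologicalComplex (ComplexShape.up ℤ)).obj E ⟶
          ((ModSite.restr O W).mapHomologicalComplex (ComplexShape.up ℤ)).obj G,
        Nonempty (Homotopy (β ≫ ((ModSite.restr O W).mapHomologicalComplex (ComplexShape.up ℤ)).map f)
          (((ModSite.restr O W).mapHomologicalComplex (ComplexShape.up ℤ)).map α)) := by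
  have hf : Groth.Agent.H4.TilD9.IsWitCx a f := ⟨hiso, hepi⟩
  obtain ⟨T, hT, hT'⟩ := Groth.Agent.Helper7.MSL2.exists_nullHomotopy (R := ModSite.ringSh O)
    (α ≫ CochainComplex.mappingCone.inr f) hE.1 hE.2 a hEa
    (fun n hn => Groth.Agent.Helper7.MSL3.exactAt_mappingCone_of_isWitCx f a hf n hn) V
  refine ⟨T, hT, fun W g hg => ?_⟩
  obtain ⟨H⟩ := hT' g hg
  haveI : (ModSite.restr O W).Additive :=
    Groth.Agent.Helper7.MSL1.additive_overFunctor (R := ModSite.ringSh O) W
  exact Groth.Agent.Helper7.MSL3.exists_lift_of_nullHomotopy (ModSite.restr O W) α f H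

end Groth.Agent.S9046
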