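import Groth.Statements.S9072
import Groth.Agent.Lib.Helper6.DerAdj1
import Groth.Agent.Lib.Helper1.SheafOfModulesGrothendieck
-- import your own Groth.Agent.* helpers here

set_option autoImplicit false
universe u
open CategoryTheory CategoryTheory.Limits Opposite
attribute [local instance] HasDerivedCategory.standard
open SiteCmp

namespace Groth.Agent.S9072

/-- Let f be a flat morphism from the ringed site (C, O_C) to the ringed site (D, O_D), so that the
derived pullback is f^* applied termwise, and let Rf_* be the total derived direct image on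
unbounded derived categories (its existence is an instance hypothesis). Then f^* and Rf_* are
adjoint: there is an adjunction f^* ⊣ Rf_* between D(O_D) and D(O_C). Only the existence of an
adjunction is asserted; the published statement covers arbitrary morphisms of ringed topoi with
Lf^*. -/
theorem result
    {C : Type u} [SmallCategory C] {J : GrothendieckTopology C} {O_C : Sheaf J CommRingCat.{u}}
    {D : Type u} [SmallCategory D] {K : GrothendieckTopology D} {O_D : Sheaf K CommRingCat.{u}}
    (f : ModSite.RMor O_C O_D) [PreservesFiniteLimits f.pull] [SiteCmp.HasRpushD f] :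
    Nonempty (SiteCmp.pullD f ⊣ SiteCmp.RpushD f) := by
  haveI : IsGrothendieckAbelian.{u} (ModSite.Mod O_C) :=
    Groth.Agent.H1.sheafOfModules_isGrothendieckAbelian J (ModSite.ringSh O_C)
  haveI : Groth.Agent.H6.KInjDS.HasKInjRes (ModSite.Mod O_C) := inferInstance
  haveI := Groth.Agent.H6.DerAdj.isRightDerivedFunctor_cx_of_h (Groth.Agent.H6.DerAdj.Gh f.push)
    (SiteCmp.RpushD f) _ (Groth.Agent.H6.DerAdj.eG f.push)
    ((SiteCmp.pushKh f).totalRightDerivedUnit DerivedCategory.Qh
      (HomotopyCategory.quasiIso (ModSite.Mod O_C) (ComplexShape.up ℤ)))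
  exact ⟨Groth.Agent.H6.DerAdj.derivedAdj f.adj (SiteCmp.RpushD f)
    ((Groth.Agent.H6.DerAdj.eG f.push).hom ≫ Groth.Agent.H6.DerAdj.unitCx
      (Groth.Agent.H6.DerAdj.Gh f.push) _
      ((SiteCmp.pushKh f).totalRightDerivedUnit DerivedCategory.Qh
        (HomotopyCategory.quasiIso (ModSite.Mod O_C) (ComplexShape.up ℤ))))⟩

end Groth.Agent.S9072
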