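import Groth.Statements.S9089
-- import your own Groth.Agent.* helpers here

set_option autoImplicit false
universe u
open CategoryTheory Opposite
open ModSite

namespace Groth.Agent.S9089


/-- restriction is functorial -/
theorem res_comp {C : Type u} [SmallCategory C] {J : GrothendieckTopology C}
    (O : Sheaf J CommRingCat.{u}) {U V W : C} (g : V ⟶ U) (k : W ⟶ V) (x : O.obj.obj (op U)) :
    (O.obj.map (k ≫ g).op).hom x = (O.obj.map k.op).hom ((O.obj.map g.op).hom x) := by
  rw [op_comp, Functor.map_comp]
  rfl

/-- The sieve of arrows on which some member of the family becomes a unit. -/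
def unitSieve {C : Type u} [SmallCategory C] {J : GrothendieckTopology C}
    (O : Sheaf J CommRingCat.{u}) {U : C} {n : ℕ} (f : Fin n → O.obj.obj (op U)) : Sieve U where
  arrows := fun V g => ∃ i, IsUnit ((O.obj.map g.op).hom (f i))
  downward_closed := by
    rintro V W g ⟨i, hi⟩ k
    refine ⟨i, ?_⟩
    rw [res_comp]
    exact hi.map _

theorem unitSieve_mem {C : Type u} [SmallCategory C] (J : GrothendieckTopology C)
    (O : Sheaf J CommRingCat.{u})
    (h : ∀ (U : C) (f : O.obj.obj (op U)), ∃ S ∈ J U, ∀ ⦃V : C⦄ (g : V ⟶ U), S g →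
        IsUnit ((O.obj.map g.op).hom f) ∨ IsUnit ((O.obj.map g.op).hom (1 - f)))
    (n : ℕ) (hn : 1 ≤ n) : ∀ (U : C) (f : Fin n → O.obj.obj (op U)),
      Ideal.span (Set.range f) = ⊤ → unitSieve O f ∈ J U := by
  induction n, hn using Nat.le_induction with
  | base =>
    intro U f hf
    have h1 : (1 : O.obj.obj (op U)) ∈ Ideal.span (Set.range f) := by rw [hf]; trivial
    obtain ⟨c, hc⟩ := (Ideal.mem_span_range_iff_exists_fun).mp h1
    have hu : IsUnit (f 0) := by
      rw [Fin.sum_univ_one] at hc
      exact IsUnit.of_mul_eq_one _ (by rw [mul_comm]; exact hc)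
    have : unitSieve O f = ⊤ := by
      rw [← Sieve.id_mem_iff_eq_top]
      refine ⟨0, ?_⟩
      exact hu.map _
    rw [this]
    exact J.top_mem U
  | succ n hn ih =>
    intro U f hf
    have h1 : (1 : O.obj.obj (op U)) ∈ Ideal.span (Set.range f) := by rw [hf]; trivial
    obtain ⟨c, hc⟩ := (Ideal.mem_span_range_iff_exists_fun).mp h1
    rw [Fin.sum_univ_castSucc] at hc
    obtain ⟨S, hS, hSu⟩ := h U (c (Fin.last n) * f (Fin.last n))
    refine J.transitive hS _ ?_
    intro V g hg
    rcases hSu g hg with hu | hu
    · -- f_last restricted to V is a unit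
      have : (unitSieve O f).pullback g = ⊤ := by
        rw [← Sieve.id_mem_iff_eq_top]
        refine ⟨Fin.last n, ?_⟩
        simp only [Category.id_comp] at *
        rw [map_mul] at hu
        exact isUnit_of_mul_isUnit_right hu
      rw [this]
      exact J.top_mem V
    · -- the first n members generate the unit ideal on V
      have hspan : Ideal.span (Set.range fun i : Fin n => (O.obj.map g.op).hom (f (Fin.castSucc i))) = ⊤ := by
        apply Ideal.eq_top_of_isUnit_mem _ _ hu
        have : (1 : O.obj.obj (op U)) - c (Fin.last n) * f (Fin.last n) =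
            ∑ i : Fin n, c (Fin.castSucc i) * f (Fin.castSucc i) := by
          rw [← hc]; ring
        rw [this, map_sum]
        apply Submodule.sum_mem
        intro i _
        rw [map_mul]
        apply Ideal.mul_mem_left
        exact Ideal.subset_span ⟨i, rfl⟩
      have hmem := ih V _ hspan
      refine J.superset_covering ?_ hmem
      rintro W k ⟨i, hi⟩
      refine ⟨Fin.castSucc i, ?_⟩
      rw [res_comp]
      exact hi

/-- Part (1): ⇔ (2), for a ringed site (C, O) with C small and O a sheaf of commutative rings: the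
following are equivalent. (1) For every object U and every section f of O over U there is a covering
sieve on U on each of whose arrows either f or 1 - f restricts to a unit. (2) For every object U,
every n ≥ 1 and all sections f₁, …, fₙ of O over U generating the unit ideal of O(U), there is a
covering sieve on U on each of whose arrows some fᵢ restricts to a unit. -/
theorem result {C : Type u} [SmallCategory C] (J : GrothendieckTopology C)
    (O : Sheaf J CommRingCat.{u}) :
    (∀ (U : C) (f : O.obj.obj (op U)), ∃ S ∈ J U, ∀ ⦃V : C⦄ (g : V ⟶ U), S g →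
        IsUnit ((O.obj.map g.op).hom f) ∨ IsUnit ((O.obj.map g.op).hom (1 - f))) ↔
    (∀ (U : C) (n : ℕ) (f : Fin n → O.obj.obj (op U)), 1 ≤ n → Ideal.span (Set.range f) = ⊤ →
        ∃ S ∈ J U, ∀ ⦃V : C⦄ (g : V ⟶ U), S g → ∃ i, IsUnit ((O.obj.map g.op).hom (f i))) := by
  constructor
  · intro h U n f hn hf
    exact ⟨unitSieve O f, unitSieve_mem J O h n hn U f hf, fun V g hg => hg⟩
  · intro h U f
    obtain ⟨S, hS, hSu⟩ := h U 2 ![f, 1 - f] (by norm_num) (by
      have h0 : f ∈ Ideal.span (Set.range ![f, 1 - f]) := Ideal.subset_span ⟨0, rfl⟩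
      have h1 : (1 - f) ∈ Ideal.span (Set.range ![f, 1 - f]) := Ideal.subset_span ⟨1, rfl⟩
      apply Ideal.eq_top_of_isUnit_mem _ _ isUnit_one
      have h2 := Ideal.add_mem _ h0 h1
      have h3 : f + (1 - f) = (1 : O.obj.obj (op U)) := by ring
      rw [h3] at h2
      exact h2)
    refine ⟨S, hS, fun V g hg => ?_⟩
    obtain ⟨i, hi⟩ := hSu g hg
    fin_cases i
    · exact Or.inl hi
    · exact Or.inr hi

end Groth.Agent.S9089
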