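import Groth.Statements.S9121
import Mathlib

set_option autoImplicit false
universe u
open CategoryTheory CategoryTheory.Limits
open CohSite

namespace Groth.Agent.S9121

/-- Part (1): for the morphism of topoi f : Sh(C) → Sh(D) attached to a continuous functor u : D ⥤ C
between small sites whose induced pullback of sheaves of sets is exact (f_* is restriction along u):
if f_* transforms epimorphisms of sheaves of sets into epimorphisms, then f_* on abelian sheaves is
exact; being a right adjoint it preserves finite limits, and the statement is that it also preserves
finite colimits. -/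
theorem result {C D : Type u} [SmallCategory C] [SmallCategory D]
    (J : GrothendieckTopology C) (K : GrothendieckTopology D) (u : D ⥤ C) [u.IsContinuous K J]
    [PreservesFiniteLimits (u.sheafPullback (Type u) K J)]
    [(u.sheafPushforwardContinuous (Type u) K J).PreservesEpimorphisms] :
    PreservesFiniteColimits (u.sheafPushforwardContinuous AddCommGrpCat.{u} K J) := by
  have hepi : ∀ {F G : Sheaf J AddCommGrpCat.{u}} (φ : F ⟶ G), Epi φ →
      Epi ((u.sheafPushforwardContinuous AddCommGrpCat.{u} K J).map φ) := by
    intro F G φ hφ
    haveI : Sheaf.IsLocallySurjective φ := (Sheaf.isLocallySurjective_iff_epi' (A := AddCommGrpCat.{u}) φ).2 hφ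
    haveI : Epi ((sheafCompose J (forget AddCommGrpCat.{u})).map φ) := inferInstance
    haveI h2 : Epi ((u.sheafPushforwardContinuous (Type u) K J).map
        ((sheafCompose J (forget AddCommGrpCat.{u})).map φ)) := inferInstance
    have h3 : Sheaf.IsLocallySurjective ((u.sheafPushforwardContinuous (Type u) K J).map
        ((sheafCompose J (forget AddCommGrpCat.{u})).map φ)) :=
      (Sheaf.isLocallySurjective_iff_epi _).2 h2
    haveI : Sheaf.IsLocallySurjective
        ((u.sheafPushforwardContinuous AddCommGrpCat.{u} K J).map φ) :=
      (Presheaf.isLocallySurjective_iff_whisker_forget K _).2 h3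
    infer_instance
  haveI : PreservesLimits (u.sheafPushforwardContinuous AddCommGrpCat.{u} K J) :=
    (u.sheafAdjunctionContinuous AddCommGrpCat.{u} K J).rightAdjoint_preservesLimits
  haveI : (u.sheafPushforwardContinuous AddCommGrpCat.{u} K J).Additive :=
    inferInstanceAs (CohSite.push J K u).Additive
  refine ((Functor.preservesFiniteColimits_tfae
    (u.sheafPushforwardContinuous AddCommGrpCat.{u} K J)).out 0 3).1 ?_
  intro S hS
  haveI := hS.mono_f
  exact ⟨hS.exact.map_of_mono_of_preservesKernel _ inferInstance inferInstance,
    hepi S.g hS.epi_g⟩

end Groth.Agent.S9121
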