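import Groth.Statements.S9122
import Groth.Agent.Lib.Lead.Chaotic.Criterion

set_option autoImplicit false
universe u
open CategoryTheory Opposite
open ModSite

namespace Groth.Agent.S9122

/-- Let C be a small category endowed with the chaotic topology (only maximal sieves are covering), O a
sheaf of commutative rings on it and F an O-module. Then F is quasi-coherent exactly when, for each
morphism g : U → V of C, the base-change map F(V) ⊗_{O(V)} O(U) → F(U), i.e. the map out of the
extension of scalars of F(V) along O(V) → O(U) that is adjoint to the restriction map F(V) → F(U),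
is an isomorphism. -/
theorem result {C : Type u} [SmallCategory C]
    (O : Sheaf (⊥ : GrothendieckTopology C) CommRingCat.{u}) (F : ModSite.Mod O) :
    SheafOfModules.IsQuasicoherent (R := ModSite.ringSh O) F ↔
      ∀ (U V : C) (g : U ⟶ V), IsIso
        (((ModuleCat.extendRestrictScalarsAdj (O.obj.map g.op).hom).homEquiv
          (F.val.obj (op V) : ModuleCat.{u} (O.obj.obj (op V))) (F.val.obj (op U) : ModuleCat.{u} (O.obj.obj (op U)))).symm
          (F.val.map g.op)) := by
  have hJ : Groth.Agent.LD.Chaotic.IsTriv (⊥ : GrothendieckTopology C) :=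
    Groth.Agent.LD.Chaotic.isTriv_bot
  constructor
  · intro hF U V g
    obtain ⟨h1, h2⟩ := Groth.Agent.LD.Chaotic.bc_of_isQuasicoherent hJ F hF g
    have hbc : Groth.Agent.LD.Chaotic.IsBC (O.obj.map g.op).hom
        (M := (F.val.obj (op V) : ModuleCat.{u} (O.obj.obj (op V))))
        (N := (F.val.obj (op U) : ModuleCat.{u} (O.obj.obj (op U)))) (F.val.map g.op) :=
      Groth.Agent.LD.Chaotic.isBC_of_elementwise _
        (fun Q ψ hadd hsmul => h2 Q ψ hadd (fun a m => hsmul a m)) (fun n => h1 n)
    exact Groth.Agent.LD.Chaotic.isIso_of_isBC (A := O.obj.obj (op V)) (B := O.obj.obj (op U))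
      (O.obj.map g.op).hom _ hbc
  · intro h
    have hbc : ∀ {U V : C} (g : U ⟶ V), Groth.Agent.LD.Chaotic.IsBC (O.obj.map g.op).hom
        (M := (F.val.obj (op V) : ModuleCat.{u} (O.obj.obj (op V))))
        (N := (F.val.obj (op U) : ModuleCat.{u} (O.obj.obj (op U)))) (F.val.map g.op) :=
      fun {U V} g => Groth.Agent.LD.Chaotic.isBC_of_isIso (A := O.obj.obj (op V))
        (B := O.obj.obj (op U)) (O.obj.map g.op).hom _ (h U V g)
    refine Groth.Agent.LD.Chaotic.isQuasicoherent_of_bc hJ F (fun {U V} g => ?_)
      (fun {U V} g => ?_)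
    · intro n
      exact (hbc g).mem_span n
    · intro Q ψ hadd hsmul
      exact (hbc g).exists_lift Q ψ hadd (fun a m => hsmul a m)

end Groth.Agent.S9122
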