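import Groth.Statements.S9129
import Groth.Agent.Lib.Helper6.FlatDepth

set_option autoImplicit false
universe u
open CAlg

namespace Groth.Agent.S9129

/-- Suppose R → S is a flat local homomorphism between Noetherian local rings, with R Cohen–Macaulay.
Assume either that S is finite over R or that the Krull dimension of S is at most that of R. Then
the two rings have equal dimension and S is itself Cohen–Macaulay. -/
theorem result (R S : Type u) [CommRing R] [CommRing S]
    [LocCoh.IsCohenMacaulayLocalRing R] [IsNoetherianRing S] [IsLocalRing S] [Algebra R S]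
    [IsLocalHom (algebraMap R S)] [Module.Flat R S]
    (h : Module.Finite R S ∨ ringKrullDim S ≤ ringKrullDim R) :
    LocCoh.IsCohenMacaulayLocalRing S ∧ ringKrullDim R = ringKrullDim S := by
  have hle : H6.FlatDepth.mS R S ≤ IsLocalRing.maximalIdeal S :=
    ((IsLocalRing.local_hom_TFAE (algebraMap R S)).out 0 2).mp ‹IsLocalHom (algebraMap R S)›
  have hcomap : (IsLocalRing.maximalIdeal S).comap (algebraMap R S) = IsLocalRing.maximalIdeal R :=
    ((IsLocalRing.local_hom_TFAE (algebraMap R S)).out 0 4).mp ‹IsLocalHom (algebraMap R S)›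
  -- the depth formula
  have hdepth : LocCoh.depth S S = LocCoh.depth R R + LocCoh.depth S (H6.FlatDepth.Fib R S S) := by
    have h1 := H6.FlatDepth.depth_tensor (R := R) (S := S) S R
    have e : TensorProduct R S R ≃ₗ[S] S := TensorProduct.AlgebraTensorModule.rid R S S
    unfold LocCoh.depth at h1 ⊢
    rw [← H6.HomKer.idealDepth_congr _ e]
    exact h1
  obtain ⟨dS, hdS, hdSle⟩ := H6.Depth.exists_depth_eq (R := S) S
  obtain ⟨dR, hdR, -⟩ := H6.Depth.exists_depth_eq (R := R) R
  have hCM : Module.supportDim R R = ((LocCoh.depth R R : ℕ∞) : WithBot ℕ∞) :=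
    LocCoh.IsCohenMacaulayLocalRing.supportDim_eq_depth
  rw [Module.supportDim_self_eq_ringKrullDim] at hCM hdSle
  -- `dim S ≤ dim R`
  have hdim : ringKrullDim S ≤ ringKrullDim R := by
    rcases h with hfin | hle'
    · haveI : Algebra.IsIntegral R S := Algebra.IsIntegral.of_finite R S
      -- the closed fibre has dimension zero
      haveI hK : Ring.KrullDimLE 0 (S ⧸ H6.FlatDepth.mS R S) := by
        apply Ring.KrullDimLE.mk₀
        intro Q' hQ'
        set Q := Q'.comap (Ideal.Quotient.mk (H6.FlatDepth.mS R S)) with hQ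
        haveI hQp : Q.IsPrime := Ideal.comap_isPrime _ _
        have hmQ : H6.FlatDepth.mS R S ≤ Q := by
          intro x hx
          rw [hQ, Ideal.mem_comap, Ideal.Quotient.eq_zero_iff_mem.mpr hx]
          exact Q'.zero_mem
        have hQc : Q.comap (algebraMap R S) = IsLocalRing.maximalIdeal R := by
          apply ((IsLocalRing.maximalIdeal.isMaximal R).eq_of_le ?_ ?_).symm
          · exact (Ideal.comap_isPrime (algebraMap R S) Q).ne_top
          · rw [← Ideal.map_le_iff_le_comap]
            exact hmQ
        have hQmax : Q.IsMaximal := by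
          apply Ideal.isMaximal_of_isIntegral_of_isMaximal_comap (R := R) Q
          rw [hQc]
          exact IsLocalRing.maximalIdeal.isMaximal R
        have h2 : Q'= Q.map (Ideal.Quotient.mk (H6.FlatDepth.mS R S)) :=
          (Ideal.map_comap_of_surjective _ Ideal.Quotient.mk_surjective Q').symm
        rcases Ideal.map_eq_top_or_isMaximal_of_surjective
          (Ideal.Quotient.mk (H6.FlatDepth.mS R S)) Ideal.Quotient.mk_surjective hQmax with h3 | h3
        · exfalso
          rw [← h2] at h3
          exact hQ'.ne_top h3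
        · rw [h2]
          exact h3
      haveI : (IsLocalRing.maximalIdeal S).LiesOver (IsLocalRing.maximalIdeal R) :=
        ⟨hcomap.symm⟩
      have h1 := Ideal.height_le_height_add_of_liesOver (IsLocalRing.maximalIdeal R)
        (IsLocalRing.maximalIdeal S)
      have h2 : ((IsLocalRing.maximalIdeal S).map (Ideal.Quotient.mk
          ((IsLocalRing.maximalIdeal R).map (algebraMap R S)))).height = 0 := by
        have hne : (IsLocalRing.maximalIdeal S).map (Ideal.Quotient.mk
            ((IsLocalRing.maximalIdeal R).map (algebraMap R S))) ≠ ⊤ := by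
          intro htop
          have h3 := congrArg (Ideal.comap (Ideal.Quotient.mk
            ((IsLocalRing.maximalIdeal R).map (algebraMap R S)))) htop
          rw [Ideal.comap_map_of_surjective _ Ideal.Quotient.mk_surjective, Ideal.comap_top,
            ← RingHom.ker_eq_comap_bot, Ideal.mk_ker, sup_of_le_left hle] at h3
          exact (IsLocalRing.maximalIdeal.isMaximal S).ne_top h3
        have h3 := Ideal.height_le_ringKrullDim_of_ne_top hne
        have h4 : ringKrullDim (S ⧸ H6.FlatDepth.mS R S) ≤ 0 := Ring.krullDimLE_iff.mp hK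
        have h5 := h3.trans h4
        have h6 : (((IsLocalRing.maximalIdeal S).map (Ideal.Quotient.mk
            ((IsLocalRing.maximalIdeal R).map (algebraMap R S)))).height : WithBot ℕ∞) ≤
              ((0 : ℕ∞) : WithBot ℕ∞) := h5
        exact le_antisymm (WithBot.coe_le_coe.mp h6) bot_le
      rw [h2, add_zero] at h1
      rw [← IsLocalRing.maximalIdeal_height_eq_ringKrullDim,
        ← IsLocalRing.maximalIdeal_height_eq_ringKrullDim]
      exact WithBot.coe_le_coe.mpr h1
    · exact hle'
  -- conclusion
  rw [hdR] at hCM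
  replace hCM : ringKrullDim R = ((dR : ℕ) : WithBot ℕ∞) := hCM
  rw [hdS, hdR] at hdepth
  have h1 : ((dS : ℕ) : WithBot ℕ∞) ≤ ((dR : ℕ) : WithBot ℕ∞) := by
    rw [← hCM]
    exact hdSle.trans hdim
  have h2 : dS ≤ dR := by exact_mod_cast h1
  have h3 : (dR : ℕ∞) ≤ dS := by
    rw [hdepth]
    exact le_self_add
  have h4 : dR ≤ dS := by exact_mod_cast h3
  have h5 : dS = dR := le_antisymm h2 h4
  have h6 : ringKrullDim S = ((dS : ℕ) : WithBot ℕ∞) := by
    apply le_antisymm _ hdSle
    rw [h5, ← hCM]
    exact hdim
  refine ⟨⟨?_⟩, ?_⟩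
  · rw [Module.supportDim_self_eq_ringKrullDim, h6, hdS]
    rfl
  · rw [hCM, h6, h5]

end Groth.Agent.S9129
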