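import Groth.Statements.S9134
import Groth.Agent.Lib.Helper3.CA.KrullAkizuki1

set_option autoImplicit false
universe u
open CAlg

namespace Groth.Agent.S9134

/-- Let R be a Noetherian domain of dimension one with fraction field K, M an R-submodule of K^r, and x
a nonzero element of R. Then M/xM has finite length over R. -/
theorem result (R : Type u) [CommRing R] [IsDomain R]
    [IsNoetherianRing R] (hdim : ringKrullDim R = 1) (K : Type u) [Field K] [Algebra R K]
    [IsFractionRing R K] (r : ℕ) (M : Submodule R (Fin r → K)) (x : R) (hx : x ≠ 0) :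
    Module.length R (M ⧸ (Ideal.span ({x} : Set R) • (⊤ : Submodule R M))) ≠ ⊤ := by
  haveI : Ring.KrullDimLE 1 R := (Order.krullDimLE_iff _ _).mpr hdim.le
  have h := Groth.Agent.H3.KA.rl_sm_ne_top (K := K) M hx
  unfold Groth.Agent.H3.KA.rl at h
  have heq : (Ideal.span ({x} : Set R) • (⊤ : Submodule R M)) =
      (Groth.Agent.H3.KA.sm x M).submoduleOf M := by
    rw [Submodule.ideal_span_singleton_smul]
    ext m
    constructor
    · intro hm
      obtain ⟨m', -, rfl⟩ := (Submodule.mem_smul_pointwise_iff_exists _ _ _).mp hm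
      exact Groth.Agent.H3.KA.mem_sm.mpr ⟨m', m'.2, rfl⟩
    · intro hm
      obtain ⟨n, hn, hnm⟩ := Groth.Agent.H3.KA.mem_sm.mp hm
      exact (Submodule.mem_smul_pointwise_iff_exists _ _ _).mpr
        ⟨⟨n, hn⟩, trivial, Subtype.ext hnm⟩
  rw [heq]
  exact h

end Groth.Agent.S9134
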