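import Groth.Statements.S9137
import Groth.Agent.Lib.Helper8.ZMTLocal
-- import your own Groth.Agent.* helpers here

set_option autoImplicit false
universe u
open CAlg

namespace Groth.Agent.S9137
open Groth.Agent.H8.ZMT IsLocalRing

/-- Let R → S be a local ring homomorphism between local rings, essentially of finite type, such that
the residue field of S is finite over that of R and S/m_R S has dimension zero. Then S is, as an
R-algebra, the localization of a finite R-algebra at a prime. -/
theorem result (R S : Type u) [CommRing R] [CommRing S]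
    [IsLocalRing R] [IsLocalRing S] [Algebra R S] [IsLocalHom (algebraMap R S)]
    [Algebra.EssFiniteType R S]
    (hres : Module.Finite (IsLocalRing.ResidueField R) (IsLocalRing.ResidueField S))
    (hdim : ringKrullDim (S ⧸ (IsLocalRing.maximalIdeal R).map (algebraMap R S)) = 0) :
    ∃ (S' : Type u) (_ : CommRing S') (_ : Algebra R S') (_ : Algebra S' S) (_ : IsScalarTower R S' S)
      (q : Ideal S') (_ : q.IsPrime), Module.Finite R S' ∧ IsLocalization.AtPrime S q := by
  obtain ⟨σ, hσ⟩ := (_root_.Algebra.essFiniteType_iff (R := R) (S := S)).mp ‹Algebra.EssFiniteType R S›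
  obtain ⟨T, hT⟩ : ∃ T : Subalgebra R S, T = Algebra.adjoin R (σ : Set S) := ⟨_, rfl⟩
  rw [← hT] at hσ
  haveI hTft : Algebra.FiniteType R T := hT ▸ Algebra.FiniteType.adjoin_of_finite σ.finite_toSet
  obtain ⟨q, hq⟩ : ∃ q : Ideal T, q = (maximalIdeal S).comap (algebraMap T S) := ⟨_, rfl⟩
  haveI : q.IsPrime := hq ▸ Ideal.comap_isPrime _ _
  haveI := weaklyQuasiFiniteAt_of_subalgebra R S hres hdim T hσ q hq
  obtain ⟨S', hS', r, hrq, hbij⟩ :=
    Algebra.QuasiFiniteAt.exists_fg_and_exists_notMem_and_awayMap_bijective (R := R) q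
  have hsurj := Localization.awayMap_surjective_iff.mp hbij.2
  letI algS'S : Algebra S' S := ((algebraMap T S).comp S'.val.toRingHom).toAlgebra
  haveI hst : IsScalarTower R S' S := IsScalarTower.of_algebraMap_eq fun x => rfl
  have hmap : ∀ y : S', algebraMap S' S y = ((y : T) : S) := fun y => rfl
  haveI : Module.Finite R S' := ⟨(Submodule.fg_top _).mpr hS'⟩
  have hrS : IsUnit (((r : T) : S)) := by
    have : ((r : T) : S) ∉ maximalIdeal S := by
      intro h; exact hrq (by rw [hq]; exact h)
    simpa using this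
  refine ⟨S', inferInstance, inferInstance, algS'S, hst,
    (maximalIdeal S).comap (algebraMap S' S), Ideal.comap_isPrime _ _, inferInstance, ?_⟩
  rw [IsLocalization.AtPrime, isLocalization_iff]
  refine ⟨?_, ?_, ?_⟩
  · rintro ⟨y, hy⟩
    have : algebraMap S' S y ∉ maximalIdeal S := hy
    simpa using this
  · intro z
    obtain ⟨t, htT, htu, hzt⟩ := hσ z
    obtain ⟨b₁, m₁, h₁⟩ := hsurj ⟨z * t, hzt⟩
    obtain ⟨b₂, m₂, h₂⟩ := hsurj ⟨t, htT⟩
    have h₁' : ((b₁ : T) : S) = ((r : T) : S) ^ m₁ * (z * t) := by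
      have := congrArg (fun x : T => (x : S)) h₁
      simpa using this
    have h₂' : ((b₂ : T) : S) = ((r : T) : S) ^ m₂ * t := by
      have := congrArg (fun x : T => (x : S)) h₂
      simpa using this
    have hden : algebraMap S' S (r ^ m₁ * b₂) ∉ maximalIdeal S := by
      rw [hmap]
      have : IsUnit ((((r ^ m₁ * b₂ : S') : T) : S)) := by
        push_cast
        rw [h₂']
        exact (hrS.pow _).mul ((hrS.pow _).mul htu)
      simpa using this
    refine ⟨(r ^ m₂ * b₁, ⟨r ^ m₁ * b₂, hden⟩), ?_⟩
    show z * algebraMap S' S (r ^ m₁ * b₂) = algebraMap S' S (r ^ m₂ * b₁)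
    rw [hmap, hmap]
    push_cast
    rw [h₁', h₂']
    ring
  · intro x y hxy
    refine ⟨1, ?_⟩
    rw [hmap, hmap] at hxy
    have : (x : T) = (y : T) := Subtype.ext hxy
    rw [Subtype.ext this]

end Groth.Agent.S9137
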