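import Groth.Statements.S9144
import Groth.Agent.Lib.Helper8.CI.CILocal2
-- import your own Groth.Agent.* helpers here

set_option autoImplicit false
universe u
open Synt

namespace Groth.Agent.S9144

/-- For a finite type algebra S over a field k and a prime q of S, the local ring S_q is a complete
intersection over k if and only if some basic open neighbourhood S_g (g ∉ q) is a local complete
intersection over k, if and only if some S_g (g ∉ q) is a global complete intersection over k. -/
theorem result (k S : Type u) [Field k] [CommRing S] [Algebra k S]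
    [Algebra.FiniteType k S] (q : Ideal S) [q.IsPrime] :
    (Synt.IsCIOver k (Localization.AtPrime q) ↔ ∃ g : S, g ∉ q ∧ Synt.IsLCIOver k (Localization.Away g)) ∧
      (Synt.IsCIOver k (Localization.AtPrime q) ↔
        ∃ g : S, g ∉ q ∧ Synt.IsGlobalCI k (Localization.Away g)) := by
  open Groth.Agent.H8.CILocal in
  have hb : Synt.IsCIOver k (Localization.AtPrime q) ↔
      ∃ g : S, g ∉ q ∧ Synt.IsGlobalCI k (Localization.Away g) :=
    isCIOver_iff_hasCIPres.trans (hasCIPres_iff_exists_isGlobalCI q)
  refine ⟨⟨?_, ?_⟩, hb⟩
  · intro h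
    obtain ⟨g, hg, hgci⟩ := hb.mp h
    exact ⟨g, hg, isLCIOver_of_isGlobalCI _
      (Algebra.FiniteType.trans (S := S) inferInstance inferInstance) hgci⟩
  · rintro ⟨g, hg, hlci⟩
    obtain ⟨a, ha, ⟨e⟩⟩ := exists_algEquiv_atPrime_away (k := k) q
      (B := Localization.AtPrime q) g hg
    exact isCIOver_of_isLCIOver a hlci e

end Groth.Agent.S9144
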