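import Groth.Statements.S9158
import Groth.Agent.Lib.Helper1.GenFreeLoc

set_option autoImplicit false
universe u
open CAlg

namespace Groth.Agent.S9158

/-- Generic freeness over a reduced ring: let R → S be of finite type with R reduced and M a finite
S-module. There is a dense open subset U of Spec R such that each point of U lies in a basic open
D(f) ⊆ U with M_f and S_f free over R_f, S_f of finite presentation over R_f, and M_f of finite
presentation over S_f. -/
theorem result (R S : Type u) [CommRing R] [IsReduced R] [CommRing S]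
    [Algebra R S] [Algebra.FiniteType R S] (M : Type u) [AddCommGroup M] [Module S M] [Module R M]
    [IsScalarTower R S M] [Module.Finite S M] :
    ∃ U : Set (PrimeSpectrum R), IsOpen U ∧ Dense U ∧ ∀ u ∈ U, ∃ f : R, f ∉ u.asIdeal ∧
      (PrimeSpectrum.basicOpen f : Set (PrimeSpectrum R)) ⊆ U ∧
      Module.Free (Localization.Away f) (LocalizedModule (Submonoid.powers f) M) ∧
      Module.Free (Localization.Away f) (LocalizedModule (Submonoid.powers f) S) ∧
      (Localization.awayMap (algebraMap R S) f).FinitePresentation ∧
      Module.FinitePresentation (Localization.Away (algebraMap R S f))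
        (LocalizedModule (Submonoid.powers (algebraMap R S f)) M) := by
  set U : Set (PrimeSpectrum R) :=
    ⋃ f ∈ {f : R | Groth.Agent.H1.GenFree.Good R S M f},
      (PrimeSpectrum.basicOpen f : Set (PrimeSpectrum R)) with hU
  refine ⟨U, ?_, ?_, ?_⟩
  · exact isOpen_biUnion (fun f _ => (PrimeSpectrum.basicOpen f).isOpen)
  · rw [dense_iff_inter_open]
    intro W hW hne
    obtain ⟨x, hx⟩ := hne
    obtain ⟨_, ⟨g, rfl⟩, hxg, hgW⟩ :=
      PrimeSpectrum.isTopologicalBasis_basic_opens.exists_subset_of_mem_open hx hW
    have hg : g ≠ 0 := by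
      rintro rfl
      simp at hxg
    obtain ⟨f, hf, hgood⟩ := Groth.Agent.H1.GenFree.exists_good (R := R) (S := S) (M := M) g hg
    have hnn : ¬ IsNilpotent (g * f) := fun h => hf h.eq_zero
    have hne : (PrimeSpectrum.basicOpen (g * f) : Set (PrimeSpectrum R)).Nonempty := by
      by_contra hcon
      rw [Set.not_nonempty_iff_eq_empty] at hcon
      apply hnn
      rw [← PrimeSpectrum.basicOpen_eq_bot_iff]
      exact TopologicalSpace.Opens.ext hcon
    obtain ⟨y, hy⟩ := hne
    refine ⟨y, hgW ?_, ?_⟩
    · exact PrimeSpectrum.basicOpen_mul_le_left g f hy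
    · rw [hU]
      exact Set.mem_biUnion (show g * f ∈ {f : R | Groth.Agent.H1.GenFree.Good R S M f} from hgood) hy
  · intro u hu
    rw [hU] at hu
    obtain ⟨f, hf, huf⟩ := Set.mem_iUnion₂.mp hu
    refine ⟨f, huf, ?_, hf.free_localizedModule, hf.free_localizedModule_self,
      hf.finitePresentation_awayMap, hf.finitePresentation_localizedModule⟩
    exact Set.subset_biUnion_of_mem (u := fun f => (PrimeSpectrum.basicOpen f : Set (PrimeSpectrum R))) hf

end Groth.Agent.S9158
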