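import Groth.Statements.S9161
import Mathlib.Tactic.Abel
import Mathlib.Tactic.Ring
import Mathlib.LinearAlgebra.Prod

set_option autoImplicit false
universe u
open CAlg

namespace Groth.Agent.S9161

/-- If two two-term complexes of R-modules A₁ → A₀ and B₁ → B₀ are homotopy equivalent (maps of
complexes both ways whose composites are homotopic to the identity maps), then A₁ ⊕ B₀ and B₁ ⊕ A₀
are isomorphic R-modules. -/
theorem result (R : Type u) [CommRing R]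
    (A₁ A₀ B₁ B₀ : Type u) [AddCommGroup A₁] [Module R A₁] [AddCommGroup A₀] [Module R A₀]
    [AddCommGroup B₁] [Module R B₁] [AddCommGroup B₀] [Module R B₀]
    (dA : A₁ →ₗ[R] A₀) (dB : B₁ →ₗ[R] B₀) (φ₁ : A₁ →ₗ[R] B₁) (φ₀ : A₀ →ₗ[R] B₀)
    (ψ₁ : B₁ →ₗ[R] A₁) (ψ₀ : B₀ →ₗ[R] A₀) (hφ : dB ∘ₗ φ₁ = φ₀ ∘ₗ dA) (hψ : dA ∘ₗ ψ₁ = ψ₀ ∘ₗ dB)
    (h : A₀ →ₗ[R] A₁) (hh₁ : LinearMap.id - ψ₁ ∘ₗ φ₁ = h ∘ₗ dA) (hh₀ : LinearMap.id - ψ₀ ∘ₗ φ₀ = dA ∘ₗ h)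
    (h' : B₀ →ₗ[R] B₁) (hh'₁ : LinearMap.id - φ₁ ∘ₗ ψ₁ = h' ∘ₗ dB)
    (hh'₀ : LinearMap.id - φ₀ ∘ₗ ψ₀ = dB ∘ₗ h') :
    Nonempty ((A₁ × B₀) ≃ₗ[R] (B₁ × A₀)) := by
  -- F(a, b) = (φ₁ a + h' b, dA a - ψ₀ b),  G(b, a) = (ψ₁ b + h a, dB b - φ₀ a)
  have e1 : ∀ a, ψ₁ (φ₁ a) + h (dA a) = a := by
    intro a
    have := LinearMap.congr_fun hh₁ a
    simp only [LinearMap.sub_apply, LinearMap.id_apply, LinearMap.comp_apply] at this
    rw [← this]; abel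
  have e2 : ∀ b, dB (h' b) + φ₀ (ψ₀ b) = b := by
    intro b
    have := LinearMap.congr_fun hh'₀ b
    simp only [LinearMap.sub_apply, LinearMap.id_apply, LinearMap.comp_apply] at this
    rw [← this]; abel
  have e3 : ∀ a, dB (φ₁ a) = φ₀ (dA a) := fun a => LinearMap.congr_fun hφ a
  have e4 : ∀ b, dA (ψ₁ b) = ψ₀ (dB b) := fun b => LinearMap.congr_fun hψ b
  have e5 : ∀ b, φ₁ (ψ₁ b) + h' (dB b) = b := by
    intro b
    have := LinearMap.congr_fun hh'₁ b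
    simp only [LinearMap.sub_apply, LinearMap.id_apply, LinearMap.comp_apply] at this
    rw [← this]; abel
  have e6 : ∀ a, dA (h a) + ψ₀ (φ₀ a) = a := by
    intro a
    have := LinearMap.congr_fun hh₀ a
    simp only [LinearMap.sub_apply, LinearMap.id_apply, LinearMap.comp_apply] at this
    rw [← this]; abel
  obtain ⟨F, hF⟩ : ∃ F : (A₁ × B₀) →ₗ[R] (B₁ × A₀),
      ∀ a b, F (a, b) = (φ₁ a + h' b, dA a - ψ₀ b) :=
    ⟨LinearMap.prod (φ₁.coprod h') (dA.coprod (-ψ₀)), fun a b => by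
      simp [sub_eq_add_neg]⟩
  obtain ⟨G, hG⟩ : ∃ G : (B₁ × A₀) →ₗ[R] (A₁ × B₀),
      ∀ b a, G (b, a) = (ψ₁ b + h a, dB b - φ₀ a) :=
    ⟨LinearMap.prod (ψ₁.coprod h) (dB.coprod (-φ₀)), fun b a => by
      simp [sub_eq_add_neg]⟩
  have hGF : ∀ a b, G (F (a, b)) = (a + (ψ₁ (h' b) - h (ψ₀ b)), b) := by
    intro a b
    rw [hF, hG]
    ext
    · simp only [map_add, map_sub]
      calc ψ₁ (φ₁ a) + ψ₁ (h' b) + (h (dA a) - h (ψ₀ b))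
          = (ψ₁ (φ₁ a) + h (dA a)) + (ψ₁ (h' b) - h (ψ₀ b)) := by abel
        _ = a + (ψ₁ (h' b) - h (ψ₀ b)) := by rw [e1 a]
    · simp only [map_add, map_sub]
      calc dB (φ₁ a) + dB (h' b) - (φ₀ (dA a) - φ₀ (ψ₀ b))
          = (dB (φ₁ a) - φ₀ (dA a)) + (dB (h' b) + φ₀ (ψ₀ b)) := by abel
        _ = b := by rw [e2 b, e3 a]; abel
  have hFG : ∀ b a, F (G (b, a)) = (b + (φ₁ (h a) - h' (φ₀ a)), a) := by
    intro b a
    rw [hG, hF]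
    ext
    · simp only [map_add, map_sub]
      calc φ₁ (ψ₁ b) + φ₁ (h a) + (h' (dB b) - h' (φ₀ a))
          = (φ₁ (ψ₁ b) + h' (dB b)) + (φ₁ (h a) - h' (φ₀ a)) := by abel
        _ = b + (φ₁ (h a) - h' (φ₀ a)) := by rw [e5 b]
    · simp only [map_add, map_sub]
      calc dA (ψ₁ b) + dA (h a) - (ψ₀ (dB b) - ψ₀ (φ₀ a))
          = (dA (ψ₁ b) - ψ₀ (dB b)) + (dA (h a) + ψ₀ (φ₀ a)) := by abel
        _ = a := by rw [e6 a, e4 b]; abel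
  have hinj : Function.Injective F := by
    rintro ⟨a, b⟩ ⟨a', b'⟩ hxy
    have h1 := congrArg G hxy
    rw [hGF, hGF] at h1
    have hb : b = b' := congrArg Prod.snd h1
    have ha := congrArg Prod.fst h1
    subst hb
    simp only [add_left_inj] at ha
    rw [ha]
  have hsurj : Function.Surjective F := by
    rintro ⟨b, a⟩
    refine ⟨G (b - (φ₁ (h a) - h' (φ₀ a)), a), ?_⟩
    rw [hFG]
    ext
    · simp
    · rfl
  exact ⟨LinearEquiv.ofBijective F ⟨hinj, hsurj⟩⟩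

end Groth.Agent.S9161
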