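import Groth.Statements.S9163
import Mathlib.Algebra.Polynomial.Lifts
import Mathlib.RingTheory.Adjoin.FG
import Mathlib.RingTheory.IntegralClosure.IsIntegral.Basic

set_option autoImplicit false
universe u
open CAlg

namespace Groth.Agent.S9163

/-- If S is integral over R, then any finitely many elements of R and of S lie in a pair R₀ ⊆ R, S₀ ⊆ S
with R₀ a finite type ℤ-subalgebra, S₀ an R₀-subalgebra of S, and S₀ finite as an R₀-module; so R →
S is the directed colimit of finite maps between finite type ℤ-algebras. -/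
theorem result (R S : Type u) [CommRing R] [CommRing S] [Algebra R S]
    [Algebra.IsIntegral R S] (E : Finset R) (F : Finset S) :
    ∃ (R₀ : Subalgebra ℤ R) (S₀ : Subalgebra R₀ S), Algebra.FiniteType ℤ R₀ ∧ (E : Set R) ⊆ R₀ ∧
      (F : Set S) ⊆ S₀ ∧ Module.Finite R₀ S₀ := by
  classical
  choose p hpm hp0 using fun f : S => (Algebra.IsIntegral.isIntegral (R := R) f : IsIntegral R f)
  let T : Finset R := E ∪ F.biUnion fun f => (p f).coeffs
  let R₀ : Subalgebra ℤ R := Algebra.adjoin ℤ (T : Set R)
  have hT : ∀ x ∈ T, x ∈ R₀ := fun x hx => Algebra.subset_adjoin hx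
  refine ⟨R₀, Algebra.adjoin R₀ (F : Set S), ?_, ?_, Algebra.subset_adjoin, ?_⟩
  · constructor
    rw [Subalgebra.fg_top]
    exact ⟨T, rfl⟩
  · intro x hx
    exact hT x (Finset.mem_union_left _ hx)
  · apply Algebra.finite_adjoin_of_finite_of_isIntegral F.finite_toSet
    intro f hf
    have hlift : p f ∈ Polynomial.lifts (algebraMap R₀ R) := by
      rw [Polynomial.lifts_iff_coeff_lifts]
      intro n
      by_cases hc : (p f).coeff n = 0
      · exact ⟨0, by rw [map_zero, hc]⟩
      · have hmem : (p f).coeff n ∈ (p f).coeffs := Polynomial.coeff_mem_coeffs hc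
        have : (p f).coeff n ∈ T :=
          Finset.mem_union_right _ (Finset.mem_biUnion.mpr ⟨f, hf, hmem⟩)
        exact ⟨⟨_, hT _ this⟩, rfl⟩
    obtain ⟨q, hq, -, hqm⟩ := Polynomial.lifts_and_natDegree_eq_and_monic hlift (hpm f)
    refine ⟨q, hqm, ?_⟩
    have := hp0 f
    rw [← hq, Polynomial.eval₂_map] at this
    rw [IsScalarTower.algebraMap_eq R₀ R S]
    exact this

end Groth.Agent.S9163
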