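import Groth.Statements.S9179
import Groth.Agent.Lib.Helper5.Lim.FPConverse

set_option autoImplicit false
universe u
open CategoryTheory CategoryTheory.Limits
open CAlg

namespace Groth.Agent.S9179

/-- An R-algebra of finite type is the colimit of a filtered system of finitely presented R-algebras
whose transition maps are all surjective. -/
theorem result (R A : Type u) [CommRing R] [CommRing A]
    [Algebra R A] [Algebra.FiniteType R A] :
    ∃ (I : Type u) (_ : SmallCategory I) (_ : IsFiltered I) (D : I ⥤ Under (CommRingCat.of R))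
      (c : Cocone D) (_ : IsColimit c),
      (∀ i, (D.obj i).hom.hom.FinitePresentation) ∧
      (∀ (i j : I) (φ : i ⟶ j), Function.Surjective (D.map φ).right.hom) ∧
      Nonempty (c.pt ≅ Under.mk (CommRingCat.ofHom (algebraMap R A))) := by
  obtain ⟨n, π, hπ⟩ := Algebra.FiniteType.iff_quotient_mvPolynomial''.1
    (inferInstance : Algebra.FiniteType R A)
  let f : CommRingCat.of R ⟶ CommRingCat.of A := CommRingCat.ofHom (algebraMap R A)
  have hπC : π.toRingHom.comp MvPolynomial.C = f.hom := by
    ext a
    exact π.commutes a
  haveI := Groth.Agent.H5.FPConv.fgIdeal_isDirected (A := CommRingCat.of R)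
    (B := CommRingCat.of A) π.toRingHom
  haveI := Groth.Agent.H5.FPConv.fgIdeal_nonempty (A := CommRingCat.of R)
    (B := CommRingCat.of A) π.toRingHom
  refine ⟨Groth.Agent.H5.FPConv.FGIdeal (A := CommRingCat.of R) (B := CommRingCat.of A) π.toRingHom,
    inferInstance, inferInstance,
    Groth.Agent.H5.FPConv.fpDiagram (A := CommRingCat.of R) (B := CommRingCat.of A) π.toRingHom,
    Groth.Agent.H5.FPConv.fpCocone f π.toRingHom hπC,
    Groth.Agent.H5.FPConv.isColimitFpCocone f π.toRingHom hπC hπ, ?_, ?_, ⟨Iso.refl _⟩⟩
  · intro K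
    have h1 : Algebra.FinitePresentation R (MvPolynomial (Fin n) R ⧸ K.1) :=
      Algebra.FinitePresentation.quotient K.2.1
    exact RingHom.finitePresentation_algebraMap.2 h1
  · intro K K' φ
    exact Ideal.Quotient.factor_surjective (leOfHom φ)

end Groth.Agent.S9179
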