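import Groth.Statements.S9201
import Groth.Agent.S0594
import Groth.Agent.Lib.Helper5.Lim.DescendImmersion

set_option autoImplicit false
universe u
open CategoryTheory AlgebraicGeometry
open Lim

namespace Groth.Agent.S9201

/-- Let S be a quasi-separated scheme and X = lim X_i a cofiltered limit of S-schemes X_i (a diagram
with a compatible family of structure maps to S) whose transition morphisms are closed immersions,
every X_i quasi-compact, quasi-separated and locally of finite type over S; the structure map X → S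
is the composite X → X_{i₀} → S for any index i₀. If X → S is an immersion, then X_i → S is an
immersion for all i beyond some index i₁. -/
theorem result {I : Type u} [SmallCategory I] [IsCofiltered I] (S : Scheme.{u}) [QuasiSeparatedSpace S]
    (D : I ⥤ Scheme.{u}) (t : D ⟶ (Functor.const I).obj S) (c : Limits.Cone D) (hc : Limits.IsLimit c)
    [∀ (i j : I) (a : i ⟶ j), IsClosedImmersion (D.map a)]
    [∀ i, CompactSpace (D.obj i)] [∀ i, QuasiSeparatedSpace (D.obj i)]
    [∀ i, LocallyOfFiniteType (t.app i)] (i₀ : I)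
    [IsImmersion (c.π.app i₀ ≫ t.app i₀)] :
    ∃ i₁ : I, ∀ (i : I) (_ : i ⟶ i₁), IsImmersion (t.app i) := by
  classical
  have hD : ∀ {i j : I} (a : i ⟶ j), IsClosedImmersion (D.map a) := fun a => inferInstance
  have hnat : ∀ {i j : I} (a : i ⟶ j), D.map a ≫ t.app j = t.app i := by
    intro i j a
    have := t.naturality a
    simpa using this
  have hcpt : CompactSpace c.pt := Scheme.compactSpace_of_isLimit D c hc
  obtain ⟨F, hF⟩ : ∃ F : c.pt ⟶ S, F = c.π.app i₀ ≫ t.app i₀ := ⟨_, rfl⟩
  have hFimm : IsImmersion F := by rw [hF]; infer_instance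
  obtain ⟨U, hUc, hFU, hcl⟩ := Groth.Agent.H5.Lim.exists_opens_isClosedImmersion F
  -- some stage maps into `U`
  have h1 : c.π.app i₀ ⁻¹ᵁ (t.app i₀ ⁻¹ᵁ U) = ⊤ := by
    rw [← Scheme.Hom.comp_preimage, ← hF, hFU]
  obtain ⟨i₁, a₁, hi₁⟩ := exists_map_eq_top D c hc (t.app i₀ ⁻¹ᵁ U) h1
  have hi₁' : t.app i₁ ⁻¹ᵁ U = ⊤ := by
    rw [← hnat a₁, Scheme.Hom.comp_preimage, hi₁]
  have htop : ∀ k : Over i₁, t.app k.left ⁻¹ᵁ U = ⊤ := fun k => by
    rw [← hnat k.hom, Scheme.Hom.comp_preimage, hi₁']
    rfl
  have hrange : ∀ k : Over i₁, Set.range (t.app k.left) ⊆ Set.range U.ι := fun k => by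
    rintro _ ⟨x, rfl⟩
    have : x ∈ t.app k.left ⁻¹ᵁ U := by rw [htop k]; trivial
    simpa using this
  let tt : ∀ k : Over i₁, D.obj k.left ⟶ U.toScheme := fun k =>
    IsOpenImmersion.lift U.ι (t.app k.left) (hrange k)
  have htt : ∀ k, tt k ≫ U.ι = t.app k.left := fun k => IsOpenImmersion.lift_fac _ _ _
  let t' : (Over.forget i₁ ⋙ D) ⟶ (Functor.const (Over i₁)).obj U.toScheme :=
    { app := tt
      naturality := fun j k φ => by
        simp only [Functor.comp_obj, Over.forget_obj, Functor.const_obj_obj, Functor.comp_map,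
          Over.forget_map, Functor.const_obj_map, Category.comp_id]
        rw [← cancel_mono U.ι, Category.assoc, htt, htt, hnat] }
  have hc' : Limits.IsLimit (c.whisker (Over.forget i₁)) :=
    (Functor.Initial.isLimitWhiskerEquiv (Over.forget i₁) c).symm hc
  have hUcomp : CompactSpace U.toScheme := isCompact_iff_compactSpace.mp hUc
  have hUqs : QuasiSeparatedSpace U.toScheme := quasiSeparatedSpace_of_quasiSeparated U.ι
  have h2 : ∀ (j k : Over i₁) (φ : j ⟶ k), IsClosedImmersion ((Over.forget i₁ ⋙ D).map φ) :=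
    fun j k φ => hD φ.left
  have h3 : ∀ k : Over i₁, CompactSpace ((Over.forget i₁ ⋙ D).obj k) := fun k =>
    inferInstanceAs (CompactSpace (D.obj k.left))
  have h4 : ∀ k : Over i₁, QuasiSeparatedSpace ((Over.forget i₁ ⋙ D).obj k) := fun k =>
    inferInstanceAs (QuasiSeparatedSpace (D.obj k.left))
  have h5 : ∀ k : Over i₁, LocallyOfFiniteType (t'.app k) := fun k => by
    have : LocallyOfFiniteType (tt k ≫ U.ι) := by rw [htt]; infer_instance
    exact locallyOfFiniteType_of_comp (tt k) U.ι
  let k₀ : Over i₁ := Over.mk (𝟙 i₁)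
  have h6 : IsClosedImmersion ((c.whisker (Over.forget i₁)).π.app k₀ ≫ t'.app k₀) := by
    have hfst : IsIso (Limits.pullback.fst F U.ι) := by
      have : Surjective (Limits.pullback.fst F U.ι) := by
        rw [surjective_iff, ← Set.range_eq_univ, Scheme.Pullback.range_fst]
        ext x
        have : x ∈ F ⁻¹ᵁ U := by rw [hFU]; trivial
        simpa using this
      exact (isIso_iff_isOpenImmersion_and_surjective _).mpr ⟨inferInstance, this⟩
    have e : (c.whisker (Over.forget i₁)).π.app k₀ ≫ t'.app k₀ =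
        inv (Limits.pullback.fst F U.ι) ≫ Limits.pullback.snd F U.ι := by
      rw [← cancel_mono U.ι, Category.assoc, Category.assoc, ← Limits.pullback.condition,
        IsIso.inv_hom_id_assoc]
      change c.π.app i₁ ≫ tt k₀ ≫ U.ι = F
      rw [htt, hF]
      change c.π.app i₁ ≫ t.app i₁ = _
      rw [← hnat a₁, ← Category.assoc, c.w]
    rw [e]
    infer_instance
  obtain ⟨k, hk⟩ := Groth.Agent.S0594.result U.toScheme (Over.forget i₁ ⋙ D) t'
    (c.whisker (Over.forget i₁)) hc' k₀
  refine ⟨k.left, fun i φ => ?_⟩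
  have h7 : IsClosedImmersion (tt k) := hk
  rw [← hnat φ, ← htt k]
  infer_instance

end Groth.Agent.S9201
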