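import Groth.Statements.S9219
import Groth.Agent.Lib.Helper5.Lim.BaseChangeSystem

set_option autoImplicit false
universe u
open CategoryTheory CategoryTheory.Limits AlgebraicGeometry
open Lim

namespace Groth.Agent.S9219

/-- Let S = lim S_i be a cofiltered limit of schemes with affine transition morphisms (the S_i are not
assumed quasi-compact or quasi-separated), i an index, and X_i → S_i, Y_i → S_i morphisms locally of
finite presentation with X_i, Y_i quasi-compact and quasi-separated; let X be the base change of X_i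
to S (a pullback square). If two S_i-morphisms f_i, g_i : X_i → Y_i have the same base change to S
(equivalently, the same composite with X → X_i), then for some index j over i their base changes to
S_j agree, i.e. they have the same composite with X_i ×_{S_i} S_j → X_i. This is the faithfulness
part of the equivalence between the colimit of the categories of quasi-compact quasi-separated
schemes locally of finite presentation over the S_i and the corresponding category over S. -/
theorem result {I : Type u} [SmallCategory I] [IsCofiltered I]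
    (D : I ⥤ Scheme.{u}) (c : Limits.Cone D) (hc : Limits.IsLimit c)
    [∀ (i j : I) (f : i ⟶ j), IsAffineHom (D.map f)] (i : I)
    {Xi Yi : Scheme.{u}} (xi : Xi ⟶ D.obj i) (yi : Yi ⟶ D.obj i)
    [CompactSpace Xi] [QuasiSeparatedSpace Xi] [LocallyOfFinitePresentation xi]
    [CompactSpace Yi] [QuasiSeparatedSpace Yi] [LocallyOfFinitePresentation yi]
    {X : Scheme.{u}} (qX : X ⟶ Xi) (pX : X ⟶ c.pt) (hX : IsPullback qX pX xi (c.π.app i))
    (fi gi : Xi ⟶ Yi) (hfi : fi ≫ yi = xi) (hgi : gi ≫ yi = xi) (h : qX ≫ fi = qX ≫ gi) :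
    ∃ (j : I) (φ : j ⟶ i), pullback.fst xi (D.map φ) ≫ fi = pullback.fst xi (D.map φ) ≫ gi := by
  have hDm : ∀ {j k : I} (f : j ⟶ k), IsAffineHom (D.map f) := fun f => inferInstance
  have hcp : ∀ j : Over i, CompactSpace ↥((Groth.Agent.H5.Lim.bcDiagram D xi).obj j) :=
    fun j => Groth.Agent.H5.Lim.compactSpace_bcDiagram_obj D xi j inferInstance
  have haff : ∀ {j k : Over i} (φ : j ⟶ k),
      IsAffineHom ((Groth.Agent.H5.Lim.bcDiagram D xi).map φ) :=
    fun φ => Groth.Agent.H5.Lim.isAffineHom_bcMap D xi φ inferInstance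
  have hft : LocallyOfFiniteType yi := inferInstance
  let t' : Groth.Agent.H5.Lim.bcDiagram D xi ⟶ (Functor.const (Over i)).obj (D.obj i) :=
    Groth.Agent.H5.Lim.bcDiagramFst D xi ≫ (Functor.const (Over i)).map xi
  let o : Over i := Over.mk (𝟙 i)
  have hfst : pullback.fst xi (c.π.app i) = hX.isoPullback.inv ≫ qX := by
    rw [Iso.eq_inv_comp, hX.isoPullback_hom_fst]
  obtain ⟨k, hk, e⟩ := Scheme.exists_hom_comp_eq_comp_of_locallyOfFiniteType
    (Groth.Agent.H5.Lim.bcDiagram D xi) t' yi (Groth.Agent.H5.Lim.bcCone D c xi)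
    (Groth.Agent.H5.Lim.isLimitBcCone D c xi hc) (i := o)
    (pullback.fst xi (D.map o.hom) ≫ fi) (pullback.fst xi (D.map o.hom) ≫ gi)
    (by simp [t', hfi]) (by simp [t', hgi])
    (by
      change Groth.Agent.H5.Lim.bcProj D c xi o ≫ pullback.fst xi (D.map o.hom) ≫ fi =
        Groth.Agent.H5.Lim.bcProj D c xi o ≫ pullback.fst xi (D.map o.hom) ≫ gi
      rw [Groth.Agent.H5.Lim.bcProj_fst_assoc, Groth.Agent.H5.Lim.bcProj_fst_assoc, hfst,
        Category.assoc, Category.assoc, h])
  refine ⟨k.left, k.hom, ?_⟩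
  change Groth.Agent.H5.Lim.bcMap D xi hk ≫ pullback.fst xi (D.map o.hom) ≫ fi =
    Groth.Agent.H5.Lim.bcMap D xi hk ≫ pullback.fst xi (D.map o.hom) ≫ gi at e
  rwa [Groth.Agent.H5.Lim.bcMap_fst_assoc, Groth.Agent.H5.Lim.bcMap_fst_assoc] at e

end Groth.Agent.S9219
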