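import Groth.Statements.S9233
import Groth.Agent.Lib.Helper8.Hens.Noeth
import Groth.Agent.Lib.Helper1.ComplDepth
-- import your own Groth.Agent.* helpers here

set_option autoImplicit false
universe u
open Hensel

namespace Groth.Agent.S9233

/-- The henselization S of a Noetherian local ring R has the same depth as R. -/
theorem result (R S : Type u) [CommRing R] [IsLocalRing R] [IsNoetherianRing R]
    [CommRing S] [IsLocalRing S] [Algebra R S] [IsLocalHom (algebraMap R S)]
    [Hensel.IsHenselization R S] : LocCoh.depth S S = LocCoh.depth R R := by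
  haveI : IsNoetherianRing S := (Groth.Agent.H8.Hens.isNoetherianRing_iff_of_isHenselization S).mp ‹_›
  haveI := Groth.Agent.H8.Hens.flat_of_isHenselization (R := R) S
  refine (Groth.Agent.H1.ComplDepth.depth_dim_eq_of_fiber_dim_zero R S ?_).1
  rw [Groth.Agent.H8.Hens.map_maximalIdeal_of_isHenselization S]
  letI := Ideal.Quotient.field (IsLocalRing.maximalIdeal S)
  exact ringKrullDim_eq_zero_of_field _

end Groth.Agent.S9233
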