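import Groth.Statements.S9242
import Groth.Agent.Lib.Helper8.OneDim.Compl
-- import your own Groth.Agent.* helpers here

set_option autoImplicit false
universe u
open Brnch

namespace Groth.Agent.S9242

open Groth.Agent.H8 Groth.Agent.H8.Hens Groth.Agent.H8.Brnch Groth.Agent.H8.OneDim in

/-- Let A be a Noetherian local ring with henselization S and completion A^, let ψ : S → A^ be the ring
map compatible with the structure maps from A, and let q be a minimal prime of A^ with dim(A^/q) =
1. Then q is the radical of the extension along ψ of some minimal prime of S. -/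
theorem result (A S : Type u) [CommRing A]
    [IsLocalRing A] [IsNoetherianRing A] [CommRing S] [IsLocalRing S] [Algebra A S]
    [IsLocalHom (algebraMap A S)] [Hensel.IsHenselization A S]
    (ψ : S →+* AdicCompletion (IsLocalRing.maximalIdeal A) A)
    (hψ : ψ.comp (algebraMap A S) = algebraMap A (AdicCompletion (IsLocalRing.maximalIdeal A) A))
    (q : Ideal (AdicCompletion (IsLocalRing.maximalIdeal A) A))
    (hq : q ∈ minimalPrimes (AdicCompletion (IsLocalRing.maximalIdeal A) A))
    (hdim : ringKrullDim (AdicCompletion (IsLocalRing.maximalIdeal A) A ⧸ q) = 1) :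
    ∃ q' ∈ minimalPrimes S, (Ideal.map ψ q').radical = q := by
  haveI hS : Hensel.IsHenselization A S := inferInstance
  haveI : HenselianLocalRing S := hS.henselian
  haveI : IsNoetherianRing S := (isNoetherianRing_iff_of_isHenselization (R := A) S).mp ‹_›
  haveI hN := isNoetherianRing_adicCompletion A
  have hflat : ψ.Flat := ringHom_flat_of_isHenselization (R := A) S
    (AdicCompletion (IsLocalRing.maximalIdeal A) A) ψ hψ
  have hloc : IsLocalHom ψ := isLocalHom_of_isHenselization (R := A) S ψ (by
    rw [hψ]; infer_instance)
  letI : Algebra S (AdicCompletion (IsLocalRing.maximalIdeal A) A) := ψ.toAlgebra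
  haveI : Module.Flat S (AdicCompletion (IsLocalRing.maximalIdeal A) A) := hflat
  haveI : IsLocalHom (algebraMap S (AdicCompletion (IsLocalRing.maximalIdeal A) A)) := hloc
  haveI : Module.FaithfullyFlat S (AdicCompletion (IsLocalRing.maximalIdeal A) A) :=
    Module.FaithfullyFlat.of_flat_of_isLocalHom
  have hm : (IsLocalRing.maximalIdeal S).map (algebraMap S (AdicCompletion (IsLocalRing.maximalIdeal A) A)) =
      IsLocalRing.maximalIdeal (AdicCompletion (IsLocalRing.maximalIdeal A) A) := by
    rw [← map_maximalIdeal_of_isHenselization (R := A) S, Ideal.map_map]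
    have : (algebraMap S (AdicCompletion (IsLocalRing.maximalIdeal A) A)).comp (algebraMap A S) =
        algebraMap A (AdicCompletion (IsLocalRing.maximalIdeal A) A) := hψ
    rw [this]
    exact (AdicCompletion.maximalIdeal_eq_map (R := A)).symm
  have hres : ∀ t : AdicCompletion (IsLocalRing.maximalIdeal A) A, ∃ r : S,
      t - algebraMap S _ r ∈ IsLocalRing.maximalIdeal (AdicCompletion (IsLocalRing.maximalIdeal A) A) := by
    intro t
    obtain ⟨a, ha⟩ := exists_sub_mem_maximalIdeal_adicCompletion A t
    refine ⟨algebraMap A S a, ?_⟩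
    have : algebraMap S (AdicCompletion (IsLocalRing.maximalIdeal A) A) (algebraMap A S a) =
        algebraMap A _ a := congrArg (fun w => w a) hψ
    rw [this]; exact ha
  haveI := hq.1.1
  obtain ⟨hdim1, hne⟩ := primes_of_ringKrullDim_quotient_eq_one hdim
  have hq' := (minimalPrimes_comap_of_faithfullyFlat S
    (AdicCompletion (IsLocalRing.maximalIdeal A) A)).1 hq
  refine ⟨q.comap ψ, hq', ?_⟩
  have hQ : q ∈ ((q.comap (algebraMap S (AdicCompletion (IsLocalRing.maximalIdeal A) A))).map
      (algebraMap S (AdicCompletion (IsLocalRing.maximalIdeal A) A))).minimalPrimes :=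
    mem_minimalPrimes_map_comap (S := S) hq
  have h1 := minimalPrimes_map_eq_singleton hm hres hq' hQ hdim1 hne
  show (Ideal.map (algebraMap S (AdicCompletion (IsLocalRing.maximalIdeal A) A))
    (q.comap (algebraMap S (AdicCompletion (IsLocalRing.maximalIdeal A) A)))).radical = q
  rw [← Ideal.sInf_minimalPrimes, h1, sInf_singleton]

end Groth.Agent.S9242
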