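import Groth.Statements.S9243
import Groth.Agent.Lib.Helper8.Brnch.FlatFibres
-- import your own Groth.Agent.* helpers here

set_option autoImplicit false
universe u
open Brnch

namespace Groth.Agent.S9243

open Groth.Agent.H8 Groth.Agent.H8.Hens Groth.Agent.H8.Brnch in

/-- Let A be a Noetherian local ring with henselization S and completion A^, and ψ : S → A^ the ring map
compatible with the structure maps from A. Then A and A^ have the same number of branches if and
only if, for every minimal prime q of S, the radical of the extension of q along ψ is a prime ideal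
of A^. -/
theorem result (A S : Type u) [CommRing A] [IsLocalRing A]
    [IsNoetherianRing A] [CommRing S] [IsLocalRing S] [Algebra A S] [IsLocalHom (algebraMap A S)]
    [Hensel.IsHenselization A S] (ψ : S →+* AdicCompletion (IsLocalRing.maximalIdeal A) A)
    (hψ : ψ.comp (algebraMap A S) = algebraMap A (AdicCompletion (IsLocalRing.maximalIdeal A) A)) :
    Brnch.numBranches A = Brnch.numBranches (AdicCompletion (IsLocalRing.maximalIdeal A) A) ↔
      ∀ q ∈ minimalPrimes S, (Ideal.map ψ q).radical.IsPrime := by
  have hflat : ψ.Flat := ringHom_flat_of_isHenselization (R := A) S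
    (AdicCompletion (IsLocalRing.maximalIdeal A) A) ψ hψ
  have hloc : IsLocalHom ψ := isLocalHom_of_isHenselization (R := A) S ψ (by
    rw [hψ]; infer_instance)
  letI : Algebra S (AdicCompletion (IsLocalRing.maximalIdeal A) A) := ψ.toAlgebra
  haveI : Module.Flat S (AdicCompletion (IsLocalRing.maximalIdeal A) A) := hflat
  haveI : IsLocalHom (algebraMap S (AdicCompletion (IsLocalRing.maximalIdeal A) A)) := hloc
  haveI : Module.FaithfullyFlat S (AdicCompletion (IsLocalRing.maximalIdeal A) A) :=
    Module.FaithfullyFlat.of_flat_of_isLocalHom
  haveI hN : IsNoetherianRing (AdicCompletion (IsLocalRing.maximalIdeal A) A) := by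
    haveI : IsNoetherianRing (A ⧸ IsLocalRing.maximalIdeal A) := inferInstance
    exact isNoetherianRing_adicCompletion_of_fg A _ (IsNoetherian.noetherian _)
  haveI hH : HenselianLocalRing (AdicCompletion (IsLocalRing.maximalIdeal A) A) :=
    { is_henselian := fun f hf a₀ h₁ h₂ =>
        HenselianRing.is_henselian
          (I := IsLocalRing.maximalIdeal (AdicCompletion (IsLocalRing.maximalIdeal A) A))
          f hf a₀ h₁ (h₂.map _) }
  haveI := isHenselization_self (AdicCompletion (IsLocalRing.maximalIdeal A) A)
  rw [← card_minimalPrimes_eq_numBranches A S,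
    ← card_minimalPrimes_eq_numBranches (AdicCompletion (IsLocalRing.maximalIdeal A) A)
      (AdicCompletion (IsLocalRing.maximalIdeal A) A)]
  exact card_minimalPrimes_eq_iff_of_faithfullyFlat S (AdicCompletion (IsLocalRing.maximalIdeal A) A)
    (minimalPrimes.finite_of_isNoetherianRing _)

end Groth.Agent.S9243
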