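import Groth.Statements.S9247
import Groth.Agent.Lib.Helper3.CA.ABufd2

set_option autoImplicit false
universe u
open CAlg

namespace Groth.Agent.S9247

/-- For a regular local ring R and an element f of R, the Picard group of R_f is trivial. -/
theorem result (R : Type u) [CommRing R]
    [IsRegularLocalRing R] (f : R) : Subsingleton (CommRing.Pic (Localization.Away f)) := by
  obtain ⟨hdom, hufd⟩ := Groth.Agent.H3.ABufd.main R
  by_cases hf : f = 0
  · subst hf
    haveI : Subsingleton (Localization.Away (0 : R)) :=
      IsLocalization.subsingleton (M := Submonoid.powers (0 : R)) ⟨1, by simp⟩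
    rw [CommRing.Pic.subsingleton_iff]
    intro M _ _ _
    exact Module.Free.of_subsingleton' _ M
  · haveI : IsDomain (Localization.Away f) :=
      IsLocalization.isDomain_localization (powers_le_nonZeroDivisors_of_noZeroDivisors hf)
    haveI : UniqueFactorizationMonoid (Localization.Away f) := inferInstance
    infer_instance

end Groth.Agent.S9247
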