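import Groth.Statements.S9256
import Groth.Agent.Lib.Helper5.CA.RegHom3

set_option autoImplicit false
universe u
open CAlg

namespace Groth.Agent.S9256

/-- For a field extension K of k, the ring map k → K is regular exactly when K is separable over k, that
is, geometrically reduced over k. -/
theorem result (k K : Type u) [Field k] [Field K]
    [Algebra k K] : CAlg.IsRegularHom k K ↔ Algebra.IsGeometricallyReduced k K := by
  exact Groth.Agent.H5.RegHom.isRegularHom_field_iff k K

end Groth.Agent.S9256
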