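import Groth.Statements.S9258
import Groth.Agent.Lib.Helper5.CA.AdicFS2
import Groth.Agent.Lib.Helper2.SqZeroComplete

set_option autoImplicit false
universe u
open CAlg

namespace Groth.Agent.S9258

/-- Suppose A → B is a local map of Noetherian local rings, B is complete, and A → B is formally smooth
for the adic topology of the maximal ideal of B. Then each derivation D of A extends to a derivation
D' of B, in the sense that D' restricted along A → B equals D followed by A → B. -/
theorem result (A B : Type u) [CommRing A]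
    [CommRing B] [IsLocalRing A] [IsLocalRing B] [IsNoetherianRing A] [IsNoetherianRing B]
    [Algebra A B] [IsLocalHom (algebraMap A B)]
    [IsAdicComplete (IsLocalRing.maximalIdeal B) B]
    (hfs : CAlgX.IsAdicFormallySmooth A B (IsLocalRing.maximalIdeal B)) (D : Derivation ℤ A A) :
    ∃ D' : Derivation ℤ B B, ∀ a : A, D' (algebraMap A B a) = algebraMap A B (D a) := by
  classical
  let f : (TrivSqZeroExt B B) →+* B := (TrivSqZeroExt.fstHom B B B).toRingHom
  have hf : Function.Surjective f := fun b => ⟨TrivSqZeroExt.inl b, TrivSqZeroExt.fst_inl B b⟩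
  have hker : ∀ x : (TrivSqZeroExt B B), x ∈ RingHom.ker f ↔ x.fst = 0 := fun x => Iff.rfl
  have hsq : RingHom.ker f ^ 2 = ⊥ := by
    rw [eq_bot_iff, pow_two, Ideal.mul_le]
    intro x hx y hy
    rw [hker] at hx hy
    rw [Ideal.mem_bot]
    apply TrivSqZeroExt.ext
    · rw [TrivSqZeroExt.fst_mul, hx, zero_mul]; rfl
    · rw [TrivSqZeroExt.snd_mul, hx, hy]; simp
  have hfg : (RingHom.ker f).FG := by
    refine ⟨{TrivSqZeroExt.inr 1}, le_antisymm ?_ ?_⟩
    · rw [Ideal.span_le]
      intro x hx
      rw [Finset.coe_singleton, Set.mem_singleton_iff] at hx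
      rw [hx, SetLike.mem_coe, hker]
      exact TrivSqZeroExt.fst_inr B (1 : B)
    · intro x hx
      rw [hker] at hx
      have : x = TrivSqZeroExt.inl x.snd * TrivSqZeroExt.inr 1 := by
        apply TrivSqZeroExt.ext
        · rw [TrivSqZeroExt.fst_mul, TrivSqZeroExt.fst_inr, mul_zero, hx]
        · rw [TrivSqZeroExt.snd_mul]; simp
      rw [this]
      exact Ideal.mul_mem_left _ _ (Ideal.subset_span (by simp))
  haveI hcompl : IsAdicComplete ((IsLocalRing.maximalIdeal B).comap f) (TrivSqZeroExt B B) :=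
    Groth.Agent.H2.SqZeroComplete.main f hf hsq hfg
  -- the twisted algebra structure
  let φD : A →+* (TrivSqZeroExt B B) :=
    { toFun := fun a => TrivSqZeroExt.inl (algebraMap A B a) + TrivSqZeroExt.inr (algebraMap A B (D a))
      map_one' := by
        rw [Derivation.map_one_eq_zero, map_zero, TrivSqZeroExt.inr_zero, add_zero, map_one]; rfl
      map_mul' := fun a b => by
        apply TrivSqZeroExt.ext
        · simp only [TrivSqZeroExt.fst_add, TrivSqZeroExt.fst_mul, TrivSqZeroExt.fst_inl,
            TrivSqZeroExt.fst_inr, add_zero, map_mul]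
        · simp only [TrivSqZeroExt.snd_add, TrivSqZeroExt.snd_mul, TrivSqZeroExt.snd_inl,
            TrivSqZeroExt.snd_inr, TrivSqZeroExt.fst_add, TrivSqZeroExt.fst_inl,
            TrivSqZeroExt.fst_inr, add_zero, zero_add, Derivation.leibniz, map_add, map_mul,
            smul_eq_mul, MulOpposite.smul_eq_mul_unop, MulOpposite.unop_op]
          ring
      map_zero' := by
        rw [map_zero, map_zero, map_zero, TrivSqZeroExt.inr_zero, add_zero]; rfl
      map_add' := fun a b => by
        apply TrivSqZeroExt.ext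
        · simp only [TrivSqZeroExt.fst_add, TrivSqZeroExt.fst_inl, TrivSqZeroExt.fst_inr, map_add]
          ring
        · simp only [TrivSqZeroExt.snd_add, TrivSqZeroExt.snd_inl, TrivSqZeroExt.snd_inr, map_add]
          ring }
  letI : Algebra A (TrivSqZeroExt B B) := φD.toAlgebra
  have hφD : ∀ a, algebraMap A (TrivSqZeroExt B B) a =
      TrivSqZeroExt.inl (algebraMap A B a) + TrivSqZeroExt.inr (algebraMap A B (D a)) := fun a => rfl
  have hB : EGA41.IsFormallySmoothAdic A ⊥ B (IsLocalRing.maximalIdeal B) :=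
    (Groth.Agent.H5.AdicFS.isAdicFormallySmooth_iff_bot _).mp hfs
  set J : Ideal (TrivSqZeroExt B B) := RingHom.ker f with hJ
  let u : B →ₐ[A] (TrivSqZeroExt B B) ⧸ J :=
    { (Ideal.Quotient.mk J).comp (TrivSqZeroExt.inlHom B B) with
      commutes' := fun a => by
        show Ideal.Quotient.mk J (TrivSqZeroExt.inl (algebraMap A B a)) =
          Ideal.Quotient.mk J (algebraMap A (TrivSqZeroExt B B) a)
        rw [Ideal.Quotient.eq, hφD, hker]
        simp }
  have hne : ((IsLocalRing.maximalIdeal B).comap f).map (Ideal.Quotient.mk J) ≠ ⊤ := by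
    intro h
    have h1 : (1 : (TrivSqZeroExt B B) ⧸ J) ∈ ((IsLocalRing.maximalIdeal B).comap f).map (Ideal.Quotient.mk J) := by
      rw [h]; trivial
    obtain ⟨x, hx, hx1⟩ := (Ideal.mem_map_iff_of_surjective _ Ideal.Quotient.mk_surjective).mp h1
    have h2 : x - 1 ∈ J := by
      rw [← Ideal.Quotient.eq, hx1, map_one]
    have h3 : f x - 1 = 0 := by
      have := (hker _).mp h2
      simpa [f] using this
    have h4 : f x ∈ IsLocalRing.maximalIdeal B := hx
    rw [sub_eq_zero.mp h3] at h4
    exact (IsLocalRing.maximalIdeal.isMaximal B).ne_top ((Ideal.eq_top_iff_one _).mpr h4)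
  let e : ((TrivSqZeroExt B B) ⧸ J) ≃+* B := RingHom.quotientKerEquivOfSurjective hf
  haveI : IsNoetherianRing ((TrivSqZeroExt B B) ⧸ J) := isNoetherianRing_of_ringEquiv B e.symm
  haveI : IsLocalRing ((TrivSqZeroExt B B) ⧸ J) := e.symm.isLocalRing
  haveI : IsHausdorff (((IsLocalRing.maximalIdeal B).comap f).map (Ideal.Quotient.mk J)) ((TrivSqZeroExt B B) ⧸ J) :=
    IsHausdorff.of_isLocalRing _ _ hne
  obtain ⟨v, -, hv⟩ := Groth.Agent.H5.AdicFS.exists_lift_of_isAdicComplete
    ((IsLocalRing.maximalIdeal B).comap f) J (⊥ : Ideal A) (IsLocalRing.maximalIdeal B) hB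
    ⟨1, by rw [pow_one, Ideal.map_bot]; exact bot_le⟩
    ⟨1, by
      rw [pow_one]
      intro x hx
      rw [Ideal.mem_comap, (show f x = 0 from hx)]
      exact Ideal.zero_mem _⟩ u
    ⟨1, by
      rw [pow_one, Ideal.map_le_iff_le_comap]
      intro x hx
      refine Ideal.mem_map_of_mem _ ?_
      show f (TrivSqZeroExt.inl x) ∈ IsLocalRing.maximalIdeal B
      exact hx⟩
  have hfst : ∀ b, (v b).fst = b := by
    intro b
    have h1 : Ideal.Quotient.mk J (v b) = Ideal.Quotient.mk J (TrivSqZeroExt.inl b) :=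
      congrArg (fun g => g b) hv
    rw [Ideal.Quotient.eq, hker, TrivSqZeroExt.fst_sub, TrivSqZeroExt.fst_inl, sub_eq_zero] at h1
    exact h1
  let D'₀ : B →+ B :=
    { toFun := fun b => (v b).snd
      map_zero' := by rw [map_zero]; rfl
      map_add' := fun x y => by rw [map_add]; rfl }
  let D' : Derivation ℤ B B := Derivation.mk' D'₀.toIntLinearMap (fun x y => by
    show (v (x * y)).snd = x • (v y).snd + y • (v x).snd
    rw [map_mul, TrivSqZeroExt.snd_mul, hfst, hfst]
    simp [mul_comm])
  refine ⟨D', fun a => ?_⟩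
  show (v (algebraMap A B a)).snd = algebraMap A B (D a)
  rw [v.commutes, hφD, TrivSqZeroExt.snd_add, TrivSqZeroExt.snd_inl, TrivSqZeroExt.snd_inr, zero_add]


end Groth.Agent.S9258
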