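import Groth.Statements.S9260
import Mathlib.Algebra.Polynomial.GroupRingAction
import Mathlib.Algebra.Polynomial.Lifts
import Mathlib.Algebra.Polynomial.Div
import Mathlib.LinearAlgebra.Finsupp.LinearCombination
import Mathlib.Tactic.Ring
import Mathlib.Tactic.Abel

set_option autoImplicit false
universe u
open CAlg

namespace Groth.Agent.S9260
open Polynomial MulSemiringAction

section
variable {A R G : Type u} [CommRing A] [CommRing R] [Algebra A R] [Group G] [Fintype G]
  [MulSemiringAction G R] [SMulCommClass G A R] [Algebra.IsInvariant A R G] (J : Ideal A)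

/-- `x` is good if the lower coefficients of its characteristic polynomial lift to `J`. -/
def Good (G : Type u) [Group G] [Fintype G] [MulSemiringAction G R] (J : Ideal A) (x : R) : Prop :=
  ∀ k < Fintype.card G, ∃ c ∈ J, algebraMap A R c = (charpoly G x).coeff k

omit [Algebra A R] [SMulCommClass G A R] [Algebra.IsInvariant A R G] in
lemma natDegree_charpoly [Nontrivial R] (x : R) :
    (charpoly G x).natDegree = Fintype.card G := by
  rw [charpoly_eq, natDegree_prod_of_monic _ _ (fun g _ => monic_X_sub_C _)]
  simp

omit [SMulCommClass G A R] [Algebra.IsInvariant A R G] in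
lemma good_zero : Good G J (0 : R) := by
  intro k hk
  refine ⟨0, J.zero_mem, ?_⟩
  have : charpoly G (0 : R) = X ^ Fintype.card G := by simp [charpoly_eq]
  rw [this, coeff_X_pow, if_neg (ne_of_lt hk), map_zero]

omit [Algebra A R] [SMulCommClass G A R] [Algebra.IsInvariant A R G] in
/-- `charpoly` commutes with evaluation at invariant points. -/
lemma map_eval_charpoly (Y : R[X]) (r : R) (hr : ∀ σ : G, σ • r = r) :
    (charpoly G Y).map (evalRingHom r) = charpoly G (Y.eval r) := by
  rw [charpoly_eq, charpoly_eq, Polynomial.map_prod]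
  refine Finset.prod_congr rfl fun σ _ => ?_
  rw [Polynomial.map_sub, map_X, map_C, coe_evalRingHom]
  congr 2
  conv_lhs => rw [← hr σ]
  exact smul_eval_smul R σ Y r

lemma good_add (y : R) (hy : Good G J y) (f : A) (hf : f ∈ J) (b : R) :
    Good G J (y + algebraMap A R f * b) := by
  intro k hk
  set Y : R[X] := C y + Polynomial.X * C b with hY
  set q : R[X] := (charpoly G Y).coeff k with hq
  have hqinv : ∀ σ : G, σ • q = q := fun σ => smul_coeff_charpoly Y k σ
  have hqlift : q ∈ lifts (algebraMap A R) := by
    rw [lifts_iff_coeff_lifts]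
    intro l
    obtain ⟨a, ha⟩ := Algebra.IsInvariant.isInvariant (A := A) (G := G) (q.coeff l)
      (fun σ => by rw [← coeff_smul, hqinv])
    exact ⟨a, ha⟩
  obtain ⟨p, hp⟩ := hqlift
  have hev : ∀ a : A, (charpoly G (Y.eval (algebraMap A R a))).coeff k =
      algebraMap A R (p.eval a) := by
    intro a
    rw [← map_eval_charpoly Y _ (fun σ => smul_algebraMap σ a), coeff_map, coe_evalRingHom,
      ← hq, ← hp]
    exact eval_map_apply _ _
  have hY0 : Y.eval (algebraMap A R 0) = y := by simp [hY]
  have hYf : Y.eval (algebraMap A R f) = y + algebraMap A R f * b := by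
    simp only [hY, eval_add, eval_C, eval_mul, eval_X]
  obtain ⟨c, hcJ, hc⟩ := hy k hk
  refine ⟨c + (p.eval f - p.eval 0), J.add_mem hcJ ?_, ?_⟩
  · obtain ⟨d, hd⟩ := sub_dvd_eval_sub f 0 p
    rw [hd, sub_zero]; exact J.mul_mem_right _ hf
  · rw [map_add, map_sub, hc, ← hev f, ← hev 0, hY0, hYf]; abel

omit [Group G] [Fintype G] [MulSemiringAction G R] [SMulCommClass G A R]
  [Algebra.IsInvariant A R G] in
lemma assemble (Q : R[X]) (n : ℕ) (hQ : Q.Monic) (hn : Q.natDegree = n)
    (hc : ∀ k < n, ∃ c ∈ J, algebraMap A R c = Q.coeff k) :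
    ∃ P : A[X], P.Monic ∧ P.natDegree ≤ n ∧ (∀ i < n, P.coeff i ∈ J) ∧
      P.map (algebraMap A R) = Q := by
  classical
  choose! c hcJ hcQ using hc
  have hdeg : (∑ i : Fin n, C (c i) * X ^ (i : ℕ)).degree < (n : WithBot ℕ) :=
    degree_sum_fin_lt (fun i : Fin n => c i)
  have hmonic : (X ^ n + ∑ i : Fin n, C (c i) * X ^ (i : ℕ)).Monic := monic_X_pow_add hdeg
  refine ⟨X ^ n + ∑ i : Fin n, C (c i) * X ^ (i : ℕ), hmonic, ?_, ?_, ?_⟩
  · exact natDegree_add_le_of_degree_le (natDegree_X_pow_le n)
      (natDegree_le_of_degree_le (le_of_lt hdeg))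
  · intro i hi
    have : (X ^ n + ∑ j : Fin n, C (c j) * X ^ (j : ℕ)).coeff i = c i := by
      rw [Fin.sum_univ_eq_sum_range (fun j => C (c j) * X ^ j) n, coeff_add, coeff_X_pow,
        if_neg (ne_of_lt hi), zero_add, finsetSum_coeff]
      simp only [coeff_C_mul_X_pow]
      rw [Finset.sum_eq_single i]
      · simp
      · intro j _ hji
        rw [if_neg (Ne.symm hji)]
      · intro hi'
        exact absurd (Finset.mem_range.mpr hi) hi'
    rw [this]; exact hcJ i hi
  · conv_rhs => rw [hQ.as_sum, hn]
    rw [Fin.sum_univ_eq_sum_range (fun j => C (c j) * X ^ j) n, Polynomial.map_add,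
      Polynomial.map_pow, map_X, Polynomial.map_sum]
    congr 1
    refine Finset.sum_congr rfl fun j hj => ?_
    rw [Polynomial.map_mul, Polynomial.map_pow, map_X, map_C, hcQ j (Finset.mem_range.mp hj)]

end

/-- Suppose a finite group G with n elements acts on a ring R by ring automorphisms, A → R is a ring map
compatible with the action whose image contains the invariants (so that A maps onto R^G), J is an
ideal of A, and x lies in JR. Then ∏_σ (T - σ(x)) is the image of a monic polynomial over A of
degree at most n whose coefficients below degree n all lie in J. (The published statement takes A =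
R^G and a polynomial of degree n; this row allows any such A mapping onto R^G and asks degree at
most n, which is the same when A is nonzero.) -/
theorem result (A R G : Type u) [CommRing A]
    [CommRing R] [Algebra A R] [Group G] [Fintype G] [MulSemiringAction G R] [SMulCommClass G A R]
    [Algebra.IsInvariant A R G] (J : Ideal A) (x : R) (hx : x ∈ Ideal.map (algebraMap A R) J) :
    ∃ P : Polynomial A, P.Monic ∧ P.natDegree ≤ Fintype.card G ∧
      (∀ i : ℕ, i < Fintype.card G → P.coeff i ∈ J) ∧
      Polynomial.map (algebraMap A R) P = ∏ σ : G, (Polynomial.X - Polynomial.C (σ • x)) := by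
  classical
  rcases subsingleton_or_nontrivial R with hR | hR
  · refine ⟨X ^ Fintype.card G, monic_X_pow _, natDegree_X_pow_le _, ?_, Subsingleton.elim _ _⟩
    intro i hi
    rw [coeff_X_pow, if_neg (ne_of_lt hi)]
    exact J.zero_mem
  · have hgood : Good G J x := by
      rw [Ideal.map, Ideal.span] at hx
      obtain ⟨m, c, g, rfl⟩ := Submodule.mem_span_set'.mp hx
      have : ∀ s : Finset (Fin m), Good G J (∑ i ∈ s, c i • (g i : R)) := by
        intro s
        induction s using Finset.induction_on with
        | empty => simpa using good_zero (G := G) (R := R) J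
        | insert i s hi ih =>
          rw [Finset.sum_insert hi, add_comm]
          obtain ⟨f, hfJ, hf⟩ := (g i).2
          rw [← hf, smul_eq_mul, mul_comm]
          exact good_add J _ ih f hfJ (c i)
      exact this Finset.univ
    exact assemble J (charpoly G x) _ (monic_charpoly G x) (natDegree_charpoly x) hgood

end Groth.Agent.S9260
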