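import Groth.Statements.S9261
import Mathlib.LinearAlgebra.TensorProduct.Pi
import Mathlib.RingTheory.Flat.Basic

set_option autoImplicit false
universe u
open CAlg

namespace Groth.Agent.S9261

/-- Let G be a finite group acting on a ring R, S = R^G its ring of invariants (here: S → R injective
with image the invariants) and A a flat S-algebra. Then the map A → A ⊗_S R is injective with image
the invariants of G acting on A ⊗_S R through the second factor; that is, A → (A ⊗_S R)^G is an
isomorphism. -/
theorem result (S R A G : Type u) [CommRing S] [CommRing R] [Algebra S R]
    [FaithfulSMul S R] [Group G] [Finite G] [MulSemiringAction G R] [SMulCommClass G S R]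
    [Algebra.IsInvariant S R G] [CommRing A] [Algebra S A] [Module.Flat S A] :
    Function.Injective (algebraMap A (TensorProduct S A R)) ∧
      ∀ x : TensorProduct S A R,
        (∀ σ : G, Algebra.TensorProduct.map (AlgHom.id S A) (MulSemiringAction.toAlgHom S R σ) x = x) →
          x ∈ Set.range (algebraMap A (TensorProduct S A R)) := by
  classical
  haveI : Fintype G := Fintype.ofFinite G
  -- the exact sequence 0 → S → R → G → R
  let f : S →ₗ[S] R := Algebra.linearMap S R
  let g : R →ₗ[S] (G → R) :=
    LinearMap.pi (fun σ => (MulSemiringAction.toAlgHom S R σ).toLinearMap - LinearMap.id)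
  have hf : Function.Injective f := FaithfulSMul.algebraMap_injective S R
  have hex : Function.Exact f g := by
    intro r
    constructor
    · intro hr
      have hinv : ∀ σ : G, σ • r = r := by
        intro σ
        have := congrFun hr σ
        simpa [g, sub_eq_zero] using this
      obtain ⟨s, hs⟩ := Algebra.IsInvariant.isInvariant (A := S) (G := G) r hinv
      exact ⟨s, hs⟩
    · rintro ⟨s, rfl⟩
      funext σ
      simp [g, f, sub_eq_zero]
  have hexA : Function.Exact (f.lTensor A) (g.lTensor A) := Module.Flat.lTensor_exact A hex
  have hfA : Function.Injective (f.lTensor A) :=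
    Module.Flat.lTensor_preserves_injective_linearMap f hf
  -- algebraMap A (A ⊗ R) factors through f.lTensor A
  have halg : ∀ a : A, algebraMap A (TensorProduct S A R) a =
      f.lTensor A ((TensorProduct.rid S A).symm a) := by
    intro a
    simp [f, Algebra.TensorProduct.algebraMap_apply, LinearMap.lTensor_tmul]
  constructor
  · intro a b hab
    rw [halg, halg] at hab
    exact (TensorProduct.rid S A).symm.injective (hfA hab)
  · intro x hx
    -- g.lTensor A x = 0
    have hpi : ∀ y : TensorProduct S A R,
        TensorProduct.piRightHom S S A (fun _ : G => R) (g.lTensor A y) =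
          fun σ => Algebra.TensorProduct.map (AlgHom.id S A) (MulSemiringAction.toAlgHom S R σ) y
            - y := by
      intro y
      induction y using TensorProduct.induction_on with
      | zero => funext σ; simp
      | tmul a r =>
        funext σ
        simp [g, TensorProduct.tmul_sub]
      | add y z hy hz =>
        funext σ
        simp only [map_add, Pi.add_apply, hy, hz]
        abel
    have hgx : g.lTensor A x = 0 := by
      apply (TensorProduct.piRight S S A (fun _ : G => R)).injective
      rw [TensorProduct.piRight_apply, hpi x, map_zero]
      funext σ
      rw [hx σ, sub_self]; rfl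
    obtain ⟨z, hz⟩ := (hexA x).mp hgx
    refine ⟨TensorProduct.rid S A z, ?_⟩
    rw [halg, LinearEquiv.symm_apply_apply, hz]

end Groth.Agent.S9261
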