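import Groth.Statements.S9263
import Mathlib.Algebra.Homology.HomotopyCategory.Pretriangulated
import Mathlib.Algebra.Homology.HomotopyCategory.MappingCocone
import Mathlib.Algebra.Module.LocalizedModule.Basic

set_option autoImplicit false
universe u
attribute [local instance] HasDerivedCategory.standard
open CategoryTheory
open DerCA

namespace Groth.Agent.S9263

open CategoryTheory.Limits CategoryTheory.Pretriangulated

section
variable {R : Type u} [CommRing R]

/-- If `φ` becomes an isomorphism in the homotopy category, its mapping cocone is contractible. -/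
lemma mappingCocone_contractible {K L : CochainComplex (ModuleCat.{u} R) ℤ} (φ : K ⟶ L)
    (hφ : IsIso ((HomotopyCategory.quotient (ModuleCat.{u} R) (ComplexShape.up ℤ)).map φ)) :
    Nonempty (Homotopy (𝟙 (CochainComplex.mappingCocone φ)) 0) := by
  have hdist := HomotopyCategory.mappingCone_triangleh_distinguished φ
  have hzero : IsZero ((HomotopyCategory.quotient (ModuleCat.{u} R) (ComplexShape.up ℤ)).obj
      (CochainComplex.mappingCone φ)) :=
    Triangle.isZero₃_of_isIso₁ _ hdist hφ
  obtain ⟨h⟩ := (HomotopyCategory.isZero_quotient_obj_iff _).mp hzero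
  have h' := h.shift (-1)
  refine ⟨(Homotopy.ofEq ?_).trans (h'.trans (Homotopy.ofEq ?_))⟩
  · exact (CategoryTheory.Functor.map_id _ _).symm
  · exact Functor.map_zero _ _ _

lemma isIso_quotient_map_of_contractible {K L : CochainComplex (ModuleCat.{u} R) ℤ} (φ : K ⟶ L)
    (hK : Nonempty (Homotopy (𝟙 K) 0)) (hL : Nonempty (Homotopy (𝟙 L) 0)) :
    IsIso ((HomotopyCategory.quotient (ModuleCat.{u} R) (ComplexShape.up ℤ)).map φ) := by
  have hK' := (HomotopyCategory.isZero_quotient_obj_iff K).mpr hK
  have hL' := (HomotopyCategory.isZero_quotient_obj_iff L).mpr hL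
  have : (HomotopyCategory.quotient (ModuleCat.{u} R) (ComplexShape.up ℤ)).map φ =
      (hK'.iso hL').hom := hK'.eq_of_src _ _
  rw [this]
  infer_instance

/-- Localising at a submonoid of units is an isomorphism. -/
lemma isIso_locUnit_app_of_units (S : Submonoid R) (hS : S ≤ IsUnit.submonoid R)
    (N : ModuleCat.{u} R) : IsIso ((DerCA.locUnit S).app N) := by
  have : IsLocalization S R := IsLocalization.of_le_isUnit hS
  have : IsLocalizedModule S (LinearMap.id : N →ₗ[R] N) := isLocalizedModule_id S N R
  let e : N ≃ₗ[R] LocalizedModule S N :=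
    IsLocalizedModule.linearEquiv S (LinearMap.id : N →ₗ[R] N) (LocalizedModule.mkLinearMap S N)
  have he : ∀ x, e x = LocalizedModule.mkLinearMap S N x := fun x =>
    IsLocalizedModule.linearEquiv_apply S (LinearMap.id : N →ₗ[R] N)
      (LocalizedModule.mkLinearMap S N) x
  have hbij : Function.Bijective (LocalizedModule.mkLinearMap S N) := by
    have : (LocalizedModule.mkLinearMap S N : N → LocalizedModule S N) = e := by
      funext x; exact (he x).symm
    rw [this]; exact e.bijective
  have : (DerCA.locUnit S).app N =
      (LinearEquiv.toModuleIso (LinearEquiv.ofBijective _ hbij)).hom := by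
    ext x
    rfl
  rw [this]
  exact Iso.isIso_hom _

lemma isIso_locCxUnit_of_units (S : Submonoid R) (hS : S ≤ IsUnit.submonoid R)
    (K : CochainComplex (ModuleCat.{u} R) ℤ) : IsIso (DerCA.locCxUnit S K) := by
  have : ∀ n : ℤ, IsIso ((DerCA.locCxUnit S K).f n) := fun n =>
    isIso_locUnit_app_of_units S hS (K.X n)
  exact HomologicalComplex.Hom.isIso_of_components _

end

/-- Let R be a ring, f_1, ..., f_r elements of R such that some f_i is a unit, and M an R-module. Then
the extended alternating Cech complex of M with respect to f_1, ..., f_r is homotopy equivalent to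
zero: its identity map is null-homotopic. -/
theorem result (R : Type u) [CommRing R] (fs : List R)
    (hf : ∃ f ∈ fs, IsUnit f) (M : ModuleCat.{u} R) :
    Nonempty (Homotopy (𝟙 (DerCA.extCech M fs)) 0) := by
  induction fs with
  | nil =>
    obtain ⟨f, hf, -⟩ := hf
    simp at hf
  | cons f fs ih =>
    show Nonempty (Homotopy (𝟙 (CochainComplex.mappingCocone
      (DerCA.locCxUnit (Submonoid.powers f) (DerCA.extCech M fs)))) 0)
    apply mappingCocone_contractible
    by_cases hfu : IsUnit f
    · have hS : Submonoid.powers f ≤ IsUnit.submonoid R := by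
        rintro _ ⟨k, rfl⟩
        exact hfu.pow k
      have := isIso_locCxUnit_of_units (Submonoid.powers f) hS (DerCA.extCech M fs)
      infer_instance
    · have hf' : ∃ g ∈ fs, IsUnit g := by
        obtain ⟨g, hg, hgu⟩ := hf
        rcases List.mem_cons.mp hg with rfl | hg
        · exact absurd hgu hfu
        · exact ⟨g, hg, hgu⟩
      have hK := ih hf'
      apply isIso_quotient_map_of_contractible _ hK
      obtain ⟨h⟩ := hK
      have h' := (DerCA.locFunctor (Submonoid.powers f)).mapHomotopy (c := ComplexShape.up ℤ) h
      refine ⟨(Homotopy.ofEq ?_).trans (h'.trans (Homotopy.ofEq ?_))⟩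
      · exact (CategoryTheory.Functor.map_id _ _).symm
      · exact Functor.map_zero _ _ _

end Groth.Agent.S9263
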