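import Groth.Statements.S9264
import Mathlib.Algebra.Homology.ShortComplex.Homology
import Mathlib.Algebra.Homology.Single

set_option autoImplicit false
universe u
attribute [local instance] HasDerivedCategory.standard
open CategoryTheory
open DerCA

namespace Groth.Agent.S9264

open CategoryTheory.Limits in
lemma isZero_extCech_X {R : Type u} [CommRing R] (M : ModuleCat.{u} R) :
    ∀ (fs : List R) (n : ℤ), (n < 0 ∨ (fs.length : ℤ) < n) →
      IsZero ((DerCA.extCech M fs).X n) := by
  intro fs
  induction fs with
  | nil =>
    intro n hn
    have hne : n ≠ 0 := by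
      rcases hn with h | h
      · omega
      · simp at h; omega
    exact HomologicalComplex.isZero_single_obj_X (ComplexShape.up ℤ) 0 M n hne
  | cons f fs ih =>
    intro n hn
    have hlen : ((f :: fs).length : ℤ) = (fs.length : ℤ) + 1 := by simp
    rw [hlen] at hn
    refine IsZero.of_iso ?_ (DerCA.mappingCoconeXIso
      (DerCA.locCxUnit (Submonoid.powers f) (DerCA.extCech M fs)) n)
    rw [biprod_isZero_iff]
    constructor
    · exact ih n (by omega)
    · have h1 : IsZero ((DerCA.extCech M fs).X (n - 1)) := ih (n - 1) (by omega)
      exact (DerCA.locFunctor (Submonoid.powers f)).map_isZero h1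

/-- The cohomology of the extended alternating Cech complex of a module M with respect to f_1, ..., f_r
vanishes in degrees outside [0, r]. -/
theorem result (R : Type u) [CommRing R] (fs : List R)
    (M : ModuleCat.{u} R) (q : ℤ) (hq : q < 0 ∨ (fs.length : ℤ) < q) :
    Limits.IsZero (DerCA.extCechH fs M q) := by
  exact ShortComplex.isZero_homology_of_isZero_X₂ _ (isZero_extCech_X M fs q hq)

end Groth.Agent.S9264
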