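import Groth.Statements.S9275
import Mathlib.RingTheory.RingHom.Etale
import Mathlib.RingTheory.Localization.Away.Basic

set_option autoImplicit false
universe u
open EtAlg

namespace Groth.Agent.S9275

/-- Let A → B be a ring map and J an ideal of B such that A → B is étale at every prime of V(J), in the
sense that every prime q ⊇ J has some h ∉ q with A → B_h étale. Then there is g ∈ B mapping to a
unit of B/J such that A → B_g is étale. -/
theorem result (A B : Type u) [CommRing A] [CommRing B]
    [Algebra A B] (J : Ideal B)
    (h : ∀ (q : Ideal B) [q.IsPrime], J ≤ q → ∃ h : B, h ∉ q ∧ Algebra.Etale A (Localization.Away h)) :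
    ∃ g : B, IsUnit (Ideal.Quotient.mk J g) ∧ Algebra.Etale A (Localization.Away g) := by
  classical
  -- the set of h with B_h étale
  let E : Set B := {h | Algebra.Etale A (Localization.Away h)}
  have htop : J ⊔ Ideal.span E = ⊤ := by
    by_contra hne
    obtain ⟨m, hm, hle⟩ := Ideal.exists_le_maximal _ hne
    have := hm.isPrime
    obtain ⟨h', hh'm, hh'E⟩ := h m (le_sup_left.trans hle)
    exact hh'm (hle (Ideal.mem_sup_right (Ideal.subset_span hh'E)))
  obtain ⟨j, hj, g, hg, hjg⟩ := Submodule.mem_sup.mp ((Ideal.eq_top_iff_one _).mp htop)
  refine ⟨g, ?_, ?_⟩
  · have : Ideal.Quotient.mk J g = 1 := by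
      rw [← map_one (Ideal.Quotient.mk J), ← hjg, map_add, Ideal.Quotient.eq_zero_iff_mem.mpr hj,
        zero_add]
    rw [this]; exact isUnit_one
  · rw [← RingHom.etale_algebraMap]
    apply RingHom.Etale.ofLocalizationSpanTarget (algebraMap A (Localization.Away g))
      (algebraMap B (Localization.Away g) '' E)
    · rw [← Ideal.map_span]
      exact Ideal.eq_top_of_isUnit_mem _ (Ideal.mem_map_of_mem _ hg)
        (IsLocalization.Away.algebraMap_isUnit g)
    · rintro ⟨_, h', hh', rfl⟩
      have hE : Algebra.Etale A (Localization.Away h') := hh'
      -- T2 = (B_h')_g is étale over A
      have h2 : Algebra.Etale A (Localization.Away (algebraMap B (Localization.Away h') g)) :=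
        inferInstance
      have hst1 : IsScalarTower A B (Localization.Away (algebraMap B (Localization.Away g) h')) :=
        IsScalarTower.of_algebraMap_eq (fun x =>
          (IsScalarTower.algebraMap_apply A (Localization.Away g)
              (Localization.Away (algebraMap B (Localization.Away g) h')) x).trans
            ((congrArg _ (IsScalarTower.algebraMap_apply A B (Localization.Away g) x)).trans
              (IsScalarTower.algebraMap_apply B (Localization.Away g)
                (Localization.Away (algebraMap B (Localization.Away g) h')) _).symm))
      have hst2 : IsScalarTower A B (Localization.Away (algebraMap B (Localization.Away h') g)) :=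
        IsScalarTower.of_algebraMap_eq (fun x =>
          (IsScalarTower.algebraMap_apply A (Localization.Away h')
              (Localization.Away (algebraMap B (Localization.Away h') g)) x).trans
            ((congrArg _ (IsScalarTower.algebraMap_apply A B (Localization.Away h') x)).trans
              (IsScalarTower.algebraMap_apply B (Localization.Away h')
                (Localization.Away (algebraMap B (Localization.Away h') g)) _).symm))
      let e : Localization.Away (algebraMap B (Localization.Away h') g) ≃ₐ[B]
          Localization.Away (algebraMap B (Localization.Away g) h') :=
        IsLocalization.algEquiv (Submonoid.powers (g * h')) _ _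
      have h1 : Algebra.Etale A (Localization.Away (algebraMap B (Localization.Away g) h')) :=
        Algebra.Etale.of_equiv (e.restrictScalars A)
      show RingHom.Etale ((algebraMap (Localization.Away g)
        (Localization.Away (algebraMap B (Localization.Away g) h'))).comp
          (algebraMap A (Localization.Away g)))
      rw [← IsScalarTower.algebraMap_eq A (Localization.Away g), RingHom.etale_algebraMap]
      exact h1

end Groth.Agent.S9275
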