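import Groth.Statements.S9283
import Mathlib.RingTheory.Ideal.Operations
import Mathlib.RingTheory.Finiteness.Ideal
import Mathlib.Algebra.Module.Torsion.Basic

set_option autoImplicit false
universe u
open CAlg

namespace Groth.Agent.S9283

/-- Let R be an auto-associated ring, that is, a local ring whose maximal ideal is weakly associated to
R: some nonzero x ∈ R is killed by a power of every element of the maximal ideal. Then every proper
finitely generated ideal of R has a nonzero annihilator. -/
theorem result (R : Type u) [CommRing R] [IsLocalRing R]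
    (h : ∃ x : R, x ≠ 0 ∧ ∀ f ∈ IsLocalRing.maximalIdeal R, ∃ n : ℕ, f ^ n * x = 0)
    (I : Ideal R) (hI : I.FG) (hI' : I ≠ ⊤) : I.annihilator ≠ ⊥ := by
  classical
  obtain ⟨x, hx0, hx⟩ := h
  obtain ⟨s, rfl⟩ := hI
  have hsm : ∀ f ∈ s, f ∈ IsLocalRing.maximalIdeal R := by
    intro f hf
    have hle : Ideal.span (s : Set R) ≤ IsLocalRing.maximalIdeal R :=
      IsLocalRing.le_maximalIdeal hI'
    exact hle (Ideal.subset_span hf)
  -- key claim: for any finset t ⊆ m, there is a nonzero multiple z of x killed by all of t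
  have key : ∀ t : Finset R, (∀ f ∈ t, f ∈ IsLocalRing.maximalIdeal R) →
      ∃ z : R, z ≠ 0 ∧ (∃ c : R, z = c * x) ∧ ∀ f ∈ t, f * z = 0 := by
    intro t
    induction t using Finset.induction_on with
    | empty =>
      intro _
      exact ⟨x, hx0, ⟨1, (one_mul x).symm⟩, by simp⟩
    | insert a t hat ih =>
      intro ht
      obtain ⟨z, hz0, ⟨c, hzc⟩, hzt⟩ := ih (fun f hf => ht f (Finset.mem_insert_of_mem hf))
      have ha : a ∈ IsLocalRing.maximalIdeal R := ht a (Finset.mem_insert_self a t)
      obtain ⟨n, hn⟩ := hx a ha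
      have hex : ∃ n : ℕ, a ^ n * z = 0 := ⟨n, by rw [hzc, ← mul_assoc, mul_comm (a ^ n) c, mul_assoc, hn, mul_zero]⟩
      have hmin : ∀ {k : ℕ}, k < Nat.find hex → ¬ a ^ k * z = 0 := fun {k} hk => Nat.find_min hex hk
      have hspec := Nat.find_spec hex
      set m := Nat.find hex with hm
      have hmpos : m ≠ 0 := by
        intro h0
        rw [h0, pow_zero, one_mul] at hspec
        exact hz0 hspec
      obtain ⟨k, hk⟩ := Nat.exists_eq_succ_of_ne_zero hmpos
      refine ⟨a ^ k * z, ?_, ⟨a ^ k * c, by rw [hzc, mul_assoc]⟩, ?_⟩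
      · exact hmin (by rw [hk]; exact Nat.lt_succ_self k)
      · intro f hf
        rcases Finset.mem_insert.mp hf with rfl | hf
        · rw [← mul_assoc, ← pow_succ', ← Nat.succ_eq_add_one, ← hk]; exact hspec
        · rw [mul_left_comm, hzt f hf, mul_zero]
  obtain ⟨z, hz0, -, hz⟩ := key s hsm
  intro hbot
  apply hz0
  have : z ∈ (Ideal.span (s : Set R)).annihilator := by
    rw [Submodule.mem_annihilator_span]
    rintro ⟨f, hf⟩
    simpa [mul_comm] using hz f hf
  rw [hbot] at this
  simpa using this

end Groth.Agent.S9283
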