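import Groth.Statements.S9285
import Mathlib.RingTheory.Ideal.Operations
import Mathlib.RingTheory.Finiteness.Ideal
import Mathlib.LinearAlgebra.Pi
import Mathlib.LinearAlgebra.Finsupp.LinearCombination

set_option autoImplicit false
universe u
open CAlg

namespace Groth.Agent.S9285

/-- A ring R has the property that every proper finitely generated ideal has a nonzero annihilator if
and only if every injective linear map R → R^n admits a retraction. -/
theorem result (R : Type u) [CommRing R] :
    (∀ I : Ideal R, I.FG → I ≠ ⊤ → I.annihilator ≠ ⊥) ↔
      ∀ (n : ℕ) (u : R →ₗ[R] (Fin n → R)), Function.Injective u →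
        ∃ v : (Fin n → R) →ₗ[R] R, v.comp u = LinearMap.id := by
  classical
  constructor
  · intro hP n u hu
    set a : Fin n → R := u 1 with ha
    have hua : ∀ r : R, u r = fun i => r * a i := by
      intro r
      have : u r = r • u 1 := by rw [← map_smul, smul_eq_mul, mul_one]
      rw [this]; rfl
    have hann : (Ideal.span (Set.range a)).annihilator = ⊥ := by
      rw [eq_bot_iff]
      intro r hr
      rw [Submodule.mem_annihilator_span] at hr
      have : u r = 0 := by
        rw [hua r]
        funext i
        exact hr ⟨a i, Set.mem_range_self i⟩
      have : r = 0 := hu (by rw [this, map_zero])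
      simpa using this
    have htop : Ideal.span (Set.range a) = ⊤ := by
      by_contra hne
      exact hP _ (Submodule.fg_span (Set.finite_range a)) hne hann
    have h1 : (1 : R) ∈ Ideal.span (Set.range a) := by rw [htop]; trivial
    obtain ⟨c, hc⟩ := (Submodule.mem_span_range_iff_exists_fun R).mp h1
    refine ⟨∑ i, c i • LinearMap.proj i, ?_⟩
    apply LinearMap.ext
    intro r
    simp only [LinearMap.comp_apply, LinearMap.id_apply, LinearMap.sum_apply, LinearMap.smul_apply,
      LinearMap.proj_apply, hua r, smul_eq_mul]
    calc ∑ i, c i * (r * a i) = r * ∑ i, c i * a i := by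
          rw [Finset.mul_sum]; exact Finset.sum_congr rfl (fun i _ => by ring)
      _ = r := by
          have : ∑ i, c i * a i = 1 := by simpa [smul_eq_mul] using hc
          rw [this, mul_one]
  · intro hQ I hI hItop hann
    obtain ⟨n, a, ha⟩ := Submodule.fg_iff_exists_fin_generating_family.mp hI
    let u : R →ₗ[R] (Fin n → R) := LinearMap.pi (fun i => LinearMap.mulRight R (a i))
    have hu : Function.Injective u := by
      rw [injective_iff_map_eq_zero]
      intro r hr
      have : r ∈ I.annihilator := by
        rw [← ha]
        rw [Submodule.mem_annihilator_span]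
        rintro ⟨_, i, rfl⟩
        have := congrFun hr i
        simpa [u] using this
      rw [hann] at this
      simpa using this
    obtain ⟨v, hv⟩ := hQ n u hu
    apply hItop
    rw [Ideal.eq_top_iff_one]
    have h1 : v (u 1) = 1 := by
      have := LinearMap.congr_fun hv 1
      simpa using this
    have hu1 : u 1 = ∑ i, a i • (Pi.single i (1 : R) : Fin n → R) := by
      funext j
      simp [u, Finset.sum_apply, Pi.single_apply]
    rw [hu1, map_sum] at h1
    rw [← h1]
    refine Submodule.sum_mem _ (fun i _ => ?_)
    rw [map_smul, smul_eq_mul]
    apply Ideal.mul_mem_right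
    rw [← ha]
    exact Ideal.subset_span (Set.mem_range_self i)

end Groth.Agent.S9285
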