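import Groth.Statements.S9286
import Groth.Agent.S9285
import Mathlib.RingTheory.Finiteness.Cardinality
import Mathlib.RingTheory.Finiteness.Prod
import Mathlib.LinearAlgebra.Pi
import Mathlib.LinearAlgebra.Prod
import Mathlib.Algebra.Module.Projective

set_option autoImplicit false
universe u
open CAlg

namespace Groth.Agent.S9286

/-- `N` has the splitting property if every injective linear map from `N` to a finite projective
module has a retraction. -/
def Splits (R : Type u) [CommRing R] (N : Type u) [AddCommGroup N] [Module R N] : Prop :=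
  ∀ (M : Type u) [AddCommGroup M] [Module R M] [Module.Finite R M] [Module.Projective R M]
    (u : N →ₗ[R] M), Function.Injective u → ∃ w : M →ₗ[R] N, w.comp u = LinearMap.id

section
variable {R : Type u} [CommRing R]

theorem Splits.of_equiv {N N' : Type u} [AddCommGroup N] [Module R N] [AddCommGroup N']
    [Module R N'] (e : N ≃ₗ[R] N') (h : Splits R N) : Splits R N' := by
  intro M _ _ _ _ u hu
  obtain ⟨w, hw⟩ := h M (u.comp e.toLinearMap) (hu.comp e.injective)
  refine ⟨e.toLinearMap.comp w, ?_⟩
  apply LinearMap.ext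
  intro x
  have := LinearMap.congr_fun hw (e.symm x)
  simp only [LinearMap.comp_apply, LinearEquiv.coe_coe, LinearEquiv.apply_symm_apply,
    LinearMap.id_apply] at this ⊢
  rw [this, LinearEquiv.apply_symm_apply]

theorem Splits.punit : Splits R PUnit.{u+1} := by
  intro M _ _ _ _ u _
  exact ⟨0, LinearMap.ext fun x => Subsingleton.elim _ _⟩

theorem Splits.prod {N₁ N₂ : Type u} [AddCommGroup N₁] [Module R N₁] [AddCommGroup N₂]
    [Module R N₂] (h₁ : Splits R N₁) (h₂ : Splits R N₂) : Splits R (N₁ × N₂) := by
  intro M _ _ _ _ u hu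
  -- first factor
  let u₁ : N₁ →ₗ[R] M := u.comp (LinearMap.inl R N₁ N₂)
  have hu₁ : Function.Injective u₁ := hu.comp LinearMap.inl_injective
  obtain ⟨w₁, hw₁⟩ := h₁ M u₁ hu₁
  have hw₁' : ∀ a, w₁ (u₁ a) = a := fun a => LinearMap.congr_fun hw₁ a
  -- the complement of the image of u₁
  let π' : M →ₗ[R] M := LinearMap.id - u₁.comp w₁
  have hπ'ker : ∀ y, π' y ∈ LinearMap.ker w₁ := by
    intro y
    simp only [LinearMap.mem_ker, π', LinearMap.sub_apply, LinearMap.id_apply,
      LinearMap.comp_apply, map_sub, hw₁', sub_self]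
  let π : M →ₗ[R] LinearMap.ker w₁ := π'.codRestrict _ hπ'ker
  have hπι : ∀ z : LinearMap.ker w₁, π z = z := by
    intro z
    apply Subtype.ext
    have hz : w₁ (z : M) = 0 := z.2
    simp only [π, π', LinearMap.codRestrict_apply, LinearMap.sub_apply, LinearMap.id_apply,
      LinearMap.comp_apply, hz, map_zero, sub_zero]
  have : Module.Projective R (LinearMap.ker w₁) :=
    Module.Projective.of_split (LinearMap.ker w₁).subtype π
      (LinearMap.ext fun z => by simpa using hπι z)
  have : Module.Finite R (LinearMap.ker w₁) :=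
    Module.Finite.of_surjective π (fun z => ⟨z, hπι z⟩)
  have hπu₁ : ∀ a, π (u₁ a) = 0 := by
    intro a
    apply Subtype.ext
    simp only [π, π', LinearMap.codRestrict_apply, LinearMap.sub_apply, LinearMap.id_apply,
      LinearMap.comp_apply, hw₁', sub_self, ZeroMemClass.coe_zero]
  let u₂ : N₂ →ₗ[R] LinearMap.ker w₁ := π.comp (u.comp (LinearMap.inr R N₁ N₂))
  have hu₂ : Function.Injective u₂ := by
    rw [injective_iff_map_eq_zero]
    intro b hb
    have h0 : (π (u (0, b)) : M) = 0 := by
      have : u₂ b = 0 := hb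
      simpa [u₂] using congrArg Subtype.val this
    have h1 : u (0, b) = u (w₁ (u (0, b)), 0) := by
      have : u (0, b) - u₁ (w₁ (u (0, b))) = 0 := by
        simpa [π, π'] using h0
      exact sub_eq_zero.mp this
    have := hu h1
    exact (Prod.ext_iff.mp this).2
  obtain ⟨w₂, hw₂⟩ := h₂ _ u₂ hu₂
  have hw₂' : ∀ b, w₂ (u₂ b) = b := fun b => LinearMap.congr_fun hw₂ b
  let wb : M →ₗ[R] N₂ := w₂.comp π
  let wa : M →ₗ[R] N₁ := w₁ - w₁.comp ((u.comp (LinearMap.inr R N₁ N₂)).comp wb)
  refine ⟨wa.prod wb, ?_⟩
  apply LinearMap.ext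
  rintro ⟨a, b⟩
  have hsplit : u (a, b) = u₁ a + u (0, b) := by
    have : (a, b) = (a, (0 : N₂)) + ((0 : N₁), b) := by simp
    rw [this, map_add]; rfl
  have hwb : wb (u (a, b)) = b := by
    simp only [wb, LinearMap.comp_apply]
    rw [hsplit, map_add, hπu₁, zero_add]
    exact hw₂' b
  have hwa : wa (u (a, b)) = a := by
    simp only [wa, LinearMap.sub_apply, LinearMap.comp_apply]
    rw [hwb]
    simp only [LinearMap.inr_apply]
    rw [hsplit, map_add, hw₁']
    abel
  exact Prod.ext hwa hwb

theorem Splits.self (hP : ∀ I : Ideal R, I.FG → I ≠ ⊤ → I.annihilator ≠ ⊥) : Splits R R := by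
  intro M _ _ _ _ u hu
  obtain ⟨k, p, hp⟩ := Module.Finite.exists_fin' R M
  obtain ⟨s, hs⟩ := Module.projective_lifting_property p LinearMap.id hp
  have hs' : ∀ y, p (s y) = y := fun y => LinearMap.congr_fun hs y
  have hsinj : Function.Injective s := Function.LeftInverse.injective hs'
  obtain ⟨v, hv⟩ := (Groth.Agent.S9285.result R).mp hP k (s.comp u) (hsinj.comp hu)
  exact ⟨v.comp s, by rw [LinearMap.comp_assoc]; exact hv⟩

theorem Splits.fin (hP : ∀ I : Ideal R, I.FG → I ≠ ⊤ → I.annihilator ≠ ⊥) (k : ℕ) :
    Splits R (Fin k → R) := by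
  induction k with
  | zero =>
    intro M _ _ _ _ u _
    exact ⟨0, LinearMap.ext fun x => Subsingleton.elim _ _⟩
  | succ k ih =>
    exact Splits.of_equiv (Fin.consLinearEquiv R (fun _ : Fin k.succ => R))
      (Splits.prod (Splits.self hP) ih)

theorem Splits.of_finite_projective (hP : ∀ I : Ideal R, I.FG → I ≠ ⊤ → I.annihilator ≠ ⊥)
    (N : Type u) [AddCommGroup N] [Module R N] [Module.Finite R N] [Module.Projective R N] :
    Splits R N := by
  intro M _ _ _ _ u hu
  obtain ⟨k, p, hp⟩ := Module.Finite.exists_fin' R N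
  obtain ⟨s, hs⟩ := Module.projective_lifting_property p LinearMap.id hp
  have hs' : ∀ y, p (s y) = y := fun y => LinearMap.congr_fun hs y
  let U : (Fin k → R) →ₗ[R] M × (Fin k → R) :=
    (u.comp p).prod (LinearMap.id - s.comp p)
  have hU : Function.Injective U := by
    rw [injective_iff_map_eq_zero]
    intro y hy
    have h1 : u (p y) = 0 := congrArg Prod.fst hy
    have h2 : y - s (p y) = 0 := congrArg Prod.snd hy
    have h3 : p y = 0 := hu (by rw [h1, map_zero])
    rw [h3, map_zero, sub_zero] at h2
    exact h2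
  obtain ⟨W, hW⟩ := Splits.fin hP k (M × (Fin k → R)) U hU
  refine ⟨p.comp (W.comp (LinearMap.inl R M (Fin k → R))), ?_⟩
  apply LinearMap.ext
  intro n
  have hUs : U (s n) = (u n, 0) := by
    refine Prod.ext ?_ ?_
    · show u (p (s n)) = u n
      rw [hs']
    · show s n - s (p (s n)) = 0
      rw [hs', sub_self]
  have := LinearMap.congr_fun hW (s n)
  simp only [LinearMap.comp_apply, LinearMap.id_apply, hUs] at this
  simp only [LinearMap.comp_apply, LinearMap.inl_apply, LinearMap.id_apply, this, hs']

end

/-- Let R be a ring in which every proper finitely generated ideal has a nonzero annihilator. Given an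
injective R-linear map u : N → M, where both N and M are finite and projective over R, the quotient
Coker(u) = M/u(N) is again projective as an R-module. -/
theorem result (R : Type u) [CommRing R]
    (hP : (∀ I : Ideal R, I.FG → I ≠ ⊤ → I.annihilator ≠ ⊥))
    (N M : Type u) [AddCommGroup N] [Module R N] [Module.Finite R N] [Module.Projective R N]
    [AddCommGroup M] [Module R M] [Module.Finite R M] [Module.Projective R M]
    (u : N →ₗ[R] M) (hu : Function.Injective u) :
    Module.Projective R (M ⧸ LinearMap.range u) := by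
  obtain ⟨w, hw⟩ := Splits.of_finite_projective hP N M u hu
  have hw' : ∀ n, w (u n) = n := fun n => LinearMap.congr_fun hw n
  let i : (M ⧸ LinearMap.range u) →ₗ[R] M :=
    (LinearMap.range u).liftQ (LinearMap.id - u.comp w) (by
      rintro _ ⟨n, rfl⟩
      simp only [LinearMap.mem_ker, LinearMap.sub_apply, LinearMap.id_apply, LinearMap.comp_apply,
        hw', sub_self])
  refine Module.Projective.of_split i (LinearMap.range u).mkQ ?_
  apply LinearMap.ext
  intro y
  obtain ⟨y, rfl⟩ := Submodule.Quotient.mk_surjective _ y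
  simp only [LinearMap.comp_apply, LinearMap.id_apply, i]
  rw [Submodule.liftQ_apply]
  simp only [LinearMap.sub_apply, LinearMap.id_apply, LinearMap.comp_apply, map_sub,
    Submodule.mkQ_apply]
  rw [sub_eq_self, Submodule.Quotient.mk_eq_zero]
  exact ⟨w y, rfl⟩

end Groth.Agent.S9286
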