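import Groth.Statements.S9284
import Groth.Agent.S9286
import Mathlib.LinearAlgebra.Finsupp.Defs
import Mathlib.LinearAlgebra.Finsupp.Pi
import Mathlib.LinearAlgebra.TensorProduct.Map
import Mathlib.LinearAlgebra.FreeModule.Basic
import Mathlib.Algebra.Module.Projective

set_option autoImplicit false
universe u
open CAlgX TensorProduct

namespace Groth.Agent.S9284

section
variable {R : Type u} [CommRing R] {α : Type u}

/-- restriction of a finsupp to a finite set of indices -/
noncomputable def res (a : Finset α) : (α →₀ R) →ₗ[R] (a → R) :=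
  LinearMap.pi fun i => Finsupp.lapply (i : α)

/-- extension by zero -/
noncomputable def ext₀ (a : Finset α) : (a → R) →ₗ[R] (α →₀ R) :=
  (Finsupp.lmapDomain R R (Subtype.val : a → α)).comp
    (Finsupp.linearEquivFunOnFinite R R a).symm.toLinearMap

lemma ext₀_apply_mem (a : Finset α) (x : a → R) (j : α) (hj : j ∈ a) :
    ext₀ a x j = x ⟨j, hj⟩ := by
  have := Finsupp.mapDomain_apply Subtype.val_injective
    ((Finsupp.linearEquivFunOnFinite R R a).symm x) ⟨j, hj⟩
  simpa [ext₀] using this

lemma ext₀_apply_not_mem (a : Finset α) (x : a → R) (j : α) (hj : j ∉ a) :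
    ext₀ a x j = 0 := by
  simp only [ext₀, LinearMap.comp_apply, Finsupp.lmapDomain_apply]
  apply Finsupp.mapDomain_of_notMem_range
  simpa using hj

lemma res_ext₀ (a : Finset α) (x : a → R) : res a (ext₀ a x) = x := by
  funext i
  simp only [res, LinearMap.pi_apply, Finsupp.lapply_apply]
  exact ext₀_apply_mem a x i.1 i.2

lemma ext₀_res (a : Finset α) (y : α →₀ R) (hy : y.support ⊆ a) : ext₀ a (res a y) = y := by
  classical
  ext j
  by_cases hj : j ∈ a
  · rw [ext₀_apply_mem a _ j hj]
    simp [res]
  · have h1 : y j = 0 := by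
      by_contra h; exact hj (hy (Finsupp.mem_support_iff.mpr h))
    rw [h1, ext₀_apply_not_mem a _ j hj]

/-- every tensor is supported on a finite set of indices -/
lemma exists_finset_fix (Q : Type u) [AddCommGroup Q] [Module R Q] (z : (α →₀ R) ⊗[R] Q) :
    ∃ a : Finset α, ∀ a' : Finset α, a ⊆ a' →
      (((ext₀ a').comp (res a')).rTensor Q) z = z := by
  classical
  induction z using TensorProduct.induction_on with
  | zero => exact ⟨∅, fun a' _ => map_zero _⟩
  | tmul y q =>
    refine ⟨y.support, fun a' ha' => ?_⟩
    rw [LinearMap.rTensor_tmul, LinearMap.comp_apply, ext₀_res a' y ha']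
  | add z₁ z₂ h₁ h₂ =>
    obtain ⟨a₁, ha₁⟩ := h₁
    obtain ⟨a₂, ha₂⟩ := h₂
    refine ⟨a₁ ∪ a₂, fun a' ha' => ?_⟩
    rw [map_add, ha₁ a' (Finset.union_subset_left ha'), ha₂ a' (Finset.union_subset_right ha')]

variable (hP : ∀ I : Ideal R, I.FG → I ≠ ⊤ → I.annihilator ≠ ⊥)
include hP

lemma finsupp_case {β : Type u} (u : (α →₀ R) →ₗ[R] (β →₀ R)) (hu : Function.Injective u)
    (Q : Type u) [AddCommGroup Q] [Module R Q] : Function.Injective (u.rTensor Q) := by
  classical
  rw [injective_iff_map_eq_zero]
  intro z hz
  obtain ⟨a, ha⟩ := exists_finset_fix Q z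
  have hza := ha a (Finset.Subset.refl a)
  -- v = u ∘ ext₀ a
  set v : (a → R) →ₗ[R] (β →₀ R) := u.comp (ext₀ a) with hv
  have hvinj : Function.Injective v := by
    intro x y hxy
    have := hu hxy
    have h2 := congrArg (res a) this
    rwa [res_ext₀, res_ext₀] at h2
  let b : Finset β := Finset.univ.biUnion fun i : a => (v (Pi.single i 1)).support
  have hEb : ((ext₀ b).comp (res b)).comp v = v := by
    apply LinearMap.pi_ext'
    intro i
    apply LinearMap.ext_ring
    simp only [LinearMap.comp_apply, LinearMap.coe_single]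
    apply ext₀_res
    exact Finset.subset_biUnion_of_mem (fun i : a => (v (Pi.single i 1)).support)
      (Finset.mem_univ i)
  have hvab : Function.Injective ((res b).comp v) := by
    rw [injective_iff_map_eq_zero]
    intro x hx
    have : v x = 0 := by
      have h := LinearMap.congr_fun hEb x
      simp only [LinearMap.comp_apply] at h hx
      rw [← h, hx, map_zero]
    exact hvinj (by rw [this, map_zero])
  obtain ⟨W, hW⟩ := Groth.Agent.S9286.Splits.of_finite_projective hP (a → R) (b → R)
    ((res b).comp v) hvab
  -- z' = res a z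
  have hz' : ((res a).rTensor Q) z = 0 := by
    have h1 : ((W.comp ((res b).comp v)).rTensor Q) (((res a).rTensor Q) z) =
        ((res a).rTensor Q) z := by
      rw [hW, LinearMap.rTensor_id_apply]
    rw [← h1]
    have h2 : (W.comp ((res b).comp v)).comp (res a) =
        (W.comp (res b)).comp (u.comp ((ext₀ a).comp (res a))) := by
      rw [hv]; rfl
    have h3 : (((W.comp (res b)).comp (u.comp ((ext₀ a).comp (res a)))).rTensor Q) z =
        ((W.comp (res b)).rTensor Q) ((u.rTensor Q) ((((ext₀ a).comp (res a)).rTensor Q) z)) := by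
      rw [LinearMap.rTensor_comp_apply Q (W.comp (res b)) (u.comp ((ext₀ a).comp (res a))),
        LinearMap.rTensor_comp_apply Q u ((ext₀ a).comp (res a))]
    rw [← LinearMap.rTensor_comp_apply, h2, h3, hza, hz, map_zero]
  rw [← hza, LinearMap.rTensor_comp_apply, hz', map_zero]

lemma free_case (N' M' : Type u) [AddCommGroup N'] [Module R N'] [Module.Free R N']
    [AddCommGroup M'] [Module R M'] [Module.Free R M'] (u : N' →ₗ[R] M')
    (hu : Function.Injective u) (Q : Type u) [AddCommGroup Q] [Module R Q] :
    Function.Injective (u.rTensor Q) := by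
  let eN := (Module.Free.chooseBasis R N').repr
  let eM := (Module.Free.chooseBasis R M').repr
  let u' : (Module.Free.ChooseBasisIndex R N' →₀ R) →ₗ[R] (Module.Free.ChooseBasisIndex R M' →₀ R) :=
    eM.toLinearMap.comp (u.comp eN.symm.toLinearMap)
  have hu' : Function.Injective u' := eM.injective.comp (hu.comp eN.symm.injective)
  have h := finsupp_case hP u' hu' Q
  have hcomp : u = eM.symm.toLinearMap.comp (u'.comp eN.toLinearMap) := by
    apply LinearMap.ext
    intro x
    simp [u']
  rw [hcomp, LinearMap.rTensor_comp, LinearMap.rTensor_comp]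
  have h1 : Function.Injective (eN.toLinearMap.rTensor Q) :=
    (eN.rTensor Q).injective
  have h2 : Function.Injective (eM.symm.toLinearMap.rTensor Q) :=
    (eM.symm.rTensor Q).injective
  exact h2.comp (h.comp h1)

lemma projective_case (N M : Type u) [AddCommGroup N] [Module R N] [Module.Projective R N]
    [AddCommGroup M] [Module R M] [Module.Projective R M] (u : N →ₗ[R] M)
    (hu : Function.Injective u) (Q : Type u) [AddCommGroup Q] [Module R Q] :
    Function.Injective (u.rTensor Q) := by
  obtain ⟨sN, hsN⟩ := Module.projective_def'.mp (inferInstance : Module.Projective R N)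
  obtain ⟨sM, hsM⟩ := Module.projective_def'.mp (inferInstance : Module.Projective R M)
  set pN : (N →₀ R) →ₗ[R] N := Finsupp.linearCombination R id with hpN
  set pM : (M →₀ R) →ₗ[R] M := Finsupp.linearCombination R id with hpM
  have hsN' : ∀ n, pN (sN n) = n := fun n => LinearMap.congr_fun hsN n
  have hsM' : ∀ m, pM (sM m) = m := fun m => LinearMap.congr_fun hsM m
  have hsMinj : Function.Injective sM := Function.LeftInverse.injective hsM'
  let U : (N →₀ R) →ₗ[R] (M →₀ R) × (N →₀ R) :=
    (sM.comp (u.comp pN)).prod (LinearMap.id - sN.comp pN)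
  have hU : Function.Injective U := by
    rw [injective_iff_map_eq_zero]
    intro y hy
    have h1 : sM (u (pN y)) = 0 := congrArg Prod.fst hy
    have h2 : y - sN (pN y) = 0 := congrArg Prod.snd hy
    have h3 : pN y = 0 := hu (hsMinj (by rw [h1, map_zero, map_zero]))
    rw [h3, map_zero, sub_zero] at h2
    exact h2
  have hUQ := free_case hP _ _ U hU Q
  have hUs : U.comp sN = ((LinearMap.inl R (M →₀ R) (N →₀ R)).comp sM).comp u := by
    apply LinearMap.ext
    intro n
    refine Prod.ext ?_ ?_
    · show sM (u (pN (sN n))) = sM (u n)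
      rw [hsN']
    · show sN n - sN (pN (sN n)) = 0
      rw [hsN', sub_self]
  rw [injective_iff_map_eq_zero]
  intro z hz
  have h1 : (U.rTensor Q) ((sN.rTensor Q) z) = 0 := by
    rw [← LinearMap.rTensor_comp_apply, hUs, LinearMap.rTensor_comp_apply, hz, map_zero]
  have h2 : (sN.rTensor Q) z = 0 := hUQ (by rw [h1, map_zero])
  have h3 : ((pN.comp sN).rTensor Q) z = z := by
    rw [hsN, LinearMap.rTensor_id_apply]
  rw [← h3, LinearMap.rTensor_comp_apply, h2, map_zero]

end

/-- Let R be a ring such that every proper finitely generated ideal of R has a nonzero annihilator, and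
let u : N → M be an R-linear map between projective R-modules. Then u stays injective after
tensoring with every R-module exactly when u is injective. -/
theorem result (R : Type u) [CommRing R]
    (hP : (∀ I : Ideal R, I.FG → I ≠ ⊤ → I.annihilator ≠ ⊥))
    (N M : Type u) [AddCommGroup N] [Module R N] [Module.Projective R N] [AddCommGroup M]
    [Module R M] [Module.Projective R M] (u : N →ₗ[R] M) :
    CAlgX.UniversallyInjective R u ↔ Function.Injective u := by
  constructor
  · intro h x y hxy
    have h1 := h R
    have h2 : (u.rTensor R) (x ⊗ₜ[R] (1 : R)) = (u.rTensor R) (y ⊗ₜ[R] (1 : R)) := by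
      rw [LinearMap.rTensor_tmul, LinearMap.rTensor_tmul, hxy]
    have h3 := congrArg (TensorProduct.rid R N) (h1 h2)
    simpa using h3
  · intro hu Q _ _
    exact projective_case hP N M u hu Q

end Groth.Agent.S9284
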