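import Groth.Statements.S9291
import Mathlib.RingTheory.Etale.Basic
import Mathlib.RingTheory.Localization.Away.Basic

set_option autoImplicit false
universe u
open EtAlg

namespace Groth.Agent.S9291

/-- Let A be a ring, I an ideal and u a unit of A/I. Then there is an étale ring map A → A' such that
A/I → A'/IA' is an isomorphism, together with a unit of A' mapping to the image of u. -/
theorem result (A : Type u) [CommRing A] (I : Ideal A) (u : (A ⧸ I)ˣ) :
    ∃ (A' : Type u) (_ : CommRing A') (_ : Algebra A A'), Algebra.Etale A A' ∧
      Function.Bijective (Ideal.quotientMap (Ideal.map (algebraMap A A') I) (algebraMap A A')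
        Ideal.le_comap_map) ∧
      ∃ u' : A'ˣ, Ideal.Quotient.mk (Ideal.map (algebraMap A A') I) (u' : A') =
        Ideal.quotientMap (Ideal.map (algebraMap A A') I) (algebraMap A A') Ideal.le_comap_map
          (u : A ⧸ I) := by
  classical
  obtain ⟨a, ha⟩ := Ideal.Quotient.mk_surjective (u : A ⧸ I)
  haveI : Algebra.Etale A (Localization.Away a) := Algebra.Etale.of_isLocalizationAway a
  refine ⟨Localization.Away a, inferInstance, inferInstance, inferInstance, ?_, ?_⟩
  · have hunit : IsUnit (Ideal.Quotient.mk I a) := ha ▸ u.isUnit
    let g0 : Localization.Away a →+* A ⧸ I :=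
      IsLocalization.Away.lift a (g := Ideal.Quotient.mk I) hunit
    have hg0 : ∀ x, g0 (algebraMap A (Localization.Away a) x) = Ideal.Quotient.mk I x :=
      fun x => IsLocalization.Away.lift_eq a hunit x
    have hker : ∀ x ∈ Ideal.map (algebraMap A (Localization.Away a)) I, g0 x = 0 := by
      have : Ideal.map (algebraMap A (Localization.Away a)) I ≤ RingHom.ker g0 := by
        rw [Ideal.map_le_iff_le_comap]
        intro x hx
        rw [Ideal.mem_comap, RingHom.mem_ker, hg0]
        exact Ideal.Quotient.eq_zero_iff_mem.mpr hx
      exact fun x hx => this hx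
    let g : (Localization.Away a ⧸ Ideal.map (algebraMap A (Localization.Away a)) I) →+* A ⧸ I :=
      Ideal.Quotient.lift _ g0 hker
    have hgf : ∀ x, g (Ideal.quotientMap (Ideal.map (algebraMap A (Localization.Away a)) I)
        (algebraMap A (Localization.Away a)) Ideal.le_comap_map x) = x := by
      intro x
      obtain ⟨x, rfl⟩ := Ideal.Quotient.mk_surjective x
      rw [Ideal.quotientMap_mk]
      exact (Ideal.Quotient.lift_mk _ g0 hker).trans (hg0 x)
    have hfg : ((Ideal.quotientMap (Ideal.map (algebraMap A (Localization.Away a)) I)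
        (algebraMap A (Localization.Away a)) Ideal.le_comap_map).comp g).comp
          (Ideal.Quotient.mk _) = (RingHom.id _).comp (Ideal.Quotient.mk _) := by
      apply IsLocalization.ringHom_ext (Submonoid.powers a)
      ext x
      simp only [RingHom.comp_apply, RingHom.id_apply]
      rw [show g (Ideal.Quotient.mk _ (algebraMap A (Localization.Away a) x)) = g0 _ from
        Ideal.Quotient.lift_mk _ g0 hker, hg0, Ideal.quotientMap_mk]
    refine ⟨Function.LeftInverse.injective hgf, ?_⟩
    intro y
    obtain ⟨y, rfl⟩ := Ideal.Quotient.mk_surjective y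
    exact ⟨g (Ideal.Quotient.mk _ y), RingHom.congr_fun hfg y⟩
  · refine ⟨(IsLocalization.Away.algebraMap_isUnit (S := Localization.Away a) a).unit, ?_⟩
    rw [← ha, Ideal.quotientMap_mk]
    rfl

end Groth.Agent.S9291
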