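import Groth.Statements.S9292
import Mathlib.RingTheory.Etale.Pi
import Mathlib.RingTheory.Localization.Away.Basic
import Mathlib.RingTheory.Localization.Ideal
import Mathlib.Tactic.Ring

set_option autoImplicit false
universe u
open EtAlg

namespace Groth.Agent.S9292

section
variable {A : Type u} [CommRing A] (I : Ideal A)

/-- key lemma: if `a * z ∈ I` then `z/1 ∈ I A_a`. -/
lemma algebraMap_mem_map_of_mul_mem (a z : A) (h : a * z ∈ I) :
    algebraMap A (Localization.Away a) z ∈ Ideal.map (algebraMap A (Localization.Away a)) I := by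
  have h1 : algebraMap A (Localization.Away a) z =
      IsLocalization.Away.invSelf a * algebraMap A (Localization.Away a) (a * z) := by
    rw [map_mul, ← mul_assoc, mul_comm (IsLocalization.Away.invSelf a),
      IsLocalization.Away.mul_invSelf, one_mul]
  rw [h1]
  exact Ideal.mul_mem_left _ _ (Ideal.mem_map_of_mem _ h)

/-- converse: if `z/1 ∈ I A_a` then `a^m z ∈ I` for some m. -/
lemma exists_pow_mul_mem_of_algebraMap_mem_map (a z : A)
    (h : algebraMap A (Localization.Away a) z ∈
      Ideal.map (algebraMap A (Localization.Away a)) I) :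
    ∃ m : ℕ, a ^ m * z ∈ I := by
  obtain ⟨⟨⟨i, hi⟩, ⟨s, ⟨k, rfl⟩⟩⟩, hx⟩ :=
    (IsLocalization.mem_map_algebraMap_iff (Submonoid.powers a) _).mp h
  simp only at hx
  rw [← map_mul] at hx
  obtain ⟨⟨t, ⟨l, rfl⟩⟩, ht⟩ := (IsLocalization.eq_iff_exists (Submonoid.powers a) _).mp hx
  simp only at ht
  refine ⟨l + k, ?_⟩
  have : a ^ (l + k) * z = a ^ l * i := by rw [← ht, pow_add]; ring
  rw [this]; exact I.mul_mem_left _ hi

variable {n : ℕ} (a : Fin n → A)

lemma mem_map_pi (y : Π j : Fin n, Localization.Away (a j)) :
    y ∈ Ideal.map (algebraMap A (Π j : Fin n, Localization.Away (a j))) I ↔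
      ∀ j, y j ∈ Ideal.map (algebraMap A (Localization.Away (a j))) I := by
  classical
  constructor
  · intro hy j
    have : Ideal.map (algebraMap A (Π j : Fin n, Localization.Away (a j))) I ≤
        Ideal.comap (Pi.evalRingHom (fun j : Fin n => Localization.Away (a j)) j)
          (Ideal.map (algebraMap A (Localization.Away (a j))) I) := by
      rw [Ideal.map_le_iff_le_comap]
      intro x hx
      exact Ideal.mem_map_of_mem (algebraMap A (Localization.Away (a j))) hx
    exact this hy
  · intro hy
    have hsum : y = ∑ j, Pi.single j (y j) := (Finset.univ_sum_single y).symm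
    rw [hsum]
    refine Submodule.sum_mem _ fun j _ => ?_
    obtain ⟨⟨⟨i, hi⟩, s⟩, hx⟩ :=
      (IsLocalization.mem_map_algebraMap_iff (Submonoid.powers (a j)) _).mp (hy j)
    simp only at hx
    obtain ⟨v, hv⟩ := IsLocalization.map_units (Localization.Away (a j)) s
    have hyj : y j = ↑v⁻¹ * algebraMap A (Localization.Away (a j)) i := by
      rw [← hx, ← hv, mul_comm (y j), ← mul_assoc, Units.inv_mul, one_mul]
    have : (Pi.single j (y j) : Π j : Fin n, Localization.Away (a j)) =
        Pi.single j (↑v⁻¹) * algebraMap A (Π j : Fin n, Localization.Away (a j)) i := by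
      ext k
      by_cases hk : k = j
      · subst hk
        simp only [Pi.single_eq_same, Pi.mul_apply, Pi.algebraMap_apply]
        exact hyj
      · simp only [Pi.single_eq_of_ne hk, Pi.mul_apply, zero_mul]
    rw [this]
    exact Ideal.mul_mem_left _ _ (Ideal.mem_map_of_mem _ hi)

end

/-- Let A be a ring, I an ideal, and e_1, ..., e_n a complete system of orthogonal idempotents of A/I
(equivalently a finite disjoint open covering of Spec(A/I)). Then one can find an A-algebra A' that
is étale over A, such that the induced map A/I → A'/IA' is bijective, together with a complete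
system of orthogonal idempotents of A' lifting the e_j. -/
theorem result (A : Type u) [CommRing A] (I : Ideal A)
    (n : ℕ) (e : Fin n → A ⧸ I) (he : CompleteOrthogonalIdempotents e) :
    ∃ (A' : Type u) (_ : CommRing A') (_ : Algebra A A'), Algebra.Etale A A' ∧
      Function.Bijective (Ideal.quotientMap (Ideal.map (algebraMap A A') I) (algebraMap A A')
        Ideal.le_comap_map) ∧
      ∃ e' : Fin n → A', CompleteOrthogonalIdempotents e' ∧
        ∀ j, Ideal.Quotient.mk (Ideal.map (algebraMap A A') I) (e' j) =
          Ideal.quotientMap (Ideal.map (algebraMap A A') I) (algebraMap A A') Ideal.le_comap_map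
            (e j) := by
  classical
  choose a ha using fun j => Ideal.Quotient.mk_surjective (e j)
  -- basic facts on the lifts
  have hmul : ∀ j k, j ≠ k → a j * a k ∈ I := by
    intro j k hjk
    rw [← Ideal.Quotient.eq_zero_iff_mem, map_mul, ha, ha]
    exact he.ortho hjk
  have hidem : ∀ j, a j * (1 - a j) ∈ I := by
    intro j
    rw [← Ideal.Quotient.eq_zero_iff_mem, map_mul, map_sub, map_one, ha, mul_sub, mul_one,
      (he.idem j).eq, sub_self]
  refine ⟨Π j : Fin n, Localization.Away (a j), inferInstance, inferInstance, inferInstance,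
    ⟨?_, ?_⟩, ?_⟩
  · -- injective
    rw [injective_iff_map_eq_zero]
    intro x hx
    obtain ⟨x, rfl⟩ := Ideal.Quotient.mk_surjective x
    rw [Ideal.quotientMap_mk, Ideal.Quotient.eq_zero_iff_mem, mem_map_pi] at hx
    have hkill : ∀ j, e j * Ideal.Quotient.mk I x = 0 := by
      intro j
      obtain ⟨m, hm⟩ := exists_pow_mul_mem_of_algebraMap_mem_map I (a j) x (hx j)
      rw [← Ideal.Quotient.eq_zero_iff_mem, map_mul, map_pow, ha] at hm
      rcases Nat.eq_zero_or_pos m with rfl | hmpos
      · rw [pow_zero, one_mul] at hm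
        rw [hm, mul_zero]
      · rwa [(he.idem j).pow_eq (Nat.pos_iff_ne_zero.mp hmpos)] at hm
    calc Ideal.Quotient.mk I x = (∑ j, e j) * Ideal.Quotient.mk I x := by
          rw [he.complete, one_mul]
      _ = 0 := by
          rw [Finset.sum_mul]
          exact Finset.sum_eq_zero fun j _ => hkill j
  · -- surjective
    intro y
    obtain ⟨y, rfl⟩ := Ideal.Quotient.mk_surjective y
    choose bs hbs using fun j => IsLocalization.surj (Submonoid.powers (a j)) (y j)
    refine ⟨Ideal.Quotient.mk I (∑ k, a k * (bs k).1), ?_⟩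
    rw [Ideal.quotientMap_mk, Ideal.Quotient.eq, mem_map_pi]
    intro j
    obtain ⟨v, hv⟩ := IsLocalization.map_units (Localization.Away (a j)) (bs j).2
    -- (x - y_j) = v⁻¹ * ((x * s - b_j)/1)
    have h1 : (algebraMap A (Π j : Fin n, Localization.Away (a j)) (∑ k, a k * (bs k).1) - y) j =
        ↑v⁻¹ * algebraMap A (Localization.Away (a j))
          ((∑ k, a k * (bs k).1) * ((bs j).2 : A) - (bs j).1) := by
      rw [map_sub, map_mul, ← hbs j, ← hv, Pi.sub_apply, Pi.algebraMap_apply]
      rw [← sub_mul, mul_comm _ (v : Localization.Away (a j)), ← mul_assoc, Units.inv_mul, one_mul]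
    rw [h1]
    apply Ideal.mul_mem_left
    apply algebraMap_mem_map_of_mul_mem
    rw [← Ideal.Quotient.eq_zero_iff_mem]
    obtain ⟨m, hm⟩ := (bs j).2.2
    rw [map_mul, map_sub, map_mul, map_sum, ← hm, map_pow, ha]
    simp only [map_mul, ha]
    -- e j * ((∑ k, e k * b k) * e j ^ m - b j) = 0
    have hsum : e j * ∑ k, e k * Ideal.Quotient.mk I (bs k).1 =
        e j * Ideal.Quotient.mk I (bs j).1 := by
      rw [Finset.mul_sum, Finset.sum_eq_single j]
      · rw [← mul_assoc, (he.idem j).eq]
      · intro k _ hkj
        rw [← mul_assoc, he.ortho hkj.symm, zero_mul]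
      · intro hj; exact absurd (Finset.mem_univ j) hj
    have hpow : e j * e j ^ m = e j := by
      rw [← pow_succ']
      exact (he.idem j).pow_succ_eq m
    calc e j * ((∑ k, e k * Ideal.Quotient.mk I (bs k).1) * e j ^ m - Ideal.Quotient.mk I (bs j).1)
        = (e j * e j ^ m) * ∑ k, e k * Ideal.Quotient.mk I (bs k).1
            - e j * Ideal.Quotient.mk I (bs j).1 := by ring
      _ = 0 := by rw [hpow, hsum, sub_self]
  · refine ⟨fun j => Pi.single j 1,
      CompleteOrthogonalIdempotents.single (fun j : Fin n => Localization.Away (a j)), ?_⟩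
    intro j
    rw [← ha j, Ideal.quotientMap_mk, Ideal.Quotient.eq, mem_map_pi]
    intro k
    by_cases hk : k = j
    · subst hk
      have : ((Pi.single k 1 : Π j : Fin n, Localization.Away (a j)) -
          algebraMap A (Π j : Fin n, Localization.Away (a j)) (a k)) k =
          algebraMap A (Localization.Away (a k)) (1 - a k) := by
        simp only [Pi.sub_apply, Pi.single_eq_same, Pi.algebraMap_apply, map_sub, map_one]
      rw [this]
      exact algebraMap_mem_map_of_mul_mem I (a k) _ (hidem k)
    · have : ((Pi.single j 1 : Π j : Fin n, Localization.Away (a j)) -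
          algebraMap A (Π j : Fin n, Localization.Away (a j)) (a j)) k =
          algebraMap A (Localization.Away (a k)) (- a j) := by
        simp only [Pi.sub_apply, Pi.single_eq_of_ne hk, Pi.algebraMap_apply, map_neg, zero_sub]
      rw [this]
      apply algebraMap_mem_map_of_mul_mem I (a k)
      rw [mul_neg]
      exact I.neg_mem (hmul k j hk)

end Groth.Agent.S9292
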