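import Groth.Statements.S9293
import Groth.Agent.Lib.Helper3.CA.RegHomBC

set_option autoImplicit false
universe u
open CAlg

namespace Groth.Agent.S9293

/-- If R → Λ is a regular ring map and R' is an R-algebra of finite type, then R' → R' ⊗_R Λ is again
regular. -/
theorem result (R Λ R' : Type u) [CommRing R] [CommRing Λ] [CommRing R']
    [Algebra R Λ] [Algebra R R'] [Algebra.FiniteType R R'] (h : CAlg.IsRegularHom R Λ) :
    CAlg.IsRegularHom R' (TensorProduct R R' Λ) := by
  obtain ⟨hf, h1⟩ := h
  refine ⟨inferInstance, fun p' _ => ?_⟩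
  have hN := (h1 (p'.under R)).1
  have hN' : IsNoetherianRing (p'.Fiber (TensorProduct R R' Λ)) :=
    Groth.Agent.H3.RegHomBC.isNoetherianRing_fiber_baseChange_of_finiteType R Λ R' p'
  exact ⟨hN', fun k' _ _ hfin => Groth.Agent.H3.RegHomBC.isRegularRing_fibre_baseChange R Λ R'
    (fun p _ K _ _ hK => (h1 p).2 K hK) p' k' hfin⟩

end Groth.Agent.S9293
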