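import Groth.Statements.S9300
import Mathlib.RingTheory.Ideal.Maps
import Mathlib.RingTheory.Ideal.Prime
import Mathlib.RingTheory.Localization.AtPrime.Basic

set_option autoImplicit false
universe u
open CAlg

namespace Groth.Agent.S9300

/-- Let A and B be domains and A → B a ring map for which the generic point of Spec(A) has a unique
preimage in Spec(B). Then every nonzero ideal of B has nonzero preimage in A. -/
theorem result (A B : Type u) [CommRing A] [IsDomain A]
    [CommRing B] [IsDomain B] (φ : A →+* B)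
    (h : ∃! q : PrimeSpectrum B, Ideal.comap φ q.asIdeal = ⊥) (J : Ideal B) (hJ : J ≠ ⊥) :
    Ideal.comap φ J ≠ ⊥ := by
  classical
  obtain ⟨q₀, hq₀, huniq⟩ := h
  intro hcomap
  -- the zero ideal of B is prime and lies over ⊥: first show φ injective
  have hinj : Function.Injective φ := by
    rw [injective_iff_map_eq_zero]
    intro a ha
    have : a ∈ Ideal.comap φ q₀.asIdeal := by
      rw [Ideal.mem_comap, ha]; exact Ideal.zero_mem _
    rw [hq₀] at this
    simpa using this
  have hbot : Ideal.comap φ (⊥ : Ideal B) = ⊥ := by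
    ext a
    simp only [Ideal.mem_comap, Ideal.mem_bot]
    exact ⟨fun ha => hinj (by rw [ha, map_zero]), fun ha => by rw [ha, map_zero]⟩
  let botB : PrimeSpectrum B := ⟨⊥, Ideal.isPrime_bot⟩
  have hq₀bot : q₀ = botB := (huniq botB hbot).symm
  -- the submonoid φ(A∖0)
  let S : Submonoid B := Submonoid.map φ (nonZeroDivisors A)
  have hdisj : Disjoint (J : Set B) (S : Set B) := by
    rw [Set.disjoint_left]
    rintro b hbJ ⟨a, ha, rfl⟩
    have : a ∈ Ideal.comap φ J := hbJ
    rw [hcomap] at this
    have ha0 : a = 0 := by simpa using this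
    exact (nonZeroDivisors.ne_zero ha) ha0
  obtain ⟨q, hqprime, hJq, hqS⟩ := Ideal.exists_le_prime_disjoint J S hdisj
  have hqcomap : Ideal.comap φ q = ⊥ := by
    rw [eq_bot_iff]
    intro a ha
    by_contra ha0
    have ha0' : a ≠ 0 := by simpa using ha0
    have : φ a ∈ (S : Set B) := ⟨a, mem_nonZeroDivisors_of_ne_zero ha0', rfl⟩
    exact Set.disjoint_left.mp hqS ha this
  have hq : (⟨q, hqprime⟩ : PrimeSpectrum B) = botB := by
    rw [← hq₀bot]; exact huniq ⟨q, hqprime⟩ hqcomap
  have hqbot : q = ⊥ := congrArg PrimeSpectrum.asIdeal hq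
  apply hJ
  rw [eq_bot_iff]
  exact hqbot ▸ hJq

end Groth.Agent.S9300
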