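import Groth.Statements.S9302
import Mathlib.CategoryTheory.Limits.ConcreteCategory.Basic
import Mathlib.RingTheory.Jacobson.Ideal
import Mathlib.Algebra.Polynomial.Identities
import Mathlib.Tactic.Ring
import Mathlib.Tactic.LinearCombination

set_option autoImplicit false
universe u
open CategoryTheory
open EtAlg

namespace Groth.Agent.S9302

open CategoryTheory.Limits Polynomial

lemma exists_of_compatible {J : Type u} [Category.{u} J] (F : J ⥤ CommRingCat.{u})
    (a : ∀ j, F.obj j) (h : ∀ (i j : J) (φ : i ⟶ j), (F.map φ).hom (a i) = a j) :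
    ∃ x : (limit F : CommRingCat.{u}), ∀ j, (limit.π F j).hom x = a j := by
  let s : (F ⋙ forget CommRingCat).sections := ⟨fun j => a j, fun {i j} φ => h i j φ⟩
  let e := Types.isLimitEquivSections (isLimitOfPreserves (forget CommRingCat) (limit.isLimit F))
  refine ⟨e.symm s, fun j => ?_⟩
  exact Types.isLimitEquivSections_symm_apply
    (isLimitOfPreserves (forget CommRingCat) (limit.isLimit F)) s j

lemma isUnit_of_isUnit_mk {S : Type u} [CommRing S] (I : Ideal S)
    (hI : I ≤ Ideal.jacobson ⊥) (x : S) (hx : IsUnit (Ideal.Quotient.mk I x)) : IsUnit x := by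
  obtain ⟨y', hy'⟩ := hx.exists_right_inv
  obtain ⟨y, rfl⟩ := Ideal.Quotient.mk_surjective y'
  have h1 : x * y - 1 ∈ I := by
    rw [← Ideal.Quotient.eq_zero_iff_mem, map_sub, map_mul, map_one, hy', sub_self]
  have h2 : IsUnit (x * y) := Ideal.isUnit_of_sub_one_mem_jacobson_bot _ (hI h1)
  exact isUnit_of_mul_isUnit_left h2

lemma root_unique {S : Type u} [CommRing S] (I : Ideal S) (hI : I ≤ Ideal.jacobson ⊥)
    (g : S[X]) (a₀ a a' : S) (ha : g.IsRoot a) (ha' : g.IsRoot a') (h1 : a - a₀ ∈ I)
    (h2 : a' - a₀ ∈ I) (hu : IsUnit (Ideal.Quotient.mk I (g.derivative.eval a₀))) : a = a' := by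
  have hy : a' - a ∈ I := by
    have : a' - a = (a' - a₀) - (a - a₀) := by ring
    rw [this]; exact I.sub_mem h2 h1
  obtain ⟨k, hk⟩ := g.binomExpansion a (a' - a)
  obtain ⟨z, hz⟩ := g.derivative.evalSubFactor a a₀
  have hroot : g.eval (a + (a' - a)) = 0 := by
    have : a + (a' - a) = a' := by ring
    rw [this]; exact ha'
  rw [hroot, ha.eq_zero, zero_add] at hk
  have hfac : (a' - a) * (g.derivative.eval a + k * (a' - a)) = 0 := by
    rw [hk]; ring
  have hunit : IsUnit (g.derivative.eval a + k * (a' - a)) := by
    apply isUnit_of_isUnit_mk I hI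
    have : Ideal.Quotient.mk I (g.derivative.eval a + k * (a' - a)) =
        Ideal.Quotient.mk I (g.derivative.eval a₀) := by
      rw [Ideal.Quotient.eq]
      have : g.derivative.eval a + k * (a' - a) - g.derivative.eval a₀ =
          z * (a - a₀) + k * (a' - a) := by rw [← hz]; ring
      rw [this]
      exact I.add_mem (I.mul_mem_left _ h1) (I.mul_mem_left _ hy)
    rw [this]; exact hu
  have := hunit.mul_left_eq_zero.mp hfac
  exact (sub_eq_zero.mp this).symm

/-- Henselian pairs are preserved under limits: for an inverse system (A_j, I_j) of henselian pairs over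
a preordered set J, the limit A = lim A_j with the ideal I = lim I_j (elements all of whose
projections lie in the I_j) is a henselian pair. -/
theorem result (J : Type u) [Preorder J] (F : J ⥤ CommRingCat.{u})
    (I : ∀ j : J, Ideal (F.obj j))
    (hI : ∀ (i j : J) (φ : i ⟶ j), Ideal.map (F.map φ).hom (I i) ≤ I j)
    (h : ∀ j : J, HenselianRing (F.obj j) (I j)) :
    HenselianRing ((Limits.limit F : CommRingCat.{u}) : Type u)
      (⨅ j : J, Ideal.comap (Limits.limit.π F j).hom (I j)) := by
  have hmem : ∀ x : (Limits.limit F : CommRingCat.{u}),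
      x ∈ (⨅ j : J, Ideal.comap (Limits.limit.π F j).hom (I j)) ↔
        ∀ j, (Limits.limit.π F j).hom x ∈ I j := by
    intro x
    simp only [Ideal.mem_iInf, Ideal.mem_comap]
  have hnat : ∀ (i j : J) (φ : i ⟶ j) (x : (Limits.limit F : CommRingCat.{u})),
      (F.map φ).hom ((Limits.limit.π F i).hom x) = (Limits.limit.π F j).hom x := by
    intro i j φ x
    have := Limits.limit.w F φ
    rw [← this]; rfl
  constructor
  · intro x hx
    rw [Ideal.mem_jacobson_bot]
    intro y
    have hu : ∀ j, IsUnit ((Limits.limit.π F j).hom (x * y + 1)) := by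
      intro j
      rw [map_add, map_mul, map_one]
      exact Ideal.mem_jacobson_bot.mp ((h j).jac ((hmem x).mp hx j)) _
    choose v hv using fun j => (hu j).exists_right_inv
    have hcompat : ∀ (i j : J) (φ : i ⟶ j), (F.map φ).hom (v i) = v j := by
      intro i j φ
      have h1 : (Limits.limit.π F j).hom (x * y + 1) * (F.map φ).hom (v i) = 1 := by
        rw [← hnat i j φ, ← map_mul, hv i, map_one]
      calc (F.map φ).hom (v i) = (F.map φ).hom (v i) *
            ((Limits.limit.π F j).hom (x * y + 1) * v j) := by rw [hv j, mul_one]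
        _ = ((Limits.limit.π F j).hom (x * y + 1) * (F.map φ).hom (v i)) * v j := by ring
        _ = v j := by rw [h1, one_mul]
    obtain ⟨w, hw⟩ := exists_of_compatible F v hcompat
    refine isUnit_iff_exists_inv.mpr ⟨w, ?_⟩
    apply Limits.Concrete.limit_ext F
    intro j
    show (Limits.limit.π F j).hom ((x * y + 1) * w) = (Limits.limit.π F j).hom 1
    rw [map_mul, hw, hv, map_one]
  · intro f hf a₀ h₁ h₂
    -- componentwise data
    have hfj : ∀ j, (f.map (Limits.limit.π F j).hom).Monic := fun j => hf.map _
    have hev : ∀ j, (f.map (Limits.limit.π F j).hom).eval ((Limits.limit.π F j).hom a₀) ∈ I j := by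
      intro j
      rw [Polynomial.eval_map_apply]
      exact (hmem _).mp h₁ j
    have hder : ∀ j, IsUnit (Ideal.Quotient.mk (I j)
        ((f.map (Limits.limit.π F j).hom).derivative.eval ((Limits.limit.π F j).hom a₀))) := by
      intro j
      obtain ⟨w', hw'⟩ := h₂.exists_right_inv
      obtain ⟨w, rfl⟩ := Ideal.Quotient.mk_surjective w'
      rw [← map_mul, ← map_one (Ideal.Quotient.mk _), Ideal.Quotient.eq] at hw'
      have := (hmem _).mp hw' j
      rw [Polynomial.derivative_map, Polynomial.eval_map_apply]
      refine isUnit_iff_exists_inv.mpr ⟨Ideal.Quotient.mk (I j) ((Limits.limit.π F j).hom w), ?_⟩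
      rw [← map_mul, ← map_one (Ideal.Quotient.mk _), Ideal.Quotient.eq, ← map_mul,
        ← map_one (Limits.limit.π F j).hom, ← map_sub]
      exact this
    choose a ha using fun j => (h j).is_henselian _ (hfj j) _ (hev j) (hder j)
    have hcompat : ∀ (i j : J) (φ : i ⟶ j), (F.map φ).hom (a i) = a j := by
      intro i j φ
      have hmap : (f.map (Limits.limit.π F i).hom).map (F.map φ).hom =
          f.map (Limits.limit.π F j).hom := by
        rw [Polynomial.map_map]
        congr 1
        ext x
        exact hnat i j φ x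
      apply root_unique (I j) (h j).jac (f.map (Limits.limit.π F j).hom)
        ((Limits.limit.π F j).hom a₀) _ _ _ (ha j).1 _ (ha j).2 (hder j)
      · rw [Polynomial.IsRoot.def, ← hmap, Polynomial.eval_map_apply, (ha i).1.eq_zero, map_zero]
      · rw [← hnat i j φ, ← map_sub]
        exact hI i j φ (Ideal.mem_map_of_mem _ (ha i).2)
    obtain ⟨r, hr⟩ := exists_of_compatible F a hcompat
    refine ⟨r, ?_, ?_⟩
    · rw [Polynomial.IsRoot.def]
      apply Limits.Concrete.limit_ext F
      intro j
      show (Limits.limit.π F j).hom (f.eval r) = (Limits.limit.π F j).hom 0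
      rw [← Polynomial.eval_map_apply, hr, (ha j).1.eq_zero, map_zero]
    · rw [hmem]
      intro j
      rw [map_sub, hr]
      exact (ha j).2

end Groth.Agent.S9302
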