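import Groth.Statements.S9314
import Groth.Agent.Lib.Helper5.CD.T9

set_option autoImplicit false
universe u
open CAlg

namespace Groth.Agent.S9314



/-- Let `A` and `B` be Noetherian local rings and `A → B` a local ring map, and suppose that the map
from `A` to its completion along the maximal ideal is a regular ring map. If `A → B` is formally
smooth for the adic topology of the maximal ideal of `B`, then `A → B` is a regular ring map: flat,
with Noetherian fibres that are geometrically regular over the residue fields of `A`. -/
theorem result {A B : Type u}
    [CommRing A] [CommRing B] [IsLocalRing A] [IsLocalRing B] [IsNoetherianRing A]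
    [IsNoetherianRing B] [Algebra A B] [IsLocalHom (algebraMap A B)]
    (hA : CAlg.IsRegularHom A (AdicCompletion (IsLocalRing.maximalIdeal A) A))
    (h : CAlgX.IsAdicFormallySmooth A B (IsLocalRing.maximalIdeal B)) :
    CAlg.IsRegularHom A B := by
  haveI : Module.Flat A B := Groth.Agent.H5.FSm.flat_of_isAdicFormallySmooth h
  have fgB : (IsLocalRing.maximalIdeal B).FG := IsNoetherian.noetherian _
  have h1 := Groth.Agent.H5.GRC.isAdicFormallySmooth_adicCompletion
    (IsLocalRing.maximalIdeal B) fgB h
  rw [← AdicCompletion.maximalIdeal_eq_map] at h1
  exact Groth.Agent.H5.GRC.isRegularHom_of_isAdicFormallySmooth_cpl A B hA h1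

end Groth.Agent.S9314
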