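import Groth.Statements.S9315
import Groth.Agent.Lib.Helper5.CA.LocalNilp

set_option autoImplicit false
universe u
open CAlg

namespace Groth.Agent.S9315

open IsLocalRing in
/-- Let `R → S` be a local homomorphism of local rings (no Noetherian hypothesis). Then `R → S` is
formally smooth for the adic topology of the maximal ideal of `S` if and only if the following
lifting property holds: for every local ring `A` with a local structure map `R → A`, every ideal `J`
of `A` of square zero such that some power of the maximal ideal of `A` is zero, and every local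
`R`-algebra homomorphism `ψ : S → A/J` inducing a bijection on residue fields, there is an
`R`-algebra homomorphism `S → A` lifting `ψ`. -/
theorem result {R S : Type u} [CommRing R] [CommRing S]
    [IsLocalRing R] [IsLocalRing S] [Algebra R S] [IsLocalHom (algebraMap R S)] :
    CAlgX.IsAdicFormallySmooth R S (maximalIdeal S) ↔
      ∀ (A : Type u) [CommRing A] [IsLocalRing A] [Algebra R A] [IsLocalHom (algebraMap R A)]
        (J : Ideal A), J ^ 2 = ⊥ → (∃ n : ℕ, maximalIdeal A ^ n = ⊥) →
        ∀ [IsLocalRing (A ⧸ J)] (ψ : S →ₐ[R] A ⧸ J) [IsLocalHom ψ.toRingHom],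
          Function.Bijective (ResidueField.map ψ.toRingHom) →
          ∃ χ : S →ₐ[R] A, (Ideal.Quotient.mkₐ R J).comp χ = ψ := by
  constructor
  · intro h A _ _ _ _ J hJ hn _ ψ hψloc _
    obtain ⟨n, hn⟩ := hn
    refine h A J hJ ψ ⟨n, fun x hx => ?_⟩
    have h1 : (IsLocalRing.maximalIdeal S).map ψ.toRingHom ≤ IsLocalRing.maximalIdeal (A ⧸ J) :=
      ((IsLocalRing.local_hom_TFAE ψ.toRingHom).out 0 2).mp hψloc
    have h2 : IsLocalRing.maximalIdeal (A ⧸ J) ≤
        (IsLocalRing.maximalIdeal A).map (Ideal.Quotient.mk J) := by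
      intro y hy
      obtain ⟨a, rfl⟩ := Ideal.Quotient.mk_surjective y
      refine Ideal.mem_map_of_mem _ ?_
      rw [IsLocalRing.mem_maximalIdeal, mem_nonunits_iff]
      intro ha
      exact hy (ha.map (Ideal.Quotient.mk J))
    have h3 : (IsLocalRing.maximalIdeal S ^ n).map ψ.toRingHom ≤ ⊥ := by
      rw [Ideal.map_pow]
      refine (Ideal.pow_right_mono (h1.trans h2) n).trans ?_
      rw [← Ideal.map_pow, hn, Ideal.map_bot]
    have := h3 (Ideal.mem_map_of_mem ψ.toRingHom hx)
    simpa using this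
  · intro h A _ _ J hJ ψ hψ
    obtain ⟨k₀, hk₀⟩ := hψ
    set k := max k₀ 1 with hkdef
    have hk1 : k ≠ 0 := by omega
    have hk : ∀ x ∈ IsLocalRing.maximalIdeal S ^ k, ψ x = 0 := fun x hx =>
      hk₀ x (Ideal.pow_le_pow_right (le_max_left _ _) hx)
    set I : Ideal S := IsLocalRing.maximalIdeal S ^ k with hI
    have hIle : I ≤ IsLocalRing.maximalIdeal S := Ideal.pow_le_self hk1
    have hIne : I ≠ ⊤ := fun h => (IsLocalRing.maximalIdeal.isMaximal S).ne_top
      (top_le_iff.mp (h ▸ hIle))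
    haveI : Nontrivial (S ⧸ I) := Ideal.Quotient.nontrivial_iff.mpr hIne
    haveI : IsLocalRing (S ⧸ I) :=
      IsLocalRing.of_surjective' (Ideal.Quotient.mk I) Ideal.Quotient.mk_surjective
    haveI hmkloc : IsLocalHom (Ideal.Quotient.mk I) :=
      IsLocalHom.of_surjective _ Ideal.Quotient.mk_surjective
    let ψbar : S ⧸ I →ₐ[R] A ⧸ J := Ideal.Quotient.liftₐ I ψ hk
    let F : Subalgebra R (A × (S ⧸ I)) :=
      AlgHom.equalizer ((Ideal.Quotient.mkₐ R J).comp (AlgHom.fst R A (S ⧸ I)))
        (ψbar.comp (AlgHom.snd R A (S ⧸ I)))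
    let p₁ : F →ₐ[R] A := (AlgHom.fst R A (S ⧸ I)).comp F.val
    let p₂ : F →ₐ[R] S ⧸ I := (AlgHom.snd R A (S ⧸ I)).comp F.val
    have hF : ∀ x : F, Ideal.Quotient.mk J (p₁ x) = ψbar (p₂ x) := fun x => x.2
    have hp₂ : Function.Surjective p₂ := by
      intro s
      obtain ⟨a, ha⟩ := Ideal.Quotient.mk_surjective (ψbar s)
      exact ⟨⟨(a, s), ha⟩, rfl⟩
    set J' : Ideal F := RingHom.ker p₂.toRingHom with hJ'
    have hJ'mem : ∀ x : F, x ∈ J' → p₁ x ∈ J := by
      intro x hx
      have h0 : p₂ x = 0 := hx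
      have h1 := hF x
      rw [h0, map_zero, Ideal.Quotient.eq_zero_iff_mem] at h1
      exact h1
    have hJ'sq : J' ^ 2 = ⊥ := by
      rw [eq_bot_iff, pow_two, Ideal.mul_le]
      intro x hx y hy
      rw [Ideal.mem_bot]
      apply Subtype.ext
      apply Prod.ext
      · show p₁ (x * y) = 0
        rw [map_mul]
        have : p₁ x * p₁ y ∈ J ^ 2 := by
          rw [pow_two]; exact Ideal.mul_mem_mul (hJ'mem x hx) (hJ'mem y hy)
        rw [hJ] at this
        exact this
      · show p₂ (x * y) = 0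
        rw [map_mul, (show p₂ x = 0 from hx), zero_mul]
    have hJ'nil : IsNilpotent J' := ⟨2, hJ'sq⟩
    haveI : IsLocalRing F :=
      Groth.Agent.H5.LocalNilp.isLocalRing_of_isNilpotent_ker p₂.toRingHom hp₂ hJ'nil
    haveI hp₂loc : IsLocalHom p₂.toRingHom :=
      Groth.Agent.H5.LocalNilp.isLocalHom_of_isNilpotent_ker _ hp₂ hJ'nil
    haveI : IsLocalHom (algebraMap R F) := by
      constructor
      intro r hr
      have h1 : IsUnit (p₂ (algebraMap R F r)) := hr.map p₂
      rw [AlgHom.commutes] at h1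
      have h2 : IsUnit (Ideal.Quotient.mk I (algebraMap R S r)) := h1
      have h3 : IsUnit (algebraMap R S r) := (isUnit_map_iff (Ideal.Quotient.mk I) _).mp h2
      exact (isUnit_map_iff (algebraMap R S) r).mp h3
    have hmax : ∃ n : ℕ, IsLocalRing.maximalIdeal F ^ n = ⊥ := by
      refine ⟨k * 2, ?_⟩
      have h1 : IsLocalRing.maximalIdeal F ^ k ≤ J' := by
        have h2 : (IsLocalRing.maximalIdeal F).map p₂.toRingHom ≤ IsLocalRing.maximalIdeal (S ⧸ I) :=
          ((IsLocalRing.local_hom_TFAE p₂.toRingHom).out 0 2).mp hp₂loc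
        have h3 : IsLocalRing.maximalIdeal (S ⧸ I) ≤
            (IsLocalRing.maximalIdeal S).map (Ideal.Quotient.mk I) := by
          intro y hy
          obtain ⟨a, rfl⟩ := Ideal.Quotient.mk_surjective y
          refine Ideal.mem_map_of_mem _ ?_
          rw [IsLocalRing.mem_maximalIdeal, mem_nonunits_iff]
          intro ha
          exact hy (ha.map (Ideal.Quotient.mk I))
        have h4 : (IsLocalRing.maximalIdeal F ^ k).map p₂.toRingHom ≤ ⊥ := by
          rw [Ideal.map_pow]
          refine (Ideal.pow_right_mono (h2.trans h3) k).trans ?_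
          rw [← Ideal.map_pow, Ideal.map_quotient_self]
        intro x hx
        have := h4 (Ideal.mem_map_of_mem p₂.toRingHom hx)
        exact this
      rw [pow_mul]
      exact le_bot_iff.mp ((Ideal.pow_right_mono h1 2).trans hJ'sq.le)
    have hJ'ne : J' ≠ ⊤ := by
      intro h
      have h1 : (1 : F) ∈ J' := by rw [h]; trivial
      have h2 : p₂ 1 = 0 := h1
      rw [map_one] at h2
      exact one_ne_zero h2
    haveI : Nontrivial (F ⧸ J') := Ideal.Quotient.nontrivial_iff.mpr hJ'ne
    haveI : IsLocalRing (F ⧸ J') :=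
      IsLocalRing.of_surjective' (Ideal.Quotient.mk J') Ideal.Quotient.mk_surjective
    let e : (F ⧸ J') ≃ₐ[R] S ⧸ I := Ideal.quotientKerAlgEquivOfSurjective hp₂
    let ψ' : S →ₐ[R] F ⧸ J' := e.symm.toAlgHom.comp (Ideal.Quotient.mkₐ R I)
    have hψ'surj : Function.Surjective ψ' := by
      intro y
      obtain ⟨s, hs⟩ := Ideal.Quotient.mk_surjective (e y)
      refine ⟨s, ?_⟩
      show e.symm (Ideal.Quotient.mk I s) = y
      rw [hs, AlgEquiv.symm_apply_apply]
    haveI : IsLocalHom ψ'.toRingHom := by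
      have := @IsLocalHom.of_surjective S (F ⧸ J') _ _ _ _ ψ'.toRingHom hψ'surj
      exact this
    have hbij : Function.Bijective (IsLocalRing.ResidueField.map (R := S) (S := F ⧸ J') ψ'.toRingHom) := by
      refine ⟨RingHom.injective _, fun y => ?_⟩
      obtain ⟨z, rfl⟩ := IsLocalRing.residue_surjective y
      obtain ⟨s, rfl⟩ := hψ'surj z
      exact ⟨IsLocalRing.residue S s, IsLocalRing.ResidueField.map_residue _ _⟩
    obtain ⟨χ', hχ'⟩ := h F J' hJ'sq hmax ψ' hbij
    refine ⟨p₁.comp χ', ?_⟩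
    ext s
    show Ideal.Quotient.mk J (p₁ (χ' s)) = ψ s
    rw [hF]
    have h1 : p₂ (χ' s) = Ideal.Quotient.mk I s := by
      have h2 : Ideal.Quotient.mk J' (χ' s) = e.symm (Ideal.Quotient.mk I s) :=
        congrArg (fun φ => φ s) hχ'
      have h3 : e (Ideal.Quotient.mk J' (χ' s)) = p₂ (χ' s) :=
        Ideal.quotientKerAlgEquivOfSurjective_mk hp₂ _
      rw [← h3, h2, AlgEquiv.apply_symm_apply]
    rw [h1]
    rfl


end Groth.Agent.S9315
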