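import Groth.Statements.S9317
import Groth.Agent.Lib.Helper5.CA.AdicFS4

set_option autoImplicit false
universe u
open CAlg

namespace Groth.Agent.S9317

/-- Let `R → S` be a ring map, let `𝔪 ⊆ R` and `𝔫 ⊆ S` be finitely generated ideals such that some power
of `𝔪` maps into `𝔫`, and let `R^`, `S^` be the `𝔪`-adic and `𝔫`-adic completions. Let `ψ : R^ → S^`
be a ring map whose composite with `R → R^` is the composite `R → S → S^` (there is exactly one such
map, the canonical one, since any such map is continuous for the adic topologies). Then `R → S` is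
formally smooth for the `𝔫`-adic topology if and only if `R^ → S^`, i.e. `S^` viewed as an
`R^`-algebra through `ψ`, is formally smooth for the adic topology of the extension of `𝔫` to `S^`. -/
theorem result {R S : Type u} [CommRing R] [CommRing S]
    [Algebra R S] (𝔪 : Ideal R) (𝔫 : Ideal S) (h𝔪 : 𝔪.FG) (h𝔫 : 𝔫.FG)
    (hc : ∃ c : ℕ, (𝔪 ^ c).map (algebraMap R S) ≤ 𝔫)
    (ψ : AdicCompletion 𝔪 R →+* AdicCompletion 𝔫 S)
    (hψ : ψ.comp (algebraMap R (AdicCompletion 𝔪 R)) =
      (algebraMap S (AdicCompletion 𝔫 S)).comp (algebraMap R S)) :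
    CAlgX.IsAdicFormallySmooth R S 𝔫 ↔
      letI : Algebra (AdicCompletion 𝔪 R) (AdicCompletion 𝔫 S) := ψ.toAlgebra
      CAlgX.IsAdicFormallySmooth (AdicCompletion 𝔪 R) (AdicCompletion 𝔫 S)
        (𝔫.map (algebraMap S (AdicCompletion 𝔫 S))) := by
  letI : Algebra (AdicCompletion 𝔪 R) (AdicCompletion 𝔫 S) := ψ.toAlgebra
  haveI : IsScalarTower R (AdicCompletion 𝔪 R) (AdicCompletion 𝔫 S) :=
    IsScalarTower.of_algebraMap_eq (fun r => by
      have := congrArg (fun f => f r) hψ
      exact this.symm)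
  show CAlgX.IsAdicFormallySmooth R S 𝔫 ↔
    CAlgX.IsAdicFormallySmooth (AdicCompletion 𝔪 R) (AdicCompletion 𝔫 S)
        (𝔫.map (algebraMap S (AdicCompletion 𝔫 S)))
  rw [Groth.Agent.H5.AdicFS.isAdicFormallySmooth_iff_bot,
    Groth.Agent.H5.AdicFS.isFormallySmoothAdic_adicCompletion_iff ⊥ 𝔫 h𝔫,
    ← Groth.Agent.H5.AdicFS.isAdicFormallySmooth_iff_bot]
  refine Groth.Agent.H5.AdicFS.isAdicFormallySmooth_base_completion_iff 𝔪 h𝔪 _ ?_
  obtain ⟨c, hc⟩ := hc
  refine ⟨c, ?_⟩
  have h1 : algebraMap R (AdicCompletion 𝔫 S) =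
      (algebraMap S (AdicCompletion 𝔫 S)).comp (algebraMap R S) := rfl
  rw [h1, ← Ideal.map_map]
  exact Ideal.map_mono hc


end Groth.Agent.S9317
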