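import Groth.Statements.S9325
import Groth.Agent.Lib.Helper5.CA.H1Reg

set_option autoImplicit false
universe u
open CAlg

namespace Groth.Agent.S9325

/-- Let `A` be a ring and `I ⊆ J` ideals of `A` such that the ideal `J/I` of `A/I` is `H_1`-regular: for
every prime `𝔮` of `A/I` containing `J/I` there is `g ∉ 𝔮` such that the extension of `J/I` to
`(A/I)_g` is generated by an `H_1`-regular sequence (a finite sequence all of whose linear relations
are combinations of the trivial ones). Then `I ∩ J² = I J`. -/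
theorem result {A : Type u} [CommRing A] (I J : Ideal A)
    (hIJ : I ≤ J)
    (h : ∀ (𝔮 : Ideal (A ⧸ I)) [𝔮.IsPrime], J.map (Ideal.Quotient.mk I) ≤ 𝔮 →
      ∃ g : A ⧸ I, g ∉ 𝔮 ∧ ∃ (c : ℕ) (f : Fin c → Localization.Away g),
        CAlgX.IsH1Regular f ∧
          Ideal.span (Set.range f) =
            (J.map (Ideal.Quotient.mk I)).map (algebraMap (A ⧸ I) (Localization.Away g))) :
    I ⊓ J ^ 2 = I * J := by
  apply le_antisymm
  · intro x hx
    have hxI : x ∈ I := (Submodule.mem_inf.1 hx).1
    have hxJ : x ∈ J ^ 2 := (Submodule.mem_inf.1 hx).2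
    by_contra hxn
    -- the colon ideal
    let 𝔞 : Ideal A := (I * J).colon {x}
    have h𝔞 : ∀ a, a ∈ 𝔞 ↔ a * x ∈ I * J := fun a => Submodule.mem_colon_singleton
    have hne : 𝔞 ≠ ⊤ := by
      intro htop
      have : (1 : A) ∈ 𝔞 := by rw [htop]; trivial
      rw [h𝔞, one_mul] at this
      exact hxn this
    obtain ⟨P, hP, hle⟩ := Ideal.exists_le_maximal 𝔞 hne
    have hPp : P.IsPrime := hP.isPrime
    by_cases hJP : J ≤ P
    · have hIP : I ≤ P := hIJ.trans hJP
      have hq : (P.map (Ideal.Quotient.mk I)).IsPrime :=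
        Ideal.map_isPrime_of_surjective Ideal.Quotient.mk_surjective (by rwa [Ideal.mk_ker])
      obtain ⟨g, hg, c, f, hf, hspan⟩ := h (P.map (Ideal.Quotient.mk I)) (Ideal.map_mono hJP)
      obtain ⟨g', rfl⟩ := Ideal.Quotient.mk_surjective g
      have hg'P : g' ∉ P := fun hh => hg (Ideal.mem_map_of_mem _ hh)
      -- the localization A' and π
      let A' := Localization.Away g'
      let B := Localization.Away (Ideal.Quotient.mk I g')
      let φ : A →+* B := (algebraMap (A ⧸ I) B).comp (Ideal.Quotient.mk I)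
      have hu : IsUnit (φ g') := IsLocalization.Away.algebraMap_isUnit (Ideal.Quotient.mk I g')
      let π : A' →+* B := IsLocalization.Away.lift g' hu
      have hπ : ∀ a : A, π (algebraMap A A' a) = φ a := fun a => IsLocalization.Away.lift_eq g' hu a
      have hπcomp : π.comp (algebraMap A A') = φ := RingHom.ext hπ
      have hsurj : Function.Surjective π := by
        intro b
        obtain ⟨⟨y, ⟨_, n, rfl⟩⟩, rfl⟩ := IsLocalization.mk'_surjective (Submonoid.powers (Ideal.Quotient.mk I g')) b
        obtain ⟨a, rfl⟩ := Ideal.Quotient.mk_surjective y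
        refine ⟨IsLocalization.mk' A' a (⟨g' ^ n, n, rfl⟩ : Submonoid.powers g'), ?_⟩
        rw [IsLocalization.eq_mk'_iff_mul_eq]
        have h1 : algebraMap (A ⧸ I) B ((Ideal.Quotient.mk I g') ^ n) = π (algebraMap A A' (g' ^ n)) := by
          rw [hπ]; simp [φ]
        rw [h1, ← map_mul, IsLocalization.mk'_spec, hπ]
        rfl
      have hker : RingHom.ker π = I.map (algebraMap A A') := by
        apply le_antisymm
        · intro a' ha'
          obtain ⟨⟨a, s⟩, rfl⟩ := IsLocalization.mk'_surjective (Submonoid.powers g') a'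
          rw [IsLocalization.mk'_mem_map_algebraMap_iff (Submonoid.powers g')]
          have h1 : φ a = 0 := by
            rw [← hπ, ← IsLocalization.mk'_spec A' a s, map_mul, (RingHom.mem_ker).1 ha', zero_mul]
          have h2 : algebraMap (A ⧸ I) B (Ideal.Quotient.mk I a) = 0 := h1
          rw [IsLocalization.map_eq_zero_iff (Submonoid.powers (Ideal.Quotient.mk I g'))] at h2
          obtain ⟨⟨_, k, rfl⟩, hk⟩ := h2
          refine ⟨g' ^ k, ⟨k, rfl⟩, ?_⟩
          rw [← Ideal.Quotient.eq_zero_iff_mem, map_mul, map_pow]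
          exact hk
        · rw [Ideal.map_le_iff_le_comap]
          intro i hi
          rw [Ideal.mem_comap, RingHom.mem_ker, hπ]
          simp only [φ, RingHom.comp_apply]
          rw [Ideal.Quotient.eq_zero_iff_mem.2 hi, map_zero]
      have hspan' : Ideal.span (Set.range f) = (J.map (algebraMap A A')).map π := by
        rw [hspan, Ideal.map_map, Ideal.map_map, hπcomp]
      have key := H5H1Reg.inf_sq_le_mul π hsurj (I.map (algebraMap A A')) (J.map (algebraMap A A'))
        (Ideal.map_mono hIJ) hker f hf hspan'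
      have hx' : algebraMap A A' x ∈ I.map (algebraMap A A') ⊓ J.map (algebraMap A A') ^ 2 := by
        refine Submodule.mem_inf.2 ⟨Ideal.mem_map_of_mem _ hxI, ?_⟩
        rw [← Ideal.map_pow]
        exact Ideal.mem_map_of_mem _ hxJ
      have h3 := key hx'
      rw [← Ideal.map_mul, IsLocalization.algebraMap_mem_map_algebraMap_iff (Submonoid.powers g')] at h3
      obtain ⟨_, ⟨k, rfl⟩, hk⟩ := h3
      have h4 : g' ^ k ∈ P := hle ((h𝔞 _).2 hk)
      exact hg'P (hPp.mem_of_pow_mem k h4)
    · obtain ⟨j, hjJ, hjP⟩ := SetLike.not_le_iff_exists.1 hJP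
      apply hjP
      apply hle
      rw [h𝔞, mul_comm j x]
      exact Ideal.mul_mem_mul hxI hjJ
  · refine le_inf Ideal.mul_le_left ?_
    rw [pow_two]
    exact Ideal.mul_mono_left hIJ

end Groth.Agent.S9325
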