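import Groth.Statements.S9329
import Groth.Agent.Lib.Helper8.ASK.Abhyankar
import Groth.Agent.Lib.Helper8.ASK.TotRamSol
-- import your own Groth.Agent.* helpers here

set_option autoImplicit false
universe u
open EtRam

namespace Groth.Agent.S9329

open Polynomial IsLocalRing in
/-- Let `K` be the fraction field of a discrete valuation ring `A`, let `π` be a uniformizer of `A`, and
let `L` be a finite separable extension of `K` which is tamely ramified with respect to `A`. Then
there is `e₀ ≥ 1` invertible in the residue field of `A` such that for each `d ≥ 1` that is also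
invertible in the residue field, setting `e = d e₀` and `A' = A[z]/(z^e - π)`, there is a finite
separable extension `L'` of `K` into which `L` embeds over `K`, carrying an `A'`-algebra structure
extending `A → K → L'`, such that `L'` is unramified with respect to `A'`. (The local-ring instance
on `A'`, which holds, is quantified as a hypothesis.) -/
theorem result
    {A K L : Type u} [CommRing A] [IsDomain A]
    [IsDiscreteValuationRing A] [Field K] [Algebra A K] [IsFractionRing A K] [Field L] [Algebra K L]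
    [Algebra A L] [IsScalarTower A K L] [FiniteDimensional K L] [Algebra.IsSeparable K L]
    (π : A) (hπ : maximalIdeal A = Ideal.span {π}) (h : EtRam.IsTamelyRamified A (algebraMap A L)) :
    ∃ e₀ : ℕ, 0 < e₀ ∧ (e₀ : ResidueField A) ≠ 0 ∧
      ∀ d : ℕ, 0 < d → (d : ResidueField A) ≠ 0 →
        ∃ (L' : Type u) (_ : Field L') (_ : Algebra K L')
          (_ : Algebra (AdjoinRoot (X ^ (d * e₀) - C π : A[X])) L') (_ : L →ₐ[K] L'),
          FiniteDimensional K L' ∧ Algebra.IsSeparable K L' ∧
          (algebraMap (AdjoinRoot (X ^ (d * e₀) - C π : A[X])) L').comp (AdjoinRoot.of (X ^ (d * e₀) - C π)) =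
            (algebraMap K L').comp (algebraMap A K) ∧
          ∀ [IsLocalRing (AdjoinRoot (X ^ (d * e₀) - C π : A[X]))],
            EtRam.IsUnramifiedExt (AdjoinRoot (X ^ (d * e₀) - C π : A[X]))
              (algebraMap (AdjoinRoot (X ^ (d * e₀) - C π : A[X])) L') := by
  classical
  obtain ⟨p, hp⟩ := CharP.exists (ResidueField A)
  obtain ⟨n, hn⟩ : ∃ n, n = Module.finrank K L := ⟨_, rfl⟩
  obtain ⟨e₀, he₀pos, he₀A, he₀div⟩ : ∃ e₀ : ℕ, 0 < e₀ ∧ ((e₀ : ℕ) : ResidueField A) ≠ 0 ∧
      ∀ m : ℕ, 0 < m → m ≤ n → ((m : ℕ) : ResidueField A) ≠ 0 → m ∣ e₀ := by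
    rcases CharP.char_is_prime_or_zero (ResidueField A) p with hpp | hp0
    · have hfac0 : n.factorial ≠ 0 := (Nat.factorial_pos n).ne'
      refine ⟨ordCompl[p] (n.factorial), Nat.ordCompl_pos p hfac0, ?_, ?_⟩
      · rw [Ne, CharP.cast_eq_zero_iff (ResidueField A) p]
        exact Nat.not_dvd_ordCompl hpp hfac0
      · intro m hm hmn hmA
        rw [Ne, CharP.cast_eq_zero_iff (ResidueField A) p] at hmA
        have hcop : Nat.Coprime m (ordProj[p] (n.factorial)) :=
          Nat.Coprime.pow_right _ ((Nat.Prime.coprime_iff_not_dvd hpp).mpr hmA).symm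
        apply hcop.dvd_of_dvd_mul_left
        rw [Nat.ordProj_mul_ordCompl_eq_self]
        exact Nat.dvd_factorial hm hmn
    · subst hp0
      haveI := CharP.charP_to_charZero (ResidueField A)
      exact ⟨n.factorial, Nat.factorial_pos n, Nat.cast_ne_zero.mpr (Nat.factorial_pos n).ne',
        fun m hm hmn _ => Nat.dvd_factorial hm hmn⟩
  refine ⟨e₀, he₀pos, he₀A, ?_⟩
  intro d hd hdA
  have hcast : ((d * e₀ : ℕ) : ResidueField A) ≠ 0 := by
    rw [Nat.cast_mul]; exact mul_ne_zero hdA he₀A
  refine Groth.Agent.H8.BC.abhyankar_fwd π hπ h (d * e₀) (Nat.mul_pos hd he₀pos) hcast ?_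
  intro V hV y₀ eV hu hpe
  have hinj := Groth.Agent.H8.ASK.algebraMap_inj A K L
  have hvπlt : V.valuation (algebraMap A L π) < 1 := Groth.Agent.H8.ASK.val_pi_lt_one hπ hV
  have heV0 : eV ≠ 0 := by
    intro h0
    rw [h0, pow_zero] at hpe
    exact absurd hpe (ne_of_lt hvπlt)
  have hle : eV ≤ n := by
    obtain ⟨-, -, hli⟩ := Groth.Agent.H8.RI.comp_core (L := K) hπ hV heV0 hpe.symm
    have h1 := hli.fintype_card_le_finrank
    rwa [Fintype.card_fin, ← hn] at h1
  have hπ0 : algebraMap A L π ≠ 0 := Groth.Agent.H8.ASK.algL_pi_ne_zero hπ hinj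
  have heVA : ((eV : ℕ) : ResidueField A) ≠ 0 := by
    rw [Ne, CharP.cast_eq_zero_iff (ResidueField A) p]
    rcases CharP.char_is_prime_or_zero (ResidueField A) p with hpp | hp0
    · letI algAV : Algebra A V := (RingHom.codRestrict (algebraMap A L) V hV.1).toAlgebra
      haveI locAV : IsLocalHom (algebraMap A V) := Groth.Agent.H8.RI.isLocalHom_of_dominates hV
      obtain ⟨-, htame⟩ := @h V hV locAV
      have h1 := htame p hpp hp
      have hram : Ideal.ramificationIdx' (maximalIdeal A) (maximalIdeal V) = eV := by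
        rw [Groth.Agent.H8.RI.ramificationIdx'_eq_sSup V π hπ]
        exact Groth.Agent.H8.RI.HasOrdAt.sSup_eq ⟨heV0, hπ0, hu, hpe⟩
      rwa [hram] at h1
    · rw [hp0, zero_dvd_iff]; exact heV0
  exact Dvd.dvd.mul_left (he₀div eV (Nat.pos_of_ne_zero heV0) hle heVA) d

end Groth.Agent.S9329
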