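import Groth.Statements.S9331
import Groth.Agent.Lib.Helper5.FtPts.FieldPoint

set_option autoImplicit false
universe u
open QFin

namespace Groth.Agent.S9331

open AlgebraicGeometry CategoryTheory in
/-- Let f : X → S be a morphism of schemes, x ∈ X, s = f x. If κ(x) is algebraic over κ(s) (through the
residue field map of f at x), then x is a closed point of the fibre X_s, and if in addition s is
closed in S then x is closed in X. -/
theorem result {X S : Scheme.{u}} (f : X ⟶ S) (x : X)
    (halg : @Algebra.IsAlgebraic (S.residueField (f.base x)) (X.residueField x) _ _ (f.residueFieldMap x).hom.toAlgebra) :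
    IsClosed ({f.asFiber x} : Set ↑(f.fiber (f.base x))) ∧
      (IsClosed ({f.base x} : Set ↑S) → IsClosed ({x} : Set ↑X)) := by
  have h1 : IsClosed ({f.asFiber x} : Set ↑(f.fiber (f.base x))) := by
    have hcomp : f.asFiberHom x ≫ f.fiberToSpecResidueField _ = Spec.map (f.residueFieldMap x) :=
      f.asFiberHom_fiberToSpecResidueField x
    haveI : IsIntegralHom (f.asFiberHom x ≫ f.fiberToSpecResidueField _) := by
      rw [hcomp, IsIntegralHom.SpecMap_iff]
      letI := (f.residueFieldMap x).hom.toAlgebra
      haveI : Algebra.IsIntegral (S.residueField (f.base x)) (X.residueField x) :=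
        Algebra.IsAlgebraic.isIntegral
      intro a
      exact Algebra.IsIntegral.isIntegral a
    haveI : Subsingleton (Spec (X.residueField x)) :=
      inferInstanceAs (Subsingleton (PrimeSpectrum (X.residueField x)))
    have := Groth.Agent.H5.FtPts.isClosed_range_of_isIntegralHom_comp (f.asFiberHom x) (f.fiberToSpecResidueField _)
    rwa [f.range_asFiberHom x] at this
  refine ⟨h1, fun hs => ?_⟩
  have hemb : Topology.IsClosedEmbedding (f.fiberι (f.base x)) := by
    refine ⟨(f.fiberι (f.base x)).isEmbedding, ?_⟩
    rw [f.range_fiberι]
    exact hs.preimage f.continuous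
  have := hemb.isClosedMap _ h1
  rwa [Set.image_singleton, f.fiberι_asFiber] at this

end Groth.Agent.S9331
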