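import Groth.Statements.S9332
import Mathlib.AlgebraicGeometry.Morphisms.Finite
import Mathlib.AlgebraicGeometry.Fiber
import Mathlib.RingTheory.Jacobson.Ring

set_option autoImplicit false
universe u
open QFin

namespace Groth.Agent.S9332

open AlgebraicGeometry CategoryTheory in
/-- Let f : X → S be locally of finite type and x ∈ X. Then x is closed in its fibre X_{f x} if and only
if κ(x) is a finite extension of κ(f x) (via the residue field map of f at x). -/
theorem result {X S : Scheme.{u}} (f : X ⟶ S) [LocallyOfFiniteType f] (x : X) :
    IsClosed ({f.asFiber x} : Set ↑(f.fiber (f.base x))) ↔ (f.residueFieldMap x).hom.Finite := by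
  -- the fibre is a Jacobson scheme, and `asFiberHom` is a morphism from the spectrum of a field
  have hcomp : f.asFiberHom x ≫ f.fiberToSpecResidueField _ = Spec.map (f.residueFieldMap x) :=
    f.asFiberHom_fiberToSpecResidueField x
  have : LocallyOfFiniteType (f.fiberToSpecResidueField (f.base x)) :=
    MorphismProperty.pullback_snd _ _ inferInstance
  have hfin_iff : IsFinite (f.asFiberHom x) ↔ LocallyOfFiniteType (f.asFiberHom x) :=
    isFinite_iff_locallyOfFiniteType_of_jacobsonSpace
  constructor
  · intro hcl
    -- closed range ⇒ closed immersion ⇒ finite type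
    have hrange : IsClosed (Set.range (f.asFiberHom x).base) := by
      rw [f.range_asFiberHom x]; exact hcl
    have : IsClosedImmersion (f.asFiberHom x) := .of_isPreimmersion _ hrange
    have : LocallyOfFiniteType (Spec.map (f.residueFieldMap x)) := by
      rw [← hcomp]; infer_instance
    have hft : (f.residueFieldMap x).hom.FiniteType :=
      (HasRingHomProperty.Spec_iff (P := @LocallyOfFiniteType)).mp inferInstance
    exact RingHom.finite_iff_finiteType_of_isJacobsonRing.mpr hft
  · intro hfin
    have : IsFinite (Spec.map (f.residueFieldMap x)) := (IsFinite.SpecMap_iff _).mpr hfin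
    have : LocallyOfFiniteType (f.asFiberHom x ≫ f.fiberToSpecResidueField _) := by
      rw [hcomp]; infer_instance
    have : LocallyOfFiniteType (f.asFiberHom x) :=
      locallyOfFiniteType_of_comp _ (f.fiberToSpecResidueField _)
    have : IsFinite (f.asFiberHom x) := hfin_iff.mpr inferInstance
    have := (f.asFiberHom x).isClosedMap.isClosed_range
    rwa [f.range_asFiberHom x] at this

end Groth.Agent.S9332
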