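import Groth.Statements.S9334
import Groth.Agent.Lib.Helper5.FtPts.IsolatedPoint
import Mathlib.AlgebraicGeometry.Morphisms.QuasiFinite
import Mathlib.AlgebraicGeometry.Noetherian

set_option autoImplicit false
universe u
open QFin

namespace Groth.Agent.S9334

open AlgebraicGeometry CategoryTheory in
/-- Let f : X → S be locally of finite type, x ∈ X, and write s = f x. The morphism f is quasi-finite at
x exactly when x is a closed point of the fibre X_s and no point x' ≠ x of X_s specializes to x. -/
theorem result {X S : Scheme.{u}} (f : X ⟶ S) [LocallyOfFiniteType f] (x : X) :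
    f.QuasiFiniteAt x ↔
      (IsClosed ({f.asFiber x} : Set ↑(f.fiber (f.base x))) ∧
        ∀ x' : ↑(f.fiber (f.base x)), x' ⤳ f.asFiber x → x' = f.asFiber x) := by
  constructor
  · intro hx
    have hclopen := hx.isClopen_singleton_asFiber
    exact ⟨hclopen.1, fun x' hx' => hx'.mem_open hclopen.2 rfl⟩
  · rintro ⟨hcl, hgen⟩
    rw [Scheme.Hom.quasiFiniteAt_iff_isOpen_singleton_asFiber]
    haveI : LocallyOfFiniteType (f.fiberToSpecResidueField (f.base x)) :=
      MorphismProperty.pullback_snd _ _ inferInstance
    haveI : IsLocallyNoetherian (f.fiber (f.base x)) :=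
      LocallyOfFiniteType.isLocallyNoetherian (f.fiberToSpecResidueField (f.base x))
    obtain ⟨U, hU, hyU, -⟩ := exists_isAffineOpen_mem_and_subset (x := f.asFiber x)
      (U := (⊤ : (f.fiber (f.base x)).Opens)) trivial
    haveI : IsNoetherianRing Γ(f.fiber (f.base x), U) :=
      IsLocallyNoetherian.component_noetherian ⟨U, hU⟩
    exact @Groth.Agent.H5.FtPts.isOpen_singleton_of_noetherianSpace_nhd _ _ _ _ hcl hgen U hyU
      (noetherianSpace_of_isAffineOpen U hU)

end Groth.Agent.S9334
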