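import Groth.Statements.S9335
import Mathlib.AlgebraicGeometry.Morphisms.QuasiFinite
import Mathlib.AlgebraicGeometry.Noetherian

set_option autoImplicit false
universe u
open QFin

namespace Groth.Agent.S9335

open AlgebraicGeometry CategoryTheory in
/-- If f : X → S is of finite type and s ∈ S, then f is quasi-finite at only finitely many points of the
fibre over s. -/
theorem result {X S : Scheme.{u}} (f : X ⟶ S) [LocallyOfFiniteType f] [QuasiCompact f] (s : S) :
    {x : ↑X | f.base x = s ∧ f.QuasiFiniteAt x}.Finite := by
  haveI : LocallyOfFiniteType (f.fiberToSpecResidueField s) :=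
    MorphismProperty.pullback_snd _ _ inferInstance
  haveI : IsLocallyNoetherian (f.fiber s) :=
    LocallyOfFiniteType.isLocallyNoetherian (f.fiberToSpecResidueField s)
  haveI : IsNoetherian (f.fiber s) := { }
  let I : Set ↑(f.fiber s) := {y | IsOpen ({y} : Set ↑(f.fiber s))}
  have hI : I.Finite := by
    apply IsCompact.finite (TopologicalSpace.NoetherianSpace.isCompact I)
    rw [isDiscrete_iff_discreteTopology, discreteTopology_iff_isOpen_singleton]
    intro y
    have : ({y} : Set I) = Subtype.val ⁻¹' ({y.1} : Set ↑(f.fiber s)) := by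
      ext z
      simp [Subtype.ext_iff]
    rw [this]
    exact y.2.preimage continuous_subtype_val
  refine (hI.image (f.fiberι s)).subset ?_
  rintro x ⟨rfl, hx⟩
  exact ⟨f.asFiber x, Scheme.Hom.quasiFiniteAt_iff_isOpen_singleton_asFiber.mp hx,
    f.fiberι_asFiber x⟩

end Groth.Agent.S9335
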