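import Groth.Statements.S9345
import Mathlib.AlgebraicGeometry.Properties
import Mathlib.Topology.Sober
import Mathlib.Topology.Irreducible

set_option autoImplicit false
universe u
open Dom

namespace Groth.Agent.S9345

section
variable {X S : Type u} [TopologicalSpace X] [TopologicalSpace S] [QuasiSober X] [QuasiSober S]
  [T0Space S]

/-- Key: if `X` has finitely many irreducible components and `f` is continuous with dense range,
then every maximal point of `S` is the image of a generic point of a component of `X`. -/
lemma key (f : X → S) (hf : Continuous f) (hX : (irreducibleComponents X).Finite) :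
    ∃ ξ : irreducibleComponents X → X, closure (Set.range f) =
      ⋃ Z : irreducibleComponents X, closure {f (ξ Z)} := by
  classical
  have hgen : ∀ Z : irreducibleComponents X, ∃ x, IsGenericPoint x (Z : Set X) := fun Z =>
    QuasiSober.sober Z.2.1 (isClosed_of_mem_irreducibleComponents _ Z.2)
  choose ξ hξ using hgen
  refine ⟨ξ, ?_⟩
  have : Finite (irreducibleComponents X) := hX.to_subtype
  apply le_antisymm
  · apply closure_minimal
    · rintro _ ⟨x, rfl⟩
      have hx : x ∈ ⋃₀ irreducibleComponents X := by
        rw [sUnion_irreducibleComponents]; trivial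
      obtain ⟨Z, hZ, hxZ⟩ := hx
      refine Set.mem_iUnion.mpr ⟨⟨Z, hZ⟩, ?_⟩
      have h1 : x ∈ closure {ξ ⟨Z, hZ⟩} := by
        rw [(hξ ⟨Z, hZ⟩).def]; exact hxZ
      have h2 := image_closure_subset_closure_image hf (Set.mem_image_of_mem f h1)
      simpa using h2
    · exact isClosed_iUnion_of_finite fun Z => isClosed_closure
  · apply Set.iUnion_subset
    intro Z
    exact closure_mono (Set.singleton_subset_iff.mpr ⟨ξ Z, rfl⟩)

lemma mem_range_of_component (f : X → S) (hf : Continuous f)
    (hX : (irreducibleComponents X).Finite) (hd : DenseRange f) :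
    ∃ ξ : irreducibleComponents X → X, ∀ s : S, closure {s} ∈ irreducibleComponents S →
      ∃ Z, s = f (ξ Z) := by
  obtain ⟨ξ, hξ⟩ := key f hf hX
  refine ⟨ξ, fun s hs => ?_⟩
  have hs' : s ∈ closure (Set.range f) := hd s
  rw [hξ] at hs'
  obtain ⟨Z, hZ⟩ := Set.mem_iUnion.mp hs'
  refine ⟨Z, ?_⟩
  have h1 : closure ({s} : Set S) ⊆ closure {f (ξ Z)} :=
    closure_minimal (Set.singleton_subset_iff.mpr hZ) isClosed_closure
  have hirr : IsIrreducible (closure ({f (ξ Z)} : Set S)) := isIrreducible_singleton.closure
  have h2 : closure ({f (ξ Z)} : Set S) ⊆ closure {s} := hs.2 hirr h1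
  have h3 : s ⤳ f (ξ Z) := specializes_iff_closure_subset.mpr h2
  have h4 : f (ξ Z) ⤳ s := specializes_iff_closure_subset.mpr h1
  exact (h3.antisymm h4).eq

end

open AlgebraicGeometry CategoryTheory in
/-- For a morphism f : X → S whose source has only finitely many irreducible components, the image of f
is dense exactly when it contains the generic point of each irreducible component of S, and then S
too has finitely many. -/
theorem result {X S : Scheme.{u}} (f : X ⟶ S)
    (hX : (irreducibleComponents (↑X : Type u)).Finite) :
    (IsDominant f ↔ ∀ s : ↑S, closure {s} ∈ irreducibleComponents (↑S : Type u) → s ∈ Set.range f.base) ∧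
      (IsDominant f → (irreducibleComponents (↑S : Type u)).Finite) := by
  refine ⟨⟨fun hd s hs => ?_, fun h => ?_⟩, fun hd => ?_⟩
  · obtain ⟨ξ, hξ⟩ := mem_range_of_component f.base f.continuous hX hd.denseRange
    obtain ⟨Z, hZ⟩ := hξ s hs
    exact ⟨ξ Z, hZ.symm⟩
  · constructor
    intro s₀
    have hY := irreducibleComponent_mem_irreducibleComponents s₀
    obtain ⟨s, hs⟩ := QuasiSober.sober (isIrreducible_irreducibleComponent (x := s₀))
      (isClosed_irreducibleComponent (x := s₀))
    have hs' : closure ({s} : Set S) = irreducibleComponent s₀ := hs.def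
    have hmem : s ∈ Set.range f.base := h s (by rw [hs']; exact hY)
    have : s₀ ∈ closure ({s} : Set S) := by rw [hs']; exact mem_irreducibleComponent
    exact closure_mono (Set.singleton_subset_iff.mpr hmem) this
  · obtain ⟨ξ, hξ⟩ := mem_range_of_component f.base f.continuous hX hd.denseRange
    have : Finite (irreducibleComponents (↑X : Type u)) := hX.to_subtype
    refine (Set.finite_range (fun Z : irreducibleComponents (↑X : Type u) =>
      closure ({f.base (ξ Z)} : Set S))).subset ?_
    intro Y hY
    obtain ⟨s, hs⟩ := QuasiSober.sober hY.1 (isClosed_of_mem_irreducibleComponents _ hY)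
    have hs' : closure ({s} : Set S) = Y := hs.def
    obtain ⟨Z, hZ⟩ := hξ s (by rw [hs']; exact hY)
    exact ⟨Z, by rw [← hs', hZ]⟩

end Groth.Agent.S9345
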