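import Groth.Statements.S9347
import Groth.Agent.Lib.Helper5.QcClosure
import Mathlib.AlgebraicGeometry.Properties

set_option autoImplicit false
universe u
open Dom

namespace Groth.Agent.S9347

open AlgebraicGeometry CategoryTheory in
/-- Let f : X → S be quasi-compact and let η ∈ S be a point whose closure is an irreducible component of
S (a maximal point of S). If η is not in the image of f, then η has an open neighbourhood V with
f⁻¹(V) empty. -/
theorem result {X S : Scheme.{u}} (f : X ⟶ S) [QuasiCompact f]
    (η : ↑S) (hη : closure {η} ∈ irreducibleComponents (↑S : Type u)) (hnot : η ∉ Set.range f.base) :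
    ∃ V : S.Opens, η ∈ V ∧ f ⁻¹ᵁ V = ⊥ := by
  have hη' : η ∉ closure (Set.range f.base) := by
    intro hcl
    obtain ⟨x, hx⟩ := Groth.Agent.H5.exists_specializes_of_mem_closure_range f η hcl
    have h1 : closure ({η} : Set S) ⊆ closure {f.base x} :=
      (specializes_iff_closure_subset.mp hx)
    have hirr : IsIrreducible (closure ({f.base x} : Set S)) :=
      isIrreducible_singleton.closure
    have h2 : closure ({f.base x} : Set S) ⊆ closure {η} := hη.2 hirr h1
    have h3 : η ⤳ f.base x := specializes_iff_closure_subset.mpr h2
    have : f.base x = η := (hx.antisymm h3).eq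
    exact hnot ⟨x, this⟩
  refine ⟨⟨(closure (Set.range f.base))ᶜ, isClosed_closure.isOpen_compl⟩, hη', ?_⟩
  ext x
  simp only [Scheme.Hom.coe_preimage, TopologicalSpace.Opens.coe_mk, Set.mem_preimage,
    Set.mem_compl_iff, TopologicalSpace.Opens.coe_bot, Set.mem_empty_iff_false, iff_false, not_not]
  exact subset_closure ⟨x, rfl⟩

end Groth.Agent.S9347
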