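import Groth.Statements.S9348
import Groth.Agent.Lib.Helper5.PullbackRange

set_option autoImplicit false
universe u
open Dom

namespace Groth.Agent.S9348

open AlgebraicGeometry CategoryTheory in
/-- Let f : X → Y be a morphism and g : Y' → Y open and surjective. If the base change f' : X ×_Y Y' →
Y' of f is quasi-compact, then so is f. -/
theorem result {X Y X' Y' : Scheme.{u}} (f : X ⟶ Y) (g : Y' ⟶ Y) [Surjective g]
    (hg : IsOpenMap g.base) (g' : X' ⟶ X) (f' : X' ⟶ Y') (hsq : IsPullback g' f' f g) [QuasiCompact f'] :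
    QuasiCompact f := by
  constructor
  intro U hUo hUc
  -- the index type: affine opens of Y' contained in g⁻¹ U
  let ι := {V : Y'.Opens // IsAffineOpen V ∧ (V : Set Y') ⊆ g.base ⁻¹' U}
  have hcover : U ⊆ ⋃ i : ι, g.base '' (i.1 : Set Y') := by
    intro u hu
    obtain ⟨y', rfl⟩ := g.surjective u
    have hW : IsOpen (g.base ⁻¹' U) := hUo.preimage g.continuous
    have hu' : y' ∈ (⟨g.base ⁻¹' U, hW⟩ : Y'.Opens) := hu
    obtain ⟨V, hV, hyV, hVW⟩ := (TopologicalSpace.Opens.isBasis_iff_nbhd.mp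
      (Scheme.isBasis_affineOpens Y')) hu'
    exact Set.mem_iUnion.mpr ⟨⟨V, hV, hVW⟩, y', hyV, rfl⟩
  obtain ⟨t, ht⟩ := hUc.elim_finite_subcover (fun i : ι => g.base '' (i.1 : Set Y'))
    (fun i => hg _ i.1.isOpen) hcover
  -- the compact open V
  let V : Set Y' := ⋃ i ∈ t, (i.1 : Set Y')
  have hVo : IsOpen V := isOpen_biUnion fun i _ => i.1.isOpen
  have hVc : IsCompact V := t.finite_toSet.isCompact_biUnion fun i _ => i.2.1.isCompact
  have hVsub : V ⊆ g.base ⁻¹' U := by
    intro y hy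
    obtain ⟨i, hi, hyi⟩ := Set.mem_iUnion₂.mp hy
    exact i.2.2 hyi
  have hcomp : IsCompact (f'.base ⁻¹' V) := QuasiCompact.isCompact_preimage V hVo hVc
  have heq : f.base ⁻¹' U = g'.base '' (f'.base ⁻¹' V) := by
    ext x
    constructor
    · intro hx
      obtain ⟨i, hi, y', hy', hy'x⟩ := Set.mem_iUnion₂.mp (ht hx)
      obtain ⟨x', hx'1, hx'2⟩ := Groth.Agent.H5.IsPullback.exists_preimage hsq x y' hy'x.symm
      refine ⟨x', ?_, hx'1⟩
      show f'.base x' ∈ V
      rw [hx'2]
      exact Set.mem_iUnion₂.mpr ⟨i, hi, hy'⟩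
    · rintro ⟨x', hx', rfl⟩
      show f.base (g'.base x') ∈ U
      have : f.base (g'.base x') = g.base (f'.base x') := by
        rw [← Scheme.Hom.comp_apply, ← Scheme.Hom.comp_apply, hsq.w]
      rw [this]
      exact hVsub hx'
  rw [heq]
  exact hcomp.image g'.continuous

end Groth.Agent.S9348
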