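import Groth.Statements.S9360
import Groth.Agent.Lib.Helper5.SchDense

set_option autoImplicit false
universe u
open SchDense

namespace Groth.Agent.S9360

open AlgebraicGeometry CategoryTheory in
/-- Let U ⊆ X be a reduced open subscheme. Then the scheme-theoretic closure of U in X is X if and only
if U is scheme-theoretically dense in X (for every open W the scheme-theoretic closure of U ∩ W in W
is W); and in that case X is reduced. -/
theorem result (X : Scheme.{u}) (U : X.Opens) [IsReduced (↑U : Scheme.{u})] :
    (IsSchemeTheoreticallyDominant U.ι ↔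
        ∀ W : X.Opens, IsSchemeTheoreticallyDominant (X.homOfLE (inf_le_right : U ⊓ W ≤ W))) ∧
      (IsSchemeTheoreticallyDominant U.ι → IsReduced X) := by
  refine ⟨⟨fun h W => ?_, fun h => ?_⟩, fun h => Groth.Agent.H5.isReduced_of_ker_eq_bot X U h.ker_eq_bot⟩
  · have hred : IsReduced X := Groth.Agent.H5.isReduced_of_ker_eq_bot X U h.ker_eq_bot
    have hdense := Groth.Agent.H5.dense_of_ker_eq_bot X U h.ker_eq_bot
    have : IsDominant (X.homOfLE (inf_le_right : U ⊓ W ≤ W)) := by
      constructor
      rw [DenseRange, W.ι.isOpenEmbedding.isInducing.dense_iff]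
      intro w
      have h1 : W.ι '' Set.range (X.homOfLE (inf_le_right : U ⊓ W ≤ W)) = (U : Set X) ∩ W := by
        rw [← Set.range_comp]
        change Set.range (X.homOfLE (inf_le_right : U ⊓ W ≤ W) ≫ W.ι) = _
        rw [X.homOfLE_ι]
        simp
      rw [h1, Set.inter_comm]
      exact hdense.open_subset_closure_inter W.2 w.2
    exact IsSchemeTheoreticallyDominant.of_isDominant _
  · have h1 := h ⊤
    have e : U.ι = (X.isoOfEq (show U = U ⊓ ⊤ by simp)).hom ≫
        X.homOfLE (inf_le_right : U ⊓ ⊤ ≤ ⊤) ≫ (⊤ : X.Opens).ι := by simp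
    rw [e]
    have i1 : IsIso (⊤ : X.Opens).ι := inferInstanceAs (IsIso X.topIso.hom)
    have i2 : IsSchemeTheoreticallyDominant (X.homOfLE (inf_le_right : U ⊓ ⊤ ≤ ⊤) ≫ (⊤ : X.Opens).ι) :=
      inferInstance
    infer_instance

end Groth.Agent.S9360
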