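import Groth.Statements.S9361
import Groth.Agent.Lib.Helper5.PullbackRange
import Mathlib.AlgebraicGeometry.Morphisms.Immersion
import Mathlib.AlgebraicGeometry.Morphisms.Separated

set_option autoImplicit false
universe u
open SchImage

namespace Groth.Agent.S9361

open AlgebraicGeometry CategoryTheory in
/-- Let f : X → Y be separated, V ⊆ Y a retrocompact open and s : V → X a section of f over V. If Y' ⊆ X
is the scheme-theoretic image of s, then Y' → Y is an isomorphism over V. -/
theorem result {X Y : Scheme.{u}} (f : X ⟶ Y) [IsSeparated f] (V : Y.Opens) [QuasiCompact V.ι]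
    (s : (↑V : Scheme.{u}) ⟶ X) (hs : s ≫ f = V.ι) :
    IsIso ((s.imageι ≫ f) ∣_ V) := by
  have hfs : ∀ v : V, f (s v) = v.1 := fun v => by
    rw [← Scheme.Hom.comp_apply, hs]; rfl
  have hrange : Set.range s ⊆ Set.range (f ⁻¹ᵁ V).ι := by
    rintro _ ⟨v, rfl⟩
    rw [Scheme.Opens.range_ι]
    change f (s v) ∈ V
    rw [hfs]; exact v.2
  let s' : (↑V : Scheme.{u}) ⟶ (f ⁻¹ᵁ V) := IsOpenImmersion.lift (f ⁻¹ᵁ V).ι s hrange
  have hs' : s' ≫ (f ⁻¹ᵁ V).ι = s := IsOpenImmersion.lift_fac _ _ _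
  have hsec : s' ≫ (f ∣_ V) = 𝟙 _ := by
    rw [← cancel_mono V.ι, Category.assoc, morphismRestrict_ι, ← Category.assoc, hs', hs,
      Category.id_comp]
  have hci : IsClosedImmersion s' := by
    have : IsClosedImmersion (s' ≫ (f ∣_ V)) := by rw [hsec]; infer_instance
    exact IsClosedImmersion.of_comp s' (f ∣_ V)
  have hqc : QuasiCompact (f ⁻¹ᵁ V).ι :=
    MorphismProperty.of_isPullback (isPullback_morphismRestrict f V) inferInstance
  have himm : IsImmersion s := by rw [← hs']; infer_instance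
  have hqcs : QuasiCompact s := by rw [← hs']; infer_instance
  have key : ∀ x ∈ closure (Set.range s), f x ∈ V → x ∈ Set.range s := by
    intro x hx hxV
    have hcl : IsClosed (Set.range s') := s'.isClosedEmbedding.isClosed_range
    have hrs : Set.range s = (f ⁻¹ᵁ V).ι '' Set.range s' := by
      rw [← Set.range_comp]
      change _ = Set.range (s' ≫ (f ⁻¹ᵁ V).ι)
      rw [hs']
    have h1 := (f ⁻¹ᵁ V).ι.isEmbedding.closure_eq_preimage_closure_image (Set.range s')
    rw [hcl.closure_eq, ← hrs] at h1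
    have h2 : (⟨x, hxV⟩ : ↥(f ⁻¹ᵁ V)) ∈ Set.range s' := by
      rw [h1]; exact hx
    rw [hrs]
    exact ⟨⟨x, hxV⟩, h2, rfl⟩
  have hpb := IsImmersion.isPullback_toImage_liftCoborder s
  have hmem : ∀ z : s.image, s.imageι z ∈ closure (Set.range s) := by
    intro z
    rw [← Scheme.Hom.support_ker]
    have : s.imageι z ∈ Set.range s.imageι := ⟨z, rfl⟩
    rwa [Scheme.Hom.imageι, Scheme.IdealSheafData.range_subschemeι] at this
  have hrange2 : Set.range s.toImage = (((s.imageι ≫ f) ⁻¹ᵁ V : s.image.Opens) : Set s.image) := by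
    have h1 := Groth.Agent.H5.IsPullback.range_fst hpb
    have h2 : Set.range s.coborderRange.ι = coborder (Set.range s) := by
      rw [Scheme.Opens.range_ι]; rfl
    change Set.range s.toImage = _ at h1
    rw [h1]
    change _ ⁻¹' Set.range s.coborderRange.ι = _
    rw [h2]
    ext z
    simp only [Set.mem_preimage, Scheme.Hom.coe_preimage, Scheme.Hom.comp_apply, SetLike.mem_coe]
    constructor
    · intro hz
      have : s.imageι z ∈ closure (Set.range s) ∩ coborder (Set.range s) := ⟨hmem z, hz⟩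
      rw [closure_inter_coborder] at this
      obtain ⟨v, hv⟩ := this
      rw [← hv, hfs]; exact v.2
    · intro hz
      exact subset_coborder (key _ (hmem z) hz)
  have hsub : Set.range s.toImage ⊆ Set.range ((s.imageι ≫ f) ⁻¹ᵁ V).ι := by
    rw [Scheme.Opens.range_ι]; exact hrange2.le
  let t : (↑V : Scheme.{u}) ⟶ ((s.imageι ≫ f) ⁻¹ᵁ V) :=
    IsOpenImmersion.lift ((s.imageι ≫ f) ⁻¹ᵁ V).ι s.toImage hsub
  have ht : t ≫ ((s.imageι ≫ f) ⁻¹ᵁ V).ι = s.toImage := IsOpenImmersion.lift_fac _ _ _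
  have hto : IsOpenImmersion t := by
    have : IsOpenImmersion (t ≫ ((s.imageι ≫ f) ⁻¹ᵁ V).ι) := by rw [ht]; infer_instance
    exact IsOpenImmersion.of_comp t ((s.imageι ≫ f) ⁻¹ᵁ V).ι
  have htsurj : Surjective t := by
    refine ⟨fun w => ?_⟩
    have hw : w.1 ∈ Set.range s.toImage := by rw [hrange2]; exact w.2
    obtain ⟨v, hv⟩ := hw
    refine ⟨v, ?_⟩
    apply ((s.imageι ≫ f) ⁻¹ᵁ V).ι.isEmbedding.injective
    rw [← Scheme.Hom.comp_apply, ht, hv]; rfl
  have htiso : IsIso t := (isIso_iff_isOpenImmersion_and_surjective _).mpr ⟨hto, htsurj⟩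
  have hcomp : t ≫ ((s.imageι ≫ f) ∣_ V) = 𝟙 _ := by
    rw [← cancel_mono V.ι, Category.assoc, morphismRestrict_ι, ← Category.assoc, ht,
      ← Category.assoc, Scheme.Hom.toImage_imageι, hs, Category.id_comp]
  have : IsIso (t ≫ ((s.imageι ≫ f) ∣_ V)) := by rw [hcomp]; infer_instance
  exact IsIso.of_isIso_comp_left t _

end Groth.Agent.S9361
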