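import Groth.Statements.S9367
import Groth.Agent.Lib.Helper8.SyntCMAt.Chart
-- import your own Groth.Agent.* helpers here

set_option autoImplicit false
universe u
open Synt

namespace Groth.Agent.S9367

open AlgebraicGeometry CategoryTheory in
/-- If f : X → S is syntomic, then x ↦ dim_x(X_{f x}) is locally constant on X. -/
theorem result {X S : Scheme.{u}} (f : X ⟶ S) (hf : Synt.IsSyntomicMor f) :
    IsLocallyConstant (fun x : ↑X => FlatMor.fibreDimAt f x) := by
  by_cases hne : Nonempty X
  · obtain ⟨x₀⟩ := hne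
    obtain ⟨hfl, hfp, -⟩ := Groth.Agent.H8.SyntCMAt.isCMAt_of_isSyntomicMor f hf x₀
    haveI := hfl
    haveI := hfp
    exact Groth.Agent.H1.CMQF.s9374 f
      (fun x => (Groth.Agent.H8.SyntCMAt.isCMAt_of_isSyntomicMor f hf x).2.2)
  · haveI : IsEmpty X := not_nonempty_iff.mp hne
    intro s
    convert isOpen_univ
    ext x
    exact (IsEmpty.false x).elim

end Groth.Agent.S9367
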