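import Groth.Statements.S9380
import Groth.Agent.Lib.Helper6.Canon2

set_option autoImplicit false
universe u
open QAff

namespace Groth.Agent.S9380

open AlgebraicGeometry CategoryTheory in
/-- A quasi-compact quasi-separated morphism f : X → S is quasi-affine if and only if the canonical
S-morphism X → Spec_S(f_*O_X) (the one inducing the comparison map on direct-image algebras) exists
as a quasi-compact open immersion. -/
theorem result {X S : Scheme.{u}} (f : X ⟶ S) [QuasiCompact f] [QuasiSeparated f] :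
    MoreMor.IsQuasiAffineHom f ↔
      ∃ (c : X ⟶ (RelSpec.QCAlg.directImage f).spec) (e : c ≫ (RelSpec.QCAlg.directImage f).π = f),
        (RelSpec.QCAlg.directImage f).gammaMap = AffAlg.algHom (RelSpec.QCAlg.directImage f).π f c e ∧
          QuasiCompact c ∧ IsOpenImmersion c := by
  constructor
  · intro hf
    refine ⟨Groth.Agent.H6.Canon.canon f, Groth.Agent.H6.Canon.canon_π f,
      Groth.Agent.H6.Canon.gammaMap_eq_algHom f, ?_, ?_⟩
    · refine Groth.Agent.H6.QCLoc.of_charts (P := @QuasiCompact) (Groth.Agent.H6.Canon.canon f)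
        (fun U : S.affineOpens => (RelSpec.QCAlg.directImage f).π ⁻¹ᵁ U.1)
        (Groth.Agent.H6.QCLoc.iSup_affine_preimage _)
        (fun U => (f ⁻¹ᵁ U.1).ι) (fun U => (RelSpec.QCAlg.directImage f).ι U.1 U.2)
        (fun U => (f ⁻¹ᵁ U.1).toSpecΓ) (fun U => Groth.Agent.H6.Canon.ι_canon f U.1 U.2)
        (fun U => ((RelSpec.QCAlg.directImage f).π_preimage U.1 U.2).symm) (fun U => ?_) (fun U => ?_)
      · rw [← Scheme.Hom.comp_preimage, Groth.Agent.H6.Canon.canon_π, Scheme.Opens.opensRange_ι]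
      · haveI := hf.2 U.1 U.2
        rw [HasAffineProperty.iff_of_isAffine (P := @QuasiCompact)]
        infer_instance
    · refine Groth.Agent.H6.QCLoc.of_charts (P := @IsOpenImmersion) (Groth.Agent.H6.Canon.canon f)
        (fun U : S.affineOpens => (RelSpec.QCAlg.directImage f).π ⁻¹ᵁ U.1)
        (Groth.Agent.H6.QCLoc.iSup_affine_preimage _)
        (fun U => (f ⁻¹ᵁ U.1).ι) (fun U => (RelSpec.QCAlg.directImage f).ι U.1 U.2)
        (fun U => (f ⁻¹ᵁ U.1).toSpecΓ) (fun U => Groth.Agent.H6.Canon.ι_canon f U.1 U.2)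
        (fun U => ((RelSpec.QCAlg.directImage f).π_preimage U.1 U.2).symm) (fun U => ?_) (fun U => ?_)
      · rw [← Scheme.Hom.comp_preimage, Groth.Agent.H6.Canon.canon_π, Scheme.Opens.opensRange_ι]
      · haveI := hf.2 U.1 U.2
        change IsOpenImmersion ((↑(f ⁻¹ᵁ U.1) : Scheme.{u}).toSpecΓ ≫
          Spec.map (f ⁻¹ᵁ U.1).topIso.inv)
        infer_instance
  · rintro ⟨c, e, -, hqc, hoi⟩
    refine ⟨inferInstance, fun V hV => ?_⟩
    have hVc : f ⁻¹ᵁ V = c ⁻¹ᵁ ((RelSpec.QCAlg.directImage f).π ⁻¹ᵁ V) := by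
      rw [← Scheme.Hom.comp_preimage, e]
    rw [hVc]
    have hW : IsAffineOpen ((RelSpec.QCAlg.directImage f).π ⁻¹ᵁ V) := hV.preimage _
    haveI : IsAffine ((RelSpec.QCAlg.directImage f).π ⁻¹ᵁ V : Scheme.{u}) := hW
    haveI : CompactSpace (c ⁻¹ᵁ ((RelSpec.QCAlg.directImage f).π ⁻¹ᵁ V) : Scheme.{u}) :=
      isCompact_iff_compactSpace.mp (c.isCompact_preimage hW.isCompact)
    exact Scheme.IsQuasiAffine.of_isImmersion (c ∣_ ((RelSpec.QCAlg.directImage f).π ⁻¹ᵁ V))

end Groth.Agent.S9380
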