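import Groth.Statements.S9389
import Mathlib.AlgebraicGeometry.ZariskisMainTheorem
import Mathlib.AlgebraicGeometry.Morphisms.UniversallyOpen

set_option autoImplicit false
universe u
open QFin

namespace Groth.Agent.S9389

open AlgebraicGeometry CategoryTheory Limits in
theorem quasiFiniteAt_of_isOpen_singleton_fiber {X S : Scheme.{u}} (f : X ⟶ S)
    [LocallyOfFiniteType f] (s : S) (z : f.fiber s) (hz : IsOpen ({z} : Set (f.fiber s))) :
    f.QuasiFiniteAt (f.fiberι s z) := by
  have key : ∀ (x : X) (s : S) (hx : f x = s),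
      IsOpen ({(f.fiberHomeo s).symm ⟨x, hx⟩} : Set (f.fiber s)) → f.QuasiFiniteAt x := by
    intro x s hx h
    subst hx
    exact Scheme.Hom.quasiFiniteAt_iff_isOpen_singleton_asFiber.mpr h
  have hx : f (f.fiberι s z) = s := (f.fiberHomeo s z).2
  refine key _ s hx ?_
  have : (f.fiberHomeo s).symm ⟨f.fiberι s z, hx⟩ = z := (f.fiberHomeo s).symm_apply_apply z
  rwa [this]


open AlgebraicGeometry CategoryTheory in
/-- For f : X → S locally of finite type and a cartesian square with base change f' : X' → S', g' : X' →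
X, the quasi-finite locus of f' is the inverse image under g' of the quasi-finite locus of f. -/
theorem result {X S X' S' : Scheme.{u}} (f : X ⟶ S) [LocallyOfFiniteType f] (g : S' ⟶ S)
    (g' : X' ⟶ X) (f' : X' ⟶ S') (hsq : IsPullback g' f' f g) :
    {x' : ↑X' | f'.QuasiFiniteAt x'} = g'.base ⁻¹' {x : ↑X | f.QuasiFiniteAt x} := by
  have hf' : LocallyOfFiniteType f' := MorphismProperty.of_isPullback hsq inferInstance
  ext x'
  simp only [Set.mem_ofPred_eq, Set.mem_preimage]
  constructor
  · intro hx'
    have hopen : IsOpen ({f'.asFiber x'} : Set (f'.fiber (f' x'))) :=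
      Scheme.Hom.quasiFiniteAt_iff_isOpen_singleton_asFiber.mp hx'
    have hpb := isPullback_fiberToSpecResidueField_of_isPullback hsq (f' x')
    set φ : f'.fiber (f' x') ⟶ f.fiber (g (f' x')) := Limits.pullback.map f' (S'.fromSpecResidueField (f' x')) f
      (S.fromSpecResidueField (g (f' x'))) g' (Spec.map (g.residueFieldMap (f' x'))) g
      hsq.w.symm (by simp) with hφ
    have hφopen : UniversallyOpen φ := MorphismProperty.of_isPullback hpb.flip inferInstance
    have h1 : IsOpen ({φ (f'.asFiber x')} : Set (f.fiber (g (f' x')))) := by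
      have := φ.isOpenMap _ hopen
      rwa [Set.image_singleton] at this
    have h2 := quasiFiniteAt_of_isOpen_singleton_fiber f _ _ h1
    have h3 : f.fiberι _ (φ (f'.asFiber x')) = g' x' := by
      have : φ ≫ f.fiberι _ = f'.fiberι _ ≫ g' := by
        rw [hφ]
        exact Limits.pullback.lift_fst _ _ _
      rw [← Scheme.Hom.comp_apply, this, Scheme.Hom.comp_apply, Scheme.Hom.fiberι_asFiber]
    rwa [h3] at h2
  · intro hx
    let U : X.Opens := f.quasiFiniteLocus
    have hpb : IsPullback (g' ∣_ U) ((g' ⁻¹ᵁ U).ι ≫ f') (U.ι ≫ f) g :=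
      (isPullback_morphismRestrict g' U).paste_vert hsq
    have hlqf : LocallyQuasiFinite ((g' ⁻¹ᵁ U).ι ≫ f') :=
      MorphismProperty.of_isPullback hpb inferInstance
    have hmem : x' ∈ g' ⁻¹ᵁ U := hx
    have := Scheme.Hom.quasiFiniteAt ((g' ⁻¹ᵁ U).ι ≫ f') ⟨x', hmem⟩
    rw [Scheme.Hom.quasiFiniteAt_comp_iff_of_isOpenImmersion] at this
    exact this

end Groth.Agent.S9389
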