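import Groth.Statements.S9392
import Groth.Agent.Lib.Helper5.LocIC

set_option autoImplicit false
universe u
open CAlg

namespace Groth.Agent.S9392

/-- A localization of an N-2 (Japanese) domain which is again a domain is N-2. -/
theorem result (R : Type u) [CommRing R] [IsDomain R] (M : Submonoid R)
    (S : Type u) [CommRing S] [IsDomain S] [Algebra R S] [IsLocalization M S]
    (h : CAlg.IsN2 R) : CAlg.IsN2 S := by
  intro L _ _ _ _ hfin
  have hK : IsFractionRing R (FractionRing S) :=
    Groth.Agent.H5.isFractionRing_of_isLocalization_of_isFractionRing M S (FractionRing S)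
  let _ : Algebra R L := ((algebraMap S L).comp (algebraMap R S)).toAlgebra
  have t1 : IsScalarTower R S L := IsScalarTower.of_algebraMap_eq (fun _ => rfl)
  have t2 : IsScalarTower R (FractionRing S) L := by
    refine IsScalarTower.of_algebraMap_eq (fun r => ?_)
    change algebraMap S L (algebraMap R S r) = _
    rw [IsScalarTower.algebraMap_apply S (FractionRing S) L,
      ← IsScalarTower.algebraMap_apply R S (FractionRing S)]
  have h1 : Module.Finite R (integralClosure R L) :=
    (Groth.Agent.H5.isN2_iff R (FractionRing S)).mp h L hfin
  exact Groth.Agent.H5.finite_integralClosure_of_isLocalization M S L h1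

end Groth.Agent.S9392
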