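import Groth.Statements.S9399
import Groth.Agent.Lib.Helper5.LocICCover
import Mathlib.RingTheory.Localization.Away.AdjoinRoot

set_option autoImplicit false
universe u
open CAlg

namespace Groth.Agent.S9399

/-- Being universally Japanese can be checked on a finite cover of Spec R by principal opens. -/
theorem result (R : Type u) [CommRing R]
    {ι : Type u} [Finite ι] (f : ι → R) (hf : Ideal.span (Set.range f) = ⊤)
    (h : ∀ i, CAlg.IsUniversallyJapanese (Localization.Away (f i))) :
    CAlg.IsUniversallyJapanese R := by
  intro S _ _ _ hS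
  have : Algebra.FiniteType R S := hS
  let g : ι → S := fun i => algebraMap R S (f i)
  let ι' : Type u := {i : ι // g i ≠ 0}
  have hspan : Ideal.span (Set.range (fun i : ι' => g i.1)) = ⊤ := by
    have h1 : Ideal.span (Set.range g) = ⊤ := by
      have := congrArg (Ideal.map (algebraMap R S)) hf
      rw [Ideal.map_span, Ideal.map_top, ← Set.range_comp] at this
      exact this
    rw [eq_top_iff, ← h1, Ideal.span_le]
    rintro _ ⟨i, rfl⟩
    by_cases hi : g i = 0
    · rw [hi]; exact Ideal.zero_mem _
    · exact Ideal.subset_span ⟨⟨i, hi⟩, rfl⟩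
  have hdom : ∀ i : ι', IsDomain (Localization.Away (g i.1)) := fun i =>
    IsLocalization.isDomain_localization
      (powers_le_nonZeroDivisors_of_noZeroDivisors i.2)
  have hunit : ∀ i : ι', IsUnit (algebraMap R (Localization.Away (g i.1)) (f i.1)) := fun i => by
    rw [IsScalarTower.algebraMap_apply R S (Localization.Away (g i.1))]
    exact IsLocalization.Away.algebraMap_isUnit (g i.1)
  let alg : ∀ i : ι', Algebra (Localization.Away (f i.1)) (Localization.Away (g i.1)) := fun i =>
    (IsLocalization.Away.lift (f i.1) (hunit i)).toAlgebra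
  have tower : ∀ i : ι', IsScalarTower R (Localization.Away (f i.1)) (Localization.Away (g i.1)) :=
    fun i => IsScalarTower.of_algebraMap_eq (fun r => (IsLocalization.Away.lift_eq _ _ r).symm)
  have hft : ∀ i : ι', Algebra.FiniteType (Localization.Away (f i.1)) (Localization.Away (g i.1)) :=
    fun i => Algebra.FiniteType.of_restrictScalars_finiteType R _ _
  have hN2 : ∀ i : ι', CAlg.IsN2 (Localization.Away (g i.1)) := fun i =>
    h i.1 (Localization.Away (g i.1)) (hft i)
  exact Groth.Agent.H5.isN2_of_span_eq_top S (fun i : ι' => g i.1) hspan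
    (fun i : ι' => Localization.Away (g i.1)) hN2

end Groth.Agent.S9399
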