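import Groth.Statements.S9400
import Groth.Agent.Lib.Helper5.LocICCover
import Mathlib.RingTheory.Localization.Ideal

set_option autoImplicit false
universe u
open CAlg

namespace Groth.Agent.S9400

/-- Being a Nagata ring can be checked on a finite cover of Spec R by principal opens. -/
theorem result (R : Type u) [CommRing R]
    {ι : Type u} [Finite ι] (f : ι → R) (hf : Ideal.span (Set.range f) = ⊤)
    (h : ∀ i, CAlg.IsNagata (Localization.Away (f i))) : CAlg.IsNagata R := by
  have hnoeth : IsNoetherianRing R := by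
    rw [isNoetherianRing_iff_ideal_fg]
    intro I
    refine Ideal.fg_of_localizationSpan (Set.range f) hf ?_
    rintro ⟨_, i, rfl⟩
    have := (h i).1
    exact IsNoetherian.noetherian _
  refine ⟨hnoeth, ?_⟩
  intro p hp
  let ι' : Type u := {i : ι // f i ∉ p}
  let g : ι' → R ⧸ p := fun i => algebraMap R (R ⧸ p) (f i.1)
  have hspan : Ideal.span (Set.range g) = ⊤ := by
    have h1 : Ideal.span (Set.range (fun i => algebraMap R (R ⧸ p) (f i))) = ⊤ := by
      have := congrArg (Ideal.map (algebraMap R (R ⧸ p))) hf
      rw [Ideal.map_span, Ideal.map_top, ← Set.range_comp] at this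
      exact this
    rw [eq_top_iff, ← h1, Ideal.span_le]
    rintro _ ⟨i, rfl⟩
    by_cases hi : f i ∈ p
    · have : algebraMap R (R ⧸ p) (f i) = 0 := Ideal.Quotient.eq_zero_iff_mem.mpr hi
      simp only [this]
      exact Ideal.zero_mem _
    · exact Ideal.subset_span ⟨⟨i, hi⟩, rfl⟩
  let P : ∀ i : ι', Ideal (Localization.Away (f i.1)) := fun i =>
    p.map (algebraMap R (Localization.Away (f i.1)))
  have hP : ∀ i : ι', (P i).IsPrime := fun i =>
    IsLocalization.isPrime_of_isPrime_disjoint (Submonoid.powers (f i.1)) _ p hp (by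
      rw [Set.disjoint_left]
      rintro _ ⟨n, rfl⟩ hn
      exact i.2 (hp.mem_of_pow_mem n hn))
  have hloc : ∀ i : ι', IsLocalization.Away (g i) (Localization.Away (f i.1) ⧸ P i) := by
    intro i
    have := (inferInstance : IsLocalization (Algebra.algebraMapSubmonoid (R ⧸ p)
      (Submonoid.powers (f i.1)))
      (Localization.Away (f i.1) ⧸ p.map (algebraMap R (Localization.Away (f i.1)))))
    rwa [Algebra.algebraMapSubmonoid, Submonoid.map_powers] at this
  have hN2 : ∀ i : ι', CAlg.IsN2 (Localization.Away (f i.1) ⧸ P i) := fun i => (h i.1).2 (P i)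
  exact Groth.Agent.H5.isN2_of_span_eq_top (R ⧸ p) g hspan
    (fun i => Localization.Away (f i.1) ⧸ P i) hN2

end Groth.Agent.S9400
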