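import Groth.Statements.S9403
import Mathlib.RingTheory.Filtration
import Mathlib.Tactic.LinearCombination
import Mathlib.Tactic.Ring
import Mathlib.RingTheory.LocalRing.MaximalIdeal.Basic

set_option autoImplicit false
universe u
open CAlg

namespace Groth.Agent.S9403

/-- Let R → S be a ring map with S a Noetherian local ring which is an algebra over the rationals, and f
∈ S such that some S-linear form on the module of differentials of S over R sends df to 1 (df spans
a free direct summand of rank one). Then f is a nonzerodivisor of S. (The published statement asks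
only that S·df be a direct summand of the module of differentials, which also holds for the
rationals with a square-zero element adjoined, where f is a zero divisor; this row asks for an
S-linear form on the differentials sending df to 1, as the published proof uses.) -/
theorem result (R : Type u) [CommRing R]
    (S : Type u) [CommRing S] [IsLocalRing S] [IsNoetherianRing S] [Algebra R S] [Algebra ℚ S]
    (f : S) (θ : Ω[S⁄R] →ₗ[S] S) (hθ : θ (KaehlerDifferential.D R S f) = 1) : f ∈ nonZeroDivisors S := by
  by_cases hf : IsUnit f
  · exact hf.mem_nonZeroDivisors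
  have hne : Ideal.span {f} ≠ ⊤ := by
    rw [Ne, Ideal.span_singleton_eq_top]; exact hf
  have hkrull := Ideal.iInf_pow_eq_bot_of_isLocalRing (Ideal.span {f}) hne
  have main : ∀ x : S, f * x = 0 → x = 0 := by
    intro x hx
    have key : ∀ n : ℕ, ∃ y, x = f ^ n * y := by
      intro n
      induction n with
      | zero => exact ⟨x, by simp⟩
      | succ n ih =>
        obtain ⟨y, hy⟩ := ih
        have h0 : f ^ (n + 1) * y = 0 := by
          rw [pow_succ', mul_assoc, ← hy]; exact hx
        have hD : θ (KaehlerDifferential.D R S (f ^ (n + 1) * y)) = 0 := by rw [h0, map_zero, map_zero]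
        rw [Derivation.leibniz, Derivation.leibniz_pow, Nat.add_sub_cancel, map_add, map_smul,
          map_smul, map_nsmul, map_smul, hθ] at hD
        simp only [smul_eq_mul, mul_one, nsmul_eq_mul] at hD
        have hunit : IsUnit ((n + 1 : ℕ) : S) := by
          have : ((n + 1 : ℕ) : ℚ) ≠ 0 := by exact_mod_cast Nat.succ_ne_zero n
          have := (IsUnit.mk0 _ this).map (algebraMap ℚ S)
          simpa using this
        obtain ⟨u, hu⟩ := hunit
        refine ⟨-(↑u⁻¹ * θ (KaehlerDifferential.D R S y)), ?_⟩
        have h5 : (↑u : S) * (f ^ n * y) = -(f ^ (n + 1) * θ (KaehlerDifferential.D R S y)) := by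
          rw [hu]; linear_combination hD
        calc x = f ^ n * y := hy
          _ = ↑u⁻¹ * (↑u * (f ^ n * y)) := by rw [← mul_assoc, Units.inv_mul, one_mul]
          _ = _ := by rw [h5]; ring
    have hmem : x ∈ ⨅ i : ℕ, Ideal.span {f} ^ i := by
      rw [Ideal.mem_iInf]
      intro n
      obtain ⟨y, hy⟩ := key n
      rw [Ideal.span_singleton_pow, Ideal.mem_span_singleton]
      exact ⟨y, hy⟩
    rw [hkrull] at hmem
    exact hmem
  rw [mem_nonZeroDivisors_iff]
  exact ⟨main, fun x hx => main x (by rw [mul_comm]; exact hx)⟩

end Groth.Agent.S9403
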