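import Groth.Statements.S9414
import Mathlib.RingTheory.Smooth.Kaehler
import Mathlib.RingTheory.Jacobson.Ring
import Mathlib.FieldTheory.IsAlgClosed.Basic

set_option autoImplicit false
universe u
open CAlg

namespace Groth.Agent.S9414

theorem cotangent_equiv_of_eq {S : Type*} [CommRing S] (I m : Ideal S) (h : I = m) :
    Nonempty (I.Cotangent ≃ₗ[S] m.Cotangent) := by
  subst h; exact ⟨LinearEquiv.refl _ _⟩


open TensorProduct in
/-- For an algebraically closed field k, a finite type k-algebra S and a maximal ideal m of S with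
residue field κ = S/m, the κ-vector spaces κ ⊗_S Ω_{S/k} and m/m² have the same dimension. -/
theorem result (k : Type u) [Field k]
    [IsAlgClosed k] (S : Type u) [CommRing S] [Algebra k S] [Algebra.FiniteType k S]
    (m : Ideal S) [m.IsMaximal] :
    Module.finrank (S ⧸ m) ((S ⧸ m) ⊗[S] Ω[S⁄k]) = Module.finrank (S ⧸ m) m.Cotangent := by
  let _ : Field (S ⧸ m) := Ideal.Quotient.field m
  have hft : Algebra.FiniteType k (S ⧸ m) :=
    Algebra.FiniteType.of_surjective (Ideal.Quotient.mkₐ k m) Ideal.Quotient.mk_surjective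
  have hfin : Module.Finite k (S ⧸ m) := finite_of_finite_type_of_isJacobsonRing k (S ⧸ m)
  have hbij : Function.Bijective (algebraMap k (S ⧸ m)) :=
    IsAlgClosed.algebraMap_bijective_of_isIntegral
  have hsurj : Function.Surjective (algebraMap S (S ⧸ m)) := Ideal.Quotient.mk_surjective
  -- section
  let e : k ≃ₐ[k] (S ⧸ m) := AlgEquiv.ofBijective (Algebra.ofId k (S ⧸ m)) hbij
  let g : (S ⧸ m) →ₐ[k] S ⧸ RingHom.ker (IsScalarTower.toAlgHom k S (S ⧸ m)).toRingHom ^ 2 :=
    (Algebra.ofId k _).comp e.symm.toAlgHom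
  have hg : (IsScalarTower.toAlgHom k S (S ⧸ m)).kerSquareLift.comp g = AlgHom.id k (S ⧸ m) := by
    ext x
    obtain ⟨c, rfl⟩ := e.surjective x
    simp [g, e]
  obtain ⟨l, hl⟩ := (retractionKerCotangentToTensorEquivSection (R := k) hsurj).symm ⟨g, hg⟩
  have hinj : Function.Injective (KaehlerDifferential.kerCotangentToTensor k S (S ⧸ m)) := by
    intro x y hxy
    have := congrArg l hxy
    rwa [← LinearMap.comp_apply, ← LinearMap.comp_apply, hl] at this
  have hsub : Subsingleton Ω[(S ⧸ m)⁄k] :=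
    KaehlerDifferential.subsingleton_of_surjective k (S ⧸ m) hbij.2
  have hsurj2 : Function.Surjective (KaehlerDifferential.kerCotangentToTensor k S (S ⧸ m)) := by
    intro x
    have := (KaehlerDifferential.exact_kerCotangentToTensor_mapBaseChange k S (S ⧸ m) hsurj x).mp
      (Subsingleton.elim _ _)
    exact this
  obtain ⟨e₀⟩ := Groth.Agent.S9414.cotangent_equiv_of_eq (RingHom.ker (algebraMap S (S ⧸ m))) m Ideal.mk_ker
  let e₁ : m.Cotangent ≃ₗ[S] (S ⧸ m) ⊗[S] Ω[S⁄k] :=
    e₀.symm.trans (LinearEquiv.ofBijective _ ⟨hinj, hsurj2⟩)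
  let e₂ : m.Cotangent ≃ₗ[S ⧸ m] (S ⧸ m) ⊗[S] Ω[S⁄k] :=
    LinearEquiv.extendScalarsOfSurjective hsurj e₁
  exact e₂.finrank_eq.symm

end Groth.Agent.S9414
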