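import Groth.Statements.S9425
import Mathlib.RingTheory.Unramified.Basic

set_option autoImplicit false
universe u
open CAlg

namespace Groth.Agent.S9425

/-- A directed colimit of formally étale R-algebras is formally étale over R. The colimit is encoded by
compatible R-algebra maps S_i → S which are jointly surjective and whose kernels die further along
the system. -/
theorem result {ι : Type u} [Preorder ι] [IsDirected ι (· ≤ ·)] [Nonempty ι]
    (R : Type u) [CommRing R] (G : ι → Type u) [∀ i, CommRing (G i)] [∀ i, Algebra R (G i)]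
    (f : ∀ i j, i ≤ j → (G i →ₐ[R] G j)) (S : Type u) [CommRing S] [Algebra R S]
    (g : ∀ i, G i →ₐ[R] S) (hg : ∀ i j (h : i ≤ j), (g j).comp (f i j h) = g i)
    (hsurj : ∀ s : S, ∃ i, ∃ x : G i, g i x = s)
    (hker : ∀ i (x : G i), g i x = 0 → ∃ j, ∃ h : i ≤ j, f i j h x = 0)
    (h : ∀ i, Algebra.FormallyEtale R (G i)) : Algebra.FormallyEtale R S := by
  have hunr : Algebra.FormallyUnramified R S := by
    rw [Algebra.FormallyUnramified.iff_comp_injective]
    intro B _ _ I hI φ₁ φ₂ hφ
    have key : ∀ i, φ₁.comp (g i) = φ₂.comp (g i) := by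
      intro i
      have hi : Algebra.FormallyUnramified R (G i) := by have := h i; infer_instance
      refine (Algebra.FormallyUnramified.iff_comp_injective.mp hi) I hI ?_
      rw [← AlgHom.comp_assoc, ← AlgHom.comp_assoc]
      exact congrArg (fun ψ => ψ.comp (g i)) hφ
    ext s
    obtain ⟨i, x, rfl⟩ := hsurj s
    exact DFunLike.congr_fun (key i) x
  rw [Algebra.FormallyEtale.iff_comp_bijective]
  intro B _ _ I hI
  refine ⟨(Algebra.FormallyUnramified.iff_comp_injective.mp hunr) I hI, ?_⟩
  intro ψ
  have hbij : ∀ i, Function.Bijective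
      ((Ideal.Quotient.mkₐ R I).comp : (G i →ₐ[R] B) → G i →ₐ[R] B ⧸ I) := fun i =>
    have := h i
    Algebra.FormallyEtale.comp_bijective R (G i) I hI
  choose lam hlam using fun i => (hbij i).2 (ψ.comp (g i))
  have hcompat : ∀ i j (hij : i ≤ j), (lam j).comp (f i j hij) = lam i := by
    intro i j hij
    apply (hbij i).1
    rw [← AlgHom.comp_assoc, hlam j, hlam i, AlgHom.comp_assoc, hg]
  have hwd : ∀ i j (x : G i) (y : G j), g i x = g j y → lam i x = lam j y := by
    intro i j x y hxy
    obtain ⟨k, hik, hjk⟩ := exists_ge_ge i j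
    have e1 : g k (f i k hik x) = g i x := DFunLike.congr_fun (hg i k hik) x
    have e2 : g k (f j k hjk y) = g j y := DFunLike.congr_fun (hg j k hjk) y
    have h1 : g k (f i k hik x - f j k hjk y) = 0 := by
      rw [map_sub, e1, e2, hxy, sub_self]
    obtain ⟨l, hkl, hl⟩ := hker k _ h1
    rw [map_sub, sub_eq_zero] at hl
    calc lam i x = lam k (f i k hik x) := (DFunLike.congr_fun (hcompat i k hik) x).symm
      _ = lam l (f k l hkl (f i k hik x)) := (DFunLike.congr_fun (hcompat k l hkl) _).symm
      _ = lam l (f k l hkl (f j k hjk y)) := by rw [hl]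
      _ = lam k (f j k hjk y) := DFunLike.congr_fun (hcompat k l hkl) _
      _ = lam j y := DFunLike.congr_fun (hcompat j k hjk) y
  choose idx rep hrep using hsurj
  let Λ : S → B := fun s => lam (idx s) (rep s)
  have hΛ : ∀ k (z : G k), Λ (g k z) = lam k z := fun k z => hwd _ _ _ _ (hrep (g k z))
  have hpair : ∀ s t : S, ∃ k, ∃ x y : G k, g k x = s ∧ g k y = t := by
    intro s t
    obtain ⟨k, hik, hjk⟩ := exists_ge_ge (idx s) (idx t)
    exact ⟨k, f _ k hik (rep s), f _ k hjk (rep t),
      (DFunLike.congr_fun (hg _ k hik) (rep s)).trans (hrep s),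
      (DFunLike.congr_fun (hg _ k hjk) (rep t)).trans (hrep t)⟩
  obtain ⟨i0⟩ := ‹Nonempty ι›
  let Λalg : S →ₐ[R] B :=
    { toFun := Λ
      map_one' := by
        have := hΛ i0 1
        rwa [map_one, map_one] at this
      map_mul' := fun s t => by
        obtain ⟨k, x, y, rfl, rfl⟩ := hpair s t
        rw [← map_mul, hΛ, hΛ, hΛ, map_mul]
      map_zero' := by
        have := hΛ i0 0
        rwa [map_zero, map_zero] at this
      map_add' := fun s t => by
        obtain ⟨k, x, y, rfl, rfl⟩ := hpair s t
        rw [← map_add, hΛ, hΛ, hΛ, map_add]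
      commutes' := fun r => by
        rw [← (g i0).commutes r, hΛ, (lam i0).commutes] }
  refine ⟨Λalg, ?_⟩
  ext s
  change Ideal.Quotient.mk I (Λ s) = ψ s
  rw [← hrep s, hΛ]
  exact DFunLike.congr_fun (hlam (idx s)) (rep s)

end Groth.Agent.S9425
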