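import Groth.Statements.S9430
import Groth.Agent.Lib.Helper8.CI.CILocal2
-- import your own Groth.Agent.* helpers here

set_option autoImplicit false
universe u
open Synt

namespace Groth.Agent.S9430

/-- For a field extension K/k, every finite subset of K lies in a k-subalgebra of K which is a global
complete intersection over k; so K is the directed union of its k-subalgebras that are global
complete intersections over k. -/
theorem result (k : Type u) [Field k] (K : Type u)
    [Field K] [Algebra k K] (E : Finset K) :
    ∃ A : Subalgebra k K, (↑E : Set K) ⊆ (A : Set K) ∧ Synt.IsGlobalCI k A := by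
  open Groth.Agent.H8.CILocal Groth.Agent.H8.CIId Groth.Agent.H8.GCI in
  classical
  let A₀ : Subalgebra k K := Algebra.adjoin k (E : Set K)
  haveI : Algebra.FiniteType k A₀ :=
    (Subalgebra.fg_iff_finiteType _).mp (Subalgebra.fg_adjoin_finset E)
  haveI : (⊥ : Ideal A₀).IsPrime := Ideal.isPrime_bot
  haveI : IsLocalization.AtPrime (FractionRing A₀) (⊥ : Ideal A₀) := by
    unfold IsLocalization.AtPrime
    rw [Ideal.primeCompl_bot]
    infer_instance
  haveI : Algebra.EssFiniteType k (FractionRing A₀) := by
    haveI : Algebra.EssFiniteType A₀ (FractionRing A₀) :=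
      Algebra.EssFiniteType.of_isLocalization _ (nonZeroDivisors A₀)
    exact Algebra.EssFiniteType.comp k A₀ (FractionRing A₀)
  have hci : HasCIPres k (FractionRing A₀) := by
    refine ⟨FractionRing A₀, inferInstance, inferInstance, inferInstance, inferInstance,
      AlgHom.id k _, Function.surjective_id, ?_⟩
    have h1 : RingHom.ker (AlgHom.id k (FractionRing A₀)).toRingHom = Ideal.ofList [] := by
      ext x
      simp [RingHom.mem_ker, Ideal.ofList]
    rw [h1]
    exact isCI_of_isRegular [] (RingTheory.Sequence.IsRegular.nil _ _)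
  obtain ⟨g, hg, hgci⟩ := exists_isGlobalCI_of_hasCIPres (⊥ : Ideal A₀) hci
  have hg0 : g ≠ 0 := fun h => hg (h ▸ Ideal.zero_mem _)
  have hunit : ∀ y : Submonoid.powers g, IsUnit (A₀.val y) := by
    rintro ⟨_, j, rfl⟩
    rw [map_pow]
    apply IsUnit.pow
    apply IsUnit.mk0
    intro h0
    exact hg0 (Subtype.ext h0)
  let f : Localization.Away g →ₐ[k] K :=
    IsLocalization.liftAlgHom (A := k) (R := A₀) (M := Submonoid.powers g)
      (S := Localization.Away g) (P := K) (f := A₀.val) hunit
  have hf : Function.Injective f := by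
    rw [injective_iff_map_eq_zero]
    intro z hz
    obtain ⟨a, u, rfl⟩ := IsLocalization.exists_mk'_eq (Submonoid.powers g) z
    have h1 : IsLocalization.mk' (Localization.Away g) a u * algebraMap _ _ (u : A₀) =
        algebraMap _ _ a := IsLocalization.mk'_spec _ _ _
    have h2 := congrArg f h1
    rw [map_mul, hz, zero_mul] at h2
    have h3 : f (algebraMap A₀ (Localization.Away g) a) = A₀.val a := by
      simp [f]
    rw [h3] at h2
    have ha : a = 0 := Subtype.ext h2.symm
    rw [ha, IsLocalization.mk'_zero]
  refine ⟨f.range, ?_, isGlobalCI_of_algEquiv (AlgEquiv.ofInjective f hf) hgci⟩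
  intro x hx
  have hxA : x ∈ A₀ := Algebra.subset_adjoin hx
  refine ⟨algebraMap A₀ (Localization.Away g) ⟨x, hxA⟩, ?_⟩
  simp [f]

end Groth.Agent.S9430
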