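import Groth.Statements.S9434
import Groth.Agent.Lib.Helper8.SplitDom
-- import your own Groth.Agent.* helpers here

set_option autoImplicit false
universe u
open CAlg

namespace Groth.Agent.S9434

open Groth.Agent.H8.Split Polynomial IsLocalRing

/-- Let R → S be a local homomorphism of local rings with S the localization of an étale R-algebra at a
prime. Then there is a finite, finitely presented, faithfully flat R-algebra S' such that for every
maximal ideal m' of S' the structure map R → S'_{m'} factors through some R-algebra map S → S'_{m'}. -/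
theorem result (R : Type u) [CommRing R] [IsLocalRing R] (T : Type u) [CommRing T] [Algebra R T]
    [Algebra.Etale R T] (q : Ideal T) [q.IsPrime] (S : Type u) [CommRing S] [IsLocalRing S]
    [Algebra T S] [IsLocalization.AtPrime S q] [Algebra R S] [IsScalarTower R T S]
    [IsLocalHom (algebraMap R S)] :
    ∃ (S' : Type u) (_ : CommRing S') (_ : Algebra R S'),
      Module.Finite R S' ∧ Algebra.FinitePresentation R S' ∧ Module.FaithfullyFlat R S' ∧
        ∀ (m' : Ideal S') [m'.IsMaximal], Nonempty (S →ₐ[R] Localization.AtPrime m') := by
  haveI : Algebra.FinitePresentation R T := Algebra.Etale.finitePresentation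
  haveI : Algebra.IsEtaleAt R q := inferInstance
  obtain ⟨g, hgq, hstd⟩ := Algebra.IsEtaleAt.exists_isStandardEtale (R := R) q
  obtain ⟨P⟩ := hstd.nonempty_standardEtalePresentation
  obtain ⟨S', _, _, hfin, hfree, hfp, hinj, u, hu⟩ :=
    exists_splitting_algebra P.f.natDegree R P.f P.monic_f rfl
  haveI : FaithfulSMul R S' := (faithfulSMul_iff_algebraMap_injective R S').mpr hinj
  haveI : Nontrivial S' := hinj.nontrivial
  refine ⟨S', inferInstance, inferInstance, hfin, hfp, inferInstance, ?_⟩
  intro m' hm'
  haveI := hm'.isPrime
  -- m' lies over the maximal ideal of R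
  have hm'R : m'.under R = maximalIdeal R :=
    IsLocalRing.eq_maximalIdeal (Ideal.isMaximal_comap_of_isIntegral_of_isMaximal m')
  -- q lies over the maximal ideal of R
  have hqR : q.under R = maximalIdeal R := by
    ext x
    rw [Ideal.mem_comap, ← IsLocalization.AtPrime.to_map_mem_maximal_iff S q,
      ← IsScalarTower.algebraMap_apply]
    have := ((IsLocalRing.local_hom_TFAE (algebraMap R S)).out 0 4).mp ‹IsLocalHom (algebraMap R S)›
    rw [← this, Ideal.mem_comap]
  have hdisj : Disjoint (Submonoid.powers g : Set T) (q : Set T) :=
    (Ideal.disjoint_powers_iff_notMem_of_isPrime _).mpr hgq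
  haveI hq₁ : (q.map (algebraMap T (Localization.Away g))).IsPrime :=
    IsLocalization.isPrime_of_isPrime_disjoint (.powers g) _ _ ‹q.IsPrime› hdisj
  have hcomap : (q.map (algebraMap T (Localization.Away g))).comap (algebraMap T _) = q :=
    IsLocalization.under_map_of_isPrime_disjoint (.powers g) _ ‹q.IsPrime› hdisj
  have hunder : m'.under R = (q.map (algebraMap T (Localization.Away g))).under R := by
    rw [hm'R, ← hqR, Ideal.under, Ideal.under, IsScalarTower.algebraMap_eq R T (Localization.Away g),
      ← Ideal.comap_comap, hcomap]
  obtain ⟨i, hi, ψ, hψ⟩ := exists_hom_away P u hu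
    (q.map (algebraMap T (Localization.Away g))) m' hunder
  generalize hg'' : aeval (u i) P.g = g'' at hi ψ hψ
  -- the map `Away g'' → AtPrime m'`
  have hunit : IsUnit (algebraMap S' (Localization.AtPrime m') g'') :=
    IsLocalization.map_units (M := m'.primeCompl) _ ⟨g'', hi⟩
  let χ₀ : Localization.Away g'' →+* Localization.AtPrime m' := IsLocalization.Away.lift g'' hunit
  have hχ₀ : ∀ s : S', χ₀ (algebraMap S' _ s) = algebraMap S' _ s := fun s =>
    IsLocalization.Away.lift_eq g'' hunit s
  have hχcomap : (maximalIdeal (Localization.AtPrime m')).comap χ₀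
      = m'.map (algebraMap S' (Localization.Away g'')) := by
    rw [← IsLocalization.map_under (Submonoid.powers g'') (Localization.Away g'')
      ((maximalIdeal (Localization.AtPrime m')).comap χ₀)]
    congr 1
    rw [Ideal.under, Ideal.comap_comap]
    have : χ₀.comp (algebraMap S' (Localization.Away g'')) = algebraMap S' _ :=
      RingHom.ext hχ₀
    rw [this]
    exact IsLocalization.AtPrime.under_maximalIdeal (Localization.AtPrime m') m'
  -- the composite `T → AtPrime m'`
  let Θ : T →+* Localization.AtPrime m' :=
    χ₀.comp (ψ.toRingHom.comp (algebraMap T (Localization.Away g)))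
  have hΘR : ∀ r : R, Θ (algebraMap R T r) = algebraMap R _ r := by
    intro r
    show χ₀ (ψ (algebraMap T (Localization.Away g) (algebraMap R T r))) = _
    rw [← IsScalarTower.algebraMap_apply, ψ.commutes,
      IsScalarTower.algebraMap_apply R S' (Localization.Away g''), hχ₀,
      ← IsScalarTower.algebraMap_apply]
  have hΘunit : ∀ y : q.primeCompl, IsUnit (Θ y) := by
    rintro ⟨y, hy⟩
    by_contra hn
    have h1 : Θ y ∈ maximalIdeal (Localization.AtPrime m') := by simpa using hn
    have h2 : ψ (algebraMap T (Localization.Away g) y) ∈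
        m'.map (algebraMap S' (Localization.Away g'')) := by
      rw [← hχcomap]; exact h1
    have h3 : algebraMap T (Localization.Away g) y ∈ q.map (algebraMap T (Localization.Away g)) := by
      rw [← hψ]; exact h2
    have h4 : y ∈ q := by rw [← hcomap]; exact h3
    exact hy h4
  let Λ₀ : S →+* Localization.AtPrime m' := IsLocalization.lift (M := q.primeCompl) hΘunit
  have hΛ₀ : ∀ y : T, Λ₀ (algebraMap T S y) = Θ y := fun y => IsLocalization.lift_eq hΘunit y
  exact ⟨{ Λ₀ with
    commutes' := by
      intro r
      show Λ₀ (algebraMap R S r) = _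
      rw [IsScalarTower.algebraMap_apply R T S, hΛ₀, hΘR] }⟩

end Groth.Agent.S9434
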