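import Groth.Statements.S9435
import Mathlib.RingTheory.Etale.StandardEtale
import Mathlib.FieldTheory.PrimitiveElement
import Mathlib.RingTheory.Localization.Integral
import Mathlib.RingTheory.Polynomial.ScaleRoots
import Mathlib.RingTheory.LocalRing.ResidueField.Ideal
import Mathlib.FieldTheory.Separable

set_option autoImplicit false
universe u
open CAlg

namespace Groth.Agent.S9435

/-- Given a prime p of a ring R and a finite separable extension L of κ(p), there is an étale R-algebra
R' with a prime p' over p whose residue field is κ(p)-isomorphic to L. Stated through an R-algebra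
map ψ : R' → L whose image generates the field L: its kernel is such a prime p' and the induced
κ(p') → L is then an isomorphism over κ(p). -/
theorem result (R : Type u) [CommRing R]
    (p : Ideal R) [p.IsPrime] (L : Type u) [Field L] [Algebra p.ResidueField L] [Algebra R L]
    [IsScalarTower R p.ResidueField L] [Module.Finite p.ResidueField L]
    [Algebra.IsSeparable p.ResidueField L] :
    ∃ (R' : Type u) (_ : CommRing R') (_ : Algebra R R') (_ : Algebra.Etale R R') (ψ : R' →ₐ[R] L),
      Subfield.closure (Set.range ψ) = ⊤ := by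
  classical
  obtain ⟨θ, hθ⟩ := Field.exists_primitive_element p.ResidueField L
  have hint : IsIntegral p.ResidueField θ := Algebra.IsIntegral.isIntegral θ
  have hmon : (minpoly p.ResidueField θ).Monic := minpoly.monic hint
  have hsep : (minpoly p.ResidueField θ).Separable := Algebra.IsSeparable.isSeparable _ θ
  obtain ⟨m, hm⟩ : ∃ m, m = minpoly p.ResidueField θ := ⟨_, rfl⟩
  rw [← hm] at hmon hsep
  have hmθ : Polynomial.aeval θ m = 0 := hm ▸ minpoly.aeval _ _
  obtain ⟨b, hb⟩ : ∃ b : nonZeroDivisors (R ⧸ p),
      b = IsLocalization.commonDenom (nonZeroDivisors (R ⧸ p)) m.support m.coeff := ⟨_, rfl⟩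
  obtain ⟨β, hβdef⟩ : ∃ β : p.ResidueField, β = algebraMap (R ⧸ p) p.ResidueField b := ⟨_, rfl⟩
  have hβ : β ≠ 0 := hβdef ▸ (IsLocalization.map_units p.ResidueField b).ne_zero
  have hlift : m.scaleRoots β ∈ Polynomial.lifts (algebraMap (R ⧸ p) p.ResidueField) := by
    rw [hβdef, hb]
    exact IsLocalization.scaleRoots_commonDenom_mem_lifts (nonZeroDivisors (R ⧸ p)) m
      (by rw [hmon.leadingCoeff]; exact one_mem _)
  obtain ⟨g1, hg1, -, hg1mon⟩ := Polynomial.lifts_and_natDegree_eq_and_monic hlift
    ((Polynomial.monic_scaleRoots_iff _).2 hmon)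
  obtain ⟨f, hf, -, hfmon⟩ := Polynomial.lifts_and_natDegree_eq_and_monic
    (p := g1) (f := Ideal.Quotient.mk p)
    ((Polynomial.mem_lifts _).2 (Polynomial.map_surjective _ Ideal.Quotient.mk_surjective g1))
    hg1mon
  have hfm : f.map (algebraMap R p.ResidueField) = m.scaleRoots β := by
    rw [← hg1, ← hf, Polynomial.map_map]
    rfl
  obtain ⟨x, hx⟩ : ∃ x : L, x = algebraMap p.ResidueField L β * θ := ⟨_, rfl⟩
  have haeval : ∀ q : Polynomial R, Polynomial.aeval x q =
      Polynomial.eval₂ (algebraMap p.ResidueField L) x (q.map (algebraMap R p.ResidueField)) := by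
    intro q
    rw [Polynomial.eval₂_map, ← IsScalarTower.algebraMap_eq, Polynomial.aeval_def]
  have hfx : Polynomial.aeval x f = 0 := by
    rw [haeval, hfm, hx]
    exact Polynomial.scaleRoots_eval₂_eq_zero _ hmθ
  have hcomp : (m.scaleRoots β).comp (Polynomial.C β * Polynomial.X) =
      Polynomial.C (β ^ m.natDegree) * m := by
    have := Polynomial.scaleRoots_eval₂_mul (p := m) (Polynomial.C : p.ResidueField →+* _)
      Polynomial.X β
    rw [Polynomial.eval₂_C_X] at this
    rw [Polynomial.comp, this, map_pow]
  have hder : algebraMap p.ResidueField L β *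
      Polynomial.aeval x (Polynomial.derivative (m.scaleRoots β)) =
      algebraMap p.ResidueField L (β ^ m.natDegree) *
        Polynomial.aeval θ (Polynomial.derivative m) := by
    have h1 := congrArg (fun q => Polynomial.aeval θ (Polynomial.derivative q)) hcomp
    simp only [Polynomial.derivative_comp, Polynomial.derivative_mul, Polynomial.derivative_C,
      Polynomial.derivative_X, zero_mul, mul_one, zero_add, map_mul, Polynomial.aeval_C,
      Polynomial.aeval_comp, Polynomial.aeval_X] at h1
    rw [hx]
    exact h1
  have hdx : Polynomial.aeval x (Polynomial.derivative f) ≠ 0 := by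
    rw [haeval, ← Polynomial.derivative_map, hfm, ← Polynomial.aeval_def]
    intro h0
    rw [h0, mul_zero] at hder
    have h2 : Polynomial.aeval θ (Polynomial.derivative m) ≠ 0 :=
      hsep.aeval_derivative_ne_zero hmθ
    have h3 : algebraMap p.ResidueField L (β ^ m.natDegree) ≠ 0 := by
      simpa using pow_ne_zero _ hβ
    exact mul_ne_zero h3 h2 hder.symm
  let P : StandardEtalePair R := ⟨f, hfmon, Polynomial.derivative f, ⟨1, 0, 1, by simp⟩⟩
  have hP : P.HasMap x := ⟨hfx, isUnit_iff_ne_zero.2 hdx⟩
  refine ⟨P.Ring, inferInstance, inferInstance, inferInstance, P.lift x hP, ?_⟩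
  rw [eq_top_iff]
  have hR : ∀ r : R, algebraMap R L r ∈ Subfield.closure (Set.range (P.lift x hP)) := fun r =>
    Subfield.subset_closure ⟨algebraMap R P.Ring r, by simp⟩
  have hκ : ∀ c : p.ResidueField,
      algebraMap p.ResidueField L c ∈ Subfield.closure (Set.range (P.lift x hP)) := by
    intro c
    obtain ⟨a, s, -, rfl⟩ := IsFractionRing.div_surjective (A := R ⧸ p) c
    obtain ⟨a, rfl⟩ := Ideal.Quotient.mk_surjective a
    obtain ⟨s, rfl⟩ := Ideal.Quotient.mk_surjective s
    rw [map_div₀, Ideal.algebraMap_quotient_residueField_mk,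
      Ideal.algebraMap_quotient_residueField_mk, ← IsScalarTower.algebraMap_apply,
      ← IsScalarTower.algebraMap_apply]
    exact div_mem (hR a) (hR s)
  have hxmem : x ∈ Subfield.closure (Set.range (P.lift x hP)) :=
    Subfield.subset_closure ⟨P.X, P.lift_X x hP⟩
  have hθmem : θ ∈ Subfield.closure (Set.range (P.lift x hP)) := by
    have : θ = x / algebraMap p.ResidueField L β := by
      rw [hx, mul_div_cancel_left₀]
      simpa using hβ
    rw [this]
    exact div_mem hxmem (hκ β)
  intro y _
  have hle : IntermediateField.adjoin p.ResidueField {θ} ≤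
      (Subfield.closure (Set.range (P.lift x hP))).toIntermediateField hκ := by
    rw [IntermediateField.adjoin_simple_le_iff]
    exact hθmem
  rw [hθ] at hle
  exact hle (IntermediateField.mem_top (x := y))

end Groth.Agent.S9435
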