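import Groth.Statements.S9440
import Groth.Agent.Lib.Helper8.Japanese.AUK11
import Groth.Agent.Lib.Helper8.Japanese.AU2
import Groth.Agent.S0576
-- import your own Groth.Agent.* helpers here

set_option autoImplicit false
universe u
open CAlg

namespace Groth.Agent.S9440

/-- (1) ⇔ (3): a Noetherian local ring R is a Nagata ring if and only if for every finite local
homomorphism R → S of local rings with S a domain, the completion of S is reduced. -/
theorem result (R : Type u) [CommRing R]
    [IsLocalRing R] [IsNoetherianRing R] :
    CAlg.IsNagata R ↔ ∀ (S : Type u) [CommRing S] [IsDomain S] [IsLocalRing S] [Algebra R S]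
      [IsLocalHom (algebraMap R S)] [Module.Finite R S],
      IsReduced (AdicCompletion (IsLocalRing.maximalIdeal S) S) := by
  open Groth.Agent.H8 Groth.Agent.H8.Jap IsLocalRing TensorProduct in
    constructor
    · intro hR S _ _ _ _ _ _
      exact Groth.Agent.S0576.result S (AUK.isNagata_of_finite R S hR)
    · intro h
      refine ⟨inferInstance, fun p _ => ?_⟩
      haveI : IsLocalRing (R ⧸ p) :=
        IsLocalRing.of_surjective' (Ideal.Quotient.mk p) Ideal.Quotient.mk_surjective
      haveI : IsLocalHom (Ideal.Quotient.mk p) :=
        IsLocalHom.of_surjective (Ideal.Quotient.mk p) Ideal.Quotient.mk_surjective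
      apply AUK.isN2_of_forall_finite_local_isN1
      intro B _ _ _ _ _ hinj
      letI : Algebra R B := ((algebraMap (R ⧸ p) B).comp (Ideal.Quotient.mk p)).toAlgebra
      haveI : IsScalarTower R (R ⧸ p) B := IsScalarTower.of_algebraMap_eq (fun _ => rfl)
      haveI : Module.Finite R B := Module.Finite.trans (R ⧸ p) B
      haveI : FaithfulSMul (R ⧸ p) B := (faithfulSMul_iff_algebraMap_injective _ _).mpr hinj
      haveI : Algebra.IsIntegral (R ⧸ p) B := Algebra.IsIntegral.of_finite _ _
      haveI : IsLocalHom (algebraMap (R ⧸ p) B) := inferInstance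
      haveI : IsLocalHom (algebraMap R B) :=
        RingHom.isLocalHom_comp (algebraMap (R ⧸ p) B) (Ideal.Quotient.mk p)
      haveI := h B
      haveI : IsNoetherianRing B := IsNoetherianRing.of_finite R B
      exact isN1_of_isReduced_adicCompletion B

end Groth.Agent.S9440
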