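import Groth.Statements.S9454
import Groth.Agent.Lib.Helper8.SplitDom
-- import your own Groth.Agent.* helpers here

set_option autoImplicit false
universe u
open CAlg

namespace Groth.Agent.S9454

open Groth.Agent.H8.Split Polynomial

/-- For an étale ring map R → S which is surjective on spectra there is a finite, finitely presented,
flat R-algebra S' with Spec S' → Spec R surjective such that, Zariski locally on S', the structure
map factors through S: every prime q' of S' has some g' ∉ q' and an R-algebra map S → S'_{g'}. -/
theorem result (R : Type u) [CommRing R]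
    (S : Type u) [CommRing S] [Algebra R S] [Algebra.Etale R S]
    (hs : Function.Surjective (PrimeSpectrum.comap (algebraMap R S))) :
    ∃ (S' : Type u) (_ : CommRing S') (_ : Algebra R S'),
      Module.Finite R S' ∧ Algebra.FinitePresentation R S' ∧ Module.Flat R S' ∧
        Function.Surjective (PrimeSpectrum.comap (algebraMap R S')) ∧
        ∀ (q' : Ideal S') [q'.IsPrime], ∃ (g' : S') (_ : g' ∉ q'),
          Nonempty (S →ₐ[R] Localization.Away g') := by
  classical
  haveI : Algebra.FinitePresentation R S := Algebra.Etale.finitePresentation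
  -- Step 1-2: finite standard étale cover
  let Good : S → Prop := fun g => Nonempty (StandardEtalePresentation R (Localization.Away g))
  have hspan : Ideal.span {g : S | Good g} = ⊤ := by
    by_contra hne
    obtain ⟨m, hm, hle⟩ := Ideal.exists_le_maximal _ hne
    haveI := hm.isPrime
    haveI : Algebra.IsEtaleAt R m := inferInstance
    obtain ⟨g, hgm, hstd⟩ := Algebra.IsEtaleAt.exists_isStandardEtale (R := R) m
    exact hgm (hle (Ideal.subset_span hstd.nonempty_standardEtalePresentation))
  obtain ⟨t, ht, htop⟩ := (Ideal.span_eq_top_iff_finite _).mp hspan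
  -- choose presentations
  let Pf : S → R[X] := fun g => if h : Good g then h.some.f else 1
  have hPf : ∀ g, (Pf g).Monic := by
    intro g
    by_cases h : Good g
    · simp only [Pf, dif_pos h]; exact h.some.monic_f
    · simp only [Pf, dif_neg h]; exact monic_one
  obtain ⟨S', _, _, hfin, hfree, hfp, hinj, hspl⟩ :=
    exists_splitting_algebra_list R (t.toList.map Pf) (by
      intro f hf
      obtain ⟨g, -, rfl⟩ := List.mem_map.mp hf
      exact hPf g)
  haveI : FaithfulSMul R S' := (faithfulSMul_iff_algebraMap_injective R S').mpr hinj
  refine ⟨S', inferInstance, inferInstance, hfin, hfp, inferInstance,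
    Algebra.IsIntegral.comap_surjective R S', ?_⟩
  intro q' _
  obtain ⟨⟨q, hqp⟩, hq⟩ := hs ⟨q'.under R, inferInstance⟩
  have hq' : q.under R = q'.under R := congrArg PrimeSpectrum.asIdeal hq
  -- find g ∈ t with g ∉ q
  obtain ⟨g, hgt, hgq⟩ : ∃ g ∈ t, g ∉ q := by
    by_contra hcon
    push Not at hcon
    have : Ideal.span (t : Set S) ≤ q := Ideal.span_le.mpr fun x hx => hcon x hx
    rw [htop] at this
    exact hqp.ne_top (top_le_iff.mp this)
  have hgood : Good g := ht hgt
  obtain ⟨n, u, hu⟩ := hspl (Pf g) (List.mem_map_of_mem (Finset.mem_toList.mpr hgt))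
  simp only [Pf, dif_pos hgood] at hu
  -- the prime of the localization
  have hdisj : Disjoint (Submonoid.powers g : Set S) (q : Set S) :=
    (Ideal.disjoint_powers_iff_notMem_of_isPrime _).mpr hgq
  haveI hq₁ : (q.map (algebraMap S (Localization.Away g))).IsPrime :=
    IsLocalization.isPrime_of_isPrime_disjoint (.powers g) _ _ hqp hdisj
  have hcomap : (q.map (algebraMap S (Localization.Away g))).comap (algebraMap S _) = q :=
    IsLocalization.under_map_of_isPrime_disjoint (.powers g) _ hqp hdisj
  have hunder : q'.under R = (q.map (algebraMap S (Localization.Away g))).under R := by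
    rw [← hq', Ideal.under, Ideal.under, IsScalarTower.algebraMap_eq R S (Localization.Away g),
      ← Ideal.comap_comap, hcomap]
  obtain ⟨i, hi, ψ, -⟩ := exists_hom_away hgood.some u hu
    (q.map (algebraMap S (Localization.Away g))) q' hunder
  exact ⟨_, hi, ⟨ψ.comp (IsScalarTower.toAlgHom R S (Localization.Away g))⟩⟩

end Groth.Agent.S9454
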