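import Groth.Statements.S9470
import Groth.Agent.Lib.Helper8.Hens.AtPrimeColim
-- import your own Groth.Agent.* helpers here

set_option autoImplicit false
universe u
open Hensel

namespace Groth.Agent.S9470

/-- Let R be a ring, p a prime of R and R^h a henselization of the local ring R_p, regarded as an
R-algebra through R_p. For pairs (S, q) with S an étale R-algebra and q a prime of S over p such
that κ(p) → κ(q) is bijective: (a) there is exactly one R-algebra map f : S → R^h under which the
maximal ideal pulls back to q; (b) every element of R^h is f(s) for some such pair, map f and s ∈ S;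
(c) if such an f sends s to 0, then some R-algebra map S → S' to another such pair (S', q'), pulling
q' back to q, already sends s to 0. Together with filteredness of the category of pairs this
expresses that R^h is canonically the colimit of S over all pairs (S, q). (The published statement
also records the equal colimit of the local rings S_q.) -/
theorem result (R : Type u) [CommRing R]
    (p : Ideal R) [p.IsPrime] (Rh : Type u) [CommRing Rh] [IsLocalRing Rh]
    [Algebra (Localization.AtPrime p) Rh] [IsLocalHom (algebraMap (Localization.AtPrime p) Rh)]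
    [Hensel.IsHenselization (Localization.AtPrime p) Rh] [Algebra R Rh]
    [IsScalarTower R (Localization.AtPrime p) Rh] :
    (∀ (S : Type u) [CommRing S] [Algebra R S] [Algebra.Etale R S] (q : Ideal S) [q.IsPrime]
        (hq : p = q.comap (algebraMap R S)),
        Function.Bijective (Ideal.ResidueField.map p q (algebraMap R S) hq) →
          ∃! f : S →ₐ[R] Rh, (IsLocalRing.maximalIdeal Rh).comap f.toRingHom = q) ∧
    (∀ x : Rh, ∃ (S : Type u) (_ : CommRing S) (_ : Algebra R S) (_ : Algebra.Etale R S) (q : Ideal S)
        (_ : q.IsPrime) (hq : p = q.comap (algebraMap R S)),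
        Function.Bijective (Ideal.ResidueField.map p q (algebraMap R S) hq) ∧
          ∃ (f : S →ₐ[R] Rh) (s : S), (IsLocalRing.maximalIdeal Rh).comap f.toRingHom = q ∧ f s = x) ∧
    (∀ (S : Type u) [CommRing S] [Algebra R S] [Algebra.Etale R S] (q : Ideal S) [q.IsPrime]
        (hq : p = q.comap (algebraMap R S)),
        Function.Bijective (Ideal.ResidueField.map p q (algebraMap R S) hq) →
          ∀ (f : S →ₐ[R] Rh), (IsLocalRing.maximalIdeal Rh).comap f.toRingHom = q → ∀ s : S, f s = 0 →
            ∃ (S' : Type u) (_ : CommRing S') (_ : Algebra R S') (_ : Algebra.Etale R S') (q' : Ideal S')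
              (_ : q'.IsPrime) (hq' : p = q'.comap (algebraMap R S')),
              Function.Bijective (Ideal.ResidueField.map p q' (algebraMap R S') hq') ∧
                ∃ φ : S →ₐ[R] S', q'.comap φ.toRingHom = q ∧ φ s = 0) := by
  open Groth.Agent.H8.Hens IsLocalRing in
  haveI : HenselianLocalRing Rh := Hensel.IsHenselization.henselian (R := Localization.AtPrime p)
  have hcrit := crit_henselization_atPrime R p Rh
  have hres : ∀ z : Rh, ∃ a : Localization.AtPrime p, z - algebraMap _ Rh a ∈ maximalIdeal Rh :=
    fun z => residue_surjective_of_isHenselization (R := Localization.AtPrime p) Rh z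
  refine ⟨?_, ?_, ?_⟩
  · intro S _ _ _ q _ hq hbij
    obtain ⟨f, hf⟩ := exists_algHom_comap_eq p (T := Rh) S q hq hbij
    exact ⟨f, hf, fun f' hf' => algHom_unique_of_comap_eq p S q hq hbij f' f hf' hf⟩
  · intro x
    obtain ⟨C, _, _, _, g, c, hgc⟩ := hcrit.lift x
    haveI : ((maximalIdeal Rh).comap g.toRingHom).IsPrime := Ideal.comap_isPrime _ _
    refine ⟨C, inferInstance, inferInstance, inferInstance, (maximalIdeal Rh).comap g.toRingHom,
      inferInstance, comap_comap_eq p g, ?_, g, c, rfl, hgc⟩
    exact residueField_map_bijective_of_comap p g hres _ rfl _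
  · intro S _ _ _ q _ hq hbij f hf s hs
    obtain ⟨C', _, _, _, h, g', hg', hh⟩ := hcrit.kill S f s hs
    haveI : ((maximalIdeal Rh).comap g'.toRingHom).IsPrime := Ideal.comap_isPrime _ _
    refine ⟨C', inferInstance, inferInstance, inferInstance, (maximalIdeal Rh).comap g'.toRingHom,
      inferInstance, comap_comap_eq p g', ?_, h, ?_, hh⟩
    · exact residueField_map_bijective_of_comap p g' hres _ rfl _
    · rw [Ideal.comap_comap, ← hf, ← hg']
      rfl

end Groth.Agent.S9470
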