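import Groth.Statements.S9500
import Mathlib

set_option autoImplicit false
universe u
open SchMor

namespace Groth.Agent.S9500

open AlgebraicGeometry CategoryTheory Limits in
set_option backward.isDefEq.respectTransparency.types false in
theorem isOpenImmersion_of_mono_field (k : Type u) [Field k] (Y : Scheme.{u})
    (f : Y ⟶ Spec (CommRingCat.of k)) [Mono f] : IsOpenImmersion f := by
  by_cases h : Nonempty Y
  · have : Surjective f := ⟨fun x => ⟨h.some, Subsingleton.elim _ _⟩⟩
    have : Subsingleton Y := f.injective.subsingleton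
    have : QuasiCompact f := by
      rw [HasAffineProperty.iff_of_isAffine (P := @QuasiCompact)]
      infer_instance
    have := Flat.isIso_of_surjective_of_mono f
    infer_instance
  · rw [not_nonempty_iff] at h
    infer_instance

open AlgebraicGeometry CategoryTheory Limits in
set_option backward.isDefEq.respectTransparency.types false in
theorem isOpenImmersion_of_mono_sigma {ι : Type u} (k : ι → Type u) [∀ i, Field (k i)]
    {Y : Scheme.{u}} (f : Y ⟶ ∐ fun i => Spec (CommRingCat.of (k i))) [Mono f] :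
    IsOpenImmersion f := by
  rw [IsZariskiLocalAtTarget.iff_of_openCover (P := @IsOpenImmersion)
    (sigmaOpenCover fun i => Spec (CommRingCat.of (k i)))]
  intro i
  have : Mono ((sigmaOpenCover fun i => Spec (CommRingCat.of (k i))).pullbackHom f i) := by
    dsimp [Scheme.Cover.pullbackHom]; exact pullback.snd_of_mono
  exact @isOpenImmersion_of_mono_field (k i) _ _ _ this

open AlgebraicGeometry CategoryTheory Limits in
theorem exists_sigmaι_eq {σ : Type u} (g : σ → Scheme.{u}) (z : (∐ g : Scheme.{u})) :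
    ∃ (i : σ) (a : g i), (Sigma.ι g i).base a = z :=
  (sigmaOpenCover g).exists_eq z

open AlgebraicGeometry CategoryTheory Limits in
theorem range_sigmaDesc {σ : Type u} (g : σ → Scheme.{u}) {X : Scheme.{u}} (α : ∀ i, g i ⟶ X) :
    Set.range (Sigma.desc α).base = ⋃ i, Set.range (α i).base := by
  ext x
  simp only [Set.mem_range, Set.mem_iUnion]
  constructor
  · rintro ⟨z, rfl⟩
    obtain ⟨i, a, rfl⟩ := exists_sigmaι_eq g z
    refine ⟨i, a, ?_⟩
    rw [← Scheme.Hom.comp_apply, Sigma.ι_desc]
  · rintro ⟨i, a, rfl⟩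
    refine ⟨(Sigma.ι g i).base a, ?_⟩
    rw [← Scheme.Hom.comp_apply, Sigma.ι_desc]

open AlgebraicGeometry in
open CategoryTheory Limits in
/-- Let (k_i)_{i ∈ ι} be a family of fields, X = ∐_i Spec(k_i) the disjoint union, and f : Y → X a
monomorphism of schemes. Then there are a subset J of ι and an isomorphism Y ≅ ∐_{j ∈ J} Spec(k_j)
over X, where ∐_{j ∈ J} Spec(k_j) maps to X by the coproduct inclusions. -/
theorem result
    {ι : Type u} (k : ι → Type u) [∀ i, Field (k i)]
    {Y : Scheme.{u}} (f : Y ⟶ ∐ fun i => Spec (CommRingCat.of (k i))) [Mono f] :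
    ∃ (J : Set ι) (e : Y ≅ ∐ fun j : J => Spec (CommRingCat.of (k j.1))),
      e.hom ≫ Sigma.desc (fun j : J => Sigma.ι (fun i => Spec (CommRingCat.of (k i))) j.1) = f := by
  have hf : IsOpenImmersion f := isOpenImmersion_of_mono_sigma k f
  let g : ι → Scheme.{u} := fun i => Spec (CommRingCat.of (k i))
  let J : Set ι := {i | ∃ y : Y, f.base y ∈ Set.range (Sigma.ι g i).base}
  have hd : IsOpenImmersion (Sigma.desc (fun j : J => Sigma.ι g j.1)) := by
    apply isOpenImmersion_sigmaDesc
    intro j j' hjj'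
    have hne : j.1 ≠ j'.1 := fun h => hjj' (Subtype.ext h)
    have := disjoint_opensRange_sigmaι g j.1 j'.1 hne
    show Disjoint (Set.range (Sigma.ι g j.1).base) (Set.range (Sigma.ι g j'.1).base)
    rw [Set.disjoint_iff]
    intro x ⟨hx1, hx2⟩
    have h3 := this.le_bot (show x ∈ ((Sigma.ι g j.1).opensRange ⊓ (Sigma.ι g j'.1).opensRange) from ⟨hx1, hx2⟩)
    exact h3.elim
  have hrange : Set.range f.base = Set.range (Sigma.desc (fun j : J => Sigma.ι g j.1)).base := by
    rw [range_sigmaDesc]
    ext x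
    simp only [Set.mem_range, Set.mem_iUnion]
    constructor
    · rintro ⟨y, rfl⟩
      obtain ⟨i, a, ha⟩ := exists_sigmaι_eq g (f.base y)
      exact ⟨⟨i, ⟨y, a, ha⟩⟩, a, ha⟩
    · rintro ⟨⟨i, ⟨y, b, hb⟩⟩, a, rfl⟩
      refine ⟨y, ?_⟩
      exact hb.symm.trans (congrArg _ (Subsingleton.elim _ _))
  refine ⟨J, IsOpenImmersion.isoOfRangeEq f _ hrange, ?_⟩
  exact IsOpenImmersion.isoOfRangeEq_hom_fac _ _ _

end Groth.Agent.S9500
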