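import Groth.Statements.S9501
import Mathlib
import Groth.Agent.Lib.Helper1.FibreStalk

set_option autoImplicit false
universe u
open SchMor

namespace Groth.Agent.S9501

open AlgebraicGeometry CategoryTheory
open Groth.Agent.H1.FibreStalk in
theorem ker_eq_of_eq {X S : Scheme.{u}} (f : X ⟶ S) (x x' : X) (h : x = x') {R : Type u} [CommRing R]
    (g : X.presheaf.stalk x' →+* R)
    (hk : RingHom.ker (g.comp (X.presheaf.stalkCongr (.of_eq h)).hom.hom) =
      (IsLocalRing.maximalIdeal (S.presheaf.stalk (f x))).map (f.stalkMap x).hom) :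
    RingHom.ker g = (IsLocalRing.maximalIdeal (S.presheaf.stalk (f x'))).map (f.stalkMap x').hom := by
  subst h
  have h1 : (X.presheaf.stalkCongr (Inseparable.of_eq (rfl : x = x))).hom = 𝟙 _ := by
    rw [TopCat.Presheaf.stalkCongr_hom]
    exact TopCat.Presheaf.stalkSpecializes_refl _ _
  rw [h1] at hk
  simpa using hk

open Groth.Agent.H1.FibreStalk in
theorem base_case {X S : Scheme.{u}} (f : X ⟶ S) (x : X) :
    Function.Surjective ((f.fiberι (f x)).stalkMap (f.asFiber x)).hom ∧
      RingHom.ker ((f.fiberι (f x)).stalkMap (f.asFiber x)).hom =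
        Ideal.map (f.stalkMap ((f.fiberι (f x)).base (f.asFiber x))).hom
          (IsLocalRing.maximalIdeal (S.presheaf.stalk (f.base ((f.fiberι (f x)).base (f.asFiber x))))) := by
  refine ⟨(f.fiberι (f x)).stalkMap_surjective _, ?_⟩
  exact ker_eq_of_eq f x _ (f.fiberι_asFiber x).symm _ (ker_toFiberStalk f x)

theorem general {X S : Scheme.{u}} (f : X ⟶ S) (x : X) (s : S) (hs : f x = s) (y : ↥(f.fiber s))
    (hy : (f.fiberι s) y = x) :
    Function.Surjective ((f.fiberι s).stalkMap y).hom ∧
      RingHom.ker ((f.fiberι s).stalkMap y).hom =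
        Ideal.map (f.stalkMap ((f.fiberι s).base y)).hom
          (IsLocalRing.maximalIdeal (S.presheaf.stalk (f.base ((f.fiberι s).base y)))) := by
  subst hs
  have : y = f.asFiber x := by
    apply (f.fiberι (f x)).isEmbedding.injective
    rw [hy, f.fiberι_asFiber]
  subst this
  exact base_case f x

open AlgebraicGeometry in
open CategoryTheory in
/-- Let f : X → S be a morphism of schemes, s a point of S and y a point of the fibre X_s = X ×_S Spec
κ(s), mapping to the point x of X (so that f(x) = s). Then the homomorphism of local rings O_{X,x} →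
O_{X_s,y} induced by the projection X_s → X is surjective, with kernel the ideal generated by the
image of the maximal ideal of O_{S,f(x)}; in other words O_{X_s,y} is identified with O_{X,x}/m_s
O_{X,x} = O_{X,x} ⊗_{O_{S,s}} κ(s). -/
theorem result
    {X S : Scheme.{u}} (f : X ⟶ S) (s : S) (y : ↥(f.fiber s)) :
    Function.Surjective ((f.fiberι s).stalkMap y).hom ∧
      RingHom.ker ((f.fiberι s).stalkMap y).hom =
        Ideal.map (f.stalkMap ((f.fiberι s).base y)).hom
          (IsLocalRing.maximalIdeal (S.presheaf.stalk (f.base ((f.fiberι s).base y)))) := by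
  refine general f ((f.fiberι s) y) s ?_ y rfl
  have h := congrArg (fun θ : f.fiber s ⟶ S => θ y) (f.fiber_fac s)
  simp only [Scheme.Hom.comp_apply] at h
  rw [h]
  exact Scheme.fromSpecResidueField_apply _ _

end Groth.Agent.S9501
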