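import Groth.Statements.S9507
import Groth.Agent.Lib.Helper8.LRSFac.Hom
-- import your own Groth.Agent.* helpers here

set_option autoImplicit false
universe u
open LRSImm

namespace Groth.Agent.S9507

open AlgebraicGeometry in
open CategoryTheory Opposite TopologicalSpace in
/-- Take a morphism i : Z → X of locally ringed spaces that is a closed immersion (a homeomorphism onto
a closed subset, O_X → i_*O_Z surjective as a map of sheaves, kernel I locally generated by
sections), and let f : Y → X be a morphism of locally ringed spaces. Then f factors through i if and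
only if the composite I → O_X → f_*O_Y vanishes, i.e. every local section of O_X that maps to zero
in i_*O_Z maps to zero in f_*O_Y (equivalently f^*I → O_Y is zero); moreover the factorisation Y → Z
is unique. (The published statement is phrased for the closed subspace cut out by a sheaf of ideals
locally generated by sections; here it is phrased for any closed immersion of locally ringed spaces
with I the kernel of O_X → i_*O_Z, which is the situation its proof treats.) -/
theorem result
    {Z X Y : LocallyRingedSpace.{u}} (i : Z ⟶ X) (hi : LRSImm.IsClosedImmersion i) (f : Y ⟶ X) :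
    ((∃ g : Y ⟶ Z, g ≫ i = f) ↔
      ∀ (U : Opens X.toTopCat) (s : X.presheaf.obj (op U)),
        i.c.app (op U) s = 0 → f.c.app (op U) s = 0) ∧
    ∀ g g' : Y ⟶ Z, g ≫ i = f → g' ≫ i = f → g = g' := by
  obtain ⟨hemb, hsurj, -⟩ := hi
  refine ⟨⟨?_, ?_⟩, ?_⟩
  · rintro ⟨g, rfl⟩ U s hs
    show g.c.app (op ((Opens.map i.base).obj U)) (i.c.app (op U) s) = 0
    rw [hs, map_zero]
  · intro hker
    have hrange := Groth.Agent.H8.LRSFac.range_subset i f hemb.isClosed_range hker
    choose g₀ hg₀ using hrange
    have hcont : Continuous g₀ := by
      rw [hemb.isEmbedding.continuous_iff]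
      have : (i.base ∘ g₀) = f.base := funext hg₀
      rw [this]
      exact f.base.hom.continuous
    let D : Groth.Agent.H8.LRSFac.Data i f := ⟨TopCat.ofHom ⟨g₀, hcont⟩, hg₀, hemb, hsurj, hker⟩
    exact ⟨D.g, D.g_comp⟩
  · intro g g' e e'
    haveI := Groth.Agent.H8.LRSFac.mono_of i hemb hsurj
    exact (cancel_mono i).1 (e.trans e'.symm)

end Groth.Agent.S9507
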