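import Groth.Statements.S9508
import Groth.Agent.Lib.Helper1.QSep

set_option autoImplicit false
universe u
open SchMor

namespace Groth.Agent.S9508

open AlgebraicGeometry in
open CategoryTheory in
/-- (1) ⇔ (2): A morphism of schemes f : X → S is quasi-separated if and only if, whenever two affine
opens U and V of X both lie in the preimage f⁻¹(W) of one affine open W of S, their intersection U ∩
V is quasi-compact (equivalently, is covered by finitely many affine opens). -/
theorem result
    {X S : Scheme.{u}} (f : X ⟶ S) :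
    QuasiSeparated f ↔
      ∀ (U V : X.affineOpens) (W : S.affineOpens),
        (U : X.Opens) ≤ f ⁻¹ᵁ (W : S.Opens) → (V : X.Opens) ≤ f ⁻¹ᵁ (W : S.Opens) →
          IsCompact ((U : Set X) ∩ (V : Set X)) := by
  constructor
  · intro hf U V W hU hV
    have hqs : IsQuasiSeparated ((f ⁻¹ᵁ (W : S.Opens) : X.Opens) : Set X) :=
      f.isQuasiSeparated_preimage W.2.isQuasiSeparated
    exact hqs U V hU U.1.isOpen U.2.isCompact hV V.1.isOpen V.2.isCompact
  · intro h
    refine Groth.Agent.H1.QSep.qs_of_cover f (fun W : S.affineOpens => W)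
      (iSup_affineOpens_eq_top S) fun W => ?_
    refine Groth.Agent.H1.QSep.qsSpace_of_affine_cover (f ⁻¹ᵁ (W : S.Opens))
      (fun V : {V : X.affineOpens // (V : X.Opens) ≤ f ⁻¹ᵁ (W : S.Opens)} => V.1)
      (Groth.Agent.H1.QSep.iSup_affineOpens_le_eq _) fun V V' => ?_
    exact h V.1 V'.1 W V.2 V'.2

end Groth.Agent.S9508
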