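import Groth.Statements.S9511
import Mathlib

set_option autoImplicit false
universe u
open LRSImm

namespace Groth.Agent.S9511

open AlgebraicGeometry CategoryTheory TopologicalSpace Opposite in
set_option backward.isDefEq.respectTransparency false in
lemma isIso_toΓSpec_aux
    (X : LocallyRingedSpace.{u}) (U V : Opens X.toTopCat) (hUV : IsCompl U V)
    (A B : CommRingCat.{u})
    (eU : X.restrict U.isOpenEmbedding ≅ (Spec A).toLocallyRingedSpace)
    (eV : X.restrict V.isOpenEmbedding ≅ (Spec B).toLocallyRingedSpace) :
    IsIso X.toΓSpec := by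
  let X' : Scheme.{u} :=
    { toLocallyRingedSpace := X
      local_affine := fun x => by
        have hx : x ∈ U ⊔ V := by rw [hUV.sup_eq_top]; trivial
        rcases hx with hx | hx
        · exact ⟨⟨U, hx⟩, A, ⟨eU⟩⟩
        · exact ⟨⟨V, hx⟩, B, ⟨eV⟩⟩ }
  let U' : X'.Opens := U
  let V' : X'.Opens := V
  have hU : IsAffineOpen U' := by
    show IsAffine (U'.toScheme)
    let e : U'.toScheme ≅ Spec A :=
      Scheme.fullyFaithfulForgetToLocallyRingedSpace.preimageIso eU
    exact IsAffine.of_isIso e.hom
  have hV : IsAffineOpen V' := by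
    show IsAffine (V'.toScheme)
    let e : V'.toScheme ≅ Spec B :=
      Scheme.fullyFaithfulForgetToLocallyRingedSpace.preimageIso eV
    exact IsAffine.of_isIso e.hom
  have htop : IsAffineOpen (⨆ b : Bool, (if b then U' else V')) := by
    apply IsAffineOpen.iSup_of_disjoint
    · intro b; cases b <;> simp [hU, hV]
    · intro a b hab
      have hd : Disjoint U' V' := hUV.disjoint
      cases a <;> cases b <;> simp_all [Function.onFun, disjoint_comm]
  rw [iSup_bool_eq] at htop
  simp only [if_true, Bool.false_eq_true, if_false] at htop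
  have hsup : U' ⊔ V' = ⊤ := hUV.sup_eq_top
  rw [hsup] at htop
  have haff : IsAffine X' := by
    have : IsAffine ((⊤ : X'.Opens).toScheme) := htop
    exact IsAffine.of_isIso X'.topIso.inv
  have hiso : IsIso X'.toSpecΓ := haff.affine
  exact (inferInstance : IsIso (Scheme.forgetToLocallyRingedSpace.map X'.toSpecΓ))

open AlgebraicGeometry in
open CategoryTheory TopologicalSpace in
/-- Let X be a locally ringed space and U, V ⊆ X open with X = U ⊔ V (they cover X and are disjoint),
such that the open subspaces X|_U and X|_V are affine schemes. Then X is an affine scheme: the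
canonical morphism X → Spec Γ(X, O_X) is an isomorphism of locally ringed spaces. -/
theorem result
    (X : LocallyRingedSpace.{u}) (U V : Opens X.toTopCat) (hUV : IsCompl U V)
    (A B : CommRingCat.{u})
    (eU : X.restrict U.isOpenEmbedding ≅ (Spec A).toLocallyRingedSpace)
    (eV : X.restrict V.isOpenEmbedding ≅ (Spec B).toLocallyRingedSpace) :
    IsIso X.toΓSpec := by
  exact isIso_toΓSpec_aux X U V hUV A B eU eV

end Groth.Agent.S9511
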