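import Groth.Statements.S9544
import Groth.Agent.Lib.Helper2.PFAnnA
import Groth.Agent.Lib.Helper2.PFAnnB
import Groth.Agent.Lib.Helper2.NFDepthC
import Groth.Agent.S9543

set_option autoImplicit false
universe u
open CategoryTheory
attribute [local instance] HasDerivedCategory.standard
open Formal2

namespace Groth.Agent.S9544

open AlgebraicGeometry Opposite in
/-- Let A be a Noetherian ring with a dualizing complex, f an element of an ideal 𝔞 with A complete for
the f-adic topology, U = Spec A ∖ V(𝔞), and assume depth A_𝔭 + dim (A/𝔭)_𝔮 > 2 for every prime 𝔭 not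
containing f and every prime 𝔮 ⊇ 𝔭 + 𝔞. Then the completion functor for the ideal (f) is fully
faithful on finite locally free O_U-modules. -/
theorem result (A : Type u) [CommRing A]
    [IsNoetherianRing A] (𝔞 : Ideal A) (f : A) (hf : f ∈ 𝔞) [IsAdicComplete (Ideal.span {f}) A]
    (hω : ∃ ω : Dual.D A, Dual.IsDualizing A ω)
    (h₂ : ∀ (p : Ideal A) [p.IsPrime], f ∉ p → ∀ (q : Ideal A) [q.IsPrime], p ≤ q → 𝔞 ≤ q →
      ((2 : ℕ) : WithBot ℕ∞) < ((LocCoh.depth (Localization.AtPrime p) (Localization.AtPrime p) : ℕ∞) : WithBot ℕ∞) +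
        Formal2.dimBetween A p q) :
    ∀ (E E' : (↑(LocCoh.puncturedOpen A 𝔞) : Scheme.{u}).Modules), FlatMod.IsFinLocFree E → FlatMod.IsFinLocFree E' →
      ∀ ψ : Formal.completion (Ideal.span {f}) E ⟶ Formal.completion (Ideal.span {f}) E',
        ∃! φ : E ⟶ E', ∀ n : ℕ, Formal.modPowπ (Ideal.span {f}) (n + 1) E ≫ ψ.app (op n) = φ ≫ Formal.modPowπ (Ideal.span {f}) (n + 1) E' := by

  obtain ⟨n, hn⟩ := Groth.Agent.H2.PFAnn.exists_pow_kills A hω 𝔞 f A 2 (by
    intro p q hfp hq hpq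
    rw [Groth.Agent.H2.PFAnn.krullDim_Icc_eq_dimBetween p q,
      Groth.Agent.H6.AcycDepth.depth_congr (Groth.Agent.H2.NFDepth.selfEquiv p.asIdeal)]
    exact h₂ p.asIdeal hfp q.asIdeal hpq hq)
  exact Groth.Agent.S9543.result A 𝔞 f hf ⟨n, hn 1 (by norm_num)⟩ ⟨n, hn 2 le_rfl⟩

end Groth.Agent.S9544
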