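import Groth.Statements.S9557
import Mathlib
import Groth.Agent.Lib.Helper1.EtLocFinal
import Groth.Agent.Lib.Helper1.SchemeIso

set_option autoImplicit false
universe u
open EtLocal

namespace Groth.Agent.S9557

namespace H1.S9557aux

open AlgebraicGeometry CategoryTheory Limits
open Groth.Agent.H1

/-- A property local at the source holds on a union of opens. -/
theorem of_iSup {P : MorphismProperty Scheme.{u}} [IsZariskiLocalAtSource P] {X S : Scheme.{u}}
    (f : X ⟶ S) {ι : Type*} (Wi : ι → X.Opens) (h : ∀ i, P ((Wi i).ι ≫ f)) :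
    P ((⨆ i, Wi i).ι ≫ f) := by
  rw [IsZariskiLocalAtSource.iff_of_openCover (P := P) (Scheme.Opens.iSupOpenCover Wi)]
  intro i
  change P (X.homOfLE (le_iSup Wi i) ≫ (⨆ i, Wi i).ι ≫ f)
  rw [Scheme.homOfLE_ι_assoc]
  exact h i

set_option backward.isDefEq.respectTransparency false in
theorem main {X S : Scheme.{u}} (f : X ⟶ S) (s : S)
    {ι : Type} [Finite ι] (x : ι → ↑X) (hinj : Function.Injective x) (hs : ∀ i, f (x i) = s)
    (hx : ∀ i, ∃ W : X.Opens, x i ∈ W ∧ Etale (W.ι ≫ f)) :
    ∃ (U : Scheme.{u}) (g : U ⟶ S) (u : U), Etale g ∧ g u = s ∧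
      ∃ (K : Type) (_ : Finite K) (lab : K → ι) (V : K → (pullback f g).Opens),
        (∀ k, IsIso ((V k).ι ≫ pullback.snd f g)) ∧
        (∀ (k k' : K) (w : ↑(pullback f g)), w ∈ V k → w ∈ V k' → pullback.snd f g w = u → k = k') ∧
        (∀ (w : ↑(pullback f g)) (i : ι), pullback.snd f g w = u → pullback.fst f g w = x i →
          ∃ k, lab k = i ∧ w ∈ V k) := by
  choose Wi hxW het using hx
  let W : X.Opens := ⨆ i, Wi i
  have hxW' : ∀ i, x i ∈ W := fun i => TopologicalSpace.Opens.mem_iSup.mpr ⟨i, hxW i⟩
  haveI : Etale (W.ι ≫ f) := of_iSup (P := @Etale) f Wi het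
  haveI : LocallyOfFiniteType (W.ι ≫ f) := inferInstance
  haveI : FormallyUnramified (W.ι ≫ f) := inferInstance
  obtain ⟨U, g, u, hg, hgu, n, lab, V, h1, h2, h3⟩ :=
    EtLocFinal.nonsep_main (Q := MorphismProperty.isomorphisms Scheme.{u})
      (fun ψ V hψ => by
        rw [MorphismProperty.isomorphisms.iff] at hψ ⊢
        infer_instance) f s x hinj hs W hxW'
      (by
        intro U g V u v hfin hv huniq hres
        haveI := hfin
        haveI : Etale (pullback.snd (W.ι ≫ f) g) :=
          MorphismProperty.pullback_snd (P := @Etale) _ _ inferInstance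
        haveI : Etale (V.ι ≫ pullback.snd (W.ι ≫ f) g) :=
          MorphismProperty.comp_mem _ _ _ inferInstance inferInstance
        exact SchemeIso.exists_isIso _ u v hv huniq hres)
  exact ⟨U, g, u, hg, hgu, Fin n, inferInstance, lab, V, fun k => (h1 k).1, h2, h3⟩

end H1.S9557aux

open AlgebraicGeometry CategoryTheory Limits in
/-- Let f : X ⟶ S be any morphism of schemes, s a point of S and x_1, …, x_n pairwise distinct points of
X over s such that f is étale at each x_i (the restriction of f to some open neighbourhood of x_i is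
étale). Then there are an étale morphism g : U ⟶ S, a point u of U over s and finitely many opens
V_k of X_U = X ×_S U, each labelled by one of the x_i, such that (1) each V_k ⟶ U is an isomorphism,
(2) no point of X_U over u lies in two different V_k, and (3) every point of X_U over u mapping to
x_i lies in some V_k labelled by x_i. -/
theorem result {X S : Scheme.{u}} (f : X ⟶ S) (s : S)
    {ι : Type} [Finite ι] (x : ι → ↑X) (hinj : Function.Injective x) (hs : ∀ i, f (x i) = s)
    (hx : ∀ i, ∃ W : X.Opens, x i ∈ W ∧ Etale (W.ι ≫ f)) :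
    ∃ (U : Scheme.{u}) (g : U ⟶ S) (u : U), Etale g ∧ g u = s ∧
      ∃ (K : Type) (_ : Finite K) (lab : K → ι) (V : K → (pullback f g).Opens),
        (∀ k, IsIso ((V k).ι ≫ pullback.snd f g)) ∧
        (∀ (k k' : K) (w : ↑(pullback f g)), w ∈ V k → w ∈ V k' → pullback.snd f g w = u → k = k') ∧
        (∀ (w : ↑(pullback f g)) (i : ι), pullback.snd f g w = u → pullback.fst f g w = x i →
          ∃ k, lab k = i ∧ w ∈ V k) := by
  exact H1.S9557aux.main f s x hinj hs hx

end Groth.Agent.S9557
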