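import Groth.Statements.S9559
import Mathlib
import Groth.Agent.Lib.Helper1.EtSplit

set_option autoImplicit false
open CategoryTheory CategoryTheory.Limits AlgebraicGeometry Opposite
universe u
open EtLocal

namespace Groth.Agent.S9559

namespace H1.S9559aux
open TensorProduct Groth.Agent.H1.EtSplit

theorem main {X S : Scheme.{u}} (f : X ⟶ S) [IsFinite f] [Etale f] (s : S) :
    ∃ (U : Scheme.{u}) (g : U ⟶ S) (_ : AlgebraicGeometry.Etale g) (u : U) (_ : g.base u = s)
      (n : ℕ) (V : Fin n → Scheme.{u}) (c : ∀ j, V j ⟶ U) (_ : ∀ j, IsIso (c j))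
      (e : (∐ V) ≅ pullback f g), ∀ j, Sigma.ι V j ≫ e.hom ≫ pullback.snd f g = c j := by
  obtain ⟨_, ⟨U₀, hU₀, rfl⟩, hsU, -⟩ :=
    S.isBasis_affineOpens.exists_subset_of_mem_open (Set.mem_univ s) isOpen_univ
  let R := Γ(S, U₀)
  let j : Spec R ⟶ S := hU₀.fromSpec
  let P := pullback f j
  let p : P ⟶ Spec R := pullback.snd f j
  haveI : IsAffine P := isAffine_of_isAffineHom p
  let B := Γ(P, ⊤)
  let i : Spec B ≅ P := P.isoSpec.symm
  let φ : R ⟶ B := Spec.preimage (i.hom ≫ p)
  have hφ : Spec.map φ = i.hom ≫ p := Spec.map_preimage _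
  have hfin : φ.hom.Finite := by
    rw [← IsFinite.SpecMap_iff, hφ]
    infer_instance
  have het : φ.hom.Etale := by
    rw [← HasRingHomProperty.Spec_iff (P := @Etale), hφ]
    infer_instance
  algebraize [φ.hom]
  let p₀ : Ideal R := (hU₀.primeIdealOf ⟨s, hsU⟩).asIdeal
  obtain ⟨T, _, _, hTet, q, hq, hqp, hsplit⟩ := exists_etale_split R B p₀
  let ψ : R ⟶ CommRingCat.of T := CommRingCat.ofHom (algebraMap R T)
  let h : Spec (CommRingCat.of T) ⟶ Spec R := Spec.map ψ
  haveI : Etale h := by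
    rw [HasRingHomProperty.Spec_iff (P := @Etale)]
    exact RingHom.etale_algebraMap.mpr hTet
  let u : Spec (CommRingCat.of T) := ⟨q, hq⟩
  have hu : (h ≫ j) u = s := by
    have h1 : h u = hU₀.primeIdealOf ⟨s, hsU⟩ := PrimeSpectrum.ext hqp
    rw [Scheme.Hom.comp_apply, h1]
    exact hU₀.fromSpec_primeIdealOf ⟨s, hsU⟩
  obtain ⟨n, e, he⟩ := exists_sigma_iso_pullback R B T
  -- the pullback square
  have sq1 : IsPullback (i.hom ≫ pullback.fst f j) (Spec.map φ) f j := by
    have h0 : IsPullback i.hom (i.hom ≫ p) p (𝟙 _) := IsPullback.of_horiz_isIso ⟨by simp⟩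
    have := h0.paste_horiz (IsPullback.of_hasPullback f j)
    rw [hφ]
    simpa using this
  have sq2 := (IsPullback.of_hasPullback (Spec.map φ) h).paste_horiz sq1
  haveI : IsOpenImmersion j := hU₀.isOpenImmersion_fromSpec
  haveI : Etale (h ≫ j) := inferInstance
  refine ⟨Spec (CommRingCat.of T), h ≫ j, inferInstance, u, hu, n, fun _ => Spec (CommRingCat.of T),
    fun _ => 𝟙 _, fun _ => inferInstance, e ≪≫ sq2.isoPullback, fun k => ?_⟩
  simp only [Iso.trans_hom, Category.assoc, IsPullback.isoPullback_hom_snd]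
  exact he k

end H1.S9559aux

/-- A finite étale morphism f : X ⟶ S becomes, after base change to a suitable étale neighbourhood (U,
u) of any point s of S, a finite disjoint union of copies of U: X_U is isomorphic over U to a finite
coproduct of schemes V_j each of which maps isomorphically onto U. -/
theorem result {X S : Scheme.{u}} (f : X ⟶ S) [IsFinite f] [Etale f] (s : S) :
    ∃ (U : Scheme.{u}) (g : U ⟶ S) (_ : AlgebraicGeometry.Etale g) (u : U) (_ : g.base u = s)
      (n : ℕ) (V : Fin n → Scheme.{u}) (c : ∀ j, V j ⟶ U) (_ : ∀ j, IsIso (c j))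
      (e : (∐ V) ≅ pullback f g), ∀ j, Sigma.ι V j ≫ e.hom ≫ pullback.snd f g = c j := by
  exact H1.S9559aux.main f s

end Groth.Agent.S9559
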