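import Groth.Statements.S9560
import Mathlib

set_option autoImplicit false
universe u
open EtLocal

namespace Groth.Agent.S9560

namespace H1.S9560aux
open TensorProduct IsLocalRing

/-- Local criterion: flat + unramified + essentially of finite presentation implies formally étale,
for local homomorphisms of local rings. -/
theorem formallyEtale_of_flat_of_formallyUnramified (R S P : Type*) [CommRing R] [CommRing S]
    [Algebra R S] [Module.Flat R S] [CommRing P] [Algebra R P] [Algebra P S] [IsScalarTower R P S]
    [IsLocalRing R] [IsLocalRing S] [IsLocalHom (algebraMap R S)]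
    [Algebra.FormallyUnramified R S] [Algebra.EssFiniteType R S]
    (M : Submonoid P) [IsLocalization M S] [Algebra.FinitePresentation R P] :
    Algebra.FormallyEtale R S := by
  haveI : Algebra.FormallyEtale (ResidueField R) (ResidueField R ⊗[R] S) :=
    Algebra.FormallyEtale.of_formallyUnramified_of_field _ _
  haveI : Algebra.FormallySmooth R S :=
    Algebra.FormallySmooth.of_formallySmooth_residueField_tensor (R := R) (S := S) (P := P) M
  exact Algebra.FormallyEtale.iff_formallyUnramified_and_formallySmooth.mpr ⟨inferInstance, inferInstance⟩

theorem flat_atPrime_of_flat_away {A B : Type*} [CommRing A] [CommRing B] [Algebra A B]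
    (q : Ideal B) [q.IsPrime] (g : B) (hg : g ∉ q) [Module.Flat A (Localization.Away g)] :
    Module.Flat A (Localization.AtPrime q) := by
  have hu : IsUnit (algebraMap B (Localization.AtPrime q) g) :=
    IsLocalization.map_units (Localization.AtPrime q) (⟨g, hg⟩ : q.primeCompl)
  let φ : Localization.Away g →+* Localization.AtPrime q := IsLocalization.Away.lift g hu
  letI : Algebra (Localization.Away g) (Localization.AtPrime q) := φ.toAlgebra
  haveI : IsScalarTower B (Localization.Away g) (Localization.AtPrime q) :=
    IsScalarTower.of_algebraMap_eq (fun x => (IsLocalization.Away.lift_eq g hu x).symm)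
  haveI : IsScalarTower A (Localization.Away g) (Localization.AtPrime q) :=
    IsScalarTower.of_algebraMap_eq (fun x => by
      rw [IsScalarTower.algebraMap_apply A B (Localization.AtPrime q),
        IsScalarTower.algebraMap_apply A B (Localization.Away g),
        ← IsScalarTower.algebraMap_apply B (Localization.Away g) (Localization.AtPrime q)])
  have hle : Submonoid.powers g ≤ q.primeCompl := by
    rintro _ ⟨n, rfl⟩
    exact fun h => hg (Ideal.IsPrime.mem_of_pow_mem ‹_› n h)
  haveI := IsLocalization.isLocalization_of_submonoid_le (Localization.Away g)
    (Localization.AtPrime q) (Submonoid.powers g) q.primeCompl hle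
  haveI : Module.Flat (Localization.Away g) (Localization.AtPrime q) :=
    IsLocalization.flat _ (q.primeCompl.map (algebraMap B (Localization.Away g)))
  exact Module.Flat.trans A (Localization.Away g) _

open Algebra in
theorem main (A B : Type u) [CommRing A] [CommRing B]
    [Algebra A B] [IsNoetherianRing A] [Algebra.FiniteType A B]
    (p : Ideal A) [p.IsPrime] (q : Ideal B) [q.IsPrime] [q.LiesOver p]
    [Algebra (Localization.AtPrime p) (Localization.AtPrime q)]
    [Localization.AtPrime.IsLiesOverAlgebra p q] :
    Algebra.IsEtaleAt A q ↔
      Module.Flat (Localization.AtPrime p) (Localization.AtPrime q) ∧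
        p.map (algebraMap A (Localization.AtPrime q)) = IsLocalRing.maximalIdeal (Localization.AtPrime q) ∧
        Module.Finite p.ResidueField q.ResidueField ∧
        Algebra.IsSeparable p.ResidueField q.ResidueField := by
  haveI : Algebra.FinitePresentation A B := Algebra.FinitePresentation.of_finiteType.mp inferInstance
  constructor
  · intro h
    haveI : Algebra.IsEtaleAt A q := h
    haveI : Algebra.IsUnramifiedAt A q := inferInstanceAs (Algebra.FormallyUnramified A _)
    obtain ⟨hsep, hmap⟩ := (Algebra.isUnramifiedAt_iff_map_eq A p q).mp inferInstance
    refine ⟨?_, hmap, inferInstance, hsep⟩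
    obtain ⟨g, hg, hét⟩ := Algebra.exists_etale_of_isEtaleAt (R := A) q
    haveI : Algebra.Smooth A (Localization.Away g) := ⟨inferInstance, inferInstance⟩
    haveI : Module.Flat A (Localization.Away g) := Algebra.Smooth.flat A _
    haveI : Module.Flat A (Localization.AtPrime q) := flat_atPrime_of_flat_away q g hg
    exact (Module.flat_iff_of_isLocalization (Localization.AtPrime p) p.primeCompl _).mpr inferInstance
  · rintro ⟨hflat, hmap, hfin, hsep⟩
    haveI : Algebra.IsUnramifiedAt A q := (Algebra.isUnramifiedAt_iff_map_eq A p q).mpr ⟨hsep, hmap⟩
    haveI : Algebra.EssFiniteType (Localization.AtPrime p) (Localization.AtPrime q) :=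
      .of_comp A _ _
    haveI : Algebra.FormallyUnramified (Localization.AtPrime p) (Localization.AtPrime q) :=
      .of_restrictScalars A _ _
    haveI : IsLocalHom (algebraMap (Localization.AtPrime p) (Localization.AtPrime q)) := by
      rw [Localization.AtPrime.IsLiesOverAlgebra.algebraMap_eq]
      exact Localization.isLocalHom_localRingHom p q (algebraMap A B) Ideal.LiesOver.over
    let Rp := Localization.AtPrime p
    let Sp := Localization (algebraMapSubmonoid B p.primeCompl)
    let Sq := Localization.AtPrime q
    let f : Sp →ₐ[B] Sq := IsLocalization.liftAlgHom (M := algebraMapSubmonoid B p.primeCompl)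
          (f := Algebra.ofId _ _) (by
        rintro ⟨_, x, hx, rfl⟩
        simpa using! IsLocalization.map_units (M := q.primeCompl) Sq ⟨algebraMap _ _ x,
          by simp_all [q.over_def p]⟩)
    algebraize [f.toRingHom]
    have : IsScalarTower A Sp Sq := .to₁₃₄ _ B _ _
    have : IsScalarTower Rp Sp Sq := .of_algebraMap_eq' <| by
      apply IsLocalization.ringHom_ext p.primeCompl
      simp only [RingHom.comp_assoc, ← IsScalarTower.algebraMap_eq]
    have : IsLocalization (algebraMapSubmonoid Sp q.primeCompl) Sq :=
      .isLocalization_of_submonoid_le _ _ (algebraMapSubmonoid B p.primeCompl) _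
      (by rintro _ ⟨x, hx, rfl⟩; simp_all [q.over_def p])
    have : FinitePresentation Rp Sp := by
      have : Algebra.IsPushout A Rp B Sp :=
        .symm <| Algebra.isPushout_of_isLocalization p.primeCompl _ _ _
      exact .equiv (Algebra.IsPushout.equiv A Rp B Sp)
    haveI : Algebra.FormallyEtale Rp Sq :=
      formallyEtale_of_flat_of_formallyUnramified Rp Sq Sp (algebraMapSubmonoid _ q.primeCompl)
    exact Algebra.FormallyEtale.comp A Rp Sq

end H1.S9560aux

/-- Suppose A is a Noetherian ring and B is a finite-type A-algebra, and consider a prime q of B lying
over the prime p of A, where B_q carries its A_p-algebra structure. Then B is étale at q over A (the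
local ring B_q is formally étale over A) if and only if the local homomorphism A_p → B_q is étale,
which means three things: B_q is A_p-flat, the ideal p B_q equals the maximal ideal of B_q, and the
residue field of q is a finite separable extension of the residue field of p (that B_q is
essentially of finite type over A_p holds automatically). -/
theorem result (A B : Type u) [CommRing A] [CommRing B]
    [Algebra A B] [IsNoetherianRing A] [Algebra.FiniteType A B]
    (p : Ideal A) [p.IsPrime] (q : Ideal B) [q.IsPrime] [q.LiesOver p]
    [Algebra (Localization.AtPrime p) (Localization.AtPrime q)]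
    [Localization.AtPrime.IsLiesOverAlgebra p q] :
    Algebra.IsEtaleAt A q ↔
      Module.Flat (Localization.AtPrime p) (Localization.AtPrime q) ∧
        p.map (algebraMap A (Localization.AtPrime q)) = IsLocalRing.maximalIdeal (Localization.AtPrime q) ∧
        Module.Finite p.ResidueField q.ResidueField ∧
        Algebra.IsSeparable p.ResidueField q.ResidueField := by
  exact H1.S9560aux.main A B p q

end Groth.Agent.S9560
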