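import Groth.Statements.S9568
import Mathlib

set_option autoImplicit false
universe u
open EtLocal

namespace Groth.Agent.S9568

namespace H1.S9568aux
open KaehlerDifferential

theorem ker_map_le (R A B : Type*) [CommRing R] [CommRing A] [CommRing B] [Algebra R A]
    [Algebra A B] [Algebra R B] [IsScalarTower R A B]
    (h : Function.Surjective (algebraMap A B)) :
    LinearMap.ker (KaehlerDifferential.map R R A B) ≤
      Submodule.span A ((KaehlerDifferential.D R A) '' (RingHom.ker (algebraMap A B) : Set A)) := by
  classical
  rw [KaehlerDifferential.ker_map_of_surjective R A B h]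
  rintro _ ⟨x, hx, rfl⟩
  rw [Finsupp.linearCombination_apply, Finsupp.sum,
    ← Finset.sum_fiberwise_of_maps_to (fun _ ↦ Finset.mem_image_of_mem (algebraMap A B))]
  apply sum_mem
  intro c _
  have hker : ∑ i ∈ x.support with algebraMap A B i = c, x i ∈ RingHom.ker (algebraMap A B) := by
    simpa [Finsupp.mapDomain, Finsupp.sum, Finsupp.finsetSum_apply, RingHom.mem_ker,
      Finsupp.single_apply, ← Finset.sum_filter] using DFunLike.congr_fun hx c
  obtain ⟨a, ha⟩ := h c
  have heq : ∑ i ∈ x.support with algebraMap A B i = c, x i • D R A i =
      ∑ i ∈ x.support with algebraMap A B i = c, x i • D R A (i - a) +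
        (∑ i ∈ x.support with algebraMap A B i = c, x i) • D R A a := by
    rw [Finset.sum_smul, ← Finset.sum_add_distrib]
    refine Finset.sum_congr rfl fun i _ ↦ ?_
    rw [map_sub, smul_sub, sub_add_cancel]
  rw [heq]
  apply add_mem
  · refine sum_mem fun i hi ↦ Submodule.smul_mem _ _ (Submodule.subset_span ⟨i - a, ?_, rfl⟩)
    simp [RingHom.mem_ker, ha, (Finset.mem_filter.mp hi).2]
  · set g := ∑ i ∈ x.support with algebraMap A B i = c, x i with hg
    have : g • D R A a = D R A (g * a) - a • D R A g := by
      rw [Derivation.leibniz]; abel
    rw [this]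
    refine sub_mem (Submodule.subset_span ⟨g * a, Ideal.mul_mem_right _ _ hker, rfl⟩)
      (Submodule.smul_mem _ _ (Submodule.subset_span ⟨g, hker, rfl⟩))

theorem main {A B : Type u} [CommRing A] [CommRing B]
    [Algebra A B] (n : ℕ) (φ : MvPolynomial (Fin n) A →ₐ[A] B) (hφ : Function.Surjective φ)
    (q : Ideal B) [q.IsPrime] :
    Subsingleton (LocalizedModule q.primeCompl (KaehlerDifferential A B)) ↔
      Submodule.span (Localization.AtPrime (q.comap φ.toRingHom))
        ((LocalizedModule.mkLinearMap (q.comap φ.toRingHom).primeCompl
            (KaehlerDifferential A (MvPolynomial (Fin n) A))) ''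
          ((KaehlerDifferential.D A (MvPolynomial (Fin n) A)) '' (RingHom.ker φ.toRingHom : Set (MvPolynomial (Fin n) A)))) = ⊤ := by
  letI : Algebra (MvPolynomial (Fin n) A) B := φ.toRingHom.toAlgebra
  haveI : IsScalarTower A (MvPolynomial (Fin n) A) B := IsScalarTower.of_algebraMap_eq fun x ↦ by
    simp [RingHom.algebraMap_toAlgebra]
  have hsurj : Function.Surjective (algebraMap (MvPolynomial (Fin n) A) B) := hφ
  set P := MvPolynomial (Fin n) A
  set 𝔮 := q.comap φ.toRingHom
  have hmapsurj := KaehlerDifferential.map_surjective_of_surjective A A P B hsurj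
  have hkerle := ker_map_le A P B hsurj
  have hker : RingHom.ker φ.toRingHom = RingHom.ker (algebraMap P B) := rfl
  rw [← Submodule.localized'_span (Localization.AtPrime 𝔮) 𝔮.primeCompl
    (LocalizedModule.mkLinearMap 𝔮.primeCompl _), hker, LocalizedModule.subsingleton_iff]
  constructor
  · intro H
    rw [eq_top_iff]
    rintro x -
    induction x using LocalizedModule.induction_on with
    | h m s =>
      obtain ⟨t, ht, htm⟩ := H (KaehlerDifferential.map A A P B m)
      obtain ⟨s', rfl⟩ := hφ t
      have hs' : s' ∈ 𝔮.primeCompl := ht
      have hmem : s' • m ∈ Submodule.span P ((D A P) '' (RingHom.ker (algebraMap P B) : Set P)) := by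
        apply hkerle
        rw [LinearMap.mem_ker, map_smul]
        exact htm
      rw [Submodule.mem_localized']
      refine ⟨s' • m, hmem, ⟨s', hs'⟩ * s, ?_⟩
      rw [← IsLocalizedModule.mk_eq_mk', LocalizedModule.mk_eq]
      refine ⟨1, ?_⟩
      simp only [one_smul, Submonoid.smul_def, Submonoid.coe_mul, mul_smul]
      rw [smul_comm]
  · intro H m
    obtain ⟨m, rfl⟩ := hmapsurj m
    have hm : LocalizedModule.mkLinearMap 𝔮.primeCompl _ m ∈
        (⊤ : Submodule (Localization.AtPrime 𝔮) (LocalizedModule 𝔮.primeCompl (Ω[P⁄A]))) := trivial
    rw [← H, Submodule.mem_localized'] at hm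
    obtain ⟨m', hm', s, hs⟩ := hm
    rw [← IsLocalizedModule.mk_eq_mk', LocalizedModule.mkLinearMap_apply, LocalizedModule.mk_eq] at hs
    obtain ⟨u, hu⟩ := hs
    refine ⟨φ (u * s), ?_, ?_⟩
    · exact (u * s).2
    · have h0 : KaehlerDifferential.map A A P B m' = 0 := by
        have : Submodule.span P ((D A P) '' (RingHom.ker (algebraMap P B) : Set P)) ≤
            LinearMap.ker (KaehlerDifferential.map A A P B) := by
          rw [Submodule.span_le]
          rintro _ ⟨g, hg, rfl⟩
          simp only [SetLike.mem_coe, LinearMap.mem_ker, KaehlerDifferential.map_D]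
          rw [RingHom.mem_ker.mp hg, map_zero]
        exact this hm'
      have h1 := congr(KaehlerDifferential.map A A P B $hu)
      simp only [one_smul, Submonoid.smul_def, map_smul, h0, smul_zero] at h1
      show (algebraMap P B (u * s : P)) • _ = 0
      rw [algebraMap_smul, mul_smul]
      exact h1.symm

end H1.S9568aux

/-- Let A be a ring, φ a surjection from the polynomial ring P = A[x_1, …, x_n] onto an A-algebra B with
kernel I, q a prime of B and 𝔮 its preimage in P. Then the localization at q of the module of
differentials Ω_{B/A} vanishes if and only if the images of the differentials dg, g ∈ I, span the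
localization of Ω_{P/A} at 𝔮 over P_𝔮. (Geometrically: for f locally of finite type, the stalk of
Ω_{X/Y} at x vanishes iff near x the scheme X is a closed subscheme of an affine space over the base
cut out by an ideal whose germs at the point have differentials generating the stalk of Ω of the
affine space; the published statement also lists the equivalence with f being unramified at x and
with the diagonal being a local isomorphism at x, which this row does not restate. The published
statement asks for one such presentation near the point; this row states the equivalence for every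
presentation, which is what the published proof shows and which implies the existential form.) -/
theorem result {A B : Type u} [CommRing A] [CommRing B]
    [Algebra A B] (n : ℕ) (φ : MvPolynomial (Fin n) A →ₐ[A] B) (hφ : Function.Surjective φ)
    (q : Ideal B) [q.IsPrime] :
    Subsingleton (LocalizedModule q.primeCompl (KaehlerDifferential A B)) ↔
      Submodule.span (Localization.AtPrime (q.comap φ.toRingHom))
        ((LocalizedModule.mkLinearMap (q.comap φ.toRingHom).primeCompl
            (KaehlerDifferential A (MvPolynomial (Fin n) A))) ''
          ((KaehlerDifferential.D A (MvPolynomial (Fin n) A)) '' (RingHom.ker φ.toRingHom : Set (MvPolynomial (Fin n) A)))) = ⊤ := by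
  exact H1.S9568aux.main n φ hφ q

end Groth.Agent.S9568
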