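import Groth.Statements.S9596
import Mathlib

set_option autoImplicit false
universe u
open CAlg

namespace Groth.Agent.S9596

/-- For a Noetherian ring R and any R-module M, a prime which is minimal among the primes in the support
of M is an associated prime of M. -/
theorem result {R : Type u} [CommRing R] [IsNoetherianRing R] (M : Type u) [AddCommGroup M] [Module R M] (p : PrimeSpectrum R) (hp : Minimal (fun q : PrimeSpectrum R => q ∈ Module.support R M) p) :
    p.asIdeal ∈ associatedPrimes R M := by
  have prime := p.2
  let Rₚ := Localization.AtPrime p.asIdeal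
  have : Nontrivial (LocalizedModule p.asIdeal.primeCompl M) := by
    have : p ∈ Module.support R M := hp.1
    rwa [Module.mem_support_iff] at this
  rcases associatedPrimes.nonempty Rₚ (LocalizedModule p.asIdeal.primeCompl M) with ⟨q, hq⟩
  have q_prime : q.IsPrime := IsAssociatedPrime.isPrime hq
  simp only [← Module.associatedPrimes.preimage_comap_associatedPrimes_eq_associatedPrimes_of_isLocalizedModule p.asIdeal.primeCompl
    Rₚ (LocalizedModule.mkLinearMap p.asIdeal.primeCompl M), Set.mem_preimage] at hq
  have le : Ideal.comap (algebraMap R Rₚ) q ≤ p.asIdeal := by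
    have := (IsLocalization.disjoint_under_iff p.asIdeal.primeCompl Rₚ q).mpr q_prime.ne_top
    simpa only [Ideal.primeCompl, Submonoid.coe_set_mk, Subsemigroup.coe_set_mk,
      Set.disjoint_compl_left_iff_subset] using! this
  have hsupp : (⟨Ideal.comap (algebraMap R Rₚ) q, IsAssociatedPrime.isPrime hq⟩ : PrimeSpectrum R) ∈
      Module.support R M := by
    obtain ⟨hq1, x, hx⟩ := hq
    rw [Module.mem_support_iff_exists_annihilator]
    refine ⟨x, ?_⟩
    simp only
    rw [hx]
    intro r hr
    apply Ideal.le_radical
    rw [Submodule.mem_colon_singleton, Submodule.mem_bot]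
    exact (Submodule.mem_annihilator_span_singleton x r).mp hr
  have := hp.2 hsupp le
  have e : Ideal.comap (algebraMap R Rₚ) q = p.asIdeal := le_antisymm le this
  rw [← e]
  exact hq

end Groth.Agent.S9596
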