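import Groth.Statements.S9597
import Mathlib

set_option autoImplicit false
universe u
open CAlg

namespace Groth.Agent.S9597

theorem comap_mem_associatedPrimes {R : Type u} [CommRing R] [IsNoetherianRing R] (M : Type u)
    [AddCommGroup M] [Module R M] [Module.Finite R M]
    (p : Ideal (R ⧸ Module.annihilator R M))
    (hp : p ∈ associatedPrimes (R ⧸ Module.annihilator R M) (R ⧸ Module.annihilator R M)) :
    p.comap (Ideal.Quotient.mk (Module.annihilator R M)) ∈ associatedPrimes R M := by
  classical
  obtain ⟨hpp, x, hx⟩ := (isAssociatedPrime_iff (R := R ⧸ Module.annihilator R M)).mp hp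
  obtain ⟨r, rfl⟩ := Ideal.Quotient.mk_surjective x
  obtain ⟨s, hs⟩ := (Module.Finite.fg_top : (⊤ : Submodule R M).FG)
  have hP : p.comap (Ideal.Quotient.mk (Module.annihilator R M)) =
      s.inf (fun g ↦ (⊥ : Submodule R M).colon {r • g}) := by
    ext a
    rw [Ideal.mem_comap, hx, Submodule.mem_colon_singleton, Submodule.mem_bot, smul_eq_mul,
      ← map_mul, Ideal.Quotient.eq_zero_iff_mem, Module.mem_annihilator, Submodule.mem_finsetInf]
    constructor
    · intro h g _
      rw [Submodule.mem_colon_singleton, Submodule.mem_bot, ← mul_smul]
      exact h g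
    · intro h m
      have hm : m ∈ Submodule.span R (s : Set M) := hs ▸ Submodule.mem_top
      induction hm using Submodule.span_induction with
      | mem g hg =>
        have := h g hg
        rwa [Submodule.mem_colon_singleton, Submodule.mem_bot, ← mul_smul] at this
      | zero => rw [smul_zero]
      | add x y _ _ hx hy => rw [smul_add, hx, hy, add_zero]
      | smul c x _ hx => rw [smul_comm, hx, smul_zero]
  have hprime : (p.comap (Ideal.Quotient.mk (Module.annihilator R M))).IsPrime :=
    Ideal.IsPrime.comap _
  obtain ⟨g, hg, hle⟩ := (Ideal.IsPrime.inf_le' hprime).mp hP.ge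
  have heq : p.comap (Ideal.Quotient.mk (Module.annihilator R M)) =
      (⊥ : Submodule R M).colon {r • g} := by
    apply le_antisymm _ hle
    rw [hP]
    exact Finset.inf_le hg
  exact (isAssociatedPrime_iff (R := R)).mpr ⟨hprime, r • g, heq⟩


/-- Let R be a Noetherian ring, M a finite R-module whose associated primes are pairwise incomparable
under inclusion (M has no embedded associated primes), and I the annihilator of M. Then the
associated primes of R/I, viewed as a module over itself, are again pairwise incomparable: R/I has
no embedded primes either. -/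
theorem result {R : Type u} [CommRing R] [IsNoetherianRing R] (M : Type u) [AddCommGroup M] [Module R M] [Module.Finite R M] (hM : ∀ p ∈ associatedPrimes R M, ∀ q ∈ associatedPrimes R M, p ≤ q → p = q) :
    ∀ p ∈ associatedPrimes (R ⧸ Module.annihilator R M) (R ⧸ Module.annihilator R M), ∀ q ∈ associatedPrimes (R ⧸ Module.annihilator R M) (R ⧸ Module.annihilator R M), p ≤ q → p = q := by
  intro p hp q hq hpq
  have h1 := comap_mem_associatedPrimes M p hp
  have h2 := comap_mem_associatedPrimes M q hq
  have h3 := hM _ h1 _ h2 (Ideal.comap_mono hpq)
  exact Ideal.comap_injective_of_surjective _ Ideal.Quotient.mk_surjective h3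

end Groth.Agent.S9597
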