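import Groth.Statements.S9598
import Mathlib

set_option autoImplicit false
universe u
open CAlg

namespace Groth.Agent.S9598

/-- For a field k and a finite type k-algebra S with dim S > 0, some element of S is a nonzerodivisor
and a nonunit. -/
theorem result {k S : Type u} [Field k] [CommRing S] [Algebra k S] [Algebra.FiniteType k S] (hdim : 0 < ringKrullDim S) :
    ∃ f : S, f ∈ nonZeroDivisors S ∧ ¬ IsUnit f := by
  classical
  have hN : IsNoetherianRing S := Algebra.FiniteType.isNoetherianRing k S
  have hJ : IsJacobsonRing S := isJacobsonRing_of_finiteType (A := k)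
  -- a non-maximal prime
  have hex : ∃ p0 : Ideal S, p0.IsPrime ∧ ¬ p0.IsMaximal := by
    by_contra hcon
    push Not at hcon
    have : Ring.KrullDimLE 0 S := Ring.krullDimLE_zero_iff.mpr hcon
    have h2 : ringKrullDim S ≤ 0 := Ring.krullDimLE_iff.mp this
    exact absurd hdim (not_lt.mpr h2)
  obtain ⟨p0, hp0, hp0m⟩ := hex
  by_contra hcon
  push Not at hcon
  have hfin : (associatedPrimes S S).Finite := associatedPrimes.finite S S
  -- every maximal ideal is an associated prime
  have hmax : ∀ m : Ideal S, m.IsMaximal → m ∈ associatedPrimes S S := by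
    intro m hm
    have hsub : (m : Set S) ⊆ ⋃ p ∈ associatedPrimes S S, (p : Set S) := by
      intro x hx
      rw [biUnion_associatedPrimes_eq_compl_nonZeroDivisors]
      intro hx'
      have := hcon x hx'
      exact hm.ne_top (Ideal.eq_top_of_isUnit_mem _ hx this)
    rw [← hfin.coe_toFinset] at hsub
    have := (Ideal.subset_union_prime (s := hfin.toFinset) (f := fun p ↦ p) ⊥ ⊥
      (fun p hp _ _ ↦ by
        rw [Set.Finite.mem_toFinset] at hp
        exact hp.isPrime)).mp (by simpa using hsub)
    obtain ⟨q, hq, hmq⟩ := this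
    rw [Set.Finite.mem_toFinset] at hq
    have : m = q := hm.eq_of_le hq.isPrime.ne_top hmq
    exact this ▸ hq
  -- p0 is the intersection of the finitely many maximal ideals containing it
  have hj : p0.jacobson = p0 := IsJacobsonRing.out' _ hp0.isRadical
  let F : Finset (Ideal S) := hfin.toFinset.filter (fun m ↦ p0 ≤ m ∧ m.IsMaximal)
  have key : F.inf id ≤ p0 := by
    intro x hx
    rw [← hj, Ideal.jacobson, Ideal.mem_sInf]
    rintro m ⟨hpm, hm⟩
    rw [Submodule.mem_finsetInf] at hx
    exact hx m (by
      rw [Finset.mem_filter, Set.Finite.mem_toFinset]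
      exact ⟨hmax m hm, hpm, hm⟩)
  obtain ⟨m, hm, hmp⟩ := (Ideal.IsPrime.inf_le' hp0).mp key
  rw [Finset.mem_filter] at hm
  have : m = p0 := le_antisymm hmp hm.2.1
  exact hp0m (this ▸ hm.2.2)

end Groth.Agent.S9598
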