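import Groth.Statements.S9599
import Mathlib

set_option autoImplicit false
universe u
open CAlg

namespace Groth.Agent.S9599

open TensorProduct in
theorem reduceModIdeal_injective {R : Type u} [CommRing R] (J : Ideal R) {K M N : Type u}
    [AddCommGroup K] [Module R K] [AddCommGroup M] [Module R M] [AddCommGroup N] [Module R N]
    [Module.Flat R N] (i : K →ₗ[R] M) (g : M →ₗ[R] N) (hi : Function.Injective i)
    (hg : Function.Surjective g) (hig : Function.Exact i g) :
    Function.Injective (i.reduceModIdeal J) := by
  rw [injective_iff_map_eq_zero]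
  intro x hx
  obtain ⟨k, rfl⟩ := Submodule.Quotient.mk_surjective _ x
  rw [LinearMap.reduceModIdeal_apply] at hx
  have h1 : (1 : R ⧸ J) ⊗ₜ[R] i k = 0 := by
    rw [← TensorProduct.quotTensorEquivQuotSMul_symm_mk, hx, map_zero]
  have h2 : (i.lTensor (R ⧸ J)) ((1 : R ⧸ J) ⊗ₜ[R] k) = 0 := by
    rw [LinearMap.lTensor_tmul]; exact h1
  have h3 := LinearMap.lTensor_injective_of_exact_of_flat g hg i hi hig (R ⧸ J)
  have h4 : (1 : R ⧸ J) ⊗ₜ[R] k = 0 := h3 (by rw [h2, map_zero])
  rw [← TensorProduct.quotTensorEquivQuotSMul_mk_one_tmul, h4, map_zero]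

theorem reduceModIdeal_exact {R : Type u} [CommRing R] (J : Ideal R) {K M N : Type u}
    [AddCommGroup K] [Module R K] [AddCommGroup M] [Module R M] [AddCommGroup N] [Module R N]
    (i : K →ₗ[R] M) (g : M →ₗ[R] N)
    (hg : Function.Surjective g) (hig : Function.Exact i g) (y : M ⧸ (J • ⊤ : Submodule R M))
    (hy : g.reduceModIdeal J y = 0) : ∃ k, i.reduceModIdeal J k = y := by
  obtain ⟨m, rfl⟩ := Submodule.Quotient.mk_surjective _ y
  rw [LinearMap.reduceModIdeal_apply, Submodule.Quotient.mk_eq_zero] at hy
  have : (J • ⊤ : Submodule R N) = Submodule.map g (J • ⊤ : Submodule R M) := by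
    rw [Submodule.map_smul'', Submodule.map_top, LinearMap.range_eq_top.mpr hg]
  rw [this] at hy
  obtain ⟨m', hm', hmm'⟩ := hy
  have : g (m - m') = 0 := by rw [map_sub, hmm', sub_self]
  obtain ⟨k, hk⟩ := (hig _).mp this
  refine ⟨Submodule.Quotient.mk k, ?_⟩
  rw [LinearMap.reduceModIdeal_apply, hk, Submodule.Quotient.mk_sub, sub_eq_self,
    Submodule.Quotient.mk_eq_zero]
  exact hm'


/-- For a ring R, an ideal I of R and a short exact sequence 0 → K → M → N → 0 of R-modules with N flat
over R, the induced sequence of I-adic completions 0 → K^ → M^ → N^ → 0 is again short exact. -/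
theorem result {R : Type u} [CommRing R] (I : Ideal R) {K M N : Type u} [AddCommGroup K] [Module R K] [AddCommGroup M] [Module R M] [AddCommGroup N] [Module R N] [Module.Flat R N] (i : K →ₗ[R] M) (g : M →ₗ[R] N) (hi : Function.Injective i) (hg : Function.Surjective g) (hig : Function.Exact i g) :
    Function.Injective (AdicCompletion.map I i) ∧ Function.Exact (AdicCompletion.map I i) (AdicCompletion.map I g) ∧ Function.Surjective (AdicCompletion.map I g) := by
  have hinj : ∀ n, Function.Injective (i.reduceModIdeal (I ^ n)) := fun n ↦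
    reduceModIdeal_injective (I ^ n) i g hi hg hig
  refine ⟨?_, ?_, AdicCompletion.map_surjective I hg⟩
  · rw [injective_iff_map_eq_zero]
    intro x hx
    apply AdicCompletion.ext
    intro n
    have h1 : i.reduceModIdeal (I ^ n) (x.val n) = 0 := by
      rw [← AdicCompletion.map_val_apply, hx]; rfl
    change x.val n = 0
    apply hinj n
    rw [map_zero]
    exact h1
  · intro y
    constructor
    · intro hy
      have hy' : ∀ n, g.reduceModIdeal (I ^ n) (y.val n) = 0 := by
        intro n
        rw [← AdicCompletion.map_val_apply, hy]; rfl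
      choose k hk using fun n ↦ reduceModIdeal_exact (I ^ n) i g hg hig (y.val n) (hy' n)
      have hcompat : ∀ {m n : ℕ} (hmn : m ≤ n),
          AdicCompletion.transitionMap I K hmn (k n) = k m := by
        intro m n hmn
        apply hinj m
        have := LinearMap.congr_fun (AdicCompletion.transitionMap_comp_reduceModIdeal I i hmn) (k n)
        change AdicCompletion.transitionMap I M hmn (i.reduceModIdeal (I ^ n) (k n)) =
          i.reduceModIdeal (I ^ m) (AdicCompletion.transitionMap I K hmn (k n)) at this
        rw [← this, hk n, hk m]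
        exact y.2 hmn
      let x : AdicCompletion I K := ⟨k, hcompat⟩
      refine ⟨x, ?_⟩
      apply AdicCompletion.ext
      intro n
      exact (AdicCompletion.map_val_apply I i x).trans (hk n)
    · rintro ⟨x, rfl⟩
      rw [AdicCompletion.map_comp_apply, hig.linearMap_comp_eq_zero, AdicCompletion.map_zero]
      rfl

end Groth.Agent.S9599
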