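import Groth.Statements.S9600
import Mathlib

set_option autoImplicit false
universe u
open CAlg

namespace Groth.Agent.S9600

section
variable {R : Type u} [CommRing R] (I : Ideal R) {M N Q : Type u} [AddCommGroup M] [Module R M]
  [AddCommGroup N] [Module R N] [AddCommGroup Q] [Module R Q]

theorem pow_smul_top_eq_bot (c : ℕ) (hc : ∀ x ∈ I ^ c, ∀ q : Q, x • q = 0) (n : ℕ) (hn : c ≤ n) :
    (I ^ n • ⊤ : Submodule R Q) = ⊥ := by
  rw [eq_bot_iff, Submodule.smul_le]
  intro a ha q _
  rw [Submodule.mem_bot]
  exact hc a (Ideal.pow_le_pow_right hn ha) q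

theorem artinRees_aux (i : M →ₗ[R] N) (g : N →ₗ[R] Q) (hi : Function.Injective i)
    (hig : Function.Exact i g) (c : ℕ) (hc : ∀ x ∈ I ^ c, ∀ q : Q, x • q = 0) (n : ℕ) (m : M)
    (hm : i m ∈ (I ^ (n + c) • ⊤ : Submodule R N)) : m ∈ (I ^ n • ⊤ : Submodule R M) := by
  have h1 : (I ^ c • ⊤ : Submodule R N) ≤ LinearMap.range i := by
    rw [Submodule.smul_le]
    intro a ha ν _
    rw [LinearMap.mem_range]
    apply (hig _).mp
    rw [map_smul]
    exact hc a ha _
  have h2 : (I ^ (n + c) • ⊤ : Submodule R N) ≤ Submodule.map i (I ^ n • ⊤ : Submodule R M) := by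
    rw [pow_add, mul_smul, Submodule.map_smul'', Submodule.map_top]
    exact Submodule.smul_mono le_rfl h1
  obtain ⟨m', hm', hmm'⟩ := h2 hm
  rwa [← hi hmm']
end


/-- Let R be a ring, I an ideal of R and 0 → M → N → Q → 0 a short exact sequence of R-modules in which
Q is killed by some power I^c of I. Then on I-adic completions the map M^ → N^ is injective, N^ → Q^
is surjective with kernel equal to the image of M^, and the canonical map Q → Q^ is bijective; so 0
→ M^ → N^ → Q → 0 is again short exact. -/
theorem result {R : Type u} [CommRing R] (I : Ideal R) {M N Q : Type u} [AddCommGroup M] [Module R M] [AddCommGroup N] [Module R N] [AddCommGroup Q] [Module R Q] (i : M →ₗ[R] N) (g : N →ₗ[R] Q) (hi : Function.Injective i) (hg : Function.Surjective g) (hig : Function.Exact i g) (c : ℕ) (hc : ∀ x ∈ I ^ c, ∀ q : Q, x • q = 0) :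
    Function.Injective (AdicCompletion.map I i) ∧ Function.Exact (AdicCompletion.map I i) (AdicCompletion.map I g) ∧ Function.Surjective (AdicCompletion.map I g) ∧ Function.Bijective (AdicCompletion.of I Q) := by
  have AR := artinRees_aux I i g hi hig c hc
  refine ⟨?_, ?_, AdicCompletion.map_surjective I hg, ?_, ?_⟩
  · rw [injective_iff_map_eq_zero]
    intro x hx
    apply AdicCompletion.ext
    intro n
    change x.val n = 0
    obtain ⟨m, hm⟩ := Submodule.Quotient.mk_surjective _ (x.val (n + c))
    have h1 : (AdicCompletion.map I i x).val (n + c) = 0 := by rw [hx]; rfl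
    rw [AdicCompletion.map_val_apply, ← hm, LinearMap.reduceModIdeal_apply,
      Submodule.Quotient.mk_eq_zero] at h1
    have h2 := AR n m h1
    rw [← x.2 (Nat.le_add_right n c), ← hm]
    change Submodule.Quotient.mk m = 0
    rwa [Submodule.Quotient.mk_eq_zero]
  · intro y
    constructor
    · intro hy
      choose ν hν using fun n ↦ Submodule.Quotient.mk_surjective _ (y.val n)
      have hgν : ∀ n, c ≤ n → g (ν n) = 0 := by
        intro n hn
        have h1 : (AdicCompletion.map I g y).val n = 0 := by rw [hy]; rfl
        rw [AdicCompletion.map_val_apply, ← hν n, LinearMap.reduceModIdeal_apply,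
          Submodule.Quotient.mk_eq_zero, pow_smul_top_eq_bot I c hc n hn, Submodule.mem_bot] at h1
        exact h1
      choose μ hμ using fun n ↦ (hig _).mp (hgν (n + c) (Nat.le_add_left c n))
      have hνcompat : ∀ {m n : ℕ} (hmn : m ≤ n), ν n - ν m ∈ (I ^ m • ⊤ : Submodule R N) := by
        intro m n hmn
        have := y.2 hmn
        rw [← hν n, ← hν m] at this
        change Submodule.Quotient.mk (ν n) = Submodule.Quotient.mk (ν m) at this
        rwa [Submodule.Quotient.eq] at this
      have hcompat : ∀ {m n : ℕ} (hmn : m ≤ n),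
          AdicCompletion.transitionMap I M hmn (Submodule.Quotient.mk (μ n)) =
            Submodule.Quotient.mk (μ m) := by
        intro m n hmn
        change Submodule.Quotient.mk (μ n) = Submodule.Quotient.mk (μ m)
        rw [Submodule.Quotient.eq]
        apply AR
        rw [map_sub, hμ, hμ]
        exact hνcompat (Nat.add_le_add_right hmn c)
      let x : AdicCompletion I M := ⟨fun n ↦ Submodule.Quotient.mk (μ n), hcompat⟩
      refine ⟨x, ?_⟩
      apply AdicCompletion.ext
      intro n
      rw [AdicCompletion.map_val_apply]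
      change i.reduceModIdeal (I ^ n) (Submodule.Quotient.mk (μ n)) = y.val n
      rw [LinearMap.reduceModIdeal_apply, hμ, ← hν n, Submodule.Quotient.eq]
      have := hνcompat (Nat.le_add_right n c)
      exact this
    · rintro ⟨x, rfl⟩
      rw [AdicCompletion.map_comp_apply, hig.linearMap_comp_eq_zero, AdicCompletion.map_zero]
      rfl
  · rw [AdicCompletion.of_injective_iff]
    refine ⟨fun x hx ↦ ?_⟩
    have := hx c
    rwa [SModEq.zero, pow_smul_top_eq_bot I c hc c le_rfl, Submodule.mem_bot] at this
  · rw [AdicCompletion.of_surjective_iff]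
    refine ⟨fun f hf ↦ ⟨f c, fun n ↦ ?_⟩⟩
    rcases le_total n c with h | h
    · exact hf h
    · have := hf h
      rw [pow_smul_top_eq_bot I c hc c le_rfl, SModEq.bot] at this
      rw [this]

end Groth.Agent.S9600
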