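import Groth.Statements.S9601
import Mathlib

set_option autoImplicit false
universe u
open CAlg

namespace Groth.Agent.S9601

open Submodule

section AC
variable {R : Type u} [CommRing R] (I : Ideal R) (M : Type u) [AddCommGroup M] [Module R M]

lemma ker_eval_succ_sup (m : ℕ) (x : AdicCompletion I M)
    (hx : x ∈ LinearMap.ker (AdicCompletion.eval I M m)) :
    ∃ z ∈ LinearMap.ker (AdicCompletion.eval I M (m + 1)),
      x - z ∈ (I ^ m • ⊤ : Submodule R (AdicCompletion I M)) := by
  obtain ⟨y', hy'⟩ := Submodule.mkQ_surjective _ (AdicCompletion.eval I M (m + 1) x)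
  have hy'm : y' ∈ (I ^ m • ⊤ : Submodule R M) := by
    have h1 : AdicCompletion.transitionMap I M (Nat.le_succ m) (x.val (m + 1)) = x.val m :=
      x.property (Nat.le_succ m)
    rw [LinearMap.mem_ker, AdicCompletion.eval_apply] at hx
    rw [AdicCompletion.eval_apply] at hy'
    rw [← hy', hx] at h1
    have h2 : AdicCompletion.transitionMap I M (Nat.le_succ m)
        (Submodule.mkQ (I ^ (m + 1) • ⊤ : Submodule R M) y') =
        Submodule.mkQ (I ^ m • ⊤ : Submodule R M) y' := rfl
    rw [h2, Submodule.mkQ_apply, Submodule.Quotient.mk_eq_zero] at h1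
    exact h1
  refine ⟨x - AdicCompletion.of I M y', ?_, ?_⟩
  · rw [LinearMap.mem_ker, map_sub, AdicCompletion.eval_of, hy', sub_self]
  · rw [sub_sub_cancel]
    have : (I ^ m • ⊤ : Submodule R M).map (AdicCompletion.of I M) ≤
        (I ^ m • ⊤ : Submodule R (AdicCompletion I M)) := by
      rw [Submodule.map_smul'']
      exact Submodule.smul_mono le_rfl le_top
    exact this (Submodule.mem_map_of_mem hy'm)

end AC

/-- For a ring R, an ideal I of R and an R-module M, let M^ be the I-adic completion and K_n the kernel
of the projection M^ → M/IⁿM. The completion M^ is I-adically complete exactly when K_n = Iⁿ M^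
holds for every n ≥ 1. -/
theorem result {R : Type u} [CommRing R] (I : Ideal R) (M : Type u) [AddCommGroup M] [Module R M] :
    IsAdicComplete I (AdicCompletion I M) ↔ ∀ n : ℕ, 1 ≤ n → LinearMap.ker (AdicCompletion.eval I M n) = I ^ n • (⊤ : Submodule R (AdicCompletion I M)) := by
  constructor
  · intro hc n _
    apply le_antisymm _ (AdicCompletion.pow_smul_top_le_ker_eval I n)
    intro x hx
    -- build the sequence
    choose! step hstep1 hstep2 using fun (m : ℕ) (z : AdicCompletion I M)
      (hz : z ∈ LinearMap.ker (AdicCompletion.eval I M m)) => ker_eval_succ_sup I M m z hz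
    let g : ℕ → AdicCompletion I M := fun k => Nat.rec x (fun k z => step (n + k) z) k
    have hg0 : g 0 = x := rfl
    have hgs : ∀ k, g (k + 1) = step (n + k) (g k) := fun k => rfl
    have hgk : ∀ k, g k ∈ LinearMap.ker (AdicCompletion.eval I M (n + k)) := by
      intro k
      induction k with
      | zero => exact hx
      | succ k ih => rw [hgs]; exact hstep1 (n + k) (g k) ih
    have hgd : ∀ k, g k - g (k + 1) ∈ (I ^ (n + k) • ⊤ : Submodule R (AdicCompletion I M)) :=
      fun k => by rw [hgs]; exact hstep2 (n + k) (g k) (hgk k)
    let f : ℕ → AdicCompletion I M := fun N => x - g (N - n)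
    have hfs : ∀ N, f N ≡ f (N + 1) [SMOD (I ^ N • ⊤ : Submodule R (AdicCompletion I M))] := by
      intro N
      rw [SModEq.sub_mem]
      by_cases hN : N < n
      · have h1 : N - n = 0 := by omega
        have h2 : N + 1 - n = 0 := by omega
        simp only [f, h1, h2, sub_self]
        exact zero_mem _
      · have h2 : N + 1 - n = (N - n) + 1 := by omega
        have h3 : n + (N - n) = N := by omega
        simp only [f, h2]
        have := hgd (N - n)
        rw [h3] at this
        have e : x - g (N - n) - (x - g (N - n + 1)) = -(g (N - n) - g (N - n + 1)) := by abel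
        rw [e]
        exact neg_mem this
    have hf : ∀ {m k : ℕ}, m ≤ k →
        f m ≡ f k [SMOD (I ^ m • ⊤ : Submodule R (AdicCompletion I M))] := by
      intro m k hmk
      induction k, hmk using Nat.le_induction with
      | base => exact SModEq.refl _
      | succ k hmk ih =>
        refine ih.trans ?_
        exact (hfs k).mono (Submodule.smul_mono (Ideal.pow_le_pow_right hmk) le_rfl)
    obtain ⟨L, hL⟩ := hc.toIsPrecomplete.prec hf
    -- x = L
    have hxL : x = L := by
      apply AdicCompletion.ext
      intro N
      have h1 : f (n + N) - L ∈ (I ^ (n + N) • ⊤ : Submodule R (AdicCompletion I M)) :=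
        SModEq.sub_mem.mp (hL (n + N))
      have h2 := AdicCompletion.pow_smul_top_le_ker_eval I (n + N) h1
      have h3 : x - L = g N + (f (n + N) - L) := by
        simp only [f, Nat.add_sub_cancel_left]
        abel
      have h4 : x - L ∈ LinearMap.ker (AdicCompletion.eval I M (n + N)) := by
        rw [h3]
        exact add_mem (hgk N) h2
      rw [LinearMap.mem_ker, AdicCompletion.eval_apply] at h4
      have h5 := (x - L).property (Nat.le_add_left N n)
      rw [h4, map_zero] at h5
      have h6 : (x - L).val N = x.val N - L.val N := rfl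
      rw [h6] at h5
      exact sub_eq_zero.mp h5.symm
    rw [hxL]
    have h1 := SModEq.sub_mem.mp (hL n)
    have h2 : f n = 0 := by simp [f, hg0]
    rw [h2, zero_sub] at h1
    simpa using neg_mem h1
  · intro h
    haveI : IsPrecomplete I (AdicCompletion I M) := by
      rw [isPrecomplete_iff]
      intro f hf
      -- limit
      have hcompat : ∀ {m n : ℕ} (hmn : m ≤ n), AdicCompletion.transitionMap I M hmn
          ((f n).val n) = (f m).val m := by
        intro m n hmn
        rw [(f n).property hmn]
        have h1 := SModEq.sub_mem.mp (hf hmn)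
        have h2 := AdicCompletion.pow_smul_top_le_ker_eval I m h1
        rw [LinearMap.mem_ker, map_sub, sub_eq_zero, AdicCompletion.eval_apply,
          AdicCompletion.eval_apply] at h2
        exact h2.symm
      let L : AdicCompletion I M := ⟨fun n => (f n).val n, fun hmn => hcompat hmn⟩
      refine ⟨L, fun n => ?_⟩
      rw [SModEq.sub_mem]
      by_cases hn : 1 ≤ n
      · rw [← h n hn, LinearMap.mem_ker, map_sub, sub_eq_zero]
        rfl
      · have : n = 0 := by omega
        subst this
        simp
    exact { }

end Groth.Agent.S9601
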