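import Groth.Statements.S9602
import Mathlib

set_option autoImplicit false
universe u
open CAlg

namespace Groth.Agent.S9602

open AdicCompletion in
theorem isUnit_of_forall_val {R : Type u} [CommRing R] (I : Ideal R) (x : AdicCompletion I R)
    (h : ∀ n, IsUnit (x.val n)) : IsUnit x := by
  choose v hv using fun n ↦ (h n).exists_right_inv
  have compat : ∀ {m n} (hmn : m ≤ n), AdicCompletion.transitionMap I R hmn (v n) = v m := by
    intro m n hmn
    have h1 : x.val m * AdicCompletion.transitionMap I R hmn (v n) = 1 := by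
      rw [← x.2 hmn, ← AdicCompletion.transitionMap_map_mul I hmn, hv n,
        AdicCompletion.transitionMap_map_one I hmn]
    exact (left_inv_eq_right_inv (by rw [mul_comm]; exact h1) (hv m))
  refine IsUnit.of_mul_eq_one ⟨v, compat⟩ ?_
  apply AdicCompletion.ext
  intro n
  exact hv n

open AdicCompletion in
theorem isNilpotent_val_of_mem_ker {R : Type u} [CommRing R] (I : Ideal R) (z : AdicCompletion I R)
    (hz : AdicCompletion.evalOneₐ I z = 0) (n : ℕ) : IsNilpotent (z.val n) := by
  obtain ⟨r, hr⟩ := Submodule.Quotient.mk_surjective _ (z.val n)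
  by_cases hn : n = 0
  · subst hn
    refine ⟨1, ?_⟩
    have : Subsingleton (R ⧸ (I ^ 0 • ⊤ : Ideal R)) := by
      rw [pow_zero, Ideal.one_eq_top, Submodule.top_smul]
      exact (Submodule.Quotient.subsingleton_iff).mpr rfl
    exact Subsingleton.elim _ _
  · have h1 : 1 ≤ n := Nat.one_le_iff_ne_zero.mpr hn
    have hr1 : z.val 1 = Submodule.Quotient.mk r := by
      rw [← z.2 h1, ← hr]; rfl
    have hrI : r ∈ I := by
      have : AdicCompletion.evalOneₐ I z = Ideal.Quotient.mk I r := by
        rw [← AdicCompletion.factorₐ_evalₐ_one, ← AdicCompletion.factor_eval_eq_evalₐ (h := by simp)]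
        change _ = Ideal.Quotient.mk I r
        rw [show (AdicCompletion.eval I R 1) z = z.val 1 from rfl, hr1]
        rfl
      rw [this, Ideal.Quotient.eq_zero_iff_mem] at hz
      exact hz
    refine ⟨n, ?_⟩
    rw [← hr]
    change (Ideal.Quotient.mk _ r) ^ n = 0
    rw [← map_pow, Ideal.Quotient.eq_zero_iff_mem]
    rw [smul_eq_mul, Ideal.mul_top]
    exact Ideal.pow_mem_pow hrI n

theorem isUnit_one_add_of_mem_ker {R : Type u} [CommRing R] (I : Ideal R) (z : AdicCompletion I R)
    (hz : AdicCompletion.evalOneₐ I z = 0) : IsUnit (1 + z) := by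
  apply isUnit_of_forall_val
  intro n
  exact (isNilpotent_val_of_mem_ker I z hz n).isUnit_one_add

theorem ker_le_jacobson {R : Type u} [CommRing R] (I : Ideal R) :
    RingHom.ker (AdicCompletion.evalOneₐ I).toRingHom ≤ (⊥ : Ideal (AdicCompletion I R)).jacobson := by
  intro z hz
  rw [Ideal.mem_jacobson_bot]
  intro y
  rw [add_comm]
  apply isUnit_one_add_of_mem_ker
  have : (AdicCompletion.evalOneₐ I) z = 0 := hz
  rw [map_mul, this, zero_mul]


/-- Let R be a ring, I an ideal of R and R^ = lim R/Iⁿ the I-adic completion. An element of R^ whose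
image in R/I is invertible is itself invertible in R^; and the kernel of R^ → R/I as well as the
extended ideal I R^ both lie inside the Jacobson radical of R^. -/
theorem result {R : Type u} [CommRing R] (I : Ideal R) :
    (∀ x : AdicCompletion I R, IsUnit (AdicCompletion.evalOneₐ I x) → IsUnit x) ∧
      RingHom.ker (AdicCompletion.evalOneₐ I).toRingHom ≤ (⊥ : Ideal (AdicCompletion I R)).jacobson ∧
      I.map (algebraMap R (AdicCompletion I R)) ≤ (⊥ : Ideal (AdicCompletion I R)).jacobson := by
  refine ⟨fun x hx ↦ ?_, ker_le_jacobson I, ?_⟩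
  · obtain ⟨w, hw⟩ := hx.exists_right_inv
    obtain ⟨y, rfl⟩ := AdicCompletion.evalOneₐ_surjective I w
    have h1 : AdicCompletion.evalOneₐ I (x * y - 1) = 0 := by
      rw [map_sub, map_mul, hw, map_one, sub_self]
    have h2 := isUnit_one_add_of_mem_ker I _ h1
    rw [add_sub_cancel] at h2
    exact isUnit_of_mul_isUnit_left h2
  · refine le_trans ?_ (ker_le_jacobson I)
    rw [Ideal.map_le_iff_le_comap]
    intro r hr
    rw [Ideal.mem_comap, RingHom.mem_ker]
    change AdicCompletion.evalOneₐ I (algebraMap R _ r) = 0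
    rw [AlgHom.commutes, Ideal.Quotient.algebraMap_eq, Ideal.Quotient.eq_zero_iff_mem]
    exact hr

end Groth.Agent.S9602
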