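import Groth.Statements.S9603
import Mathlib

set_option autoImplicit false
universe u
open CAlg

namespace Groth.Agent.S9603

open Submodule

section PC
variable {A : Type u} [CommRing A] (M : Type u) [AddCommGroup M] [Module A M]

/-- series converge: a sequence of increments in `J^n M` has a limit of partial sums -/
lemma exists_limit_of_increments (J : Ideal A) (hJ : IsPrecomplete J M) (a : ℕ → M)
    (ha : ∀ n, a n ∈ (J ^ n • ⊤ : Submodule A M)) :
    ∃ L : M, ∀ N, L - ∑ n ∈ Finset.range N, a n ∈ (J ^ N • ⊤ : Submodule A M) := by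
  have hc : ∀ {m k : ℕ}, m ≤ k → (∑ n ∈ Finset.range m, a n) ≡ (∑ n ∈ Finset.range k, a n)
      [SMOD (J ^ m • ⊤ : Submodule A M)] := by
    intro m k hmk
    induction k, hmk using Nat.le_induction with
    | base => exact SModEq.refl _
    | succ k hmk ih =>
      refine ih.trans ?_
      rw [SModEq.sub_mem, Finset.sum_range_succ, sub_add_cancel_left]
      exact neg_mem (Submodule.smul_mono (Ideal.pow_le_pow_right hmk) le_rfl (ha k))
  obtain ⟨L, hL⟩ := hJ.prec hc
  refine ⟨L, fun N => ?_⟩
  have := SModEq.sub_mem.mp (hL N)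
  rw [← neg_sub]
  exact neg_mem this

lemma isPrecomplete_sup (J K : Ideal A) (hJ : IsPrecomplete J M) (hK : IsPrecomplete K M) :
    IsPrecomplete (J ⊔ K) M := by
  rw [isPrecomplete_iff]
  intro y hy
  -- increments of the subsequence y (2n)
  have hinc : ∀ n, y (2 * (n + 1)) - y (2 * n) ∈
      (J ^ n • ⊤ : Submodule A M) ⊔ (K ^ n • ⊤ : Submodule A M) := by
    intro n
    have h1 : y (2 * (n + 1)) - y (2 * n) ∈ ((J ⊔ K) ^ (2 * n) • ⊤ : Submodule A M) := by
      have := SModEq.sub_mem.mp (hy (m := 2 * n) (n := 2 * (n + 1)) (by omega))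
      rw [← neg_sub]
      exact neg_mem this
    have h2 : ((J ⊔ K) ^ (2 * n) • ⊤ : Submodule A M) ≤ (J ^ n ⊔ K ^ n) • ⊤ := by
      apply Submodule.smul_mono _ le_rfl
      rw [two_mul]
      exact Ideal.sup_pow_add_le_pow_sup_pow
    rw [← Submodule.sup_smul]
    exact h2 h1
  choose a ha b hb hab using fun n => Submodule.mem_sup.mp (hinc n)
  obtain ⟨La, hLa⟩ := exists_limit_of_increments M J hJ a ha
  obtain ⟨Lb, hLb⟩ := exists_limit_of_increments M K hK b hb
  have hsum : ∀ N, y (2 * N) = y 0 + ∑ n ∈ Finset.range N, a n + ∑ n ∈ Finset.range N, b n := by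
    intro N
    induction N with
    | zero => simp
    | succ N ih =>
      rw [Finset.sum_range_succ, Finset.sum_range_succ]
      have := hab N
      rw [eq_sub_iff_add_eq] at this
      rw [← this, ih]
      abel
  refine ⟨y 0 + La + Lb, fun N => ?_⟩
  rw [SModEq.sub_mem]
  have h1 : y (2 * N) - (y 0 + La + Lb) ∈ ((J ⊔ K) ^ N • ⊤ : Submodule A M) := by
    rw [hsum N]
    have e : y 0 + ∑ n ∈ Finset.range N, a n + ∑ n ∈ Finset.range N, b n - (y 0 + La + Lb) =
        -((La - ∑ n ∈ Finset.range N, a n) + (Lb - ∑ n ∈ Finset.range N, b n)) := by abel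
    rw [e]
    apply neg_mem
    apply add_mem
    · exact Submodule.smul_mono (Ideal.pow_right_mono le_sup_left N) le_rfl (hLa N)
    · exact Submodule.smul_mono (Ideal.pow_right_mono le_sup_right N) le_rfl (hLb N)
  have h2 : y N - y (2 * N) ∈ ((J ⊔ K) ^ N • ⊤ : Submodule A M) :=
    SModEq.sub_mem.mp (hy (m := N) (n := 2 * N) (by omega))
  have e : y N - (y 0 + La + Lb) = (y N - y (2 * N)) + (y (2 * N) - (y 0 + La + Lb)) := by abel
  rw [e]
  exact add_mem h2 h1

end PC

/-- For a ring A, elements f_1, …, f_r generating an ideal I and an A-module M, if the canonical map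
from M to its (f_i)-adic completion is surjective for every i, then the canonical map from M to its
I-adic completion is surjective. -/
theorem result {A : Type u} [CommRing A] {r : ℕ} (f : Fin r → A) (M : Type u) [AddCommGroup M] [Module A M] (h : ∀ i, Function.Surjective (AdicCompletion.of (Ideal.span {f i}) M)) :
    Function.Surjective (AdicCompletion.of (Ideal.span (Set.range f)) M) := by
  rw [AdicCompletion.of_surjective_iff]
  have h' : ∀ i, IsPrecomplete (Ideal.span {f i}) M := fun i =>
    AdicCompletion.of_surjective_iff.mp (h i)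
  clear h
  induction r with
  | zero =>
    have : Ideal.span (Set.range f) = ⊥ := by
      rw [Set.range_eq_empty f, Ideal.span_empty]
    rw [this]
    infer_instance
  | succ r ih =>
    have : Ideal.span (Set.range f) = Ideal.span {f 0} ⊔ Ideal.span (Set.range (Fin.tail f)) := by
      rw [← Ideal.span_union]
      congr 1
      ext x
      simp only [Set.mem_range, Set.singleton_union, Set.mem_insert_iff, Fin.tail]
      constructor
      · rintro ⟨i, rfl⟩
        refine Fin.cases (Or.inl rfl) (fun j => Or.inr ⟨j, rfl⟩) i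
      · rintro (rfl | ⟨j, rfl⟩)
        · exact ⟨0, rfl⟩
        · exact ⟨j.succ, rfl⟩
    rw [this]
    exact isPrecomplete_sup M _ _ (h' 0) (ih (Fin.tail f) fun i => h' i.succ)

end Groth.Agent.S9603
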