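import Groth.Statements.S9604
import Mathlib

set_option autoImplicit false
universe u
open CAlg

namespace Groth.Agent.S9604

theorem aux {R : Type u} [CommRing R] (I J : Ideal R) (c d : ℕ) (hc : 0 < c) (hd : 0 < d)
    (hI : I ^ c ≤ J) (hJ : J ^ d ≤ I) (M : Type u) [AddCommGroup M] [Module R M]
    (h : IsAdicComplete I M) : IsAdicComplete J M := by
  have hIJ : ∀ n, I ^ (c * n) ≤ J ^ n := fun n ↦ by rw [pow_mul]; exact Ideal.pow_right_mono hI n
  have hJI : ∀ n, J ^ (d * n) ≤ I ^ n := fun n ↦ by rw [pow_mul]; exact Ideal.pow_right_mono hJ n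
  have hH : IsHausdorff J M := by
    refine ⟨fun x hx ↦ ?_⟩
    refine h.toIsHausdorff.haus' x fun n ↦ ?_
    have := hx (d * n)
    rw [SModEq.zero] at this ⊢
    exact Submodule.smul_mono_left (hJI n) this
  have hP : IsPrecomplete J M := by
    refine ⟨fun f hf ↦ ?_⟩
    obtain ⟨L, hL⟩ := h.toIsPrecomplete.prec' (fun n ↦ f (d * n)) (by
      intro m n hmn
      have := hf (Nat.mul_le_mul_left d hmn)
      rw [SModEq.sub_mem] at this ⊢
      exact Submodule.smul_mono_left (hJI m) this)
    refine ⟨L, fun n ↦ ?_⟩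
    have h1 : f n ≡ f (d * (c * n)) [SMOD (J ^ n • ⊤ : Submodule R M)] := by
      apply hf
      calc n = 1 * (1 * n) := by ring
        _ ≤ d * (c * n) := Nat.mul_le_mul hd (Nat.mul_le_mul hc le_rfl)
    have h2 : f (d * (c * n)) ≡ L [SMOD (J ^ n • ⊤ : Submodule R M)] := by
      have := hL (c * n)
      rw [SModEq.sub_mem] at this ⊢
      exact Submodule.smul_mono_left (hIJ n) this
    exact h1.trans h2
  exact { toIsHausdorff := hH, toIsPrecomplete := hP }


/-- Let R be a ring and I, J ideals of R with I^c ⊆ J and J^d ⊆ I for some integers c, d > 0. Then for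
an R-module, being complete in the I-adic topology is equivalent to being complete in the J-adic
topology. -/
theorem result {R : Type u} [CommRing R] (I J : Ideal R) (c d : ℕ) (hc : 0 < c) (hd : 0 < d) (hI : I ^ c ≤ J) (hJ : J ^ d ≤ I) (M : Type u) [AddCommGroup M] [Module R M] :
    IsAdicComplete I M ↔ IsAdicComplete J M := by
  exact ⟨aux I J c d hc hd hI hJ M, aux J I d c hd hc hJ hI M⟩

end Groth.Agent.S9604
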