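import Groth.Statements.S9606
import Mathlib

set_option autoImplicit false
universe u
open CAlg

namespace Groth.Agent.S9606

theorem key {R S : Type u} [CommRing R] [CommRing S] [Algebra R S]
    (hgen : Algebra.adjoin R {x : S | x ^ 2 ∈ Set.range (algebraMap R S) ∧ x ^ 3 ∈ Set.range (algebraMap R S)} = ⊤)
    (p : Ideal R) [p.IsPrime] (s : S) :
    ∃ r t : R, t ∉ p ∧ ∀ q : Ideal S, q.IsPrime → q.comap (algebraMap R S) = p →
      algebraMap R S t * s - algebraMap R S r ∈ q := by
  have hs : s ∈ Algebra.adjoin R {x : S | x ^ 2 ∈ Set.range (algebraMap R S) ∧ x ^ 3 ∈ Set.range (algebraMap R S)} := by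
    rw [hgen]; trivial
  induction hs using Algebra.adjoin_induction with
  | mem x hx =>
    obtain ⟨⟨a, ha⟩, ⟨b, hb⟩⟩ := hx
    by_cases hap : a ∈ p
    · refine ⟨0, 1, fun h => ‹p.IsPrime›.ne_top ((Ideal.eq_top_iff_one p).mpr h), ?_⟩
      intro q hq hqp
      have : algebraMap R S a ∈ q := by
        have : a ∈ q.comap (algebraMap R S) := hqp ▸ hap
        exact this
      rw [ha] at this
      have hx : x ∈ q := hq.mem_of_pow_mem 2 this
      simpa using hx
    · refine ⟨b, a, hap, ?_⟩
      intro q hq hqp
      have : algebraMap R S a * x - algebraMap R S b = 0 := by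
        rw [ha, hb]; ring
      rw [this]; exact q.zero_mem
  | algebraMap r =>
    refine ⟨r, 1, fun h => ‹p.IsPrime›.ne_top ((Ideal.eq_top_iff_one p).mpr h), ?_⟩
    intro q hq hqp
    simp
  | add x y hx hy ihx ihy =>
    obtain ⟨r1, t1, ht1, h1⟩ := ihx
    obtain ⟨r2, t2, ht2, h2⟩ := ihy
    refine ⟨t2 * r1 + t1 * r2, t1 * t2, fun h => (‹p.IsPrime›.mem_or_mem h).elim ht1 ht2, ?_⟩
    intro q hq hqp
    have e : algebraMap R S (t1 * t2) * (x + y) - algebraMap R S (t2 * r1 + t1 * r2) =
        algebraMap R S t2 * (algebraMap R S t1 * x - algebraMap R S r1) +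
        algebraMap R S t1 * (algebraMap R S t2 * y - algebraMap R S r2) := by
      simp only [map_mul, map_add]; ring
    rw [e]
    exact q.add_mem (q.mul_mem_left _ (h1 q hq hqp)) (q.mul_mem_left _ (h2 q hq hqp))
  | mul x y hx hy ihx ihy =>
    obtain ⟨r1, t1, ht1, h1⟩ := ihx
    obtain ⟨r2, t2, ht2, h2⟩ := ihy
    refine ⟨r1 * r2, t1 * t2, fun h => (‹p.IsPrime›.mem_or_mem h).elim ht1 ht2, ?_⟩
    intro q hq hqp
    have e : algebraMap R S (t1 * t2) * (x * y) - algebraMap R S (r1 * r2) =
        (algebraMap R S t1 * x) * (algebraMap R S t2 * y - algebraMap R S r2) +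
        algebraMap R S r2 * (algebraMap R S t1 * x - algebraMap R S r1) := by
      simp only [map_mul]; ring
    rw [e]
    exact q.add_mem (q.mul_mem_left _ (h2 q hq hqp)) (q.mul_mem_left _ (h1 q hq hqp))

theorem isInt {R S : Type u} [CommRing R] [CommRing S] [Algebra R S]
    (hgen : Algebra.adjoin R {x : S | x ^ 2 ∈ Set.range (algebraMap R S) ∧ x ^ 3 ∈ Set.range (algebraMap R S)} = ⊤) :
    Algebra.IsIntegral R S := by
  constructor
  intro s
  have hs : s ∈ Algebra.adjoin R {x : S | x ^ 2 ∈ Set.range (algebraMap R S) ∧ x ^ 3 ∈ Set.range (algebraMap R S)} := by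
    rw [hgen]; trivial
  have hle : Algebra.adjoin R {x : S | x ^ 2 ∈ Set.range (algebraMap R S) ∧ x ^ 3 ∈ Set.range (algebraMap R S)} ≤ integralClosure R S := by
    rw [Algebra.adjoin_le_iff]
    rintro x ⟨⟨a, ha⟩, -⟩
    refine IsIntegral.of_pow (n := 2) (by norm_num) ?_
    rw [← ha]
    exact isIntegral_algebraMap
  exact hle hs

/-- Let R → S be a ring map with locally nilpotent kernel such that S is generated over R by elements x
with x² and x³ in the image of R. Then the induced map on spectra is a homeomorphism and every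
residue field map κ(p) → κ(q), for q a prime of S with inverse image p, is bijective. -/
theorem result {R S : Type u} [CommRing R] [CommRing S] [Algebra R S]
    (hgen : Algebra.adjoin R {x : S | x ^ 2 ∈ Set.range (algebraMap R S) ∧ x ^ 3 ∈ Set.range (algebraMap R S)} = ⊤)
    (hker : ∀ r : R, algebraMap R S r = 0 → IsNilpotent r) :
    IsHomeomorph (PrimeSpectrum.comap (algebraMap R S)) ∧
      ∀ (q : Ideal S) [q.IsPrime], Function.Bijective (Ideal.ResidueField.map (q.comap (algebraMap R S)) q (algebraMap R S) rfl) := by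
  haveI := isInt hgen
  constructor
  · rw [isHomeomorph_iff_continuous_isClosedMap_bijective]
    refine ⟨PrimeSpectrum.continuous_comap _, ?_, ?_, ?_⟩
    · exact PrimeSpectrum.isClosedMap_comap_of_isIntegral _ (algebraMap_isIntegral_iff.mpr inferInstance)
    · -- injective
      intro q1 q2 h
      have h1 : q1.asIdeal.comap (algebraMap R S) = q2.asIdeal.comap (algebraMap R S) :=
        congrArg PrimeSpectrum.asIdeal h
      have aux : ∀ q1 q2 : PrimeSpectrum S, q1.asIdeal.comap (algebraMap R S) = q2.asIdeal.comap (algebraMap R S) →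
          q1.asIdeal ≤ q2.asIdeal := by
        intro q1 q2 h1 s hs
        haveI : (q1.asIdeal.comap (algebraMap R S)).IsPrime := Ideal.comap_isPrime _ _
        obtain ⟨r, t, ht, hrt⟩ := key hgen (q1.asIdeal.comap (algebraMap R S)) s
        have e1 := hrt q1.asIdeal q1.isPrime rfl
        have e2 := hrt q2.asIdeal q2.isPrime h1.symm
        have hr1 : algebraMap R S r ∈ q1.asIdeal := by
          have := q1.asIdeal.sub_mem (q1.asIdeal.mul_mem_left (algebraMap R S t) hs) e1
          simpa using this
        have hr2 : algebraMap R S r ∈ q2.asIdeal := by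
          have : r ∈ q2.asIdeal.comap (algebraMap R S) := h1 ▸ hr1
          exact this
        have hts : algebraMap R S t * s ∈ q2.asIdeal := by
          have := q2.asIdeal.add_mem e2 hr2
          simpa using this
        rcases q2.isPrime.mem_or_mem hts with h | h
        · exact absurd (h1 ▸ (h : t ∈ q2.asIdeal.comap (algebraMap R S))) ht
        · exact h
      exact PrimeSpectrum.ext (le_antisymm (aux q1 q2 h1) (aux q2 q1 h1.symm))
    · -- surjective
      intro p
      obtain ⟨Q, -, hQ, hQp⟩ := Ideal.exists_ideal_over_prime_of_isIntegral p.asIdeal (⊥ : Ideal S) (by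
        intro r hr
        have : algebraMap R S r = 0 := by simpa using hr
        obtain ⟨n, hn⟩ := hker r this
        exact p.isPrime.mem_of_pow_mem n (hn ▸ p.asIdeal.zero_mem))
      exact ⟨⟨Q, hQ⟩, PrimeSpectrum.ext hQp⟩
  · intro q hq
    refine ⟨RingHom.injective _, ?_⟩
    intro z
    obtain ⟨z, rfl⟩ := IsLocalRing.residue_surjective z
    obtain ⟨s, ⟨u, hu⟩, rfl⟩ := IsLocalization.exists_mk'_eq q.primeCompl z
    haveI : (q.comap (algebraMap R S)).IsPrime := Ideal.comap_isPrime _ _
    obtain ⟨r1, t1, ht1, h1⟩ := key hgen (q.comap (algebraMap R S)) s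
    obtain ⟨r2, t2, ht2, h2⟩ := key hgen (q.comap (algebraMap R S)) u
    have e1 := h1 q hq rfl
    have e2 := h2 q hq rfl
    rw [← Ideal.algebraMap_residueField_eq_zero, map_sub, map_mul, sub_eq_zero] at e1 e2
    have e3 : IsLocalRing.residue (Localization.AtPrime q) (IsLocalization.mk' (Localization.AtPrime q) s ⟨u, hu⟩) *
        algebraMap S q.ResidueField u = algebraMap S q.ResidueField s := by
      rw [IsScalarTower.algebraMap_apply S (Localization.AtPrime q) q.ResidueField,
        IsScalarTower.algebraMap_apply S (Localization.AtPrime q) q.ResidueField]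
      change IsLocalRing.residue _ _ * IsLocalRing.residue _ _ = IsLocalRing.residue _ _
      rw [← map_mul]
      congr 1
      exact IsLocalization.mk'_spec _ s ⟨u, hu⟩
    have hπu : algebraMap S q.ResidueField u ≠ 0 := by
      rw [Ne, Ideal.algebraMap_residueField_eq_zero]; exact hu
    have hπt1 : algebraMap S q.ResidueField (algebraMap R S t1) ≠ 0 := by
      rw [Ne, Ideal.algebraMap_residueField_eq_zero]; exact ht1
    have hπt2 : algebraMap S q.ResidueField (algebraMap R S t2) ≠ 0 := by
      rw [Ne, Ideal.algebraMap_residueField_eq_zero]; exact ht2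
    refine ⟨(algebraMap R _ r1 / algebraMap R _ t1) / (algebraMap R _ r2 / algebraMap R _ t2), ?_⟩
    rw [map_div₀, map_div₀, map_div₀]
    simp only [Ideal.ResidueField.map_algebraMap]
    rw [← e1, ← e2, ← e3]
    field_simp

end Groth.Agent.S9606
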