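import Groth.Statements.S9607
import Mathlib

set_option autoImplicit false
universe u
open CAlg

namespace Groth.Agent.S9607

theorem choose_dvd (p : ℕ) (hp : p.Prime) (a M i : ℕ) (hM : M ≤ a) (hi0 : i ≠ 0) (hi : i ≤ p ^ a)
    (hnd : ¬ p ^ M ∣ i) : p ^ (a + 1 - M) ∣ (p ^ a).choose i := by
  have H := hp.emultiplicity_choose_prime_pow_add_emultiplicity hi hi0
  have h1 : emultiplicity p i < M := emultiplicity_lt_iff_not_dvd.mpr hnd
  rw [(Nat.finiteMultiplicity_iff.2 ⟨hp.ne_one, Nat.pos_of_ne_zero hi0⟩).emultiplicity_eq_multiplicity] at H h1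
  rw [(Nat.finiteMultiplicity_iff.2 ⟨hp.ne_one, Nat.choose_pos hi⟩).emultiplicity_eq_multiplicity] at H
  norm_cast at H h1
  apply pow_dvd_of_le_multiplicity
  omega

theorem pow_mem_of_dvd {B : Type*} [CommRing B] (A : Subalgebra ℤ B) (x : B) (N i : ℕ)
    (hx : x ^ N ∈ A) (h : N ∣ i) : x ^ i ∈ A := by
  obtain ⟨q, rfl⟩ := h
  rw [pow_mul]
  exact A.pow_mem hx q

theorem scaled_pow_mem {B : Type*} [CommRing B] (A : Subalgebra ℤ B) (x : B) (p n : ℕ) (hp : 0 < p)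
    (hx : x ^ (p ^ n) ∈ A) (hpx : (p : B) ^ n * x ∈ A) (i : ℕ) :
    (p : B) ^ (n * p ^ n) * x ^ i ∈ A := by
  have hr : i % p ^ n < p ^ n := Nat.mod_lt _ (pow_pos hp n)
  have e1 : x ^ i = (x ^ (p ^ n)) ^ (i / p ^ n) * x ^ (i % p ^ n) := by
    rw [← pow_mul, ← pow_add, Nat.div_add_mod]
  have e2 : n * p ^ n = n * (p ^ n - i % p ^ n) + n * (i % p ^ n) := by
    rw [← Nat.mul_add, Nat.sub_add_cancel hr.le]
  have e3 : (p : B) ^ (n * p ^ n) * x ^ i =
      (p : B) ^ (n * (p ^ n - i % p ^ n)) * ((x ^ (p ^ n)) ^ (i / p ^ n) * ((p : B) ^ n * x) ^ (i % p ^ n)) := by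
    rw [e1, e2, pow_add, mul_pow, ← pow_mul (p : B) n]
    ring
  rw [e3]
  refine A.mul_mem (A.pow_mem (natCast_mem A p) _) (A.mul_mem (A.pow_mem hx _) (A.pow_mem hpx _))

/-- For a prime number p and integers n, m > 0 there exists an integer a such that (x + y)^(p^a) and p^a
(x + y) both belong to the subring ℤ[x^(p^n), p^n x, y^(p^m), p^m y] of the polynomial ring ℤ[x, y]. -/
theorem result (p : ℕ) (hp : p.Prime) (n m : ℕ) (hn : 0 < n) (hm : 0 < m) :
    ∃ a : ℕ, ((MvPolynomial.X 0 + MvPolynomial.X 1 : MvPolynomial (Fin 2) ℤ) ^ (p ^ a) ∈ Algebra.adjoin ℤ ({MvPolynomial.X 0 ^ (p ^ n), (p : MvPolynomial (Fin 2) ℤ) ^ n * MvPolynomial.X 0, MvPolynomial.X 1 ^ (p ^ m), (p : MvPolynomial (Fin 2) ℤ) ^ m * MvPolynomial.X 1} : Set (MvPolynomial (Fin 2) ℤ)) ∧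
      (p : MvPolynomial (Fin 2) ℤ) ^ a * (MvPolynomial.X 0 + MvPolynomial.X 1) ∈ Algebra.adjoin ℤ ({MvPolynomial.X 0 ^ (p ^ n), (p : MvPolynomial (Fin 2) ℤ) ^ n * MvPolynomial.X 0, MvPolynomial.X 1 ^ (p ^ m), (p : MvPolynomial (Fin 2) ℤ) ^ m * MvPolynomial.X 1} : Set (MvPolynomial (Fin 2) ℤ))) := by
  set A := Algebra.adjoin ℤ ({MvPolynomial.X 0 ^ (p ^ n), (p : MvPolynomial (Fin 2) ℤ) ^ n * MvPolynomial.X 0, MvPolynomial.X 1 ^ (p ^ m), (p : MvPolynomial (Fin 2) ℤ) ^ m * MvPolynomial.X 1} : Set (MvPolynomial (Fin 2) ℤ)) with hA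
  have h0 : (MvPolynomial.X 0 : MvPolynomial (Fin 2) ℤ) ^ (p ^ n) ∈ A :=
    Algebra.subset_adjoin (by simp)
  have h0' : (p : MvPolynomial (Fin 2) ℤ) ^ n * MvPolynomial.X 0 ∈ A :=
    Algebra.subset_adjoin (by simp)
  have h1 : (MvPolynomial.X 1 : MvPolynomial (Fin 2) ℤ) ^ (p ^ m) ∈ A :=
    Algebra.subset_adjoin (by simp)
  have h1' : (p : MvPolynomial (Fin 2) ℤ) ^ m * MvPolynomial.X 1 ∈ A :=
    Algebra.subset_adjoin (by simp)
  set K := n * p ^ n + m * p ^ m with hK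
  set M := max n m with hM
  refine ⟨M + K, ?_, ?_⟩
  · rw [add_pow]
    refine A.sum_mem ?_
    intro i hi
    have hile : i ≤ p ^ (M + K) := Nat.lt_succ_iff.mp (Finset.mem_range.mp hi)
    by_cases hc : p ^ n ∣ i ∧ p ^ m ∣ p ^ (M + K) - i
    · exact A.mul_mem (A.mul_mem (pow_mem_of_dvd A _ _ _ h0 hc.1) (pow_mem_of_dvd A _ _ _ h1 hc.2))
        (natCast_mem A _)
    · have hi0 : i ≠ 0 := by
        rintro rfl
        apply hc
        refine ⟨dvd_zero _, ?_⟩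
        rw [Nat.sub_zero]
        exact pow_dvd_pow p (le_trans (le_max_right n m) (Nat.le_add_right _ _))
      have hnd : ¬ p ^ M ∣ i := by
        intro hd
        apply hc
        refine ⟨(pow_dvd_pow p (le_max_left n m)).trans hd, ?_⟩
        apply Nat.dvd_sub
        · exact pow_dvd_pow p (le_trans (le_max_right n m) (Nat.le_add_right _ _))
        · exact (pow_dvd_pow p (le_max_right n m)).trans hd
      have hdvd := choose_dvd p hp (M + K) M i (Nat.le_add_right _ _) hi0 hile hnd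
      have hdvd' : p ^ K ∣ (p ^ (M + K)).choose i :=
        (pow_dvd_pow p (by omega)).trans hdvd
      obtain ⟨c, hc'⟩ := hdvd'
      rw [hc']
      push_cast
      have e : (MvPolynomial.X 0 : MvPolynomial (Fin 2) ℤ) ^ i * MvPolynomial.X 1 ^ (p ^ (M + K) - i) * ((p : MvPolynomial (Fin 2) ℤ) ^ K * (c : MvPolynomial (Fin 2) ℤ)) =
          ((p : MvPolynomial (Fin 2) ℤ) ^ (n * p ^ n) * MvPolynomial.X 0 ^ i) *
          ((p : MvPolynomial (Fin 2) ℤ) ^ (m * p ^ m) * MvPolynomial.X 1 ^ (p ^ (M + K) - i)) * (c : MvPolynomial (Fin 2) ℤ) := by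
        rw [hK, pow_add]; ring
      rw [e]
      exact A.mul_mem (A.mul_mem (scaled_pow_mem A _ p n hp.pos h0 h0' i)
        (scaled_pow_mem A _ p m hp.pos h1 h1' _)) (natCast_mem A _)
  · have e : (p : MvPolynomial (Fin 2) ℤ) ^ (M + K) * (MvPolynomial.X 0 + MvPolynomial.X 1) =
        (p : MvPolynomial (Fin 2) ℤ) ^ (M + K - n) * ((p : MvPolynomial (Fin 2) ℤ) ^ n * MvPolynomial.X 0) +
        (p : MvPolynomial (Fin 2) ℤ) ^ (M + K - m) * ((p : MvPolynomial (Fin 2) ℤ) ^ m * MvPolynomial.X 1) := by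
      have en : M + K = (M + K - n) + n := (Nat.sub_add_cancel (le_trans (le_max_left n m) (Nat.le_add_right _ _))).symm
      have em : M + K = (M + K - m) + m := (Nat.sub_add_cancel (le_trans (le_max_right n m) (Nat.le_add_right _ _))).symm
      rw [mul_add]
      congr 1
      · conv_lhs => rw [en, pow_add]
        ring
      · conv_lhs => rw [em, pow_add]
        ring
    rw [e]
    exact A.add_mem (A.mul_mem (A.pow_mem (natCast_mem A p) _) h0') (A.mul_mem (A.pow_mem (natCast_mem A p) _) h1')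

end Groth.Agent.S9607
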