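import Groth.Statements.S9608
import Mathlib

set_option autoImplicit false
universe u
open CAlg

namespace Groth.Agent.S9608


/-- Let k'/k be a field extension and p a prime number. Then k' is generated over k by elements x for
which some n > 0 has x^(p^n) ∈ k and p^n x ∈ k, if and only if either k' = k, or k has
characteristic p and k'/k is purely inseparable. -/
theorem result {k k' : Type u} [Field k] [Field k'] [Algebra k k'] (p : ℕ) (hp : p.Prime) :
    IntermediateField.adjoin k {x : k' | ∃ n : ℕ, 0 < n ∧ x ^ (p ^ n) ∈ Set.range (algebraMap k k') ∧ (p : k') ^ n * x ∈ Set.range (algebraMap k k')} = ⊤ ↔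
      (Function.Surjective (algebraMap k k') ∨ (CharP k p ∧ IsPurelyInseparable k k')) := by
  haveI := Fact.mk hp
  constructor
  · intro h
    by_cases hc : (p : k) = 0
    · right
      haveI : CharP k p := (CharP.charP_iff_prime_eq_zero hp).mpr hc
      haveI : ExpChar k p := ExpChar.prime hp
      refine ⟨inferInstance, ?_⟩
      rw [isPurelyInseparable_iff_perfectClosure_eq_top, eq_top_iff, ← h,
        IntermediateField.adjoin_le_iff]
      rintro x ⟨n, -, hx, -⟩
      rw [SetLike.mem_coe, mem_perfectClosure_iff_pow_mem p]
      exact ⟨n, hx⟩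
    · left
      have hsub : {x : k' | ∃ n : ℕ, 0 < n ∧ x ^ (p ^ n) ∈ Set.range (algebraMap k k') ∧
          (p : k') ^ n * x ∈ Set.range (algebraMap k k')} ⊆
          ((⊥ : IntermediateField k k') : Set k') := by
        rintro x ⟨n, -, -, ⟨c, hc'⟩⟩
        rw [SetLike.mem_coe, IntermediateField.mem_bot]
        refine ⟨((p : k) ^ n)⁻¹ * c, ?_⟩
        rw [map_mul, hc', map_inv₀, map_pow, map_natCast, ← mul_assoc, inv_mul_cancel₀, one_mul]
        apply pow_ne_zero
        rw [← map_natCast (algebraMap k k')]
        exact (map_ne_zero_iff _ (algebraMap k k').injective).mpr hc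
      have h2 : (⊥ : IntermediateField k k') = ⊤ := by
        rw [eq_top_iff, ← h, IntermediateField.adjoin_le_iff]
        exact hsub
      intro y
      have : y ∈ (⊥ : IntermediateField k k') := h2 ▸ IntermediateField.mem_top
      exact IntermediateField.mem_bot.mp this
  · rintro (h | ⟨hc, hpi⟩)
    · rw [eq_top_iff]
      intro y _
      obtain ⟨c, rfl⟩ := h y
      exact IntermediateField.algebraMap_mem _ c
    · haveI : ExpChar k p := ExpChar.prime hp
      rw [eq_top_iff]
      intro y _
      apply IntermediateField.subset_adjoin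
      obtain ⟨n, hn⟩ := IsPurelyInseparable.pow_mem k p y
      refine ⟨n + 1, Nat.succ_pos n, ?_, ?_⟩
      · obtain ⟨c, hc'⟩ := hn
        refine ⟨c ^ p, ?_⟩
        rw [map_pow]
        have : (algebraMap k k') c = y ^ p ^ n := hc'
        rw [this, ← pow_mul, ← pow_succ]
      · haveI : CharP k' p := (Algebra.charP_iff k k' p).mp hc
        refine ⟨0, ?_⟩
        rw [map_zero, CharP.cast_eq_zero, zero_pow (Nat.succ_ne_zero n), zero_mul]

end Groth.Agent.S9608
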