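import Groth.Statements.S9609
import Mathlib

set_option autoImplicit false
universe u
open CAlg

namespace Groth.Agent.S9609

open AlgebraicGeometry CategoryTheory

set_option backward.isDefEq.respectTransparency.types false in
lemma algebraMap_comp_residueFieldMap {R S : CommRingCat.{u}} (φ : R ⟶ S) (q : Spec S) :
    CommRingCat.ofHom (algebraMap R ((Spec.map φ) q).asIdeal.ResidueField) ≫
      (Scheme.Spec.residueFieldIso R ((Spec.map φ) q)).inv ≫ (Spec.map φ).residueFieldMap q ≫
        (Scheme.Spec.residueFieldIso S q).hom =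
    φ ≫ CommRingCat.ofHom (algebraMap S q.asIdeal.ResidueField) := by
  rw [Scheme.Spec.algebraMap_residueFieldIso_inv_assoc]
  have h1 : (Spec R).presheaf.germ ⊤ ((Spec.map φ) q) trivial ≫ (Spec R).residue _ =
      (Spec R).Γevaluation ((Spec.map φ) q) := rfl
  rw [reassoc_of% h1, Scheme.Γevaluation_naturality_assoc]
  have h4 := Scheme.ΓSpecIso_inv_naturality φ
  rw [← Category.assoc, ← h4, Category.assoc]
  have h2 := Scheme.Spec.algebraMap_residueFieldIso_inv S q
  have h3 : (Spec S).presheaf.germ ⊤ q trivial ≫ (Spec S).residue _ =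
      (Spec S).Γevaluation q := rfl
  rw [h3] at h2
  rw [← reassoc_of% h2, Iso.inv_hom_id, Category.comp_id]

set_option backward.isDefEq.respectTransparency.types false in
lemma residueFieldMap_eq {R S : CommRingCat.{u}} (φ : R ⟶ S) (q : Spec S) :
    ((Scheme.Spec.residueFieldIso R ((Spec.map φ) q)).inv ≫ (Spec.map φ).residueFieldMap q ≫
        (Scheme.Spec.residueFieldIso S q).hom).hom =
      Ideal.ResidueField.map ((Spec.map φ) q).asIdeal q.asIdeal φ.hom rfl := by
  apply Ideal.ResidueField.ringHom_ext
  have := algebraMap_comp_residueFieldMap φ q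
  ext r
  have h := congr($this r)
  rw [RingHom.comp_apply, RingHom.comp_apply, Ideal.ResidueField.map_algebraMap]
  exact h

lemma isPI_iff_pow_mem {F E : Type*} [Field F] [Field E] (g : F →+* E) :
    g.IsPurelyInseparable ↔ ∀ x : E, ∃ n : ℕ, x ^ (ringExpChar F) ^ n ∈ Set.range g := by
  letI := g.toAlgebra
  exact isPurelyInseparable_iff_pow_mem F (ringExpChar F)

lemma pow_mem_transfer {F E F' E' : Type*} [Field F] [Field E] [Field F'] [Field E']
    (g : F →+* E) (g' : F' →+* E') (eF : F ≃+* F') (eE : E ≃+* E')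
    (h : ∀ y, g' (eF y) = eE (g y))
    (H : ∀ x : E, ∃ n : ℕ, x ^ (ringExpChar F) ^ n ∈ Set.range g) :
    ∀ x : E', ∃ n : ℕ, x ^ (ringExpChar F') ^ n ∈ Set.range g' := by
  have he : ringExpChar F' = ringExpChar F := by
    haveI : ExpChar F' (ringExpChar F) :=
      expChar_of_injective_ringHom (f := (eF : F →+* F')) eF.injective (ringExpChar F)
    exact ringExpChar.eq F' (ringExpChar F)
  intro x
  obtain ⟨n, y, hy⟩ := H (eE.symm x)
  refine ⟨n, eF y, ?_⟩
  rw [h, hy, map_pow, RingEquiv.apply_symm_apply, he]

set_option backward.isDefEq.respectTransparency.types false in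
lemma universallyInjective_SpecMap_iff {R S : CommRingCat.{u}} (φ : R ⟶ S) :
    UniversallyInjective (Spec.map φ) ↔
      Function.Injective (PrimeSpectrum.comap φ.hom) ∧
      ∀ (q : Ideal S) [q.IsPrime] (x : q.ResidueField), ∃ n : ℕ,
        x ^ (ringExpChar (q.comap φ.hom).ResidueField) ^ n ∈
          Set.range (Ideal.ResidueField.map (q.comap φ.hom) q φ.hom rfl) := by
  have key : UniversallyInjective (Spec.map φ) ↔
      Function.Injective (Spec.map φ) ∧
        ∀ x, ((Spec.map φ).residueFieldMap x).hom.IsPurelyInseparable :=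
    (tfae_universallyInjective (Spec.map φ)).out 0 2
  rw [key]
  refine and_congr Iff.rfl ⟨fun H q hq => ?_, fun H q => ?_⟩
  · have h1 := (isPI_iff_pow_mem _).mp (H ⟨q, hq⟩)
    refine pow_mem_transfer ((Spec.map φ).residueFieldMap ⟨q, hq⟩).hom
      (Ideal.ResidueField.map (q.comap φ.hom) q φ.hom rfl)
      (Scheme.Spec.residueFieldIso R ((Spec.map φ) ⟨q, hq⟩)).commRingCatIsoToRingEquiv
      (Scheme.Spec.residueFieldIso S ⟨q, hq⟩).commRingCatIsoToRingEquiv ?_ h1
    intro y
    have h2 := residueFieldMap_eq φ ⟨q, hq⟩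
    have h3 := congr($h2 ((Scheme.Spec.residueFieldIso R ((Spec.map φ) ⟨q, hq⟩)).hom y))
    refine h3.symm.trans ?_
    simp only [CommRingCat.hom_comp, RingHom.comp_apply]
    erw [Iso.hom_inv_id_apply]
    rfl
  · rw [isPI_iff_pow_mem]
    have h1 := H q.asIdeal
    refine pow_mem_transfer (Ideal.ResidueField.map ((Spec.map φ) q).asIdeal q.asIdeal φ.hom rfl)
      ((Spec.map φ).residueFieldMap q).hom
      (Scheme.Spec.residueFieldIso R ((Spec.map φ) q)).symm.commRingCatIsoToRingEquiv
      (Scheme.Spec.residueFieldIso S q).symm.commRingCatIsoToRingEquiv ?_ h1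
    intro y
    have h2 := residueFieldMap_eq φ q
    have h3 := congr($h2 y)
    have h4 : (Scheme.Spec.residueFieldIso S q).inv
        ((Ideal.ResidueField.map ((Spec.map φ) q).asIdeal q.asIdeal φ.hom rfl) y) =
        (Scheme.Spec.residueFieldIso S q).inv (((Scheme.Spec.residueFieldIso R
          ((Spec.map φ) q)).inv ≫ (Spec.map φ).residueFieldMap q ≫
          (Scheme.Spec.residueFieldIso S q).hom).hom y) := by rw [h3]
    refine Eq.trans ?_ h4.symm
    simp only [CommRingCat.hom_comp, RingHom.comp_apply]
    erw [Iso.hom_inv_id_apply]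
    rfl

open TensorProduct in
/-- Let R → S be a ring map which is injective on spectra and whose residue field extensions κ(p) → κ(q)
(q a prime of S with inverse image p) are purely inseparable: every element of κ(q) has a power with
exponent a power of the characteristic exponent lying in the image of κ(p). Then, given an arbitrary
R-algebra R', the induced map R' → R' ⊗_R S is likewise injective on spectra and has purely
inseparable residue field extensions. -/
theorem result {R S R' : Type u} [CommRing R] [CommRing S] [CommRing R'] [Algebra R S] [Algebra R R']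
    (hinj : Function.Injective (PrimeSpectrum.comap (algebraMap R S)))
    (hpi : ∀ (q : Ideal S) [q.IsPrime] (x : q.ResidueField), ∃ n : ℕ, x ^ (ringExpChar (q.comap (algebraMap R S)).ResidueField) ^ n ∈ Set.range (Ideal.ResidueField.map (q.comap (algebraMap R S)) q (algebraMap R S) rfl)) :
    Function.Injective (PrimeSpectrum.comap (algebraMap R' (R' ⊗[R] S))) ∧
      ∀ (q' : Ideal (R' ⊗[R] S)) [q'.IsPrime] (x : q'.ResidueField), ∃ n : ℕ, x ^ (ringExpChar (q'.comap (algebraMap R' (R' ⊗[R] S))).ResidueField) ^ n ∈ Set.range (Ideal.ResidueField.map (q'.comap (algebraMap R' (R' ⊗[R] S))) q' (algebraMap R' (R' ⊗[R] S)) rfl) := by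
  have h1 : UniversallyInjective (Spec.map (CommRingCat.ofHom (algebraMap R S))) :=
    (universallyInjective_SpecMap_iff (CommRingCat.ofHom (algebraMap R S))).mpr ⟨hinj, hpi⟩
  have hpb := isPullback_SpecMap_of_isPushout _ _ _ _ (CommRingCat.isPushout_tensorProduct R R' S)
  have h2 : UniversallyInjective (Spec.map (CommRingCat.ofHom
      (Algebra.TensorProduct.includeLeftRingHom : R' →+* R' ⊗[R] S))) :=
    MorphismProperty.of_isPullback hpb.flip h1
  exact (universallyInjective_SpecMap_iff (CommRingCat.ofHom (algebraMap R' (R' ⊗[R] S)))).mp h2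

end Groth.Agent.S9609
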