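import Groth.Statements.S9610
import Mathlib

set_option autoImplicit false
universe u
open CAlg

namespace Groth.Agent.S9610

open Polynomial in
theorem main {k V : Type u} [Field k] [AddCommGroup V] [Module k V] [Nontrivial V] (hV : Module.rank k V < Cardinal.mk k) (T : Module.End k V) :
    ∃ P : Polynomial k, P.Monic ∧ ¬ IsUnit (Polynomial.aeval T P) := by
  classical
  by_contra hcon
  push_neg at hcon
  have hunit : ∀ Q : Polynomial k, Q ≠ 0 → IsUnit (aeval T Q) := by
    intro Q hQ
    have e : Q = C Q.leadingCoeff * (Q * C Q.leadingCoeff⁻¹) := by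
      rw [mul_comm, mul_assoc, ← C_mul, inv_mul_cancel₀ (leadingCoeff_ne_zero.mpr hQ), C_1, mul_one]
    rw [e, map_mul]
    refine IsUnit.mul ?_ (hcon _ (monic_mul_leadingCoeff_inv hQ))
    rw [aeval_C]
    exact (IsUnit.mk0 _ (leadingCoeff_ne_zero.mpr hQ)).map (algebraMap k (Module.End k V))
  obtain ⟨v, hv⟩ := exists_ne (0 : V)
  let w : k → V := fun a => ((hcon (X - C a) (monic_X_sub_C a)).unit⁻¹ : (Module.End k V)ˣ).1 v
  have hw : ∀ a, aeval T (X - C a) (w a) = v := by
    intro a
    change ((hcon (X - C a) (monic_X_sub_C a)).unit.1 * ((hcon (X - C a) (monic_X_sub_C a)).unit⁻¹ : (Module.End k V)ˣ).1) v = v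
    rw [Units.mul_inv]; rfl
  have hli : LinearIndependent k w := by
    refine linearIndependent_iff'.2 fun s m hm i hi => ?_
    have h1 : ∀ j ∈ s, aeval T (∏ l ∈ s, (X - C l)) (w j) = aeval T (∏ l ∈ s.erase j, (X - C l)) v := by
      intro j hj
      rw [← Finset.prod_erase_mul _ _ hj, map_mul, Module.End.mul_apply, hw]
    have h2 := congrArg (aeval T (∏ l ∈ s, (X - C l))) hm
    rw [map_zero, map_sum] at h2
    simp_rw [map_smul] at h2
    rw [Finset.sum_congr rfl (fun j hj => by rw [h1 j hj])] at h2
    let p : Polynomial k := ∑ j ∈ s, C (m j) * ∏ l ∈ s.erase j, (X - C l)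
    have hp : aeval T p v = 0 := by
      rw [← h2]
      simp only [p, map_sum, map_mul, aeval_C, LinearMap.sum_apply, Module.End.mul_apply,
        Module.algebraMap_end_apply]
    have hp0 : p = 0 := by
      by_contra hne
      have hu := hunit p hne
      apply hv
      have : (hu.unit⁻¹ : (Module.End k V)ˣ).1 (hu.unit.1 v) = v := by
        change ((hu.unit⁻¹ : (Module.End k V)ˣ).1 * hu.unit.1) v = v
        rw [Units.inv_mul]; rfl
      rw [← this]
      change (hu.unit⁻¹ : (Module.End k V)ˣ).1 (aeval T p v) = 0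
      rw [hp, map_zero]
    have hev := congrArg (Polynomial.eval i) hp0
    have h3 : ∀ j ∈ s.erase i, m j * ((s.erase j).prod fun x => i - x) = 0 := fun j hj => by
      have := Finset.mem_erase_of_ne_of_mem (Finset.ne_of_mem_erase hj).symm hi
      simp_rw [← (s.erase j).prod_erase_mul _ this, sub_self, mul_zero]
    simp_rw [p, eval_finset_sum, eval_mul, eval_prod, eval_sub, eval_X, eval_C, eval_zero,
      ← s.sum_erase_add _ hi, Finset.sum_eq_zero h3, zero_add] at hev
    exact eq_zero_of_ne_zero_of_mul_right_eq_zero (Finset.prod_ne_zero_iff.2 fun j hj =>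
      sub_ne_zero.2 (Finset.ne_of_mem_erase hj).symm) hev
  exact absurd hli.cardinal_le_rank (not_le.mpr hV)

/-- Let k be a field and V a nonzero k-vector space with dim_k V < #k as cardinals. Then every k-linear
endomorphism T of V admits a monic polynomial P over k for which P(T) is not invertible. -/
theorem result {k V : Type u} [Field k] [AddCommGroup V] [Module k V] [Nontrivial V] (hV : Module.rank k V < Cardinal.mk k) (T : Module.End k V) :
    ∃ P : Polynomial k, P.Monic ∧ ¬ IsUnit (Polynomial.aeval T P) := by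
  exact main hV T

end Groth.Agent.S9610
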