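import Groth.Statements.S9611
import Mathlib

set_option autoImplicit false
universe u
open CAlg

namespace Groth.Agent.S9611

/-- Let R be a Jacobson ring, p a prime ideal of R which is not maximal, and f an element of R not in p.
Then the set of primes of R containing p and not containing f is infinite. -/
theorem result {R : Type u} [CommRing R] [IsJacobsonRing R] (p : Ideal R) [p.IsPrime] (hp : ¬ p.IsMaximal) (f : R) (hf : f ∉ p) :
    {q : PrimeSpectrum R | p ≤ q.asIdeal ∧ f ∉ q.asIdeal}.Infinite := by
  classical
  intro hfin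
  -- the finitely many maximal ideals containing p, not containing f
  set T : Set (PrimeSpectrum R) := {q | p ≤ q.asIdeal ∧ f ∉ q.asIdeal} with hT
  set F : Finset (PrimeSpectrum R) := hfin.toFinset.filter (fun q ↦ q.asIdeal.IsMaximal) with hF
  have key : (F.inf fun q ↦ q.asIdeal) ≤ p := by
    intro x hx
    have hxf : x * f ∈ p := by
      have hj : p.jacobson = p := IsJacobsonRing.out' _ (Ideal.IsPrime.isRadical ‹_›)
      rw [← hj, Ideal.jacobson, Ideal.mem_sInf]
      rintro m ⟨hpm, hm⟩
      by_cases hfm : f ∈ m
      · exact m.mul_mem_left x hfm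
      · have : (⟨m, hm.isPrime⟩ : PrimeSpectrum R) ∈ F := by
          rw [hF, Finset.mem_filter, Set.Finite.mem_toFinset]
          exact ⟨⟨hpm, hfm⟩, hm⟩
        rw [Submodule.mem_finsetInf] at hx
        exact m.mul_mem_right f (hx _ this)
    exact (Ideal.IsPrime.mem_or_mem ‹_› hxf).resolve_right hf
  obtain ⟨q, hq, hqp⟩ := (Ideal.IsPrime.inf_le' ‹_›).mp key
  rw [hF, Finset.mem_filter, Set.Finite.mem_toFinset] at hq
  have : q.asIdeal = p := le_antisymm hqp hq.1.1
  exact hp (this ▸ hq.2)

end Groth.Agent.S9611
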