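import Groth.Statements.S9613
import Mathlib

set_option autoImplicit false
universe u
open CAlg

namespace Groth.Agent.S9613

theorem main {R K : Type u} [CommRing R] [Field K] [Algebra R K] (hinj : Function.Injective (algebraMap R K)) [Algebra.FiniteType R K] :
    ∃ f : R, f ≠ 0 ∧ ∃ Rf : Subalgebra R K, IsLocalization.Away f Rf ∧ IsField Rf ∧ Module.Finite Rf K := by
  classical
  haveI : IsDomain R := hinj.isDomain (algebraMap R K)
  haveI : Algebra.IsAlgebraic R K := by
    letI : Algebra (FractionRing R) K := (IsFractionRing.lift hinj).toAlgebra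
    haveI : IsScalarTower R (FractionRing R) K :=
      IsScalarTower.of_algebraMap_eq (fun x => (IsFractionRing.lift_algebraMap hinj x).symm)
    haveI : Algebra.FiniteType (FractionRing R) K := Algebra.FiniteType.of_restrictScalars_finiteType R _ K
    haveI : Module.Finite (FractionRing R) K := finite_of_finite_type_of_isJacobsonRing _ _
    exact (IsFractionRing.comap_isAlgebraic_iff (K := FractionRing R)).mpr (Algebra.IsAlgebraic.of_finite _ _)
  obtain ⟨s, hs⟩ := (Algebra.FiniteType.out : (⊤ : Subalgebra R K).FG)
  have h1 : ∀ x : K, ∃ y : R, y ≠ 0 ∧ IsIntegral R (y • x) :=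
    fun x => (Algebra.IsAlgebraic.isAlgebraic x).exists_integral_multiple
  choose y hy0 hyint using h1
  let f : R := ∏ x ∈ s, y x
  have hf0 : f ≠ 0 := Finset.prod_ne_zero_iff.mpr (fun x _ => hy0 x)
  have hfint : ∀ x ∈ s, IsIntegral R (f • x) := by
    intro x hx
    have : f = (∏ z ∈ s.erase x, y z) * y x := (Finset.prod_erase_mul _ _ hx).symm
    rw [this, mul_smul]
    exact IsIntegral.smul _ (hyint x)
  have hφf : algebraMap R K f ≠ 0 := fun h => hf0 (hinj (h.trans (map_zero _).symm))
  have hunits : ∀ z : Submonoid.powers f, IsUnit ((algebraMap R K) z) := by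
    rintro ⟨_, n, rfl⟩
    change IsUnit (algebraMap R K (f ^ n))
    rw [map_pow]
    exact (IsUnit.mk0 _ hφf).pow n
  let g0 : Localization.Away f →+* K := IsLocalization.lift (M := Submonoid.powers f) hunits
  have hg0inj : Function.Injective g0 := by
    refine (IsLocalization.lift_injective_iff (hg := hunits)).mpr ?_
    intro a b
    have hle : Submonoid.powers f ≤ nonZeroDivisors R :=
      powers_le_nonZeroDivisors_of_noZeroDivisors hf0
    constructor
    · intro h
      rw [IsLocalization.injective (Localization.Away f) hle h]
    · intro h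
      have : a = b := hinj h
      rw [this]
  let g : Localization.Away f →ₐ[R] K := { g0 with commutes' := fun r => IsLocalization.lift_eq hunits r }
  have hginj : Function.Injective g := hg0inj
  have hinv : (algebraMap R K f)⁻¹ ∈ g.range := by
    refine ⟨IsLocalization.mk' (Localization.Away f) 1 (⟨f, Submonoid.mem_powers f⟩ : Submonoid.powers f), ?_⟩
    change g0 _ = _
    apply eq_inv_of_mul_eq_one_left
    have h1 := IsLocalization.mk'_spec (Localization.Away f) (1 : R) (⟨f, Submonoid.mem_powers f⟩ : Submonoid.powers f)
    have h2 := congrArg g0 h1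
    rw [map_mul] at h2
    change g0 _ * g0 (algebraMap R _ f) = g0 (algebraMap R _ 1) at h2
    rw [IsLocalization.lift_eq hunits, IsLocalization.lift_eq hunits, map_one] at h2
    exact h2
  have hint : ∀ k : K, IsIntegral g.range k := by
    have hle : (⊤ : Subalgebra R K) ≤ (integralClosure g.range K).restrictScalars R := by
      rw [← hs]
      refine Algebra.adjoin_le ?_
      intro x hx
      change IsIntegral g.range x
      have e : x = algebraMap g.range K ⟨(algebraMap R K f)⁻¹, hinv⟩ * (f • x) := by
        change x = (algebraMap R K f)⁻¹ * (f • x)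
        rw [Algebra.smul_def, ← mul_assoc, inv_mul_cancel₀ hφf, one_mul]
      rw [e]
      exact IsIntegral.mul isIntegral_algebraMap (hfint x hx).tower_top
    intro k
    exact hle (Algebra.mem_top)
  haveI : Algebra.IsIntegral g.range K := ⟨hint⟩
  refine ⟨f, hf0, g.range, ?_, ?_, ?_⟩
  · exact IsLocalization.isLocalization_of_algEquiv (Submonoid.powers f) (AlgEquiv.ofInjective g hginj)
  · exact isField_of_isIntegral_of_isField (R := g.range) (S := K) Subtype.val_injective (Field.toIsField K)
  · haveI : Algebra.FiniteType g.range K := Algebra.FiniteType.of_restrictScalars_finiteType R _ K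
    exact Algebra.IsIntegral.finite

/-- Let R → K be an injective ring map into a field K which makes K an R-algebra of finite type. Then
for some nonzero f ∈ R the localization R_f is a field over which K is finite; here R_f is realised
as the R-subalgebra of K that is a localization of R away from f. -/
theorem result {R K : Type u} [CommRing R] [Field K] [Algebra R K] (hinj : Function.Injective (algebraMap R K)) [Algebra.FiniteType R K] :
    ∃ f : R, f ≠ 0 ∧ ∃ Rf : Subalgebra R K, IsLocalization.Away f Rf ∧ IsField Rf ∧ Module.Finite Rf K := by
  exact main hinj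

end Groth.Agent.S9613
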