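import Groth.Statements.S9614
import Mathlib

set_option autoImplicit false
universe u
open CAlg

namespace Groth.Agent.S9614

open DirectSum

section
variable {R S : Type u} [CommRing R] [CommRing S] [Algebra R S] (𝒜 : ℕ → Submodule R S) [GradedAlgebra 𝒜]
    (M : Type u) [AddCommGroup M] [Module R M] [Module S M] [IsScalarTower R S M] (ℳ : ℕ → Submodule R M) [DirectSum.Decomposition ℳ] [SetLike.GradedSMul 𝒜 ℳ]

/-- projection to degree d as additive map -/
noncomputable def πd (d : ℕ) : M →+ M :=
  AddMonoidHom.mk' (fun m => (decompose ℳ m d : M)) (by intro a b; simp [DirectSum.decompose_add])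

theorem πd_apply (d : ℕ) (m : M) : πd M ℳ d m = (decompose ℳ m d : M) := rfl

theorem πd_of_mem {d e : ℕ} {m : M} (hm : m ∈ ℳ e) : πd M ℳ d m = if e = d then m else 0 := by
  rw [πd_apply]
  split_ifs with h
  · subst h; exact decompose_of_mem_same ℳ hm
  · exact decompose_of_mem_ne ℳ hm h

theorem proj_smul_mem (N : Submodule S M) (d : ℕ) (s : S) (m : M)
    (H : ∀ e e', e + e' = d → (decompose 𝒜 s e : S) • (decompose ℳ m e' : M) ∈ N) :
    πd M ℳ d (s • m) ∈ N := by
  classical
  have e1 : s • m = ∑ e ∈ (decompose 𝒜 s).support, ∑ e' ∈ (decompose ℳ m).support,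
      (decompose 𝒜 s e : S) • (decompose ℳ m e' : M) := by
    conv_lhs => rw [← DirectSum.sum_support_decompose 𝒜 s, ← DirectSum.sum_support_decompose ℳ m]
    rw [Finset.sum_smul]
    refine Finset.sum_congr rfl (fun e _ => ?_)
    rw [Finset.smul_sum]
  rw [e1, map_sum]
  refine N.sum_mem (fun e _ => ?_)
  rw [map_sum]
  refine N.sum_mem (fun e' _ => ?_)
  have hmem : (decompose 𝒜 s e : S) • (decompose ℳ m e' : M) ∈ ℳ (e + e') :=
    SetLike.GradedSMul.smul_mem (decompose 𝒜 s e).2 (decompose ℳ m e').2
  rw [πd_of_mem M ℳ hmem]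
  split_ifs with h
  · exact H e e' h
  · exact N.zero_mem

end

/-- Let S be an ℕ-graded ring and M a finitely generated graded S-module, graded in nonnegative degrees
(the source allows all integer degrees). If x_1, …, x_n are homogeneous elements of M which generate
M modulo S₊ M (S₊ the irrelevant ideal), then x_1, …, x_n generate M. -/
theorem result {R S : Type u} [CommRing R] [CommRing S] [Algebra R S] (𝒜 : ℕ → Submodule R S) [GradedAlgebra 𝒜]
    (M : Type u) [AddCommGroup M] [Module R M] [Module S M] [IsScalarTower R S M] [Module.Finite S M] (ℳ : ℕ → Submodule R M) [DirectSum.Decomposition ℳ] [SetLike.GradedSMul 𝒜 ℳ]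
    {n : ℕ} (x : Fin n → M) (hx : ∀ i, SetLike.IsHomogeneousElem ℳ (x i))
    (h : Submodule.span S (Set.range x) ⊔ (HomogeneousIdeal.irrelevant 𝒜).toIdeal • (⊤ : Submodule S M) = ⊤) :
    Submodule.span S (Set.range x) = ⊤ := by
  classical
  set N := Submodule.span S (Set.range x) with hN
  have hxN : ∀ i, x i ∈ N := fun i => Submodule.subset_span ⟨i, rfl⟩
  have key : ∀ d, ∀ m ∈ ℳ d, m ∈ N := by
    intro d
    induction d using Nat.strong_induction_on with
    | _ d ih =>
      intro m hm
      have hm1 : πd M ℳ d m = m := by rw [πd_of_mem M ℳ hm, if_pos rfl]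
      have hmtop : m ∈ N ⊔ (HomogeneousIdeal.irrelevant 𝒜).toIdeal • (⊤ : Submodule S M) := by
        rw [h]; trivial
      obtain ⟨n0, hn0, z, hz, rfl⟩ := Submodule.mem_sup.mp hmtop
      rw [← hm1, map_add]
      refine N.add_mem ?_ ?_
      · obtain ⟨c, rfl⟩ := (Submodule.mem_span_range_iff_exists_fun S).mp hn0
        rw [map_sum]
        refine N.sum_mem (fun i _ => ?_)
        apply proj_smul_mem 𝒜 M ℳ N d (c i) (x i)
        intro e e' _
        apply N.smul_mem
        obtain ⟨k, hk⟩ := hx i
        have := πd_of_mem M ℳ (d := e') hk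
        rw [πd_apply] at this
        rw [this]
        split_ifs
        · exact hxN i
        · exact N.zero_mem
      · refine Submodule.smul_induction_on hz ?_ ?_
        · intro a ha m' _
          apply proj_smul_mem 𝒜 M ℳ N d a m'
          intro e e' hee'
          by_cases he : e = 0
          · subst he
            have : (decompose 𝒜 a 0 : S) = 0 := ha
            rw [this, zero_smul]
            exact N.zero_mem
          · apply N.smul_mem
            exact ih e' (by omega) _ (decompose ℳ m' e').2
        · intro y y' hy hy'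
          rw [map_add]
          exact N.add_mem hy hy'
  rw [eq_top_iff]
  intro m _
  rw [← DirectSum.sum_support_decompose ℳ m]
  exact N.sum_mem (fun i _ => key i _ (decompose ℳ m i).2)

end Groth.Agent.S9614
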