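import Groth.Statements.S9615
import Mathlib

set_option autoImplicit false
universe u
open CAlg

namespace Groth.Agent.S9615

open Polynomial DirectSum in
/-- the ring hom `s ↦ Σ sᵢ Xⁱ` -/
noncomputable def toPoly {S : Type*} [CommRing S] (𝒮 : ℕ → AddSubgroup S) [GradedRing 𝒮] :
    S →+* S[X] :=
  (DirectSum.toSemiring
    (fun i => ((monomial i : S →ₗ[S] S[X]).toAddMonoidHom).comp (𝒮 i).subtype)
    (by simp [GradedMonoid.GOne.one])
    (by intro i j a b; simp [GradedMonoid.GMul.mul, monomial_mul_monomial])).comp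
  (DirectSum.decomposeRingEquiv 𝒮).toRingHom

open Polynomial DirectSum in
lemma toPoly_coe {S : Type*} [CommRing S] (𝒮 : ℕ → AddSubgroup S) [GradedRing 𝒮] (i : ℕ)
    (x : S) (hx : x ∈ 𝒮 i) : toPoly 𝒮 x = monomial i x := by
  have : DirectSum.decomposeRingEquiv 𝒮 x = DirectSum.of (fun i => 𝒮 i) i ⟨x, hx⟩ :=
    DirectSum.decompose_coe 𝒮 (⟨x, hx⟩ : 𝒮 i)
  simp only [toPoly, RingHom.coe_comp, Function.comp_apply, RingEquiv.toRingHom_eq_coe,
    RingHom.coe_coe, this]
  exact DirectSum.toSemiring_of (A := fun i => 𝒮 i) _ _ _ i (⟨x, hx⟩ : 𝒮 i)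

open Polynomial DirectSum in
lemma coeff_toPoly {S : Type*} [CommRing S] (𝒮 : ℕ → AddSubgroup S) [GradedRing 𝒮] (s : S)
    (i : ℕ) : (toPoly 𝒮 s).coeff i = ((DirectSum.decompose 𝒮 s i : 𝒮 i) : S) := by
  classical
  induction s using DirectSum.Decomposition.inductionOn 𝒮 with
  | zero => simp
  | homogeneous x =>
    rename_i j
    rw [toPoly_coe 𝒮 j x x.2, coeff_monomial, DirectSum.decompose_coe, DirectSum.of_apply]
    split_ifs with h
    · subst h; rfl
    · rfl
  | add a b ha hb =>
    rw [map_add, coeff_add, ha, hb, DirectSum.decompose_add, DirectSum.add_apply,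
      AddSubgroup.coe_add]

open Polynomial DirectSum in
lemma toPoly_algebraMap {R S : Type*} [CommRing R] [CommRing S] [Algebra R S]
    (ℛ : ℕ → AddSubgroup R) [GradedRing ℛ] (𝒮 : ℕ → AddSubgroup S) [GradedRing 𝒮]
    (hmap : ∀ i : ℕ, ∀ r ∈ ℛ i, algebraMap R S r ∈ 𝒮 i) (r : R) :
    toPoly 𝒮 (algebraMap R S r) = (toPoly ℛ r).map (algebraMap R S) := by
  classical
  induction r using DirectSum.Decomposition.inductionOn ℛ with
  | zero => simp
  | homogeneous x =>
    rename_i j
    rw [toPoly_coe ℛ j x x.2, toPoly_coe 𝒮 j _ (hmap j x x.2), Polynomial.map_monomial]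
  | add a b ha hb =>
    rw [map_add, map_add, ha, hb, map_add, Polynomial.map_add]

/-- Let R → S be a homomorphism of ℕ-graded rings, i.e. the structure map carries each graded piece R_i
into S_i. If an element s of S is integral over R, then each homogeneous component of s is integral
over R; so the integral closure of R in S is a graded subring of S. -/
theorem result {R S : Type u} [CommRing R] [CommRing S] [Algebra R S] (ℛ : ℕ → AddSubgroup R) [GradedRing ℛ] (𝒮 : ℕ → AddSubgroup S) [GradedRing 𝒮]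
    (hmap : ∀ i : ℕ, ∀ r ∈ ℛ i, algebraMap R S r ∈ 𝒮 i) (s : S) (hs : IsIntegral R s) (i : ℕ) :
    IsIntegral R ((DirectSum.decompose 𝒮 s i : 𝒮 i) : S) := by
  letI := Polynomial.algebra (R := R) (A := S)
  have h := hs.map_of_comp_eq (toPoly ℛ) (toPoly 𝒮) (by
    apply RingHom.ext
    intro r
    simp only [RingHom.coe_comp, Function.comp_apply]
    rw [toPoly_algebraMap ℛ 𝒮 hmap]
    rfl)
  have := h.coeff i
  rwa [coeff_toPoly] at this

end Groth.Agent.S9615
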