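import Groth.Statements.S9616
import Mathlib

set_option autoImplicit false
universe u
open CAlg

namespace Groth.Agent.S9616

open DirectSum

section
variable {R S : Type u} [CommRing R] [CommRing S] [Algebra R S] (𝒜 : ℕ → Submodule R S) [GradedAlgebra 𝒜]

theorem exists_homogeneous_not_mem (J P : HomogeneousIdeal 𝒜) (h : ¬ J ≤ P) :
    ∃ z : S, ∃ d : ℕ, z ∈ 𝒜 d ∧ z ∈ J ∧ z ∉ P := by
  classical
  obtain ⟨z, hzJ, hzP⟩ := SetLike.not_le_iff_exists.mp h
  by_contra hcon
  push_neg at hcon
  apply hzP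
  have : z ∈ P.toIdeal := by
    rw [← DirectSum.sum_support_decompose 𝒜 z]
    refine P.toIdeal.sum_mem (fun d _ => ?_)
    exact hcon _ d (decompose 𝒜 z d).2 (J.isHomogeneous d hzJ)
  exact this

theorem avoid {ι : Type*} (f : ι → HomogeneousIdeal 𝒜) (I : HomogeneousIdeal 𝒜)
    (hI : I ≤ HomogeneousIdeal.irrelevant 𝒜) (s : Finset ι) :
    (∀ i ∈ s, (f i).toIdeal.IsPrime) → (∀ i ∈ s, ¬ I ≤ f i) →
    ∃ x : S, ∃ d : ℕ, 0 < d ∧ x ∈ 𝒜 d ∧ x ∈ I ∧ ∀ i ∈ s, x ∉ f i := by
  classical
  induction s using Finset.strongInduction with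
  | H s ih =>
    intro hp h
    rcases s.eq_empty_or_nonempty with rfl | hne
    · exact ⟨0, 1, Nat.one_pos, (𝒜 1).zero_mem, I.toIdeal.zero_mem, by simp⟩
    obtain ⟨a, has, hamin⟩ := s.exists_minimalFor f hne
    obtain ⟨x, d, hd, hxd, hxI, hx⟩ := ih (s.erase a) (Finset.erase_ssubset has)
      (fun i hi => hp i (Finset.mem_of_mem_erase hi)) (fun i hi => h i (Finset.mem_of_mem_erase hi))
    by_cases hxa : x ∈ f a
    · by_cases hex : ∃ j ∈ s.erase a, f j ≤ f a
      · obtain ⟨j, hj, hja⟩ := hex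
        exact absurd (hamin (Finset.mem_of_mem_erase hj) hja hxa) (hx j hj)
      · push_neg at hex
        have hz : ∀ j, ∃ z : S, ∃ e : ℕ, j ∈ s.erase a → (z ∈ 𝒜 e ∧ z ∈ f j ∧ z ∉ f a) := by
          intro j
          by_cases hj : j ∈ s.erase a
          · obtain ⟨z, e, h1, h2, h3⟩ := exists_homogeneous_not_mem 𝒜 (f j) (f a) (hex j hj)
            exact ⟨z, e, fun _ => ⟨h1, h2, h3⟩⟩
          · exact ⟨0, 0, fun h => absurd h hj⟩
        choose z e hze using hz
        obtain ⟨w, ew, hw1, hw2, hw3⟩ := exists_homogeneous_not_mem 𝒜 I (f a) (h a has)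
        haveI := hp a has
        set y := w * ∏ j ∈ s.erase a, z j with hy
        set E := ew + ∑ j ∈ s.erase a, e j with hE
        have hyE : y ∈ 𝒜 E :=
          SetLike.mul_mem_graded hw1 (SetLike.prod_mem_graded 𝒜 e z (fun j hj => (hze j hj).1))
        have hyI : y ∈ I := I.toIdeal.mul_mem_right _ hw2
        have hyj : ∀ j ∈ s.erase a, y ∈ f j := by
          intro j hj
          apply (f j).toIdeal.mul_mem_left
          exact Ideal.mem_of_dvd _ (Finset.dvd_prod_of_mem z hj) (hze j hj).2.1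
        have hya : y ∉ f a := by
          intro hmem
          rcases (hp a has).mem_or_mem hmem with h1 | h1
          · exact hw3 h1
          · obtain ⟨j, hj, hjm⟩ := Ideal.IsPrime.prod_mem_iff.mp h1
            exact (hze j hj).2.2 hjm
        have hEpos : 0 < E := by
          rcases Nat.eq_zero_or_pos E with h0 | h0
          · exfalso
            apply hya
            have hy0 : y ∈ HomogeneousIdeal.irrelevant 𝒜 := hI hyI
            rw [HomogeneousIdeal.mem_irrelevant_iff, GradedRing.proj_apply] at hy0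
            rw [h0] at hyE
            rw [decompose_of_mem_same 𝒜 hyE] at hy0
            rw [hy0]
            exact (f a).toIdeal.zero_mem
          · exact h0
        refine ⟨x ^ E + y ^ d, E * d, Nat.mul_pos hEpos hd, ?_, ?_, ?_⟩
        · refine (𝒜 (E * d)).add_mem ?_ ?_
          · have := SetLike.pow_mem_graded E hxd
            rwa [smul_eq_mul] at this
          · have := SetLike.pow_mem_graded d hyE
            rwa [smul_eq_mul, mul_comm] at this
        · exact I.toIdeal.add_mem (I.toIdeal.pow_mem_of_mem hxI E hEpos) (I.toIdeal.pow_mem_of_mem hyI d hd)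
        · intro i hi hmem
          by_cases hia : i = a
          · subst hia
            have h1 : x ^ E ∈ (f i).toIdeal := (f i).toIdeal.pow_mem_of_mem hxa E hEpos
            have h2 : y ^ d ∈ (f i).toIdeal := by
              have := (f i).toIdeal.sub_mem hmem h1
              simpa using this
            exact hya ((hp i has).mem_of_pow_mem d h2)
          · have hi' : i ∈ s.erase a := Finset.mem_erase.mpr ⟨hia, hi⟩
            have h1 : y ^ d ∈ (f i).toIdeal := (f i).toIdeal.pow_mem_of_mem (hyj i hi') d hd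
            have h2 : x ^ E ∈ (f i).toIdeal := by
              have := (f i).toIdeal.sub_mem hmem h1
              simpa using this
            exact hx i hi' ((hp i hi).mem_of_pow_mem E h2)
    · refine ⟨x, d, hd, hxd, hxI, ?_⟩
      intro i hi
      by_cases hia : i = a
      · subst hia; exact hxa
      · exact hx i (Finset.mem_erase.mpr ⟨hia, hi⟩)

end

/-- Let S be an ℕ-graded ring, p_1, …, p_r homogeneous prime ideals of S and I ⊆ S₊ a homogeneous ideal
not contained in any p_i. Then there is a homogeneous element x ∈ I of positive degree with x ∉ p_i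
for all i. -/
theorem result {R S : Type u} [CommRing R] [CommRing S] [Algebra R S] (𝒜 : ℕ → Submodule R S) [GradedAlgebra 𝒜]
    {r : ℕ} (p : Fin r → HomogeneousIdeal 𝒜) (hp : ∀ i, (p i).toIdeal.IsPrime) (I : HomogeneousIdeal 𝒜) (hI : I ≤ HomogeneousIdeal.irrelevant 𝒜) (h : ∀ i, ¬ I ≤ p i) :
    ∃ x : S, ∃ d : ℕ, 0 < d ∧ x ∈ 𝒜 d ∧ x ∈ I ∧ ∀ i, x ∉ p i := by
  obtain ⟨x, d, hd, h1, h2, h3⟩ := avoid 𝒜 p I hI Finset.univ (fun i _ => hp i) (fun i _ => h i)
  exact ⟨x, d, hd, h1, h2, fun i => h3 i (Finset.mem_univ i)⟩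

end Groth.Agent.S9616
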