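import Groth.Statements.S9617
import Mathlib

set_option autoImplicit false
universe u
open CAlg

namespace Groth.Agent.S9617

open DirectSum Pointwise

section
variable {A S : Type u} [CommRing A] [CommRing S] [Algebra A S] (𝒜 : ℕ → Submodule A S) [GradedAlgebra 𝒜]
    (M : Type u) [AddCommGroup M] [Module A M] [Module S M] [IsScalarTower A S M] (ℳ : ℕ → Submodule A M) [DirectSum.Decomposition ℳ] [SetLike.GradedSMul 𝒜 ℳ]

/-- projection to degree n as an `A`-linear map -/
noncomputable def πn (n : ℕ) : M →ₗ[A] ℳ n :=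
  (DirectSum.component A ℕ (fun i => ℳ i) n).comp (DirectSum.decomposeLinearEquiv ℳ).toLinearMap

theorem πn_apply (n : ℕ) (m : M) : πn M ℳ n m = decompose ℳ m n := rfl

theorem πn_of_mem {n e : ℕ} {m : M} (hm : m ∈ ℳ e) : (πn M ℳ n m : M) = if e = n then m else 0 := by
  rw [πn_apply]
  split_ifs with h
  · subst h; exact decompose_of_mem_same ℳ hm
  · exact decompose_of_mem_ne ℳ hm h

/-- homogeneous algebra generators of positive degree -/
theorem exists_gens (h0 : ∀ s ∈ 𝒜 0, s ∈ Set.range (algebraMap A S)) [Algebra.FiniteType A S] :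
    ∃ H : Finset S, Algebra.adjoin A (H : Set S) = ⊤ ∧ ∀ h ∈ H, ∃ d : ℕ, 1 ≤ d ∧ h ∈ 𝒜 d := by
  classical
  obtain ⟨G, hG⟩ := (Algebra.FiniteType.out : (⊤ : Subalgebra A S).FG)
  refine ⟨G.biUnion (fun g => ((decompose 𝒜 g).support.erase 0).image (fun d => (decompose 𝒜 g d : S))), ?_, ?_⟩
  · rw [eq_top_iff, ← hG]
    refine Algebra.adjoin_le ?_
    intro g hg
    rw [SetLike.mem_coe, ← DirectSum.sum_support_decompose 𝒜 g]
    refine Subalgebra.sum_mem _ (fun d hd => ?_)
    by_cases hd0 : d = 0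
    · subst hd0
      obtain ⟨a, ha⟩ := h0 _ (decompose 𝒜 g 0).2
      rw [← ha]
      exact Subalgebra.algebraMap_mem _ a
    · apply Algebra.subset_adjoin
      rw [Finset.mem_coe, Finset.mem_biUnion]
      exact ⟨g, hg, Finset.mem_image.mpr ⟨d, Finset.mem_erase.mpr ⟨hd0, hd⟩, rfl⟩⟩
  · intro h hh
    rw [Finset.mem_biUnion] at hh
    obtain ⟨g, -, hh⟩ := hh
    rw [Finset.mem_image] at hh
    obtain ⟨d, hd, rfl⟩ := hh
    exact ⟨d, Nat.one_le_iff_ne_zero.mpr (Finset.mem_erase.mp hd).1, (decompose 𝒜 g d).2⟩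

/-- homogeneous module generators -/
theorem exists_mgens [Module.Finite S M] :
    ∃ F : Finset M, Submodule.span S (F : Set M) = ⊤ ∧ ∀ f ∈ F, ∃ d : ℕ, f ∈ ℳ d := by
  classical
  obtain ⟨G, hG⟩ := (Module.Finite.fg_top : (⊤ : Submodule S M).FG)
  refine ⟨G.biUnion (fun g => ((decompose ℳ g).support).image (fun d => (decompose ℳ g d : M))), ?_, ?_⟩
  · rw [eq_top_iff, ← hG]
    refine Submodule.span_le.mpr ?_
    intro g hg
    rw [SetLike.mem_coe, ← DirectSum.sum_support_decompose ℳ g]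
    refine Submodule.sum_mem _ (fun d hd => ?_)
    apply Submodule.subset_span
    rw [Finset.mem_coe, Finset.mem_biUnion]
    exact ⟨g, hg, Finset.mem_image.mpr ⟨d, hd, rfl⟩⟩
  · intro h hh
    rw [Finset.mem_biUnion] at hh
    obtain ⟨g, -, hh⟩ := hh
    rw [Finset.mem_image] at hh
    obtain ⟨d, hd, rfl⟩ := hh
    exact ⟨d, (decompose ℳ g d).2⟩

theorem main (h0 : ∀ s ∈ 𝒜 0, s ∈ Set.range (algebraMap A S)) [Algebra.FiniteType A S] [Module.Finite S M] (n : ℕ) :
    Module.Finite A (ℳ n) := by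
  classical
  obtain ⟨H, hH, hHdeg⟩ := exists_gens 𝒜 h0
  obtain ⟨F, hF, hFdeg⟩ := exists_mgens M ℳ (S := S)
  have hHdeg' : ∀ h : S, ∃ d : ℕ, h ∈ H → (1 ≤ d ∧ h ∈ 𝒜 d) := by
    intro h
    by_cases hh : h ∈ H
    · obtain ⟨d, h1, h2⟩ := hHdeg h hh
      exact ⟨d, fun _ => ⟨h1, h2⟩⟩
    · exact ⟨0, fun h' => absurd h' hh⟩
  choose deg hdeg using hHdeg'
  -- the finite spanning set
  let Z : Set M := Set.range (fun (p : (↥H → Fin (n+1)) × ↥F) => (∏ h : ↥H, (h : S) ^ (p.1 h : ℕ)) • (p.2 : M))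
  have hZfin : Z.Finite := Set.finite_range _
  -- spanning
  have hspanS : Submodule.span A (Submonoid.closure (H : Set S) : Set S) = ⊤ := by
    rw [← Algebra.adjoin_eq_span, hH]; rfl
  have hspanM : Submodule.span A ((Submonoid.closure (H : Set S) : Set S) • (F : Set M)) = ⊤ := by
    rw [Submodule.span_smul_of_span_eq_top hspanS, hF]; rfl
  have himg : ∀ x ∈ ((Submonoid.closure (H : Set S) : Set S) • (F : Set M)), ((πn M ℳ n x : ℳ n) : M) ∈ Submodule.span A Z := by
    rintro _ ⟨t, ht, f, hf, rfl⟩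
    obtain ⟨e, rfl⟩ := Submonoid.mem_closure_finset'.mp ht
    obtain ⟨k, hk⟩ := hFdeg f hf
    have ht' : (∏ i : ↥H, (i : S) ^ e i) ∈ 𝒜 (∑ i : ↥H, e i * deg i) := by
      refine SetLike.prod_mem_graded 𝒜 (fun i : ↥H => e i * deg i) (fun i : ↥H => (i : S) ^ e i) (fun i _ => ?_)
      have := SetLike.pow_mem_graded (e i) (hdeg i i.2).2
      rwa [smul_eq_mul] at this
    have hmem : (∏ i : ↥H, (i : S) ^ e i) • f ∈ ℳ ((∑ i : ↥H, e i * deg i) + k) :=
      SetLike.GradedSMul.smul_mem ht' hk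
    change (∏ i : ↥H, (i : S) ^ e i) • f ∈ ℳ ((∑ i : ↥H, e i * deg i) + k) at hmem
    rw [πn_of_mem M ℳ hmem]
    split_ifs with hdn
    · apply Submodule.subset_span
      have hle : ∀ i : ↥H, e i < n + 1 := by
        intro i
        have h1 : e i * deg i ≤ ∑ i : ↥H, e i * deg i :=
          Finset.single_le_sum (f := fun i : ↥H => e i * deg i) (fun _ _ => Nat.zero_le _) (Finset.mem_univ i)
        have h2 : e i ≤ e i * deg i := Nat.le_mul_of_pos_right _ (hdeg i i.2).1
        omega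
      exact ⟨(fun i => ⟨e i, hle i⟩, ⟨f, hf⟩), rfl⟩
    · exact Submodule.zero_mem _
  have hmain : ∀ m ∈ ℳ n, m ∈ Submodule.span A Z := by
    intro m hm
    have h1 : ((πn M ℳ n m : ℳ n) : M) = m := by rw [πn_of_mem M ℳ hm, if_pos rfl]
    have h2 : m ∈ Submodule.span A ((Submonoid.closure (H : Set S) : Set S) • (F : Set M)) := by
      rw [hspanM]; trivial
    rw [← h1]
    refine Submodule.span_induction (p := fun x _ => ((πn M ℳ n x : ℳ n) : M) ∈ Submodule.span A Z) ?_ ?_ ?_ ?_ h2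
    · intro x hx; exact himg x hx
    · simp
    · intro x y _ _ hx hy
      rw [map_add, Submodule.coe_add]
      exact Submodule.add_mem _ hx hy
    · intro a x _ hx
      rw [map_smul, Submodule.coe_smul]
      exact Submodule.smul_mem _ a hx
  -- conclude
  constructor
  have hfg : (Submodule.map (πn M ℳ n) (Submodule.span A Z)).FG :=
    (Submodule.fg_span hZfin).map _
  convert hfg
  rw [eq_comm, eq_top_iff]
  intro x _
  refine ⟨x.1, hmain x.1 x.2, ?_⟩
  apply Subtype.ext
  rw [πn_of_mem M ℳ x.2, if_pos rfl]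

end

/-- Let S be an ℕ-graded ring, presented as a graded algebra over a ring A mapping onto S₀, such that S
is of finite type over A, i.e. over S₀. If M is a finitely generated graded S-module, graded in
nonnegative degrees (the source allows all integer degrees), then each graded piece M_n is a finite
module over A, i.e. over S₀. -/
theorem result {A S : Type u} [CommRing A] [CommRing S] [Algebra A S] (𝒜 : ℕ → Submodule A S) [GradedAlgebra 𝒜]
    (h0 : ∀ s ∈ 𝒜 0, s ∈ Set.range (algebraMap A S)) [Algebra.FiniteType A S]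
    (M : Type u) [AddCommGroup M] [Module A M] [Module S M] [IsScalarTower A S M] [Module.Finite S M] (ℳ : ℕ → Submodule A M) [DirectSum.Decomposition ℳ] [SetLike.GradedSMul 𝒜 ℳ] (n : ℕ) :
    Module.Finite A (ℳ n) := by
  exact main 𝒜 M ℳ h0 n

end Groth.Agent.S9617
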