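import Groth.Statements.S9620
import Mathlib

set_option autoImplicit false
universe u
open CAlg

namespace Groth.Agent.S9620

section
variable {R : Type u} [CommRing R]

/-- the idempotents in a prime -/
def Ep (p : PrimeSpectrum R) : Set R := {e : R | IsIdempotentElem e ∧ e ∈ p.asIdeal}

theorem idem_mem_or (p : PrimeSpectrum R) (e : R) (he : IsIdempotentElem e) :
    e ∈ Ep p ∨ 1 - e ∈ Ep p := by
  have : e * (1 - e) ∈ p.asIdeal := by
    have h0 : e * (1 - e) = 0 := by rw [mul_sub, mul_one, he.eq, sub_self]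
    rw [h0]; exact p.asIdeal.zero_mem
  rcases p.isPrime.mem_or_mem this with h | h
  · exact Or.inl ⟨he, h⟩
  · exact Or.inr ⟨he.one_sub, h⟩

theorem exists_idem_of_mem_span (p : PrimeSpectrum R) (y : R) (hy : y ∈ Ideal.span (Ep p)) :
    ∃ e ∈ Ep p, y * e = y := by
  induction hy using Submodule.span_induction with
  | mem y hy => exact ⟨y, hy, hy.1.eq⟩
  | zero => exact ⟨0, ⟨IsIdempotentElem.zero, p.asIdeal.zero_mem⟩, by simp⟩
  | add y1 y2 _ _ ih1 ih2 =>
    obtain ⟨e1, he1, h1⟩ := ih1
    obtain ⟨e2, he2, h2⟩ := ih2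
    refine ⟨e1 + e2 - e1 * e2, ⟨?_, ?_⟩, ?_⟩
    · have a1 := he1.1.eq
      have a2 := he2.1.eq
      change (e1 + e2 - e1 * e2) * (e1 + e2 - e1 * e2) = e1 + e2 - e1 * e2
      have : (e1 + e2 - e1 * e2) * (e1 + e2 - e1 * e2) =
          e1 * e1 + e2 * e2 + 2 * e1 * e2 - 2 * (e1 * e1) * e2 - 2 * e1 * (e2 * e2) + (e1 * e1) * (e2 * e2) := by ring
      rw [this, a1, a2]; ring
    · exact p.asIdeal.sub_mem (p.asIdeal.add_mem he1.2 he2.2) (p.asIdeal.mul_mem_left _ he2.2)
    · have a1 := he1.1.eq
      have a2 := he2.1.eq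
      have e1' : y1 * (e1 + e2 - e1 * e2) = y1 := by
        calc y1 * (e1 + e2 - e1 * e2) = (y1 * e1) * (e1 + e2 - e1 * e2) := by rw [h1]
          _ = y1 * (e1 * e1 + e1 * e2 - (e1 * e1) * e2) := by ring
          _ = y1 * e1 := by rw [a1]; ring
          _ = y1 := h1
      have e2' : y2 * (e1 + e2 - e1 * e2) = y2 := by
        calc y2 * (e1 + e2 - e1 * e2) = (y2 * e2) * (e1 + e2 - e1 * e2) := by rw [h2]
          _ = y2 * (e1 * e2 + e2 * e2 - e1 * (e2 * e2)) := by ring
          _ = y2 * e2 := by rw [a2]; ring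
          _ = y2 := h2
      rw [add_mul, e1', e2']
  | smul r y _ ih =>
    obtain ⟨e, he, h⟩ := ih
    exact ⟨e, he, by rw [smul_eq_mul, mul_assoc, h]⟩

theorem quot_idem (p : PrimeSpectrum R) (z : R ⧸ Ideal.span (Ep p)) (hz : IsIdempotentElem z) :
    z = 0 ∨ z = 1 := by
  obtain ⟨x, rfl⟩ := Ideal.Quotient.mk_surjective z
  have hx : x * x - x ∈ Ideal.span (Ep p) := by
    rw [← Ideal.Quotient.eq, map_mul]; exact hz.eq
  obtain ⟨e, he, hxe⟩ := exists_idem_of_mem_span p _ hx
  have hee := he.1.eq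
  have hidem : IsIdempotentElem (x * (1 - e)) := by
    change x * (1 - e) * (x * (1 - e)) = x * (1 - e)
    have h1 : x * (1 - e) * (x * (1 - e)) = (x * x) * (1 - 2 * e + e * e) := by ring
    have h2 : (x * x - x) * (1 - e) = 0 := by
      rw [← hxe]
      have : (x * x - x) * e * (1 - e) = (x * x - x) * (e - e * e) := by ring
      rw [this, hee, sub_self, mul_zero]
    rw [h1, hee]
    have : x * x * (1 - 2 * e + e) = (x * x - x) * (1 - e) + x * (1 - e) := by ring
    rw [this, h2, zero_add]
  have hmk : Ideal.Quotient.mk (Ideal.span (Ep p)) (x * (1 - e)) = Ideal.Quotient.mk _ x := by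
    rw [Ideal.Quotient.eq]
    have : x * (1 - e) - x = -(x * e) := by ring
    rw [this]
    exact Ideal.neg_mem_iff _ |>.mpr (Ideal.mul_mem_left _ _ (Ideal.subset_span he))
  rcases idem_mem_or p _ hidem with h | h
  · left
    rw [← hmk, Ideal.Quotient.eq_zero_iff_mem]
    exact Ideal.subset_span h
  · right
    rw [← hmk, ← sub_eq_zero, ← neg_eq_zero, neg_sub, ← map_one (Ideal.Quotient.mk _), ← map_sub,
      Ideal.Quotient.eq_zero_iff_mem]
    exact Ideal.subset_span h

theorem isPreconnected_zeroLocus (p : PrimeSpectrum R) :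
    IsPreconnected (PrimeSpectrum.zeroLocus (Ep p)) := by
  haveI : PreconnectedSpace (PrimeSpectrum (R ⧸ Ideal.span (Ep p))) := by
    rw [preconnectedSpace_iff_clopen]
    intro s hs
    obtain ⟨z, hz, rfl⟩ := PrimeSpectrum.isClopen_iff.mp hs
    rcases quot_idem p z hz with rfl | rfl
    · left; simp
    · right; simp
  have hsurj : Function.Surjective (Ideal.Quotient.mk (Ideal.span (Ep p))) := Ideal.Quotient.mk_surjective
  have hr := range_comap_of_surjective _ (Ideal.Quotient.mk (Ideal.span (Ep p))) hsurj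
  rw [Ideal.mk_ker, PrimeSpectrum.zeroLocus_span] at hr
  rw [← hr, ← Set.image_univ]
  exact isPreconnected_univ.image _ (PrimeSpectrum.continuous_comap _).continuousOn

theorem connComp_eq (p : PrimeSpectrum R) :
    connectedComponent p = PrimeSpectrum.zeroLocus (Ep p) := by
  apply le_antisymm
  · intro q hq
    rw [PrimeSpectrum.mem_zeroLocus]
    intro e he
    have hclopen : IsClopen (PrimeSpectrum.zeroLocus ({e} : Set R)) :=
      PrimeSpectrum.isClopen_iff_zeroLocus.mpr ⟨e, he.1, rfl⟩
    have hp : p ∈ PrimeSpectrum.zeroLocus ({e} : Set R) := by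
      rw [PrimeSpectrum.mem_zeroLocus, Set.singleton_subset_iff]; exact he.2
    have := hclopen.connectedComponent_subset hp hq
    rw [PrimeSpectrum.mem_zeroLocus, Set.singleton_subset_iff] at this
    exact this
  · apply (isPreconnected_zeroLocus p).subset_connectedComponent
    rw [PrimeSpectrum.mem_zeroLocus]
    intro e he
    exact he.2

end

/-- For a ring R and a point p of Spec R, the connected component of p is the zero locus of the ideal I
generated by the idempotents of R contained in p, and every idempotent e of R satisfies e ∈ I or 1 -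
e ∈ I (e maps to 0 or 1 in R/I). -/
theorem result {R : Type u} [CommRing R] (p : PrimeSpectrum R) :
    connectedComponent p = PrimeSpectrum.zeroLocus {e : R | IsIdempotentElem e ∧ e ∈ p.asIdeal} ∧
      ∀ e : R, IsIdempotentElem e → (e ∈ Ideal.span {e : R | IsIdempotentElem e ∧ e ∈ p.asIdeal} ∨ 1 - e ∈ Ideal.span {e : R | IsIdempotentElem e ∧ e ∈ p.asIdeal}) := by
  refine ⟨connComp_eq p, ?_⟩
  intro e he
  rcases idem_mem_or p e he with h | h
  · exact Or.inl (Ideal.subset_span h)
  · exact Or.inr (Ideal.subset_span h)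

end Groth.Agent.S9620
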