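import Groth.Statements.S9618
import Mathlib
import Groth.Agent.S9620

set_option autoImplicit false
universe u
open CAlg

namespace Groth.Agent.S9618

theorem idem_prod {R : Type u} [CommRing R] {ι : Type*} (t : Finset ι) (e : ι → R)
    (h : ∀ i ∈ t, IsIdempotentElem (e i)) : IsIdempotentElem (∏ i ∈ t, e i) := by
  classical
  induction t using Finset.induction_on with
  | empty => simp [IsIdempotentElem]
  | insert a t ha ih =>
    rw [Finset.prod_insert ha]
    exact (h a (Finset.mem_insert_self a t)).mul (ih (fun i hi => h i (Finset.mem_insert_of_mem hi)))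

theorem one_three {R : Type u} [CommRing R] (T : Set (PrimeSpectrum R))
    (hT : IsClosed T) (hcc : ∀ x ∈ T, connectedComponent x ⊆ T) :
    ∃ E : Set R, (∀ e ∈ E, IsIdempotentElem e) ∧ T = PrimeSpectrum.zeroLocus E := by
  classical
  refine ⟨{e | IsIdempotentElem e ∧ T ⊆ PrimeSpectrum.zeroLocus {e}}, fun e he => he.1, ?_⟩
  apply Set.Subset.antisymm
  · intro q hq
    rw [PrimeSpectrum.mem_zeroLocus]
    intro e he
    have := he.2 hq
    rw [PrimeSpectrum.mem_zeroLocus, Set.singleton_subset_iff] at this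
    exact this
  · intro q hq
    by_contra hqT
    have hex : ∀ x : PrimeSpectrum R, ∃ e : R, x ∈ T → (IsIdempotentElem e ∧ e ∈ x.asIdeal ∧ e ∉ q.asIdeal) := by
      intro x
      by_cases hx : x ∈ T
      · have hq' : q ∉ connectedComponent x := fun h => hqT (hcc x hx h)
        rw [Groth.Agent.S9620.connComp_eq, PrimeSpectrum.mem_zeroLocus, Set.not_subset] at hq'
        obtain ⟨e, he, heq⟩ := hq'
        exact ⟨e, fun _ => ⟨he.1, he.2, heq⟩⟩
      · exact ⟨0, fun h => absurd h hx⟩
    choose e he using hex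
    have hcover : T ⊆ ⋃ x ∈ T, PrimeSpectrum.zeroLocus ({e x} : Set R) := by
      intro x hx
      simp only [Set.mem_iUnion]
      refine ⟨x, hx, ?_⟩
      rw [PrimeSpectrum.mem_zeroLocus, Set.singleton_subset_iff]
      exact (he x hx).2.1
    obtain ⟨b, hbT, hbfin, hb⟩ := hT.isCompact.elim_finite_subcover_image
      (fun x hx => (PrimeSpectrum.isClopen_iff_zeroLocus.mpr ⟨e x, (he x hx).1, rfl⟩).2) hcover
    set t := hbfin.toFinset with ht
    have hidem : IsIdempotentElem (∏ x ∈ t, e x) :=
      idem_prod t e (fun x hx => (he x (hbT (hbfin.mem_toFinset.mp hx))).1)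
    have hsub : T ⊆ PrimeSpectrum.zeroLocus ({∏ x ∈ t, e x} : Set R) := by
      intro y hy
      have := hb hy
      simp only [Set.mem_iUnion] at this
      obtain ⟨x, hxb, hyx⟩ := this
      rw [PrimeSpectrum.mem_zeroLocus, Set.singleton_subset_iff] at hyx ⊢
      exact Ideal.mem_of_dvd _ (Finset.dvd_prod_of_mem e (hbfin.mem_toFinset.mpr hxb)) hyx
    have hmem : (∏ x ∈ t, e x) ∈ q.asIdeal := by
      rw [PrimeSpectrum.mem_zeroLocus] at hq
      exact hq ⟨hidem, hsub⟩
    haveI := q.isPrime
    obtain ⟨x, hx, hxq⟩ := Ideal.IsPrime.prod_mem_iff.mp hmem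
    exact (he x (hbT (hbfin.mem_toFinset.mp hx))).2.2 hxq

/-- For a ring R and a subset T of Spec R the following are equivalent: (1) T is closed and contains the
connected component of each of its points; (2) T can be written as an intersection of subsets of
Spec R that are both open and closed; (3) T is the common zero locus of some set of idempotent
elements of R (equivalently, of the ideal they generate). -/
theorem result {R : Type u} [CommRing R] (T : Set (PrimeSpectrum R)) :
    [IsClosed T ∧ ∀ x ∈ T, connectedComponent x ⊆ T,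
      ∃ U : Set (Set (PrimeSpectrum R)), (∀ u ∈ U, IsClopen u) ∧ T = ⋂₀ U,
      ∃ E : Set R, (∀ e ∈ E, IsIdempotentElem e) ∧ T = PrimeSpectrum.zeroLocus E].TFAE := by
  tfae_have 1 → 3 := fun h => one_three T h.1 h.2
  tfae_have 3 → 2 := by
    rintro ⟨E, hE, rfl⟩
    refine ⟨(fun e => PrimeSpectrum.zeroLocus ({e} : Set R)) '' E, ?_, ?_⟩
    · rintro _ ⟨e, he, rfl⟩
      exact PrimeSpectrum.isClopen_iff_zeroLocus.mpr ⟨e, hE e he, rfl⟩
    · ext q
      simp only [Set.mem_sInter, Set.forall_mem_image, PrimeSpectrum.mem_zeroLocus,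
        Set.singleton_subset_iff]
      rfl
  tfae_have 2 → 1 := by
    rintro ⟨U, hU, rfl⟩
    refine ⟨isClosed_sInter (fun u hu => (hU u hu).1), ?_⟩
    intro x hx
    exact Set.subset_sInter (fun u hu => (hU u hu).connectedComponent_subset (hx u hu))
  tfae_finish

end Groth.Agent.S9618
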