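import Groth.Statements.S9621
import Mathlib

set_option autoImplicit false
universe u
open CAlg

namespace Groth.Agent.S9621

theorem exists_mul_pow_eq_zero {R : Type u} [CommRing R] (p : Ideal R) (hp : p ∈ minimalPrimes R)
    (x : R) (hx : x ∈ p) : ∃ y ∉ p, ∃ n : ℕ, y * x ^ n = 0 := by
  have hpp : p.IsPrime := hp.1.1
  have h1 := IsLocalization.AtPrime.radical_map_of_mem_minimalPrimes (A := Localization.AtPrime p)
    p ⊥ hp
  have h2 : algebraMap R (Localization.AtPrime p) x ∈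
      ((⊥ : Ideal R).map (algebraMap R (Localization.AtPrime p))).radical := by
    rw [h1]; exact Ideal.mem_map_of_mem _ hx
  obtain ⟨n, hn⟩ := h2
  rw [Ideal.map_bot, Ideal.mem_bot, ← map_pow, IsLocalization.map_eq_zero_iff p.primeCompl] at hn
  obtain ⟨t, ht⟩ := hn
  exact ⟨t.1, t.2, n, ht⟩


/-- Let R be a ring, p a minimal prime of R and W a quasi-compact open subset of Spec R not containing
p. Then there is an f ∈ R, f ∉ p, whose basic open D(f) is disjoint from W. -/
theorem result {R : Type u} [CommRing R] (p : PrimeSpectrum R) (hp : p.asIdeal ∈ minimalPrimes R) (W : Set (PrimeSpectrum R)) (hWo : IsOpen W) (hWc : IsCompact W) (hpW : p ∉ W) :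
    ∃ f : R, f ∉ p.asIdeal ∧ Disjoint (PrimeSpectrum.basicOpen f : Set (PrimeSpectrum R)) W := by
  classical
  obtain ⟨t, rfl⟩ := PrimeSpectrum.isCompact_isOpen_iff.mp ⟨hWc, hWo⟩
  have htp : ∀ g ∈ t, g ∈ p.asIdeal := by
    intro g hg
    by_contra hgp
    apply hpW
    rw [Set.mem_compl_iff, PrimeSpectrum.mem_zeroLocus]
    exact fun h ↦ hgp (h hg)
  choose! y hy n hn using fun g (hg : g ∈ t) ↦ exists_mul_pow_eq_zero p.asIdeal hp g (htp g hg)
  refine ⟨∏ g ∈ t, y g, ?_, ?_⟩
  · rw [Ideal.IsPrime.prod_mem_iff]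
    push Not
    exact hy
  · rw [Set.disjoint_left]
    intro q hq hqW
    rw [Set.mem_compl_iff, PrimeSpectrum.mem_zeroLocus, Set.not_subset] at hqW
    obtain ⟨g, hg, hgq⟩ := hqW
    have h0 : y g * g ^ n g ∈ q.asIdeal := by rw [hn g hg]; exact zero_mem _
    have h1 : y g ∈ q.asIdeal :=
      (q.2.mem_or_mem h0).resolve_right fun h ↦ hgq (q.2.mem_of_pow_mem _ h)
    apply hq
    exact Ideal.mem_of_dvd _ (Finset.dvd_prod_of_mem y hg) h1

end Groth.Agent.S9621
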