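import Groth.Statements.S9622
import Mathlib

set_option autoImplicit false
universe u
open CAlg

namespace Groth.Agent.S9622

open Pointwise

theorem lemmaY {S : Type*} [CommRing S] (m : Ideal S) (n : ℕ) (hn : m ^ n = ⊥) (B C : AddSubgroup S)
    (hC : ∀ s, ∃ c ∈ C, s - c ∈ m)
    (hG : ∀ k, k < n → ∃ G : Set S, Ideal.span G = m ^ k ∧ ∀ c ∈ C, ∀ g ∈ G, c * g ∈ B) :
    ∀ s : S, s ∈ B := by
  have key : ∀ k, k ≤ n → ∀ s : S, ∃ b ∈ B, s - b ∈ m ^ k := by
    intro k
    induction k with
    | zero => intro _ s; exact ⟨0, B.zero_mem, by simp⟩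
    | succ k ih =>
      intro hk s
      obtain ⟨b, hb, hsb⟩ := ih (Nat.le_of_succ_le hk) s
      obtain ⟨G, hGspan, hGB⟩ := hG k hk
      have aux : ∀ z ∈ Ideal.span G, ∀ a : S, ∃ b' ∈ B, a * z - b' ∈ m ^ (k + 1) := by
        intro z hz
        induction hz using Submodule.span_induction with
        | mem g hg =>
          intro a
          obtain ⟨c, hc, hac⟩ := hC a
          refine ⟨c * g, hGB c hc g hg, ?_⟩
          have : a * g - c * g = (a - c) * g := by ring
          rw [this, pow_succ']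
          exact Ideal.mul_mem_mul hac (hGspan ▸ Ideal.subset_span hg)
        | zero => intro a; exact ⟨0, B.zero_mem, by simp⟩
        | add z1 z2 _ _ ih1 ih2 =>
          intro a
          obtain ⟨b1, hb1, h1⟩ := ih1 a
          obtain ⟨b2, hb2, h2⟩ := ih2 a
          refine ⟨b1 + b2, B.add_mem hb1 hb2, ?_⟩
          have : a * (z1 + z2) - (b1 + b2) = (a * z1 - b1) + (a * z2 - b2) := by ring
          rw [this]
          exact Ideal.add_mem _ h1 h2
        | smul a' z _ ih1 =>
          intro a
          obtain ⟨b1, hb1, h1⟩ := ih1 (a * a')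
          refine ⟨b1, hb1, ?_⟩
          rw [smul_eq_mul, ← mul_assoc]
          exact h1
      obtain ⟨b', hb', h'⟩ := aux (s - b) (hGspan ▸ hsb) 1
      refine ⟨b + b', B.add_mem hb hb', ?_⟩
      have : s - (b + b') = 1 * (s - b) - b' := by ring
      rw [this]
      exact h'
  intro s
  obtain ⟨b, hb, hsb⟩ := key n le_rfl s
  rw [hn, Ideal.mem_bot, sub_eq_zero] at hsb
  rw [hsb]; exact hb

theorem exists_pow_eq_bot {S : Type*} [CommRing S] [IsArtinianRing S] [IsLocalRing S] :
    ∃ n : ℕ, (IsLocalRing.maximalIdeal S) ^ n = ⊥ := by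
  have h := IsArtinianRing.isNilpotent_jacobson_bot (R := S)
  rw [IsLocalRing.jacobson_eq_maximalIdeal ⊥ bot_ne_top] at h
  obtain ⟨n, hn⟩ := h
  exact ⟨n, hn⟩

theorem finite_of {R S : Type u} [CommRing R] [CommRing S] [Algebra R S] [IsArtinianRing S] [IsLocalRing S]
    (h : Module.Finite R (S ⧸ IsLocalRing.maximalIdeal S)) : Module.Finite R S := by
  classical
  set m := IsLocalRing.maximalIdeal S with hm
  obtain ⟨n, hn⟩ := exists_pow_eq_bot (S := S)
  obtain ⟨Ybar, hYbar⟩ := (Module.Finite.fg_top : (⊤ : Submodule R (S ⧸ m)).FG)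
  let π : S →ₗ[R] S ⧸ m := (Ideal.Quotient.mkₐ R m).toLinearMap
  have hπ : Function.Surjective π := Ideal.Quotient.mk_surjective
  let Y : Finset S := Ybar.image (Function.surjInv hπ)
  have hYmap : Submodule.map π (Submodule.span R (Y : Set S)) = ⊤ := by
    rw [Submodule.map_span, ← hYbar]
    congr 1
    ext z
    simp only [Y, Finset.coe_image, Set.mem_image, Finset.mem_coe]
    constructor
    · rintro ⟨_, ⟨y, hy, rfl⟩, rfl⟩
      rw [Function.surjInv_eq hπ]; exact hy
    · intro hz
      exact ⟨_, ⟨z, hz, rfl⟩, Function.surjInv_eq hπ z⟩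
  have hG : ∀ k, ∃ G : Finset S, Ideal.span (G : Set S) = m ^ k := fun k =>
    (IsNoetherian.noetherian (m ^ k))
  choose G hGspan using hG
  let Z : Set S := ⋃ k ∈ Finset.range n, (Y : Set S) * (G k : Set S)
  have hZfin : Z.Finite := by
    apply Set.Finite.biUnion (Finset.finite_toSet _)
    intro k _
    exact Set.Finite.mul (Finset.finite_toSet _) (Finset.finite_toSet _)
  have hall := lemmaY m n hn (Submodule.span R Z).toAddSubgroup (Submodule.span R (Y : Set S)).toAddSubgroup
    (by
      intro s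
      have : π s ∈ Submodule.map π (Submodule.span R (Y : Set S)) := by rw [hYmap]; trivial
      obtain ⟨c, hc, hcs⟩ := this
      refine ⟨c, hc, ?_⟩
      rw [← Ideal.Quotient.eq]
      exact hcs.symm)
    (by
      intro k hk
      refine ⟨G k, hGspan k, ?_⟩
      intro c hc g hg
      change c ∈ Submodule.span R (Y : Set S) at hc
      change c * g ∈ Submodule.span R Z
      induction hc using Submodule.span_induction with
      | mem y hy =>
        apply Submodule.subset_span
        simp only [Z, Set.mem_iUnion]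
        exact ⟨k, Finset.mem_range.mpr hk, Set.mul_mem_mul hy hg⟩
      | zero => rw [zero_mul]; exact Submodule.zero_mem _
      | add c1 c2 _ _ h1 h2 => rw [add_mul]; exact Submodule.add_mem _ h1 h2
      | smul r c _ h1 => rw [smul_mul_assoc]; exact Submodule.smul_mem _ r h1)
  refine ⟨⟨hZfin.toFinset, ?_⟩⟩
  rw [Set.Finite.coe_toFinset, eq_top_iff]
  intro s _
  exact hall s

theorem finiteType_of {R S : Type u} [CommRing R] [CommRing S] [Algebra R S] [IsArtinianRing S] [IsLocalRing S]
    (h : Algebra.FiniteType R (S ⧸ IsLocalRing.maximalIdeal S)) : Algebra.FiniteType R S := by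
  classical
  set m := IsLocalRing.maximalIdeal S with hm
  obtain ⟨n, hn⟩ := exists_pow_eq_bot (S := S)
  obtain ⟨Ybar, hYbar⟩ := (Algebra.FiniteType.out : (⊤ : Subalgebra R (S ⧸ m)).FG)
  let π : S →ₐ[R] S ⧸ m := Ideal.Quotient.mkₐ R m
  have hπ : Function.Surjective π := Ideal.Quotient.mk_surjective
  let Y : Finset S := Ybar.image (Function.surjInv hπ)
  obtain ⟨X, hX⟩ := (IsNoetherian.noetherian m : m.FG)
  set B := Algebra.adjoin R ((Y : Set S) ∪ (X : Set S)) with hB
  have hYmap : (Algebra.adjoin R (Y : Set S)).map π = ⊤ := by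
    rw [AlgHom.map_adjoin, ← hYbar]
    congr 1
    ext z
    simp only [Y, Finset.coe_image, Set.mem_image, Finset.mem_coe]
    constructor
    · rintro ⟨_, ⟨y, hy, rfl⟩, rfl⟩
      rw [Function.surjInv_eq hπ]; exact hy
    · intro hz
      exact ⟨_, ⟨z, hz, rfl⟩, Function.surjInv_eq hπ z⟩
  have hGk : ∀ k, ∃ G : Set S, Ideal.span G = m ^ k ∧ ∀ g ∈ G, g ∈ B := by
    intro k
    induction k with
    | zero => exact ⟨{1}, by simp, fun g hg => by rw [Set.mem_singleton_iff.mp hg]; exact B.one_mem⟩
    | succ k ih =>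
      obtain ⟨G, hG1, hG2⟩ := ih
      refine ⟨(X : Set S) * G, ?_, ?_⟩
      · have hX' : Ideal.span (X : Set S) = m := hX
        rw [← Ideal.span_mul_span', hX', hG1, pow_succ']
      · rintro _ ⟨x, hx, g, hg, rfl⟩
        exact B.mul_mem (Algebra.subset_adjoin (Or.inr hx)) (hG2 g hg)
  have hall := lemmaY m n hn B.toSubring.toAddSubgroup B.toSubring.toAddSubgroup
    (by
      intro s
      have : π s ∈ (Algebra.adjoin R (Y : Set S)).map π := by rw [hYmap]; trivial
      obtain ⟨c, hc, hcs⟩ := this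
      refine ⟨c, Algebra.adjoin_mono Set.subset_union_left hc, ?_⟩
      rw [← Ideal.Quotient.eq]
      exact hcs.symm)
    (by
      intro k _
      obtain ⟨G, hG1, hG2⟩ := hGk k
      exact ⟨G, hG1, fun c hc g hg => B.mul_mem hc (hG2 g hg)⟩)
  refine ⟨⟨Y ∪ X, ?_⟩⟩
  rw [Finset.coe_union, eq_top_iff]
  intro s _
  exact hall s

/-- Let R → S be a ring map whose target S is a local Artinian ring, and write m for the maximal ideal
of S. Then S is a finite R-module exactly when S/m is, and S is an R-algebra of finite type exactly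
when S/m is. -/
theorem result {R S : Type u} [CommRing R] [CommRing S] [Algebra R S] [IsArtinianRing S] [IsLocalRing S] :
    (Module.Finite R S ↔ Module.Finite R (S ⧸ IsLocalRing.maximalIdeal S)) ∧
      (Algebra.FiniteType R S ↔ Algebra.FiniteType R (S ⧸ IsLocalRing.maximalIdeal S)) := by
  refine ⟨⟨fun h => ?_, finite_of⟩, ⟨fun h => ?_, finiteType_of⟩⟩
  · exact Module.Finite.of_surjective (Ideal.Quotient.mkₐ R (IsLocalRing.maximalIdeal S)).toLinearMap Ideal.Quotient.mk_surjective
  · exact Algebra.FiniteType.of_surjective (Ideal.Quotient.mkₐ R (IsLocalRing.maximalIdeal S)) Ideal.Quotient.mk_surjective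

end Groth.Agent.S9622
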