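import Groth.Statements.S9624
import Mathlib
import Groth.Agent.Lib.Helper1.GeomIrr2

set_option autoImplicit false
universe u
open CAlg

namespace Groth.Agent.S9624

open TensorProduct Groth.Agent.H1.GeomConn Groth.Agent.H1.GeomIrr

lemma isClopen_image_and_preimage {X Y : Type*} [TopologicalSpace X] [TopologicalSpace Y]
    {f : X → Y} (hopen : IsOpenMap f) (hfib : ∀ y, IsConnected (f ⁻¹' {y}))
    {U : Set X} (hU : IsClopen U) : IsClopen (f '' U) ∧ f ⁻¹' (f '' U) = U := by
  have hsat : f ⁻¹' (f '' U) = U := by
    refine subset_antisymm ?_ (Set.subset_preimage_image f U)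
    rintro x ⟨u, hu, hux⟩
    have h1 : f ⁻¹' {f u} ⊆ U :=
      (hfib (f u)).isPreconnected.subset_isClopen hU ⟨u, rfl, hu⟩
    exact h1 hux.symm
  refine ⟨⟨?_, hopen U hU.isOpen⟩, hsat⟩
  have hc : (f '' U)ᶜ = f '' Uᶜ := by
    ext y
    constructor
    · intro hy
      obtain ⟨x, hx⟩ := (hfib y).nonempty
      refine ⟨x, fun hxU => hy ⟨x, hxU, hx⟩, hx⟩
    · rintro ⟨x, hx, rfl⟩ hy
      apply hx
      rw [← hsat]
      exact hy
  rw [← isOpen_compl_iff, hc]
  exact hopen _ hU.compl.isOpen

open TensorProduct in
/-- Let k be a field, S a geometrically connected k-algebra (the spectrum of k' ⊗_k S is connected for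
every field extension k'/k) and R any k-algebra. Then the map R → R ⊗_k S induces a bijection on
idempotents: each idempotent of R ⊗_k S comes from exactly one idempotent of R. Here the test fields
range over field extensions in the universe of k; this is equivalent to the unrestricted notion,
since an algebraic closure of k suffices as a test. -/
theorem result {k R S : Type u} [Field k] [CommRing R] [CommRing S] [Algebra k R] [Algebra k S]
    (hS : ∀ (k' : Type u) [Field k'] [Algebra k k'], ConnectedSpace (PrimeSpectrum (k' ⊗[k] S)))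
    (x : R ⊗[k] S) (hx : IsIdempotentElem x) :
    ∃! e : R, IsIdempotentElem e ∧ algebraMap R (R ⊗[k] S) e = x := by
  classical
  let f := PrimeSpectrum.comap (algebraMap R (R ⊗[k] S))
  have hopen : IsOpenMap f := PrimeSpectrum.isOpenMap_comap_algebraMap_tensorProduct_of_field
  have hfib : ∀ p, IsConnected (f ⁻¹' {p}) := fun p => by
    have e := PrimeSpectrum.preimageHomeomorphFiber R (R ⊗[k] S) p
    haveI := hS p.asIdeal.ResidueField
    let e' := Algebra.TensorProduct.cancelBaseChange k R R p.asIdeal.ResidueField S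
    haveI : ConnectedSpace (PrimeSpectrum (p.asIdeal.Fiber (R ⊗[k] S))) :=
      (PrimeSpectrum.homeomorphOfRingEquiv e'.toRingEquiv).connectedSpace_iff.mpr inferInstance
    haveI : ConnectedSpace (f ⁻¹' {p}) := e.connectedSpace_iff.mpr inferInstance
    exact isConnected_iff_connectedSpace.mpr this
  have hclopen : IsClopen (PrimeSpectrum.basicOpen x : Set (PrimeSpectrum (R ⊗[k] S))) :=
    PrimeSpectrum.isClopen_basicOpen_of_mul_add x (1 - x)
      (by rw [mul_sub, mul_one, hx.eq, sub_self]) (by ring)
  obtain ⟨h1, h2⟩ := isClopen_image_and_preimage hopen hfib hclopen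
  obtain ⟨e, he, heq⟩ := PrimeSpectrum.exists_idempotent_basicOpen_eq_of_isClopen h1
  haveI : Nontrivial S := by
    haveI := hS k
    by_contra h
    rw [not_nontrivial_iff_subsingleton] at h
    haveI : Subsingleton (k ⊗[k] S) := inferInstance
    obtain ⟨x⟩ := (inferInstance : Nonempty (PrimeSpectrum (k ⊗[k] S)))
    exact x.2.ne_top (Subsingleton.elim _ _)
  have hinj : Function.Injective (algebraMap R (R ⊗[k] S)) :=
    Algebra.TensorProduct.includeLeft_injective (S := R) (algebraMap k S).injective
  have key : algebraMap R (R ⊗[k] S) e = x := by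
    apply PrimeSpectrum.basicOpen_injOn_isIdempotentElem (he.map _) hx
    apply SetLike.coe_injective
    rw [← h2, heq]
    rfl
  refine ⟨e, ⟨he, key⟩, ?_⟩
  rintro e' ⟨-, heq'⟩
  exact hinj (heq'.trans key.symm)

end Groth.Agent.S9624
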