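import Groth.Statements.S9625
import Mathlib

set_option autoImplicit false
universe u
open CAlg

namespace Groth.Agent.S9625

open TensorProduct in
/-- Let k be a field and S a k-algebra such that Spec(k' ⊗_k S) is irreducible for every field extension
k'/k. Then every k-subalgebra of S has the same property. Here the test fields range over field
extensions in the universe of k; this is equivalent to the unrestricted notion, since an algebraic
closure of k suffices as a test. -/
theorem result {k S : Type u} [Field k] [CommRing S] [Algebra k S]
    (hS : ∀ (k' : Type u) [Field k'] [Algebra k k'], IrreducibleSpace (PrimeSpectrum (k' ⊗[k] S))) (S' : Subalgebra k S) :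
    ∀ (k' : Type u) [Field k'] [Algebra k k'], IrreducibleSpace (PrimeSpectrum (k' ⊗[k] S')) := by
  intro k' _ _
  have := hS k'
  let φ : k' ⊗[k] S' →ₐ[k] k' ⊗[k] S :=
    Algebra.TensorProduct.map (AlgHom.id k k') S'.val
  have hφ : Function.Injective φ := by
    have : Function.Injective S'.val.toLinearMap := Subtype.val_injective
    exact Module.Flat.lTensor_preserves_injective_linearMap (M := k') _ this
  have hd : DenseRange (PrimeSpectrum.comap φ.toRingHom) := by
    rw [PrimeSpectrum.denseRange_comap_iff_ker_le_nilRadical,
      (RingHom.injective_iff_ker_eq_bot φ.toRingHom).mp hφ]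
    exact bot_le
  have h1 : IsIrreducible (Set.univ : Set (PrimeSpectrum (k' ⊗[k] S))) :=
    IrreducibleSpace.isIrreducible_univ _
  have h2 := (h1.image (PrimeSpectrum.comap φ.toRingHom)
    (PrimeSpectrum.continuous_comap _).continuousOn).closure
  rw [Set.image_univ, hd.closure_range] at h2
  exact (irreducibleSpace_def _).mpr h2

end Groth.Agent.S9625
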