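import Groth.Statements.S9626
import Mathlib
import Groth.Agent.Lib.Helper1.GeomIrr2

set_option autoImplicit false
universe u
open CAlg

namespace Groth.Agent.S9626

open TensorProduct Groth.Agent.H1.GeomConn Groth.Agent.H1.GeomIrr

lemma mapsTo_minimalPrimes_of_flat {R A : Type*} [CommRing R] [CommRing A] [Algebra R A]
    [Module.Flat R A] (Q : Ideal A) (hQ : Q ∈ minimalPrimes A) :
    Q.comap (algebraMap R A) ∈ minimalPrimes R := by
  haveI : Q.IsPrime := hQ.1.1
  refine ⟨⟨inferInstance, bot_le⟩, ?_⟩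
  rintro p ⟨hp, -⟩ hle
  haveI : Q.LiesOver (Q.comap (algebraMap R A)) := ⟨rfl⟩
  obtain ⟨P, hPQ, hP, hPp⟩ := Ideal.exists_ideal_le_liesOver_of_le (p := p)
    (q := Q.comap (algebraMap R A)) Q hle
  have h1 : Q ≤ P := hQ.2 ⟨hP, bot_le⟩ hPQ
  have h2 : P = Q := le_antisymm hPQ h1
  subst h2
  rw [P.over_def p]

lemma exists_minimalPrimes_comap_eq {R A : Type*} [CommRing R] [CommRing A] [Algebra R A]
    (hsurj : Function.Surjective (PrimeSpectrum.comap (algebraMap R A)))
    (p : Ideal R) (hp : p ∈ minimalPrimes R) :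
    ∃ Q ∈ minimalPrimes A, Q.comap (algebraMap R A) = p := by
  haveI : p.IsPrime := hp.1.1
  obtain ⟨Q', hQ'⟩ := hsurj ⟨p, inferInstance⟩
  obtain ⟨Q, hQ, hle⟩ := Ideal.exists_minimalPrimes_le (bot_le : ⊥ ≤ Q'.asIdeal)
  refine ⟨Q, hQ, ?_⟩
  haveI : Q.IsPrime := hQ.1.1
  have h1 : Q.comap (algebraMap R A) ≤ p := by
    have : Q'.asIdeal.comap (algebraMap R A) = p := congrArg PrimeSpectrum.asIdeal hQ'
    rw [← this]
    exact Ideal.comap_mono hle
  exact le_antisymm h1 (hp.2 ⟨inferInstance, bot_le⟩ h1)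

lemma eq_of_comap_eq {k R S : Type u} [Field k] [CommRing R] [CommRing S] [Algebra k R]
    [Algebra k S]
    (hS : ∀ (k' : Type u) [Field k'] [Algebra k k'], IrreducibleSpace (PrimeSpectrum (k' ⊗[k] S)))
    (Q : Ideal (R ⊗[k] S)) (hQ : Q ∈ minimalPrimes (R ⊗[k] S))
    (p : Ideal R) [p.IsPrime] (hp : Q.comap (algebraMap R (R ⊗[k] S)) = p) :
    Q = (nilradical ((R ⧸ p) ⊗[k] S)).comap
      (Algebra.TensorProduct.map (Ideal.Quotient.mkₐ k p) (AlgHom.id k S)).toRingHom := by
  haveI : Q.IsPrime := hQ.1.1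
  haveI : IsDomain (R ⧸ p) := Ideal.Quotient.isDomain _
  haveI : IrreducibleSpace (PrimeSpectrum ((R ⧸ p) ⊗[k] S)) :=
    irreducibleSpace_tensor_of_geomIrr hS
  have hN : (nilradical ((R ⧸ p) ⊗[k] S)).IsPrime :=
    PrimeSpectrum.irreducibleSpace_iff_isPrime_nilradical.mp inferInstance
  set π := Algebra.TensorProduct.map (Ideal.Quotient.mkₐ k p) (AlgHom.id k S) with hπ
  have hker : RingHom.ker π = p.map
      (Algebra.TensorProduct.includeLeft : R →ₐ[k] R ⊗[k] S) := by
    rw [hπ, Algebra.TensorProduct.rTensor_ker _ (Ideal.Quotient.mkₐ_surjective _ _)]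
    congr 1
    exact Ideal.Quotient.mkₐ_ker k p
  have hkerQ : RingHom.ker π ≤ Q := by
    rw [hker, Ideal.map_le_iff_le_comap, ← hp]
    exact le_rfl
  have hle : (nilradical ((R ⧸ p) ⊗[k] S)).comap π.toRingHom ≤ Q := by
    intro x hx
    rw [Ideal.mem_comap, mem_nilradical] at hx
    obtain ⟨n, hn⟩ := hx
    have h1 : x ^ n ∈ RingHom.ker π := by
      rw [RingHom.mem_ker, map_pow]; exact hn
    exact Ideal.IsPrime.mem_of_pow_mem inferInstance n (hkerQ h1)
  exact le_antisymm (hQ.2 ⟨Ideal.comap_isPrime _ _, bot_le⟩ hle) hle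


open TensorProduct in
/-- Let k be a field, S a k-algebra with Spec(k' ⊗_k S) irreducible for every field extension k'/k, and
R any k-algebra. Then Spec(R ⊗_k S) → Spec(R) induces a bijection on irreducible components: taking
inverse images along R → R ⊗_k S maps the set of minimal primes of R ⊗_k S bijectively onto the set
of minimal primes of R. Here the test fields range over field extensions in the universe of k; this
is equivalent to the unrestricted notion, since an algebraic closure of k suffices as a test. -/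
theorem result {k R S : Type u} [Field k] [CommRing R] [CommRing S] [Algebra k R] [Algebra k S]
    (hS : ∀ (k' : Type u) [Field k'] [Algebra k k'], IrreducibleSpace (PrimeSpectrum (k' ⊗[k] S))) :
    Set.BijOn (Ideal.comap (algebraMap R (R ⊗[k] S))) (minimalPrimes (R ⊗[k] S)) (minimalPrimes R) := by
  haveI : Nontrivial S := by
    haveI := hS k
    by_contra h
    rw [not_nontrivial_iff_subsingleton] at h
    haveI : Subsingleton (k ⊗[k] S) := inferInstance
    obtain ⟨x⟩ := (inferInstance : Nonempty (PrimeSpectrum (k ⊗[k] S)))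
    exact x.2.ne_top (Subsingleton.elim _ _)
  haveI : Module.FaithfullyFlat k S := inferInstance
  haveI : Module.FaithfullyFlat R (R ⊗[k] S) := inferInstance
  have hsurj := PrimeSpectrum.comap_surjective_of_faithfullyFlat (A := R) (B := R ⊗[k] S)
  refine ⟨fun Q hQ => mapsTo_minimalPrimes_of_flat Q hQ, ?_, fun p hp =>
    exists_minimalPrimes_comap_eq hsurj p hp⟩
  intro Q₁ hQ₁ Q₂ hQ₂ h
  haveI : Q₁.IsPrime := hQ₁.1.1
  haveI : (Q₁.comap (algebraMap R (R ⊗[k] S))).IsPrime := Ideal.comap_isPrime _ _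
  rw [eq_of_comap_eq hS Q₁ hQ₁ _ rfl, eq_of_comap_eq hS Q₂ hQ₂ _ h.symm]

end Groth.Agent.S9626
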