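import Groth.Statements.S9629
import Mathlib
import Groth.Agent.Lib.Helper1.GeomIrr

set_option autoImplicit false
universe u
open CAlg

namespace Groth.Agent.S9629

open TensorProduct Groth.Agent.H1.GeomConn Groth.Agent.H1.GeomIrr

lemma dom_of_algClosure {k S : Type u} [Field k] [CommRing S] [Algebra k S]
    [IsDomain (AlgebraicClosure k ⊗[k] S)]
    (k' : Type u) [Field k'] [Algebra k k'] : IsDomain (k' ⊗[k] S) := by
  let Ω := AlgebraicClosure k'
  let φ : AlgebraicClosure k →ₐ[k] Ω := IsAlgClosed.lift
  letI : Algebra (AlgebraicClosure k) Ω := φ.toRingHom.toAlgebra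
  haveI : IsScalarTower k (AlgebraicClosure k) Ω :=
    IsScalarTower.of_algebraMap_eq fun x => (φ.commutes x).symm
  haveI : NoZeroDivisors (Ω ⊗[AlgebraicClosure k] (AlgebraicClosure k ⊗[k] S)) :=
    noZeroDivisors_tensor
  let e := Algebra.TensorProduct.cancelBaseChange k (AlgebraicClosure k) (AlgebraicClosure k) Ω S
  let ι : k' ⊗[k] S →ₐ[k] Ω ⊗[k] S :=
    Algebra.TensorProduct.map (IsScalarTower.toAlgHom k k' Ω) (AlgHom.id k S)
  have hι : Function.Injective ι :=
    Module.Flat.rTensor_preserves_injective_linearMap (M := S)
      (IsScalarTower.toAlgHom k k' Ω).toLinearMap (algebraMap k' Ω).injective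
  have hinj : Function.Injective (fun x => e.symm (ι x)) := e.symm.injective.comp hι
  haveI : Nontrivial S := by
    by_contra h
    rw [not_nontrivial_iff_subsingleton] at h
    have : Subsingleton (AlgebraicClosure k ⊗[k] S) := inferInstance
    exact not_subsingleton (AlgebraicClosure k ⊗[k] S) this
  haveI : Nontrivial (k' ⊗[k] S) := inferInstance
  haveI : NoZeroDivisors (k' ⊗[k] S) :=
    Function.Injective.noZeroDivisors (fun x => e.symm (ι x)) hinj (by simp) (by simp)
  exact NoZeroDivisors.to_isDomain _

lemma dom_algClosure_of_finite {k S : Type u} [Field k] [CommRing S] [Algebra k S]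
    (h : ∀ (k' : Type u) [Field k'] [Algebra k k'] [Module.Finite k k'], IsDomain (k' ⊗[k] S)) :
    IsDomain (AlgebraicClosure k ⊗[k] S) := by
  classical
  have hinj : ∀ F : IntermediateField k (AlgebraicClosure k), Function.Injective
      (Algebra.TensorProduct.map F.val (AlgHom.id k S)) := fun F =>
    Module.Flat.rTensor_preserves_injective_linearMap (M := S) F.val.toLinearMap
      Subtype.val_injective
  haveI : Nontrivial (AlgebraicClosure k ⊗[k] S) := by
    have hF : FiniteDimensional k (⊥ : IntermediateField k (AlgebraicClosure k)) := inferInstance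
    haveI := h (⊥ : IntermediateField k (AlgebraicClosure k))
    exact (hinj ⊥).nontrivial
  haveI : NoZeroDivisors (AlgebraicClosure k ⊗[k] S) := by
    constructor
    intro x y hxy
    obtain ⟨sx, hsx⟩ := exists_finset_mem_range x
    obtain ⟨sy, hsy⟩ := exists_finset_mem_range y
    let F : IntermediateField k (AlgebraicClosure k) :=
      IntermediateField.adjoin k ((sx ∪ sy : Finset _) : Set (AlgebraicClosure k))
    have hF : FiniteDimensional k F :=
      IntermediateField.finiteDimensional_adjoin fun x _ => Algebra.IsIntegral.isIntegral x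
    have hsub : ((sx ∪ sy : Finset _) : Set (AlgebraicClosure k)) ⊆ F :=
      IntermediateField.subset_adjoin _ _
    obtain ⟨x', hx'⟩ := hsx F (fun a ha => hsub (by
      simp only [Finset.coe_union, Set.mem_union]; exact Or.inl ha))
    obtain ⟨y', hy'⟩ := hsy F (fun a ha => hsub (by
      simp only [Finset.coe_union, Set.mem_union]; exact Or.inr ha))
    replace hx' : Algebra.TensorProduct.map F.val (AlgHom.id k S) x' = x := hx'
    replace hy' : Algebra.TensorProduct.map F.val (AlgHom.id k S) y' = y := hy'
    haveI := h F
    have h3 : x' * y' = 0 := hinj F (by rw [map_mul, hx', hy', hxy, map_zero])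
    rcases mul_eq_zero.mp h3 with h4 | h4
    · left; rw [← hx', h4, map_zero]
    · right; rw [← hy', h4, map_zero]
  exact NoZeroDivisors.to_isDomain _

open TensorProduct in
/-- For a field k and a k-algebra S the following are equivalent: (1) S is geometrically integral, i.e.
k' ⊗_k S is an integral domain for every field extension k'/k; (2) k' ⊗_k S is an integral domain
for every finite field extension k'/k; (3) k̄ ⊗_k S is an integral domain for the algebraic closure
k̄ of k. Here the test fields range over field extensions in the universe of k; this is equivalent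
to the unrestricted notion, since an algebraic closure of k suffices as a test. -/
theorem result {k S : Type u} [Field k] [CommRing S] [Algebra k S] :
    [∀ (k' : Type u) [Field k'] [Algebra k k'], IsDomain (k' ⊗[k] S),
      ∀ (k' : Type u) [Field k'] [Algebra k k'] [Module.Finite k k'], IsDomain (k' ⊗[k] S),
      IsDomain (AlgebraicClosure k ⊗[k] S)].TFAE := by
  tfae_have 1 → 2 := fun h k' _ _ _ => h k'
  tfae_have 2 → 3 := fun h => dom_algClosure_of_finite h
  tfae_have 3 → 1 := fun h k' _ _ => by
    haveI := h
    exact dom_of_algClosure k'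
  tfae_finish

end Groth.Agent.S9629
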