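import Groth.Statements.S9630
import Mathlib
import Groth.Agent.Lib.Helper1.GeomIrr

set_option autoImplicit false
universe u
open CAlg

namespace Groth.Agent.S9630

open Groth.Agent.H1.GeomIrr

open TensorProduct in
/-- For a field k and a k-algebra R the following are equivalent: (1) Spec(k' ⊗_k R) is irreducible for
every field extension k'/k; (2) the same for every finite separable extension k'/k; (3) Spec(k^sep
⊗_k R) is irreducible for the separable closure k^sep; (4) Spec(k̄ ⊗_k R) is irreducible for the
algebraic closure k̄. Here the test fields range over field extensions in the universe of k; this is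
equivalent to the unrestricted notion, since an algebraic closure of k suffices as a test. -/
theorem result {k R : Type u} [Field k] [CommRing R] [Algebra k R] :
    [∀ (k' : Type u) [Field k'] [Algebra k k'], IrreducibleSpace (PrimeSpectrum (k' ⊗[k] R)),
      ∀ (k' : Type u) [Field k'] [Algebra k k'] [Module.Finite k k'] [Algebra.IsSeparable k k'], IrreducibleSpace (PrimeSpectrum (k' ⊗[k] R)),
      IrreducibleSpace (PrimeSpectrum (SeparableClosure k ⊗[k] R)),
      IrreducibleSpace (PrimeSpectrum (AlgebraicClosure k ⊗[k] R))].TFAE := by
  tfae_have 1 → 2 := fun h k' _ _ _ _ => h k'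
  tfae_have 2 → 3 := fun h => irr_sepClosure_of_finite h
  tfae_have 3 → 4 := fun h => by
    haveI := h
    exact irr_algClosure_of_sepClosure
  tfae_have 4 → 1 := fun h k' _ _ => by
    haveI := h
    exact irr_of_algClosure k'
  tfae_finish

end Groth.Agent.S9630
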