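import Groth.Statements.S9633
import Mathlib

set_option autoImplicit false
universe u
open CAlg

namespace Groth.Agent.S9633

theorem t2_of_no_incl {R : Type u} [CommRing R]
    (h : ∀ p q : PrimeSpectrum R, p ≤ q → p = q) : T2Space (PrimeSpectrum R) := by
  refine ⟨fun p q hpq ↦ ?_⟩
  -- multiplicative set of products
  let S : Submonoid R := p.asIdeal.primeCompl ⊔ q.asIdeal.primeCompl
  by_cases h0 : (0 : R) ∈ S
  · obtain ⟨f, hf, g, hg, hfg⟩ := Submonoid.mem_sup.mp h0
    refine ⟨PrimeSpectrum.basicOpen f, PrimeSpectrum.basicOpen g,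
      (PrimeSpectrum.basicOpen f).2, (PrimeSpectrum.basicOpen g).2, hf, hg, ?_⟩
    rw [Set.disjoint_left]
    intro x hxf hxg
    have : f * g ∈ x.asIdeal := hfg ▸ zero_mem _
    rcases x.2.mem_or_mem this with h1 | h1
    · exact hxf h1
    · exact hxg h1
  · exfalso
    obtain ⟨P, hP, -, hPS⟩ := Ideal.exists_le_prime_disjoint (⊥ : Ideal R) S (by
      rw [Set.disjoint_left]
      intro x hx hxS
      rw [SetLike.mem_coe, Ideal.mem_bot] at hx
      exact h0 (hx ▸ hxS))
    have h1 : P ≤ p.asIdeal := by
      intro x hx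
      by_contra hxp
      exact Set.disjoint_left.mp hPS hx (Submonoid.mem_sup_left (show x ∈ p.asIdeal.primeCompl from hxp))
    have h2 : P ≤ q.asIdeal := by
      intro x hx
      by_contra hxq
      exact Set.disjoint_left.mp hPS hx (Submonoid.mem_sup_right (show x ∈ q.asIdeal.primeCompl from hxq))
    have e1 := h ⟨P, hP⟩ p h1
    have e2 := h ⟨P, hP⟩ q h2
    exact hpq (e1.symm.trans e2)


/-- For a ring R with spectrum X the following are equivalent: (1) X is profinite, i.e. compact,
Hausdorff and totally disconnected; (2) X is Hausdorff; (3) X is totally disconnected; (4) every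
quasi-compact open subset of X is closed; (5) there are no nontrivial inclusions among prime ideals
of R; (6) every prime ideal of R is maximal; (7) every prime ideal of R is a minimal prime; (8)
every standard open D(f) is closed. -/
theorem result {R : Type u} [CommRing R] :
    [CompactSpace (PrimeSpectrum R) ∧ T2Space (PrimeSpectrum R) ∧ TotallyDisconnectedSpace (PrimeSpectrum R),
      T2Space (PrimeSpectrum R),
      TotallyDisconnectedSpace (PrimeSpectrum R),
      ∀ W : Set (PrimeSpectrum R), IsOpen W → IsCompact W → IsClosed W,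
      ∀ p q : PrimeSpectrum R, p ≤ q → p = q,
      ∀ p : Ideal R, p.IsPrime → p.IsMaximal,
      ∀ p : Ideal R, p.IsPrime → p ∈ minimalPrimes R,
      ∀ f : R, IsClosed (PrimeSpectrum.basicOpen f : Set (PrimeSpectrum R))].TFAE := by
  tfae_have 1 → 2 := fun h ↦ h.2.1
  tfae_have 1 → 3 := fun h ↦ h.2.2
  tfae_have 2 → 4 := fun h W _ hW ↦ hW.isClosed
  tfae_have 4 → 8 := fun h f ↦ h _ (PrimeSpectrum.basicOpen f).2 (PrimeSpectrum.isCompact_basicOpen f)
  tfae_have 8 → 5 := by
    intro h p q hpq
    by_contra hne
    have : ¬ q.asIdeal ≤ p.asIdeal := fun hqp ↦ hne (le_antisymm hpq hqp)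
    obtain ⟨f, hfq, hfp⟩ := Set.not_subset.mp this
    have hcl := h f
    have hp : p ∈ (PrimeSpectrum.basicOpen f : Set (PrimeSpectrum R)) := hfp
    have hq : q ∈ closure ({p} : Set (PrimeSpectrum R)) := by
      rw [← specializes_iff_mem_closure, ← PrimeSpectrum.le_iff_specializes]
      exact hpq
    have := (hcl.closure_subset_iff.mpr (Set.singleton_subset_iff.mpr hp)) hq
    exact this hfq
  tfae_have 5 → 2 := t2_of_no_incl
  tfae_have 2 → 1 := by
    intro h
    refine ⟨inferInstance, h, ?_⟩
    rw [totallyDisconnectedSpace_iff_connectedComponent_singleton]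
    intro x
    rw [connectedComponent_eq_iInter_isClopen]
    ext y
    simp only [Set.mem_iInter, Set.mem_singleton_iff]
    constructor
    · intro hy
      by_contra hne
      -- a basic open containing x but not y
      have : ∃ f : R, (f ∉ x.asIdeal ∧ f ∈ y.asIdeal) ∨ (f ∈ x.asIdeal ∧ f ∉ y.asIdeal) := by
        by_contra hcon
        push Not at hcon
        apply hne
        apply PrimeSpectrum.ext
        ext f
        constructor
        · intro hf; by_contra hfx; exact (hcon f).1 hfx hf
        · intro hf; by_contra hfy; exact hfy ((hcon f).2 hf)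
      obtain ⟨f, hf | hf⟩ := this
      · have hclopen : IsClopen (PrimeSpectrum.basicOpen f : Set (PrimeSpectrum R)) :=
          ⟨(PrimeSpectrum.isCompact_basicOpen f).isClosed, (PrimeSpectrum.basicOpen f).2⟩
        exact hy ⟨_, hclopen, hf.1⟩ hf.2
      · have hc : IsClopen (PrimeSpectrum.basicOpen f : Set (PrimeSpectrum R)) :=
          ⟨(PrimeSpectrum.isCompact_basicOpen f).isClosed, (PrimeSpectrum.basicOpen f).2⟩
        exact hy ⟨_, hc.compl, fun h ↦ h hf.1⟩ hf.2
    · rintro rfl Z
      exact Z.2.2
  tfae_have 3 → 5 := by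
    intro h p q hpq
    have hq : q ∈ closure ({p} : Set (PrimeSpectrum R)) := by
      rw [← specializes_iff_mem_closure, ← PrimeSpectrum.le_iff_specializes]
      exact hpq
    have hpre : IsPreconnected (closure ({p} : Set (PrimeSpectrum R))) :=
      isPreconnected_singleton.closure
    have := (isTotallyDisconnected_of_totallyDisconnectedSpace _) _ (Set.subset_univ _) hpre
    exact this (subset_closure rfl) hq
  tfae_have 5 → 6 := by
    intro h p hp
    obtain ⟨m, hm, hpm⟩ := Ideal.exists_le_maximal p hp.ne_top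
    have := h ⟨p, hp⟩ ⟨m, hm.isPrime⟩ hpm
    have e : p = m := congrArg PrimeSpectrum.asIdeal this
    exact e ▸ hm
  tfae_have 6 → 7 := by
    intro h p hp
    obtain ⟨q, hq, hqp⟩ := Ideal.exists_minimalPrimes_le (I := ⊥) (J := p) bot_le
    have hqm := h q hq.1.1
    have : q = p := hqm.eq_of_le hp.ne_top hqp
    exact this ▸ hq
  tfae_have 7 → 5 := by
    intro h p q hpq
    have hq := h q.asIdeal q.2
    exact le_antisymm hpq (hq.2 ⟨p.2, bot_le⟩ hpq)
  tfae_finish

end Groth.Agent.S9633
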