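import Groth.Statements.S9636
import Mathlib

set_option autoImplicit false
universe u
open CAlg

namespace Groth.Agent.S9636

open TensorProduct

lemma lmul'_map {k A B : Type*} [CommRing k] [CommRing A] [CommRing B] [Algebra k A] [Algebra k B]
    (f : A →ₐ[k] B) (x : A ⊗[k] A) :
    Algebra.TensorProduct.lmul' (S := B) k (Algebra.TensorProduct.map f f x) =
      f (Algebra.TensorProduct.lmul' (S := A) k x) := by
  induction x using TensorProduct.induction_on with
  | zero => simp
  | tmul a b => simp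
  | add x y hx hy => simp only [map_add, hx, hy]

lemma exists_sep_elem {k k' : Type u} [Field k] [Field k'] [Algebra k k']
    [Algebra.IsSeparable k k'] (s : Finset k') :
    ∃ t : k' ⊗[k] k', Algebra.TensorProduct.lmul' (S := k') k t = 1 ∧
      ∀ a ∈ s, ((1 : k') ⊗ₜ[k] a - a ⊗ₜ[k] (1 : k')) * t = 0 := by
  let k₀ : IntermediateField k k' := IntermediateField.adjoin k (s : Set k')
  haveI : FiniteDimensional k k₀ :=
    IntermediateField.finiteDimensional_adjoin fun x _ => Algebra.IsIntegral.isIntegral x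
  haveI : Algebra.FormallyUnramified k k₀ := Algebra.FormallyUnramified.of_isSeparable k k₀
  let t₀ := Algebra.FormallyUnramified.elem k k₀
  refine ⟨Algebra.TensorProduct.map k₀.val k₀.val t₀, ?_, ?_⟩
  · rw [lmul'_map, Algebra.FormallyUnramified.lmul_elem, map_one]
  · intro a ha
    have ha' : a ∈ k₀ := IntermediateField.subset_adjoin _ _ ha
    have h1 := Algebra.FormallyUnramified.one_tmul_sub_tmul_one_mul_elem (R := k) (S := k₀)
      ⟨a, ha'⟩
    have h2 := congrArg (Algebra.TensorProduct.map k₀.val k₀.val) h1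
    rw [map_mul, map_sub, Algebra.TensorProduct.map_tmul, Algebra.TensorProduct.map_tmul,
      map_zero, map_one] at h2
    exact h2

lemma exists_annihilator_of_lmul'_eq_zero {k k' : Type u} [Field k] [Field k'] [Algebra k k']
    [Algebra.IsSeparable k k'] (w : k' ⊗[k] k')
    (hw : Algebra.TensorProduct.lmul' (S := k') k w = 0) :
    ∃ t : k' ⊗[k] k', Algebra.TensorProduct.lmul' (S := k') k t = 1 ∧ t * w = 0 := by
  classical
  obtain ⟨S, rfl⟩ := TensorProduct.exists_finset w
  obtain ⟨t, ht1, ht2⟩ := exists_sep_elem (k := k) (S.image Prod.snd)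
  refine ⟨t, ht1, ?_⟩
  have h0 : ∑ i ∈ S, i.1 * i.2 = 0 := by
    rw [map_sum] at hw
    simpa using hw
  have h1 : ∑ i ∈ S, i.1 ⊗ₜ[k] i.2 =
      ∑ i ∈ S, (i.1 ⊗ₜ[k] (1 : k')) * ((1 : k') ⊗ₜ[k] i.2 - i.2 ⊗ₜ[k] (1 : k')) := by
    have h2 : ∑ i ∈ S, (i.1 * i.2) ⊗ₜ[k] (1 : k') = 0 := by
      rw [← TensorProduct.sum_tmul, h0, TensorProduct.zero_tmul]
    rw [← sub_zero (∑ i ∈ S, i.1 ⊗ₜ[k] i.2), ← h2, ← Finset.sum_sub_distrib]
    refine Finset.sum_congr rfl fun i _ => ?_
    rw [mul_sub, Algebra.TensorProduct.tmul_mul_tmul, Algebra.TensorProduct.tmul_mul_tmul]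
    simp
  rw [h1, Finset.mul_sum]
  refine Finset.sum_eq_zero fun i hi => ?_
  rw [mul_comm, mul_assoc, ht2 i.2 (Finset.mem_image_of_mem Prod.snd hi), mul_zero]

open TensorProduct in
/-- Let k'/k be a separable algebraic field extension. Then for some multiplicative subset S of k' ⊗_k
k' the multiplication map k' ⊗_k k' → k' is a localization at S: there is a ring isomorphism S⁻¹(k'
⊗_k k') ≅ k' carrying the localization map to the multiplication map. -/
theorem result {k k' : Type u} [Field k] [Field k'] [Algebra k k'] [Algebra.IsSeparable k k'] :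
    ∃ (S : Submonoid (k' ⊗[k] k')) (e : Localization S ≃+* k'), ∀ x : k' ⊗[k] k', e (algebraMap (k' ⊗[k] k') (Localization S) x) = Algebra.TensorProduct.lmul' (S := k') k x := by
  classical
  let μ : k' ⊗[k] k' →ₐ[k] k' := Algebra.TensorProduct.lmul' (S := k') k
  let S : Submonoid (k' ⊗[k] k') := (nonZeroDivisors k').comap μ
  letI : Algebra (k' ⊗[k] k') k' := μ.toRingHom.toAlgebra
  have halg : ∀ x, algebraMap (k' ⊗[k] k') k' x = μ x := fun _ => rfl
  haveI : IsLocalization S k' := by
    rw [isLocalization_iff]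
    refine ⟨?_, ?_, ?_⟩
    · rintro ⟨s, hs⟩
      exact isUnit_iff_ne_zero.mpr (nonZeroDivisors.ne_zero hs)
    · intro z
      refine ⟨(z ⊗ₜ[k] (1 : k'), 1), ?_⟩
      simp [halg, μ]
    · intro x y hxy
      obtain ⟨t, ht1, ht2⟩ := exists_annihilator_of_lmul'_eq_zero (k := k) (x - y) (by
        rw [map_sub, sub_eq_zero]; exact hxy)
      refine ⟨⟨t, ?_⟩, ?_⟩
      · change μ t ∈ nonZeroDivisors k'
        rw [show μ t = 1 from ht1]
        exact one_mem _
      · change t * x = t * y
        rw [← sub_eq_zero, ← mul_sub]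
        exact ht2
  let e := IsLocalization.algEquiv S (Localization S) k'
  refine ⟨S, e.toRingEquiv, fun x => ?_⟩
  exact e.commutes x

end Groth.Agent.S9636
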