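import Groth.Statements.S9635
import Mathlib
import Groth.Agent.Lib.Helper1.GeomRed
import Groth.Agent.S9636

set_option autoImplicit false
universe u
open CAlg

namespace Groth.Agent.S9635

open TensorProduct Groth.Agent.H1.GeomConn Groth.Agent.H1.GeomIrr Groth.Agent.H1.GeomRed

section Down

variable {k k' K A : Type u} [Field k] [Field k'] [Algebra k k'] [Field K] [Algebra k K]
  [Algebra k' K] [IsScalarTower k k' K] [CommRing A] [Algebra k' A] [Algebra k A]
  [IsScalarTower k k' A]

/-- the map `k' ⊗ k' → K ⊗ A` -/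
noncomputable def theta : k' ⊗[k] k' →ₐ[k] K ⊗[k] A :=
  Algebra.TensorProduct.map (IsScalarTower.toAlgHom k k' K) (IsScalarTower.toAlgHom k k' A)

/-- the projection `K ⊗[k] A → K ⊗[k'] A` -/
noncomputable def proj : K ⊗[k] A →ₐ[k] K ⊗[k'] A :=
  Algebra.TensorProduct.mapOfCompatibleSMul k' k k K A

lemma proj_theta (t : k' ⊗[k] k') :
    proj (theta (K := K) (A := A) t) =
      algebraMap k' (K ⊗[k'] A) (Algebra.TensorProduct.lmul' (S := k') k t) := by
  induction t using TensorProduct.induction_on with
  | zero => simp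
  | tmul a b =>
    simp only [theta, proj, Algebra.TensorProduct.map_tmul, IsScalarTower.coe_toAlgHom',
      Algebra.TensorProduct.mapOfCompatibleSMul_tmul, Algebra.TensorProduct.lmul'_apply_tmul]
    rw [Algebra.TensorProduct.algebraMap_apply, map_mul, Algebra.algebraMap_eq_smul_one b,
      TensorProduct.tmul_smul, TensorProduct.smul_tmul', Algebra.smul_def (A := K), mul_comm]
  | add x y hx hy => simp only [map_add, hx, hy]

lemma exists_finset_of_mem_ker (y : K ⊗[k] A) (hy : proj (k' := k') y = 0) :
    ∃ s : Finset k', ∀ t : k' ⊗[k] k',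
      (∀ a ∈ s, ((1 : k') ⊗ₜ[k] a - a ⊗ₜ[k] (1 : k')) * t = 0) →
        theta (K := K) (A := A) t * y = 0 := by
  classical
  have hy' : y ∈ LinearMap.ker (TensorProduct.mapOfCompatibleSMul k' k k' K A) := hy
  rw [TensorProduct.AlgebraTensorModule.ker_mapOfCompatibleSMul] at hy'
  clear hy
  induction hy' using Submodule.span_induction with
  | mem y hy0 =>
    obtain ⟨a, m, n, rfl⟩ := hy0
    refine ⟨{a}, fun t ht => ?_⟩
    have h1 := ht a (Finset.mem_singleton_self a)
    have h2 : (a • m) ⊗ₜ[k] n - m ⊗ₜ[k] (a • n) =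
        - (theta (K := K) (A := A) ((1 : k') ⊗ₜ[k] a - a ⊗ₜ[k] (1 : k')) * (m ⊗ₜ[k] n)) := by
      simp only [theta, map_sub, Algebra.TensorProduct.map_tmul, IsScalarTower.coe_toAlgHom',
        map_one, sub_mul, Algebra.TensorProduct.tmul_mul_tmul, one_mul]
      rw [Algebra.smul_def, Algebra.smul_def]
      ring
    rw [h2, mul_neg, ← mul_assoc, ← map_mul, mul_comm t, h1, map_zero, zero_mul, neg_zero]
  | zero => exact ⟨∅, fun t _ => mul_zero _⟩
  | add x y _ _ hx hy =>
    obtain ⟨s₁, h₁⟩ := hx
    obtain ⟨s₂, h₂⟩ := hy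
    refine ⟨s₁ ∪ s₂, fun t ht => ?_⟩
    rw [mul_add, h₁ t (fun a ha => ht a (Finset.mem_union_left _ ha)),
      h₂ t (fun a ha => ht a (Finset.mem_union_right _ ha)), add_zero]
  | smul c x _ hx =>
    obtain ⟨s₁, h₁⟩ := hx
    refine ⟨s₁, fun t ht => ?_⟩
    rw [mul_smul_comm, h₁ t ht, smul_zero]

lemma isReduced_down [Algebra.IsSeparable k k'] [IsReduced (K ⊗[k] A)] :
    IsReduced (K ⊗[k'] A) := by
  constructor
  intro x hx
  obtain ⟨n, hn⟩ := hx
  obtain ⟨y, rfl⟩ := Algebra.TensorProduct.mapOfCompatibleSMul_surjective k' k k K A x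
  change proj (k' := k') y ^ n = 0 at hn
  have hn' : proj (k' := k') (y ^ (n + 1)) = 0 := by rw [map_pow, pow_succ, hn, zero_mul]
  obtain ⟨s, hs⟩ := exists_finset_of_mem_ker (k' := k') _ hn'
  obtain ⟨t, ht1, ht2⟩ := Groth.Agent.S9636.exists_sep_elem (k := k) s
  have h1 : theta (K := K) (A := A) t * y ^ (n + 1) = 0 := hs t ht2
  have h2 : (theta (K := K) (A := A) t * y) ^ (n + 1) = 0 := by
    rw [mul_pow, pow_succ (theta t), mul_assoc, h1, mul_zero]
  have h3 : theta (K := K) (A := A) t * y = 0 := (IsNilpotent.eq_zero ⟨n + 1, h2⟩)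
  have h4 := congrArg (proj (k' := k')) h3
  rw [map_mul, proj_theta, ht1, map_one, one_mul, map_zero] at h4
  exact h4

end Down

open TensorProduct in
/-- Let k ⊆ k' be fields with k' separable algebraic over k, and A a k'-algebra. Then A is geometrically
reduced over k (K ⊗_k A reduced for all field extensions K/k) if and only if A is geometrically
reduced over k' (K ⊗_{k'} A reduced for all field extensions K/k'). Here the test fields K range
over field extensions (of k, respectively of k') in the common universe of k and k'; this is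
equivalent to the unrestricted notions, since an algebraic closure of the base field suffices as a
test. -/
theorem result {k k' A : Type u} [Field k] [Field k'] [Algebra k k'] [Algebra.IsSeparable k k'] [CommRing A] [Algebra k' A] [Algebra k A] [IsScalarTower k k' A] :
    (∀ (K : Type u) [Field K] [Algebra k K], IsReduced (K ⊗[k] A)) ↔
      ∀ (K : Type u) [Field K] [Algebra k' K], IsReduced (K ⊗[k'] A) := by
  constructor
  · intro h K _ _
    letI : Algebra k K := ((algebraMap k' K).comp (algebraMap k k')).toAlgebra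
    haveI : IsScalarTower k k' K := IsScalarTower.of_algebraMap_eq fun _ => rfl
    haveI := h K
    exact isReduced_down (k := k)
  · intro h K _ _
    haveI : IsReduced (k' ⊗[k] K) := isReduced_tensor_field_of_isSeparable k K k'
    haveI : IsReduced ((k' ⊗[k] K) ⊗[k'] A) :=
      isReduced_tensor_of_forall_prime fun p _ => h p.ResidueField
    let e₁ := Algebra.TensorProduct.comm k' (k' ⊗[k] K) A
    let e₂ := Algebra.TensorProduct.cancelBaseChange k k' k' A K
    let e₃ := Algebra.TensorProduct.comm k A K
    exact isReduced_of_injective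
      ((e₁.symm.toRingHom.comp e₂.symm.toRingHom).comp e₃.symm.toRingHom)
      ((e₁.symm.injective.comp e₂.symm.injective).comp e₃.symm.injective)

end Groth.Agent.S9635
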