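import Groth.Statements.S9641
import Mathlib

set_option autoImplicit false
universe u
open CAlg

namespace Groth.Agent.S9641

open TensorProduct in
/-- Let k be a field and R, S two k-algebras. If R ⊗_k S is not reduced then there are finitely
generated k-subalgebras R' ⊆ R and S' ⊆ S such that R' ⊗_k S' is not reduced. -/
theorem result {k R S : Type u} [Field k] [CommRing R] [CommRing S] [Algebra k R] [Algebra k S] (h : ¬ IsReduced (R ⊗[k] S)) :
    ∃ (R' : Subalgebra k R) (S' : Subalgebra k S), R'.FG ∧ S'.FG ∧ ¬ IsReduced (R' ⊗[k] S') := by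
  classical
  rw [isReduced_iff] at h
  push Not at h
  obtain ⟨x, hx, hx0⟩ := h
  obtain ⟨T, hT⟩ := TensorProduct.exists_finset x
  let R' : Subalgebra k R := Algebra.adjoin k ((T.image Prod.fst : Finset R) : Set R)
  let S' : Subalgebra k S := Algebra.adjoin k ((T.image Prod.snd : Finset S) : Set S)
  refine ⟨R', S', ⟨_, rfl⟩, ⟨_, rfl⟩, ?_⟩
  have hr : ∀ i ∈ T, i.1 ∈ R' := fun i hi ↦
    Algebra.subset_adjoin (Finset.mem_coe.mpr (Finset.mem_image_of_mem _ hi))
  have hs : ∀ i ∈ T, i.2 ∈ S' := fun i hi ↦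
    Algebra.subset_adjoin (Finset.mem_coe.mpr (Finset.mem_image_of_mem _ hi))
  let x' : R' ⊗[k] S' := ∑ i ∈ T.attach, (⟨i.1.1, hr _ i.2⟩ : R') ⊗ₜ[k] (⟨i.1.2, hs _ i.2⟩ : S')
  let φ : R' ⊗[k] S' →ₐ[k] R ⊗[k] S := Algebra.TensorProduct.map R'.val S'.val
  have hφ : Function.Injective φ :=
    TensorProduct.map_injective_of_flat_flat R'.val.toLinearMap S'.val.toLinearMap
      Subtype.val_injective Subtype.val_injective
  have hφx : φ x' = x := by
    rw [hT, map_sum, ← Finset.sum_attach T]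
    rfl
  intro hred
  have hx' : IsNilpotent x' := by
    obtain ⟨n, hn⟩ := hx
    refine ⟨n, hφ ?_⟩
    rw [map_pow, hφx, hn, map_zero]
  have := hred.eq_zero x' hx'
  rw [this, map_zero] at hφx
  exact hx0 hφx.symm

end Groth.Agent.S9641
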