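import Groth.Statements.S9643
import Mathlib

set_option autoImplicit false
universe u
open CAlg

namespace Groth.Agent.S9643

theorem support_filtration {R : Type u} [CommRing R] (M : Type u) [AddCommGroup M] [Module R M]
    {n : ℕ} (N : Fin (n + 1) → Submodule R M) (hN : Monotone N) (h0 : N 0 = ⊥)
    (p : Fin n → PrimeSpectrum R)
    (hquot : ∀ i : Fin n, Nonempty ((↥(N i.succ) ⧸ Submodule.comap (N i.succ).subtype (N i.castSucc)) ≃ₗ[R] (R ⧸ (p i).asIdeal)))
    (i : ℕ) (hi : i ≤ n) :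
    Module.support R (N ⟨i, Nat.lt_succ_of_le hi⟩) = {q | ∃ j : Fin n, j.val < i ∧ p j ≤ q} := by
  induction i with
  | zero =>
    have : N ⟨0, Nat.lt_succ_of_le hi⟩ = ⊥ := h0
    rw [this]
    rw [Module.support_eq_empty]
    ext q; simp
  | succ i ih =>
    have hi' : i < n := hi
    let j0 : Fin n := ⟨i, hi'⟩
    have e1 : (⟨i + 1, Nat.lt_succ_of_le hi⟩ : Fin (n + 1)) = j0.succ := rfl
    have e2 : (⟨i, Nat.lt_succ_of_le (Nat.le_of_succ_le hi)⟩ : Fin (n + 1)) = j0.castSucc := rfl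
    have ih' := ih (Nat.le_of_succ_le hi)
    rw [e2] at ih'
    rw [e1]
    have hle : N j0.castSucc ≤ N j0.succ := hN (Fin.castSucc_le_succ j0)
    have hex := Module.support_of_exact
      (f := (Submodule.comap (N j0.succ).subtype (N j0.castSucc)).subtype)
      (g := (Submodule.comap (N j0.succ).subtype (N j0.castSucc)).mkQ)
      (LinearMap.exact_subtype_mkQ _) (Submodule.subtype_injective _) (Submodule.mkQ_surjective _)
    rw [hex, (Submodule.comapSubtypeEquivOfLe hle).support_eq, ih', (hquot j0).some.support_eq,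
      Module.support_of_algebra, Ideal.Quotient.algebraMap_eq, Ideal.mk_ker]
    ext q
    simp only [Set.mem_union, Set.mem_setOf_eq, PrimeSpectrum.mem_zeroLocus, SetLike.coe_subset_coe]
    constructor
    · rintro (⟨j, hj, hjq⟩ | h)
      · exact ⟨j, Nat.lt_succ_of_lt hj, hjq⟩
      · exact ⟨j0, Nat.lt_succ_self i, h⟩
    · rintro ⟨j, hj, hjq⟩
      rcases Nat.lt_succ_iff_lt_or_eq.mp hj with h | h
      · exact Or.inl ⟨j, h, hjq⟩
      · right
        have : j = j0 := Fin.ext h
        rw [← this]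
        exact hjq

theorem support_eq {R : Type u} [CommRing R] (M : Type u) [AddCommGroup M] [Module R M]
    {n : ℕ} (N : Fin (n + 1) → Submodule R M) (hN : Monotone N) (h0 : N 0 = ⊥) (hlast : N (Fin.last n) = ⊤)
    (p : Fin n → PrimeSpectrum R)
    (hquot : ∀ i : Fin n, Nonempty ((↥(N i.succ) ⧸ Submodule.comap (N i.succ).subtype (N i.castSucc)) ≃ₗ[R] (R ⧸ (p i).asIdeal))) :
    Module.support R M = {q | ∃ j : Fin n, p j ≤ q} := by
  have h := support_filtration M N hN h0 p hquot n le_rfl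
  have e : (⟨n, Nat.lt_succ_of_le le_rfl⟩ : Fin (n + 1)) = Fin.last n := rfl
  rw [e] at h
  have e2 : Module.support R (N (Fin.last n)) = Module.support R M := by
    rw [hlast]
    exact (Submodule.topEquiv (R := R) (M := M)).support_eq
  rw [← e2, h]
  ext q
  simp only [Set.mem_setOf_eq]
  exact ⟨fun ⟨j, _, h⟩ => ⟨j, h⟩, fun ⟨j, h⟩ => ⟨j, j.2, h⟩⟩

/-- Let R be a Noetherian ring, M a finite R-module and 0 = M_0 ⊆ M_1 ⊆ ⋯ ⊆ M_n = M a chain of
submodules whose successive quotients M_i/M_{i-1} are isomorphic to R/p_i for prime ideals p_i. Then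
the primes minimal among p_1, …, p_n are exactly the primes minimal in the support of M. -/
theorem result {R : Type u} [CommRing R] [IsNoetherianRing R] (M : Type u) [AddCommGroup M] [Module R M] [Module.Finite R M]
    {n : ℕ} (N : Fin (n + 1) → Submodule R M) (hN : Monotone N) (h0 : N 0 = ⊥) (hlast : N (Fin.last n) = ⊤)
    (p : Fin n → PrimeSpectrum R)
    (hquot : ∀ i : Fin n, Nonempty ((↥(N i.succ) ⧸ Submodule.comap (N i.succ).subtype (N i.castSucc)) ≃ₗ[R] (R ⧸ (p i).asIdeal))) :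
    {q : PrimeSpectrum R | Minimal (fun x => x ∈ Set.range p) q} = {q : PrimeSpectrum R | Minimal (fun x => x ∈ Module.support R M) q} := by
  have hs := support_eq M N hN h0 hlast p hquot
  ext q
  simp only [Set.mem_setOf_eq]
  constructor
  · rintro ⟨⟨i, rfl⟩, hmin⟩
    refine ⟨?_, ?_⟩
    · rw [hs]; exact ⟨i, le_rfl⟩
    · intro q' hq' hle
      rw [hs] at hq'
      obtain ⟨j, hj⟩ := hq'
      exact (hmin ⟨j, rfl⟩ (hj.trans hle)).trans hj
  · rintro ⟨hq, hmin⟩
    rw [hs] at hq
    obtain ⟨j, hj⟩ := hq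
    have hjs : p j ∈ Module.support R M := by rw [hs]; exact ⟨j, le_rfl⟩
    have hqj : q = p j := le_antisymm (hmin hjs hj) hj
    refine ⟨⟨j, hqj.symm⟩, ?_⟩
    rintro _ ⟨i, rfl⟩ hle
    have his : p i ∈ Module.support R M := by rw [hs]; exact ⟨i, le_rfl⟩
    exact hmin his hle

end Groth.Agent.S9643
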