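import Groth.Statements.S9644
import Mathlib

set_option autoImplicit false
universe u
open CAlg

namespace Groth.Agent.S9644

open PrimeSpectrum

section Gen

variable {R : Type u} [CommRing R] (M : Type u) [AddCommGroup M] [Module R M]

/-- elements killed generically at every minimal prime of `Ann M`. -/
def genKer : Submodule R M where
  carrier := {m | ∀ p ∈ (Module.annihilator R M).minimalPrimes, ∃ s ∉ p, s • m = 0}
  zero_mem' := fun p hp => ⟨1, (Ideal.ne_top_iff_one p).mp hp.1.1.ne_top, smul_zero _⟩
  add_mem' := by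
    intro a b ha hb p hp
    obtain ⟨s, hs, hsa⟩ := ha p hp
    obtain ⟨t, ht, htb⟩ := hb p hp
    haveI := hp.1.1
    refine ⟨s * t, fun h => (Ideal.IsPrime.mem_or_mem ‹_› h).elim hs ht, ?_⟩
    rw [smul_add, mul_smul s t b, htb, smul_zero, add_zero, mul_comm s t, mul_smul, hsa, smul_zero]
  smul_mem' := by
    intro c a ha p hp
    obtain ⟨s, hs, hsa⟩ := ha p hp
    exact ⟨s, hs, by rw [smul_comm, hsa, smul_zero]⟩

variable {M}

lemma mem_genKer {m : M} : m ∈ genKer (R := R) M ↔
    ∀ p ∈ (Module.annihilator R M).minimalPrimes, ∃ s ∉ p, s • m = 0 := Iff.rfl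

variable [IsNoetherianRing R] [Module.Finite R M]

lemma le_genKer_iff (K' : Submodule R M) :
    (∀ U : Set (PrimeSpectrum R), IsOpen U → U ∩ Module.support R M ⊆
      closure (Module.support R ↥K') → U ∩ Module.support R M = ∅) ↔ K' ≤ genKer M := by
  haveI : IsNoetherian R M := isNoetherian_of_isNoetherianRing_of_finite R M
  constructor
  · intro h m hm p hp
    by_contra hcon
    push Not at hcon
    haveI hpp : p.IsPrime := hp.1.1
    let p' : PrimeSpectrum R := ⟨p, hpp⟩
    have hp'K : p' ∈ Module.support R ↥K' := by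
      rw [Module.mem_support_iff_exists_annihilator]
      refine ⟨⟨m, hm⟩, fun s hs => ?_⟩
      rw [Submodule.mem_annihilator_span_singleton] at hs
      by_contra hsp
      exact hcon s hsp (congrArg Subtype.val hs)
    have hp'M : p' ∈ Module.support R M := by
      rw [Module.support_eq_zeroLocus]
      exact hp.1.2
    have hfin : ((Module.annihilator R M).minimalPrimes).Finite :=
      Ideal.finite_minimalPrimes_of_isNoetherianRing R _
    let U : Set (PrimeSpectrum R) :=
      (⋃ q ∈ ((Module.annihilator R M).minimalPrimes \ {p}), zeroLocus (q : Set R))ᶜ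
    have hU : IsOpen U := by
      rw [isOpen_compl_iff]
      exact (hfin.subset Set.sdiff_subset).isClosed_biUnion fun q _ => isClosed_zeroLocus _
    have hsub : U ∩ Module.support R M ⊆ closure (Module.support R ↥K') := by
      rintro q ⟨hqU, hqM⟩
      apply subset_closure
      rw [Module.support_eq_zeroLocus, mem_zeroLocus] at hqM
      obtain ⟨p₂, hp₂, hp₂q⟩ := Ideal.exists_minimalPrimes_le hqM
      have : p₂ = p := by
        by_contra hne
        apply hqU
        simp only [Set.mem_iUnion]
        exact ⟨p₂, ⟨hp₂, hne⟩, hp₂q⟩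
      subst this
      exact Module.mem_support_mono (p := p') hp₂q hp'K
    have hmem : p' ∈ U ∩ Module.support R M := by
      refine ⟨?_, hp'M⟩
      simp only [U, Set.mem_compl_iff, Set.mem_iUnion, not_exists]
      rintro q ⟨hq, hqne⟩ hqp
      apply hqne
      have hqp' : q ≤ p := hqp
      exact le_antisymm hqp' (hp.2 ⟨hq.1.1, hq.1.2⟩ hqp')
    have := h U hU hsub
    rw [this] at hmem
    exact hmem
  · intro hle U hU hsub
    by_contra hne
    obtain ⟨q, hqU, hqM⟩ := Set.nonempty_iff_ne_empty.mpr hne
    have hcl : closure (Module.support R ↥K') = Module.support R ↥K' := by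
      rw [Module.support_eq_zeroLocus]
      exact (isClosed_zeroLocus _).closure_eq
    rw [hcl] at hsub
    have hqM' := hqM
    rw [Module.support_eq_zeroLocus, mem_zeroLocus] at hqM'
    obtain ⟨p, hp, hpq⟩ := Ideal.exists_minimalPrimes_le hqM'
    haveI hpp : p.IsPrime := hp.1.1
    let p' : PrimeSpectrum R := ⟨p, hpp⟩
    have hspec : p' ⤳ q := (PrimeSpectrum.le_iff_specializes p' q).mp hpq
    have hp'U : p' ∈ U := hspec.mem_open hU hqU
    have hp'M : p' ∈ Module.support R M := by
      rw [Module.support_eq_zeroLocus]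
      exact hp.1.2
    have hp'K := hsub ⟨hp'U, hp'M⟩
    rw [Module.mem_support_iff_exists_annihilator] at hp'K
    obtain ⟨⟨m, hm⟩, hann⟩ := hp'K
    obtain ⟨s, hs, hsm⟩ := hle hm p hp
    apply hs
    apply hann
    rw [Submodule.mem_annihilator_span_singleton]
    exact Subtype.ext hsm

lemma support_quot_genKer :
    Module.support R (M ⧸ genKer (R := R) M) = Module.support R M := by
  apply le_antisymm
  · exact Module.support_subset_of_surjective _ (Submodule.mkQ_surjective _)
  · intro q hqM
    have hqM' := hqM
    rw [Module.support_eq_zeroLocus, mem_zeroLocus] at hqM'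
    obtain ⟨p, hp, hpq⟩ := Ideal.exists_minimalPrimes_le hqM'
    haveI hpp : p.IsPrime := hp.1.1
    let p' : PrimeSpectrum R := ⟨p, hpp⟩
    have hp'M : p' ∈ Module.support R M := by
      rw [Module.support_eq_zeroLocus]
      exact hp.1.2
    refine Module.mem_support_mono (p := p') hpq ?_
    rw [Module.mem_support_iff_exists_annihilator] at hp'M ⊢
    obtain ⟨m, hm⟩ := hp'M
    refine ⟨(genKer M).mkQ m, fun r hr => ?_⟩
    rw [Submodule.mem_annihilator_span_singleton, ← map_smul, Submodule.mkQ_apply,
      Submodule.Quotient.mk_eq_zero] at hr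
    obtain ⟨s, hs, hsr⟩ := hr p hp
    have h1 : s * r ∈ p := by
      apply hm
      rw [Submodule.mem_annihilator_span_singleton, mul_smul]
      exact hsr
    exact (hpp.mem_or_mem h1).resolve_left hs

lemma assoc_quot_genKer (q : Ideal R) (hq : q ∈ associatedPrimes R (M ⧸ genKer (R := R) M)) :
    q ∈ (Module.annihilator R M).minimalPrimes := by
  obtain ⟨hqp, x, hx⟩ := (isAssociatedPrime_iff).mp hq
  obtain ⟨m, rfl⟩ := Submodule.mkQ_surjective _ x
  have hmem : ∀ r, r ∈ q ↔ r • m ∈ genKer (R := R) M := by
    intro r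
    rw [hx, Submodule.mem_colon_singleton, Submodule.mem_bot, ← map_smul, Submodule.mkQ_apply,
      Submodule.Quotient.mk_eq_zero]
  have hm : m ∉ genKer (R := R) M := by
    intro hm
    apply hqp.ne_top
    rw [Ideal.eq_top_iff_one, hmem, one_smul]
    exact hm
  rw [mem_genKer] at hm
  push Not at hm
  obtain ⟨p, hp, hpm⟩ := hm
  haveI hpp : p.IsPrime := hp.1.1
  have hqp' : q ≤ p := by
    intro r hr
    obtain ⟨s, hs, hsr⟩ := (hmem r).mp hr p hp
    by_contra hrp
    have : s * r ∉ p := fun h => (hpp.mem_or_mem h).elim hs hrp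
    exact hpm _ this (by rw [mul_smul]; exact hsr)
  have hann : Module.annihilator R M ≤ q := by
    intro r hr
    rw [hmem, Module.mem_annihilator.mp hr m]
    exact zero_mem _
  have : p ≤ q := hp.2 ⟨hqp, hann⟩ hqp'
  rw [le_antisymm hqp' this]
  exact hp

lemma exists_pow_smul_eq_zero (f : R)
    (hf : ∀ p ∈ associatedPrimes R M, ¬ Minimal (fun x => x ∈ associatedPrimes R M) p → f ∈ p)
    (x : M) (hx : x ∈ genKer (R := R) M) : ∃ n : ℕ, f ^ n • x = 0 := by
  by_contra hcon
  push Not at hcon
  -- maximal annihilator among f-torsion-free elements of genKer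
  obtain ⟨P, ⟨y, hyK, hyf, rfl⟩, hmax⟩ :=
    set_has_maximal_iff_noetherian.mpr ‹IsNoetherianRing R›
      { P | ∃ y : M, y ∈ genKer (R := R) M ∧ (∀ n : ℕ, f ^ n • y ≠ 0) ∧
        P = (⊥ : Submodule R M).colon {y} }
      ⟨_, x, hx, hcon, rfl⟩
  have hmem : ∀ (z : M) (r : R), r ∈ (⊥ : Submodule R M).colon {z} ↔ r • z = 0 := by
    intro z r
    rw [Submodule.mem_colon_singleton, Submodule.mem_bot]
  -- annihilator does not grow when multiplying by powers of f
  have hpow : ∀ n : ℕ, (⊥ : Submodule R M).colon {f ^ n • y} = (⊥ : Submodule R M).colon {y} := by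
    intro n
    have hle : (⊥ : Submodule R M).colon {y} ≤ (⊥ : Submodule R M).colon {f ^ n • y} := by
      intro c hc
      rw [hmem] at hc ⊢
      rw [smul_comm, hc, smul_zero]
    symm
    apply hle.eq_of_not_lt
    apply hmax
    refine ⟨f ^ n • y, Submodule.smul_mem _ _ hyK, fun j => ?_, rfl⟩
    rw [← mul_smul, ← pow_add]
    exact hyf _
  have hprime : ((⊥ : Submodule R M).colon {y}).IsPrime := by
    refine ⟨?_, ?_⟩
    · rw [Ne, Ideal.eq_top_iff_one, hmem, one_smul]
      have := hyf 0
      rwa [pow_zero, one_smul] at this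
    · intro a b hab
      rw [or_iff_not_imp_right]
      intro hb
      rw [hmem] at hab hb ⊢
      by_cases hbf : ∀ n : ℕ, f ^ n • (b • y) ≠ 0
      · have hle : (⊥ : Submodule R M).colon {y} ≤ (⊥ : Submodule R M).colon {b • y} := by
          intro c hc
          rw [hmem] at hc ⊢
          rw [smul_comm, hc, smul_zero]
        have heq := hle.eq_of_not_lt
          (hmax _ ⟨b • y, Submodule.smul_mem _ _ hyK, hbf, rfl⟩)
        have : a ∈ (⊥ : Submodule R M).colon {b • y} := by
          rw [hmem, ← mul_smul]; exact hab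
        rw [← heq, hmem] at this
        exact this
      · exfalso
        push Not at hbf
        obtain ⟨n, hn⟩ := hbf
        have : b ∈ (⊥ : Submodule R M).colon {f ^ n • y} := by
          rw [hmem, smul_comm]; exact hn
        rw [hpow, hmem] at this
        exact hb this
  have hass : (⊥ : Submodule R M).colon {y} ∈ associatedPrimes R M :=
    (isAssociatedPrime_iff).mpr ⟨hprime, y, rfl⟩
  have hfP : f ∉ (⊥ : Submodule R M).colon {y} := by
    rw [hmem]
    have := hyf 1
    rwa [pow_one] at this
  have hmin : Minimal (fun x => x ∈ associatedPrimes R M) ((⊥ : Submodule R M).colon {y}) := by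
    by_contra h
    exact hfP (hf _ hass h)
  -- a minimal associated prime is a minimal prime of the annihilator
  have hann : Module.annihilator R M ≤ (⊥ : Submodule R M).colon {y} := by
    intro r hr
    rw [hmem]
    exact Module.mem_annihilator.mp hr y
  obtain ⟨p, hp, hpP⟩ := Ideal.exists_minimalPrimes_le hann
  have hpass : p ∈ associatedPrimes R M :=
    Module.associatedPrimes.minimalPrimes_annihilator_subset_associatedPrimes R M hp
  have hPp : (⊥ : Submodule R M).colon {y} ≤ p := hmin.2 hpass hpP
  have hPeq : p = (⊥ : Submodule R M).colon {y} := le_antisymm hpP hPp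
  obtain ⟨s, hs, hsy⟩ := hyK p hp
  apply hs
  rw [hPeq, hmem]
  exact hsy

end Gen

/-- Let R be a Noetherian ring and M a finite R-module. Among the submodules K' of M whose support is
nowhere dense inside Supp(M) there is a largest one, K. The quotient M' = M/K then satisfies
Supp(M') = Supp(M), its associated primes are pairwise incomparable (no embedded ones), and whenever
f ∈ R belongs to every embedded associated prime of M the localized map M_f → M'_f is bijective. -/
theorem result {R : Type u} [CommRing R] [IsNoetherianRing R] (M : Type u) [AddCommGroup M] [Module R M] [Module.Finite R M] :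
    ∃ K : Submodule R M,
      IsGreatest {K' : Submodule R M | ∀ U : Set (PrimeSpectrum R), IsOpen U → U ∩ Module.support R M ⊆ closure (Module.support R ↥K') → U ∩ Module.support R M = ∅} K ∧
      Module.support R (M ⧸ K) = Module.support R M ∧
      (∀ p ∈ associatedPrimes R (M ⧸ K), ∀ q ∈ associatedPrimes R (M ⧸ K), p ≤ q → p = q) ∧
      ∀ f : R, (∀ p ∈ associatedPrimes R M, ¬ Minimal (fun x => x ∈ associatedPrimes R M) p → f ∈ p) →
        Function.Bijective (LocalizedModule.map (Submonoid.powers f) K.mkQ) := by
  refine ⟨genKer M, ⟨?_, ?_⟩, support_quot_genKer, ?_, ?_⟩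
  · exact (le_genKer_iff _).mpr le_rfl
  · intro K' hK'
    exact (le_genKer_iff K').mp hK'
  · intro p hp q hq hpq
    have hp' := assoc_quot_genKer p hp
    have hq' := assoc_quot_genKer q hq
    exact le_antisymm hpq (hq'.2 ⟨hp'.1.1, hp'.1.2⟩ hpq)
  · intro f hf
    constructor
    · rw [injective_iff_map_eq_zero]
      intro z hz
      induction z using LocalizedModule.induction_on with
      | h m s =>
        rw [LocalizedModule.map_mk, ← LocalizedModule.zero_mk s, LocalizedModule.mk_eq] at hz
        obtain ⟨c, hc⟩ := hz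
        simp only [Submonoid.smul_def, smul_zero] at hc
        rw [← map_smul, ← map_smul, Submodule.mkQ_apply,
          Submodule.Quotient.mk_eq_zero] at hc
        obtain ⟨n, hn⟩ := exists_pow_smul_eq_zero f hf _ hc
        rw [← LocalizedModule.zero_mk s, LocalizedModule.mk_eq]
        refine ⟨⟨f ^ n, n, rfl⟩ * c, ?_⟩
        simp only [Submonoid.smul_def, smul_zero, Submonoid.coe_mul, mul_smul]
        exact hn
    · exact LocalizedModule.map_surjective _ _ (Submodule.mkQ_surjective _)

end Groth.Agent.S9644
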