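import Groth.Statements.S9646
import Mathlib

set_option autoImplicit false
universe u
open CAlg

namespace Groth.Agent.S9646

/-- (2) ⇒ (1): let R → S be a ring map and x ∈ S. If for every prime ideal p of R the image of x in S_p
(the localization of S at the image of R ∖ p) is integral over R_p, then x is integral over R. Here
R_p and S_p are any rings satisfying the localization universal properties. -/
theorem result {R S : Type u} [CommRing R] [CommRing S] [Algebra R S] (x : S)
    (h : ∀ (p : Ideal R) [p.IsPrime] (Rp Sp : Type u) [CommRing Rp] [CommRing Sp] [Algebra R Rp] [Algebra S Sp] [Algebra Rp Sp] [Algebra R Sp] [IsScalarTower R S Sp] [IsScalarTower R Rp Sp] [IsLocalization.AtPrime Rp p] [IsLocalization (Algebra.algebraMapSubmonoid S p.primeCompl) Sp], IsIntegral Rp (algebraMap S Sp x)) :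
    IsIntegral R x := by
  -- the ideal of `r` with `r • x` integral
  let J : Ideal R := ((integralClosure R S).toSubmodule).colon {x}
  have hJ : ∀ r, r ∈ J ↔ IsIntegral R (r • x) := by
    intro r
    simp only [J, Submodule.mem_colon_singleton]
    rfl
  suffices hJt : J = ⊤ by
    have : (1 : R) ∈ J := hJt ▸ Submodule.mem_top
    rw [hJ, one_smul] at this
    exact this
  by_contra hne
  obtain ⟨p, hp, hJp⟩ := Ideal.exists_le_maximal J hne
  have hpp : p.IsPrime := hp.isPrime
  have hx := h p (Localization.AtPrime p) (Localization (Algebra.algebraMapSubmonoid S p.primeCompl))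
  obtain ⟨⟨m₂, hm₂⟩, hm₂s⟩ := IsIntegral.exists_multiple_integral_of_isLocalization p.primeCompl _ hx
  simp only [Submonoid.smul_def] at hm₂s
  obtain ⟨m₃, hm₃, hm₃s⟩ := IsLocalization.exists_isIntegral_smul_of_isIntegral_map
    (Sₘ := Localization (Algebra.algebraMapSubmonoid S p.primeCompl))
    p.primeCompl (x := m₂ • x) <| by
      rwa [Algebra.smul_def, map_mul, ← IsScalarTower.algebraMap_apply, ← Algebra.smul_def]
  rw [smul_smul] at hm₃s
  have : m₃ * m₂ ∈ J := (hJ _).mpr hm₃s
  exact (mul_mem hm₃ hm₂ : m₃ * m₂ ∈ p.primeCompl) (hJp this)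

end Groth.Agent.S9646
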