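import Groth.Statements.S9647
import Mathlib

set_option autoImplicit false
universe u
open CAlg

namespace Groth.Agent.S9647

open TensorProduct

section
variable {k L K : Type u} [Field k] [Field L] [Field K] [Algebra k K] [Algebra k L]

lemma gal_smul_tmul (g : L ≃ₐ[k] L) (a : L) (b : K) : g • (a ⊗ₜ[k] b) = (g a) ⊗ₜ[k] b := by
  rw [TensorProduct.smul_tmul', AlgEquiv.smul_def]

lemma gal_smul_eq (g : L ≃ₐ[k] L) (x : L ⊗[k] K) :
    g • x = Algebra.TensorProduct.map (g : L →ₐ[k] L) (AlgHom.id k K) x := by
  induction x using TensorProduct.induction_on with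
  | zero => simp
  | tmul a b => rw [gal_smul_tmul]; rfl
  | add x y hx hy => rw [smul_add, hx, hy, map_add]

variable (k L K) in
noncomputable instance galAction : MulSemiringAction (L ≃ₐ[k] L) (L ⊗[k] K) :=
  { (inferInstance : DistribMulAction (L ≃ₐ[k] L) (L ⊗[k] K)) with
    smul_one := fun g => by rw [gal_smul_eq, map_one]
    smul_mul := fun g x y => by rw [gal_smul_eq, gal_smul_eq, gal_smul_eq, map_mul] }

attribute [local instance] Algebra.TensorProduct.rightAlgebra

instance galSMulComm : SMulCommClass (L ≃ₐ[k] L) K (L ⊗[k] K) where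
  smul_comm g c x := by
    rw [Algebra.smul_def, Algebra.smul_def, gal_smul_eq, gal_smul_eq, map_mul]
    congr 1
    rw [Algebra.TensorProduct.right_algebraMap_apply, Algebra.TensorProduct.map_tmul]
    simp

lemma gal_stabilizer_isOpen [Algebra.IsIntegral k L] (x : L ⊗[k] K) :
    IsOpen (MulAction.stabilizer (L ≃ₐ[k] L) x : Set (L ≃ₐ[k] L)) := by
  induction x using TensorProduct.induction_on with
  | zero =>
    have : MulAction.stabilizer (L ≃ₐ[k] L) (0 : L ⊗[k] K) = ⊤ := by
      ext g; simp
    rw [this]; exact isOpen_univ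
  | tmul a b =>
    refine Subgroup.isOpen_mono (H₁ := MulAction.stabilizer (L ≃ₐ[k] L) a) ?_
      (stabilizer_isOpen_of_isIntegral a)
    intro g hg
    rw [MulAction.mem_stabilizer_iff] at hg ⊢
    rw [gal_smul_tmul]
    congr 1
  | add x y hx hy =>
    refine Subgroup.isOpen_mono (H₁ := MulAction.stabilizer (L ≃ₐ[k] L) x ⊓
      MulAction.stabilizer (L ≃ₐ[k] L) y) ?_ (hx.inter hy)
    intro g hg
    obtain ⟨hgx, hgy⟩ := Subgroup.mem_inf.mp hg
    rw [MulAction.mem_stabilizer_iff] at hgx hgy ⊢
    rw [smul_add, hgx, hgy]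

lemma gal_repr_smul {ι : Type*} (B : Module.Basis ι k K) (g : L ≃ₐ[k] L) (x : L ⊗[k] K) (i : ι) :
    (Algebra.TensorProduct.basis L B).repr (g • x) i =
      g ((Algebra.TensorProduct.basis L B).repr x i) := by
  induction x using TensorProduct.induction_on with
  | zero => simp
  | tmul a b =>
    rw [gal_smul_tmul, Algebra.TensorProduct.basis_repr_tmul,
      Algebra.TensorProduct.basis_repr_tmul]
    simp
  | add x y hx hy =>
    rw [smul_add, map_add, map_add, Finsupp.add_apply, Finsupp.add_apply, hx, hy, map_add]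

instance galInvariant [IsGalois k L] : Algebra.IsInvariant K (L ⊗[k] K) (L ≃ₐ[k] L) where
  isInvariant x hx := by
    let B := Module.Basis.ofVectorSpace k K
    let BL := Algebra.TensorProduct.basis L B
    have h1 : ∀ i, BL.repr x i ∈ Set.range (algebraMap k L) := by
      intro i
      rw [InfiniteGalois.mem_range_algebraMap_iff_fixed]
      intro g
      have h2 := gal_repr_smul B g x i
      rw [show g • x = x from hx g] at h2
      exact h2.symm
    choose d hd using h1
    refine ⟨∑ i ∈ (BL.repr x).support, d i • B i, ?_⟩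
    rw [Algebra.TensorProduct.right_algebraMap_apply, tmul_sum]
    conv_rhs => rw [← BL.linearCombination_repr x]
    rw [Finsupp.linearCombination_apply, Finsupp.sum]
    refine Finset.sum_congr rfl fun i _ => ?_
    rw [← hd i, Algebra.TensorProduct.basis_apply, tmul_smul, smul_tmul', algebraMap_smul]
    rw [smul_tmul']

lemma gal_transitive [IsGalois k L] (P Q : Ideal (L ⊗[k] K)) [P.IsPrime] [Q.IsPrime] :
    ∃ σ : L ≃ₐ[k] L,
      Q = P.comap (Algebra.TensorProduct.map (σ : L →ₐ[k] L) (AlgHom.id k K)) := by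
  letI : TopologicalSpace (L ⊗[k] K) := ⊥
  haveI : DiscreteTopology (L ⊗[k] K) := ⟨rfl⟩
  haveI : ContinuousSMul (L ≃ₐ[k] L) (L ⊗[k] K) :=
    continuousSMul_iff_stabilizer_isOpen.mpr gal_stabilizer_isOpen
  have hbot : ∀ (I : Ideal (L ⊗[k] K)), I.IsPrime → I.under K = ⊥ := by
    intro I hI
    rcases Ideal.eq_bot_or_top (I.under K) with h | h
    · exact h
    · exfalso
      have h1 : (1 : K) ∈ I.under K := h ▸ Submodule.mem_top
      rw [Ideal.mem_comap, map_one] at h1
      exact hI.ne_top ((Ideal.eq_top_iff_one _).mpr h1)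
  have hPQ : P.under K = Q.under K := by
    rw [hbot P inferInstance, hbot Q inferInstance]
  obtain ⟨g, hg⟩ := Algebra.IsInvariant.exists_smul_of_under_eq_of_profinite (A := K)
    (G := L ≃ₐ[k] L) P Q hPQ
  refine ⟨g⁻¹, ?_⟩
  rw [hg]
  ext x
  rw [Ideal.mem_pointwise_smul_iff_inv_smul_mem, Ideal.mem_comap, gal_smul_eq]

end

open TensorProduct in
/-- Let K/k be a field extension and k^sep a separable algebraic closure of k. Then the automorphism
group of k^sep over k acts transitively on the primes of k^sep ⊗_k K: for any two primes P, Q there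
is a k-automorphism σ of k^sep with Q the inverse image of P under σ ⊗ id_K. -/
theorem result {k K : Type u} [Field k] [Field K] [Algebra k K]
    (P Q : Ideal (SeparableClosure k ⊗[k] K)) [P.IsPrime] [Q.IsPrime] :
    ∃ σ : SeparableClosure k ≃ₐ[k] SeparableClosure k, Q = P.comap (Algebra.TensorProduct.map (σ : SeparableClosure k →ₐ[k] SeparableClosure k) (AlgHom.id k K)) := by
  exact gal_transitive P Q

end Groth.Agent.S9647
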