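import Groth.Statements.S9648
import Mathlib

set_option autoImplicit false
universe u
open CAlg

namespace Groth.Agent.S9648

open TensorProduct

attribute [local instance] Algebra.TensorProduct.rightAlgebra

section
variable {R S : Type u} [CommRing R] [CommRing S] [Algebra R S]
  (N : Type u) [AddCommGroup N] [Module S N] [Module R N] [IsScalarTower R S N]
  (p : Ideal R) [p.IsPrime]

/-- the bilinear map `κ → S → (N → N ⊗ κ)`, `(k, s) ↦ (n ↦ (s • n) ⊗ k)` -/
noncomputable def g0 : p.ResidueField →ₗ[R] S →ₗ[R] (N →ₗ[R] N ⊗[R] p.ResidueField) :=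
  ((LinearMap.llcomp R N N (N ⊗[R] p.ResidueField)) ∘ₗ (TensorProduct.mk R N p.ResidueField).flip).compl₂
    (Algebra.lsmul R R N).toLinearMap

theorem g0_apply (k : p.ResidueField) (s : S) (n : N) : g0 N p k s n = (s • n) ⊗ₜ[R] k := rfl

/-- `Φ : (κ ⊗ S) ⊗[S] N →+ N ⊗ κ`, `(k ⊗ s) ⊗ n ↦ (s • n) ⊗ k` -/
noncomputable def Φ : (p.Fiber S) ⊗[S] N →+ N ⊗[R] p.ResidueField :=
  TensorProduct.liftAddHom
    (LinearMap.toAddMonoidHom'.comp (TensorProduct.lift (g0 N p)).toAddMonoidHom)
    (by
      intro s x n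
      change (TensorProduct.lift (g0 N p)) (s • x) n = (TensorProduct.lift (g0 N p)) x (s • n)
      induction x using TensorProduct.induction_on with
      | zero => simp
      | tmul k s' =>
        have : s • (k ⊗ₜ[R] s' : p.Fiber S) = k ⊗ₜ[R] (s * s') := by
          rw [Algebra.smul_def]
          change (Algebra.TensorProduct.includeRight s) * _ = _
          rw [Algebra.TensorProduct.includeRight_apply, Algebra.TensorProduct.tmul_mul_tmul, one_mul]
        rw [this, TensorProduct.lift.tmul, TensorProduct.lift.tmul, g0_apply, g0_apply, mul_smul, smul_comm]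
      | add x y hx hy =>
        rw [smul_add, map_add, map_add, LinearMap.add_apply, LinearMap.add_apply, hx, hy])

theorem Φ_one_tmul (y : N) : Φ N p ((1 : p.Fiber S) ⊗ₜ[S] y) = y ⊗ₜ[R] (1 : p.ResidueField) := by
  change (TensorProduct.lift (g0 N p)) ((1 : p.ResidueField) ⊗ₜ[R] (1 : S)) y = _
  rw [TensorProduct.lift.tmul, g0_apply, one_smul]

/-- `Ψ : N ⊗ κ →+ (κ ⊗ S) ⊗[S] N`, `n ⊗ k ↦ (k ⊗ 1) ⊗ n` -/
noncomputable def Ψ : N ⊗[R] p.ResidueField →+ (p.Fiber S) ⊗[S] N :=
  TensorProduct.liftAddHom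
    (AddMonoidHom.mk' (fun n => AddMonoidHom.mk' (fun k => ((k ⊗ₜ[R] (1 : S) : p.Fiber S) ⊗ₜ[S] n))
      (by intro a b; rw [add_tmul, add_tmul]))
      (by intro a b; ext k; simp [tmul_add]))
    (by
      intro r n k
      change ((k ⊗ₜ[R] (1 : S) : p.Fiber S) ⊗ₜ[S] (r • n)) = (((r • k) ⊗ₜ[R] (1 : S) : p.Fiber S) ⊗ₜ[S] n)
      have e0 : r • n = (algebraMap R S r) • n := (algebraMap_smul S r n).symm
      rw [e0, ← TensorProduct.smul_tmul (R := S) (R' := S) (algebraMap R S r) (k ⊗ₜ[R] (1:S) : p.Fiber S) n]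
      congr 1
      rw [Algebra.smul_def]
      change (Algebra.TensorProduct.includeRight (algebraMap R S r)) * _ = _
      rw [Algebra.TensorProduct.includeRight_apply, Algebra.TensorProduct.tmul_mul_tmul, one_mul, mul_one,
        Algebra.algebraMap_eq_smul_one, ← TensorProduct.smul_tmul])

theorem Ψ_tmul_one (y : N) : Ψ N p (y ⊗ₜ[R] (1 : p.ResidueField)) = (1 : p.Fiber S) ⊗ₜ[S] y := rfl

theorem one_tmul_eq_zero_iff (y : N) :
    ((1 : p.Fiber S) ⊗ₜ[S] y = 0) ↔ (y ⊗ₜ[R] (1 : p.ResidueField) = 0) := by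
  constructor
  · intro h
    rw [← Φ_one_tmul (S := S) N p y, h, map_zero]
  · intro h
    rw [← Ψ_tmul_one (S := S) N p y, h, map_zero]

theorem tmul_eq_zero_iff [Module.Flat R N] (M : Type u) [AddCommGroup M] [Module R M] (m : M)
    (hm : p = (Submodule.span R {m}).annihilator) (y : N) :
    (y ⊗ₜ[R] (1 : p.ResidueField) = 0) ↔ (y ⊗ₜ[R] m = 0) := by
  have hle : p ≤ LinearMap.ker (LinearMap.toSpanSingleton R M m) := by
    intro r hr
    rw [hm, Submodule.mem_annihilator_span_singleton] at hr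
    rw [LinearMap.mem_ker, LinearMap.toSpanSingleton_apply, hr]
  let ι : R ⧸ p →ₗ[R] M := Submodule.liftQ p (LinearMap.toSpanSingleton R M m) hle
  have hι : Function.Injective ι := by
    rw [← LinearMap.ker_eq_bot]
    apply Submodule.ker_liftQ_eq_bot
    intro r hr
    rw [LinearMap.mem_ker, LinearMap.toSpanSingleton_apply] at hr
    rw [hm, Submodule.mem_annihilator_span_singleton]
    exact hr
  let j : R ⧸ p →ₗ[R] p.ResidueField := (IsScalarTower.toAlgHom R (R ⧸ p) p.ResidueField).toLinearMap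
  have hj : Function.Injective j := p.injective_algebraMap_quotient_residueField
  have h1 := Module.Flat.lTensor_preserves_injective_linearMap (M := N) ι hι
  have h2 := Module.Flat.lTensor_preserves_injective_linearMap (M := N) j hj
  have e1 : (ι.lTensor N) (y ⊗ₜ[R] (1 : R ⧸ p)) = y ⊗ₜ[R] m := by
    rw [LinearMap.lTensor_tmul]
    congr 1
    change ι (Submodule.Quotient.mk 1) = m
    rw [Submodule.liftQ_apply, LinearMap.toSpanSingleton_apply, one_smul]
  have e2 : (j.lTensor N) (y ⊗ₜ[R] (1 : R ⧸ p)) = y ⊗ₜ[R] (1 : p.ResidueField) := by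
    rw [LinearMap.lTensor_tmul]
    congr 1
    exact map_one (IsScalarTower.toAlgHom R (R ⧸ p) p.ResidueField)
  rw [← e1, ← e2]
  constructor
  · intro h
    have : y ⊗ₜ[R] (1 : R ⧸ p) = 0 := h2 (h.trans (map_zero _).symm)
    rw [this, map_zero]
  · intro h
    have : y ⊗ₜ[R] (1 : R ⧸ p) = 0 := h1 (h.trans (map_zero _).symm)
    rw [this, map_zero]

theorem algebraMap_fiber (r : R) :
    algebraMap R (p.Fiber S) r = algebraMap S (p.Fiber S) (algebraMap R S r) := by
  rw [Algebra.TensorProduct.algebraMap_apply]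
  change _ = Algebra.TensorProduct.includeRight (algebraMap R S r)
  rw [Algebra.TensorProduct.includeRight_apply, Algebra.algebraMap_eq_smul_one,
    Algebra.algebraMap_eq_smul_one (A := S), TensorProduct.smul_tmul]

theorem algebraMap_smul_one_tmul (r : R) (x : N) :
    (algebraMap R (p.Fiber S) r) • ((1 : p.Fiber S) ⊗ₜ[S] x) = (1 : p.Fiber S) ⊗ₜ[S] (r • x) := by
  have e0 : r • x = (algebraMap R S r) • x := (algebraMap_smul S r x).symm
  rw [e0, ← TensorProduct.smul_tmul, TensorProduct.smul_tmul', smul_eq_mul, mul_one,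
    Algebra.smul_def, mul_one, algebraMap_fiber]

theorem exists_smul_eq_one_tmul (z : (p.Fiber S) ⊗[S] N) :
    ∃ r ∉ p, ∃ x : N, (algebraMap R (p.Fiber S) r) • z = (1 : p.Fiber S) ⊗ₜ[S] x := by
  induction z using TensorProduct.induction_on with
  | zero => exact ⟨1, fun h => ‹p.IsPrime›.ne_top ((Ideal.eq_top_iff_one p).mpr h), 0, by simp⟩
  | tmul f n =>
    obtain ⟨r, hr, s, e⟩ := Ideal.Fiber.exists_smul_eq_one_tmul p f
    refine ⟨r, hr, s • n, ?_⟩
    rw [TensorProduct.smul_tmul', smul_eq_mul, ← Algebra.smul_def, e]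
    have : ((1 : p.ResidueField) ⊗ₜ[R] s : p.Fiber S) = s • (1 : p.Fiber S) := by
      rw [Algebra.smul_def, mul_one]
      rfl
    rw [this, TensorProduct.smul_tmul]
  | add z1 z2 h1 h2 =>
    obtain ⟨r1, hr1, x1, e1⟩ := h1
    obtain ⟨r2, hr2, x2, e2⟩ := h2
    refine ⟨r1 * r2, fun h => (‹p.IsPrime›.mem_or_mem h).elim hr1 hr2, r2 • x1 + r1 • x2, ?_⟩
    rw [smul_add, map_mul, tmul_add]
    congr 1
    · rw [mul_comm, mul_smul, e1, algebraMap_smul_one_tmul]
    · rw [mul_smul, e2, algebraMap_smul_one_tmul]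

theorem isUnit_algebraMap (r : R) (hr : r ∉ p) : IsUnit (algebraMap R (p.Fiber S) r) := by
  have h1 : IsUnit (algebraMap R p.ResidueField r) := by
    apply IsUnit.mk0
    rw [Ne, Ideal.algebraMap_residueField_eq_zero]
    exact hr
  have := h1.map (Algebra.TensorProduct.includeLeft (R := R) (S := R) (A := p.ResidueField) (B := S))
  rw [Algebra.TensorProduct.algebraMap_apply]
  exact this

end

open TensorProduct in
/-- The inclusion, valid for any ring R: let R → S be a ring map, M an R-module and N an S-module which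
is flat over R. For an associated prime p of M (a prime equal to the annihilator of an element) and
an associated prime Q of the fibre module N ⊗_R κ(p) over the fibre ring S ⊗_R κ(p), the inverse
image of Q in S is an associated prime of N ⊗_R M. -/
theorem result {R S : Type u} [CommRing R] [CommRing S] [Algebra R S] (M : Type u) [AddCommGroup M] [Module R M] (N : Type u) [AddCommGroup N] [Module S N] [Module R N] [IsScalarTower R S N] [Module.Flat R N]
    (p : Ideal R) [p.IsPrime] (hp : p ∈ FlatCA.ass R M) (Q : Ideal (p.Fiber S)) (hQ : Q ∈ FlatCA.ass (p.Fiber S) (FlatCA.fiberMod p S N)) :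
    Q.comap (Algebra.TensorProduct.includeRight (R := R) (A := p.ResidueField) (B := S)).toRingHom ∈ FlatCA.ass S (N ⊗[R] M) := by
  obtain ⟨-, m, hm⟩ := hp
  obtain ⟨hQprime, z, hz⟩ := hQ
  change (p.Fiber S) ⊗[S] N at z
  change Q = (Submodule.span (p.Fiber S) ({z} : Set ((p.Fiber S) ⊗[S] N))).annihilator at hz
  obtain ⟨r, hr, x, hx⟩ := exists_smul_eq_one_tmul N p z
  obtain ⟨u, hu⟩ := isUnit_algebraMap (S := S) p r hr
  have hQ' : ∀ a : p.Fiber S, a ∈ Q ↔ a • ((1 : p.Fiber S) ⊗ₜ[S] x) = 0 := by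
    intro a
    rw [hz, Submodule.mem_annihilator_span_singleton, ← hx, smul_comm, ← hu]
    constructor
    · intro h; rw [h, smul_zero]
    · intro h
      have := congrArg (fun w => ((u⁻¹ : (p.Fiber S)ˣ) : p.Fiber S) • w) h
      simp only [smul_zero] at this
      rwa [← mul_smul, Units.inv_mul, one_smul] at this
  refine ⟨Ideal.comap_isPrime _ _, x ⊗ₜ[R] m, ?_⟩
  ext s
  have e1 : ((Algebra.TensorProduct.includeRight (R := R) (A := p.ResidueField) (B := S)).toRingHom s) •
      ((1 : p.Fiber S) ⊗ₜ[S] x) = (1 : p.Fiber S) ⊗ₜ[S] (s • x) := by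
    have e0 : (Algebra.TensorProduct.includeRight (R := R) (A := p.ResidueField) (B := S)).toRingHom s =
      s • (1 : p.Fiber S) := by
      rw [Algebra.smul_def, mul_one]; rfl
    rw [TensorProduct.smul_tmul', smul_eq_mul, mul_one, e0, TensorProduct.smul_tmul]
  have e2 : s • (x ⊗ₜ[R] m) = (s • x) ⊗ₜ[R] m := TensorProduct.smul_tmul' s x m
  rw [Ideal.mem_comap, hQ', e1, Submodule.mem_annihilator_span_singleton, e2,
    one_tmul_eq_zero_iff (S := S) N p, tmul_eq_zero_iff N p M m hm]

end Groth.Agent.S9648
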