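import Groth.Statements.S9649
import Mathlib
import Groth.Agent.Lib.Helper1.GeomRed

set_option autoImplicit false
universe u
open CAlg

namespace Groth.Agent.S9649

open TensorProduct Groth.Agent.H1.GeomConn Groth.Agent.H1.GeomIrr Groth.Agent.H1.GeomRed

lemma isReduced_tensor_of_isFractionRing {k A F L : Type u} [Field k] [CommRing A] [Algebra k A]
    [Field F] [Algebra k F] [Algebra A F] [IsScalarTower k A F] [IsFractionRing A F] [Field L]
    [Algebra k L] [IsReduced (A ⊗[k] L)] : IsReduced (F ⊗[k] L) := by
  letI : Algebra (A ⊗[k] L) (F ⊗[k] L) :=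
    (Algebra.TensorProduct.map (IsScalarTower.toAlgHom k A F) (AlgHom.id k L)).toRingHom.toAlgebra
  haveI : IsScalarTower A (A ⊗[k] L) (F ⊗[k] L) :=
    IsScalarTower.of_algebraMap_eq (fun a => by
      change _ = Algebra.TensorProduct.map (IsScalarTower.toAlgHom k A F) (AlgHom.id k L)
        (a ⊗ₜ[k] (1 : L))
      rw [Algebra.TensorProduct.map_tmul]
      rfl)
  haveI := IsLocalization.tensorProduct_tensorProduct k L (nonZeroDivisors A) F (by
    ext l
    change Algebra.TensorProduct.map (IsScalarTower.toAlgHom k A F) (AlgHom.id k L)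
        ((1 : A) ⊗ₜ[k] l) = _
    rw [Algebra.TensorProduct.map_tmul, map_one]
    rfl)
  exact isReduced_localizationPreserves (Algebra.algebraMapSubmonoid (A ⊗[k] L) (nonZeroDivisors A))
    (F ⊗[k] L) inferInstance

lemma isReduced_mvPolynomial_tensor {k A L ι : Type*} [Field k] [CommRing A] [Algebra k A]
    [Field L] [Algebra k L] (e₁ : MvPolynomial ι k ≃ₐ[k] A) : IsReduced (A ⊗[k] L) := by
  let e₂ : A ⊗[k] L ≃ₐ[k] MvPolynomial ι k ⊗[k] L :=
    Algebra.TensorProduct.congr e₁.symm AlgEquiv.refl
  let e₃ : MvPolynomial ι k ⊗[k] L ≃ₐ[k] L ⊗[k] MvPolynomial ι k :=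
    Algebra.TensorProduct.comm k _ _
  let e₄ : L ⊗[k] MvPolynomial ι k ≃ₐ[L] MvPolynomial ι L :=
    MvPolynomial.algebraTensorAlgEquiv k L
  exact isReduced_of_injective ((e₄.toRingEquiv.toRingHom.comp e₃.toRingEquiv.toRingHom).comp
      e₂.toRingEquiv.toRingHom)
      ((e₄.injective.comp e₃.injective).comp e₂.injective)

open scoped IntermediateField.algebraAdjoinAdjoin in
lemma isReduced_adjoin_tensor {k K L : Type u} {ι : Type*} [Field k] [Field K] [Algebra k K] [Field L]
    [Algebra k L] (x : ι → K) (hx : AlgebraicIndependent k x) :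
    IsReduced ((IntermediateField.adjoin k (Set.range x)) ⊗[k] L) := by
  haveI : IsReduced ((Algebra.adjoin k (Set.range x)) ⊗[k] L) :=
    isReduced_mvPolynomial_tensor hx.aevalEquiv
  exact isReduced_tensor_of_isFractionRing (A := Algebra.adjoin k (Set.range x))
lemma isReduced_of_sepGen {k K : Type u} [Field k] [Field K] [Algebra k K] {ι : Type*}
    (x : ι → K) (hx : IsTranscendenceBasis k x)
    [Algebra.IsSeparable (IntermediateField.adjoin k (Set.range x)) K]
    (L : Type u) [Field L] [Algebra k L] : IsReduced (K ⊗[k] L) := by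
  haveI := isReduced_adjoin_tensor (L := L) x hx.1
  exact red_of_tower (P := IntermediateField.adjoin k (Set.range x))

lemma isReduced_sub {k K : Type u} [Field k] [Field K] [Algebra k K] (K' : IntermediateField k K)
    (L : Type u) [Field L] [Algebra k L] [IsReduced (K ⊗[k] L)] : IsReduced (L ⊗[k] K') := by
  let ι : L ⊗[k] K' →ₐ[k] L ⊗[k] K := Algebra.TensorProduct.map (AlgHom.id k L) K'.val
  have hι : Function.Injective ι :=
    Module.Flat.lTensor_preserves_injective_linearMap (M := L) K'.val.toLinearMap
      Subtype.val_injective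
  let e := Algebra.TensorProduct.comm k L K
  exact isReduced_of_injective (e.toRingEquiv.toRingHom.comp ι.toRingHom)
    (e.injective.comp hι)

/-- MacLane's criterion from geometric reducedness. -/
lemma linearIndepOn_pow_of_isReduced {k K : Type u} [Field k] [Field K] [Algebra k K]
    (p : ℕ) [hp : Fact p.Prime] [CharP k p] [IsReduced (AlgebraicClosure k ⊗[k] K)]
    (s : Finset K) (hs : LinearIndepOn k _root_.id (s : Set K)) :
    LinearIndepOn k (· ^ p) (s : Set K) := by
  classical
  rw [linearIndepOn_finset_iff]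
  intro c hc
  have hd : ∀ i : K, ∃ d : AlgebraicClosure k, d ^ p = algebraMap k (AlgebraicClosure k) (c i) :=
    fun i => IsAlgClosed.exists_pow_nat_eq _ hp.out.pos
  choose d hd using hd
  haveI : CharP (AlgebraicClosure k ⊗[k] K) p :=
    charP_of_injective_algebraMap (FaithfulSMul.algebraMap_injective k _) p
  have hz : (∑ i ∈ s, d i ⊗ₜ[k] i : AlgebraicClosure k ⊗[k] K) ^ p = 0 := by
    rw [sum_pow_char]
    have : ∀ i ∈ s, (d i ⊗ₜ[k] i : AlgebraicClosure k ⊗[k] K) ^ p =
        (1 : AlgebraicClosure k) ⊗ₜ[k] (c i • i ^ p) := by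
      intro i _
      rw [Algebra.TensorProduct.tmul_pow, hd, Algebra.algebraMap_eq_smul_one,
        TensorProduct.smul_tmul]
    rw [Finset.sum_congr rfl this, ← TensorProduct.tmul_sum, hc, TensorProduct.tmul_zero]
  have hz0 : (∑ i ∈ s, d i ⊗ₜ[k] i : AlgebraicClosure k ⊗[k] K) = 0 :=
    IsNilpotent.eq_zero ⟨p, hz⟩
  have hli : LinearIndepOn (AlgebraicClosure k)
      (fun i : K => (1 : AlgebraicClosure k) ⊗ₜ[k] i) (s : Set K) :=
    Module.Flat.linearIndependent_one_tmul (S := AlgebraicClosure k) hs
  rw [linearIndepOn_finset_iff] at hli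
  have h0 : ∀ i ∈ s, d i = 0 := by
    apply hli d
    rw [← hz0]
    refine Finset.sum_congr rfl fun i _ => ?_
    rw [TensorProduct.smul_tmul', smul_eq_mul, mul_one]
  intro i hi
  have h1 := hd i
  rw [h0 i hi, zero_pow hp.out.ne_zero] at h1
  exact (map_eq_zero_iff _ (algebraMap k (AlgebraicClosure k)).injective).mp h1.symm

/-- A separably generated field extension is separable. Precisely: let K/k be a field extension
admitting a transcendence basis x over whose generated subfield k(x) the field K is separable
algebraic; then every finitely generated subextension K' of K/k also admits such a transcendence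
basis. -/
theorem result {k K : Type u} [Field k] [Field K] [Algebra k K]
    (h : ∃ (ι : Type u) (x : ι → K), IsTranscendenceBasis k x ∧ Algebra.IsSeparable (IntermediateField.adjoin k (Set.range x)) K)
    (K' : IntermediateField k K) (hK' : ∃ s : Finset K, IntermediateField.adjoin k (s : Set K) = K') :
    ∃ (ι : Type u) (x : ι → K'), IsTranscendenceBasis k x ∧ Algebra.IsSeparable (IntermediateField.adjoin k (Set.range x)) K' := by
  obtain ⟨ι, x, hx, hsep⟩ := h
  haveI : Algebra.EssFiniteType k K' := IntermediateField.essFiniteType_iff.mpr hK'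
  have key : ∃ t : Finset K', IsTranscendenceBasis k ((↑) : t → K') ∧
      Algebra.IsSeparable (IntermediateField.adjoin k (t : Set K')) K' := by
    obtain hchar | ⟨p, hp, hpk⟩ := CharP.exists' k
    · haveI : PerfectField k := inferInstance
      exact exists_isTranscendenceBasis_and_isSeparable_of_perfectField k K'
    · haveI := hp
      haveI := hpk
      haveI := isReduced_of_sepGen x hx (AlgebraicClosure k)
      haveI : IsReduced (AlgebraicClosure k ⊗[k] K') := isReduced_sub K' (AlgebraicClosure k)
      exact exists_isTranscendenceBasis_and_isSeparable_of_linearIndepOn_pow_of_essFiniteType p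
        hp.out (fun s hs => linearIndepOn_pow_of_isReduced p s hs)
  obtain ⟨t, ht1, ht2⟩ := key
  refine ⟨t, ((↑) : t → K'), ht1, ?_⟩
  have hrange : Set.range ((↑) : t → K') = (t : Set K') := Subtype.range_coe
  convert ht2

end Groth.Agent.S9649
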