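import Groth.Statements.S9650
import Mathlib
import Groth.Agent.Lib.Helper1.GeomRed
import Groth.Agent.S9649

set_option autoImplicit false
universe u
open CAlg

namespace Groth.Agent.S9650

open TensorProduct Groth.Agent.H1.GeomRed

lemma exists_finset_sepGen {k K : Type u} [Field k] [Field K] [Algebra k K]
    (hfg : ∃ s : Finset K, IntermediateField.adjoin k (s : Set K) = ⊤)
    (hsep : ∃ (ι : Type u) (x : ι → K), IsTranscendenceBasis k x ∧
      Algebra.IsSeparable (IntermediateField.adjoin k (Set.range x)) K) :
    ∃ t : Finset K, IsTranscendenceBasis k ((↑) : t → K) ∧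
      Algebra.IsSeparable (IntermediateField.adjoin k (t : Set K)) K := by
  obtain ⟨ι, x, hx, hsep⟩ := hsep
  haveI : Algebra.EssFiniteType k K := IntermediateField.fg_top_iff.mp hfg
  obtain hchar | ⟨p, hp, hpk⟩ := CharP.exists' k
  · haveI : PerfectField k := inferInstance
    exact exists_isTranscendenceBasis_and_isSeparable_of_perfectField k K
  · haveI := hp
    haveI := hpk
    haveI := Groth.Agent.S9649.isReduced_of_sepGen x hx (AlgebraicClosure k)
    haveI : IsReduced (AlgebraicClosure k ⊗[k] K) :=
      isReduced_of_injective (Algebra.TensorProduct.comm k (AlgebraicClosure k) K).toRingEquiv.toRingHom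
        (Algebra.TensorProduct.comm k (AlgebraicClosure k) K).injective
    exact exists_isTranscendenceBasis_and_isSeparable_of_linearIndepOn_pow_of_essFiniteType p
      hp.out (fun s hs => Groth.Agent.S9649.linearIndepOn_pow_of_isReduced p s hs)

/-- Let K/k be a finitely generated field extension that is separably generated, i.e. admits a
transcendence basis over whose generated subfield K is separable algebraic. Then K is generated over
k by finitely many elements x_1, …, x_r, y such that the x_i form a transcendence basis of K/k and y
is separable over the subfield k(x_1, …, x_r). -/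
theorem result {k K : Type u} [Field k] [Field K] [Algebra k K]
    (hfg : ∃ s : Finset K, IntermediateField.adjoin k (s : Set K) = ⊤)
    (hsep : ∃ (ι : Type u) (x : ι → K), IsTranscendenceBasis k x ∧ Algebra.IsSeparable (IntermediateField.adjoin k (Set.range x)) K) :
    ∃ (r : ℕ) (x : Fin r → K) (y : K), IsTranscendenceBasis k x ∧ IntermediateField.adjoin k (insert y (Set.range x)) = ⊤ ∧ IsSeparable (IntermediateField.adjoin k (Set.range x)) y := by
  classical
  obtain ⟨t, ht1, ht2⟩ := exists_finset_sepGen hfg hsep
  obtain ⟨s, hs⟩ := hfg
  haveI : FiniteDimensional (IntermediateField.adjoin k (t : Set K)) K := by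
    have h1 : IntermediateField.adjoin (IntermediateField.adjoin k (t : Set K)) (s : Set K) = ⊤ := by
      apply IntermediateField.restrictScalars_injective k
      rw [IntermediateField.restrictScalars_top, eq_top_iff, ← hs, IntermediateField.adjoin_le_iff]
      intro a ha
      exact IntermediateField.subset_adjoin (IntermediateField.adjoin k (t : Set K)) _ ha
    have h2 : FiniteDimensional (IntermediateField.adjoin k (t : Set K))
        (IntermediateField.adjoin (IntermediateField.adjoin k (t : Set K)) (s : Set K)) :=
      IntermediateField.finiteDimensional_adjoin fun x _ => Algebra.IsIntegral.isIntegral x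
    rw [h1] at h2
    exact Module.Finite.equiv (IntermediateField.topEquiv
      (F := IntermediateField.adjoin k (t : Set K)) (E := K)).toLinearEquiv
  obtain ⟨y, hy⟩ := Field.exists_primitive_element (IntermediateField.adjoin k (t : Set K)) K
  let e := t.equivFin
  have hrange : Set.range (fun i : Fin t.card => ((e.symm i : t) : K)) = (t : Set K) := by
    ext a
    constructor
    · rintro ⟨i, rfl⟩; exact (e.symm i).2
    · intro ha; exact ⟨e ⟨a, ha⟩, by simp⟩
  refine ⟨t.card, fun i => ((e.symm i : t) : K), y, ?_, ?_, ?_⟩
  · exact ht1.comp_equiv e.symm
  · rw [hrange, Set.insert_eq, Set.union_comm, ← IntermediateField.adjoin_adjoin_left, hy,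
      IntermediateField.restrictScalars_top]
  · rw [hrange]
    exact Algebra.IsSeparable.isSeparable _ y

end Groth.Agent.S9650
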