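import Groth.Statements.S9651
import Mathlib
import Groth.Agent.Lib.Helper1.GenericNN

set_option autoImplicit false
universe u
open CAlg

namespace Groth.Agent.S9651

open PrimeSpectrum

/-- Core: for a prime `q` of `S` and `c ∉ q`, there is `ũ ∉ p = q ∩ R` such that every prime
`p' ⊇ p` avoiding `ũ` lifts to a prime `q' ⊇ q` of `S` avoiding `c`. -/
theorem core {R S : Type u} [CommRing R] [CommRing S] [Algebra R S] [Algebra.FiniteType R S]
    (q : Ideal S) [q.IsPrime] (c : S) (hc : c ∉ q) :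
    ∃ ũ : R, ũ ∉ q.comap (algebraMap R S) ∧ ∀ p' : Ideal R, p'.IsPrime → q.comap (algebraMap R S) ≤ p' → ũ ∉ p' →
      ∃ q' : Ideal S, q'.IsPrime ∧ q ≤ q' ∧ c ∉ q' ∧ q'.comap (algebraMap R S) = p' := by
  set p := q.comap (algebraMap R S) with hp
  haveI : p.IsPrime := Ideal.comap_isPrime _ _
  haveI : IsScalarTower R (R ⧸ p) (S ⧸ q) := IsScalarTower.of_algebraMap_eq (fun r => rfl)
  haveI : Algebra.FiniteType R (S ⧸ q) :=
    Algebra.FiniteType.of_surjective (Ideal.Quotient.mkₐ R q) Ideal.Quotient.mk_surjective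
  haveI : Algebra.FiniteType (R ⧸ p) (S ⧸ q) := Algebra.FiniteType.of_restrictScalars_finiteType R _ _
  have hinj : Function.Injective (algebraMap (R ⧸ p) (S ⧸ q)) := Ideal.algebraMap_quotient_injective
  have hv : Ideal.Quotient.mk q c ≠ 0 := by
    rw [Ne, Ideal.Quotient.eq_zero_iff_mem]; exact hc
  obtain ⟨u, hu0, hu⟩ := Groth.Agent.H1.GNN.exists_prime_over_not_mem hinj _ hv
  obtain ⟨ũ, rfl⟩ := Ideal.Quotient.mk_surjective u
  refine ⟨ũ, fun h => hu0 (Ideal.Quotient.eq_zero_iff_mem.mpr h), ?_⟩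
  intro p' hp' hpp' hũ
  have hker : RingHom.ker (Ideal.Quotient.mk p) ≤ p' := by rw [Ideal.mk_ker]; exact hpp'
  have hPprime : (p'.map (Ideal.Quotient.mk p)).IsPrime :=
    Ideal.map_isPrime_of_surjective Ideal.Quotient.mk_surjective hker
  have hPcomap : (p'.map (Ideal.Quotient.mk p)).comap (Ideal.Quotient.mk p) = p' := by
    rw [Ideal.comap_map_of_surjective _ Ideal.Quotient.mk_surjective, ← RingHom.ker_eq_comap_bot, sup_eq_left]
    exact hker
  have huP : Ideal.Quotient.mk p ũ ∉ p'.map (Ideal.Quotient.mk p) := by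
    intro h
    have : ũ ∈ (p'.map (Ideal.Quotient.mk p)).comap (Ideal.Quotient.mk p) := h
    rw [hPcomap] at this
    exact hũ this
  obtain ⟨Q, hQprime, hQP, hvQ⟩ := hu _ hPprime huP
  refine ⟨Q.comap (Ideal.Quotient.mk q), Ideal.comap_isPrime _ _, ?_, ?_, ?_⟩
  · intro s hs
    rw [Ideal.mem_comap, Ideal.Quotient.eq_zero_iff_mem.mpr hs]
    exact Q.zero_mem
  · exact hvQ
  · have hcomp : (Ideal.Quotient.mk q).comp (algebraMap R S) =
        (algebraMap (R ⧸ p) (S ⧸ q)).comp (Ideal.Quotient.mk p) := by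
      ext r; rfl
    rw [Ideal.comap_comap, hcomp, ← Ideal.comap_comap, hQP, hPcomap]

/-- Let R → S be a ring map of finite type, f : Spec(S) → Spec(R) the induced map and E ⊆ Spec(S) a
constructible subset. If ξ ∈ f(E) then f(E) ∩ cl{ξ} contains an open dense subset of the closure
cl{ξ}: some open U of Spec(R) has U ∩ cl{ξ} dense in cl{ξ} and contained in f(E). -/
theorem result {R S : Type u} [CommRing R] [CommRing S] [Algebra R S] [Algebra.FiniteType R S]
    (E : Set (PrimeSpectrum S)) (hE : Topology.IsConstructible E) (ξ : PrimeSpectrum R) (hξ : ξ ∈ PrimeSpectrum.comap (algebraMap R S) '' E) :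
    ∃ U : Set (PrimeSpectrum R), IsOpen U ∧ closure ({ξ} : Set (PrimeSpectrum R)) ⊆ closure (U ∩ closure {ξ}) ∧ U ∩ closure {ξ} ⊆ PrimeSpectrum.comap (algebraMap R S) '' E := by
  obtain ⟨T, rfl⟩ := PrimeSpectrum.exists_constructibleSetData_iff.mpr hE
  obtain ⟨η, hηE, rfl⟩ := hξ
  simp only [ConstructibleSetData.toSet, Set.mem_iUnion] at hηE
  obtain ⟨C, hCT, hηC⟩ := hηE
  obtain ⟨hg, hf⟩ := hηC
  rw [mem_zeroLocus] at hg
  rw [mem_zeroLocus, Set.singleton_subset_iff] at hf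
  haveI := η.isPrime
  obtain ⟨ũ, hũ, hlift⟩ := core (R := R) η.asIdeal C.f hf
  refine ⟨(basicOpen ũ : Set (PrimeSpectrum R)), (basicOpen ũ).2, ?_, ?_⟩
  · apply closure_mono
    rw [Set.singleton_subset_iff]
    exact ⟨hũ, subset_closure rfl⟩
  · rintro p' ⟨hp'U, hp'cl⟩
    rw [PrimeSpectrum.closure_singleton, mem_zeroLocus] at hp'cl
    obtain ⟨q', hq'prime, hqq', hfq', hq'p'⟩ := hlift p'.asIdeal p'.isPrime hp'cl hp'U
    refine ⟨⟨q', hq'prime⟩, ?_, PrimeSpectrum.ext hq'p'⟩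
    simp only [ConstructibleSetData.toSet, Set.mem_iUnion]
    refine ⟨C, hCT, ?_, ?_⟩
    · rw [mem_zeroLocus]
      exact hg.trans hqq'
    · rw [mem_zeroLocus, Set.singleton_subset_iff]
      exact hfq'

end Groth.Agent.S9651
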