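import Groth.Statements.S9652
import Mathlib
import Groth.Agent.S9651

set_option autoImplicit false
universe u
open CAlg

namespace Groth.Agent.S9652

open PrimeSpectrum

theorem comap_isMaximal {R S : Type u} [CommRing R] [CommRing S] [Algebra R S] [IsJacobsonRing R]
    [Algebra.FiniteType R S] (q : Ideal S) [hq : q.IsMaximal] : (q.comap (algebraMap R S)).IsMaximal := by
  letI := Ideal.Quotient.field q
  haveI : Algebra.FiniteType R (S ⧸ q) :=
    Algebra.FiniteType.of_surjective (Ideal.Quotient.mkₐ R q) Ideal.Quotient.mk_surjective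
  haveI := finite_of_finite_type_of_isJacobsonRing R (S ⧸ q)
  haveI : IsScalarTower R (R ⧸ q.comap (algebraMap R S)) (S ⧸ q) :=
    IsScalarTower.of_algebraMap_eq (fun r => rfl)
  haveI : Algebra.IsIntegral R (S ⧸ q) := Algebra.IsIntegral.of_finite R (S ⧸ q)
  haveI : Algebra.IsIntegral (R ⧸ q.comap (algebraMap R S)) (S ⧸ q) :=
    Algebra.IsIntegral.tower_top (R := R)
  have hfield : IsField (R ⧸ q.comap (algebraMap R S)) :=
    isField_of_isIntegral_of_isField (R := R ⧸ q.comap (algebraMap R S)) (S := S ⧸ q)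
      Ideal.algebraMap_quotient_injective (Field.toIsField _)
  exact Ideal.Quotient.maximal_of_isField _ hfield

theorem isLocallyClosed_basic {S : Type u} [CommRing S] (C : BasicConstructibleSetData S) :
    IsLocallyClosed C.toSet := by
  unfold BasicConstructibleSetData.toSet
  rw [Set.sdiff_eq]
  exact (isClosed_zeroLocus _).isLocallyClosed.inter (isClosed_zeroLocus _).isOpen_compl.isLocallyClosed

/-- closed point of a constructible set in a Jacobson spectrum is closed -/
theorem L1 {S : Type u} [CommRing S] [IsJacobsonRing S] (T : ConstructibleSetData S)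
    (y : PrimeSpectrum S) (hy : y ∈ T.toSet) (hcl : closure {y} ∩ T.toSet = {y}) : IsClosed {y} := by
  apply isClosed_singleton_of_isLocallyClosed_singleton
  simp only [ConstructibleSetData.toSet, Set.mem_iUnion] at hy
  obtain ⟨C, hCT, hyC⟩ := hy
  have : ({y} : Set (PrimeSpectrum S)) = closure {y} ∩ C.toSet := by
    apply Set.Subset.antisymm
    · rw [Set.singleton_subset_iff]; exact ⟨subset_closure rfl, hyC⟩
    · have hCT' : C.toSet ⊆ T.toSet := by
        intro z hz
        simp only [ConstructibleSetData.toSet, Set.mem_iUnion]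
        exact ⟨C, hCT, hz⟩
      exact (Set.inter_subset_inter_right _ hCT').trans hcl.subset
  rw [this]
  exact isClosed_closure.isLocallyClosed.inter (isLocallyClosed_basic C)

theorem L1' {X : Type*} [TopologicalSpace X] (E : Set X) (y : X) (hy : y ∈ E) (hc : IsClosed {y}) :
    closure {y} ∩ E = {y} := by
  rw [hc.closure_eq]
  exact Set.inter_eq_left.mpr (Set.singleton_subset_iff.mpr hy)

theorem L2 {R S : Type u} [CommRing R] [CommRing S] [Algebra R S] [IsJacobsonRing R] [Algebra.FiniteType R S]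
    (E : Set (PrimeSpectrum S)) (hE : Topology.IsConstructible E) (x : PrimeSpectrum R)
    (hx : x ∈ comap (algebraMap R S) '' E) (hcl : closure {x} ∩ comap (algebraMap R S) '' E = {x}) :
    IsClosed {x} := by
  apply isClosed_singleton_of_isLocallyClosed_singleton
  obtain ⟨U, hU, hdense, hsub⟩ := Groth.Agent.S9651.result E hE x hx
  have h1 : U ∩ closure {x} ⊆ {x} := by
    intro z hz
    have : z ∈ closure {x} ∩ comap (algebraMap R S) '' E := ⟨hz.2, hsub hz⟩
    rw [hcl] at this
    exact this
  have h2 : (U ∩ closure {x}).Nonempty := by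
    by_contra hne
    rw [Set.not_nonempty_iff_eq_empty] at hne
    rw [hne, closure_empty] at hdense
    exact hdense (subset_closure rfl)
  have h3 : U ∩ closure {x} = {x} := by
    apply Set.Subset.antisymm h1
    obtain ⟨z, hz⟩ := h2
    obtain rfl : z = x := h1 hz
    rw [Set.singleton_subset_iff]
    exact hz
  rw [← h3]
  exact hU.isLocallyClosed.inter isClosed_closure.isLocallyClosed

theorem L3 {R S : Type u} [CommRing R] [CommRing S] [Algebra R S] [IsJacobsonRing R] [Algebra.FiniteType R S]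
    (y : PrimeSpectrum S) (hy : IsClosed {y}) : IsClosed {comap (algebraMap R S) y} := by
  rw [isClosed_singleton_iff_isMaximal] at hy ⊢
  exact comap_isMaximal (R := R) y.asIdeal

theorem L4 {R S : Type u} [CommRing R] [CommRing S] [Algebra R S] [IsJacobsonRing S]
    (T : ConstructibleSetData S) (x : PrimeSpectrum R) (hx : x ∈ comap (algebraMap R S) '' T.toSet)
    (hc : IsClosed {x}) : ∃ y ∈ T.toSet, IsClosed {y} ∧ comap (algebraMap R S) y = x := by
  obtain ⟨y₀, hy₀, rfl⟩ := hx
  simp only [ConstructibleSetData.toSet, Set.mem_iUnion] at hy₀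
  obtain ⟨C, hCT, hyC⟩ := hy₀
  have hlc : IsLocallyClosed (C.toSet ∩ comap (algebraMap R S) ⁻¹' {comap (algebraMap R S) y₀}) :=
    (isLocallyClosed_basic C).inter (hc.preimage (continuous_comap _)).isLocallyClosed
  have hne : (C.toSet ∩ comap (algebraMap R S) ⁻¹' {comap (algebraMap R S) y₀}).Nonempty := ⟨y₀, hyC, rfl⟩
  obtain ⟨y, ⟨hy1, hy2⟩, hy3⟩ := nonempty_inter_closedPoints hne hlc
  refine ⟨y, ?_, hy3, hy2⟩
  simp only [ConstructibleSetData.toSet, Set.mem_iUnion]
  exact ⟨C, hCT, hy1⟩

theorem part2 {R S : Type u} [CommRing R] [CommRing S] [Algebra R S] [IsJacobsonRing R] [IsJacobsonRing S] [Algebra.FiniteType R S]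
    (T : ConstructibleSetData S) :
    comap (algebraMap R S) '' {y | y ∈ T.toSet ∧ closure {y} ∩ T.toSet = {y}} =
        {x | IsClosed ({x} : Set (PrimeSpectrum R))} ∩ comap (algebraMap R S) '' T.toSet := by
  apply Set.Subset.antisymm
  · rintro _ ⟨y, ⟨hy1, hy2⟩, rfl⟩
    exact ⟨L3 y (L1 T y hy1 hy2), ⟨y, hy1, rfl⟩⟩
  · rintro x ⟨hx1, hx2⟩
    obtain ⟨y, hy1, hy2, hy3⟩ := L4 T x hx2 hx1
    exact ⟨y, ⟨hy1, L1' _ y hy1 hy2⟩, hy3⟩

/-- Let R and S be Jacobson rings, R → S a ring map of finite type with induced map f : Spec(S) →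
Spec(R), and E ⊆ Spec(S) a constructible subset. Writing T₀ for the set of points of a subspace T
which are closed in T, one has f(E)₀ = f(E₀) = (Spec R)₀ ∩ f(E). -/
theorem result {R S : Type u} [CommRing R] [CommRing S] [Algebra R S] [IsJacobsonRing R] [IsJacobsonRing S] [Algebra.FiniteType R S]
    (E : Set (PrimeSpectrum S)) (hE : Topology.IsConstructible E) :
    {x | x ∈ PrimeSpectrum.comap (algebraMap R S) '' E ∧ closure {x} ∩ PrimeSpectrum.comap (algebraMap R S) '' E = {x}} =
        PrimeSpectrum.comap (algebraMap R S) '' {y | y ∈ E ∧ closure {y} ∩ E = {y}} ∧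
      PrimeSpectrum.comap (algebraMap R S) '' {y | y ∈ E ∧ closure {y} ∩ E = {y}} =
        {x | IsClosed ({x} : Set (PrimeSpectrum R))} ∩ PrimeSpectrum.comap (algebraMap R S) '' E := by
  obtain ⟨T, rfl⟩ := PrimeSpectrum.exists_constructibleSetData_iff.mpr hE
  refine ⟨?_, part2 T⟩
  rw [part2 T]
  apply Set.Subset.antisymm
  · rintro x ⟨hx1, hx2⟩
    exact ⟨L2 _ hE x hx1 hx2, hx1⟩
  · rintro x ⟨hx1, hx2⟩
    exact ⟨hx2, L1' _ x hx2 hx1⟩

end Groth.Agent.S9652
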