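import Groth.Statements.S9653
import Mathlib
import Groth.Agent.S9652

set_option autoImplicit false
universe u
open CAlg

namespace Groth.Agent.S9653

open PrimeSpectrum

/-- if `ξ` is in the closure of `V(ξ) ∩ f(C)` for a basic constructible `C`, then `ξ ∈ f(C)`. -/
theorem mem_image_of_mem_closure {R S : Type u} [CommRing R] [CommRing S] [Algebra R S]
    (C : BasicConstructibleSetData S) (ξ : PrimeSpectrum R)
    (h : ξ ∈ closure (closure {ξ} ∩ comap (algebraMap R S) '' C.toSet)) :
    ξ ∈ comap (algebraMap R S) '' C.toSet := by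
  classical
  set p := ξ.asIdeal with hp
  set J : Ideal S := Ideal.span (Set.range C.g) ⊔ p.map (algebraMap R S) with hJ
  -- the multiplicative set
  let M : Submonoid S := Submonoid.powers C.f ⊔ p.primeCompl.map (algebraMap R S : R →* S)
  have hM : ∀ m ∈ M, ∃ (n : ℕ) (t : R), t ∉ p ∧ m = C.f ^ n * algebraMap R S t := by
    intro m hm
    obtain ⟨a, ⟨n, rfl⟩, b, ⟨t, ht, rfl⟩, rfl⟩ := Submonoid.mem_sup.mp hm
    exact ⟨n, t, ht, rfl⟩
  have hdisj : Disjoint (J : Set S) (M : Set S) := by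
    rw [Set.disjoint_left]
    intro m hmJ hmM
    obtain ⟨n, t, ht, rfl⟩ := hM m hmM
    -- the open `D(t)` contains `ξ`
    have hξt : ξ ∈ (basicOpen t : Set (PrimeSpectrum R)) := ht
    obtain ⟨x, hxt, hxcl, y, hyC, rfl⟩ := mem_closure_iff.mp h _ (basicOpen t).2 hξt
    rw [PrimeSpectrum.closure_singleton, mem_zeroLocus] at hxcl
    obtain ⟨hyg, hyf⟩ := hyC
    rw [mem_zeroLocus] at hyg
    rw [mem_zeroLocus, Set.singleton_subset_iff] at hyf
    have hJy : J ≤ y.asIdeal := by
      rw [hJ]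
      refine sup_le (Ideal.span_le.mpr hyg) ?_
      rw [Ideal.map_le_iff_le_comap]
      exact hxcl
    have h1 := hJy hmJ
    rcases y.isPrime.mem_or_mem h1 with h2 | h2
    · exact hyf (y.isPrime.mem_of_pow_mem n h2)
    · exact hxt h2
  obtain ⟨Q, hQprime, hJQ, hQM⟩ := Ideal.exists_le_prime_disjoint J M hdisj
  refine ⟨⟨Q, hQprime⟩, ⟨?_, ?_⟩, ?_⟩
  · rw [mem_zeroLocus]
    exact (Ideal.span_le.mp (le_sup_left.trans hJQ))
  · rw [mem_zeroLocus, Set.singleton_subset_iff]
    intro hf
    exact Set.disjoint_left.mp hQM hf (Submonoid.mem_sup_left (Submonoid.mem_powers C.f))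
  · apply PrimeSpectrum.ext
    apply le_antisymm
    · intro t ht
      by_contra htp
      exact Set.disjoint_left.mp hQM ht (Submonoid.mem_sup_right ⟨t, htp, rfl⟩)
    · have : p.map (algebraMap R S) ≤ Q := le_sup_right.trans hJQ
      rw [Ideal.map_le_iff_le_comap] at this
      exact this

/-- Let R and S be Jacobson rings, R → S a ring map of finite type with induced map f : Spec(S) →
Spec(R), E ⊆ Spec(S) constructible and E₀ the set of points of E closed in E. Then a point ξ of
Spec(R) lies in f(E) if and only if cl{ξ} ∩ f(E₀) is dense in the closure cl{ξ}. -/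
theorem result {R S : Type u} [CommRing R] [CommRing S] [Algebra R S] [IsJacobsonRing R] [IsJacobsonRing S] [Algebra.FiniteType R S]
    (E : Set (PrimeSpectrum S)) (hE : Topology.IsConstructible E) (ξ : PrimeSpectrum R) :
    ξ ∈ PrimeSpectrum.comap (algebraMap R S) '' E ↔
      closure ({ξ} : Set (PrimeSpectrum R)) ⊆ closure (closure {ξ} ∩ PrimeSpectrum.comap (algebraMap R S) '' {y | y ∈ E ∧ closure {y} ∩ E = {y}}) := by
  constructor
  · intro hξ
    obtain ⟨U, hU, hdense, hsub⟩ := Groth.Agent.S9651.result E hE ξ hξ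
    have hlc : IsLocallyClosed (U ∩ closure {ξ}) := hU.isLocallyClosed.inter isClosed_closure.isLocallyClosed
    have h1 := JacobsonSpace.closure_inter_closedPoints_eq_closure hlc
    refine hdense.trans ?_
    rw [← h1]
    apply closure_mono
    rintro x ⟨hxW, hxc⟩
    refine ⟨hxW.2, ?_⟩
    rw [(Groth.Agent.S9652.result E hE).2]
    exact ⟨hxc, hsub hxW⟩
  · intro h
    obtain ⟨T, rfl⟩ := PrimeSpectrum.exists_constructibleSetData_iff.mpr hE
    have hsub : closure {ξ} ∩ comap (algebraMap R S) '' {y | y ∈ T.toSet ∧ closure {y} ∩ T.toSet = {y}} ⊆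
        ⋃ C ∈ T, closure {ξ} ∩ comap (algebraMap R S) '' C.toSet := by
      rintro x ⟨hx1, y, ⟨hy1, -⟩, rfl⟩
      simp only [ConstructibleSetData.toSet, Set.mem_iUnion] at hy1 ⊢
      obtain ⟨C, hCT, hyC⟩ := hy1
      exact ⟨C, hCT, hx1, y, hyC, rfl⟩
    have h2 : ξ ∈ closure (⋃ C ∈ T, closure {ξ} ∩ comap (algebraMap R S) '' C.toSet) :=
      closure_mono hsub (h (subset_closure rfl))
    rw [Finset.closure_biUnion] at h2
    simp only [Set.mem_iUnion] at h2
    obtain ⟨C, hCT, hC⟩ := h2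
    obtain ⟨y, hy, rfl⟩ := mem_image_of_mem_closure C ξ hC
    refine ⟨y, ?_, rfl⟩
    simp only [ConstructibleSetData.toSet, Set.mem_iUnion]
    exact ⟨C, hCT, hy⟩

end Groth.Agent.S9653
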