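import Groth.Statements.S9654
import Mathlib

set_option autoImplicit false
universe u
open CAlg

namespace Groth.Agent.S9654

theorem isIntegral_of_mul_mem_submodule {R A : Type*} [CommRing R] [CommRing A] [Algebra R A]
    (N : Submodule R A) (h1 : (1 : A) ∈ N) (hN' : N.FG) (x : A) (hx : ∀ n ∈ N, x * n ∈ N) :
    IsIntegral R x := by
  have : Module.Finite R N := by rwa [Module.Finite.iff_fg]
  let ψ : Module.End R N := (LinearMap.mulLeft R x).restrict hx
  have hψ : IsIntegral R ψ := Algebra.IsIntegral.isIntegral ψ
  obtain ⟨q, hq, hq0⟩ := hψ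
  refine ⟨q, hq, ?_⟩
  have key : ∀ (p : Polynomial R) (n : N), ((Polynomial.aeval ψ p) n : A) = Polynomial.aeval x p * n := by
    intro p
    induction p using Polynomial.induction_on with
    | C r => intro n; simp [Algebra.smul_def]
    | add p q hp hq => intro n; simp [hp, hq, add_mul]
    | monomial k r ih =>
      intro n
      have e1 : Polynomial.aeval ψ (Polynomial.C r * Polynomial.X ^ (k + 1)) =
          Polynomial.aeval ψ (Polynomial.C r * Polynomial.X ^ k) * ψ := by
        rw [pow_succ, ← mul_assoc, map_mul _ _ Polynomial.X, Polynomial.aeval_X]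
      have e2 : Polynomial.aeval x (Polynomial.C r * Polynomial.X ^ (k + 1)) =
          Polynomial.aeval x (Polynomial.C r * Polynomial.X ^ k) * x := by
        rw [pow_succ, ← mul_assoc, map_mul _ _ Polynomial.X, Polynomial.aeval_X]
      rw [e1, e2, Module.End.mul_apply, ih]
      show _ * (x * n) = _
      ring
  have := key q ⟨1, h1⟩
  rw [← Polynomial.aeval_def]
  rw [← Polynomial.aeval_def] at hq0
  simpa [hq0] using this.symm

theorem zpow_mul_mem {R S : Type*} [CommRing R] [CommRing S] [Algebra R S] (a : Sˣ)
    (n m : ℕ) (z : S) (p : Polynomial R) (hp : Polynomial.aeval (a : S) p = z) (hpn : p.natDegree ≤ n)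
    (q : Polynomial R) (hq : Polynomial.aeval ((a⁻¹ : Sˣ) : S) q = z) (hqm : q.natDegree ≤ m)
    (k : ℤ) (hk1 : -(m : ℤ) ≤ k) (hk2 : k ≤ n) :
    z * ((a ^ k : Sˣ) : S) ∈ Submodule.span R
      (Set.range fun i : Finset.Icc (-(m : ℤ)) (n : ℤ) => (((a ^ (i : ℤ) : Sˣ)) : S)) := by
  by_cases hk : 0 ≤ k
  · rw [← hq, Polynomial.aeval_eq_sum_range, Finset.sum_mul]
    refine Submodule.sum_mem _ fun j hj => ?_
    rw [smul_mul_assoc]
    refine Submodule.smul_mem _ _ (Submodule.subset_span ?_)
    have hj' : j ≤ m := by
      have := Finset.mem_range.mp hj; omega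
    refine ⟨⟨k - j, Finset.mem_Icc.mpr ⟨by omega, by omega⟩⟩, ?_⟩
    simp only [← Units.val_pow_eq_pow_val, ← Units.val_mul]
    congr 1
    rw [← zpow_natCast, ← zpow_neg_one, ← zpow_mul, ← zpow_add]
    congr 1; ring
  · rw [← hp, Polynomial.aeval_eq_sum_range, Finset.sum_mul]
    refine Submodule.sum_mem _ fun j hj => ?_
    rw [smul_mul_assoc]
    refine Submodule.smul_mem _ _ (Submodule.subset_span ?_)
    have hj' : j ≤ n := by
      have := Finset.mem_range.mp hj; omega
    refine ⟨⟨k + j, Finset.mem_Icc.mpr ⟨by omega, by omega⟩⟩, ?_⟩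
    simp only [← Units.val_pow_eq_pow_val, ← Units.val_mul]
    congr 1
    rw [← zpow_natCast, ← zpow_add]
    congr 1; ring

theorem isIntegral_of_mem_adjoin_inv {R S : Type*} [CommRing R] [CommRing S] [Algebra R S] (a b : S)
    (hab : a * b = 1) (z : S) (hza : z ∈ Algebra.adjoin R {a}) (hzb : z ∈ Algebra.adjoin R {b}) :
    IsIntegral R z := by
  rw [Algebra.adjoin_singleton_eq_range_aeval] at hza hzb
  obtain ⟨p, hp⟩ := hza
  obtain ⟨q, hq⟩ := hzb
  let u : Sˣ := ⟨a, b, hab, by rw [mul_comm]; exact hab⟩
  have hua : (u : S) = a := rfl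
  have hub : ((u⁻¹ : Sˣ) : S) = b := rfl
  set n := p.natDegree
  set m := q.natDegree
  refine isIntegral_of_mul_mem_submodule (Submodule.span R
      (Set.range fun i : Finset.Icc (-(m : ℤ)) (n : ℤ) => (((u ^ (i : ℤ) : Sˣ)) : S))) ?_ ?_ z ?_
  · refine Submodule.subset_span ⟨⟨0, Finset.mem_Icc.mpr ⟨by omega, by omega⟩⟩, ?_⟩
    simp
  · exact Submodule.fg_span (Set.finite_range _)
  · intro x hx
    induction hx using Submodule.span_induction with
    | mem x hx =>
      obtain ⟨⟨k, hk⟩, rfl⟩ := hx
      rw [Finset.mem_Icc] at hk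
      exact zpow_mul_mem u n m z p hp le_rfl q hq le_rfl k hk.1 hk.2
    | zero => simp
    | add x y _ _ hx hy => rw [mul_add]; exact Submodule.add_mem _ hx hy
    | smul r x _ hx => rw [mul_smul_comm]; exact Submodule.smul_mem _ _ hx

theorem inf_adjoin_eq_bot {R S A : Type*} [CommRing R] [CommRing S] [Algebra R S] [CommRing A]
    [Algebra R A] [IsIntegrallyClosedIn R A] (φ : A →ₐ[R] S) (hφ : Function.Injective φ)
    (a b : S) (hab : a * b = 1) (b' : A) (hb : φ b' = b) :
    (Algebra.adjoin R {a}).toSubmodule ⊓ (Algebra.adjoin R {b}).toSubmodule =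
      (⊥ : Subalgebra R S).toSubmodule := by
  apply le_antisymm
  · rintro z ⟨hza, hzb⟩
    have hint := isIntegral_of_mem_adjoin_inv a b hab z hza hzb
    have hzb' : z ∈ Algebra.adjoin R {b} := hzb
    rw [Algebra.adjoin_singleton_eq_range_aeval] at hzb'
    obtain ⟨q, hq⟩ := hzb'
    have hz' : φ (Polynomial.aeval b' q) = z := by
      rw [← Polynomial.aeval_algHom_apply, hb]; exact hq
    rw [← hz', isIntegral_algHom_iff φ hφ, IsIntegrallyClosedIn.isIntegral_iff] at hint
    obtain ⟨r, hr⟩ := hint
    show z ∈ (⊥ : Subalgebra R S)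
    rw [Algebra.mem_bot]
    refine ⟨r, ?_⟩
    rw [← hz', ← hr, AlgHom.commutes]
  · exact le_inf (Subalgebra.toSubmodule.monotone bot_le) (Subalgebra.toSubmodule.monotone bot_le)

theorem sup_adjoin_eq {R S : Type*} [CommRing R] [CommRing S] [Algebra R S] (a b : S)
    (hab : a * b = 1) :
    (Algebra.adjoin R {a}).toSubmodule ⊔ (Algebra.adjoin R {b}).toSubmodule =
      (Algebra.adjoin R {a, b}).toSubmodule := by
  apply le_antisymm
  · exact sup_le (Subalgebra.toSubmodule.monotone (Algebra.adjoin_mono (by simp)))
      (Subalgebra.toSubmodule.monotone (Algebra.adjoin_mono (by simp)))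
  · have : ({a, b} : Set S) = {a} ∪ {b} := by rw [Set.singleton_union]
    rw [this, Algebra.adjoin_union_coe_submodule, Algebra.adjoin_eq_span, Algebra.adjoin_eq_span,
      Submodule.span_mul_span, Submodule.span_le]
    rintro _ ⟨u, hu, v, hv, rfl⟩
    obtain ⟨i, rfl⟩ := Submonoid.mem_closure_singleton.mp hu
    obtain ⟨j, rfl⟩ := Submonoid.mem_closure_singleton.mp hv
    simp only
    rcases le_total j i with h | h
    · obtain ⟨k, rfl⟩ := Nat.exists_eq_add_of_le h
      have : a ^ (j + k) * b ^ j = a ^ k := by
        rw [pow_add, mul_comm (a ^ j), mul_assoc, ← mul_pow, hab, one_pow, mul_one]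
      rw [this]
      exact Submodule.mem_sup_left (Submodule.subset_span (Submonoid.pow_mem (Submonoid.closure {a}) (Submonoid.subset_closure (Set.mem_singleton a)) k))
    · obtain ⟨k, rfl⟩ := Nat.exists_eq_add_of_le h
      have : a ^ i * b ^ (i + k) = b ^ k := by
        rw [pow_add, ← mul_assoc, ← mul_pow, hab, one_pow, one_mul]
      rw [this]
      exact Submodule.mem_sup_right (Submodule.subset_span (Submonoid.pow_mem (Submonoid.closure {b}) (Submonoid.subset_closure (Set.mem_singleton b)) k))

theorem away_lift_injective {R : Type u} [CommRing R] (x y : R) (hx : x ∈ nonZeroDivisors R)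
    (hy : y ∈ nonZeroDivisors R) (S : Type*) [CommRing S] [Algebra R S] [IsLocalization.Away (x * y) S] :
    ∃ φ : Localization.Away x →ₐ[R] S, Function.Injective φ ∧
      φ (algebraMap R _ y * IsLocalization.Away.invSelf x) =
        algebraMap R S (y * y) * IsLocalization.Away.invSelf (x * y) := by
  have hu : IsUnit (algebraMap R S x) := by
    have := IsLocalization.Away.algebraMap_isUnit (S := S) (x * y)
    rw [map_mul] at this
    exact isUnit_of_mul_isUnit_left this
  have hf : ∀ s : Submonoid.powers x, IsUnit ((Algebra.ofId R S) s) := by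
    rintro ⟨_, n, rfl⟩
    simpa using hu.pow n
  let φ : Localization.Away x →ₐ[R] S := IsLocalization.liftAlgHom (M := Submonoid.powers x) hf
  have hinj : Function.Injective (algebraMap R S) :=
    IsLocalization.injective S (M := Submonoid.powers (x * y))
      (Submonoid.powers_le.mpr (mul_mem hx hy))
  refine ⟨φ, ?_, ?_⟩
  · rw [injective_iff_map_eq_zero]
    intro t ht
    obtain ⟨r, s, rfl⟩ := IsLocalization.exists_mk'_eq (Submonoid.powers x) t
    have h1 : φ (IsLocalization.mk' _ r s) * φ (algebraMap R _ (s : R)) = algebraMap R S r := by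
      rw [← map_mul, IsLocalization.mk'_spec, AlgHom.commutes]
    rw [ht, zero_mul] at h1
    have : r = 0 := hinj (by rw [← h1, map_zero])
    rw [this, IsLocalization.mk'_zero]
  · have h1 : φ (IsLocalization.Away.invSelf x) * algebraMap R S x = 1 := by
      rw [← AlgHom.commutes φ x, ← map_mul, mul_comm, IsLocalization.Away.mul_invSelf, map_one]
    have h2 : algebraMap R S (x * y) * IsLocalization.Away.invSelf (x * y) = 1 :=
      IsLocalization.Away.mul_invSelf _
    have h3 : φ (IsLocalization.Away.invSelf x) = algebraMap R S y * IsLocalization.Away.invSelf (x * y) := by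
      have : φ (IsLocalization.Away.invSelf x) * (algebraMap R S (x * y) * IsLocalization.Away.invSelf (x * y))
          = algebraMap R S y * IsLocalization.Away.invSelf (x * y) := by
        rw [map_mul, ← mul_assoc, ← mul_assoc, h1, one_mul]
      rw [← this, h2, mul_one]
    rw [map_mul, AlgHom.commutes, h3, map_mul]; ring

/-- Let R be a ring and x, y ∈ R nonzerodivisors. In the localization R_{xy} let a = x/y and b = y/x,
and let R[a], R[b], R[a, b] be the R-subalgebras they generate. If R is integrally closed in R_x or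
in R_y, then the sequence 0 → R → R[a] ⊕ R[b] → R[a, b] → 0 (difference map, then sum map) is short
exact; equivalently R[a] ∩ R[b] is the image of R and R[a] + R[b] = R[a, b] inside R_{xy}. -/
theorem result {R : Type u} [CommRing R] (x y : R) (hx : x ∈ nonZeroDivisors R) (hy : y ∈ nonZeroDivisors R)
    (hint : IsIntegrallyClosedIn R (Localization.Away x) ∨ IsIntegrallyClosedIn R (Localization.Away y)) :
    (Algebra.adjoin R {algebraMap R (Localization.Away (x * y)) (x * x) * IsLocalization.Away.invSelf (x * y)}).toSubmodule ⊓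
        (Algebra.adjoin R {algebraMap R (Localization.Away (x * y)) (y * y) * IsLocalization.Away.invSelf (x * y)}).toSubmodule =
        (⊥ : Subalgebra R (Localization.Away (x * y))).toSubmodule ∧
      (Algebra.adjoin R {algebraMap R (Localization.Away (x * y)) (x * x) * IsLocalization.Away.invSelf (x * y)}).toSubmodule ⊔
        (Algebra.adjoin R {algebraMap R (Localization.Away (x * y)) (y * y) * IsLocalization.Away.invSelf (x * y)}).toSubmodule =
        (Algebra.adjoin R {algebraMap R (Localization.Away (x * y)) (x * x) * IsLocalization.Away.invSelf (x * y), algebraMap R (Localization.Away (x * y)) (y * y) * IsLocalization.Away.invSelf (x * y)}).toSubmodule := by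
  have h2 : algebraMap R (Localization.Away (x * y)) (x * y) * IsLocalization.Away.invSelf (x * y) = 1 :=
    IsLocalization.Away.mul_invSelf _
  have hab : (algebraMap R (Localization.Away (x * y)) (x * x) * IsLocalization.Away.invSelf (x * y)) *
      (algebraMap R (Localization.Away (x * y)) (y * y) * IsLocalization.Away.invSelf (x * y)) = 1 := by
    have : (algebraMap R (Localization.Away (x * y)) (x * x) * IsLocalization.Away.invSelf (x * y)) *
      (algebraMap R (Localization.Away (x * y)) (y * y) * IsLocalization.Away.invSelf (x * y)) =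
      (algebraMap R (Localization.Away (x * y)) (x * y) * IsLocalization.Away.invSelf (x * y)) ^ 2 := by
      simp only [map_mul]; ring
    rw [this, h2, one_pow]
  refine ⟨?_, sup_adjoin_eq _ _ hab⟩
  rcases hint with h | h
  · obtain ⟨φ, hφ, hb⟩ := away_lift_injective x y hx hy (Localization.Away (x * y))
    exact inf_adjoin_eq_bot φ hφ _ _ hab _ hb
  · have : IsLocalization.Away (y * x) (Localization.Away (x * y)) := by
      rw [mul_comm]; infer_instance
    obtain ⟨φ, hφ, hb⟩ := away_lift_injective y x hy hx (Localization.Away (x * y))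
    rw [inf_comm]
    refine inf_adjoin_eq_bot φ hφ _ _ ((mul_comm _ _).trans hab)
      ((algebraMap R (Localization.Away y)) x * IsLocalization.Away.invSelf y) ?_
    rw [hb]
    congr 1
    have e1 : algebraMap R (Localization.Away (x * y)) (x * y) * IsLocalization.Away.invSelf (y * x) = 1 := by
      have := IsLocalization.Away.mul_invSelf (S := Localization.Away (x * y)) (y * x)
      rw [show algebraMap R (Localization.Away (x * y)) (y * x) =
        algebraMap R (Localization.Away (x * y)) (x * y) by rw [mul_comm]] at this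
      exact this
    calc IsLocalization.Away.invSelf (y * x) = (algebraMap R (Localization.Away (x * y)) (x * y) *
          IsLocalization.Away.invSelf (x * y)) * IsLocalization.Away.invSelf (y * x) := by rw [h2, one_mul]
      _ = (algebraMap R (Localization.Away (x * y)) (x * y) * IsLocalization.Away.invSelf (y * x)) *
          IsLocalization.Away.invSelf (x * y) := by ring
      _ = _ := by rw [e1, one_mul]

end Groth.Agent.S9654
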