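import Groth.Statements.S9655
import Mathlib

set_option autoImplicit false
universe u
open CAlg

namespace Groth.Agent.S9655

theorem ess_aux {R S : Type u} [CommRing R] [CommRing S] [Algebra R S] [IsLocalRing R] [IsLocalRing S]
    [Algebra.EssFiniteType R S] :
    ∃ (n : ℕ) (t : Fin n → S) (I : Ideal (MvPolynomial (Fin n) R)), I ≠ ⊤ ∧
      (IsLocalRing.maximalIdeal S).comap (MvPolynomial.aeval t : MvPolynomial (Fin n) R →ₐ[R] S) ≤ I ∧
      (∀ r ∈ IsLocalRing.maximalIdeal R, MvPolynomial.C r ∈ I) ∧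
      (∀ z : S, ∃ w ∈ Algebra.adjoin R (Set.range t), IsUnit w ∧ z * w ∈ Algebra.adjoin R (Set.range t)) := by
  obtain ⟨σ, hσ⟩ := (Algebra.essFiniteType_iff (R := R) (S := S)).mp inferInstance
  let κ := IsLocalRing.ResidueField S
  let π : S →+* κ := IsLocalRing.residue S
  let f : R →+* κ := π.comp (algebraMap R S)
  obtain ⟨V, hle, hloc⟩ := (LocalSubring.range f).exists_le_valuationSubring
  have hle' : ∀ r, f r ∈ V := fun r => hle ⟨r, rfl⟩
  let n := σ.card
  let e : Fin n → S := fun i => (σ.equivFin.symm i : S)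
  have he : ∀ s ∈ σ, ∃ i, e i = s := fun s hs => ⟨σ.equivFin ⟨s, hs⟩, by simp [e]⟩
  classical
  let t : Fin n → S := fun i => if π (e i) ∈ V then e i else Ring.inverse (e i)
  have hunit : ∀ i, π (e i) ∉ V → IsUnit (e i) := by
    intro i hi
    by_contra hnu
    have : e i ∈ IsLocalRing.maximalIdeal S := hnu
    rw [← IsLocalRing.residue_eq_zero_iff] at this
    exact hi (by show π (e i) ∈ V; rw [show π (e i) = 0 from this]; exact V.zero_mem)
  have F1 : ∀ i, π (t i) ∈ V := by
    intro i
    by_cases hi : π (e i) ∈ V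
    · simp only [t, if_pos hi]; exact hi
    · simp only [t, if_neg hi]
      obtain ⟨u, hu⟩ := hunit i hi
      rw [← hu, Ring.inverse_unit]
      have h1 : π (u : S) * π ((u⁻¹ : Sˣ) : S) = 1 := by rw [← map_mul]; simp
      have h2 : π ((u⁻¹ : Sˣ) : S) = (π (u : S))⁻¹ := (eq_inv_of_mul_eq_one_right h1)
      rw [h2]
      rcases V.mem_or_inv_mem (π (u : S)) with h | h
      · exact absurd (hu ▸ h) hi
      · exact h
  set B := Algebra.adjoin R (Set.range t) with hB
  have F2 : ∀ i, ∃ w ∈ B, IsUnit w ∧ e i * w ∈ B := by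
    intro i
    by_cases hi : π (e i) ∈ V
    · refine ⟨1, one_mem _, isUnit_one, ?_⟩
      rw [mul_one]
      refine Algebra.subset_adjoin ⟨i, ?_⟩
      simp only [t, if_pos hi]
    · have hti : t i = Ring.inverse (e i) := by simp only [t, if_neg hi]
      obtain ⟨u, hu⟩ := hunit i hi
      refine ⟨t i, Algebra.subset_adjoin ⟨i, rfl⟩, ?_, ?_⟩
      · rw [hti, ← hu, Ring.inverse_unit]; exact Units.isUnit _
      · rw [hti, ← hu, Ring.inverse_unit, Units.mul_inv]; exact one_mem _
  have F3 : ∀ c ∈ Algebra.adjoin R (σ : Set S), ∃ w ∈ B, IsUnit w ∧ c * w ∈ B := by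
    intro c hc
    induction hc using Algebra.adjoin_induction with
    | mem x hx =>
      obtain ⟨i, rfl⟩ := he x hx
      exact F2 i
    | algebraMap r => exact ⟨1, one_mem _, isUnit_one, by rw [mul_one]; exact Subalgebra.algebraMap_mem _ r⟩
    | add x y _ _ hx hy =>
      obtain ⟨w1, hw1, hu1, h1⟩ := hx
      obtain ⟨w2, hw2, hu2, h2⟩ := hy
      refine ⟨w1 * w2, mul_mem hw1 hw2, hu1.mul hu2, ?_⟩
      have : (x + y) * (w1 * w2) = (x * w1) * w2 + (y * w2) * w1 := by ring
      rw [this]
      exact add_mem (mul_mem h1 hw2) (mul_mem h2 hw1)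
    | mul x y _ _ hx hy =>
      obtain ⟨w1, hw1, hu1, h1⟩ := hx
      obtain ⟨w2, hw2, hu2, h2⟩ := hy
      refine ⟨w1 * w2, mul_mem hw1 hw2, hu1.mul hu2, ?_⟩
      have : (x * y) * (w1 * w2) = (x * w1) * (y * w2) := by ring
      rw [this]
      exact mul_mem h1 h2
  have F4 : ∀ z : S, ∃ w ∈ B, IsUnit w ∧ z * w ∈ B := by
    intro z
    obtain ⟨v, hv, huv, hzv⟩ := hσ z
    obtain ⟨w1, hw1, hu1, h1⟩ := F3 v hv
    obtain ⟨w2, hw2, hu2, h2⟩ := F3 (z * v) hzv
    refine ⟨(v * w1) * w2, mul_mem h1 hw2, (huv.mul hu1).mul hu2, ?_⟩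
    have : z * (v * w1 * w2) = (z * v * w2) * w1 := by ring
    rw [this]
    exact mul_mem h2 hw1
  let ev : MvPolynomial (Fin n) R →ₐ[R] S := MvPolynomial.aeval t
  let g : MvPolynomial (Fin n) R →+* κ := π.comp ev.toRingHom
  have F5 : ∀ p, g p ∈ V.toSubring := by
    intro p
    induction p using MvPolynomial.induction_on with
    | C r =>
      have : g (MvPolynomial.C r) = f r := by simp [g, f, ev]
      rw [this]; exact hle' r
    | add p q hp hq => rw [map_add]; exact add_mem hp hq
    | mul_X p i hp =>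
      rw [map_mul]
      refine mul_mem hp ?_
      have : g (MvPolynomial.X i) = π (t i) := by simp [g, ev]
      rw [this]; exact F1 i
  have : IsLocalRing V.toSubring := V.toLocalSubring.isLocalRing
  let g' : MvPolynomial (Fin n) R →+* V.toSubring := g.codRestrict V.toSubring F5
  have hg' : ∀ p, (g' p : κ) = g p := fun p => rfl
  let I : Ideal (MvPolynomial (Fin n) R) := (IsLocalRing.maximalIdeal V.toSubring).comap g'
  refine ⟨n, t, I, ?_, ?_, ?_, F4⟩
  · exact (Ideal.comap_isPrime g' _).ne_top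
  · intro p hp
    have hp' : ev p ∈ IsLocalRing.maximalIdeal S := hp
    rw [← IsLocalRing.residue_eq_zero_iff] at hp'
    have : g' p = 0 := Subtype.ext hp'
    show g' p ∈ IsLocalRing.maximalIdeal V.toSubring
    rw [this]; exact zero_mem _
  · intro r hr
    show g' (MvPolynomial.C r) ∈ IsLocalRing.maximalIdeal V.toSubring
    rw [IsLocalRing.mem_maximalIdeal, mem_nonunits_iff]
    intro hu
    have hfr : g (MvPolynomial.C r) = f r := by simp [g, f, ev]
    have h1 : Subring.inclusion hle ⟨f r, ⟨r, rfl⟩⟩ = g' (MvPolynomial.C r) := Subtype.ext hfr.symm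
    have h2 : IsUnit (⟨f r, ⟨r, rfl⟩⟩ : (LocalSubring.range f).toSubring) := by
      have := hloc
      exact isUnit_of_map_unit (Subring.inclusion hle) _ (h1 ▸ hu)
    obtain ⟨⟨_, ⟨r', rfl⟩⟩, hy⟩ := isUnit_iff_exists_inv.mp h2
    have h3 : f r * f r' = 1 := congrArg Subtype.val hy
    have h4 : f (1 - r * r') = 0 := by rw [map_sub, map_mul, h3, map_one, sub_self]
    have h5 : IsUnit (1 - r * r') := by
      have : r * r' ∈ IsLocalRing.maximalIdeal R := Ideal.mul_mem_right _ _ hr
      exact IsLocalRing.isUnit_one_sub_self_of_mem_nonunits _ this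
    have h6 := h5.map f
    rw [h4] at h6
    exact not_isUnit_zero h6

/-- Let R and S be local rings and R → S a ring map, not necessarily local, that is essentially of
finite type. Then for some n there is a maximal ideal m of the polynomial ring R[x_1, …, x_n] lying
over the maximal ideal of R, together with an R-algebra map φ : R[x_1, …, x_n]_m → S making S a
localization of the image of φ; thus S arises from R[x_1, …, x_n]_m by passing to a quotient and
then localizing. -/
theorem result {R S : Type u} [CommRing R] [CommRing S] [Algebra R S] [IsLocalRing R] [IsLocalRing S] [Algebra.EssFiniteType R S] :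
    ∃ (n : ℕ) (m : Ideal (MvPolynomial (Fin n) R)) (_ : m.IsMaximal), m.under R = IsLocalRing.maximalIdeal R ∧
      ∃ (φ : Localization.AtPrime m →ₐ[R] S) (T : Submonoid φ.range), IsLocalization T S := by
  obtain ⟨n, t, I, hI, hqI, hmI, F4⟩ := ess_aux (R := R) (S := S)
  obtain ⟨m, hm, hIm⟩ := Ideal.exists_le_maximal I hI
  refine ⟨n, m, hm, ?_, ?_⟩
  · apply le_antisymm
    · apply IsLocalRing.le_maximalIdeal
      intro h
      have : (1 : R) ∈ m.under R := by rw [h]; trivial
      rw [Ideal.under_def, Ideal.mem_comap, map_one] at this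
      exact hm.ne_top ((Ideal.eq_top_iff_one _).mpr this)
    · intro r hr
      rw [Ideal.under_def, Ideal.mem_comap]
      exact hIm (hmI r hr)
  · let ev : MvPolynomial (Fin n) R →ₐ[R] S := MvPolynomial.aeval t
    have hf : ∀ y : m.primeCompl, IsUnit (ev y) := by
      rintro ⟨y, hy⟩
      by_contra hnu
      have : y ∈ (IsLocalRing.maximalIdeal S).comap ev := hnu
      exact hy (hIm (hqI this))
    let φ : Localization.AtPrime m →ₐ[R] S := IsLocalization.liftAlgHom (M := m.primeCompl) hf
    have hBφ : Algebra.adjoin R (Set.range t) ≤ φ.range := by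
      rw [Algebra.adjoin_range_eq_range_aeval]
      rintro _ ⟨p, rfl⟩
      refine ⟨algebraMap _ _ p, ?_⟩
      simp [φ, ev]
    refine ⟨φ, (IsUnit.submonoid S).comap (algebraMap φ.range S), ?_⟩
    constructor; constructor
    · exact fun y ↦ y.prop
    · intro s
      obtain ⟨w, hw, hu, h⟩ := F4 s
      exact ⟨⟨⟨_, hBφ h⟩, ⟨⟨w, hBφ hw⟩, hu⟩⟩, rfl⟩
    · intro x y e
      exact ⟨1, by simpa using Subtype.ext e⟩

end Groth.Agent.S9655
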