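import Groth.Statements.S9656
import Mathlib

set_option autoImplicit false
universe u
open CAlg

namespace Groth.Agent.S9656

section
open Polynomial
variable {ι : Type u} {R : ι → Type u} [∀ i, CommRing (R i)]

lemma exists_pi_poly (N : ℕ) (q : ∀ i, (R i)[X]) (hdeg : ∀ i, (q i).natDegree ≤ N)
    (hlead : ∀ i, (q i).coeff N = 1) :
    ∃ P : (∀ i, R i)[X], P.Monic ∧ ∀ i, P.map (Pi.evalRingHom R i) = q i := by
  classical
  let P : (∀ i, R i)[X] := ∑ k ∈ Finset.range (N + 1), monomial k (fun i => (q i).coeff k)
  have hcoeff : ∀ k, P.coeff k = fun i => (q i).coeff k := by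
    intro k
    simp only [P, finsetSum_coeff, coeff_monomial]
    by_cases hk : k ∈ Finset.range (N + 1)
    · rw [Finset.sum_eq_single k]
      · simp
      · intro b _ hb
        rw [if_neg hb]
      · intro h; exact absurd hk h
    · rw [Finset.sum_eq_zero]
      · funext i
        rw [Finset.mem_range] at hk
        exact (coeff_eq_zero_of_natDegree_lt (lt_of_le_of_lt (hdeg i) (by omega))).symm
      · intro b hb
        rw [if_neg]
        rintro rfl
        exact hk hb
  refine ⟨P, ?_, ?_⟩
  · apply monic_of_natDegree_le_of_coeff_eq_one N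
    · rw [natDegree_le_iff_coeff_eq_zero]
      intro k hk
      rw [hcoeff]
      funext i
      exact coeff_eq_zero_of_natDegree_lt (lt_of_le_of_lt (hdeg i) hk)
    · rw [hcoeff]
      funext i
      exact hlead i
  · intro i
    ext k
    rw [coeff_map, hcoeff]
    rfl
end

/-- Let R_i → S_i be ring maps indexed by a finite type ι, with product map R = Π R_i → S = Π S_i. Then
an element (s_i) of S is integral over R exactly when s_i is integral over R_i for every i; so
integral closure in a finite product is computed factor by factor. -/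
theorem result {ι : Type u} [Fintype ι] {R S : ι → Type u} [∀ i, CommRing (R i)] [∀ i, CommRing (S i)] (f : ∀ i, R i →+* S i) (s : ∀ i, S i) :
    (RingHom.pi fun i => (f i).comp (Pi.evalRingHom R i)).IsIntegralElem s ↔ ∀ i, (f i).IsIntegralElem (s i) := by
  have hcomm : ∀ i, (Pi.evalRingHom S i).comp (RingHom.pi fun i => (f i).comp (Pi.evalRingHom R i))
      = (f i).comp (Pi.evalRingHom R i) := fun i => rfl
  constructor
  · rintro ⟨P, hP, hPs⟩ i
    refine ⟨P.map (Pi.evalRingHom R i), hP.map _, ?_⟩
    have h1 := Polynomial.hom_eval₂ P (RingHom.pi fun i => (f i).comp (Pi.evalRingHom R i))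
      (Pi.evalRingHom S i) s
    rw [hPs, map_zero] at h1
    rw [Polynomial.eval₂_map, ← hcomm i]
    exact h1.symm
  · intro h
    choose p hp hps using h
    let N := ∑ i, (p i).natDegree
    have hle : ∀ i, (p i).natDegree ≤ N :=
      fun i => Finset.single_le_sum (f := fun i => (p i).natDegree) (fun _ _ => Nat.zero_le _)
        (Finset.mem_univ i)
    obtain ⟨P, hP, hPmap⟩ := exists_pi_poly N (fun i => p i * Polynomial.X ^ (N - (p i).natDegree))
      (fun i => by
        refine (Polynomial.natDegree_mul_le).trans ?_
        have := Polynomial.natDegree_X_pow_le (R := R i) (N - (p i).natDegree)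
        have := hle i
        omega)
      (fun i => by
        rw [Polynomial.coeff_mul_X_pow', if_pos (Nat.sub_le _ _), Nat.sub_sub_self (hle i)]
        exact (hp i).coeff_natDegree)
    refine ⟨P, hP, ?_⟩
    funext i
    have h1 := Polynomial.hom_eval₂ P (RingHom.pi fun i => (f i).comp (Pi.evalRingHom R i))
      (Pi.evalRingHom S i) s
    rw [hcomm i, ← Polynomial.eval₂_map, hPmap i, Polynomial.eval₂_mul] at h1
    have h2 : Polynomial.eval₂ (f i) ((Pi.evalRingHom S i) s) (p i) = 0 := hps i
    rw [h2, zero_mul] at h1
    exact h1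

end Groth.Agent.S9656
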