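import Groth.Statements.S9657
import Mathlib
import Groth.Agent.Lib.Helper1.GeomRed
import Groth.Agent.S2150

set_option autoImplicit false
universe u
open CAlg

namespace Groth.Agent.S9657

open TensorProduct Polynomial

section Up

variable {k K kt Kt : Type u} [Field k] [Field K] [Algebra k K] [Field kt] [Field Kt]
  [Algebra k[X] kt] [IsFractionRing k[X] kt] [Algebra K[X] Kt] [IsFractionRing K[X] Kt]
  [Algebra kt Kt]

/-- (⇐) direction, element-wise -/
lemma sepClosed_of_ratfunc
    (hcompat : ∀ p : k[X], algebraMap kt Kt (algebraMap k[X] kt p) =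
      algebraMap K[X] Kt (Polynomial.map (algebraMap k K) p))
    (hKt : ∀ β : Kt, IsSeparable kt β → β ∈ Set.range (algebraMap kt Kt))
    (α : K) (hα : IsSeparable k α) : α ∈ Set.range (algebraMap k K) := by
  let ιK : K →+* Kt := (algebraMap K[X] Kt).comp C
  let ιk : k →+* kt := (algebraMap k[X] kt).comp C
  have hι : ∀ c : k, algebraMap kt Kt (ιk c) = ιK (algebraMap k K c) := fun c => by
    have := hcompat (C c)
    rw [Polynomial.map_C] at this
    exact this
  have hsep : IsSeparable kt (ιK α) := by
    have h1 : aeval (ιK α) ((minpoly k α).map ιk) = 0 := by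
      rw [aeval_def, eval₂_map]
      have h2 : (algebraMap kt Kt).comp ιk = ιK.comp (algebraMap k K) := RingHom.ext hι
      rw [h2, ← hom_eval₂, ← aeval_def, minpoly.aeval, map_zero]
    exact (Polynomial.Separable.map hα).of_dvd (minpoly.dvd kt _ h1)
  obtain ⟨r, hr⟩ := hKt _ hsep
  obtain ⟨⟨p, q⟩, hpq⟩ := IsLocalization.surj (nonZeroDivisors k[X]) r
  have hq0 : (q : k[X]) ≠ 0 := nonZeroDivisors.ne_zero q.2
  have h3 : C α * (q : k[X]).map (algebraMap k K) = p.map (algebraMap k K) := by
    apply IsFractionRing.injective K[X] Kt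
    rw [map_mul, ← hcompat, ← hcompat, ← hpq, map_mul, hr]
    rfl
  have h4 := congrArg (fun P => P.coeff (q : k[X]).natDegree) h3
  simp only [coeff_C_mul, coeff_map] at h4
  have hlc : (q : k[X]).coeff (q : k[X]).natDegree ≠ 0 := by
    rw [coeff_natDegree]; exact leadingCoeff_ne_zero.mpr hq0
  refine ⟨p.coeff (q : k[X]).natDegree / (q : k[X]).coeff (q : k[X]).natDegree, ?_⟩
  rw [map_div₀, ← h4, mul_div_assoc, div_self, mul_one]
  exact (map_ne_zero_iff _ (algebraMap k K).injective).mpr hlc

end Up
section Main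

variable (k K kt Kt L : Type u) [Field k] [Field K] [Algebra k K] [Field kt] [Field Kt] [Field L]
  [Algebra k[X] kt] [Algebra K[X] Kt]
  [Algebra kt Kt] [Algebra kt L]
  [Algebra k kt] [IsScalarTower k k[X] kt]
  [Algebra k L] [IsScalarTower k kt L]
  [Algebra k Kt] [IsScalarTower k kt Kt]
  [Algebra K Kt] [IsScalarTower K K[X] Kt] [IsScalarTower k K Kt]

/-- the comparison map `L ⊗[k] K → L ⊗[k(t)] K(t)`. -/
noncomputable def phi : L ⊗[k] K →ₐ[L] L ⊗[kt] Kt :=
  Algebra.TensorProduct.lift (Algebra.ofId L (L ⊗[kt] Kt))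
    (((Algebra.TensorProduct.includeRight : Kt →ₐ[kt] L ⊗[kt] Kt).restrictScalars k).comp
      (IsScalarTower.toAlgHom k K Kt))
    (fun _ _ => Commute.all _ _)

/-- evaluation of polynomials at `t ⊗ 1`. -/
noncomputable def ev : K[X] →+* L ⊗[k] K :=
  eval₂RingHom (Algebra.TensorProduct.includeRight : K →ₐ[k] L ⊗[k] K).toRingHom
    ((algebraMap kt L (algebraMap k[X] kt X)) ⊗ₜ 1)

lemma phi_tmul (l : L) (c : K) : phi k K kt Kt L (l ⊗ₜ c) = l ⊗ₜ[kt] algebraMap K Kt c := by
  simp [phi, Algebra.ofId_apply, Algebra.TensorProduct.algebraMap_apply]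

variable {k K kt Kt L}

lemma phi_ev (hX : algebraMap kt Kt (algebraMap k[X] kt X) = algebraMap K[X] Kt X) (q : K[X]) :
    phi k K kt Kt L (ev k K kt L q) = (1 : L) ⊗ₜ[kt] algebraMap K[X] Kt q := by
  have h : ((phi k K kt Kt L).toRingHom.comp (ev k K kt L)) =
      (Algebra.TensorProduct.includeRight : Kt →ₐ[kt] L ⊗[kt] Kt).toRingHom.comp
        (algebraMap K[X] Kt) := by
    apply Polynomial.ringHom_ext
    · intro c
      simp only [RingHom.coe_comp, Function.comp_apply, ev, coe_eval₂RingHom, eval₂_C]
      change phi k K kt Kt L ((1 : L) ⊗ₜ c) = (1 : L) ⊗ₜ[kt] _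
      rw [phi_tmul, IsScalarTower.algebraMap_apply K K[X] Kt]
      rfl
    · simp only [RingHom.coe_comp, Function.comp_apply, ev, coe_eval₂RingHom, eval₂_X]
      change phi k K kt Kt L (_ ⊗ₜ (1 : K)) = (1 : L) ⊗ₜ[kt] _
      rw [phi_tmul, map_one, ← hX, Algebra.algebraMap_eq_smul_one, Algebra.algebraMap_eq_smul_one (A := Kt),
        TensorProduct.smul_tmul]
  exact congrArg (fun f => f q) h


lemma ev_map (p : k[X]) : ev k K kt L (p.map (algebraMap k K)) =
    (algebraMap kt L (algebraMap k[X] kt p)) ⊗ₜ[k] (1 : K) := by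
  have h : (ev k K kt L).comp (mapRingHom (algebraMap k K)) =
      (Algebra.TensorProduct.includeLeftRingHom : L →+* L ⊗[k] K).comp
        ((algebraMap kt L).comp (algebraMap k[X] kt)) := by
    apply Polynomial.ringHom_ext
    · intro c
      simp only [RingHom.coe_comp, Function.comp_apply, coe_mapRingHom, map_C, ev, coe_eval₂RingHom,
        eval₂_C, Algebra.TensorProduct.includeLeftRingHom_apply]
      change (1 : L) ⊗ₜ[k] (algebraMap k K c) = _
      rw [Polynomial.C_eq_algebraMap, ← IsScalarTower.algebraMap_apply k k[X] kt, ← IsScalarTower.algebraMap_apply k kt L,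
        Algebra.algebraMap_eq_smul_one, Algebra.algebraMap_eq_smul_one (A := L),
        TensorProduct.smul_tmul]
    · simp only [RingHom.coe_comp, Function.comp_apply, coe_mapRingHom, map_X, ev, coe_eval₂RingHom,
        eval₂_X, Algebra.TensorProduct.includeLeftRingHom_apply]
  exact congrArg (fun f => f p) h

lemma exists_psi
    (hcompat : ∀ p : k[X], algebraMap kt Kt (algebraMap k[X] kt p) =
      algebraMap K[X] Kt (Polynomial.map (algebraMap k K) p))
    [IsFractionRing k[X] kt] [IsFractionRing K[X] Kt]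
    (Loc : Type u) [CommRing Loc] [Algebra (L ⊗[k] K) Loc]
    [IsLocalization ((nonZeroDivisors K[X]).map (ev k K kt L)) Loc] :
    ∃ ψ : L ⊗[kt] Kt →+* Loc, (∀ l : L, ψ (l ⊗ₜ 1) = algebraMap (L ⊗[k] K) Loc (l ⊗ₜ 1)) ∧
      ∀ q : K[X], ψ (1 ⊗ₜ algebraMap K[X] Kt q) = algebraMap (L ⊗[k] K) Loc (ev k K kt L q) := by
  letI algL : Algebra L Loc := ((algebraMap (L ⊗[k] K) Loc).comp
    (Algebra.TensorProduct.includeLeftRingHom : L →+* L ⊗[k] K)).toAlgebra
  letI algkt : Algebra kt Loc := ((algebraMap L Loc).comp (algebraMap kt L)).toAlgebra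
  haveI : IsScalarTower kt L Loc := IsScalarTower.of_algebraMap_eq (fun _ => rfl)
  have hunit : ∀ y : nonZeroDivisors K[X],
      IsUnit (((algebraMap (L ⊗[k] K) Loc).comp (ev k K kt L)) y) := fun y =>
    IsLocalization.map_units Loc
      (⟨ev k K kt L y, Submonoid.mem_map_of_mem _ y.2⟩ : (nonZeroDivisors K[X]).map (ev k K kt L))
  let g₀ : Kt →+* Loc := IsLocalization.lift hunit
  have hg₀ : ∀ q : K[X], g₀ (algebraMap K[X] Kt q) = algebraMap (L ⊗[k] K) Loc (ev k K kt L q) :=
    fun q => IsLocalization.lift_eq hunit q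
  have hcomm : ∀ r : kt, g₀ (algebraMap kt Kt r) = algebraMap kt Loc r := by
    have h : g₀.comp (algebraMap kt Kt) = algebraMap kt Loc := by
      apply IsLocalization.ringHom_ext (nonZeroDivisors k[X])
      ext p
      · simp only [RingHom.coe_comp, Function.comp_apply]
        rw [hcompat, hg₀, ev_map]
        rfl
      · simp only [RingHom.coe_comp, Function.comp_apply]
        rw [hcompat, hg₀, ev_map]
        rfl
    exact fun r => congrArg (fun f => f r) h
  let g : Kt →ₐ[kt] Loc := { g₀ with commutes' := hcomm }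
  let ψ : L ⊗[kt] Kt →ₐ[L] Loc :=
    Algebra.TensorProduct.lift (Algebra.ofId L Loc) g (fun _ _ => Commute.all _ _)
  refine ⟨ψ.toRingHom, ?_, ?_⟩
  · intro l
    change ψ (l ⊗ₜ 1) = _
    simp only [ψ, Algebra.TensorProduct.lift_tmul, map_one, mul_one, Algebra.ofId_apply]
    rfl
  · intro q
    change ψ (1 ⊗ₜ algebraMap K[X] Kt q) = _
    simp only [ψ, Algebra.TensorProduct.lift_tmul, map_one, one_mul]
    exact hg₀ q


lemma irreducibleSpace_of_isLocalization {A S : Type*} [CommRing A] [CommRing S] [Algebra A S]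
    (M : Submonoid A) [IsLocalization M S] [Nontrivial S] [IrreducibleSpace (PrimeSpectrum A)] :
    IrreducibleSpace (PrimeSpectrum S) := by
  rw [PrimeSpectrum.irreducibleSpace_iff_isPrime_nilradical] at *
  have h1 : nilradical S = (nilradical A).map (algebraMap A S) := by
    have := IsLocalization.map_radical M S (⊥ : Ideal A)
    rw [Ideal.map_bot] at this
    exact this.symm
  rw [h1]
  apply IsLocalization.isPrime_of_isPrime_disjoint M S _ ‹_›
  rw [Set.disjoint_left]
  intro m hm hn
  have hu : IsUnit (algebraMap A S m) := IsLocalization.map_units S ⟨m, hm⟩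
  have hnil : IsNilpotent (algebraMap A S m) := (mem_nilradical.mp hn).map _
  exact hu.not_isNilpotent hnil

lemma irr_up
    (hcompat : ∀ p : k[X], algebraMap kt Kt (algebraMap k[X] kt p) =
      algebraMap K[X] Kt (Polynomial.map (algebraMap k K) p))
    [IsFractionRing k[X] kt] [IsFractionRing K[X] Kt]
    [IrreducibleSpace (PrimeSpectrum (L ⊗[k] K))] :
    IrreducibleSpace (PrimeSpectrum (L ⊗[kt] Kt)) := by
  have hX : algebraMap kt Kt (algebraMap k[X] kt X) = algebraMap K[X] Kt X := by
    rw [hcompat, map_X]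
  let M := (nonZeroDivisors K[X]).map (ev k K kt L)
  have hunit : ∀ y : M, IsUnit ((phi k K kt Kt L).toRingHom y) := by
    rintro ⟨_, q, hq, rfl⟩
    change IsUnit (phi k K kt Kt L (ev k K kt L q))
    rw [phi_ev hX]
    have : IsUnit (algebraMap K[X] Kt q) := IsLocalization.map_units Kt ⟨q, hq⟩
    exact this.map (Algebra.TensorProduct.includeRight : Kt →ₐ[kt] L ⊗[kt] Kt)
  let lft : Localization M →+* L ⊗[kt] Kt := IsLocalization.lift hunit
  haveI : Nontrivial (L ⊗[kt] Kt) := inferInstance
  haveI : Nontrivial (Localization M) := lft.domain_nontrivial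
  haveI : IrreducibleSpace (PrimeSpectrum (Localization M)) :=
    irreducibleSpace_of_isLocalization M
  obtain ⟨ψ, h1, h2⟩ := exists_psi (Kt := Kt) (L := L) hcompat (Localization M)
  have hR : ∀ z : Kt, lft (ψ (1 ⊗ₜ z)) = 1 ⊗ₜ z := by
    have hh : (lft.comp ψ).comp
        (Algebra.TensorProduct.includeRight : Kt →ₐ[kt] L ⊗[kt] Kt).toRingHom =
        (Algebra.TensorProduct.includeRight : Kt →ₐ[kt] L ⊗[kt] Kt).toRingHom := by
      apply IsLocalization.ringHom_ext (nonZeroDivisors K[X])
      refine RingHom.ext fun q => ?_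
      simp only [RingHom.coe_comp, Function.comp_apply]
      change lft (ψ (1 ⊗ₜ algebraMap K[X] Kt q)) = 1 ⊗ₜ algebraMap K[X] Kt q
      rw [h2, IsLocalization.lift_eq]
      exact phi_ev hX q
    exact fun z => congrArg (fun f => f z) hh
  have hid : ∀ b, lft (ψ b) = b := by
    intro b
    induction b using TensorProduct.induction_on with
    | zero => simp
    | add x y hx hy => rw [map_add, map_add, hx, hy]
    | tmul l z =>
      have e : l ⊗ₜ[kt] z = (l ⊗ₜ 1) * (1 ⊗ₜ z) := by simp
      rw [e, map_mul, map_mul, h1, hR, IsLocalization.lift_eq]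
      change phi k K kt Kt L (l ⊗ₜ 1) * _ = _
      rw [phi_tmul, map_one]
  exact Groth.Agent.H1.GeomIrr.irreducibleSpace_of_injective ψ (Function.LeftInverse.injective hid)

end Main


open TensorProduct in
/-- Let K/k be a field extension and let k(t) ⊆ K(t) be the purely transcendental extensions in one
variable, realised as fraction fields of k[t] and K[t] compatibly with k[t] → K[t]. Then K is
geometrically irreducible over k (Spec(k' ⊗_k K) irreducible for every field extension k'/k) if and
only if K(t) is geometrically irreducible over k(t). Here the test fields range over field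
extensions of k, respectively of k(t), in the universe of k; this is equivalent to the unrestricted
notions, since an algebraic closure of the base field suffices as a test. -/
theorem result {k K : Type u} [Field k] [Field K] [Algebra k K]
    (kt Kt : Type u) [Field kt] [Field Kt] [Algebra (Polynomial k) kt] [IsFractionRing (Polynomial k) kt] [Algebra (Polynomial K) Kt] [IsFractionRing (Polynomial K) Kt]
    [Algebra kt Kt] (hcompat : ∀ p : Polynomial k, algebraMap kt Kt (algebraMap (Polynomial k) kt p) = algebraMap (Polynomial K) Kt (Polynomial.map (algebraMap k K) p)) :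
    (∀ (k' : Type u) [Field k'] [Algebra k k'], IrreducibleSpace (PrimeSpectrum (k' ⊗[k] K))) ↔
      ∀ (L : Type u) [Field L] [Algebra kt L], IrreducibleSpace (PrimeSpectrum (L ⊗[kt] Kt)) := by
  constructor
  · intro hK L _ _
    letI : Algebra k kt := ((algebraMap k[X] kt).comp C).toAlgebra
    haveI : IsScalarTower k k[X] kt := IsScalarTower.of_algebraMap_eq (fun _ => rfl)
    letI : Algebra k L := ((algebraMap kt L).comp (algebraMap k kt)).toAlgebra
    haveI : IsScalarTower k kt L := .of_algebraMap_eq (fun _ => rfl)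
    letI : Algebra k Kt := ((algebraMap kt Kt).comp (algebraMap k kt)).toAlgebra
    haveI : IsScalarTower k kt Kt := .of_algebraMap_eq fun _ => rfl
    letI : Algebra K Kt := ((algebraMap K[X] Kt).comp C).toAlgebra
    haveI : IsScalarTower K K[X] Kt := .of_algebraMap_eq fun _ => rfl
    haveI : IsScalarTower k K Kt := .of_algebraMap_eq fun c => by
      change algebraMap kt Kt (algebraMap k[X] kt (C c)) = algebraMap K[X] Kt (C (algebraMap k K c))
      rw [hcompat, map_C]
    haveI := hK L
    exact irr_up hcompat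
  · intro hKt
    apply (Groth.Agent.S2150.result).mpr
    apply sepClosed_of_ratfunc hcompat
    exact (Groth.Agent.S2150.result).mp hKt

end Groth.Agent.S9657
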