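import Groth.Statements.S9658
import Mathlib

set_option autoImplicit false
universe u
open CAlg

namespace Groth.Agent.S9658

lemma exists_partition {R : Type u} [CommRing R] {ι : Type u} [Fintype ι] (f : ι → R)
    (hf : Ideal.span (Set.range f) = ⊤) (N : ℕ) : ∃ a : ι → R, ∑ i, a i * f i ^ N = 1 := by
  have h := Ideal.span_pow_eq_top (Set.range f) hf N
  rw [← Set.range_comp] at h
  have h1 : (1 : R) ∈ Ideal.span (Set.range ((fun x => x ^ N) ∘ f)) := by rw [h]; trivial
  exact Ideal.mem_span_range_iff_exists_fun.mp h1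

lemma pow_smul_of_le {R M : Type*} [CommRing R] [AddCommGroup M] [Module R M] (r : R) (x : M)
    {n N : ℕ} (h : n ≤ N) (hx : r ^ n • x = 0) : r ^ N • x = 0 := by
  obtain ⟨k, rfl⟩ := Nat.exists_eq_add_of_le h
  rw [pow_add, mul_comm, mul_smul, hx, smul_zero]

/-- Let R be a ring, f_1, …, f_n ∈ R generating the unit ideal and M an R-module. With M_i = M_{f_i},
M_ij = M_{f_i f_j} (any localizations, with the canonical compatible maps M → M_i → M_ij), the
sequence 0 → M → ⊕ M_i → ⊕ M_ij is exact: an element of M whose image vanishes in every M_i is zero,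
and every family (m_i ∈ M_i) such that m_i and m_j have the same image in M_ij for all i, j is the
image of an element of M. -/
theorem result {R : Type u} [CommRing R] {ι : Type u} [Fintype ι] (f : ι → R) (hf : Ideal.span (Set.range f) = ⊤)
    (M : Type u) [AddCommGroup M] [Module R M]
    (Mi : ι → Type u) [∀ i, AddCommGroup (Mi i)] [∀ i, Module R (Mi i)] (g : ∀ i, M →ₗ[R] Mi i) [∀ i, IsLocalizedModule (Submonoid.powers (f i)) (g i)]
    (Mij : ι → ι → Type u) [∀ i j, AddCommGroup (Mij i j)] [∀ i j, Module R (Mij i j)] (gij : ∀ i j, M →ₗ[R] Mij i j) [∀ i j, IsLocalizedModule (Submonoid.powers (f i * f j)) (gij i j)]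
    (ρ₁ : ∀ i j, Mi i →ₗ[R] Mij i j) (hρ₁ : ∀ i j, ρ₁ i j ∘ₗ g i = gij i j) (ρ₂ : ∀ i j, Mi j →ₗ[R] Mij i j) (hρ₂ : ∀ i j, ρ₂ i j ∘ₗ g j = gij i j) :
    (∀ m : M, (∀ i, g i m = 0) → m = 0) ∧
      ∀ s : ∀ i, Mi i, (∀ i j, ρ₁ i j (s i) = ρ₂ i j (s j)) → ∃ m : M, ∀ i, g i m = s i := by
  have hinj : ∀ i (n : ℕ) (y : Mi i), f i ^ n • y = 0 → y = 0 := by
    intro i n y hy
    have := IsLocalizedModule.smul_injective (g i) (⟨f i ^ n, n, rfl⟩ : Submonoid.powers (f i))
    apply this
    simp only [smul_zero]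
    exact hy
  have part1 : ∀ m : M, (∀ i, g i m = 0) → m = 0 := by
    intro m hm
    have h1 : ∀ i, ∃ n : ℕ, f i ^ n • m = 0 := by
      intro i
      obtain ⟨⟨_, n, rfl⟩, hn⟩ := (IsLocalizedModule.eq_zero_iff (Submonoid.powers (f i)) (g i)).mp (hm i)
      exact ⟨n, hn⟩
    choose n hn using h1
    let N := ∑ i, n i
    have hN : ∀ i, f i ^ N • m = 0 := fun i =>
      pow_smul_of_le (f i) m (Finset.single_le_sum (f := n) (fun _ _ => Nat.zero_le _)
        (Finset.mem_univ i)) (hn i)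
    obtain ⟨a, ha⟩ := exists_partition f hf N
    calc m = (1 : R) • m := (one_smul _ _).symm
      _ = ∑ i, (a i * f i ^ N) • m := by rw [← ha, Finset.sum_smul]
      _ = 0 := Finset.sum_eq_zero fun i _ => by rw [mul_smul, hN i, smul_zero]
  refine ⟨part1, ?_⟩
  intro s hs
  -- step a
  have h1 : ∀ i, ∃ (n : ℕ) (x : M), f i ^ n • s i = g i x := by
    intro i
    obtain ⟨⟨x, ⟨_, n, rfl⟩⟩, hx⟩ := IsLocalizedModule.surj (Submonoid.powers (f i)) (g i) (s i)
    exact ⟨n, x, hx⟩
  choose n x hx using h1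
  let N := ∑ i, n i
  have hnN : ∀ i, n i ≤ N := fun i =>
    Finset.single_le_sum (f := n) (fun _ _ => Nat.zero_le _) (Finset.mem_univ i)
  let x' : ι → M := fun i => f i ^ (N - n i) • x i
  have hx' : ∀ i, f i ^ N • s i = g i (x' i) := by
    intro i
    have : N = (N - n i) + n i := (Nat.sub_add_cancel (hnN i)).symm
    conv_lhs => rw [this, pow_add, mul_smul, hx i]
    rw [map_smul]
  -- step b
  have h2 : ∀ i j, ∃ K : ℕ, (f i * f j) ^ K • (f j ^ N • x' i - f i ^ N • x' j) = 0 := by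
    intro i j
    have e1 : gij i j (f j ^ N • x' i) = (f i * f j) ^ N • ρ₁ i j (s i) := by
      rw [← hρ₁ i j, LinearMap.comp_apply, map_smul, ← hx' i, map_smul, map_smul, smul_smul,
        mul_pow, mul_comm]
    have e2 : gij i j (f i ^ N • x' j) = (f i * f j) ^ N • ρ₂ i j (s j) := by
      rw [← hρ₂ i j, LinearMap.comp_apply, map_smul, ← hx' j, map_smul, map_smul, smul_smul,
        mul_pow]
    have e3 : gij i j (f j ^ N • x' i - f i ^ N • x' j) = 0 := by
      rw [map_sub, e1, e2, hs i j, sub_self]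
    obtain ⟨⟨_, K, rfl⟩, hK⟩ :=
      (IsLocalizedModule.eq_zero_iff (Submonoid.powers (f i * f j)) (gij i j)).mp e3
    exact ⟨K, hK⟩
  choose K hK using h2
  let K' := ∑ i, ∑ j, K i j
  have hKK' : ∀ i j, K i j ≤ K' := fun i j =>
    (Finset.single_le_sum (f := fun j => K i j) (fun _ _ => Nat.zero_le _) (Finset.mem_univ j)).trans
      (Finset.single_le_sum (f := fun i => ∑ j, K i j) (fun _ _ => Nat.zero_le _) (Finset.mem_univ i))
  have hK' : ∀ i j, (f i * f j) ^ K' • (f j ^ N • x' i - f i ^ N • x' j) = 0 := fun i j =>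
    pow_smul_of_le _ _ (hKK' i j) (hK i j)
  -- step c
  let y : ι → M := fun i => f i ^ K' • x' i
  have hy1 : ∀ i j, f j ^ (N + K') • y i = f i ^ (N + K') • y j := by
    intro i j
    have := hK' i j
    rw [smul_sub, sub_eq_zero] at this
    simp only [y, smul_smul] at this ⊢
    calc (f j ^ (N + K') * f i ^ K') • x' i = ((f i * f j) ^ K' * f j ^ N) • x' i := by
          congr 1; ring
      _ = ((f i * f j) ^ K' * f i ^ N) • x' j := this
      _ = (f i ^ (N + K') * f j ^ K') • x' j := by congr 1; ring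
  have hy2 : ∀ i, f i ^ (N + K') • s i = g i (y i) := by
    intro i
    simp only [y]
    rw [map_smul, ← hx' i, smul_smul, pow_add, mul_comm]
  -- step d
  obtain ⟨a, ha⟩ := exists_partition f hf (N + K')
  refine ⟨∑ i, a i • y i, fun j => ?_⟩
  rw [← sub_eq_zero]
  apply hinj j (N + K')
  rw [smul_sub, sub_eq_zero, hy2 j, ← map_smul]
  congr 1
  rw [Finset.smul_sum]
  calc ∑ i, f j ^ (N + K') • a i • y i = ∑ i, (a i * f i ^ (N + K')) • y j := by
        refine Finset.sum_congr rfl fun i _ => ?_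
        rw [smul_comm, hy1 i j, smul_smul]
    _ = y j := by rw [← Finset.sum_smul, ha, one_smul]

end Groth.Agent.S9658
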