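import Groth.Statements.S9659
import Mathlib

set_option autoImplicit false
universe u
open CAlg

namespace Groth.Agent.S9659

open DirectSum

section
variable {R S : Type u} [CommRing R] [CommRing S] [Algebra R S] (𝒜 : ℤ → Submodule R S) [GradedAlgebra 𝒜]

theorem inv_mem (d : ℤ) (u : Sˣ) (hu : (u : S) ∈ 𝒜 d) : ((u⁻¹ : Sˣ) : S) ∈ 𝒜 (-d) := by
  have h1 := DirectSum.coe_decompose_mul_add_of_left_mem 𝒜 hu (b := ((u⁻¹ : Sˣ) : S)) (j := -d)
  rw [Units.mul_inv, add_neg_cancel, decompose_of_mem_same 𝒜 (SetLike.GradedOne.one_mem)] at h1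
  have h2 : ((u⁻¹ : Sˣ) : S) = (decompose 𝒜 ((u⁻¹ : Sˣ) : S) (-d) : S) := by
    calc ((u⁻¹ : Sˣ) : S) = ((u⁻¹ : Sˣ) : S) * 1 := (mul_one _).symm
      _ = ((u⁻¹ : Sˣ) : S) * ((u : S) * (decompose 𝒜 ((u⁻¹ : Sˣ) : S) (-d) : S)) := by rw [← h1]
      _ = (decompose 𝒜 ((u⁻¹ : Sˣ) : S) (-d) : S) := by rw [← mul_assoc, Units.inv_mul, one_mul]
  rw [h2]
  exact (decompose 𝒜 ((u⁻¹ : Sˣ) : S) (-d)).2

theorem unit_zpow_mem (d : ℤ) (u : Sˣ) (hu : (u : S) ∈ 𝒜 d) (k : ℤ) : ((u ^ k : Sˣ) : S) ∈ 𝒜 (k * d) := by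
  obtain ⟨m, rfl | rfl⟩ := Int.eq_nat_or_neg k
  · rw [zpow_natCast, Units.val_pow_eq_pow_val]
    have := SetLike.pow_mem_graded m hu
    rwa [nsmul_eq_mul] at this
  · rw [zpow_neg, zpow_natCast, ← inv_pow, Units.val_pow_eq_pow_val]
    have := SetLike.pow_mem_graded m (inv_mem 𝒜 d u hu)
    rw [nsmul_eq_mul] at this
    convert this using 2
    ring

/-- the degree-zero element attached to a homogeneous element -/
theorem exists_unit_mul (d : ℤ) (hd : 0 < d) (u : Sˣ) (hu : (u : S) ∈ 𝒜 d) (n : ℤ) (x : S) (hx : x ∈ 𝒜 n) :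
    ∃ w : Sˣ, x ^ d.toNat * (w : S) ∈ 𝒜 0 := by
  refine ⟨u ^ (-n), ?_⟩
  have h1 := SetLike.pow_mem_graded d.toNat hx
  have h2 := unit_zpow_mem 𝒜 d u hu (-n)
  have h3 := SetLike.mul_mem_graded h1 h2
  convert h3 using 2
  rw [nsmul_eq_mul, Int.toNat_of_nonneg hd.le]
  ring

theorem mem_iff_of_homogeneous (d : ℤ) (hd : 0 < d) (P : Ideal S) [P.IsPrime] (x : S) (w : Sˣ) :
    x ^ d.toNat * (w : S) ∈ P ↔ x ∈ P := by
  have hdpos : d.toNat ≠ 0 := by
    intro h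
    have := Int.toNat_of_nonneg hd.le
    omega
  constructor
  · intro h
    have h1 : x ^ d.toNat ∈ P := by
      have := P.mul_mem_right ((w⁻¹ : Sˣ) : S) h
      rwa [mul_assoc, Units.mul_inv, mul_one] at this
    exact Ideal.IsPrime.mem_of_pow_mem ‹_› _ h1
  · intro h
    exact P.mul_mem_right _ (P.pow_mem_of_mem h _ (Nat.pos_of_ne_zero hdpos))

/-- `p₀ S ∩ S₀ = p₀` -/
theorem comap_map_eq (p₀ : Ideal (SetLike.GradeZero.subring 𝒜)) :
    (p₀.map (SetLike.GradeZero.subring 𝒜).subtype).comap (SetLike.GradeZero.subring 𝒜).subtype = p₀ := by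
  apply le_antisymm _ Ideal.le_comap_map
  intro a ha
  rw [Ideal.mem_comap] at ha
  -- projection to degree zero
  have key : ∀ y ∈ p₀.map (SetLike.GradeZero.subring 𝒜).subtype, ∀ s : S,
      ∃ b ∈ p₀, (b : S) = (decompose 𝒜 (s * y) 0 : S) := by
    intro y hy
    induction hy using Submodule.span_induction with
    | mem y hy =>
      obtain ⟨b, hb, rfl⟩ := hy
      intro s
      refine ⟨⟨(decompose 𝒜 s 0 : S), (decompose 𝒜 s 0).2⟩ * b, p₀.mul_mem_left _ hb, ?_⟩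
      have hb0 : (b : S) ∈ 𝒜 0 := b.2
      have := DirectSum.coe_decompose_mul_add_of_right_mem 𝒜 hb0 (a := s) (i := 0)
      rw [add_zero] at this
      exact this.symm
    | zero => intro s; exact ⟨0, p₀.zero_mem, by simp⟩
    | add y1 y2 _ _ h1 h2 =>
      intro s
      obtain ⟨b1, hb1, e1⟩ := h1 s
      obtain ⟨b2, hb2, e2⟩ := h2 s
      refine ⟨b1 + b2, p₀.add_mem hb1 hb2, ?_⟩
      rw [mul_add, decompose_add, DirectSum.add_apply, Submodule.coe_add, ← e1, ← e2]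
      rfl
    | smul s' y _ h1 =>
      intro s
      obtain ⟨b, hb, e⟩ := h1 (s * s')
      exact ⟨b, hb, by rw [e, smul_eq_mul, mul_assoc]⟩
  obtain ⟨b, hb, e⟩ := key _ ha 1
  rw [one_mul] at e
  have : a = b := by
    apply Subtype.ext
    rw [e]
    exact (decompose_of_mem_same 𝒜 a.2).symm
  rw [this]; exact hb

/-- the map in question -/
noncomputable def φ (P : {p : PrimeSpectrum S // p.asIdeal.IsHomogeneous 𝒜}) :
    PrimeSpectrum (SetLike.GradeZero.subring 𝒜) :=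
  PrimeSpectrum.comap (SetLike.GradeZero.subring 𝒜).subtype P.1

theorem mem_φ (P : {p : PrimeSpectrum S // p.asIdeal.IsHomogeneous 𝒜}) (a : SetLike.GradeZero.subring 𝒜) :
    a ∈ (φ 𝒜 P).asIdeal ↔ (a : S) ∈ P.1.asIdeal := Iff.rfl

theorem φ_surjective : Function.Surjective (φ 𝒜) := by
  intro p₀
  obtain ⟨q, hq, hqp⟩ := (Ideal.comap_map_eq_self_iff_of_isPrime p₀.asIdeal).mp (comap_map_eq 𝒜 p₀.asIdeal)
  refine ⟨⟨⟨(q.homogeneousCore 𝒜).toIdeal, Ideal.IsPrime.homogeneousCore hq⟩,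
    (q.homogeneousCore 𝒜).isHomogeneous⟩, ?_⟩
  apply PrimeSpectrum.ext
  ext a
  rw [mem_φ, ← hqp, Ideal.mem_comap]
  constructor
  · intro h
    exact Ideal.toIdeal_homogeneousCore_le 𝒜 q h
  · intro h
    exact Ideal.mem_homogeneousCore_of_homogeneous_of_mem ⟨0, a.2⟩ h

theorem le_of_φ_eq (d : ℤ) (hd : 0 < d) (u : Sˣ) (hu : (u : S) ∈ 𝒜 d)
    (P P' : {p : PrimeSpectrum S // p.asIdeal.IsHomogeneous 𝒜}) (h : φ 𝒜 P = φ 𝒜 P') :
    P.1.asIdeal ≤ P'.1.asIdeal := by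
  classical
  intro x hx
  rw [← DirectSum.sum_support_decompose 𝒜 x]
  refine Ideal.sum_mem _ (fun n _ => ?_)
  have hxn : (decompose 𝒜 x n : S) ∈ P.1.asIdeal := P.2 n hx
  obtain ⟨w, hw⟩ := exists_unit_mul 𝒜 d hd u hu n _ (decompose 𝒜 x n).2
  haveI := P.1.isPrime
  haveI := P'.1.isPrime
  rw [← mem_iff_of_homogeneous d hd P.1.asIdeal _ w] at hxn
  rw [← mem_iff_of_homogeneous d hd P'.1.asIdeal _ w]
  have h1 : (⟨_, hw⟩ : SetLike.GradeZero.subring 𝒜) ∈ (φ 𝒜 P).asIdeal := hxn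
  rw [h] at h1
  exact h1

theorem φ_injective (d : ℤ) (hd : 0 < d) (u : Sˣ) (hu : (u : S) ∈ 𝒜 d) : Function.Injective (φ 𝒜) := by
  intro P P' h
  apply Subtype.ext
  apply PrimeSpectrum.ext
  exact le_antisymm (le_of_φ_eq 𝒜 d hd u hu P P' h) (le_of_φ_eq 𝒜 d hd u hu P' P h.symm)

theorem isOpen_image_basicOpen (d : ℤ) (hd : 0 < d) (u : Sˣ) (hu : (u : S) ∈ 𝒜 d) (s : S) :
    IsOpen (φ 𝒜 '' (Subtype.val ⁻¹' (PrimeSpectrum.basicOpen s : Set (PrimeSpectrum S)))) := by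
  classical
  have hex := fun n : ℤ => exists_unit_mul 𝒜 d hd u hu n _ (decompose 𝒜 s n).2
  choose w hw using hex
  let e : ℤ → SetLike.GradeZero.subring 𝒜 := fun n => ⟨_, hw n⟩
  have : φ 𝒜 '' (Subtype.val ⁻¹' (PrimeSpectrum.basicOpen s : Set (PrimeSpectrum S))) =
      ⋃ n : ℤ, (PrimeSpectrum.basicOpen (e n) : Set (PrimeSpectrum (SetLike.GradeZero.subring 𝒜))) := by
    ext p₀
    simp only [Set.mem_image, Set.mem_preimage, Set.mem_iUnion, SetLike.mem_coe,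
      PrimeSpectrum.mem_basicOpen]
    constructor
    · rintro ⟨P, hP, rfl⟩
      by_contra hcon
      push_neg at hcon
      apply hP
      rw [← DirectSum.sum_support_decompose 𝒜 s]
      refine Ideal.sum_mem _ (fun n _ => ?_)
      haveI := P.1.isPrime
      have h1 : (e n : S) ∈ P.1.asIdeal := (mem_φ 𝒜 P (e n)).mp (hcon n)
      exact (mem_iff_of_homogeneous d hd P.1.asIdeal _ (w n)).mp h1
    · rintro ⟨n, hn⟩
      obtain ⟨P, rfl⟩ := φ_surjective 𝒜 p₀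
      refine ⟨P, ?_, rfl⟩
      intro hs
      apply hn
      haveI := P.1.isPrime
      have h1 : (decompose 𝒜 s n : S) ∈ P.1.asIdeal := P.2 n hs
      exact (mem_φ 𝒜 P (e n)).mpr ((mem_iff_of_homogeneous d hd P.1.asIdeal _ (w n)).mpr h1)
  rw [this]
  exact isOpen_iUnion (fun n => (PrimeSpectrum.basicOpen (e n)).2)

theorem main (f : S) (d : ℤ) (hd : 0 < d) (hf : f ∈ 𝒜 d) (hu : IsUnit f) : IsHomeomorph (φ 𝒜) := by
  obtain ⟨u, rfl⟩ := hu
  refine ⟨?_, ?_, φ_injective 𝒜 d hd u hf, φ_surjective 𝒜⟩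
  · exact (PrimeSpectrum.continuous_comap _).comp continuous_subtype_val
  · have hB := isTopologicalBasis_subtype
      (PrimeSpectrum.isTopologicalBasis_basic_opens (R := S)) (fun p => p.asIdeal.IsHomogeneous 𝒜)
    rw [hB.isOpenMap_iff]
    rintro _ ⟨_, ⟨s, rfl⟩, rfl⟩
    exact isOpen_image_basicOpen 𝒜 d hd u hf s

end

/-- Let S be a ℤ-graded ring which contains an invertible homogeneous element of positive degree. Then
the set of homogeneous prime ideals of S, with the topology induced from Spec(S), maps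
homeomorphically onto Spec(S₀) by p ↦ p ∩ S₀. -/
theorem result {R S : Type u} [CommRing R] [CommRing S] [Algebra R S] (𝒜 : ℤ → Submodule R S) [GradedAlgebra 𝒜]
    (f : S) (d : ℤ) (hd : 0 < d) (hf : f ∈ 𝒜 d) (hu : IsUnit f) :
    IsHomeomorph (fun p : {p : PrimeSpectrum S // p.asIdeal.IsHomogeneous 𝒜} => PrimeSpectrum.comap (SetLike.GradeZero.subring 𝒜).subtype p.1) := by
  exact main 𝒜 f d hd hf hu

end Groth.Agent.S9659
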