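import Groth.Statements.S9660
import Mathlib

set_option autoImplicit false
universe u
open CAlg

namespace Groth.Agent.S9660

/-- Let S be an ℕ-graded ring and I a homogeneous ideal of S. Then V₊(I) ⊆ Proj(S) is empty if and only
if S₊ ⊆ √I. -/
theorem result {R S : Type u} [CommRing R] [CommRing S] [Algebra R S] (𝒜 : ℕ → Submodule R S) [GradedAlgebra 𝒜] (I : HomogeneousIdeal 𝒜) :
    ProjectiveSpectrum.zeroLocus 𝒜 (I : Set S) = ∅ ↔ (HomogeneousIdeal.irrelevant 𝒜).toIdeal ≤ I.toIdeal.radical := by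
  constructor
  · intro h
    by_contra hle
    obtain ⟨f, hf, hfI⟩ := SetLike.not_le_iff_exists.mp hle
    rw [I.isHomogeneous.radical_eq, Ideal.mem_sInf] at hfI
    push Not at hfI
    obtain ⟨J, ⟨hJh, hIJ, hJp⟩, hfJ⟩ := hfI
    have hrel : ¬ HomogeneousIdeal.irrelevant 𝒜 ≤ (⟨J, hJh⟩ : HomogeneousIdeal 𝒜) := by
      intro hle'
      exact hfJ (hle' hf)
    have : (⟨⟨J, hJh⟩, hJp, hrel⟩ : ProjectiveSpectrum 𝒜) ∈
        ProjectiveSpectrum.zeroLocus 𝒜 (I : Set S) := by
      rw [ProjectiveSpectrum.mem_zeroLocus]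
      exact hIJ
    rw [h] at this
    exact this
  · intro h
    rw [Set.eq_empty_iff_forall_notMem]
    intro x hx
    rw [ProjectiveSpectrum.mem_zeroLocus] at hx
    apply x.not_irrelevant_le
    intro f hf
    have h1 : f ∈ I.toIdeal.radical := h hf
    have h2 : I.toIdeal.radical ≤ x.asHomogeneousIdeal.toIdeal :=
      (Ideal.IsPrime.radical_le_iff x.isPrime).mpr hx
    exact h2 h1

end Groth.Agent.S9660
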