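import Groth.Statements.S9661
import Groth.Agent.Lib.Helper2.HilbDim5

set_option autoImplicit false
universe u
attribute [local instance] MvPolynomial.gradedAlgebra
open CAlg

namespace Groth.Agent.S9661

/-- Let k be a field, d ≥ 1, and I a nonzero homogeneous ideal of the standard-graded polynomial ring
k[X_1, …, X_d]; put M = k[X_1, …, X_d]/I. Then the function n ↦ dim_k M_n (equal to dim_k of the
degree-n part of the polynomial ring minus dim_k of the degree-n part of I) coincides for all large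
n with a polynomial of degree < d - 1, the zero polynomial if d = 1. -/
theorem result {k : Type u} [Field k] (d : ℕ) (hd : 0 < d)
    (I : HomogeneousIdeal (MvPolynomial.homogeneousSubmodule (Fin d) k)) (hI : I ≠ ⊥) :
    ∃ P : Polynomial ℚ, P.degree < ((d - 1 : ℕ) : WithBot ℕ) ∧ ∃ N : ℕ, ∀ n : ℕ, N ≤ n →
      ((Module.finrank k ↥(MvPolynomial.homogeneousSubmodule (Fin d) k n) : ℚ) -
        (Module.finrank k ↥(I.toIdeal.restrictScalars k ⊓ MvPolynomial.homogeneousSubmodule (Fin d) k n) : ℚ)) = P.eval (n : ℚ) := by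
  classical
  obtain ⟨P, ⟨N, hN⟩, hdc⟩ :=
    Groth.Agent.H2.HilbDim.exists_isHP_mv k (Fin d) I.toIdeal I.isHomogeneous
  refine ⟨P, ?_, N, fun n hn => (hN n hn).symm⟩
  by_cases hP : P = 0
  · rw [hP, Polynomial.degree_zero]
    exact WithBot.bot_lt_coe _
  · have h1 := hdc.2 hP
    have hne : I.toIdeal ≠ ⊥ := by
      intro h
      apply hI
      apply HomogeneousIdeal.toIdeal_injective
      rw [h]
      rfl
    obtain ⟨f, hfI, hf0⟩ := Submodule.exists_mem_ne_zero_of_ne_bot hne
    have h2 : ringKrullDim (MvPolynomial (Fin d) k ⧸ Ideal.span {f}) + 1 ≤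
        ringKrullDim (MvPolynomial (Fin d) k) :=
      ringKrullDim_quotient_succ_le_of_nonZeroDivisor (mem_nonZeroDivisors_of_ne_zero hf0)
    have h3 : ringKrullDim (MvPolynomial (Fin d) k ⧸ I.toIdeal) ≤
        ringKrullDim (MvPolynomial (Fin d) k ⧸ Ideal.span {f}) :=
      Groth.Agent.H2.HilbDim.ringKrullDim_quotient_mono
        ((Ideal.span_singleton_le_iff_mem _).mpr hfI)
    rw [Groth.Agent.H2.DimFG.ringKrullDim_mvPolynomial_fin] at h2
    rw [h1] at h3
    have h4 : ((P.natDegree : ℕ) : WithBot ℕ∞) + 1 + 1 ≤ ((d : ℕ) : WithBot ℕ∞) :=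
      le_trans (add_le_add_left h3 1) h2
    have h5 : P.natDegree + 1 + 1 ≤ d := by exact_mod_cast h4
    rw [Polynomial.degree_eq_natDegree hP]
    have h6 : P.natDegree < d - 1 := by omega
    exact_mod_cast h6

end Groth.Agent.S9661
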