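import Groth.Statements.S9663
import Mathlib

set_option autoImplicit false
universe u
open CAlg

namespace Groth.Agent.S9663

section gen
variable {R : Type*} [CommRing R] {M N : Type*} [AddCommGroup M] [Module R M] [AddCommGroup N]
  [Module R N]

theorem cancel_of_isUnit {r : R} (h : IsUnit (algebraMap R (Module.End R N) r)) {x : N}
    (hx : r • x = 0) : x = 0 := by
  have := ((Module.End.isUnit_iff _).mp h).1
  apply this
  simpa using hx

theorem cancel_pow_of_isUnit {r : R} (h : IsUnit (algebraMap R (Module.End R N) r)) (n : ℕ) {x : N}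
    (hx : r ^ n • x = 0) : x = 0 :=
  cancel_of_isUnit (by rw [map_pow]; exact h.pow n) hx

theorem cancel_pow_of_inj {r : R} (h : ∀ x : N, r • x = 0 → x = 0) (n : ℕ) {x : N}
    (hx : r ^ n • x = 0) : x = 0 := by
  induction n with
  | zero => simpa using hx
  | succ n ih =>
    apply ih
    apply h
    rw [smul_smul, ← pow_succ']
    exact hx

theorem loc_eq_zero (f : R) (g : M →ₗ[R] N) [IsLocalizedModule (Submonoid.powers f) g] {x : M}
    (hx : g x = 0) : ∃ n : ℕ, f ^ n • x = 0 := by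
  obtain ⟨⟨_, n, rfl⟩, h⟩ := (IsLocalizedModule.eq_zero_iff (Submonoid.powers f) g).mp hx
  exact ⟨n, h⟩

theorem loc_surj (f : R) (g : M →ₗ[R] N) [IsLocalizedModule (Submonoid.powers f) g] (y : N) :
    ∃ (n : ℕ) (x : M), f ^ n • y = g x := by
  obtain ⟨⟨x, ⟨_, n, rfl⟩⟩, h⟩ := IsLocalizedModule.surj (Submonoid.powers f) g y
  exact ⟨n, x, h⟩

theorem loc_unit (f : R) (g : M →ₗ[R] N) [IsLocalizedModule (Submonoid.powers f) g] :
    IsUnit (algebraMap R (Module.End R N) f) :=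
  IsLocalizedModule.map_units g ⟨f, Submonoid.mem_powers f⟩

theorem loc_cancel_other (f r : R) (g : M →ₗ[R] N) [IsLocalizedModule (Submonoid.powers f) g]
    (hr : ∀ x : M, r • x = 0 → x = 0) {y : N} (hy : r • y = 0) : y = 0 := by
  obtain ⟨a, m, ha⟩ := loc_surj f g y
  have h1 : g (r • m) = 0 := by rw [map_smul, ← ha, smul_comm, hy, smul_zero]
  obtain ⟨N', hN⟩ := loc_eq_zero f g h1
  have h2 : f ^ N' • m = 0 := hr _ (by rw [smul_comm]; exact hN)
  have h3 : g m = 0 := cancel_pow_of_isUnit (loc_unit f g) N' (by rw [← map_smul, h2, map_zero])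
  exact cancel_pow_of_isUnit (loc_unit f g) a (by rw [ha, h3])

theorem ker_u (fa fb : R) (g : M →ₗ[R] N) [IsLocalizedModule (Submonoid.powers fa) g]
    {T : Type*} [AddCommGroup T] [Module R T] (t : M →ₗ[R] T)
    [IsLocalizedModule (Submonoid.powers (fa * fb)) t] (u : N →ₗ[R] T) (hu : u ∘ₗ g = t) {x : N}
    (hx : u x = 0) : ∃ n : ℕ, fb ^ n • x = 0 := by
  obtain ⟨a, m, ha⟩ := loc_surj fa g x
  have h1 : t m = 0 := by
    rw [← hu, LinearMap.comp_apply, ← ha, map_smul, hx, smul_zero]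
  obtain ⟨n, hn⟩ := loc_eq_zero (fa * fb) t h1
  refine ⟨n, ?_⟩
  apply cancel_pow_of_isUnit (loc_unit fa g) (n + a)
  have : fa ^ (n + a) • fb ^ n • x = g ((fa * fb) ^ n • m) := by
    rw [map_smul, ← ha, smul_smul, smul_smul]
    congr 1
    rw [mul_pow, pow_add]; ring
  rw [this, hn, map_zero]
end gen

section main
variable {R : Type u} [CommRing R] {ι : Type u} (f : ι → R)
    (Mi : ι → Type u) [∀ i, AddCommGroup (Mi i)] [∀ i, Module R (Mi i)]
    (hMi : ∀ i, IsUnit (algebraMap R (Module.End R (Mi i)) (f i)))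
    (Mij : ι → ι → Type u) [∀ i j, AddCommGroup (Mij i j)] [∀ i j, Module R (Mij i j)]
    (g : ∀ i j, Mi i →ₗ[R] Mij i j) [∀ i j, IsLocalizedModule (Submonoid.powers (f j)) (g i j)]
    (ψ : ∀ i j, Mij i j ≃ₗ[R] Mij j i)
    (T : ι → ι → ι → Type u) [∀ i j k, AddCommGroup (T i j k)] [∀ i j k, Module R (T i j k)]
    (t : ∀ i j k, Mi i →ₗ[R] T i j k) [∀ i j k, IsLocalizedModule (Submonoid.powers (f j * f k)) (t i j k)]
    (u : ∀ i j k, Mij i j →ₗ[R] T i j k) (hu : ∀ i j k, u i j k ∘ₗ g i j = t i j k)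
    (v : ∀ i j k, Mij i k →ₗ[R] T i j k) (hv : ∀ i j k, v i j k ∘ₗ g i k = t i j k)
    (Ψ₁ : ∀ i j k, T i j k →ₗ[R] T j i k) (hΨ₁ : ∀ i j k, Ψ₁ i j k ∘ₗ u i j k = u j i k ∘ₗ (ψ i j).toLinearMap)
    (Ψ₂ : ∀ i j k, T j i k →ₗ[R] T k i j) (hΨ₂ : ∀ i j k, Ψ₂ i j k ∘ₗ v j i k = v k i j ∘ₗ (ψ j k).toLinearMap)
    (Ψ₃ : ∀ i j k, T i j k →ₗ[R] T k i j) (hΨ₃ : ∀ i j k, Ψ₃ i j k ∘ₗ v i j k = u k i j ∘ₗ (ψ i k).toLinearMap)
    (hcoc : ∀ i j k, Ψ₂ i j k ∘ₗ Ψ₁ i j k = Ψ₃ i j k)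

include hu hv hΨ₁ hΨ₂ hΨ₃ hcoc in
theorem elem_cocycle (a b c : ι) (ma : Mi a) (mb : Mi b) (mc : Mi c)
    (h1 : ψ a b (g a b ma) = g b a mb) (h2 : ψ b c (g b c mb) = g c b mc) :
    ∃ n : ℕ, f b ^ n • (ψ a c (g a c ma) - g c a mc) = 0 := by
  have hu' : ∀ i j k x, u i j k (g i j x) = t i j k x := fun i j k x => LinearMap.congr_fun (hu i j k) x
  have hv' : ∀ i j k x, v i j k (g i k x) = t i j k x := fun i j k x => LinearMap.congr_fun (hv i j k) x
  have h1' : ∀ i j k x, Ψ₁ i j k (u i j k x) = u j i k (ψ i j x) :=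
    fun i j k x => LinearMap.congr_fun (hΨ₁ i j k) x
  have h2' : ∀ i j k x, Ψ₂ i j k (v j i k x) = v k i j (ψ j k x) :=
    fun i j k x => LinearMap.congr_fun (hΨ₂ i j k) x
  have h3' : ∀ i j k x, Ψ₃ i j k (v i j k x) = u k i j (ψ i k x) :=
    fun i j k x => LinearMap.congr_fun (hΨ₃ i j k) x
  have hc' : ∀ i j k x, Ψ₂ i j k (Ψ₁ i j k x) = Ψ₃ i j k x :=
    fun i j k x => LinearMap.congr_fun (hcoc i j k) x
  apply ker_u (f a) (f b) (g c a) (t c a b) (u c a b) (hu c a b)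
  rw [map_sub, sub_eq_zero]
  calc u c a b (ψ a c (g a c ma)) = Ψ₃ a b c (v a b c (g a c ma)) := (h3' a b c _).symm
    _ = Ψ₃ a b c (t a b c ma) := by rw [hv']
    _ = Ψ₂ a b c (Ψ₁ a b c (t a b c ma)) := (hc' a b c _).symm
    _ = Ψ₂ a b c (Ψ₁ a b c (u a b c (g a b ma))) := by rw [hu']
    _ = Ψ₂ a b c (u b a c (ψ a b (g a b ma))) := by rw [h1']
    _ = Ψ₂ a b c (t b a c mb) := by rw [h1, hu']
    _ = Ψ₂ a b c (v b a c (g b c mb)) := by rw [hv']
    _ = v c a b (ψ b c (g b c mb)) := by rw [h2']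
    _ = t c a b mc := by rw [h2, hv']
    _ = u c a b (g c a mc) := by rw [hu']

include hMi in
theorem g_self_injective (i : ι) {x : Mi i} (hx : g i i x = 0) : x = 0 := by
  obtain ⟨n, hn⟩ := loc_eq_zero (f i) (g i i) hx
  exact cancel_pow_of_isUnit (hMi i) n hn

include hMi in
theorem g_self_surjective (i : ι) (y : Mij i i) : ∃ x : Mi i, g i i x = y := by
  obtain ⟨n, m, hm⟩ := loc_surj (f i) (g i i) y
  have hun : IsUnit (algebraMap R (Module.End R (Mi i)) (f i ^ n)) := by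
    rw [map_pow]; exact (hMi i).pow n
  obtain ⟨m', hm'⟩ := ((Module.End.isUnit_iff _).mp hun).2 m
  have hm'' : f i ^ n • m' = m := hm'
  refine ⟨m', ?_⟩
  have : f i ^ n • (g i i m' - y) = 0 := by
    rw [smul_sub, ← map_smul, hm'', hm, sub_self]
  have := cancel_pow_of_isUnit (loc_unit (f i) (g i i)) n this
  exact sub_eq_zero.mp this

include hMi hu hv hΨ₁ hΨ₂ hΨ₃ hcoc in
theorem psi_self (i : ι) (x : Mij i i) : ψ i i x = x := by
  obtain ⟨m, rfl⟩ := g_self_surjective f Mi hMi Mij g i x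
  obtain ⟨m', hm'⟩ := g_self_surjective f Mi hMi Mij g i (ψ i i (g i i m))
  obtain ⟨m'', hm''⟩ := g_self_surjective f Mi hMi Mij g i (ψ i i (g i i m'))
  obtain ⟨n, hn⟩ := elem_cocycle f Mi Mij g ψ T t u hu v hv Ψ₁ hΨ₁ Ψ₂ hΨ₂ Ψ₃ hΨ₃ hcoc i i i m m' m''
    hm'.symm hm''.symm
  have h1 := cancel_pow_of_isUnit (loc_unit (f i) (g i i)) n hn
  rw [sub_eq_zero] at h1
  -- ψ (g m) = g m'' = ψ (g m') = ψ (ψ (g m))
  have h2 : ψ i i (g i i m) = ψ i i (ψ i i (g i i m)) := by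
    calc ψ i i (g i i m) = g i i m'' := h1
      _ = ψ i i (g i i m') := hm''
      _ = ψ i i (ψ i i (g i i m)) := by rw [hm']
  exact ((ψ i i).injective h2).symm

include hMi hu hv hΨ₁ hΨ₂ hΨ₃ hcoc in
theorem psi_psi (i j : ι) (x : Mij i j) : ψ j i (ψ i j x) = x := by
  have hfi : ∀ y : Mij i j, f i • y = 0 → y = 0 := fun y hy =>
    loc_cancel_other (f j) (f i) (g i j) (fun x hx => cancel_of_isUnit (hMi i) hx) hy
  suffices H : (ψ j i).toLinearMap ∘ₗ (ψ i j).toLinearMap = LinearMap.id from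
    LinearMap.congr_fun H x
  apply IsLocalizedModule.ext (Submonoid.powers (f j)) (g i j)
    (fun s => IsLocalizedModule.map_units (g i j) s)
  ext m
  simp only [LinearMap.comp_apply, LinearEquiv.coe_coe, LinearMap.id_apply]
  set z := ψ i j (g i j m) with hz
  obtain ⟨n, a, ha⟩ := loc_surj (f i) (g j i) z
  obtain ⟨n', c, hc⟩ := loc_surj (f j) (g i j) (ψ j i (g j i a))
  have h1 : ψ i j (g i j (f j ^ n' • f i ^ n • m)) = g j i (f j ^ n' • a) := by
    rw [map_smul, map_smul, map_smul, map_smul, map_smul, ← hz, ha]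
  have h2 : ψ j i (g j i (f j ^ n' • a)) = g i j c := by
    rw [map_smul, map_smul, hc]
  obtain ⟨N, hN⟩ := elem_cocycle f Mi Mij g ψ T t u hu v hv Ψ₁ hΨ₁ Ψ₂ hΨ₂ Ψ₃ hΨ₃ hcoc i j i _ _ _ h1 h2
  rw [psi_self f Mi hMi Mij g ψ T t u hu v hv Ψ₁ hΨ₁ Ψ₂ hΨ₂ Ψ₃ hΨ₃ hcoc, ← map_sub, ← map_smul] at hN
  have h3 := g_self_injective f Mi hMi Mij g i hN
  have h4 : g i j (f j ^ n' • f i ^ n • m) = g i j c := by
    have : f j ^ N • (g i j (f j ^ n' • f i ^ n • m) - g i j c) = 0 := by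
      rw [← map_sub, ← map_smul, h3, map_zero]
    exact sub_eq_zero.mp (cancel_pow_of_isUnit (loc_unit (f j) (g i j)) N this)
  have h5 : f j ^ n' • f i ^ n • (ψ j i z - g i j m) = 0 := by
    rw [smul_sub, smul_sub, ← map_smul, ← map_smul (g i j), ← map_smul (g i j), h4, ← hc, ha, sub_self]
  have h6 := cancel_pow_of_isUnit (loc_unit (f j) (g i j)) n' h5
  have h7 := cancel_pow_of_inj hfi n h6
  exact sub_eq_zero.mp h7
end main

/-- Let R be a ring and f_i, i in a finite index set, elements of R (no condition on the ideal they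
generate). Suppose given for each i an R-module M_i on which f_i acts invertibly, for each pair (i,
j) an R-linear isomorphism ψ_ij : (M_i)_{f_j} → (M_j)_{f_i}, and suppose the cocycle condition ψ_jk
∘ ψ_ij = ψ_ik holds as maps (M_i)_{f_j f_k} → (M_k)_{f_i f_j} for all triples (i, j, k). All
localizations are given through their universal properties: (M_i)_{f_j} with its map g from M_i;
(M_i)_{f_j f_k} with its map t from M_i and the compatible maps u from (M_i)_{f_j} and v from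
(M_i)_{f_k}; and the three localized isomorphisms Ψ₁ (ψ_ij on (M_i)_{f_j f_k}), Ψ₂ (ψ_jk on
(M_j)_{f_i f_k}) and Ψ₃ (ψ_ik on (M_i)_{f_j f_k}) are given as maps compatible with the ψ's. Let M ⊆
Π_i M_i be the submodule of families (m_i) with m_i/1 = ψ_ji(m_j/1) in (M_i)_{f_j} for all i, j.
Then for each i the projection M → M_i exhibits M_i as the localization of M at f_i. -/
theorem result {R : Type u} [CommRing R] {ι : Type u} [Finite ι] (f : ι → R)
    (Mi : ι → Type u) [∀ i, AddCommGroup (Mi i)] [∀ i, Module R (Mi i)]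
    (hMi : ∀ i, IsUnit (algebraMap R (Module.End R (Mi i)) (f i)))
    (Mij : ι → ι → Type u) [∀ i j, AddCommGroup (Mij i j)] [∀ i j, Module R (Mij i j)]
    (g : ∀ i j, Mi i →ₗ[R] Mij i j) [∀ i j, IsLocalizedModule (Submonoid.powers (f j)) (g i j)]
    (ψ : ∀ i j, Mij i j ≃ₗ[R] Mij j i)
    (T : ι → ι → ι → Type u) [∀ i j k, AddCommGroup (T i j k)] [∀ i j k, Module R (T i j k)]
    (t : ∀ i j k, Mi i →ₗ[R] T i j k) [∀ i j k, IsLocalizedModule (Submonoid.powers (f j * f k)) (t i j k)]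
    (u : ∀ i j k, Mij i j →ₗ[R] T i j k) (hu : ∀ i j k, u i j k ∘ₗ g i j = t i j k)
    (v : ∀ i j k, Mij i k →ₗ[R] T i j k) (hv : ∀ i j k, v i j k ∘ₗ g i k = t i j k)
    (Ψ₁ : ∀ i j k, T i j k →ₗ[R] T j i k) (hΨ₁ : ∀ i j k, Ψ₁ i j k ∘ₗ u i j k = u j i k ∘ₗ (ψ i j).toLinearMap)
    (Ψ₂ : ∀ i j k, T j i k →ₗ[R] T k i j) (hΨ₂ : ∀ i j k, Ψ₂ i j k ∘ₗ v j i k = v k i j ∘ₗ (ψ j k).toLinearMap)
    (Ψ₃ : ∀ i j k, T i j k →ₗ[R] T k i j) (hΨ₃ : ∀ i j k, Ψ₃ i j k ∘ₗ v i j k = u k i j ∘ₗ (ψ i k).toLinearMap)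
    (hcoc : ∀ i j k, Ψ₂ i j k ∘ₗ Ψ₁ i j k = Ψ₃ i j k)
    (M : Submodule R (∀ i, Mi i)) (hM : ∀ m : ∀ i, Mi i, m ∈ M ↔ ∀ i j, g i j (m i) = ψ j i (g j i (m j))) (i : ι) :
    IsLocalizedModule (Submonoid.powers (f i)) ((LinearMap.proj i).comp M.subtype : ↥M →ₗ[R] Mi i) := by
  cases nonempty_fintype ι
  classical
  have sym : ∀ a b (x : Mij a b), ψ b a (ψ a b x) = x :=
    psi_psi f Mi hMi Mij g ψ T t u hu v hv Ψ₁ hΨ₁ Ψ₂ hΨ₂ Ψ₃ hΨ₃ hcoc
  have selfid : ∀ a (x : Mij a a), ψ a a x = x :=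
    psi_self f Mi hMi Mij g ψ T t u hu v hv Ψ₁ hΨ₁ Ψ₂ hΨ₂ Ψ₃ hΨ₃ hcoc
  have coc := elem_cocycle f Mi Mij g ψ T t u hu v hv Ψ₁ hΨ₁ Ψ₂ hΨ₂ Ψ₃ hΨ₃ hcoc
  have pow_split : ∀ (a b : ℕ), a ≤ b → ∀ {N : Type u} [AddCommGroup N] [Module R N] (x : N),
      f i ^ b • x = f i ^ (b - a) • f i ^ a • x := by
    intro a b hab N _ _ x
    rw [smul_smul, ← pow_add, Nat.sub_add_cancel hab]
  constructor
  · rintro ⟨_, n, rfl⟩
    show IsUnit (algebraMap R (Module.End R (Mi i)) (f i ^ n))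
    rw [map_pow]; exact (hMi i).pow n
  · intro y
    choose n a ha using fun j => loc_surj (f i) (g j i) (ψ i j (g i j y))
    set n₀ := Finset.univ.sup n with hn₀
    set y' := f i ^ n₀ • y with hy'
    obtain ⟨b, hbdef⟩ : ∃ b : ∀ j, Mi j, ∀ j, b j = f i ^ (n₀ - n j) • a j := ⟨_, fun _ => rfl⟩
    have hb : ∀ j, ψ i j (g i j y') = g j i (b j) := by
      intro j
      have hle : n j ≤ n₀ := Finset.le_sup (Finset.mem_univ j)
      rw [hbdef, hy', map_smul, map_smul, pow_split (n j) n₀ hle, ha j, map_smul]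
    have hb' : ∀ j, ψ j i (g j i (b j)) = g i j y' := by
      intro j; rw [← hb, sym]
    choose N hN using fun j k => coc j i k (b j) y' (b k) (hb' j) (hb k)
    set N₀ := Finset.univ.sup (fun j => Finset.univ.sup (N j)) with hN₀
    obtain ⟨m, hmdef⟩ : ∃ m : ∀ j, Mi j, ∀ j, m j = f i ^ N₀ • b j := ⟨_, fun _ => rfl⟩
    have hNle : ∀ j k, N j k ≤ N₀ := fun j k =>
      (Finset.le_sup (f := N j) (Finset.mem_univ k)).trans
        (Finset.le_sup (f := fun j => Finset.univ.sup (N j)) (Finset.mem_univ j))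
    have hm : m ∈ M := by
      rw [hM]
      intro a' b'
      have h1 : f i ^ N₀ • (ψ b' a' (g b' a' (b b')) - g a' b' (b a')) = 0 := by
        rw [pow_split (N b' a') N₀ (hNle b' a'), hN b' a', smul_zero]
      rw [hmdef, hmdef, map_smul, map_smul, map_smul]
      rw [smul_sub, sub_eq_zero] at h1
      exact h1.symm
    have hbi : b i = y' := by
      have h1 := hb i
      rw [selfid] at h1
      have h2 : g i i (y' - b i) = 0 := by rw [map_sub, h1, sub_self]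
      have := g_self_injective f Mi hMi Mij g i h2
      exact (sub_eq_zero.mp this).symm
    refine ⟨(⟨m, hm⟩, ⟨f i ^ (N₀ + n₀), N₀ + n₀, rfl⟩), ?_⟩
    show f i ^ (N₀ + n₀) • y = m i
    rw [hmdef, hbi, hy', smul_smul, ← pow_add]
  · intro x₁ x₂ hx
    have hx' : (x₁ : ∀ j, Mi j) i = (x₂ : ∀ j, Mi j) i := hx
    have h1 := (hM x₁).mp x₁.2
    have h2 := (hM x₂).mp x₂.2
    have h3 : ∀ j, g j i ((x₁ : ∀ j, Mi j) j - (x₂ : ∀ j, Mi j) j) = 0 := by
      intro j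
      rw [map_sub, h1 j i, h2 j i, hx', sub_self]
    choose n hn using fun j => loc_eq_zero (f i) (g j i) (h3 j)
    set n₀ := Finset.univ.sup n with hn₀
    refine ⟨⟨f i ^ n₀, n₀, rfl⟩, ?_⟩
    apply Subtype.ext
    funext j
    show f i ^ n₀ • (x₁ : ∀ j, Mi j) j = f i ^ n₀ • (x₂ : ∀ j, Mi j) j
    have hle : n j ≤ n₀ := Finset.le_sup (Finset.mem_univ j)
    have : f i ^ n₀ • ((x₁ : ∀ j, Mi j) j - (x₂ : ∀ j, Mi j) j) = 0 := by
      rw [pow_split (n j) n₀ hle, hn j, smul_zero]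
    rw [smul_sub, sub_eq_zero] at this
    exact this

end Groth.Agent.S9663
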