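import Groth.Statements.S9664
import Groth.Agent.Lib.Helper5.FlatCA.FiberAss

set_option autoImplicit false
universe u
open CAlg

namespace Groth.Agent.S9664

/-- Let R → S be a ring map, N an S-module, q a prime of S and p the prime of R below q; an associated
prime of a module is a prime ideal equal to the annihilator of some element. Then q is an associated
prime of the S-module N ⊗_R κ(p) (the fibre module of N over p, an S-module by restriction of
scalars along S → S ⊗_R κ(p)) if and only if q is the inverse image in S of an associated prime of N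
⊗_R κ(p) regarded as a module over the fibre ring S ⊗_R κ(p). -/
theorem result {R S : Type u} [CommRing R] [CommRing S] [Algebra R S] (N : Type u) [AddCommGroup N] [Module S N] [Module R N] [IsScalarTower R S N]
    (p : Ideal R) [p.IsPrime] (q : Ideal S) [q.IsPrime] (hq : q.comap (algebraMap R S) = p) :
    q ∈ FlatCA.ass S (FlatCA.fiberMod p S N) ↔
      ∃ Q ∈ FlatCA.ass (p.Fiber S) (FlatCA.fiberMod p S N),
        Q.comap (Algebra.TensorProduct.includeRight (R := R) (A := p.ResidueField) (B := S)).toRingHom = q := by
  constructor
  · rintro ⟨_, m, hm⟩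
    have key : ∀ s : S, s ∈ q ↔ ((1 : p.ResidueField) ⊗ₜ[R] s : p.Fiber S) • m = 0 := by
      intro s
      rw [hm, Submodule.mem_annihilator_span_singleton, H5FiberAss.smul_eq]
    have hcomap : (Submodule.span (p.Fiber S) {m}).annihilator.comap
        (Algebra.TensorProduct.includeRight (R := R) (A := p.ResidueField) (B := S)).toRingHom = q := by
      ext s
      rw [Ideal.mem_comap, Submodule.mem_annihilator_span_singleton, key]
      rfl
    refine ⟨(Submodule.span (p.Fiber S) {m}).annihilator, ⟨?_, m, rfl⟩, hcomap⟩
    constructor
    · intro h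
      have h1 : (1 : p.Fiber S) ∈ (Submodule.span (p.Fiber S) {m}).annihilator := by rw [h]; trivial
      have : (1 : S) ∈ q := by
        rw [key]
        rw [Submodule.mem_annihilator_span_singleton] at h1
        exact h1
      exact (Ideal.IsPrime.ne_top ‹q.IsPrime›) ((Ideal.eq_top_iff_one _).2 this)
    · intro x y hxy
      obtain ⟨r, hr, s, e⟩ := Ideal.Fiber.exists_smul_eq_one_tmul p x
      obtain ⟨r', hr', s', e'⟩ := Ideal.Fiber.exists_smul_eq_one_tmul p y
      rw [Submodule.mem_annihilator_span_singleton] at hxy
      have h1 : ((1 : p.ResidueField) ⊗ₜ[R] (s * s') : p.Fiber S) • m = 0 := by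
        have : ((1 : p.ResidueField) ⊗ₜ[R] (s * s') : p.Fiber S) = (r • x) * (r' • y) := by
          rw [e, e', Algebra.TensorProduct.tmul_mul_tmul, one_mul]
        have h2 : (r • x) * (r' • y) = r • (r' • (x * y)) := by
          rw [smul_mul_smul_comm, mul_smul]
        rw [this, h2,
          H5FiberAss.fiber_smul_eq_zero_iff N p hr, H5FiberAss.fiber_smul_eq_zero_iff N p hr', hxy]
      rw [← key] at h1
      rcases Ideal.IsPrime.mem_or_mem ‹q.IsPrime› h1 with h | h
      · left
        rw [Submodule.mem_annihilator_span_singleton]
        rw [key, ← e, H5FiberAss.fiber_smul_eq_zero_iff N p hr] at h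
        exact h
      · right
        rw [Submodule.mem_annihilator_span_singleton]
        rw [key, ← e', H5FiberAss.fiber_smul_eq_zero_iff N p hr'] at h
        exact h
  · rintro ⟨Q, ⟨_, m, hm⟩, hQ⟩
    refine ⟨‹q.IsPrime›, m, ?_⟩
    ext s
    rw [← hQ, Ideal.mem_comap, hm, Submodule.mem_annihilator_span_singleton,
      Submodule.mem_annihilator_span_singleton, H5FiberAss.smul_eq]
    rfl

end Groth.Agent.S9664
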