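import Groth.Statements.S9665
import Groth.Agent.Lib.Helper5.FlatCA.FiberAss

set_option autoImplicit false
universe u
open CAlg

namespace Groth.Agent.S9665

/-- Part (2): (A_fin ⊆ A): let R → S be a ring map, N an S-module, q a prime of S and p the prime of R
below q; an associated prime of a module is a prime ideal equal to the annihilator of some element.
If q is an associated prime of the S-module N/pN, then q is an associated prime of the S-module N
⊗_R κ(p) (the fibre module over p, an S-module by restriction of scalars). -/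
theorem result {R S : Type u} [CommRing R] [CommRing S] [Algebra R S] (N : Type u) [AddCommGroup N] [Module S N] [Module R N] [IsScalarTower R S N]
    (p : Ideal R) [p.IsPrime] (q : Ideal S) [q.IsPrime] (hq : q.comap (algebraMap R S) = p)
    (h : q ∈ FlatCA.ass S (N ⧸ (p.map (algebraMap R S)) • (⊤ : Submodule S N))) :
    q ∈ FlatCA.ass S (FlatCA.fiberMod p S N) := by
  obtain ⟨_, nbar, hn⟩ := h
  obtain ⟨n, rfl⟩ := Submodule.Quotient.mk_surjective _ nbar
  refine ⟨‹q.IsPrime›, FlatCA.toFiberMod p S N n, ?_⟩
  have key : ∀ s : S, s ∈ q ↔ s • n ∈ (p.map (algebraMap R S)) • (⊤ : Submodule S N) := by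
    intro s
    rw [hn, Submodule.mem_annihilator_span_singleton, ← Submodule.Quotient.mk_smul,
      Submodule.Quotient.mk_eq_zero]
  ext s
  rw [Submodule.mem_annihilator_span_singleton, ← map_smul, H5FiberAss.toFiberMod_eq_zero_iff]
  constructor
  · intro hs
    refine ⟨1, fun h1 => (Ideal.IsPrime.ne_top ‹p.IsPrime›) ((Ideal.eq_top_iff_one _).2 h1), ?_⟩
    rw [one_smul]
    exact (key s).1 hs
  · rintro ⟨r, hr, h⟩
    rw [← algebraMap_smul S r, smul_smul, ← key] at h
    rcases Ideal.IsPrime.mem_or_mem ‹q.IsPrime› h with h | h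
    · exact absurd (hq ▸ (Ideal.mem_comap.2 h) : r ∈ p) hr
    · exact h

end Groth.Agent.S9665
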