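import Groth.Statements.S9666
import Groth.Agent.Lib.Helper5.FlatCA.FiberAss

set_option autoImplicit false
universe u
open CAlg

namespace Groth.Agent.S9666

/-- Part (3): (A ⊆ A_fin): let R → S be a ring map with S Noetherian, N an S-module, q a prime of S and
p the prime of R below q; an associated prime of a module is a prime ideal equal to the annihilator
of some element. If q is an associated prime of the S-module N ⊗_R κ(p) (the fibre module over p, an
S-module by restriction of scalars), then q is an associated prime of the S-module N/pN. -/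
theorem result {R S : Type u} [CommRing R] [CommRing S] [Algebra R S] (N : Type u) [AddCommGroup N] [Module S N] [Module R N] [IsScalarTower R S N] [IsNoetherianRing S]
    (p : Ideal R) [p.IsPrime] (q : Ideal S) [q.IsPrime] (hq : q.comap (algebraMap R S) = p)
    (h : q ∈ FlatCA.ass S (FlatCA.fiberMod p S N)) :
    q ∈ FlatCA.ass S (N ⧸ (p.map (algebraMap R S)) • (⊤ : Submodule S N)) := by
  classical
  obtain ⟨_, m, hm⟩ := h
  obtain ⟨r0, hr0, n0, e0⟩ := H5FiberAss.exists_smul_eq_toFiberMod N p m
  have key : ∀ s : S, s ∈ q ↔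
      ∃ r ∉ p, r • s • n0 ∈ (p.map (algebraMap R S)) • (⊤ : Submodule S N) := by
    intro s
    rw [hm, Submodule.mem_annihilator_span_singleton, ← H5FiberAss.smul_smul_eq_zero_iff N p hr0,
      e0, ← map_smul, H5FiberAss.toFiberMod_eq_zero_iff]
  have hnotq : ∀ r : R, r ∉ p → algebraMap R S r ∉ q := by
    intro r hr h
    exact hr (hq ▸ (Ideal.mem_comap.2 h))
  obtain ⟨T, hT⟩ := (isNoetherianRing_iff_ideal_fg S).1 inferInstance q
  have hex : ∀ t ∈ T, ∃ r ∉ p, r • t • n0 ∈ (p.map (algebraMap R S)) • (⊤ : Submodule S N) := by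
    intro t ht
    exact (key t).1 (hT ▸ Ideal.subset_span ht)
  choose! f hf1 hf2 using hex
  set r := ∏ t ∈ T, f t with hr
  have hrp : r ∉ p := by
    rw [hr, Ideal.IsPrime.prod_mem_iff]
    rintro ⟨t, ht, h⟩
    exact hf1 t ht h
  have hrT : ∀ t ∈ T, r • t • n0 ∈ (p.map (algebraMap R S)) • (⊤ : Submodule S N) := by
    intro t ht
    rw [hr, ← Finset.mul_prod_erase T f ht, mul_comm, mul_smul]
    exact Submodule.smul_of_tower_mem _ _ (hf2 t ht)
  refine ⟨‹q.IsPrime›, Submodule.Quotient.mk (r • n0), ?_⟩
  apply le_antisymm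
  · rw [← hT, Ideal.span_le]
    intro t ht
    rw [SetLike.mem_coe, Submodule.mem_annihilator_span_singleton, ← Submodule.Quotient.mk_smul,
      Submodule.Quotient.mk_eq_zero, smul_comm]
    exact hrT t ht
  · intro s hs
    rw [Submodule.mem_annihilator_span_singleton, ← Submodule.Quotient.mk_smul,
      Submodule.Quotient.mk_eq_zero] at hs
    have h1 : s * algebraMap R S r ∈ q := by
      rw [key]
      refine ⟨1, fun h1 => (Ideal.IsPrime.ne_top ‹p.IsPrime›) ((Ideal.eq_top_iff_one _).2 h1), ?_⟩
      rw [one_smul, mul_smul, algebraMap_smul]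
      exact hs
    rcases Ideal.IsPrime.mem_or_mem ‹q.IsPrime› h1 with h | h
    · exact h
    · exact absurd h (hnotq r hrp)

end Groth.Agent.S9666
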