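import Groth.Statements.S9669
import Groth.Agent.Lib.Helper5.FlatCA.FiberAssFlat

set_option autoImplicit false
universe u
open CAlg

namespace Groth.Agent.S9669

/-- Part (4): (A = A_fin = A'_fin): let R → S be a ring map, N an S-module flat over R and p a prime of
R; an associated prime of a module is a prime ideal equal to the annihilator of some element. Then
the set of associated primes of the S-module N/pN equals the set of associated primes of the
S-module N ⊗_R κ(p) (the fibre module over p, an S-module by restriction of scalars), and every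
prime in this set lies over p. -/
theorem result {R S : Type u} [CommRing R] [CommRing S] [Algebra R S] (N : Type u) [AddCommGroup N] [Module S N] [Module R N] [IsScalarTower R S N] [Module.Flat R N] (p : Ideal R) [p.IsPrime] :
    FlatCA.ass S (N ⧸ (p.map (algebraMap R S)) • (⊤ : Submodule S N)) = FlatCA.ass S (FlatCA.fiberMod p S N) ∧
      ∀ q ∈ FlatCA.ass S (N ⧸ (p.map (algebraMap R S)) • (⊤ : Submodule S N)), q.comap (algebraMap R S) = p := by
  have key : ∀ (n : N) (s : S), s • FlatCA.toFiberMod p S N n = 0 ↔
      s ∈ (Submodule.span S {(Submodule.Quotient.mk n :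
        N ⧸ (p.map (algebraMap R S)) • (⊤ : Submodule S N))}).annihilator := by
    intro n s
    rw [← map_smul, H5FiberAss.toFiberMod_eq_zero_iff_of_flat,
      Submodule.mem_annihilator_span_singleton, ← Submodule.Quotient.mk_smul,
      Submodule.Quotient.mk_eq_zero]
  refine ⟨?_, ?_⟩
  · ext q
    constructor
    · rintro ⟨hq, nbar, hn⟩
      obtain ⟨n, rfl⟩ := Submodule.Quotient.mk_surjective _ nbar
      refine ⟨hq, FlatCA.toFiberMod p S N n, ?_⟩
      ext s
      rw [Submodule.mem_annihilator_span_singleton, key, hn]
    · rintro ⟨hq, m, hm⟩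
      obtain ⟨r0, hr0, n0, e0⟩ := H5FiberAss.exists_smul_eq_toFiberMod N p m
      refine ⟨hq, Submodule.Quotient.mk n0, ?_⟩
      ext s
      rw [← key, ← e0, H5FiberAss.smul_smul_eq_zero_iff N p hr0, hm,
        Submodule.mem_annihilator_span_singleton]
  · rintro q ⟨hq, nbar, hn⟩
    obtain ⟨n, rfl⟩ := Submodule.Quotient.mk_surjective _ nbar
    ext r
    rw [Ideal.mem_comap, hn, Submodule.mem_annihilator_span_singleton, ← Submodule.Quotient.mk_smul,
      Submodule.Quotient.mk_eq_zero, algebraMap_smul]
    constructor
    · intro h
      by_contra hr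
      have h1 := H5FiberAss.mem_of_smul_mem_of_flat N p hr h
      apply hq.ne_top
      rw [hn, Ideal.eq_top_iff_one, Submodule.mem_annihilator_span_singleton, one_smul,
        Submodule.Quotient.mk_eq_zero]
      exact h1
    · intro hr
      rw [← algebraMap_smul S r n]
      exact Submodule.smul_mem_smul (Ideal.mem_map_of_mem _ hr) trivial

end Groth.Agent.S9669
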