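import Groth.Statements.S9671
import Mathlib
import Groth.Agent.Lib.Helper1.ReesSub

set_option autoImplicit false
universe u
open CAlg

namespace Groth.Agent.S9671

open Groth.Agent.H1.ReesSub in
theorem fst_eq_zero_of_mem_pow {R R' : Type u} [CommRing R] [CommRing R'] [Algebra R R']
    (F : Submodule R (R × R')) (hF : ∀ b ∈ F, b.1 = 0) (d : ℕ) (hd : 0 < d) :
    ∀ b ∈ F ^ d, b.1 = 0 := by
  obtain ⟨k, rfl⟩ : ∃ k, d = k + 1 := ⟨d - 1, by omega⟩
  intro b hb
  rw [pow_succ] at hb
  refine Submodule.mul_induction_on hb ?_ ?_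
  · intro m _ n hn
    rw [Prod.fst_mul, hF n hn, mul_zero]
  · intro x y hx hy
    rw [Prod.fst_add, hx, hy, add_zero]

theorem exists_mem_pow {R R' : Type u} [CommRing R] [CommRing R'] [Algebra R R']
    (F : Submodule R (R × R')) (s₁ : Set R') (hs₁ : Algebra.adjoin R s₁ = ⊤)
    (h1 : ((0 : R), (1 : R')) ∈ F) (hx : ∀ x ∈ s₁, ((0 : R), x) ∈ F) (c : R') :
    ∃ d : ℕ, 0 < d ∧ ((0 : R), c) ∈ F ^ d := by
  have up : ∀ (c : R') (d k : ℕ), ((0 : R), c) ∈ F ^ d → ((0 : R), c) ∈ F ^ (d + k) := by
    intro c d k h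
    induction k with
    | zero => exact h
    | succ k ih =>
      rw [← add_assoc, pow_succ]
      have : ((0 : R), c) = ((0 : R), c) * ((0 : R), (1 : R')) := by
        ext <;> simp
      rw [this]
      exact Submodule.mul_mem_mul ih h1
  have hc : c ∈ Algebra.adjoin R s₁ := by rw [hs₁]; trivial
  induction hc using Algebra.adjoin_induction with
  | mem x hx' => exact ⟨1, one_pos, by rw [pow_one]; exact hx x hx'⟩
  | algebraMap r =>
    refine ⟨1, one_pos, ?_⟩
    rw [pow_one]
    have : ((0 : R), algebraMap R R' r) = r • ((0 : R), (1 : R')) := by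
      ext <;> simp [Algebra.smul_def]
    rw [this]
    exact Submodule.smul_mem _ _ h1
  | add x y _ _ hx' hy' =>
    obtain ⟨d, hd, h⟩ := hx'
    obtain ⟨e, he, h'⟩ := hy'
    refine ⟨d + e, by omega, ?_⟩
    have : ((0 : R), x + y) = ((0 : R), x) + ((0 : R), y) := by ext <;> simp
    rw [this]
    refine Submodule.add_mem _ (up x d e h) ?_
    rw [add_comm]; exact up y e d h'
  | mul x y _ _ hx' hy' =>
    obtain ⟨d, hd, h⟩ := hx'
    obtain ⟨e, he, h'⟩ := hy'
    refine ⟨d + e, by omega, ?_⟩
    have : ((0 : R), x * y) = ((0 : R), x) * ((0 : R), y) := by ext <;> simp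
    rw [this, pow_add]
    exact Submodule.mul_mem_mul h h'

/-- Let R be a ring and R' an R-algebra of finite type. Then there are an ℕ-graded R-algebra S such that
R → S₀ is bijective and S is generated as an R-algebra by a finite set of degree-1 elements, an
element f ∈ S₁, and a ring isomorphism e between the degree-zero part S_(f) of the localization S_f
and R' which matches r/1 with the image of r in R' for every r ∈ R (so R' is identified with S_(f)
as an R-algebra). The published statement also produces, from a finite R'-module, a finite graded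
S-module whose degree-zero localization at f recovers it; that half is not part of this row. -/
theorem result (R R' : Type u) [CommRing R] [CommRing R'] [Algebra R R'] [Algebra.FiniteType R R'] :
    ∃ (S : Type u) (_ : CommRing S) (_ : Algebra R S) (𝒜 : ℕ → Submodule R S) (_ : GradedAlgebra 𝒜) (f : S) (_ : f ∈ 𝒜 1) (s : Finset S)
      (e : HomogeneousLocalization.Away 𝒜 f ≃+* R'),
      Function.Injective (algebraMap R S) ∧ (∀ x ∈ 𝒜 0, x ∈ Set.range (algebraMap R S)) ∧
      (↑s ⊆ (𝒜 1 : Set S)) ∧ Algebra.adjoin R (s : Set S) = ⊤ ∧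
      ∀ r : R, (e.symm (algebraMap R R' r)).val = algebraMap S (Localization.Away f) (algebraMap R S r) := by
  classical
  obtain ⟨s₁, hs₁⟩ := (Algebra.FiniteType.out : (⊤ : Subalgebra R R').FG)
  let s₀ : Finset (R × R') := insert ((0 : R), (1 : R')) (s₁.image fun x => ((0 : R), x))
  let F : Submodule R (R × R') := Submodule.span R (s₀ : Set (R × R'))
  have hs₀F : ∀ b ∈ s₀, b ∈ F ^ 1 := fun b hb => by rw [pow_one]; exact Submodule.subset_span hb
  have h1F : ((0 : R), (1 : R')) ∈ F := Submodule.subset_span (by simp [s₀])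
  have hxF : ∀ x ∈ (s₁ : Set R'), ((0 : R), x) ∈ F := fun x hx =>
    Submodule.subset_span (by
      simp only [s₀, Finset.coe_insert, Finset.coe_image]
      exact Or.inr ⟨x, hx, rfl⟩)
  have hF0 : ∀ b ∈ F, b.1 = 0 := by
    intro b hb
    induction hb using Submodule.span_induction with
    | mem x hx =>
      simp only [s₀, Finset.coe_insert, Finset.coe_image] at hx
      rcases hx with rfl | ⟨y, _, rfl⟩ <;> rfl
    | zero => rfl
    | add x y _ _ hx hy => rw [Prod.fst_add, hx, hy, add_zero]
    | smul r x _ hx => rw [Prod.smul_fst, hx, smul_zero]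
  let S := Groth.Agent.H1.ReesSub.rees F
  let 𝒜 := Groth.Agent.H1.ReesSub.grading F
  let f : S := Groth.Agent.H1.ReesSub.mono F 1 ((0 : R), (1 : R')) (by rw [pow_one]; exact h1F)
  have hf : f ∈ 𝒜 1 := Groth.Agent.H1.ReesSub.mono_mem_grading F 1 _ _
  let s : Finset S := s₀.attach.image fun b => Groth.Agent.H1.ReesSub.mono F 1 b.1 (hs₀F b.1 b.2)
  -- evaluation
  let ev : S →+* R' := (RingHom.snd R R').comp ((Polynomial.evalRingHom (1 : R × R')).comp
    (Groth.Agent.H1.ReesSub.rees F).val.toRingHom)
  have hev_mono : ∀ (d : ℕ) (c : R × R') (hc : c ∈ F ^ d),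
      ev (Groth.Agent.H1.ReesSub.mono F d c hc) = c.2 := by
    intro d c hc
    show (Polynomial.eval 1 (Polynomial.monomial d c)).2 = c.2
    rw [Polynomial.eval_monomial, one_pow, mul_one]
  have hevf : ev f = 1 := hev_mono 1 _ _
  have hevfu : IsUnit (ev f) := by rw [hevf]; exact isUnit_one
  let lift : Localization.Away f →+* R' := IsLocalization.Away.lift f hevfu
  let θ : HomogeneousLocalization.Away 𝒜 f →+* R' :=
    lift.comp (algebraMap (HomogeneousLocalization.Away 𝒜 f) (Localization.Away f))
  have hθ : ∀ (n : ℕ) (a : S) (ha : a ∈ 𝒜 (n • 1)),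
      θ (HomogeneousLocalization.Away.mk 𝒜 hf n a ha) = ev a := by
    intro n a ha
    show lift ((HomogeneousLocalization.Away.mk 𝒜 hf n a ha).val) = ev a
    rw [HomogeneousLocalization.Away.val_mk, Localization.mk_eq_mk']
    have h1 : IsLocalization.mk' (Localization.Away f) a (⟨f ^ n, n, rfl⟩ : Submonoid.powers f) *
        algebraMap S (Localization.Away f) (f ^ n) = algebraMap S (Localization.Away f) a :=
      IsLocalization.mk'_spec _ _ _
    have h2 := congrArg lift h1
    rw [map_mul] at h2
    have h3 : ∀ x : S, lift (algebraMap S (Localization.Away f) x) = ev x :=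
      fun x => IsLocalization.Away.lift_eq f hevfu x
    rw [h3, h3, map_pow, hevf, one_pow, mul_one] at h2
    exact h2
  have hinj : Function.Injective θ := by
    rw [injective_iff_map_eq_zero]
    intro z hz
    obtain ⟨n, a, ha, rfl⟩ := HomogeneousLocalization.Away.mk_surjective 𝒜 hf z
    rw [hθ] at hz
    apply HomogeneousLocalization.val_injective
    rw [HomogeneousLocalization.Away.val_mk, HomogeneousLocalization.val_zero,
      Localization.mk_eq_mk', IsLocalization.mk'_eq_zero_iff]
    refine ⟨⟨f, 1, by simp⟩, ?_⟩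
    show f * a = 0
    have ha' : a ∈ 𝒜 n := by simpa using ha
    have e1 := Groth.Agent.H1.ReesSub.eq_mono_of_mem_grading F ha'
    rw [e1, Groth.Agent.H1.ReesSub.mono_mul]
    have hc := (a.2 n)
    have e2 : ((0 : R), (1 : R')) * ((a : Polynomial (R × R')).coeff n) = 0 := by
      have h3 : ev a = ((a : Polynomial (R × R')).coeff n).2 := by
        conv_lhs => rw [e1]
        rw [hev_mono]
      ext
      · simp
      · simp [← h3, hz]
    have := Groth.Agent.H1.ReesSub.mono_zero_eq F (1 + n)
    rw [← this]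
    congr 1
  have hsurj : Function.Surjective θ := by
    intro c
    obtain ⟨d, hd, hc⟩ := exists_mem_pow F (s₁ : Set R') hs₁ h1F hxF c
    refine ⟨HomogeneousLocalization.Away.mk 𝒜 hf d (Groth.Agent.H1.ReesSub.mono F d _ hc)
      (by simpa using Groth.Agent.H1.ReesSub.mono_mem_grading F d _ hc), ?_⟩
    rw [hθ, hev_mono]
  let e : HomogeneousLocalization.Away 𝒜 f ≃+* R' := RingEquiv.ofBijective θ ⟨hinj, hsurj⟩
  refine ⟨S, inferInstance, inferInstance, 𝒜, Groth.Agent.H1.ReesSub.gradedAlgebra F, f, hf, s, e,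
    ?_, ?_, ?_, ?_, ?_⟩
  · apply Groth.Agent.H1.ReesSub.algebraMap_injective
    intro r r' h
    exact congrArg Prod.fst h
  · exact fun x hx => Groth.Agent.H1.ReesSub.mem_range_algebraMap_of_mem_grading_zero F x hx
  · intro p hp
    simp only [s, Finset.coe_image, Set.mem_image] at hp
    obtain ⟨b, _, rfl⟩ := hp
    exact Groth.Agent.H1.ReesSub.mono_mem_grading F 1 _ _
  · have := Groth.Agent.H1.ReesSub.adjoin_eq_top F (s₀ : Set (R × R')) rfl
    rw [← this]
    congr 1
    ext p
    simp only [s, Finset.coe_image, Set.mem_image]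
    constructor
    · rintro ⟨b, _, rfl⟩
      exact ⟨b.1, b.2, rfl⟩
    · rintro ⟨b, hb, rfl⟩
      exact ⟨⟨b, hb⟩, by simp, rfl⟩
  · intro r
    have hz : θ (HomogeneousLocalization.Away.mk 𝒜 hf 0 (algebraMap R S r)
        (by simpa using SetLike.algebraMap_mem_graded 𝒜 r)) = algebraMap R R' r := by
      rw [hθ, Groth.Agent.H1.ReesSub.algebraMap_eq_mono, hev_mono]
      rfl
    have : e.symm (algebraMap R R' r) = HomogeneousLocalization.Away.mk 𝒜 hf 0 (algebraMap R S r)
        (by simpa using SetLike.algebraMap_mem_graded 𝒜 r) := by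
      rw [RingEquiv.symm_apply_eq]
      exact hz.symm
    rw [this, HomogeneousLocalization.Away.val_mk]
    show Localization.mk _ (1 : Submonoid.powers f) = _
    exact Localization.mk_one_eq_algebraMap _

end Groth.Agent.S9671
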