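import Groth.Statements.S9677
import Mathlib
import Groth.Agent.S9682

set_option autoImplicit false
universe u
open CategoryTheory CategoryTheory.Limits AlgebraicGeometry
open Mor

namespace Groth.Agent.S9677


/-- the spectrum of the local ring at a generic point of an irreducible component is a point -/
theorem specStalk_eq_closedPoint {Y : Scheme.{u}} (y : Y) (hy : closure {y} ∈ irreducibleComponents ↥Y)
    (z : Spec (Y.presheaf.stalk y)) : z = IsLocalRing.closedPoint (Y.presheaf.stalk y) := by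
  have h1 : (Y.fromSpecStalk y).base z ∈ Set.range (Y.fromSpecStalk y).base := ⟨z, rfl⟩
  rw [Scheme.range_fromSpecStalk] at h1
  have h2 : (Y.fromSpecStalk y).base z = y := Groth.Agent.S9682.eq_of_specializes_generic hy h1
  have h3 : (Y.fromSpecStalk y).base (IsLocalRing.closedPoint (Y.presheaf.stalk y)) = y :=
    Scheme.fromSpecStalk_closedPoint
  exact (Y.fromSpecStalk y).isEmbedding.injective (h2.trans h3.symm)

theorem isNilpotent_of_mem_maximalIdeal {Y : Scheme.{u}} (y : Y)
    (hy : closure {y} ∈ irreducibleComponents ↥Y) (b : Y.presheaf.stalk y)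
    (hb : b ∈ IsLocalRing.maximalIdeal (Y.presheaf.stalk y)) : IsNilpotent b := by
  rw [← mem_nilradical, nilradical_eq_sInf, Ideal.mem_sInf]
  intro J hJ
  have hJ' : J.IsPrime := hJ
  have := specStalk_eq_closedPoint y hy ⟨J, hJ'⟩
  have h2 : J = IsLocalRing.maximalIdeal (Y.presheaf.stalk y) := congrArg PrimeSpectrum.asIdeal this
  rw [h2]; exact hb

set_option backward.isDefEq.respectTransparency.types false in
theorem fiber_generic_eq {X Y : Scheme.{u}} (f : X ⟶ Y) (x₀ x : X)
    (hy : closure {f.base x₀} ∈ irreducibleComponents ↥Y)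
    (hsurj : Function.Surjective (f.stalkMap x₀).hom) (hs : x₀ ⤳ x) (hfx : f.base x = f.base x₀) :
    x = x₀ := by
  obtain ⟨V, hV, hyV⟩ : ∃ V : Y.Opens, IsAffineOpen V ∧ f.base x₀ ∈ V := by
    obtain ⟨_, ⟨V, hV, rfl⟩, h, -⟩ := Y.isBasis_affineOpens.exists_subset_of_mem_open
      (Set.mem_univ (f.base x₀)) isOpen_univ
    exact ⟨V, hV, h⟩
  obtain ⟨U, hU, hxU, hUV⟩ : ∃ U : X.Opens, IsAffineOpen U ∧ x ∈ U ∧ U ≤ f ⁻¹ᵁ V := by
    have hxV : x ∈ f ⁻¹ᵁ V := by show f.base x ∈ V; rw [hfx]; exact hyV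
    obtain ⟨_, ⟨U, hU, rfl⟩, h, h'⟩ := X.isBasis_affineOpens.exists_subset_of_mem_open
      hxV (f ⁻¹ᵁ V).2
    exact ⟨U, hU, h, h'⟩
  have hx₀U : x₀ ∈ U := hs.mem_open U.2 hxU
  suffices h : x ⤳ x₀ from (h.antisymm hs).eq
  rw [specializes_iff_forall_open]
  intro W hW hx₀W
  obtain ⟨a, haW, hx₀a⟩ := hU.exists_basicOpen_le (V := ⟨W, hW⟩) ⟨x₀, hx₀W⟩ hx₀U
  apply haW
  by_contra hxa
  -- key computation
  rw [Scheme.mem_basicOpen _ _ _ hxU] at hxa
  rw [Scheme.mem_basicOpen _ _ _ hx₀U] at hx₀a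
  refine absurd hx₀a ?_
  have hxV : f.base x ∈ V := by rw [hfx]; exact hyV
  have key0 : ∀ (x' : X) (hx' : x' ∈ U) (r : Γ(Y, V)),
      (f.stalkMap x').hom (Y.presheaf.germ V (f.base x') (hUV hx') r) =
        X.presheaf.germ U x' hx' (f.appLE V U hUV r) := by
    intro x' hx' r
    simp only [Scheme.Hom.germ_stalkMap_apply, Scheme.Hom.appLE,
      homOfLE_leOfHom, CommRingCat.hom_comp, RingHom.coe_comp, Function.comp_apply,
      X.presheaf.germ_res_apply]
  obtain ⟨β, hβ⟩ := hsurj (X.presheaf.germ U x₀ hx₀U a)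
  let := Y.presheaf.algebra_section_stalk ⟨f.base x₀, hyV⟩
  have := hV.isLocalization_stalk ⟨f.base x₀, hyV⟩
  obtain ⟨⟨c, s⟩, hcs⟩ := IsLocalization.surj
    (hV.primeIdealOf ⟨f.base x₀, hyV⟩).asIdeal.primeCompl β
  have hcs' : β * Y.presheaf.germ V (f.base x₀) hyV s.1 = Y.presheaf.germ V (f.base x₀) hyV c := hcs
  have hs_unit : IsUnit (Y.presheaf.germ V (f.base x₀) hyV s.1) :=
    IsLocalization.map_units (Y.presheaf.stalk (f.base x₀)) s
  have h1 := congrArg (f.stalkMap x₀).hom hcs'
  rw [map_mul, hβ, key0 x₀ hx₀U, key0 x₀ hx₀U] at h1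
  -- z vanishes at x₀ hence at x
  set z := a * f.appLE V U hUV s.1 - f.appLE V U hUV c with hz
  have hz0 : X.presheaf.germ U x₀ hx₀U z = 0 := by
    rw [hz, map_sub, map_mul, h1, sub_self]
  have hzx₀ : x₀ ∉ X.basicOpen z := by
    rw [Scheme.mem_basicOpen _ _ _ hx₀U, hz0]
    exact not_isUnit_zero
  have hzx : x ∉ X.basicOpen z := fun h => hzx₀ (hs.mem_open (X.basicOpen z).2 h)
  rw [Scheme.mem_basicOpen _ _ _ hxU] at hzx
  have hcx : ¬ IsUnit (X.presheaf.germ U x hxU (f.appLE V U hUV c)) := by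
    have e : X.presheaf.germ U x hxU (f.appLE V U hUV c) =
        X.presheaf.germ U x hxU a * X.presheaf.germ U x hxU (f.appLE V U hUV s.1) +
          (- X.presheaf.germ U x hxU z) := by
      rw [hz, map_sub, map_mul]; ring
    rw [e]
    have n1 : X.presheaf.germ U x hxU a * X.presheaf.germ U x hxU (f.appLE V U hUV s.1) ∈
        nonunits (X.presheaf.stalk x) := by
      intro hu
      exact hxa (isUnit_of_mul_isUnit_left hu)
    have n2 : - X.presheaf.germ U x hxU z ∈ nonunits (X.presheaf.stalk x) := by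
      intro hu
      exact hzx (by simpa using hu)
    exact IsLocalRing.nonunits_add n1 n2
  have hcy : f.base x₀ ∉ Y.basicOpen c := by
    rw [← hfx]
    intro h
    have h := (Scheme.mem_basicOpen Y c (f.base x) (hUV hxU)).mp h
    apply hcx
    rw [← key0 x hxU]
    exact h.map _
  rw [Scheme.mem_basicOpen _ _ _ hyV] at hcy
  have hnil := isNilpotent_of_mem_maximalIdeal (f.base x₀) hy _ hcy
  have hnil' : IsNilpotent (X.presheaf.germ U x₀ hx₀U (f.appLE V U hUV c)) := by
    rw [← key0 x₀ hx₀U]; exact hnil.map _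
  intro hu
  have hsu : IsUnit (X.presheaf.germ U x₀ hx₀U (f.appLE V U hUV s.1)) := by
    rw [← key0 x₀ hx₀U]; exact hs_unit.map _
  have : IsUnit (X.presheaf.germ U x₀ hx₀U (f.appLE V U hUV c)) := by
    rw [← h1]; exact hu.mul hsu
  exact hnil'.not_isUnit this


set_option backward.isDefEq.respectTransparency.types false in
theorem isIso_stalkMap_fromSpecStalk {X : Scheme.{u}} (x₀ : X)
    (hx₀ : closure {x₀} ∈ irreducibleComponents ↥X) (z : Spec (X.presheaf.stalk x₀)) :
    IsIso ((X.fromSpecStalk x₀).stalkMap z) := by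
  obtain rfl := specStalk_eq_closedPoint x₀ hx₀ z
  have h := Scheme.stalkClosedPointTo_fromSpecStalk x₀
  unfold Scheme.stalkClosedPointTo at h
  have h2 : IsIso ((X.fromSpecStalk x₀).stalkMap (IsLocalRing.closedPoint (X.presheaf.stalk x₀)) ≫
      (stalkClosedPointIso (X.presheaf.stalk x₀)).hom) := by
    rw [h]; infer_instance
  exact IsIso.of_isIso_comp_right _ (stalkClosedPointIso (X.presheaf.stalk x₀)).hom

set_option backward.isDefEq.respectTransparency.types false in
theorem isIso_snd_of_fiber {X Y : Scheme.{u}} (f : X ⟶ Y) (x₀ : X)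
    (hx₀ : closure {x₀} ∈ irreducibleComponents ↥X)
    (hy : closure {f.base x₀} ∈ irreducibleComponents ↥Y)
    (hiso : IsIso (f.stalkMap x₀))
    (hfib : ∀ x : X, f.base x = f.base x₀ → x = x₀) :
    IsIso (pullback.snd f (Y.fromSpecStalk (f.base x₀))) := by
  let p₁ := pullback.fst f (Y.fromSpecStalk (f.base x₀))
  let p₂ := pullback.snd f (Y.fromSpecStalk (f.base x₀))
  have hp₁ : ∀ z : ↥(pullback f (Y.fromSpecStalk (f.base x₀))), p₁.base z = x₀ := by
    intro z
    apply hfib
    have h1 : f.base (p₁.base z) = (Y.fromSpecStalk (f.base x₀)).base (p₂.base z) := by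
      rw [← Scheme.Hom.comp_apply, ← Scheme.Hom.comp_apply]
      have := pullback.condition (f := f) (g := Y.fromSpecStalk (f.base x₀))
      show (p₁ ≫ f).base z = (p₂ ≫ Y.fromSpecStalk (f.base x₀)).base z
      rw [this]
    rw [h1, specStalk_eq_closedPoint _ hy (p₂.base z)]
    exact Scheme.fromSpecStalk_closedPoint
  have hsub : Subsingleton ↥(pullback f (Y.fromSpecStalk (f.base x₀))) :=
    ⟨fun a b => p₁.isEmbedding.injective ((hp₁ a).trans (hp₁ b).symm)⟩
  let s : Spec (X.presheaf.stalk x₀) ⟶ pullback f (Y.fromSpecStalk (f.base x₀)) :=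
    pullback.lift (X.fromSpecStalk x₀) (Spec.map (f.stalkMap x₀))
      (Scheme.SpecMap_stalkMap_fromSpecStalk (f := f) (x := x₀)).symm
  have hs₁ : s ≫ p₁ = X.fromSpecStalk x₀ := pullback.lift_fst _ _ _
  have hs₂ : s ≫ p₂ = Spec.map (f.stalkMap x₀) := pullback.lift_snd _ _ _
  have hpre : IsPreimmersion s := by
    have : IsPreimmersion (s ≫ p₁) := by rw [hs₁]; infer_instance
    exact IsPreimmersion.of_comp s p₁
  have hsurj : Function.Surjective s.base := by
    intro z
    exact ⟨IsLocalRing.closedPoint _, Subsingleton.elim _ _⟩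
  have hopen : Topology.IsOpenEmbedding s.base := by
    refine ⟨s.isEmbedding, ?_⟩
    rw [hsurj.range_eq]; exact isOpen_univ
  have hstalk : ∀ z, IsIso (s.stalkMap z) := by
    intro z
    have e1 : (s ≫ p₁).stalkMap z = p₁.stalkMap (s.base z) ≫ s.stalkMap z :=
      Scheme.Hom.stalkMap_comp s p₁ z
    have h1 : IsIso ((s ≫ p₁).stalkMap z) := by
      rw [Scheme.Hom.stalkMap_congr_hom _ _ hs₁]
      have := isIso_stalkMap_fromSpecStalk x₀ hx₀ z
      infer_instance
    rw [e1] at h1
    have hα : Function.Surjective (p₁.stalkMap (s.base z)).hom := p₁.stalkMap_surjective _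
    have hbij : Function.Bijective ((p₁.stalkMap (s.base z)) ≫ s.stalkMap z).hom :=
      @ConcreteCategory.bijective_of_isIso _ _ _ _ _ _ _ _ _ h1
    have hαinj : Function.Injective (p₁.stalkMap (s.base z)).hom := by
      have := hbij.1
      rw [CommRingCat.hom_comp, RingHom.coe_comp] at this
      exact Function.Injective.of_comp this
    have hαiso : IsIso (p₁.stalkMap (s.base z)) :=
      (ConcreteCategory.isIso_iff_bijective _).mpr ⟨hαinj, hα⟩
    exact @IsIso.of_isIso_comp_left _ _ _ _ _ (p₁.stalkMap (s.base z)) _ hαiso h1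
  have hoi : IsOpenImmersion s := IsOpenImmersion.of_isIso_stalkMap s hopen
  have hsiso : IsIso s := by
    rw [isIso_iff_isOpenImmersion_and_epi_base]
    refine ⟨hoi, ?_⟩
    rw [TopCat.epi_iff_surjective]
    exact hsurj
  have : p₂ = inv s ≫ Spec.map (f.stalkMap x₀) := by
    rw [← hs₂, IsIso.inv_hom_id_assoc]
  show IsIso p₂
  rw [this]
  infer_instance


/-- Suppose X and Y have finitely many irreducible components and f : X ⟶ Y is birational, i.e. f
restricts to a bijection between the generic points of the irreducible components of X and those of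
Y and induces an isomorphism of local rings at every generic point of an irreducible component of X.
Then for any generic point y of a component of Y, pulling f back along the canonical map Spec
O_{Y,y} ⟶ Y gives an isomorphism onto Spec O_{Y,y}. -/
theorem result {X Y : Scheme.{u}} (f : X ⟶ Y)
    (hXfin : (irreducibleComponents ↥X).Finite) (hYfin : (irreducibleComponents ↥Y).Finite)
    (hbij : Set.BijOn (fun x : X => f.base x) {x : X | closure {x} ∈ irreducibleComponents ↥X}
      {y : Y | closure {y} ∈ irreducibleComponents ↥Y})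
    (hiso : ∀ x : X, closure {x} ∈ irreducibleComponents ↥X → IsIso (f.stalkMap x))
    (y : Y) (hy : closure {y} ∈ irreducibleComponents ↥Y) :
    IsIso (pullback.snd f (Y.fromSpecStalk y)) := by
  obtain ⟨x₀, hx₀, rfl⟩ := hbij.surjOn hy
  have hx₀' : closure {x₀} ∈ irreducibleComponents ↥X := hx₀
  have hi := hiso x₀ hx₀'
  refine isIso_snd_of_fiber f x₀ hx₀' hy hi ?_
  intro x hfx
  obtain ⟨ξ, hξ, hs⟩ := Groth.Agent.S9682.exists_generic_specializes x
  have h1 : f.base ξ ⤳ f.base x := hs.map f.continuous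
  rw [hfx] at h1
  have h2 : f.base ξ = f.base x₀ := Groth.Agent.S9682.eq_of_specializes_generic hy h1
  have h3 : ξ = x₀ := hbij.injOn hξ hx₀ h2
  subst h3
  exact fiber_generic_eq f ξ x hy (ConcreteCategory.bijective_of_isIso _).2 hs hfx

end Groth.Agent.S9677
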