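import Groth.Statements.S9681
import Groth.Agent.Lib.Helper1.Birat

set_option autoImplicit false
universe u
open CategoryTheory CategoryTheory.Limits AlgebraicGeometry
open Mor

namespace Groth.Agent.S9681

theorem isIso_residue_genericPoint (X : Scheme.{u}) [IsIntegral X] :
    IsIso (X.residue (genericPoint X)) := by
  rw [ConcreteCategory.isIso_iff_bijective]
  refine ⟨?_, X.residue_surjective _⟩
  let _ : Field (X.presheaf.stalk (genericPoint X)) :=
    inferInstanceAs (Field X.functionField)
  exact RingHom.injective (X.residue (genericPoint X)).hom

theorem eqToHom_residue {S : Scheme.{u}} {s s' : S} (h : s = s') :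
    eqToHom (congrArg S.presheaf.stalk h) ≫ S.residue s' =
      S.residue s ≫ eqToHom (congrArg S.residueField h) := by
  subst h; simp

/-- Suppose X and Y are integral S-schemes, each locally of finite type over S, with generic points x
and y. Then X and Y are S-birational (they admit S-isomorphic nonempty opens) if and only if x and y
map to the same point s of S and the residue fields of x and y are isomorphic as extensions of the
residue field of s. -/
theorem result {S X Y : Scheme.{u}}
    [IsIntegral X] [IsIntegral Y] (sX : X ⟶ S) (sY : Y ⟶ S)
    [LocallyOfFiniteType sX] [LocallyOfFiniteType sY] :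
    Scheme.BirationalOver sX sY ↔
      ∃ (hs : sX.base (genericPoint ↥X) = sY.base (genericPoint ↥Y))
        (e : X.residueField (genericPoint ↥X) ≅ Y.residueField (genericPoint ↥Y)),
        sX.residueFieldMap (genericPoint ↥X) ≫ e.hom =
          eqToHom (congrArg S.residueField hs) ≫ sY.residueFieldMap (genericPoint ↥Y) := by
  rw [Groth.Agent.H1.Birat.birationalOver_iff_of_germInjective sX sY]
  have hX := isIso_residue_genericPoint X
  have hY := isIso_residue_genericPoint Y
  constructor
  · rintro ⟨hs, e, he⟩
    refine ⟨hs, (asIso (X.residue (genericPoint X))).symm ≪≫ e ≪≫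
      asIso (Y.residue (genericPoint Y)), ?_⟩
    rw [← cancel_epi (S.residue (sX.base (genericPoint X)))]
    simp only [Iso.trans_hom, Iso.symm_hom, asIso_inv, asIso_hom]
    rw [Scheme.residue_residueFieldMap_assoc, IsIso.hom_inv_id_assoc, reassoc_of% he,
      ← Scheme.residue_residueFieldMap, ← Category.assoc, eqToHom_residue hs, Category.assoc]
  · rintro ⟨hs, e, he⟩
    refine ⟨hs, asIso (X.residue (genericPoint X)) ≪≫ e ≪≫
      (asIso (Y.residue (genericPoint Y))).symm, ?_⟩
    simp only [Iso.trans_hom, Iso.symm_hom, asIso_inv, asIso_hom]
    rw [← Scheme.residue_residueFieldMap_assoc, reassoc_of% he, ← Category.assoc,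
      ← eqToHom_residue hs, Category.assoc, Scheme.residue_residueFieldMap_assoc,
      IsIso.hom_inv_id, Category.comp_id]

end Groth.Agent.S9681
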