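import Groth.Statements.S9709
import Mathlib

set_option autoImplicit false
universe u
open CategoryTheory CategoryTheory.Limits AlgebraicGeometry
open Mor

namespace Groth.Agent.S9709

set_option backward.isDefEq.respectTransparency.types false in
lemma eq_of_specializes_of_integral {X S : Scheme.{u}} (f : X ⟶ S) [IsIntegralHom f] (x y : X)
    (hxy : x ⤳ y) (hf : f y = f x) : y = x := by
  obtain ⟨_, ⟨V, hV, rfl⟩, hxV, -⟩ :=
    S.isBasis_affineOpens.exists_subset_of_mem_open (a := f x) (by trivial) isOpen_univ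
  obtain ⟨V, hV, hxV⟩ : ∃ V : S.Opens, IsAffineOpen V ∧ f x ∈ V := ⟨V, hV, hxV⟩
  have hU : IsAffineOpen (f ⁻¹ᵁ V) := hV.preimage f
  have hxU : x ∈ f ⁻¹ᵁ V := hxV
  have hyU : y ∈ f ⁻¹ᵁ V := by show f y ∈ V; rw [hf]; exact hxV
  let φ := f.app V
  have hint : φ.hom.IsIntegral := f.isIntegral_app V hV
  let px := hU.primeIdealOf ⟨x, hxU⟩
  let py := hU.primeIdealOf ⟨y, hyU⟩
  have hpx : hU.fromSpec px = x := hU.fromSpec_primeIdealOf ⟨x, hxU⟩
  have hpy : hU.fromSpec py = y := hU.fromSpec_primeIdealOf ⟨y, hyU⟩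
  have hind := hU.fromSpec.isOpenEmbedding.isInducing
  have hle : px ≤ py := by
    rw [PrimeSpectrum.le_iff_specializes]
    have h2 : hU.fromSpec px ⤳ hU.fromSpec py := by rw [hpx, hpy]; exact hxy
    exact hind.specializes_iff.mp h2
  have hnat : Spec.map φ ≫ hV.fromSpec = hU.fromSpec ≫ f := by
    have := IsAffineOpen.SpecMap_appLE_fromSpec f hV hU le_rfl
    rwa [Scheme.Hom.appLE, show (homOfLE (le_refl (f ⁻¹ᵁ V))).op = 𝟙 _ from rfl,
      CategoryTheory.Functor.map_id, Category.comp_id] at this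
  have hcomap : Spec.map φ px = Spec.map φ py := by
    apply hV.fromSpec.isOpenEmbedding.injective
    rw [← Scheme.Hom.comp_apply, ← Scheme.Hom.comp_apply, hnat, Scheme.Hom.comp_apply,
      Scheme.Hom.comp_apply, hpx, hpy, hf]
  rcases hle.lt_or_eq with hlt | heq
  · exfalso
    algebraize [φ.hom]
    have : Algebra.IsIntegral Γ(S, V) Γ(X, f ⁻¹ᵁ V) := ⟨hint⟩
    have hlt' : px.asIdeal < py.asIdeal := hlt
    have h3 := Ideal.IsIntegral.comap_lt_comap (R := Γ(S, V)) hlt'
    have h4 : px.asIdeal.comap (algebraMap Γ(S, V) Γ(X, f ⁻¹ᵁ V)) =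
        py.asIdeal.comap (algebraMap Γ(S, V) Γ(X, f ⁻¹ᵁ V)) :=
      congrArg PrimeSpectrum.asIdeal hcomap
    exact (ne_of_lt h3) h4
  · rw [← hpx, ← hpy, heq]

/-- Let f : X ⟶ S be an integral morphism. Then every point x of X is closed in its fibre: a point of
f⁻¹(f x) specialising from x equals x. -/
theorem result {X S : Scheme.{u}} (f : X ⟶ S) [IsIntegralHom f] (x : X) :
    closure {x} ∩ f.base ⁻¹' {f.base x} = {x} := by
  ext y
  simp only [Set.mem_inter_iff, Set.mem_preimage, Set.mem_singleton_iff]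
  constructor
  · rintro ⟨h1, h2⟩
    exact eq_of_specializes_of_integral f x y (specializes_iff_mem_closure.mpr h1) h2
  · rintro rfl
    exact ⟨subset_closure rfl, rfl⟩

end Groth.Agent.S9709
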