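import Groth.Statements.S9683
import Mathlib
import Groth.Agent.S9709

set_option autoImplicit false
universe u
open CategoryTheory CategoryTheory.Limits AlgebraicGeometry
open Mor

namespace Groth.Agent.S9683

attribute [local instance] specializationOrder in
lemma dim_eq_points (X : Type*) [TopologicalSpace X] [QuasiSober X] [T0Space X] :
    topologicalKrullDim X = Order.krullDim X :=
  Order.krullDim_eq_of_orderIso irreducibleSetEquivPoints

attribute [local instance] specializationOrder in
lemma lift_series {X Y : Type*} [TopologicalSpace X] [TopologicalSpace Y] [T0Space X] [T0Space Y]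
    (f : X → Y) (hsp : SpecializingMap f) :
    ∀ (n : ℕ) (p : LTSeries Y), p.length = n → ∀ x, f x = p.last →
      ∃ q : LTSeries X, q.length = n ∧ q.last = x := by
  intro n
  induction n with
  | zero =>
    intro p hp x hx
    exact ⟨RelSeries.singleton _ x, rfl, rfl⟩
  | succ n ih =>
    intro p hp x hx
    have hne : p.length ≠ 0 := by omega
    have hlt : p.eraseLast.last < p.last := p.eraseLast_last_rel_last hne
    have hspec : f x ⤳ p.eraseLast.last := by rw [hx]; exact hlt.le
    obtain ⟨x', hx'x, hfx'⟩ := hsp hspec
    obtain ⟨q', hq'len, hq'last⟩ := ih p.eraseLast (by simp [hp]) x' hfx'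
    have hx'lt : q'.last < x := by
      rw [hq'last]
      refine lt_of_le_of_ne hx'x ?_
      intro heq
      rw [heq, hx] at hfx'
      exact (ne_of_lt hlt) hfx'.symm
    exact ⟨q'.snoc x hx'lt, by simp [hq'len], by simp⟩

/-- For any integral morphism of schemes f : X ⟶ Y, the dimension of X is at most that of Y, and if f is
surjective then dim X = dim Y (dimensions of the underlying topological spaces). -/
theorem result {X Y : Scheme.{u}} (f : X ⟶ Y) [IsIntegralHom f] :
    topologicalKrullDim ↥X ≤ topologicalKrullDim ↥Y ∧
      (Surjective f → topologicalKrullDim ↥X = topologicalKrullDim ↥Y) := by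
  letI := specializationOrder X
  letI := specializationOrder Y
  have hmono : StrictMono (f : X → Y) := by
    intro a b hab
    have hle : (f a) ≤ (f b) := (hab.le : b ⤳ a).map f.continuous
    refine lt_of_le_of_ne hle ?_
    intro heq
    have := Groth.Agent.S9709.eq_of_specializes_of_integral f b a hab.le heq
    exact (ne_of_lt hab) this
  have h1 : topologicalKrullDim ↥X ≤ topologicalKrullDim ↥Y := by
    rw [dim_eq_points, dim_eq_points]
    exact Order.krullDim_le_of_strictMono _ hmono
  refine ⟨h1, fun hsurj => le_antisymm h1 ?_⟩
  rw [dim_eq_points, dim_eq_points]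
  apply iSup_le
  intro p
  obtain ⟨x, hx⟩ := hsurj.surj p.last
  obtain ⟨q, hq, -⟩ := lift_series (f : X → Y) f.isClosedMap.specializingMap p.length p rfl x hx
  rw [← hq]
  exact Order.LTSeries.length_le_krullDim q

end Groth.Agent.S9683
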