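import Groth.Statements.S9686
import Mathlib
import Groth.Agent.Lib.Helper1.DimIneqF
import Groth.Agent.Lib.Helper1.GenPts
import Groth.Agent.Lib.Helper6.TD1

set_option autoImplicit false
universe u
open CategoryTheory CategoryTheory.Limits AlgebraicGeometry
open Mor

namespace Groth.Agent.S9686

/-- Let Y be locally Noetherian and f : X ⟶ Y locally of finite type. If E bounds the transcendence
degree of κ(ξ) over κ(f ξ) for every generic point ξ of an irreducible component of X, then dim X ≤
dim Y + E. (The published bound is the supremum of these transcendence degrees; the statement with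
any upper bound E is equivalent.) -/
theorem result {X Y : Scheme.{u}} [IsLocallyNoetherian Y]
    (f : X ⟶ Y) [LocallyOfFiniteType f] (E : ℕ)
    (hE : ∀ ξ : X, closure {ξ} ∈ irreducibleComponents ↥X →
      letI := (f.residueFieldMap ξ).hom.toAlgebra
      Algebra.trdeg (Y.residueField (f.base ξ)) (X.residueField ξ) ≤ E) :
    topologicalKrullDim ↥X ≤ topologicalKrullDim ↥Y + E := by
  rw [Groth.Agent.H6.TD.topologicalKrullDim_eq_iSup_stalk X]
  refine iSup_le fun x => ?_
  have key := Groth.Agent.H1.DimIneq.stalk_dim_add_resTrdeg_le f x (E : Cardinal.{u}) (by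
    intro ξ hξ h0
    exact hE ξ (Groth.Agent.H1.GenPts.closure_mem_irreducibleComponents_of_stalk_dim_eq_zero ξ h0))
  have h1 : ringKrullDim (X.presheaf.stalk x) ≤ ringKrullDim (X.presheaf.stalk x) +
        ((Cardinal.toENat (Dual3.resTrdeg f x) : ℕ∞) : WithBot ℕ∞) :=
    le_add_of_nonneg_right (by exact_mod_cast (zero_le : (0 : ℕ∞) ≤ Cardinal.toENat (Dual3.resTrdeg f x)))
  have h2 : ringKrullDim (Y.presheaf.stalk (f x)) ≤ topologicalKrullDim Y :=
    Groth.Agent.H6.TD.ringKrullDim_stalk_le Y (f x)
  refine (h1.trans key).trans ?_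
  have h3 : ((Cardinal.toENat ((E : ℕ) : Cardinal.{u}) : ℕ∞) : WithBot ℕ∞) = (E : WithBot ℕ∞) := by
    simp
  rw [h3]
  exact add_le_add h2 le_rfl

end Groth.Agent.S9686
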