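import Groth.Statements.S9689
import Groth.Agent.H4.Brn16
import Groth.Agent.H4.Brn3
import Groth.Agent.S9236
import Groth.Agent.Lib.Helper1.UnivHomeo

set_option autoImplicit false
universe u
open CategoryTheory CategoryTheory.Limits AlgebraicGeometry
open Mor

namespace Groth.Agent.S9689

open Groth.Agent.H4.Brn Groth.Agent.H4.NormInt



/-- For an integral scheme X: if every local ring of X is geometrically unibranch, then the
normalization morphism X^ν ⟶ X is a universal homeomorphism. (The published statement assumes only X
irreducible; this row takes X integral, which loses nothing since the normalization of X equals that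
of its reduction.) (The quasi-compactness and quasi-separatedness binders on Spec K(X) ⟶ X always
hold; they are only needed to form the normalization.) -/
theorem result (X : Scheme.{u}) [IsIntegral X] [QuasiCompact (X.fromSpecStalk (genericPoint ↥X))] [QuasiSeparated (X.fromSpecStalk (genericPoint ↥X))]
    (hX : ∀ x : X, CAlg2.IsGeomUnibranch (X.presheaf.stalk x)) :
    FlatMor.IsUnivHomeo (Curv2.normalizationι X) := by
  rw [Groth.Agent.H1.isUnivHomeo_iff_integral]
  refine ⟨inferInstance, ?_, surjective_normalizationι X⟩
  have key : ∀ x : X, Subsingleton
      (Σ x' : {x' : Curv2.normalization X // (Curv2.normalizationι X).base x' = x},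
        @Field.Emb (X.residueField ((Curv2.normalizationι X).base x'.1))
          ((Curv2.normalization X).residueField x'.1) _ _
          ((Curv2.normalizationι X).residueFieldMap x'.1).hom.toAlgebra) := by
    intro x
    have h1 := (Groth.Agent.S9236.result _).mpr (hX x)
    have h2 := numGeomBranchesAt_eq X x
    rw [Brnch.numGeomBranchesAt, h1, ← enat_card_sigma_eq_tsum] at h2
    exact (enat_card_eq_one_iff.mp h2.symm).2
  have h3 : UniversallyInjective (Curv2.normalizationι X) ↔
      Function.Injective (Curv2.normalizationι X) ∧
        ∀ x, ((Curv2.normalizationι X).residueFieldMap x).hom.IsPurelyInseparable :=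
    (tfae_universallyInjective (Curv2.normalizationι X)).out 0 2
  rw [h3]
  refine ⟨?_, ?_⟩
  · intro y y' h
    letI a1 := ((Curv2.normalizationι X).residueFieldMap y).hom.toAlgebra
    letI a2 := ((Curv2.normalizationι X).residueFieldMap y').hom.toAlgebra
    have := (key ((Curv2.normalizationι X).base y')).elim
      ⟨⟨y, h⟩, (default : Field.Emb (X.residueField ((Curv2.normalizationι X).base y))
          ((Curv2.normalization X).residueField y))⟩
      ⟨⟨y', rfl⟩, (default : Field.Emb (X.residueField ((Curv2.normalizationι X).base y'))
          ((Curv2.normalization X).residueField y'))⟩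
    exact congrArg (fun s => s.1.1) this
  · intro y
    letI a1 := ((Curv2.normalizationι X).residueFieldMap y).hom.toAlgebra
    rw [RingHom.IsPurelyInseparable, isPurelyInseparable_iff_subsingleton_emb]
    constructor
    intro σ1 σ2
    have := (key ((Curv2.normalizationι X).base y)).elim ⟨⟨y, rfl⟩, σ1⟩ ⟨⟨y, rfl⟩, σ2⟩
    exact eq_of_heq (Sigma.mk.inj_iff.mp this).2


end Groth.Agent.S9689
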