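import Groth.Statements.S9698
import Mathlib

set_option autoImplicit false
universe u
open CategoryTheory CategoryTheory.Limits AlgebraicGeometry
open Mor

namespace Groth.Agent.S9698

open TopologicalSpace CategoryTheory CategoryTheory.Limits AlgebraicGeometry

lemma exists_finset_gen {R A B : Type*} [CommRing R] [CommRing A] [CommRing B] [Algebra R B]
    [Algebra A B] (r : A) [IsLocalization.Away r B] [Algebra.FiniteType R B] :
    ∃ G : Finset A, ∀ T : Subalgebra R B, (∀ a ∈ G, algebraMap A B a ∈ T) →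
      (∀ w : B, w * algebraMap A B r = 1 → w ∈ T) → T = ⊤ := by
  classical
  obtain ⟨s, hs⟩ := Algebra.FiniteType.out (R := R) (A := B)
  choose n a h using (fun t : B => IsLocalization.Away.surj r t)
  refine ⟨s.image a, fun T hG hw => ?_⟩
  obtain ⟨w, hw1⟩ := (IsLocalization.Away.algebraMap_isUnit (S := B) r).exists_left_inv
  have hwT : w ∈ T := hw w hw1
  rw [eq_top_iff, ← hs, Algebra.adjoin_le_iff]
  intro t ht
  have h1 : t = algebraMap A B (a t) * w ^ n t := by
    rw [← h t, mul_assoc, ← mul_pow, mul_comm _ w, hw1, one_pow, mul_one]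
  rw [SetLike.mem_coe, h1]
  exact T.mul_mem (hG _ (Finset.mem_image_of_mem a ht)) (T.pow_mem hwT _)

lemma surjective_comp_of_isIso {A B C : CommRingCat.{u}} (f : A ⟶ B) (g : B ⟶ C)
    (hf : Function.Surjective f) [IsIso g] : Function.Surjective (f ≫ g) := by
  intro c
  obtain ⟨b, rfl⟩ := (ConcreteCategory.bijective_of_isIso g).2 c
  obtain ⟨a, rfl⟩ := hf b
  exact ⟨a, rfl⟩

lemma isClosedImmersion_morphismRestrict_of_surjective {X Y : Scheme.{u}} (f : X ⟶ Y)
    (U : Y.Opens) (hU : IsAffineOpen U) (hU' : IsAffineOpen (f ⁻¹ᵁ U))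
    (h : Function.Surjective (f.app U)) : IsClosedImmersion (f ∣_ U) := by
  haveI : IsAffine U.toScheme := hU
  haveI : IsAffine (f ⁻¹ᵁ U).toScheme := hU'
  apply IsClosedImmersion.of_surjective_of_isAffine
  rw [Scheme.Hom.appTop, morphismRestrict_app]
  have key : ∀ V : Y.Opens, V = U → Function.Surjective (f.app V) := by
    rintro V rfl; exact h
  generalize_proofs _ _ _ hp
  haveI : IsIso (eqToHom hp).op := inferInstance
  haveI : IsIso (X.presheaf.map (eqToHom hp).op) := Functor.map_isIso X.presheaf (eqToHom hp).op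
  exact @surjective_comp_of_isIso _ _ _ _ _ (key _ (by simp)) this

lemma surjective_app_of_appLE {X Y : Scheme.{u}} (i : X ⟶ Y) (D : Y.Opens) (W : X.Opens)
    (hW : i ⁻¹ᵁ D = W) (h : Function.Surjective (i.appLE D W hW.ge)) :
    Function.Surjective (i.app D) := by
  subst hW
  rwa [Scheme.Hom.appLE_eq_app] at h

lemma isClosedImmersion_restrict_basicOpen {X Y S : Scheme.{u}} (i : X ⟶ Y) (p : Y ⟶ S)
    [IsAffineHom p] (V : S.Opens) (hV : IsAffineOpen V) (c : Γ(Y, ⊤)) (r : Γ(X, ⊤))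
    (hc : i.appTop c = r)
    (hr : IsAffineOpen (X.basicOpen r))
    (hle : X.basicOpen r ≤ (i ≫ p) ⁻¹ᵁ V)
    (G : Set Γ(X, ⊤)) (hG : ∀ a ∈ G, ∃ g : Γ(Y, ⊤), i.appTop g = a)
    (hgen : letI := ((i ≫ p).appLE V (X.basicOpen r) hle).hom.toAlgebra
       ∀ T : Subalgebra Γ(S, V) Γ(X, X.basicOpen r),
        (∀ a ∈ G, algebraMap Γ(X, ⊤) Γ(X, X.basicOpen r) a ∈ T) →
        (∀ w, w * algebraMap Γ(X, ⊤) Γ(X, X.basicOpen r) r = 1 → w ∈ T) → T = ⊤) :
    IsClosedImmersion (i ∣_ (Y.basicOpen c ⊓ p ⁻¹ᵁ V)) := by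
  subst hc
  set D := Y.basicOpen c ⊓ p ⁻¹ᵁ V with hDdef
  have hD : IsAffineOpen D := by
    have h1 : IsAffineOpen (p ⁻¹ᵁ V) := hV.preimage p
    have := h1.basicOpen (Y.presheaf.map (homOfLE le_top).op c)
    rwa [Scheme.basicOpen_res, inf_comm] at this
  have hpre : i ⁻¹ᵁ D = X.basicOpen (i.appTop c) := by
    rw [hDdef, Scheme.Hom.preimage_inf, Scheme.preimage_basicOpen_top]
    exact inf_eq_left.mpr hle
  have hDc : D ≤ Y.basicOpen c := inf_le_left
  have hDV : D ≤ p ⁻¹ᵁ V := inf_le_right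
  refine isClosedImmersion_morphismRestrict_of_surjective i D hD (hpre ▸ hr)
    (surjective_app_of_appLE i D _ hpre ?_)
  letI := ((i ≫ p).appLE V (X.basicOpen (i.appTop c)) hle).hom.toAlgebra
  let T : Subalgebra Γ(S, V) Γ(X, X.basicOpen (i.appTop c)) :=
    { (i.appLE D (X.basicOpen (i.appTop c)) hpre.ge).hom.range with
      algebraMap_mem' := fun a => ⟨p.appLE V D hDV a, by
        exact congr($(Scheme.Hom.appLE_comp_appLE i p V D (X.basicOpen (i.appTop c)) hDV hpre.ge) a)⟩ }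
  have hT : T = ⊤ := by
    apply hgen T
    · intro a ha
      obtain ⟨g, rfl⟩ := hG a ha
      refine ⟨Y.presheaf.map (homOfLE le_top).op g, ?_⟩
      have := Scheme.Hom.map_appLE i (U := D) (V := X.basicOpen (i.appTop c)) hpre.ge
        (homOfLE (le_top : D ≤ ⊤)).op
      exact congr($this g)
    · intro w hw
      have hu : IsUnit (Y.presheaf.map (homOfLE (le_top : D ≤ ⊤)).op c) := by
        have h1 : IsUnit (Y.presheaf.map (homOfLE (Y.basicOpen_le c)).op c) :=
          RingedSpace.isUnit_res_basicOpen Y.toRingedSpace c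
        have h2 := h1.map (Y.presheaf.map (homOfLE hDc).op).hom
        have h3 : (Y.presheaf.map (homOfLE hDc).op).hom
            (Y.presheaf.map (homOfLE (Y.basicOpen_le c)).op c) =
            Y.presheaf.map (homOfLE (le_top : D ≤ ⊤)).op c := by
          show (Y.presheaf.map (homOfLE (Y.basicOpen_le c)).op ≫
            Y.presheaf.map (homOfLE hDc).op) c = _
          rw [← Functor.map_comp]
          rfl
        rwa [h3] at h2
      obtain ⟨w', hw'⟩ := hu.exists_left_inv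
      have h3 : i.appLE D (X.basicOpen (i.appTop c)) hpre.ge
          (Y.presheaf.map (homOfLE (le_top : D ≤ ⊤)).op c) =
          algebraMap Γ(X, ⊤) Γ(X, X.basicOpen (i.appTop c)) (i.appTop c) := by
        have := Scheme.Hom.map_appLE i (U := D) (V := X.basicOpen (i.appTop c)) hpre.ge
          (homOfLE (le_top : D ≤ ⊤)).op
        exact congr($this c)
      have h4 : i.appLE D (X.basicOpen (i.appTop c)) hpre.ge w' *
          algebraMap Γ(X, ⊤) Γ(X, X.basicOpen (i.appTop c)) (i.appTop c) = 1 := by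
        rw [← h3, ← map_mul, hw', map_one]
      have h5 : w = i.appLE D (X.basicOpen (i.appTop c)) hpre.ge w' := by
        calc w = w * (algebraMap Γ(X, ⊤) Γ(X, X.basicOpen (i.appTop c)) (i.appTop c) *
              i.appLE D (X.basicOpen (i.appTop c)) hpre.ge w') := by
                rw [mul_comm _ (i.appLE D _ _ w'), h4, mul_one]
          _ = _ := by rw [← mul_assoc, hw, one_mul]
      rw [h5]
      exact ⟨w', rfl⟩
  intro b
  have : b ∈ T := hT ▸ Algebra.mem_top
  exact this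

/-- Let π : X ⟶ S be locally of finite type with X quasi-affine. Then there exist n ≥ 0 and an immersion
i : X ⟶ A^n_S over S (affine n-space on the index type Fin n, lifted to the ambient universe). -/
theorem result {X S : Scheme.{u}} (π : X ⟶ S)
    [LocallyOfFiniteType π] [X.IsQuasiAffine] :
    ∃ (n : ℕ) (i : X ⟶ 𝔸(ULift.{u} (Fin n); S)), IsImmersion i ∧ i ≫ (𝔸(ULift.{u} (Fin n); S) ↘ S) = π := by
  classical
  have H1 : ∀ x : X, ∃ (r : Γ(X, ⊤)) (V : S.Opens), IsAffineOpen V ∧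
      IsAffineOpen (X.basicOpen r) ∧ x ∈ X.basicOpen r ∧ X.basicOpen r ≤ π ⁻¹ᵁ V := by
    intro x
    obtain ⟨_, ⟨V, hV, rfl⟩, hxV, -⟩ := S.isBasis_affineOpens.exists_subset_of_mem_open
      (Set.mem_univ (π x)) isOpen_univ
    obtain ⟨_, ⟨_, ⟨r, hr, rfl⟩, rfl⟩, hxr, hrV⟩ :=
      (Scheme.IsQuasiAffine.isBasis_basicOpen X).exists_subset_of_mem_open
        (show x ∈ ((π ⁻¹ᵁ V : X.Opens) : Set X) from hxV) (π ⁻¹ᵁ V).2
    exact ⟨r, V, hV, hr, hxr, hrV⟩
  choose r V hV hr hxr hrV using H1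
  obtain ⟨t, ht⟩ := isCompact_univ.elim_finite_subcover
    (fun x : X => ((X.basicOpen (r x) : X.Opens) : Set X)) (fun x => (X.basicOpen (r x)).2)
    (fun x _ => Set.mem_iUnion.mpr ⟨x, hxr x⟩)
  have H3 : ∀ x : X, ∃ G : Finset Γ(X, ⊤),
      letI := (π.appLE (V x) (X.basicOpen (r x)) (hrV x)).hom.toAlgebra
      ∀ T : Subalgebra Γ(S, V x) Γ(X, X.basicOpen (r x)),
        (∀ a ∈ G, algebraMap Γ(X, ⊤) Γ(X, X.basicOpen (r x)) a ∈ T) →
        (∀ w, w * algebraMap Γ(X, ⊤) Γ(X, X.basicOpen (r x)) (r x) = 1 → w ∈ T) → T = ⊤ := by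
    intro x
    letI := (π.appLE (V x) (X.basicOpen (r x)) (hrV x)).hom.toAlgebra
    haveI : IsLocalization.Away (r x) Γ(X, X.basicOpen (r x)) :=
      isLocalization_basicOpen_of_qcqs (U := ⊤) isCompact_univ isQuasiSeparated_univ (r x)
    haveI : Algebra.FiniteType Γ(S, V x) Γ(X, X.basicOpen (r x)) :=
      HasRingHomProperty.appLE (P := @LocallyOfFiniteType) π inferInstance ⟨V x, hV x⟩
        ⟨_, hr x⟩ (hrV x)
    exact exists_finset_gen (r x)
  choose G hG using H3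
  obtain ⟨n, v, hv⟩ : ∃ (n : ℕ) (v : ULift.{u} (Fin n) → Γ(X, ⊤)),
      ∀ a ∈ t.biUnion (fun x => insert (r x) (G x)), ∃ k, v k = a := by
    refine ⟨(t.biUnion (fun x => insert (r x) (G x))).card,
      fun k => ((t.biUnion (fun x => insert (r x) (G x))).equivFin.symm k.down).1, fun a ha => ?_⟩
    exact ⟨ULift.up ((t.biUnion (fun x => insert (r x) (G x))).equivFin ⟨a, ha⟩), by simp⟩
  obtain ⟨i, rfl, hi⟩ : ∃ i : X ⟶ 𝔸(ULift.{u} (Fin n); S),
      i ≫ (𝔸(ULift.{u} (Fin n); S) ↘ S) = π ∧ ∀ k, i.appTop (AffineSpace.coord S k) = v k :=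
    ⟨AffineSpace.homOfVector π v, AffineSpace.homOfVector_over ..,
      fun k => AffineSpace.homOfVector_appTop_coord ..⟩
  refine ⟨n, i, ?_, rfl⟩
  haveI : MorphismProperty.RespectsRight (@IsImmersion) (@IsOpenImmersion) :=
    ⟨fun j hj f hf => by
      haveI : IsOpenImmersion j := hj
      haveI : IsImmersion f := hf
      exact (inferInstance : IsImmersion (f ≫ j))⟩
  have hidx : ∀ x : t, ∃ k, v k = r x.1 := fun x =>
    hv _ (Finset.mem_biUnion.mpr ⟨x.1, x.2, Finset.mem_insert_self _ _⟩)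
  choose kk hkk using hidx
  apply IsZariskiLocalAtTarget.of_range_subset_iSup (P := @IsImmersion)
    (fun x : t => (𝔸(ULift.{u} (Fin n); S)).basicOpen (AffineSpace.coord S (kk x)) ⊓
      (𝔸(ULift.{u} (Fin n); S) ↘ S) ⁻¹ᵁ V x.1)
  · rintro _ ⟨x', rfl⟩
    obtain ⟨x, hx, hx'⟩ : ∃ x ∈ t, x' ∈ X.basicOpen (r x) := by
      simpa using ht (Set.mem_univ x')
    rw [SetLike.mem_coe, Opens.mem_iSup]
    refine ⟨⟨x, hx⟩, ?_⟩
    have h1 : x' ∈ i ⁻¹ᵁ ((𝔸(ULift.{u} (Fin n); S)).basicOpen (AffineSpace.coord S (kk ⟨x, hx⟩)) ⊓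
        (𝔸(ULift.{u} (Fin n); S) ↘ S) ⁻¹ᵁ V x) := by
      rw [Scheme.Hom.preimage_inf, Scheme.preimage_basicOpen_top, hi, hkk]
      exact ⟨hx', hrV x hx'⟩
    exact h1
  · intro x
    haveI : IsClosedImmersion (i ∣_ ((𝔸(ULift.{u} (Fin n); S)).basicOpen
        (AffineSpace.coord S (kk x)) ⊓ (𝔸(ULift.{u} (Fin n); S) ↘ S) ⁻¹ᵁ V x.1)) :=
      isClosedImmersion_restrict_basicOpen i (𝔸(ULift.{u} (Fin n); S) ↘ S) (V x.1) (hV x.1)
        (AffineSpace.coord S (kk x)) (r x.1) ((hi _).trans (hkk x)) (hr x.1) (hrV x.1)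
        (G x.1 : Set _) (fun a ha => by
          obtain ⟨k, hk⟩ := hv a (Finset.mem_biUnion.mpr
            ⟨x.1, x.2, Finset.mem_insert_of_mem (Finset.mem_coe.mp ha)⟩)
          exact ⟨AffineSpace.coord S k, (hi k).trans hk⟩) (hG x.1)
    infer_instance

end Groth.Agent.S9698
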