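import Groth.Statements.S9700
import Groth.Agent.Lib.Helper6.VC5

set_option autoImplicit false
universe u
open CategoryTheory CategoryTheory.Limits AlgebraicGeometry
open Mor

namespace Groth.Agent.S9700

/-- Let f : X ⟶ S and h : U ⟶ X be quasi-compact with h(U) dense in X. Suppose each valuative square
over f, whose map Spec K ⟶ X factors through h, has a unique diagonal lift. Then f is universally
closed, and f is also separated provided it is quasi-separated. -/
theorem result {U X S : Scheme.{u}} (f : X ⟶ S) (h : U ⟶ X)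
    [QuasiCompact f] [QuasiCompact h] (hd : DenseRange h.base)
    (H : ∀ sq : ValuativeCommSq f, (∃ i : Spec (.of sq.K) ⟶ U, i ≫ h = sq.i₁) →
      Nonempty (Unique sq.commSq.LiftStruct)) :
    UniversallyClosed f ∧ (QuasiSeparated f → IsSeparated f) := by
  classical
  -- the refined criterion in the residue-field form
  have H' : ∀ (z : ↥U) (R : ValuationSubring ↑(U.residueField z))
      (φ : Spec (CommRingCat.of ↥R) ⟶ S),
      Spec.map (CommRingCat.ofHom R.subtype) ≫ φ = U.fromSpecResidueField z ≫ h ≫ f →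
      ∃! φ' : Spec (CommRingCat.of ↥R) ⟶ X,
        Spec.map (CommRingCat.ofHom R.subtype) ≫ φ' = U.fromSpecResidueField z ≫ h ∧
          φ' ≫ f = φ := by
    intro z R φ hφ
    have w : (U.fromSpecResidueField z ≫ h) ≫ f =
        Spec.map (CommRingCat.ofHom (algebraMap ↥R ↑(U.residueField z))) ≫ φ := by
      rw [Category.assoc]; exact hφ.symm
    let Sq : ValuativeCommSq f :=
      { R := ↥R, K := ↑(U.residueField z), i₁ := U.fromSpecResidueField z ≫ h, i₂ := φ,
        commSq := ⟨w⟩ }
    obtain ⟨hU⟩ := H Sq ⟨U.fromSpecResidueField z, rfl⟩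
    refine ⟨hU.default.l, ⟨hU.default.fac_left, hU.default.fac_right⟩, ?_⟩
    rintro φ₂ ⟨h₁, h₂⟩
    have := hU.uniq (⟨φ₂, h₁, h₂⟩ : Sq.commSq.LiftStruct)
    exact congrArg CommSq.LiftStruct.l this
  refine ⟨?_, ?_⟩
  · exact UniversallyClosed.of_valuativeCriterion f
      (Groth.Agent.H6.VC.existence_of_key f (Groth.Agent.H6.VC.keyP h f hd H'))
  · intro hqs
    refine Groth.Agent.H6.VC.isSeparated_of_unique h f hd ?_
    intro z R φ hφ φ₁ φ₂ h₁ h₁' h₂ h₂'
    obtain ⟨φ', -, huniq⟩ := H' z R φ hφ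
    exact (huniq φ₁ ⟨h₁, h₁'⟩).trans (huniq φ₂ ⟨h₂, h₂'⟩).symm

end Groth.Agent.S9700
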