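import Groth.Statements.S9702
import Groth.Agent.Lib.Helper1.GenFin

set_option autoImplicit false
universe u
open CategoryTheory CategoryTheory.Limits AlgebraicGeometry
open Mor

namespace Groth.Agent.S9702

open CategoryTheory CategoryTheory.Limits AlgebraicGeometry
open Groth.Agent.H1.GenFin

lemma exists_affine_pair {X Y : Scheme.{u}} [IsIntegral X] [IsIntegral Y] (f : X ⟶ Y) :
    ∃ (U : X.Opens) (V : Y.Opens) (_ : U ≤ f ⁻¹ᵁ V), IsAffineOpen U ∧ IsAffineOpen V ∧
      Nonempty U := by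
  obtain ⟨_, ⟨V, hV, rfl⟩, hxV, -⟩ := Y.isBasis_affineOpens.exists_subset_of_mem_open
    (Set.mem_univ (f (genericPoint X))) isOpen_univ
  obtain ⟨_, ⟨U, hU, rfl⟩, hxU, hUV⟩ := X.isBasis_affineOpens.exists_subset_of_mem_open
    (show genericPoint X ∈ ((f ⁻¹ᵁ V : X.Opens) : Set X) from hxV) (f ⁻¹ᵁ V).2
  exact ⟨U, V, hUV, hU, hV, ⟨⟨_, hxU⟩⟩⟩

/-- Let X, Y be integral and f : X ⟶ Y dominant and locally of finite type, with ξ the generic point of
X (so f ξ is the generic point of Y). Then the following are equivalent: the residue field of ξ is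
finite over that of f ξ; some nonempty affine opens U ⊆ X and V ⊆ Y with f(U) ⊆ V have U ⟶ V finite;
every point of X that f sends to the generic point of Y equals ξ. Under the extra assumption that f
is quasi-compact or separated, these are also equivalent to: f⁻¹(V) ⟶ V is finite for some nonempty
affine open V ⊆ Y. (The published statement also lists transcendence degree 0 of the function field
extension, which for this finitely generated extension is equivalent to finiteness; this row omits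
it.) -/
theorem result {X Y : Scheme.{u}} [IsIntegral X] [IsIntegral Y] (f : X ⟶ Y)
    [IsDominant f] [LocallyOfFiniteType f] :
    let ξ := genericPoint ↥X
    let A := letI := (f.residueFieldMap ξ).hom.toAlgebra
      Module.Finite (Y.residueField (f.base ξ)) (X.residueField ξ)
    let B := ∃ (U : X.Opens) (V : Y.Opens) (hUV : U ≤ f ⁻¹ᵁ V), IsAffineOpen U ∧ IsAffineOpen V ∧
      Nonempty ↥U ∧ IsFinite (f.resLE V U hUV)
    let C := ∀ x : X, f.base x = genericPoint ↥Y → x = ξ
    let D := ∃ V : Y.Opens, IsAffineOpen V ∧ Nonempty ↥V ∧ IsFinite (f ∣_ V)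
    (A ↔ B) ∧ (A ↔ C) ∧ (IsSeparated f ∨ QuasiCompact f → (A ↔ D)) := by
  intro ξ A B C D
  have hAB : A → B := by
    intro hA
    obtain ⟨U, V, e, hU, hV, hne⟩ := exists_affine_pair f
    obtain ⟨-, a, ha0, hφa, hfin⟩ := (affine_local f U V hU hV e hne).1 hA
    refine ⟨X.basicOpen ((f.appLE V U e).hom a), Y.basicOpen a, basicOpen_appLE_le f U V e a,
      hU.basicOpen _, hV.basicOpen _, ?_, ?_⟩
    · obtain ⟨x, hx⟩ := basicOpen_nonempty _ hφa
      exact ⟨⟨x, hx⟩⟩
    · exact (isFinite_resLE_iff f _ _ (hU.basicOpen _) (hV.basicOpen _) _).mpr hfin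
  have hBA : B → A := by
    rintro ⟨U, V, e, hU, hV, hne, hfin⟩
    refine (affine_local f U V hU hV e hne).2 ?_
    have hfin' := (isFinite_resLE_iff f U V hU hV e).mp hfin
    intro p hp hcomap
    letI := (f.appLE V U e).hom.toAlgebra
    haveI : Module.Finite Γ(Y, V) Γ(X, U) := hfin'
    haveI : Nonempty U.toScheme := hne
    haveI : Nonempty V.toScheme := by
      obtain ⟨⟨x, hx⟩⟩ := hne; exact ⟨⟨f x, e hx⟩⟩
    exact Ideal.eq_bot_of_comap_eq_bot (R := Γ(Y, V)) hcomap
  have hAC : A → C := fun hA x hx => eq_genericPoint_of_finite f hA x hx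
  have hCA : C → A := by
    intro hC
    obtain ⟨U, V, e, hU, hV, hne⟩ := exists_affine_pair f
    exact (affine_local f U V hU hV e hne).2
      (forall_eq_bot_of_forall_eq_genericPoint f U V hU hV e hC)
  have hDB : D → B := by
    rintro ⟨V, hV, hne, hfin⟩
    haveI := hfin
    have haff : IsAffineOpen (f ⁻¹ᵁ V) := by
      haveI : IsAffine V.toScheme := hV
      exact isAffine_of_isAffineHom (f ∣_ V)
    refine ⟨f ⁻¹ᵁ V, V, le_rfl, haff, hV, ?_, ?_⟩
    · obtain ⟨⟨y, hy⟩⟩ := hne
      have : f (genericPoint X) ∈ V := isGen_map f V ⟨y, hy⟩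
      exact ⟨⟨genericPoint X, this⟩⟩
    · rw [Scheme.Hom.resLE_eq_morphismRestrict]; exact hfin
  refine ⟨⟨hAB, hBA⟩, ⟨hAC, hCA⟩, fun hsq => ⟨fun hA => ?_, fun hD => hBA (hDB hD)⟩⟩
  rcases hsq with hsep | hqc
  · obtain ⟨U, V, e, hU, hV, hne, hfin⟩ := hAB hA
    have hUV := eq_preimage_of_isFinite_of_isSeparated f U V e hne hfin
    refine ⟨V, hV, ?_, ?_⟩
    · obtain ⟨⟨x, hx⟩⟩ := hne; exact ⟨⟨f x, e hx⟩⟩
    · exact isFinite_morphismRestrict_of_appLE f U V hU hV hUV
        ((isFinite_resLE_iff f U V hU hV _).mp hfin)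
  · obtain ⟨U, V, e, hU, hV, hne⟩ := exists_affine_pair f
    obtain ⟨r, hr0, hrU⟩ := exists_basicOpen_preimage_le f U V hV e hne (hAC hA)
    -- new affine pair
    have hUr : f ⁻¹ᵁ (Y.basicOpen r) = X.basicOpen ((f.appLE V U e).hom r) := by
      rw [Scheme.basicOpen_appLE]; exact (inf_eq_right.mpr hrU).symm
    have hne' : Nonempty (X.basicOpen ((f.appLE V U e).hom r)) := by
      rw [← hUr]
      obtain ⟨y, hy⟩ := basicOpen_nonempty r hr0
      have : f (genericPoint X) ∈ Y.basicOpen r := isGen_map f _ ⟨y, hy⟩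
      exact ⟨⟨genericPoint X, this⟩⟩
    obtain ⟨-, a, ha0, hφa, hfin⟩ := (affine_local f _ _ (hU.basicOpen _) (hV.basicOpen r)
      hUr.ge hne').1 hA
    refine ⟨Y.basicOpen a, (hV.basicOpen r).basicOpen a, ?_, ?_⟩
    · obtain ⟨y, hy⟩ := basicOpen_nonempty a ha0
      exact ⟨⟨y, hy⟩⟩
    · refine isFinite_morphismRestrict_of_appLE f _ _ ((hU.basicOpen _).basicOpen _)
        ((hV.basicOpen r).basicOpen a) ?_ hfin
      rw [Scheme.basicOpen_appLE, ← hUr]
      exact (inf_eq_right.mpr (f.preimage_mono (Y.basicOpen_le a))).symm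

end Groth.Agent.S9702
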