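import Groth.Statements.S9708
import Mathlib
import Groth.Agent.H4.ProjCrit
import Groth.Agent.S12473
import Groth.Agent.Lib.Lead.QC.PullInv

set_option autoImplicit false
universe u
open CategoryTheory CategoryTheory.Limits AlgebraicGeometry
open Mor

namespace Groth.Agent.S9708

/-- Let S be quasi-compact and quasi-separated and let f : X ⟶ Y and g : Y ⟶ S be projective. Then f ≫ g
is projective. Here projective means that the source is isomorphic over the target to the relative
Proj of a quasi-coherent graded algebra generated by its finite-type degree-one part; the published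
definition uses closed subschemes of P(E) with E of finite type, an equivalent condition. -/
theorem result {X Y S : Scheme.{u}} [CompactSpace ↥S] [QuasiSeparatedSpace ↥S]
    (f : X ⟶ Y) (g : Y ⟶ S) (hf : RelProj.IsProjective f) (hg : RelProj.IsProjective g) :
    RelProj.IsProjective (f ≫ g) := by
  haveI : CompactSpace Y := by
    obtain ⟨⟨-, hqc, -⟩, -⟩ := Groth.Agent.S4418.result g hg
    haveI := hqc
    exact QuasiCompact.compactSpace_of_compactSpace g
  obtain ⟨hpf, L, hL, hLva⟩ := Groth.Agent.H4.ProjCrit.exists_veryAmple_of_isProjective f hf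
  obtain ⟨hpg, K, hK, hKva⟩ := Groth.Agent.H4.ProjCrit.exists_veryAmple_of_isProjective g hg
  haveI := hpf
  haveI := hpg
  obtain ⟨n₀, -, hva⟩ := Groth.Agent.S12473.result f g L hL hLva K hK hKva
  exact Groth.Agent.H4.ProjCrit.isProjective_of_isProper_of_veryAmple (f ≫ g) _
    (Groth.Agent.LD.QC.isInvertible_tensorMod hL
      (Groth.Agent.LD.QC.isInvertible_pullback f (Groth.Agent.LD.QC.isInvertible_tensorPow hK n₀)))
    (hva n₀ le_rfl)

end Groth.Agent.S9708
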