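import Groth.Statements.S9713
import Mathlib
import Groth.Agent.S4421

set_option autoImplicit false
universe u
open CategoryTheory CategoryTheory.Limits AlgebraicGeometry
open Mor

namespace Groth.Agent.S9713

/-- A base change of a locally projective morphism (every point of the base has an open neighbourhood U
with f⁻¹(U) ⟶ U projective) is locally projective. Here f⁻¹(U) ⟶ U projective means isomorphic over
U to the relative Proj of a quasi-coherent graded algebra generated by its finite-type degree-one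
part; the published definition uses closed subschemes of P(E) with E of finite type, an equivalent
condition. -/
theorem result {X S S' : Scheme.{u}} (f : X ⟶ S) (hf : RelProj.IsLocallyProjective f)
    (g : S' ⟶ S) : RelProj.IsLocallyProjective (pullback.snd f g) := by
  have iso_inv : ∀ {X X' T : Scheme.{u}} (f : X ⟶ T) (e' : X' ≅ X),
      RelProj.IsProjective f → RelProj.IsProjective (e'.hom ≫ f) := by
    intro X X' T f e' hf
    obtain ⟨𝒮, P, p, chart, e, hgen, hft, hP, he⟩ := hf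
    exact ⟨𝒮, P, p, chart, e' ≪≫ e, hgen, hft, hP, by rw [Iso.trans_hom, Category.assoc, he]⟩
  intro s'
  obtain ⟨U, hsU, hU⟩ := hf (g.base s')
  refine ⟨g ⁻¹ᵁ U, hsU, ?_⟩
  have H0 : IsPullback (pullback.fst f g) (pullback.snd f g) f g := IsPullback.of_hasPullback f g
  have hUY : (pullback.snd f g) ⁻¹ᵁ (g ⁻¹ᵁ U) =
      (pullback.fst f g) ⁻¹ᵁ (f ⁻¹ᵁ U) ⊓ (pullback.snd f g) ⁻¹ᵁ (g ⁻¹ᵁ U) := by
    refine (inf_of_le_right ?_).symm
    rw [← Scheme.Hom.comp_preimage, ← Scheme.Hom.comp_preimage, pullback.condition]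
  have H1 := Scheme.Hom.isPullback_resLE H0 (le_refl (g ⁻¹ᵁ U)) (le_refl (f ⁻¹ᵁ U)) hUY
  have hproj := Groth.Agent.S4421.result (f ∣_ U) hU (g ∣_ U)
  have e1 : (pullback.snd f g).resLE (g ⁻¹ᵁ U) ((pullback.snd f g) ⁻¹ᵁ (g ⁻¹ᵁ U)) le_rfl =
      pullback.snd f g ∣_ (g ⁻¹ᵁ U) := Scheme.Hom.resLE_eq_morphismRestrict _
  have e2 : f.resLE U (f ⁻¹ᵁ U) le_rfl = f ∣_ U := Scheme.Hom.resLE_eq_morphismRestrict _
  have e3 : g.resLE U (g ⁻¹ᵁ U) le_rfl = g ∣_ U := Scheme.Hom.resLE_eq_morphismRestrict _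
  rw [e2, e3] at H1
  have h2 := iso_inv _ H1.isoPullback hproj
  rw [IsPullback.isoPullback_hom_snd] at h2
  rw [← e1]
  exact h2

end Groth.Agent.S9713
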