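import Groth.Statements.S9720
import Groth.Agent.Lib.Helper1.FieldUnram
import Groth.Agent.S9697

set_option autoImplicit false
universe u
open CategoryTheory CategoryTheory.Limits AlgebraicGeometry
open Mor

namespace Groth.Agent.S9720

set_option backward.isDefEq.respectTransparency.types false in
theorem fu_of_local {X S : Scheme.{u}} (f : X ⟶ S)
    (key : ∀ x : X, ∃ U : X.Opens, x ∈ U ∧ FormallyUnramified (U.ι ≫ f)) :
    FormallyUnramified f := by
  choose U hxU hU using key
  apply IsZariskiLocalAtSource.of_iSup_eq_top (P := @FormallyUnramified) U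
  · rw [eq_top_iff]
    intro x _
    exact TopologicalSpace.Opens.mem_iSup.mpr ⟨x, hxU x⟩
  · exact hU

/-- Let f : X ⟶ S be locally of finite type such that for every point s of S the fibre X_s is isomorphic
over κ(s) to a coproduct of schemes Spec K_i, each K_i a finite separable extension field of κ(s).
In that case f is formally unramified (so unramified, being locally of finite type). -/
theorem result {X S : Scheme.{u}} (f : X ⟶ S) [LocallyOfFiniteType f]
    (H : ∀ s : S, ∃ (ι : Type u) (K : ι → Type u) (_ : ∀ i, Field (K i))
      (_ : ∀ i, Algebra (S.residueField s) (K i)),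
      (∀ i, FiniteDimensional (S.residueField s) (K i) ∧ Algebra.IsSeparable (S.residueField s) (K i)) ∧
        ∃ e : f.fiber s ≅ ∐ (fun i => Spec (CommRingCat.of (K i))),
          e.hom ≫ Sigma.desc (fun i => Spec.map (CommRingCat.ofHom (algebraMap (S.residueField s) (K i)))) =
            f.fiberToSpecResidueField s) :
    FormallyUnramified f := by
  have key : ∀ x : X, ∃ U : X.Opens, x ∈ U ∧ FormallyUnramified (U.ι ≫ f) := by
    intro x
    obtain ⟨ι, K, iF, iA, h, e, he⟩ := H (f x)
    obtain ⟨h1, -⟩ := Groth.Agent.H1.FieldUnram.formallyUnramified_sigmaDesc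
      (S.residueField (f x)) ι K h
    have hfu : FormallyUnramified (f.fiberToSpecResidueField (f x)) := by
      rw [← he]
      exact MorphismProperty.comp_mem (W := @FormallyUnramified) _ _ inferInstance h1
    have := (Groth.Agent.S9697.result f (S.fromSpecResidueField (f x)) (f.asFiber x)).mp
      ⟨⊤, trivial, MorphismProperty.comp_mem (W := @FormallyUnramified) _ _ inferInstance hfu⟩
    obtain ⟨U, hU, hUf⟩ := this
    refine ⟨U, ?_, hUf⟩
    have h2 : (pullback.fst f (S.fromSpecResidueField (f x))).base (f.asFiber x) = x :=
      f.fiberι_asFiber x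
    rwa [h2] at hU
  exact fu_of_local f key

end Groth.Agent.S9720
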