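import Groth.Statements.S9721
import Mathlib

set_option autoImplicit false
universe u
open CategoryTheory AlgebraicGeometry
open Mor

namespace Groth.Agent.S9721

open CategoryTheory AlgebraicGeometry in
set_option backward.isDefEq.respectTransparency.types false in
/-- ring-hom smoothness of `appLE` from smoothness of the restriction -/
lemma smooth_appLE_of_smooth_ι_comp {X S : Scheme.{u}} (f : X ⟶ S) (V : S.Opens) (hV : IsAffineOpen V)
    (U : X.Opens) (hU : IsAffineOpen U) (e : U ≤ f ⁻¹ᵁ V) :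
    Smooth (U.ι ≫ f) ↔ (f.appLE V U e).hom.Smooth := by
  have : IsAffine U := hU
  have : IsAffine V := hV
  have h1 : Smooth (U.ι ≫ f) ↔ Smooth (f.resLE V U e) := by
    rw [← Scheme.Hom.resLE_comp_ι f e]
    exact ⟨fun h => MorphismProperty.of_postcomp (W := @Smooth) (W' := @IsOpenImmersion)
      (f.resLE V U e) V.ι inferInstance h, fun h => inferInstance⟩
  rw [h1, HasRingHomProperty.iff_of_isAffine (P := @Smooth)]
  exact RingHom.Smooth.propertyIsLocal.respectsIso.arrow_mk_iso_iff (arrowResLEAppIso f V U e)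

open CategoryTheory AlgebraicGeometry in
set_option backward.isDefEq.respectTransparency.types false in
lemma exists_standardSmooth_of_smooth {X S : Scheme.{u}} (f : X ⟶ S) (x : X)
    (V : S.Opens) (U' : X.Opens) (hU' : IsAffineOpen U') (hxU' : x ∈ U') (e : U' ≤ f ⁻¹ᵁ V)
    (hsm : (f.appLE V U' e).hom.Smooth) :
    ∃ (U : X.Opens) (_ : IsAffineOpen U) (_ : x ∈ U) (e : U ≤ f ⁻¹ᵁ V),
        (f.appLE V U e).hom.IsStandardSmooth := by
  rw [RingHom.smooth_iff_locally_isStandardSmooth,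
    RingHom.locally_iff_isLocalization RingHom.isStandardSmooth_respectsIso] at hsm
  obtain ⟨s, hs, hfs⟩ := hsm
  apply iSup_basicOpen_of_span_eq_top at hs
  have : x ∈ (⨆ i ∈ s, X.basicOpen i) := hs.symm ▸ hxU'
  have : ∃ r ∈ s, x ∈ X.basicOpen r := by simpa using this
  obtain ⟨r, hr, hrs⟩ := this
  refine ⟨X.basicOpen r, hU'.basicOpen r, hrs, (X.basicOpen_le r).trans e, ?_⟩
  rw [← f.appLE_map e (homOfLE (X.basicOpen_le r)).op]
  have : IsLocalization.Away r Γ(X, X.basicOpen r) := hU'.isLocalization_basicOpen r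
  exact hfs r hr _

/-- Let f : X ⟶ S be a morphism, x a point of X and V an affine open neighbourhood of f(x) in S. Then f
is smooth on some open neighbourhood of x if and only if there is an affine open neighbourhood U of
x with f(U) ⊆ V such that the induced ring map Γ(S, V) ⟶ Γ(X, U) is standard smooth. -/
theorem result {X S : Scheme.{u}} (f : X ⟶ S) (x : X)
    (V : S.Opens) (hV : IsAffineOpen V) (hxV : f x ∈ V) :
    (∃ W : X.Opens, x ∈ W ∧ Smooth (W.ι ≫ f)) ↔
      ∃ (U : X.Opens) (_ : IsAffineOpen U) (_ : x ∈ U) (e : U ≤ f ⁻¹ᵁ V),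
        (f.appLE V U e).hom.IsStandardSmooth := by
  constructor
  · rintro ⟨W, hxW, hW⟩
    obtain ⟨_, ⟨U', hU', rfl⟩, hxU', hU'sub⟩ :=
      X.isBasis_affineOpens.exists_subset_of_mem_open (a := x)
        (show x ∈ ((W ⊓ f ⁻¹ᵁ V : X.Opens) : Set X) from ⟨hxW, hxV⟩) (W ⊓ f ⁻¹ᵁ V).isOpen
    obtain ⟨U', hU', hxU', hU'sub⟩ : ∃ U' : X.Opens, IsAffineOpen U' ∧ x ∈ U' ∧ U' ≤ W ⊓ f ⁻¹ᵁ V :=
      ⟨U', hU', hxU', hU'sub⟩
    have e : U' ≤ f ⁻¹ᵁ V := hU'sub.trans inf_le_right
    have hsm' : Smooth (U'.ι ≫ f) := by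
      have : U'.ι = X.homOfLE (hU'sub.trans inf_le_left) ≫ W.ι := (X.homOfLE_ι _).symm
      rw [this, Category.assoc]
      infer_instance
    exact exists_standardSmooth_of_smooth f x V U' hU' hxU' e
      ((smooth_appLE_of_smooth_ι_comp f V hV U' hU' e).mp hsm')
  · rintro ⟨U, hU, hxU, e, hst⟩
    exact ⟨U, hxU, (smooth_appLE_of_smooth_ι_comp f V hV U hU e).mpr hst.smooth⟩

end Groth.Agent.S9721
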