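import Groth.Statements.S9722
import Mathlib

set_option autoImplicit false
universe u
open CategoryTheory AlgebraicGeometry
open Mor

namespace Groth.Agent.S9722

open CategoryTheory AlgebraicGeometry in
set_option backward.isDefEq.respectTransparency.types false in
lemma etale_appLE_of_etale_ι_comp {X S : Scheme.{u}} (f : X ⟶ S) (V : S.Opens) (hV : IsAffineOpen V)
    (U : X.Opens) (hU : IsAffineOpen U) (e : U ≤ f ⁻¹ᵁ V) :
    Etale (U.ι ≫ f) ↔ (f.appLE V U e).hom.Etale := by
  have : IsAffine U := hU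
  have : IsAffine V := hV
  have h1 : Etale (U.ι ≫ f) ↔ Etale (f.resLE V U e) := by
    rw [← Scheme.Hom.resLE_comp_ι f e]
    exact ⟨fun h => MorphismProperty.of_postcomp (W := @Etale) (W' := @IsOpenImmersion)
      (f.resLE V U e) V.ι inferInstance h, fun h => inferInstance⟩
  rw [h1, HasRingHomProperty.iff_of_isAffine (P := @Etale)]
  exact RingHom.Etale.propertyIsLocal.respectsIso.arrow_mk_iso_iff (arrowResLEAppIso f V U e)

open CategoryTheory AlgebraicGeometry in
set_option backward.isDefEq.respectTransparency.types false in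
lemma exists_standardEtale_of_etale {X S : Scheme.{u}} (f : X ⟶ S) (x : X)
    (V : S.Opens) (U' : X.Opens) (hU' : IsAffineOpen U') (hxU' : x ∈ U') (e : U' ≤ f ⁻¹ᵁ V)
    (het : (f.appLE V U' e).hom.Etale) :
    ∃ (U : X.Opens) (_ : IsAffineOpen U) (_ : x ∈ U) (e : U ≤ f ⁻¹ᵁ V),
        letI := (f.appLE V U e).hom.toAlgebra
        Algebra.IsStandardEtale Γ(S, V) Γ(X, U) := by
  algebraize [(f.appLE V U' e).hom]
  let p := hU'.primeIdealOf ⟨x, hxU'⟩
  have hp : hU'.fromSpec p = x := hU'.fromSpec_primeIdealOf ⟨x, hxU'⟩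
  have : Algebra.FormallyEtale Γ(S, V) (Localization.AtPrime p.asIdeal) :=
    Algebra.FormallyEtale.comp Γ(S, V) Γ(X, U') (Localization.AtPrime p.asIdeal)
  obtain ⟨r, hrp, hst⟩ := Algebra.IsEtaleAt.exists_isStandardEtale (R := Γ(S, V)) p.asIdeal
  have hxr : x ∈ X.basicOpen r := by
    have h1 : p ∈ hU'.fromSpec ⁻¹ᵁ X.basicOpen r := by
      rw [hU'.fromSpec_preimage_basicOpen]; exact hrp
    have h2 : hU'.fromSpec p ∈ X.basicOpen r := h1
    rwa [hp] at h2
  refine ⟨X.basicOpen r, hU'.basicOpen r, hxr, (X.basicOpen_le r).trans e, ?_⟩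
  letI := (f.appLE V (X.basicOpen r) ((X.basicOpen_le r).trans e)).hom.toAlgebra
  have hloc : IsLocalization.Away r Γ(X, X.basicOpen r) := hU'.isLocalization_basicOpen r
  have hst' : IsScalarTower Γ(S, V) Γ(X, U') Γ(X, X.basicOpen r) := by
    apply IsScalarTower.of_algebraMap_eq'
    rw [RingHom.algebraMap_toAlgebra, RingHom.algebraMap_toAlgebra,
      ← f.appLE_map e (homOfLE (X.basicOpen_le r)).op]
    rfl
  let eq : Localization.Away r ≃ₐ[Γ(S, V)] Γ(X, X.basicOpen r) :=
    (IsLocalization.algEquiv (Submonoid.powers r) (Localization.Away r)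
      Γ(X, X.basicOpen r)).restrictScalars Γ(S, V)
  exact Algebra.IsStandardEtale.of_equiv eq

/-- Let f : X ⟶ S be a morphism, x a point of X and V an affine open neighbourhood of f(x) in S. Then f
is étale on some open neighbourhood of x if and only if there is an affine open neighbourhood U of x
with f(U) ⊆ V such that Γ(X, U) is a standard étale algebra over Γ(S, V) through the induced ring
map. -/
theorem result {X S : Scheme.{u}} (f : X ⟶ S) (x : X)
    (V : S.Opens) (hV : IsAffineOpen V) (hxV : f x ∈ V) :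
    (∃ W : X.Opens, x ∈ W ∧ Etale (W.ι ≫ f)) ↔
      ∃ (U : X.Opens) (_ : IsAffineOpen U) (_ : x ∈ U) (e : U ≤ f ⁻¹ᵁ V),
        letI := (f.appLE V U e).hom.toAlgebra
        Algebra.IsStandardEtale Γ(S, V) Γ(X, U) := by
  constructor
  · rintro ⟨W, hxW, hW⟩
    obtain ⟨_, ⟨U', hU', rfl⟩, hxU', hU'sub⟩ :=
      X.isBasis_affineOpens.exists_subset_of_mem_open (a := x)
        (show x ∈ ((W ⊓ f ⁻¹ᵁ V : X.Opens) : Set X) from ⟨hxW, hxV⟩) (W ⊓ f ⁻¹ᵁ V).isOpen
    obtain ⟨U', hU', hxU', hU'sub⟩ : ∃ U' : X.Opens, IsAffineOpen U' ∧ x ∈ U' ∧ U' ≤ W ⊓ f ⁻¹ᵁ V :=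
      ⟨U', hU', hxU', hU'sub⟩
    have e : U' ≤ f ⁻¹ᵁ V := hU'sub.trans inf_le_right
    have hsm' : Etale (U'.ι ≫ f) := by
      have : U'.ι = X.homOfLE (hU'sub.trans inf_le_left) ≫ W.ι := (X.homOfLE_ι _).symm
      rw [this, Category.assoc]
      infer_instance
    exact exists_standardEtale_of_etale f x V U' hU' hxU' e
      ((etale_appLE_of_etale_ι_comp f V hV U' hU' e).mp hsm')
  · rintro ⟨U, hU, hxU, e, hst⟩
    refine ⟨U, hxU, (etale_appLE_of_etale_ι_comp f V hV U hU e).mpr ?_⟩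
    letI := (f.appLE V U e).hom.toAlgebra
    have : Algebra.Etale Γ(S, V) Γ(X, U) := inferInstance
    exact this

end Groth.Agent.S9722
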