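import Groth.Statements.S9726
import Groth.Agent.Lib.Helper3.DescSh.Rep
import Groth.Agent.Lib.Helper5.Descent.SepLQFDescent

set_option autoImplicit false
open CategoryTheory CategoryTheory.Limits AlgebraicGeometry Opposite
universe u
open Desc

namespace Groth.Agent.S9726

/-- Single flat, surjective, locally finitely presented cover; a general fppf covering reduces to this
by taking the disjoint union: Let p : X ⟶ S be flat, surjective and locally of finite presentation.
Every descent datum for schemes relative to p whose underlying scheme is separated, locally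
quasi-finite and locally of finite type over X is effective: it is isomorphic to the canonical
descent datum of some scheme over S. (Descent data are in functor-of-points form; locally of finite
type is part of the book's notion of locally quasi-finite.) -/
theorem result {X S : Scheme.{u}} (p : X ⟶ S) [Flat p] [Surjective p] [LocallyOfFinitePresentation p]
    (D : Desc.SchDD p) [IsSeparated D.obj.hom] [LocallyQuasiFinite D.obj.hom] [LocallyOfFiniteType D.obj.hom] :
    ∃ U : Over S, Nonempty ((Desc.toDD p).obj U ≅ D) := by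
  let D' : Desc.SchDDFam (fun _ : PUnit.{u + 1} => p) := (Desc.SchDDFam.ofSchDD.{u} p).obj D
  have sq := Groth.Agent.H3.DescSh.isPullback_kap D' PUnit.unit
  have hb1 : AlgSp.RepWith @Flat ((AlgSp.yon S).map
      (Groth.Agent.H3.DescSh.toBase (Groth.Agent.H3.DescSh.XO (fun _ : PUnit.{u + 1} => p) PUnit.unit))) :=
    (AlgSp.repWith_yon_map_iff @Flat _).2 (inferInstanceAs (Flat p))
  have hb2 : AlgSp.RepWith @LocallyOfFinitePresentation ((AlgSp.yon S).map
      (Groth.Agent.H3.DescSh.toBase (Groth.Agent.H3.DescSh.XO (fun _ : PUnit.{u + 1} => p) PUnit.unit))) :=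
    (AlgSp.repWith_yon_map_iff @LocallyOfFinitePresentation _).2
      (inferInstanceAs (LocallyOfFinitePresentation p))
  have hb3 : AlgSp.RepWith @Surjective ((AlgSp.yon S).map
      (Groth.Agent.H3.DescSh.toBase (Groth.Agent.H3.DescSh.XO (fun _ : PUnit.{u + 1} => p) PUnit.unit))) :=
    (AlgSp.repWith_yon_map_iff @Surjective _).2 (inferInstanceAs (Surjective p))
  have h1 : AlgSp.RepWith @IsSeparated ((AlgSp.yon S).map (Groth.Agent.H3.DescSh.dO D' PUnit.unit)) :=
    (AlgSp.repWith_yon_map_iff @IsSeparated _).2 (inferInstanceAs (IsSeparated D.obj.hom))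
  have h2 : AlgSp.RepWith @LocallyQuasiFinite
      ((AlgSp.yon S).map (Groth.Agent.H3.DescSh.dO D' PUnit.unit)) :=
    (AlgSp.repWith_yon_map_iff @LocallyQuasiFinite _).2 (inferInstanceAs (LocallyQuasiFinite D.obj.hom))
  have h3 : AlgSp.RepWith @LocallyOfFiniteType
      ((AlgSp.yon S).map (Groth.Agent.H3.DescSh.dO D' PUnit.unit)) :=
    (AlgSp.repWith_yon_map_iff @LocallyOfFiniteType _).2
      (inferInstanceAs (LocallyOfFiniteType D.obj.hom))
  have hrep := Groth.Agent.H5.Descent.representable_of_baseChange_sepLQF hb1 hb2 hb3 sq h1 h2 h3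
  obtain ⟨W, snd, fst, sqW⟩ := hrep (𝟙 ((AlgSp.yon S).obj (Over.mk (𝟙 S))))
  have hiso : IsIso fst := sqW.isIso_fst_of_isIso
  obtain ⟨Y, ⟨e⟩⟩ := Groth.Agent.H3.DescSh.isEffective_of_iso D' (asIso fst)
  exact ⟨Y, ⟨(Desc.SchDDFam.toSchDD.{u} p).mapIso e⟩⟩

end Groth.Agent.S9726
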