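import Groth.Statements.S9734
import Mathlib

set_option autoImplicit false
universe u
open FlatMor

namespace Groth.Agent.S9734

open AlgebraicGeometry CategoryTheory Limits

open Polynomial IntermediateField in
/-- common denominators -/
lemma exists_common_denom {R K : Type*} [CommRing R] [Field K] [Algebra R K]
    (hfrac : ∀ c : K, ∃ a b : R, algebraMap R K b ≠ 0 ∧ c * algebraMap R K b = algebraMap R K a)
    {ι : Type*} (s : Finset ι) (c : ι → K) :
    ∃ b : R, algebraMap R K b ≠ 0 ∧ ∀ i ∈ s, ∃ a : R, c i * algebraMap R K b = algebraMap R K a := by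
  classical
  induction s using Finset.induction_on with
  | empty => exact ⟨1, by simp, by simp⟩
  | insert j s hj ih =>
    obtain ⟨b, hb, hbs⟩ := ih
    obtain ⟨aj, bj, hbj, haj⟩ := hfrac (c j)
    refine ⟨b * bj, by simp [hb, hbj], ?_⟩
    intro i hi
    rcases Finset.mem_insert.mp hi with rfl | hi
    · exact ⟨aj * b, by rw [map_mul, map_mul, ← haj]; ring⟩
    · obtain ⟨a, ha⟩ := hbs i hi
      exact ⟨a * bj, by rw [map_mul, map_mul, ← ha]; ring⟩

open Polynomial IntermediateField in
lemma exists_standardEtalePair {R K k : Type*} [CommRing R] [Field K] [Field k] [Algebra R K]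
    [Algebra K k] [Algebra R k] [IsScalarTower R K k] [FiniteDimensional K k]
    [Algebra.IsSeparable K k]
    (hfrac : ∀ c : K, ∃ a b : R, algebraMap R K b ≠ 0 ∧ c * algebraMap R K b = algebraMap R K a) :
    ∃ (P : StandardEtalePair R) (θ : k), P.HasMap θ ∧ K⟮θ⟯ = ⊤ := by
  obtain ⟨θ, hθ⟩ := Field.exists_primitive_element K k
  have hint : IsIntegral K θ := Algebra.IsIntegral.isIntegral θ
  set m := minpoly K θ with hm
  obtain ⟨b, hb, hbs⟩ := exists_common_denom hfrac (Finset.range m.natDegree) (fun i => m.coeff i)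
  set β := algebraMap R K b with hβ
  set θ' : k := β • θ with hθ'
  have hmin : minpoly K θ' = m.scaleRoots β := IsIntegrallyClosed.minpoly_smul hb hint
  have hmonic : (m.scaleRoots β).Monic := by
    rw [monic_scaleRoots_iff]; exact minpoly.monic hint
  have hlift : m.scaleRoots β ∈ Polynomial.lifts (algebraMap R K) := by
    rw [Polynomial.lifts_iff_coeff_lifts]
    intro i
    rw [coeff_scaleRoots]
    rcases lt_trichotomy i m.natDegree with hi | hi | hi
    · obtain ⟨a, ha⟩ := hbs i (Finset.mem_range.mpr hi)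
      have : m.natDegree - i = (m.natDegree - i - 1) + 1 := by omega
      rw [this, pow_succ, ← mul_assoc, mul_right_comm, ha, ← map_pow, ← map_mul]
      exact ⟨_, rfl⟩
    · subst hi
      rw [Nat.sub_self, pow_zero, mul_one]
      have : m.coeff m.natDegree = 1 := minpoly.monic hint
      rw [this]
      exact ⟨1, map_one _⟩
    · rw [coeff_eq_zero_of_natDegree_lt hi, zero_mul]
      exact ⟨0, map_zero _⟩
  obtain ⟨G, hG, -, hGm⟩ := Polynomial.lifts_and_natDegree_eq_and_monic hlift hmonic
  have haeval : ∀ p : R[X], aeval θ' p = aeval θ' (p.map (algebraMap R K)) := by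
    intro p
    rw [aeval_map_algebraMap]
  have hsep : (minpoly K θ').Separable := Algebra.IsSeparable.isSeparable K θ'
  refine ⟨⟨G, hGm, derivative G, ⟨1, 0, 1, by simp⟩⟩, θ', ⟨?_, ?_⟩, ?_⟩
  · show aeval θ' G = 0
    rw [haeval, hG, ← hmin, minpoly.aeval]
  · show IsUnit (aeval θ' (derivative G))
    rw [haeval, ← derivative_map, hG, ← hmin]
    exact (hsep.aeval_derivative_ne_zero (minpoly.aeval K θ')).isUnit
  · rw [eq_top_iff, ← hθ, adjoin_simple_le_iff]
    have : θ = β⁻¹ • θ' := by rw [hθ', smul_smul, inv_mul_cancel₀ hb, one_smul]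
    rw [this]
    exact IntermediateField.smul_mem _ (mem_adjoin_simple_self K θ')

/-- every element of the residue field at a point of an affine open is a fraction of sections -/
lemma exists_frac_evaluation {S : Scheme.{u}} {W : S.Opens} (hW : IsAffineOpen W) (s : S)
    (hs : s ∈ W) (c : S.residueField s) :
    ∃ a b : Γ(S, W), S.evaluation W s hs b ≠ 0 ∧
      c * S.evaluation W s hs b = S.evaluation W s hs a := by
  obtain ⟨t, rfl⟩ := S.residue_surjective s c
  letI := S.presheaf.algebra_section_stalk ⟨s, hs⟩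
  haveI := hW.isLocalization_stalk ⟨s, hs⟩
  obtain ⟨⟨a, b⟩, hab⟩ := IsLocalization.surj (hW.primeIdealOf ⟨s, hs⟩).asIdeal.primeCompl t
  have hu : IsUnit (algebraMap Γ(S, W) (S.presheaf.stalk s) b) :=
    IsLocalization.map_units (S.presheaf.stalk s) b
  have halg : ∀ x : Γ(S, W), algebraMap Γ(S, W) (S.presheaf.stalk s) x =
      S.presheaf.germ W s hs x := fun x => rfl
  refine ⟨a, b, ?_, ?_⟩
  · have : IsUnit (S.residue s (S.presheaf.germ W s hs b)) := by
      rw [← halg]; exact hu.map (S.residue s).hom
    exact this.ne_zero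
  · show S.residue s t * S.residue s (S.presheaf.germ W s hs b) =
      S.residue s (S.presheaf.germ W s hs a)
    rw [← map_mul, ← halg, ← halg]
    exact congrArg _ hab

open AlgebraicGeometry CategoryTheory Limits in
/-- Let S be a scheme, s a point of S and k a finite separable field extension of the residue field
κ(s). Then there is an étale neighbourhood (U, u) ⟶ (S, s) whose residue field extension κ(u)/κ(s)
is isomorphic to k/κ(s). -/
theorem result (S : Scheme.{u}) (s : S) (k : Type u) [Field k]
    [Algebra (S.residueField s) k] [FiniteDimensional (S.residueField s) k] [Algebra.IsSeparable (S.residueField s) k] :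
    ∃ (U : Scheme.{u}) (g : U ⟶ S) (u : U) (hu : g u = s), Etale g ∧
      letI := ((S.residueFieldCongr hu).inv ≫ g.residueFieldMap u).hom.toAlgebra
      Nonempty (k ≃ₐ[S.residueField s] U.residueField u) := by
  obtain ⟨_, ⟨W, hW, rfl⟩, hs, -⟩ := S.isBasis_affineOpens.exists_subset_of_mem_open
    (Set.mem_univ s) isOpen_univ
  replace hW : IsAffineOpen W := hW
  letI algRK : Algebra Γ(S, W) (S.residueField s) := (S.evaluation W s hs).hom.toAlgebra
  letI algRk : Algebra Γ(S, W) k :=
    ((algebraMap (S.residueField s) k).comp (S.evaluation W s hs).hom).toAlgebra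
  haveI : IsScalarTower Γ(S, W) (S.residueField s) k := IsScalarTower.of_algebraMap_eq (fun _ => rfl)
  obtain ⟨P, θ, hmap, htop⟩ := exists_standardEtalePair (R := Γ(S, W)) (K := S.residueField s)
    (k := k) (fun c => exists_frac_evaluation hW s hs c)
  let φ : P.Ring →ₐ[Γ(S, W)] k := P.lift θ hmap
  let g : Spec (.of P.Ring) ⟶ S :=
    Spec.map (CommRingCat.ofHom (algebraMap Γ(S, W) P.Ring)) ≫ hW.fromSpec
  let h : Spec (.of k) ⟶ Spec (.of P.Ring) := Spec.map (CommRingCat.ofHom φ.toRingHom)
  have hev : Spec.map (S.evaluation W s hs) ≫ hW.fromSpec = S.fromSpecResidueField s := by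
    rw [Scheme.fromSpecResidueField, ← hW.fromSpecStalk_eq_fromSpecStalk hs,
      IsAffineOpen.fromSpecStalk, Scheme.evaluation, Spec.map_comp, Category.assoc]
  obtain ⟨ι, hι⟩ : ∃ ι : S.residueField s ⟶ CommRingCat.of k,
      ι.hom = algebraMap (S.residueField s) k :=
    ⟨CommRingCat.ofHom (algebraMap (S.residueField s) k), rfl⟩
  have hcomp : CommRingCat.ofHom (algebraMap Γ(S, W) P.Ring) ≫ CommRingCat.ofHom φ.toRingHom =
      S.evaluation W s hs ≫ ι := by
    ext x
    show φ (algebraMap _ _ x) = ι.hom (S.evaluation W s hs x)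
    rw [hι]
    exact φ.commutes x
  have key : h ≫ g = Spec.map ι ≫ S.fromSpecResidueField s := by
    calc h ≫ g = Spec.map (CommRingCat.ofHom (algebraMap Γ(S, W) P.Ring) ≫
          CommRingCat.ofHom φ.toRingHom) ≫ hW.fromSpec := by
          simp only [h, g, Spec.map_comp, Category.assoc]
      _ = _ := by rw [hcomp, Spec.map_comp, Category.assoc, hev]
  let u : Spec (.of P.Ring) := h (IsLocalRing.closedPoint k)
  have hu : g u = s := by
    show (h ≫ g) (IsLocalRing.closedPoint k) = s
    rw [key]
    exact (Scheme.Hom.comp_apply (Spec.map ι) (S.fromSpecResidueField s) _).trans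
      (Scheme.fromSpecResidueField_apply s _)
  let ψ : (Spec (.of P.Ring)).residueField u ⟶ .of k :=
    Scheme.descResidueField (Scheme.stalkClosedPointTo h)
  have hψ : Spec.map ψ ≫ (Spec (.of P.Ring)).fromSpecResidueField u = h :=
    Scheme.descResidueField_stalkClosedPointTo_fromSpecResidueField k _ h
  have hcompat : (S.residueFieldCongr hu).inv ≫ g.residueFieldMap u ≫ ψ = ι := by
    apply Spec.map_injective
    rw [← cancel_mono (S.fromSpecResidueField s), ← key, Spec.map_comp, Spec.map_comp,
      Category.assoc, Category.assoc, Scheme.residueFieldCongr_inv,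
      Scheme.residueFieldCongr_fromSpecResidueField,
      Scheme.Hom.SpecMap_residueFieldMap_fromSpecResidueField, ← Category.assoc, hψ]
  have hθ : ∃ y, ψ y = θ := by
    refine ⟨(Spec (.of P.Ring)).residue u ((Spec (.of P.Ring)).presheaf.germ ⊤ u trivial
      ((Scheme.ΓSpecIso (.of P.Ring)).inv P.X)), ?_⟩
    have h1 : (Spec (.of P.Ring)).residue u ≫ ψ = Scheme.stalkClosedPointTo h :=
      Scheme.residue_descResidueField _
    have h2 : (Spec (.of P.Ring)).presheaf.germ ⊤ u trivial ≫ Scheme.stalkClosedPointTo h =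
        (Scheme.ΓSpecIso (.of P.Ring)).hom ≫ CommRingCat.ofHom φ.toRingHom :=
      Scheme.germ_stalkClosedPointTo_Spec _
    have h3 : (Scheme.ΓSpecIso (.of P.Ring)).inv ≫
        (Spec (.of P.Ring)).presheaf.germ ⊤ u trivial ≫ (Spec (.of P.Ring)).residue u ≫ ψ =
        CommRingCat.ofHom φ.toRingHom := by
      rw [h1, h2, Iso.inv_hom_id_assoc]
    have h4 := congr($h3 P.X)
    refine h4.trans ?_
    exact P.lift_X θ hmap
  refine ⟨Spec (.of P.Ring), g, u, hu, ?_, ?_⟩
  · haveI : Etale (Spec.map (CommRingCat.ofHom (algebraMap Γ(S, W) P.Ring))) := by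
      rw [HasRingHomProperty.Spec_iff (P := @Etale)]
      exact RingHom.etale_algebraMap.mpr inferInstance
    infer_instance
  · letI := ((S.residueFieldCongr hu).inv ≫ g.residueFieldMap u).hom.toAlgebra
    let ψ' : (Spec (.of P.Ring)).residueField u →ₐ[S.residueField s] k :=
      { ψ.hom with
        commutes' := fun r => by
          show ψ.hom (((S.residueFieldCongr hu).inv ≫ g.residueFieldMap u).hom r) =
            algebraMap _ _ r
          rw [← hι, ← hcompat]
          rfl }
    have hsurj : Function.Surjective ψ' := by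
      rw [← AlgHom.fieldRange_eq_top, eq_top_iff, ← htop,
        IntermediateField.adjoin_simple_le_iff]
      obtain ⟨y, hy⟩ := hθ
      exact ⟨y, hy⟩
    exact ⟨(AlgEquiv.ofBijective ψ' ⟨ψ'.toRingHom.injective, hsurj⟩).symm⟩

end Groth.Agent.S9734
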