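import Groth.Statements.S9741
import Groth.Agent.Lib.Helper5.Thick.FOThick

set_option autoImplicit false
universe u
open OmegaSh

namespace Groth.Agent.S9741

open AlgebraicGeometry CategoryTheory Limits in
/-- Let a : Z ⟶ Y and b : Y ⟶ X be formally unramified, let (i : Z ⟶ Z', c : Z' ⟶ X) be universal among
first order thickenings of Z relative to X (for a ≫ b), and (j : Y ⟶ Y', d : Y' ⟶ X) likewise for Y
relative to X (for b). Then there is a morphism of thickenings m : Z' ⟶ Y' over X (i ≫ m = a ≫ j and
m ≫ d = c) such that Z ⟶ Y ×_{Y'} Z' (components a and i), together with the projection to Y, is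
universal among first order thickenings of Z relative to Y (for a). The published statement also
asserts an exact sequence of conormal sheaves; this row states only the thickening assertion. -/
theorem result {Z Y X Z' Y' : Scheme.{u}} (a : Z ⟶ Y) (b : Y ⟶ X)
    [FormallyUnramified a] [FormallyUnramified b] (i : Z ⟶ Z') (c : Z' ⟶ X) (hZ : OmegaSh.IsUnivThickening (a ≫ b) i c)
    (j : Y ⟶ Y') (d : Y' ⟶ X) (hY : OmegaSh.IsUnivThickening b j d) :
    ∃ (m : Z' ⟶ Y') (hm : i ≫ m = a ≫ j), m ≫ d = c ∧
      OmegaSh.IsUnivThickening a (pullback.lift a i hm.symm) (pullback.fst j m) := by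
  have hic : i ≫ c = a ≫ b := hZ.2.1
  have hjd : j ≫ d = b := hY.2.1
  obtain ⟨m, ⟨hm1, hm2⟩, -⟩ := hY.2.2 Z Z' i c a hZ.1 hic
  refine ⟨m, hm1, hm2, ?_⟩
  have hℓ_fst : pullback.lift a i hm1.symm ≫ pullback.fst j m = a := pullback.lift_fst _ _ _
  have hℓ_snd : pullback.lift a i hm1.symm ≫ pullback.snd j m = i := pullback.lift_snd _ _ _
  refine ⟨?_, hℓ_fst, ?_⟩
  · -- `snd` is a closed immersion hence mono, so `ℓ` is a base change of `i`
    have hj : MoreMor.IsFirstOrderThickening j := hY.1
    haveI : IsClosedImmersion j := hj.1.1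
    haveI : Mono (pullback.snd j m) := inferInstance
    have hsq : IsPullback (pullback.lift a i hm1.symm) (𝟙 Z) (pullback.snd j m) i := by
      refine IsPullback.of_isLimit' ⟨by rw [Category.id_comp, hℓ_snd]⟩ ?_
      refine PullbackCone.IsLimit.mk _ (fun s => s.snd) ?_ ?_ ?_
      · intro s
        rw [← cancel_mono (pullback.snd j m), Category.assoc, hℓ_snd, s.condition]
      · intro s
        exact Category.comp_id _
      · intro s m' _ h2
        rw [← h2, Category.comp_id]
    exact Groth.Agent.H5.Thick.isFirstOrderThickening_of_isPullback hsq hZ.1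
  · intro T T' t β α ht hw
    obtain ⟨γ, ⟨hγ1, hγ2⟩, hγu⟩ := hZ.2.2 T T' t (β ≫ b) α ht (by
      rw [← Category.assoc, hw, Category.assoc])
    obtain ⟨δ, -, hδu⟩ := hY.2.2 T T' t (β ≫ b) (α ≫ a) ht (by
      rw [← Category.assoc, hw, Category.assoc])
    have e1 : β ≫ j = δ := hδu _ ⟨by rw [← Category.assoc, hw, Category.assoc],
      by rw [Category.assoc, hjd]⟩
    have e2 : γ ≫ m = δ := hδu _ ⟨by rw [← Category.assoc, hγ1, Category.assoc, hm1,
      Category.assoc], by rw [Category.assoc, hm2, hγ2]⟩
    refine ⟨pullback.lift β γ (e1.trans e2.symm), ⟨?_, pullback.lift_fst _ _ _⟩, ?_⟩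
    · apply pullback.hom_ext
      · rw [Category.assoc, pullback.lift_fst, Category.assoc, hℓ_fst, hw]
      · rw [Category.assoc, pullback.lift_snd, Category.assoc, hℓ_snd, hγ1]
    · rintro a'' ⟨h1, h2⟩
      have h3 : a'' ≫ pullback.snd j m = γ := by
        apply hγu
        constructor
        · rw [← Category.assoc, h1, Category.assoc, hℓ_snd]
        · rw [← hm2, Category.assoc, ← Category.assoc (pullback.snd j m), ← pullback.condition,
            Category.assoc, hjd, ← Category.assoc, h2]
      apply pullback.hom_ext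
      · rw [h2, pullback.lift_fst]
      · rw [h3, pullback.lift_snd]

end Groth.Agent.S9741
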