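import Groth.Statements.S9759
import Groth.Agent.Lib.Helper1.IntModelAlg

set_option autoImplicit false
universe u
open FlatMor

namespace Groth.Agent.S9759

open AlgebraicGeometry CategoryTheory Limits TensorProduct

lemma exists_model_flat {A B : Type u} [CommRing A] [CommRing B] [Algebra A B]
    [Algebra.FinitePresentation A B] [Module.Flat A B] :
    ∃ (A₀ B₀ : Type u) (_ : CommRing A₀) (_ : CommRing B₀) (α : A₀ →+* A) (γ : A₀ →+* B₀)
      (β : B₀ →+* B), Algebra.FiniteType ℤ A₀ ∧ γ.FiniteType ∧ γ.Flat ∧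
      IsPushout (CommRingCat.ofHom α) (CommRingCat.ofHom γ)
        (CommRingCat.ofHom (algebraMap A B)) (CommRingCat.ofHom β) := by
  obtain ⟨R₀, hR₀, S₀, _, _, _, _, hfp, hflat, hpo⟩ :=
    Groth.Agent.H1.IntModel.exists_int_model_algebra A B
  refine ⟨R₀, S₀, inferInstance, inferInstance, algebraMap R₀ A, algebraMap R₀ S₀,
    algebraMap S₀ B, (Subalgebra.fg_iff_finiteType R₀).mp hR₀, ?_, ?_, ?_⟩
  · have : Algebra.FiniteType R₀ S₀ := inferInstance
    exact (RingHom.finiteType_algebraMap (A := R₀) (B := S₀)).mpr this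
  · exact (RingHom.flat_algebraMap_iff (R := R₀) (S := S₀)).mpr hflat
  · exact CommRingCat.isPushout_iff_isPushout.mpr hpo

open AlgebraicGeometry CategoryTheory Limits in
/-- Let f : X ⟶ S be a flat morphism of finite presentation between affine schemes. Then f is the base
change of a morphism of finite type f₀ : X₀ ⟶ S₀ between affine schemes with S₀ of finite type over
ℤ and f₀ flat. -/
theorem result {X S : Scheme.{u}} (f : X ⟶ S) [IsAffine X] [IsAffine S] [LocallyOfFinitePresentation f] [Flat f] :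
    ∃ (X₀ S₀ : Scheme.{u}) (f₀ : X₀ ⟶ S₀) (g : S ⟶ S₀) (g' : X ⟶ X₀), IsAffine X₀ ∧ IsAffine S₀ ∧ IsPullback g' f f₀ g ∧
      Algebra.FiniteType ℤ Γ(S₀, ⊤) ∧ LocallyOfFiniteType f₀ ∧ Flat f₀ := by
  have hfp : RingHom.FinitePresentation f.appTop.hom :=
    (HasRingHomProperty.iff_of_isAffine (P := @LocallyOfFinitePresentation)).mp inferInstance
  have hfl : RingHom.Flat f.appTop.hom :=
    (HasRingHomProperty.iff_of_isAffine (P := @Flat)).mp inferInstance
  algebraize [f.appTop.hom]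
  obtain ⟨A₀, B₀, _, _, α, γ, β, hA₀, hγ, hγfl, hpo⟩ :=
    exists_model_flat (A := Γ(S, ⊤)) (B := Γ(X, ⊤))
  have hpo' : IsPushout (CommRingCat.ofHom α) (CommRingCat.ofHom γ) f.appTop (CommRingCat.ofHom β) :=
    hpo
  have sq1 := (isPullback_SpecMap_of_isPushout _ _ _ _ hpo').flip
  have sq2 : IsPullback X.isoSpec.hom f (Spec.map f.appTop) S.isoSpec.hom :=
    IsPullback.of_horiz_isIso ⟨Scheme.isoSpec_hom_naturality f⟩
  have sq3 := sq2.paste_horiz sq1
  refine ⟨Spec (CommRingCat.of B₀), Spec (CommRingCat.of A₀), Spec.map (CommRingCat.ofHom γ),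
    S.isoSpec.hom ≫ Spec.map (CommRingCat.ofHom α), X.isoSpec.hom ≫ Spec.map (CommRingCat.ofHom β),
    inferInstance, inferInstance, sq3, ?_, ?_, ?_⟩
  · exact Algebra.FiniteType.equiv hA₀
      (Scheme.ΓSpecIso (CommRingCat.of A₀)).symm.commRingCatIsoToRingEquiv.toIntAlgEquiv
  · exact (HasRingHomProperty.Spec_iff (P := @LocallyOfFiniteType)).mpr hγ
  · exact (HasRingHomProperty.Spec_iff (P := @Flat)).mpr hγfl

end Groth.Agent.S9759
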