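import Groth.Statements.S9762
import Mathlib
import Groth.Agent.Lib.Helper1.EtLoc3
import Groth.Agent.Lib.Helper1.PBU
import Groth.Agent.Lib.Helper1.QFIsolated

set_option autoImplicit false
universe u
open FlatMor

namespace Groth.Agent.S9762

open AlgebraicGeometry CategoryTheory Limits in
/-- For f : X ⟶ S separated and locally of finite type, and a point s of S such that only finitely many
points of the fibre over s are isolated, some elementary étale neighbourhood (U, u) of (S, s) admits
an open and closed V ⊆ U ×_S X, finite over U, such that no point of the fibre over u lying outside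
V is isolated in that fibre. The published statement also asserts that the complement of V has empty
fibre over u when the fibre over s is finite; this row omits that clause. -/
theorem result {X S : Scheme.{u}} (f : X ⟶ S) [LocallyOfFiniteType f] [IsSeparated f] (s : S)
    (hfin : {x : ↑(f.fiber s) | IsOpen ({x} : Set ↑(f.fiber s))}.Finite) :
    ∃ (U : Scheme.{u}) (g : U ⟶ S) (u : U), Hens2.IsEtaleNbhd g u s ∧
      ∃ V : (pullback f g).Opens, IsClopen (V : Set ↑(pullback f g)) ∧ IsFinite (V.ι ≫ pullback.snd f g) ∧
        ∀ w : ↑((pullback.snd f g).fiber u), (pullback.snd f g).fiberι u w ∉ V →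
          ¬ IsOpen ({w} : Set ↑((pullback.snd f g).fiber u)) := by
  classical
  let F := {x : ↑(f.fiber s) | IsOpen ({x} : Set ↑(f.fiber s))}
  haveI : Finite ↥F := hfin
  -- reindex by a type in `Type`
  let n := Nat.card ↥F
  let en : ↥F ≃ Fin n := Finite.equivFin _
  let x : Fin n → X := fun i => f.fiberι s (en.symm i).1
  have hxs : ∀ i, f (x i) = s := by
    intro i
    have : x i ∈ f ⁻¹' {s} := by
      rw [← f.range_fiberι s]; exact ⟨_, rfl⟩
    exact this
  have hxq : ∀ i, f.QuasiFiniteAt (x i) := fun i =>
    (Groth.Agent.H1.QFIsolated.isOpen_singleton_fiber_iff f s _).mp (en.symm i).2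
  obtain ⟨U, g, u, hg, H⟩ := Groth.Agent.H1.EtLoc.exists_finPart_multi f s x hxs hxq
  choose V v hV using H
  haveI := hg.etale
  refine ⟨U, g, u, ⟨hg.etale, hg.eq, hg.bij⟩, ⨆ i, V i, ⟨?_, (⨆ i, V i).2⟩, ?_, ?_⟩
  · have : ((⨆ i, V i : (pullback f g).Opens) : Set ↑(pullback f g)) = ⋃ i, (V i : Set _) := by
      simp
    rw [this]
    exact isClosed_iUnion_of_finite fun i => (hV i).isClosed
  · exact Groth.Agent.H1.EtLoc.isFinite_iSup _ V fun i => (hV i).finite
  · intro w hw hopen
    set w' := (pullback.snd f g).fiberι u w with hw'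
    have hw'u : pullback.snd f g w' = u := by
      have : w' ∈ (pullback.snd f g) ⁻¹' {u} := by
        rw [← (pullback.snd f g).range_fiberι u]; exact ⟨_, rfl⟩
      exact this
    have hq : (pullback.snd f g).QuasiFiniteAt w' :=
      (Groth.Agent.H1.QFIsolated.isOpen_singleton_fiber_iff _ u w).mp hopen
    have hqx : f.QuasiFiniteAt (pullback.fst f g w') := Groth.Agent.H1.QFIsolated.quasiFiniteAt_of_snd f g w' hq
    have hfx : f (pullback.fst f g w') = s := by
      rw [← Scheme.Hom.comp_apply, pullback.condition, Scheme.Hom.comp_apply, hw'u, hg.eq]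
    -- the corresponding isolated point of the fibre
    let z : f.fiber s := (f.fiberHomeo s).symm ⟨pullback.fst f g w', hfx⟩
    have hz : f.fiberι s z = pullback.fst f g w' := f.fiberι_fiberHomeo_symm s _
    have hzF : z ∈ F := by
      change IsOpen ({z} : Set ↑(f.fiber s))
      rw [Groth.Agent.H1.QFIsolated.isOpen_singleton_fiber_iff, hz]
      exact hqx
    let i := en ⟨z, hzF⟩
    have hxi : x i = pullback.fst f g w' := by
      change f.fiberι s (en.symm (en ⟨z, hzF⟩)).1 = _
      rw [Equiv.symm_apply_apply]
      exact hz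
    have heq : w' = v i := by
      apply Groth.Agent.H1.PBU.eq_of_fst_eq_of_snd_eq
      · rw [hw'u]; exact hg.bij
      · rw [(hV i).fst_eq, hxi]
      · rw [(hV i).snd_eq, hw'u]
    apply hw
    rw [heq]
    exact (le_iSup V i : V i ≤ _) (hV i).mem

end Groth.Agent.S9762
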