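import Groth.Statements.S9777
import Mathlib
import Groth.Agent.Lib.Helper1.FibDimBC

set_option autoImplicit false
universe u
open FlatMor

namespace Groth.Agent.S9777

open AlgebraicGeometry CategoryTheory Limits in
/-- For a finite-type morphism f : X ⟶ Y and its pullback f' : X' ⟶ Y' along any g : Y' ⟶ Y, the Krull
dimension of the fibre of f' over a point y' equals that of the fibre of f over g y'; fibre
dimension commutes with base change. -/
theorem result {X Y X' Y' : Scheme.{u}} (f : X ⟶ Y) [QuasiCompact f] [LocallyOfFiniteType f]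
    (g : Y' ⟶ Y) (f' : X' ⟶ Y') (g' : X' ⟶ X) (hc : IsPullback g' f' f g) (y' : Y') :
    topologicalKrullDim ↑(f'.fiber y') = topologicalKrullDim ↑(f.fiber (g y')) := by
  obtain ⟨r, hr, -⟩ := Groth.Agent.H1.FibDimBC.fiber_isPullback' f g f' g' hc y'
  haveI hlft : LocallyOfFiniteType (f.fiberToSpecResidueField (g y')) :=
    Groth.Agent.H1.Chev.locallyOfFiniteType_fiberToSpecResidueField f _
  have hkey : ∀ z' : f'.fiber y', FlatMor.localDim (f'.fiber y') z' =
      FlatMor.localDim (f.fiber (g y')) (r z') := fun z' =>
    @Groth.Agent.H1.FibDimBC.localDim_eq_of_isPullback_field (Y.residueField (g y'))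
      (Y'.residueField y') _ _
      (g.residueFieldMap y') _ _ (f.fiberToSpecResidueField (g y'))
      (f'.fiberToSpecResidueField y') r hr hlft z'
  have hsurj : Surjective r := by
    haveI : Surjective (Spec.map (g.residueFieldMap y')) := by
      constructor
      intro z
      haveI : Subsingleton (Spec (Y.residueField (g y'))) :=
        inferInstanceAs (Subsingleton (PrimeSpectrum (Y.residueField (g y'))))
      haveI : Nonempty (Spec (Y'.residueField y')) :=
        inferInstanceAs (Nonempty (PrimeSpectrum (Y'.residueField y')))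
      obtain ⟨w⟩ := ‹Nonempty (Spec (Y'.residueField y'))›
      exact ⟨w, Subsingleton.elim _ _⟩
    exact MorphismProperty.of_isPullback (P := @Surjective) hr.flip inferInstance
  rw [Groth.Agent.H3.TopDim.dim_eq_iSup_localDim (X := f'.fiber y'),
    Groth.Agent.H3.TopDim.dim_eq_iSup_localDim (X := f.fiber (g y'))]
  apply le_antisymm
  · apply iSup_le
    intro z'
    rw [hkey z']
    exact le_iSup (fun z : f.fiber (g y') => FlatMor.localDim (f.fiber (g y')) z) (r z')
  · apply iSup_le
    intro z
    obtain ⟨z', rfl⟩ := hsurj.surj z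
    rw [← hkey z']
    exact le_iSup (fun z : f'.fiber y' => FlatMor.localDim (f'.fiber y') z) z'

end Groth.Agent.S9777
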