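import Groth.Statements.S9778
import Mathlib
import Groth.Agent.Lib.Helper1.EtLocCore

set_option autoImplicit false
universe u
open FlatMor

namespace Groth.Agent.S9778

namespace H1.S9778aux

open AlgebraicGeometry CategoryTheory Limits
open Groth.Agent.H1

theorem isFinite_of_le_of_isClosed {P Y : Scheme.{u}} (q : P ⟶ Y) {W V : P.Opens} (hle : W ≤ V)
    (hW : IsClosed (W : Set P)) (hV : IsFinite (V.ι ≫ q)) : IsFinite (W.ι ≫ q) := by
  let j : (W : Scheme.{u}) ⟶ (V : Scheme.{u}) := P.homOfLE hle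
  have hj : j ≫ V.ι = W.ι := P.homOfLE_ι hle
  have hrange : Set.range j = V.ι ⁻¹' (W : Set P) := by
    ext z
    constructor
    · rintro ⟨y, rfl⟩
      change V.ι (j y) ∈ (W : Set P)
      rw [← Scheme.Hom.comp_apply, hj]
      exact y.2
    · intro hz
      let y : ↥(W : Scheme.{u}) := ⟨V.ι z, hz⟩
      refine ⟨y, ?_⟩
      apply V.ι.injective
      have h1 : V.ι (j y) = (j ≫ V.ι) y := rfl
      rw [h1, hj]
      rfl
  haveI : IsClosedImmersion j := by
    apply IsClosedImmersion.of_isPreimmersion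
    rw [hrange]
    exact hW.preimage V.ι.continuous
  rw [← hj, Category.assoc]
  infer_instance

theorem main {X S : Scheme.{u}} (f : X ⟶ S) [LocallyOfFiniteType f] [IsSeparated f] (s : S)
    {ι : Type} [Finite ι] (x : ι → ↑X) (hinj : Function.Injective x) (hs : ∀ i, f (x i) = s) (hx : ∀ i, f.QuasiFiniteAt (x i)) :
    ∃ (U : Scheme.{u}) (g : U ⟶ S) (u : U), Etale g ∧ g u = s ∧
      ∃ (J : ι → Type) (_ : ∀ i, Finite (J i)) (V : ∀ i, J i → (pullback f g).Opens) (v : ∀ i, J i → ↑(pullback f g)),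
        (∀ i j, IsClopen ((V i j : Set ↑(pullback f g)))) ∧
        (∀ i j i' j', ((V i j : Set ↑(pullback f g)) ∩ (V i' j')).Nonempty → i = i' ∧ HEq j j') ∧
        (∀ i j, v i j ∈ V i j ∧ IsFinite ((V i j).ι ≫ pullback.snd f g) ∧ pullback.snd f g (v i j) = u ∧
          (∀ w : ↑(pullback f g), w ∈ V i j → pullback.snd f g w = u → w = v i j) ∧
          (letI := ((pullback.snd f g).residueFieldMap (v i j)).hom.toAlgebra
           IsPurelyInseparable ↑(U.residueField (pullback.snd f g (v i j))) ↑((pullback f g).residueField (v i j))) ∧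
          pullback.fst f g (v i j) = x i) ∧
        (∀ (w : ↑(pullback f g)) (i : ι), pullback.snd f g w = u → pullback.fst f g w = x i → ∃ j, w ∈ V i j) := by
  obtain ⟨U, g, u, hg, hgu, n, idx, V, v, hvinj, H, Hall⟩ := EtLocCore.core f s x hinj hs hx
  haveI : IsSeparated (pullback.snd f g) := inferInstance
  have hVclosed : ∀ k, IsClosed (V k : Set ↑(pullback f g)) := fun k => (H k).1.isClosed
  -- v k ∉ V k' for k' ≠ k
  have hnot : ∀ k k', k' ≠ k → v k ∉ V k' := by
    intro k k' hne hmem
    apply hne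
    apply hvinj
    exact ((H k').1.uniq (v k) hmem (H k).1.snd_eq).symm
  let Wset : Fin n → Set ↑(pullback f g) := fun k =>
    (V k : Set ↑(pullback f g)) ∩ ⋂ k' : {k' : Fin n // k' ≠ k}, ((V k'.1 : Set ↑(pullback f g)))ᶜ
  have hWopen : ∀ k, IsOpen (Wset k) := fun k =>
    (V k).2.inter (isOpen_iInter_of_finite fun k' => (hVclosed k'.1).isOpen_compl)
  have hWclosed : ∀ k, IsClosed (Wset k) := fun k =>
    (hVclosed k).inter (isClosed_iInter fun k' => (V k'.1).2.isClosed_compl)
  let W : Fin n → (pullback f g).Opens := fun k => ⟨Wset k, hWopen k⟩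
  have hWle : ∀ k, W k ≤ V k := fun k z hz => hz.1
  have hvW : ∀ k, v k ∈ W k := by
    intro k
    refine ⟨(H k).1.mem, ?_⟩
    rw [Set.mem_iInter]
    intro k'
    exact hnot k k'.1 k'.2
  have hdisj : ∀ k k', ((W k : Set ↑(pullback f g)) ∩ (W k')).Nonempty → k = k' := by
    rintro k k' ⟨z, hz1, hz2⟩
    by_contra hne
    have h1 : z ∈ ((V k' : Set ↑(pullback f g)))ᶜ := by
      have := Set.mem_iInter.mp hz1.2 ⟨k', fun h => hne h.symm⟩
      exact this
    exact h1 hz2.1
  refine ⟨U, g, u, hg, hgu, fun i => {k : Fin n // idx k = i}, fun i => inferInstance,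
    fun i j => W j.1, fun i j => v j.1, ?_, ?_, ?_, ?_⟩
  · rintro i ⟨k, rfl⟩
    exact ⟨hWclosed k, hWopen k⟩
  · rintro i ⟨k, rfl⟩ i' ⟨k', rfl⟩ h
    have hk : k = k' := hdisj k k' h
    subst hk
    exact ⟨rfl, HEq.rfl⟩
  · rintro i ⟨k, rfl⟩
    obtain ⟨Hk, hfin, hpi⟩ := H k
    refine ⟨hvW k, isFinite_of_le_of_isClosed _ (hWle k) (hWclosed k) Hk.finite, Hk.snd_eq, ?_,
      hpi, Hk.fst_eq⟩
    intro w hw hwu
    exact Hk.uniq w (hWle k hw) hwu
  · intro w i hw1 hw2
    obtain ⟨k, hk, hwk⟩ := Hall w i hw1 hw2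
    exact ⟨⟨k, hk⟩, hwk ▸ hvW k⟩

end H1.S9778aux

open AlgebraicGeometry CategoryTheory Limits in
/-- Let f : X ⟶ S be separated and locally of finite type, s a point of S and x_1, …, x_n pairwise
distinct points of X over s at which f is quasi-finite (isolated points of the fibre). Then there
are an étale morphism g : U ⟶ S with a point u over s and finitely many pairwise disjoint open and
closed subschemes V_{i,j} of X_U = X ×_S U, each finite over U and containing exactly one point
v_{i,j} over u, with v_{i,j} mapping to x_i and κ(v_{i,j}) purely inseparable over κ(u), such that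
every point of X_U over u mapping to some x_i lies in one of the V_{i,j} (so the open and closed
complement W of their union has no point over u mapping to any x_i). -/
theorem result {X S : Scheme.{u}} (f : X ⟶ S) [LocallyOfFiniteType f] [IsSeparated f] (s : S)
    {ι : Type} [Finite ι] (x : ι → ↑X) (hinj : Function.Injective x) (hs : ∀ i, f (x i) = s) (hx : ∀ i, f.QuasiFiniteAt (x i)) :
    ∃ (U : Scheme.{u}) (g : U ⟶ S) (u : U), Etale g ∧ g u = s ∧
      ∃ (J : ι → Type) (_ : ∀ i, Finite (J i)) (V : ∀ i, J i → (pullback f g).Opens) (v : ∀ i, J i → ↑(pullback f g)),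
        (∀ i j, IsClopen ((V i j : Set ↑(pullback f g)))) ∧
        (∀ i j i' j', ((V i j : Set ↑(pullback f g)) ∩ (V i' j')).Nonempty → i = i' ∧ HEq j j') ∧
        (∀ i j, v i j ∈ V i j ∧ IsFinite ((V i j).ι ≫ pullback.snd f g) ∧ pullback.snd f g (v i j) = u ∧
          (∀ w : ↑(pullback f g), w ∈ V i j → pullback.snd f g w = u → w = v i j) ∧
          (letI := ((pullback.snd f g).residueFieldMap (v i j)).hom.toAlgebra
           IsPurelyInseparable ↑(U.residueField (pullback.snd f g (v i j))) ↑((pullback f g).residueField (v i j))) ∧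
          pullback.fst f g (v i j) = x i) ∧
        (∀ (w : ↑(pullback f g)) (i : ι), pullback.snd f g w = u → pullback.fst f g w = x i → ∃ j, w ∈ V i j) := by
  exact H1.S9778aux.main f s x hinj hs hx

end Groth.Agent.S9778
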