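import Groth.Statements.S9782
import Groth.Agent.Lib.Helper8.Brnch.Components
import Groth.Agent.Lib.Helper8.Brnch.GUCrit
import Groth.Agent.Lib.Helper8.Hens.EtaleGU2

set_option autoImplicit false
open CategoryTheory AlgebraicGeometry
universe u

namespace Groth.Agent.S9782

open Groth.Agent.H8 Groth.Agent.H8.Hens in
theorem result (X : Scheme.{u}) (x : X) :
    CAlg2.IsGeomUnibranch ↑(X.presheaf.stalk x) ↔ ∀ (U : Scheme.{u}) (g : U ⟶ X) (u : U), Etale g → g u = x →
      {Z : Set ↑U | Z ∈ irreducibleComponents ↑U ∧ u ∈ Z}.encard = 1 := by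
  constructor
  · intro h U g u hg hgu
    subst hgu
    have h1 := (isGeomUnibranch_stalk_iff_of_etale_global g u).mpr h
    rw [Brnch.encard_components_eq_one_iff]
    exact isPrime_nilradical_of_isGeomUnibranch h1
  · intro H
    obtain ⟨V, hV, hxV⟩ : ∃ V : X.Opens, IsAffineOpen V ∧ x ∈ V := by
      obtain ⟨_, ⟨V, hV, rfl⟩, hxV, -⟩ :=
        X.isBasis_affineOpens.exists_subset_of_mem_open (Set.mem_univ x) isOpen_univ
      exact ⟨V, hV, hxV⟩
    let p := (hV.primeIdealOf ⟨x, hxV⟩).asIdeal
    let _ := X.presheaf.algebra_section_stalk ⟨x, hxV⟩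
    have h1 : IsLocalization.AtPrime (X.presheaf.stalk x) p := hV.isLocalization_stalk ⟨x, hxV⟩
    apply Brnch.isGeomUnibranch_of_forall_etale Γ(X, V) p (X.presheaf.stalk x)
    intro C _ _ _ q' _ hq'
    let U : Scheme.{u} := Spec (CommRingCat.of C)
    let g : U ⟶ X := Spec.map (CommRingCat.ofHom (algebraMap Γ(X, V) C)) ≫ hV.fromSpec
    have hf : Etale (Spec.map (CommRingCat.ofHom (algebraMap Γ(X, V) C))) := by
      rw [HasRingHomProperty.Spec_iff (P := @Etale)]
      exact (RingHom.etale_algebraMap).mpr inferInstance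
    have hg : Etale g := inferInstance
    let u : U := ⟨q', inferInstance⟩
    have hgu : g u = x := by
      show hV.fromSpec ((Spec.map (CommRingCat.ofHom (algebraMap Γ(X, V) C))) u) = x
      have : (Spec.map (CommRingCat.ofHom (algebraMap Γ(X, V) C))) u = hV.primeIdealOf ⟨x, hxV⟩ := by
        apply PrimeSpectrum.ext
        exact hq'
      rw [this]
      exact hV.fromSpec_primeIdealOf ⟨x, hxV⟩
    have h2 := H U g u hg hgu
    rw [Brnch.encard_components_eq_one_iff] at h2
    let k : Algebra C (U.presheaf.stalk u) := StructureSheaf.stalkAlgebra C u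
    have h3 : IsLocalization.AtPrime (U.presheaf.stalk u) q' :=
      StructureSheaf.IsLocalization.to_stalk C u
    let e : U.presheaf.stalk u ≃ₐ[C] Localization.AtPrime q' :=
      IsLocalization.algEquiv q'.primeCompl _ _
    exact Brnch.isPrime_nilradical_of_ringEquiv e.toRingEquiv h2

end Groth.Agent.S9782
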