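import Groth.Statements.S9787
import Groth.Agent.Lib.Helper2.BlSmoC
import Groth.Agent.Lib.Helper2.BlSmB

set_option autoImplicit false
universe u
open CategoryTheory CategoryTheory.Limits AlgebraicGeometry TopologicalSpace
open FlatMor

namespace Groth.Agent.S9787

/-- For a smooth q : X ⟶ S and a closed immersion i : Z ⟶ X whose composite with q is smooth, any
blowing up b : X' ⟶ X of the ideal sheaf of Z (given by its universal property) is smooth over S,
and so is its exceptional divisor. The published statement also identifies the exceptional divisor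
over Z with the projective bundle of the conormal sheaf, with O(1) the restriction of O_{X'}(−E);
this row proves only the two smoothness claims. -/
theorem result {Z X X' S : Scheme.{u}} (q : X ⟶ S) [Smooth q] (i : Z ⟶ X) [IsClosedImmersion i]
    [Smooth (i ≫ q)] (b : X' ⟶ X) (hb : BlowUp.IsBlowUp b i.ker) :
    Smooth (b ≫ q) ∧ Smooth ((BlowUp.exceptional b i.ker).subschemeι ≫ b ≫ q) := by
  have hi : Mor2.IsRegularClosedImmersion i :=
    Groth.Agent.H8.CIImm.isRegularClosedImmersion_of_ci q i
      (Groth.Agent.H2.BlSmo.isCIMorphism_of_smooth (i ≫ q))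
  refine ⟨Groth.Agent.H2.BlSmo.smooth_blowUp q i b hb, ?_⟩
  let g : (i.ker.comap b).subscheme ⟶ Z :=
    IsClosedImmersion.lift i ((i.ker.comap b).subschemeι ≫ b)
      (Scheme.IdealSheafData.le_map_comap (f := b) (J := i.ker))
  have hg : g ≫ i = (i.ker.comap b).subschemeι ≫ b := IsClosedImmersion.lift_fac _ _ _
  have hsm : Smooth g := Groth.Agent.H2.BlSm.smooth_exceptional i hi b hb g hg
  have h1 : (BlowUp.exceptional b i.ker).subschemeι ≫ b ≫ q = g ≫ i ≫ q := by
    rw [← Category.assoc, ← Category.assoc, hg]
  rw [h1]
  infer_instance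

end Groth.Agent.S9787
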