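import Groth.Statements.S9792
import Mathlib

set_option autoImplicit false
universe u
open CategoryTheory AlgebraicGeometry TopologicalSpace
open Props

namespace Groth.Agent.S9792

/-- no infinite strictly specializing sequence in a Noetherian space. -/
lemma no_desc {X : Type*} [TopologicalSpace X] [NoetherianSpace X] [T0Space X] (x : ℕ → X)
    (hinj : Function.Injective x) (h : ∀ n, x n ⤳ x (n + 1)) : False := by
  obtain ⟨n, hn⟩ := WellFounded.not_rel_apply_succ (r := ((· < ·) : Closeds X → Closeds X → Prop))
    (fun n => (⟨closure {x n}, isClosed_closure⟩ : Closeds X))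
  apply hn
  have hle : closure {x (n + 1)} ⊆ closure {x n} :=
    closure_minimal (Set.singleton_subset_iff.mpr (specializes_iff_mem_closure.mp (h n)))
      isClosed_closure
  refine lt_of_le_of_ne hle ?_
  intro heq
  have heq' : closure {x (n + 1)} = closure {x n} := congrArg Closeds.carrier heq
  have h2 : x (n + 1) ⤳ x n := by
    rw [specializes_iff_mem_closure, heq']; exact subset_closure rfl
  have := ((h n).antisymm h2).eq
  exact absurd (hinj this) (by omega)

/-- no infinite strictly generizing sequence in a Noetherian scheme. -/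
lemma no_asc (S : Scheme.{u}) [IsNoetherian S] (x : ℕ → S)
    (hinj : Function.Injective x) (h : ∀ n, x (n + 1) ⤳ x n) : False := by
  obtain ⟨_, ⟨U, hU, rfl⟩, htU, -⟩ :=
    S.isBasis_affineOpens.exists_subset_of_mem_open (a := x 0) (by trivial) isOpen_univ
  obtain ⟨U, hU, htU⟩ : ∃ U : S.Opens, IsAffineOpen U ∧ x 0 ∈ U := ⟨U, hU, htU⟩
  have hN : IsNoetherianRing Γ(S, U) := IsLocallyNoetherian.component_noetherian ⟨U, hU⟩
  have hind := hU.fromSpec.isOpenEmbedding.isInducing
  have hxU : ∀ n, x n ∈ U := by
    intro n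
    induction n with
    | zero => exact htU
    | succ n ih => exact (h n).mem_open U.isOpen ih
  let p : ℕ → PrimeSpectrum Γ(S, U) := fun n => hU.primeIdealOf ⟨x n, hxU n⟩
  have hp : ∀ n, hU.fromSpec (p n) = x n := fun n => hU.fromSpec_primeIdealOf ⟨x n, hxU n⟩
  have hlt : ∀ n, p (n + 1) < p n := by
    intro n
    have hle : p (n + 1) ≤ p n := by
      rw [PrimeSpectrum.le_iff_specializes]
      have h2 : hU.fromSpec (p (n + 1)) ⤳ hU.fromSpec (p n) := by rw [hp, hp]; exact h n
      exact hind.specializes_iff.mp h2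
    refine lt_of_le_of_ne hle ?_
    intro heq
    have : x (n + 1) = x n := by rw [← hp, ← hp, heq]
    exact absurd (hinj this) (by omega)
  obtain ⟨n, hn⟩ := WellFounded.not_rel_apply_succ (r := ((· < ·) : ℕ∞ → ℕ∞ → Prop))
    (fun n => (p n).asIdeal.height)
  exact hn (Ideal.height_strict_mono_of_isPrime_of_isPrime (hlt n))

/-- In a Noetherian scheme, every infinite set of points contains an infinite subset no two distinct
members of which are related by specialization. -/
theorem result (S : Scheme.{u}) [IsNoetherian S]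
    (T : Set S) (hT : T.Infinite) :
    ∃ T' : Set S, T' ⊆ T ∧ T'.Infinite ∧ ∀ a ∈ T', ∀ b ∈ T', a ⤳ b → a = b := by
  have : NoetherianSpace S := inferInstance
  let f : ℕ ↪ T := hT.natEmbedding
  let x : ℕ → S := fun n => (f n : S)
  have hx : Function.Injective x := fun a b hab => f.injective (Subtype.ext hab)
  obtain ⟨g, hg | hg⟩ := exists_increasing_or_nonincreasing_subseq' (fun a b : S => a ⤳ b) x
  · exact (no_desc (x ∘ g) (hx.comp g.injective) hg).elim
  obtain ⟨g', hg' | hg'⟩ :=
    exists_increasing_or_nonincreasing_subseq' (fun a b : S => b ⤳ a) (x ∘ g)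
  · exact (no_asc S (x ∘ g ∘ g') ((hx.comp g.injective).comp g'.injective) hg').elim
  refine ⟨Set.range (x ∘ g ∘ g'), ?_, ?_, ?_⟩
  · rintro _ ⟨n, rfl⟩
    exact (f _).2
  · exact Set.infinite_range_of_injective ((hx.comp g.injective).comp g'.injective)
  · rintro _ ⟨m, rfl⟩ _ ⟨n, rfl⟩ hmn
    rcases lt_trichotomy m n with hlt | heq | hgt
    · exact absurd hmn (hg (g' m) (g' n) (g'.strictMono hlt))
    · rw [heq]
    · exact absurd hmn (hg' n m hgt)

end Groth.Agent.S9792
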