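import Groth.Statements.S9793
import Mathlib

set_option autoImplicit false
universe u
open CategoryTheory AlgebraicGeometry TopologicalSpace
open Props

namespace Groth.Agent.S9793


/-- Let S be a Noetherian scheme and T a set of points of S. Every point of T is a specialization of
some point of T which admits no non-trivial generization lying in T. -/
theorem result (S : Scheme.{u}) [IsNoetherian S]
    (T : Set S) (t : S) (ht : t ∈ T) :
    ∃ t₀ ∈ T, (∀ t' ∈ T, t' ⤳ t₀ → t' = t₀) ∧ t₀ ⤳ t := by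
  obtain ⟨_, ⟨U, hU, rfl⟩, htU, -⟩ :=
    S.isBasis_affineOpens.exists_subset_of_mem_open (a := t) (by trivial) isOpen_univ
  obtain ⟨U, hU, htU⟩ : ∃ U : S.Opens, IsAffineOpen U ∧ t ∈ U := ⟨U, hU, htU⟩
  have hN : IsNoetherianRing Γ(S, U) := IsLocallyNoetherian.component_noetherian ⟨U, hU⟩
  have hind := hU.fromSpec.isOpenEmbedding.isInducing
  let Sg : Set (PrimeSpectrum Γ(S, U)) := {p | hU.fromSpec p ∈ T ∧ hU.fromSpec p ⤳ t}
  have hne : Sg.Nonempty := by
    refine ⟨hU.primeIdealOf ⟨t, htU⟩, ?_, ?_⟩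
    · show hU.fromSpec (hU.primeIdealOf ⟨t, htU⟩) ∈ T
      rw [hU.fromSpec_primeIdealOf]; exact ht
    · show hU.fromSpec (hU.primeIdealOf ⟨t, htU⟩) ⤳ t
      rw [hU.fromSpec_primeIdealOf]
  obtain ⟨p₀, hp₀, hmin⟩ := WellFounded.has_min
    (InvImage.wf (fun p : PrimeSpectrum Γ(S, U) => p.asIdeal.height) wellFounded_lt) Sg hne
  refine ⟨hU.fromSpec p₀, hp₀.1, ?_, hp₀.2⟩
  intro t' ht' hspec
  have ht₀U : hU.fromSpec p₀ ∈ U := by
    have h1 : hU.fromSpec p₀ ∈ Set.range hU.fromSpec := ⟨p₀, rfl⟩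
    rw [hU.range_fromSpec] at h1
    exact h1
  have ht'U : t' ∈ U := hspec.mem_open U.isOpen ht₀U
  let p' := hU.primeIdealOf ⟨t', ht'U⟩
  have hp' : hU.fromSpec p' = t' := hU.fromSpec_primeIdealOf ⟨t', ht'U⟩
  have hp'S : p' ∈ Sg := by
    refine ⟨?_, ?_⟩
    · show hU.fromSpec p' ∈ T
      rw [hp']; exact ht'
    · show hU.fromSpec p' ⤳ t
      rw [hp']; exact hspec.trans hp₀.2
  have hle : p' ≤ p₀ := by
    rw [PrimeSpectrum.le_iff_specializes]
    have h2 : hU.fromSpec p' ⤳ hU.fromSpec p₀ := by rw [hp']; exact hspec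
    exact hind.specializes_iff.mp h2
  rcases hle.lt_or_eq with hlt | heq
  · exfalso
    apply hmin p' hp'S
    show p'.asIdeal.height < p₀.asIdeal.height
    exact Ideal.height_strict_mono_of_isPrime_of_isPrime hlt
  · rw [← hp', heq]

end Groth.Agent.S9793
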