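import Groth.Statements.S9794
import Mathlib
import Groth.Agent.S9793

set_option autoImplicit false
universe u
open CategoryTheory AlgebraicGeometry TopologicalSpace
open Props

namespace Groth.Agent.S9794

lemma good_of_maximal {X : Type*} [TopologicalSpace X] (D : Set X) (𝒮 : Set (Set X))
    (hfin : 𝒮.Finite) (hclosed : ∀ t ∈ 𝒮, IsClosed t) (hirr : ∀ t ∈ 𝒮, IsIrreducible t)
    (hD : closure D = ⋃₀ 𝒮) (Z : Set X) (hZ : Maximal (· ∈ 𝒮) Z) :
    ∃ E ⊆ D, closure E = Z := by
  classical
  let others : Set X := ⋃₀ (𝒮 \ {Z})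
  have hcl : IsClosed others := by
    show IsClosed (⋃₀ (𝒮 \ {Z}))
    rw [Set.sUnion_eq_biUnion]
    exact Set.Finite.isClosed_biUnion (hfin.subset Set.sdiff_subset) fun t ht => hclosed t ht.1
  let V : Set X := othersᶜ
  have hV : IsOpen V := hcl.isOpen_compl
  refine ⟨D ∩ V, Set.inter_subset_left, ?_⟩
  have hEZ : D ∩ V ⊆ Z := by
    rintro d ⟨hdD, hdV⟩
    have : d ∈ closure D := subset_closure hdD
    rw [hD] at this
    obtain ⟨t, ht, hdt⟩ := this
    by_cases htZ : t = Z
    · rw [← htZ]; exact hdt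
    · exact absurd (⟨t, ⟨ht, htZ⟩, hdt⟩ : d ∈ others) hdV
  apply Set.Subset.antisymm (closure_minimal hEZ (hclosed Z hZ.prop))
  have hne : (Z ∩ V).Nonempty := by
    by_contra hempty
    rw [Set.not_nonempty_iff_eq_empty] at hempty
    have hsub : Z ⊆ others := by
      intro x hx
      by_contra hxo
      exact (Set.eq_empty_iff_forall_notMem.mp hempty x) ⟨hx, hxo⟩
    obtain ⟨z, hzF, hZz⟩ := isIrreducible_iff_sUnion_isClosed.mp (hirr Z hZ.prop)
      (hfin.subset (Set.sdiff_subset (t := {Z}))).toFinset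
      (fun z hz => hclosed z ((Set.Finite.mem_toFinset _).mp hz).1)
      (by rw [Set.Finite.coe_toFinset]; exact hsub)
    have hz' := (Set.Finite.mem_toFinset _).mp hzF
    have hge : z ≤ Z := hZ.le_of_ge hz'.1 hZz
    exact hz'.2 (le_antisymm hge hZz)
  calc Z ⊆ closure (Z ∩ V) :=
        subset_closure_inter_of_isPreirreducible_of_isOpen (hirr Z hZ.prop).isPreirreducible hV hne
    _ ⊆ closure (closure D ∩ V) := by
        apply closure_mono
        apply Set.inter_subset_inter_left
        rw [hD]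
        intro x hx
        exact ⟨Z, hZ.prop, hx⟩
    _ ⊆ closure (closure (D ∩ V)) := by
        apply closure_mono
        rw [Set.inter_comm, Set.inter_comm D]
        exact hV.inter_closure
    _ = closure (D ∩ V) := closure_closure

/-- In a Noetherian scheme, an infinite dense set of points contains a countable subset which is dense. -/
theorem result (S : Scheme.{u}) [IsNoetherian S]
    (T : Set S) (hT : T.Infinite) (hd : Dense T) :
    ∃ E : Set S, E ⊆ T ∧ E.Countable ∧ Dense E := by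
  classical
  have : NoetherianSpace S := inferInstance
  let T' : Set S := {s | ∃ E : Set S, E ⊆ T ∧ E.Countable ∧ closure E = closure {s}}
  have hTT' : T ⊆ T' := fun t ht =>
    ⟨{t}, Set.singleton_subset_iff.mpr ht, Set.countable_singleton t, rfl⟩
  let T0 : Set S := {s | s ∈ T' ∧ ∀ t' ∈ T', t' ⤳ s → t' = s}
  have hspec : ∀ t ∈ T', ∃ t₀ ∈ T0, t₀ ⤳ t := by
    intro t ht
    obtain ⟨t₀, ht₀, hmax, hsp⟩ := Groth.Agent.S9793.result S T' t ht
    exact ⟨t₀, ⟨ht₀, hmax⟩, hsp⟩
  have hT' : ∀ s : S, s ∈ T' → ∃ E : Set S, E ⊆ T ∧ E.Countable ∧ closure E = closure {s} :=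
    fun s hs => hs
  choose! Ew hEwT hEwC hEwcl using hT'
  have hfin : T0.Finite := by
    by_contra hinf
    have hinf' : T0.Infinite := hinf
    let e : ℕ ↪ T0 := hinf'.natEmbedding
    let D : Set S := ⋃ n, Ew (e n)
    have hDT : D ⊆ T := Set.iUnion_subset fun n => hEwT _ (e n).2.1
    have hDc : D.Countable := Set.countable_iUnion fun n => hEwC _ (e n).2.1
    obtain ⟨𝒮, h𝒮fin, h𝒮cl, h𝒮irr, h𝒮sup⟩ :=
      NoetherianSpace.exists_finite_set_isClosed_irreducible (isClosed_closure (s := D))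
    -- every `e n` is the generic point of a maximal member of `𝒮`
    have hgen : ∀ n, ∃ Z ∈ 𝒮, Maximal (· ∈ 𝒮) Z ∧ closure {(e n : S)} = Z := by
      intro n
      have hen : (e n : S) ∈ closure D := by
        have h1 : (e n : S) ∈ closure (Ew (e n)) := by
          rw [hEwcl _ (e n).2.1]; exact subset_closure rfl
        exact closure_mono (Set.subset_iUnion (fun n => Ew (e n)) n) h1
      rw [h𝒮sup] at hen
      obtain ⟨Z₁, hZ₁, henZ₁⟩ := hen
      obtain ⟨Z, hZ₁Z, hZmax⟩ := h𝒮fin.exists_le_maximal hZ₁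
      obtain ⟨E, hED, hEcl⟩ := good_of_maximal D 𝒮 h𝒮fin h𝒮cl h𝒮irr h𝒮sup Z hZmax
      obtain ⟨ζ, hζ⟩ := QuasiSober.sober (h𝒮irr Z hZmax.prop) (h𝒮cl Z hZmax.prop)
      have hζT' : ζ ∈ T' := ⟨E, hED.trans hDT, hDc.mono hED, by rw [hEcl]; exact hζ.def.symm⟩
      have hsp : ζ ⤳ (e n : S) := hζ.specializes (hZ₁Z henZ₁)
      have : ζ = (e n : S) := (e n).2.2 ζ hζT' hsp
      exact ⟨Z, hZmax.prop, hZmax, by rw [← this]; exact hζ.def⟩
    choose Zn hZn𝒮 hZnmax hZncl using hgen
    have hinj : Function.Injective Zn := by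
      intro m n hmn
      have h1 : closure {(e m : S)} = closure {(e n : S)} := by rw [hZncl, hZncl, hmn]
      have h2 : (e m : S) = e n := by
        have hs1 : (e m : S) ⤳ e n := by
          rw [specializes_iff_mem_closure, h1]; exact subset_closure rfl
        have hs2 : (e n : S) ⤳ e m := by
          rw [specializes_iff_mem_closure, ← h1]; exact subset_closure rfl
        exact (hs1.antisymm hs2).eq
      exact e.injective (Subtype.ext h2)
    exact (Set.infinite_range_of_injective hinj) (h𝒮fin.subset (by rintro _ ⟨n, rfl⟩; exact hZn𝒮 n))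
  refine ⟨⋃ s ∈ T0, Ew s, Set.iUnion₂_subset fun s hs => hEwT s hs.1,
    hfin.countable.biUnion fun s hs => hEwC s hs.1, ?_⟩
  have hsub : T ⊆ closure (⋃ s ∈ T0, Ew s) := by
    intro t ht
    obtain ⟨t₀, ht₀, hsp⟩ := hspec t (hTT' ht)
    have h1 : t ∈ closure {t₀} := specializes_iff_mem_closure.mp hsp
    rw [← hEwcl t₀ ht₀.1] at h1
    exact closure_mono (Set.subset_biUnion_of_mem (u := fun s => Ew s) ht₀) h1
  exact dense_closure.mp (hd.mono hsub)

end Groth.Agent.S9794
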