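import Groth.Statements.S9796
import Groth.Agent.Lib.Helper1.DimZero

set_option autoImplicit false
universe u
open CategoryTheory AlgebraicGeometry TopologicalSpace
open Props

namespace Groth.Agent.S9796


/-- (2) implies (3) with the complement on connected components: a separated scheme of dimension at most
zero is Hausdorff and totally disconnected. -/
theorem result (X : Scheme.{u}) [X.IsSeparated]
    (h : topologicalKrullDim X ≤ 0) : T2Space X ∧ TotallyDisconnectedSpace X := by
  exact ⟨Groth.Agent.H1.DimZero.t2Space_of_dim h, Groth.Agent.H1.DimZero.totallyDisconnectedSpace_of_dim h⟩

end Groth.Agent.S9796
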