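import Groth.Statements.S9797
import Groth.Agent.Lib.Helper1.DimZero

set_option autoImplicit false
universe u
open CategoryTheory AlgebraicGeometry TopologicalSpace
open Props

namespace Groth.Agent.S9797

open Groth.Agent.H1.DimZero in
lemma isAffineOpen_sdiff {X : Scheme.{u}} [QuasiSeparatedSpace X] (h : topologicalKrullDim X ≤ 0)
    {W V : X.Opens} (hW : IsAffineOpen W) (hV : IsCompact (V : Set X)) :
    ∃ Z : X.Opens, IsAffineOpen Z ∧ (Z : Set X) = (W : Set X) \ V := by
  have hVc : IsClosed (V : Set X) := isClosed_of_isCompact h V hV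
  let s : Set ↥(Spec Γ(X, W)) := hW.fromSpec ⁻¹' ((V : Set X)ᶜ)
  have hs : IsClopen s :=
    ⟨V.isOpen.isClosed_compl.preimage hW.fromSpec.continuous,
      hVc.isOpen_compl.preimage hW.fromSpec.continuous⟩
  obtain ⟨e, -, he⟩ := PrimeSpectrum.exists_idempotent_basicOpen_eq_of_isClopen (s := s) hs
  refine ⟨X.basicOpen e, hW.basicOpen e, ?_⟩
  have hZ : (X.basicOpen e : Set X) = hW.fromSpec '' s := by
    rw [← hW.fromSpec_image_basicOpen, he]
    rfl
  rw [hZ, Set.image_preimage_eq_inter_range, hW.range_fromSpec]
  ext z
  simp only [Set.mem_inter_iff, Set.mem_compl_iff, SetLike.mem_coe, Set.mem_sdiff]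
  tauto

open Groth.Agent.H1.DimZero in
lemma isAffineOpen_sSup {X : Scheme.{u}} [QuasiSeparatedSpace X] (h : topologicalKrullDim X ≤ 0)
    (Us : Set X.Opens) (hfin : Us.Finite) (hUs : Us ⊆ X.affineOpens) : IsAffineOpen (sSup Us) := by
  induction Us, hfin using Set.Finite.induction_on with
  | empty =>
    rw [sSup_empty]
    exact isAffineOpen_bot X
  | @insert V Us' hV hfin' ih =>
    have hVaff : IsAffineOpen V := hUs (Set.mem_insert _ _)
    have hW : IsAffineOpen (sSup Us') := ih (fun _ hU => hUs (Set.mem_insert_of_mem _ hU))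
    obtain ⟨Z, hZ, hZeq⟩ := isAffineOpen_sdiff h hW hVaff.isCompact
    have hsup : sSup (insert V Us') = ⨆ b : Bool, (if b then V else Z) := by
      rw [sSup_insert, iSup_bool_eq]
      simp only [if_true, Bool.false_eq_true, if_false]
      apply le_antisymm
      · intro x hx
        by_cases hxV : x ∈ V
        · exact Or.inl hxV
        · rcases hx with hx | hx
          · exact absurd hx hxV
          · right
            show x ∈ (Z : Set X)
            rw [hZeq]; exact ⟨hx, hxV⟩
      · apply sup_le_sup_left
        intro x hx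
        have : x ∈ (Z : Set X) := hx
        rw [hZeq] at this
        exact this.1
    rw [hsup]
    apply IsAffineOpen.iSup_of_disjoint
    · intro b; cases b <;> simp [hVaff, hZ]
    · intro a b hab
      have hdisj : Disjoint V Z := by
        rw [← TopologicalSpace.Opens.coe_disjoint, hZeq]
        exact Set.disjoint_sdiff_right
      cases a <;> cases b <;> simp_all [Function.onFun, disjoint_comm]

/-- In a separated scheme of dimension at most zero, every quasi-compact open is affine. -/
theorem result (X : Scheme.{u}) [X.IsSeparated]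
    (h : topologicalKrullDim X ≤ 0) (U : X.Opens) (hU : IsCompact (U : Set X)) :
    IsAffineOpen U := by
  obtain ⟨Us, hUs, hfin, rfl⟩ := X.isBasis_affineOpens.exists_finite_of_isCompact hU
  exact isAffineOpen_sSup h Us hfin hUs

end Groth.Agent.S9797
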