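import Groth.Statements.S9798
import Groth.Agent.Lib.Helper5.AG.LocalDim

set_option autoImplicit false
universe u
open CategoryTheory AlgebraicGeometry TopologicalSpace
open Props

namespace Groth.Agent.S9798

/-- A point of a locally Noetherian scheme has local dimension zero exactly when it is isolated. -/
theorem result (X : Scheme.{u}) [IsLocallyNoetherian X] (x : X) :
    FlatMor.localDim X x = 0 ↔ IsOpen ({x} : Set X) := by
  exact Groth.Agent.H5.AG.localDim_eq_zero_iff X x

end Groth.Agent.S9798
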