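import Groth.Statements.S9804
import Mathlib

set_option autoImplicit false
universe u
open CategoryTheory AlgebraicGeometry TopologicalSpace
open Props

namespace Groth.Agent.S9804

set_option backward.isDefEq.respectTransparency.types false in
theorem basicOpen_subset_range_toSpecΓ (X : Scheme.{u}) [CompactSpace X] [QuasiSeparatedSpace X]
    (r : Γ(X, ⊤)) (hr : IsAffineOpen (X.basicOpen r)) :
    ((PrimeSpectrum.basicOpen r : Opens (PrimeSpectrum Γ(X, ⊤))) : Set (PrimeSpectrum Γ(X, ⊤))) ⊆
      Set.range X.toSpecΓ.base := by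
  have h := Scheme.Opens.toSpecΓ_SpecMap_presheaf_map_top (X.basicOpen r)
  have loc := isLocalization_basicOpen_of_qcqs (X := X) (U := ⊤) isCompact_univ
    isQuasiSeparated_univ r
  have h1 : Set.range (Spec.map (X.presheaf.map (homOfLE (le_top : X.basicOpen r ≤ ⊤)).op)).base =
      (PrimeSpectrum.basicOpen r : Set (PrimeSpectrum Γ(X, ⊤))) :=
    PrimeSpectrum.localization_away_comap_range (Γ(X, X.basicOpen r)) r
  have : IsIso (X.basicOpen r).toSpecΓ := by
    rw [← hr.isoSpec_hom]; infer_instance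
  have hsurj : Function.Surjective (X.basicOpen r).toSpecΓ.base := by
    have : Surjective (X.basicOpen r).toSpecΓ := inferInstance
    exact (X.basicOpen r).toSpecΓ.surjective
  intro p hp
  rw [← h1] at hp
  obtain ⟨q, rfl⟩ := hp
  obtain ⟨y, rfl⟩ := hsurj q
  refine ⟨(X.basicOpen r).ι.base y, ?_⟩
  rw [← Scheme.Hom.comp_apply, ← Scheme.Hom.comp_apply, h]

/-- For quasi-affine schemes U and V and an open immersion j : U → V, the scheme U is the fibre product
of the composite U → V → Spec Γ(V, O_V) and the morphism Spec Γ(U, O_U) → Spec Γ(V, O_V) induced by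
restriction of sections along j: the square whose sides are the identity of U, the canonical
morphism U → Spec Γ(U, O_U), that composite and that induced morphism is cartesian. -/
theorem result {U V : Scheme.{u}} (j : U ⟶ V)
    [IsOpenImmersion j] [U.IsQuasiAffine] [V.IsQuasiAffine] :
    IsPullback (𝟙 U) U.toSpecΓ (j ≫ V.toSpecΓ) (Spec.map j.appTop) := by
  have H : U.toSpecΓ ≫ Spec.map j.appTop = 𝟙 U ≫ j ≫ V.toSpecΓ := by
    rw [Category.id_comp, Scheme.toSpecΓ_naturality]
  refine IsOpenImmersion.isPullback (𝟙 U) U.toSpecΓ (j ≫ V.toSpecΓ) (Spec.map j.appTop) H ?_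
  apply le_antisymm
  · intro p hp
    -- p : Spec Γ(U), a p ∈ range i
    obtain ⟨_, ⟨_, ⟨g, rfl⟩, rfl⟩, hpg, hgU⟩ := (PrimeSpectrum.isBasis_basic_opens
      (R := Γ(V, ⊤))).exists_subset_of_mem_open hp (j ≫ V.toSpecΓ).opensRange.2
    have hqs : QuasiSeparatedSpace U := inferInstance
    let D : (Spec Γ(V, ⊤)).Opens := PrimeSpectrum.basicOpen g
    have haff : IsAffineOpen (U.basicOpen (j.appTop g)) := by
      have e1 : U.basicOpen (j.appTop g) = (j ≫ V.toSpecΓ) ⁻¹ᵁ D := by
        have h1 : V.toSpecΓ ⁻¹ᵁ D = V.basicOpen g := Scheme.toSpecΓ_preimage_basicOpen V g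
        have h2 : j ⁻¹ᵁ (V.basicOpen g) = U.basicOpen (j.appTop g) :=
          Scheme.preimage_basicOpen_top j g
        rw [← h2, ← h1]; rfl
      rw [e1, ← Scheme.Hom.isAffineOpen_iff_of_isOpenImmersion (j ≫ V.toSpecΓ)]
      have e2 : (j ≫ V.toSpecΓ) ''ᵁ ((j ≫ V.toSpecΓ) ⁻¹ᵁ D) = D := by
        apply Opens.ext; exact Set.image_preimage_eq_of_subset hgU
      rw [e2]; exact IsAffineOpen.Spec_basicOpen g
    have := basicOpen_subset_range_toSpecΓ U (j.appTop g) haff
    apply this
    show p ∈ PrimeSpectrum.basicOpen (j.appTop g)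
    have : (Spec.map j.appTop).base p ∈ PrimeSpectrum.basicOpen g := hpg
    exact this
  · rintro _ ⟨u, rfl⟩
    refine ⟨u, ?_⟩
    rw [← Scheme.Hom.comp_apply, H, Category.id_comp]

end Groth.Agent.S9804
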