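import Groth.Statements.S9810
import Groth.Agent.H4.Brn2

set_option autoImplicit false
universe u
open Brnch

namespace Groth.Agent.S9810

open scoped nonZeroDivisors

open Groth.Agent.H4.TotFrac Groth.Agent.H4.Brn

/-- Branches, in terms of the local ring: for a local ring A with finitely many minimal prime ideals,
the number of branches of A is the sum over the minimal primes p of the numbers of branches of the
local domains A/p. Geometrically: the number of branches of a scheme at a point is the sum of the
numbers of branches at that point of the irreducible components passing through it. -/
theorem result (A : Type u) [CommRing A] [IsLocalRing A]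
    (h : (minimalPrimes A).Finite) :
    Brnch.numBranches A =
      ∑ᶠ p : minimalPrimes A,
        haveI : p.1.IsPrime := p.2.1.1
        Brnch.numBranches (A ⧸ p.1) := by
  haveI : Finite (MinP (A ⧸ nilradical A)) := by
    haveI : Finite (minimalPrimes A) := h.to_subtype
    exact Finite.of_equiv _ (minPEquiv A).symm
  rw [numBranches_eq_of_finite A h, ENat.card_congr (maxSpecCongr (Ψ (A := A ⧸ nilradical A))),
    enat_card_maxSpec_pi, ← finsum_comp_equiv (minPEquiv A)]
  apply finsum_congr
  intro q
  haveI : ((minPEquiv A) q).1.IsPrime := ((minPEquiv A) q).2.1.1
  exact (numBranches_quot A ((minPEquiv A) q).1 q rfl).symm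


end Groth.Agent.S9810
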