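import Groth.Statements.S9811
import Groth.Agent.H4.Brn7

set_option autoImplicit false
universe u
open Brnch

namespace Groth.Agent.S9811

open scoped nonZeroDivisors

open Groth.Agent.H4.TotFrac Groth.Agent.H4.Brn

/-- Geometric branches, in terms of the local ring: for a local ring A with finitely many minimal prime
ideals, the number of geometric branches of A is the sum over the minimal primes p of the numbers of
geometric branches of the local domains A/p. -/
theorem result (A : Type u) [CommRing A] [IsLocalRing A]
    (h : (minimalPrimes A).Finite) :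
    Brnch.numGeomBranches A =
      ∑ᶠ p : minimalPrimes A,
        haveI : p.1.IsPrime := p.2.1.1
        Brnch.numGeomBranches (A ⧸ p.1) := by
  haveI : Finite (MinP (A ⧸ nilradical A)) := by
    haveI : Finite (minimalPrimes A) := h.to_subtype
    exact Finite.of_equiv _ (minPEquiv A).symm
  rw [numGeomBranches_eq_of_finite A h]
  have he : ∀ a : A, Ψ (phi A a) = RingHom.pi (psi A) (RingHom.id A a) := by
    intro a
    funext q
    exact Ψ_algebraMap (A := A ⧸ nilradical A) (Ideal.Quotient.mk (nilradical A) a) q
  have e1 : HomΩ A ≃ {τ : (∀ q : MinP (A ⧸ nilradical A), D q) →+*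
      AlgebraicClosure (IsLocalRing.ResidueField A) //
      τ.comp (RingHom.pi (psi A)) = Brnch.toClosure A} :=
    homTransport (RingHom.id A) Function.surjective_id (Ψ (A := A ⧸ nilradical A)) (phi A)
      (RingHom.pi (psi A)) he (RingEquiv.refl _) (Brnch.toClosure A) (Brnch.toClosure A)
      (fun a => rfl)
  rw [ENat.card_congr e1,
    ← ENat.card_congr (Equiv.ofBijective _
      (sigmaHomToPiHom_bijective (psi A) (Brnch.toClosure A))),
    enat_card_sigma, ← finsum_comp_equiv (minPEquiv A)]
  apply finsum_congr
  intro q
  haveI : ((minPEquiv A) q).1.IsPrime := ((minPEquiv A) q).2.1.1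
  exact (numGeomBranches_quot A ((minPEquiv A) q).1 q rfl).symm


end Groth.Agent.S9811
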