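import Groth.Statements.S9816
import Groth.Agent.Lib.Lead.QC.PullBC

set_option autoImplicit false
universe u
open CategoryTheory CategoryTheory.Limits AlgebraicGeometry TopologicalSpace
open Props

namespace Groth.Agent.S9816

/-- Over a quasi-separated base S, if X and Y carry ample invertible modules L and N, then the tensor
product of their pullbacks along the two projections is an ample invertible module on the fibre
product of X and Y over S. -/
theorem result {X Y S : Scheme.{u}} [QuasiSeparatedSpace S]
    (f : X ⟶ S) (g : Y ⟶ S) (L : X.Modules) (N : Y.Modules) (hL : CohB1.IsAmple L) (hN : CohB1.IsAmple N) :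
    CohB1.IsAmple (CohB1.tensorMod ((Scheme.Modules.pullback (pullback.fst f g)).obj L)
      ((Scheme.Modules.pullback (pullback.snd f g)).obj N)) := by
  haveI : CompactSpace X := hL.2.1
  haveI : CompactSpace Y := hN.2.1
  haveI : X.IsSeparated := LD.QC.isSeparated_of_affine_genLocus _ hL.1 hL.2.2
  haveI : Y.IsSeparated := LD.QC.isSeparated_of_affine_genLocus _ hN.1 hN.2.2
  haveI : QuasiCompact g := quasiCompact_of_compactSpace g
  haveI : CompactSpace ↥(pullback f g) :=
    QuasiCompact.compactSpace_of_compactSpace (pullback.fst f g)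
  have hA := LD.QC.isInvertible_pullback (pullback.fst f g) hL.1
  have hB := LD.QC.isInvertible_pullback (pullback.snd f g) hN.1
  refine ⟨LD.QC.isInvertible_tensorMod hA hB, inferInstance, fun z => ?_⟩
  obtain ⟨W, hW, hzW, -⟩ := exists_isAffineOpen_mem_and_subset (X := S)
    (x := f (pullback.fst f g z)) (U := ⊤) trivial
  have hzW' : g (pullback.snd f g z) ∈ W := by
    have h1 : (pullback.fst f g ≫ f) z = (pullback.snd f g ≫ g) z := by
      rw [pullback.condition]
    have h2 : f (pullback.fst f g z) = g (pullback.snd f g z) := h1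
    rw [← h2]; exact hzW
  obtain ⟨n, s, hxs, hsW, hsa⟩ :=
    LD.QC.exists_affine_genLocus_le L hL (pullback.fst f g z) (f ⁻¹ᵁ W) hzW
  obtain ⟨m, t, hyt, htW, hta⟩ :=
    LD.QC.exists_affine_genLocus_le N hN (pullback.snd f g z) (g ⁻¹ᵁ W) hzW'
  obtain ⟨K, T, hT⟩ := LD.QC.exists_tmul_section hA hB
    (LD.QC.pbPowHom (pullback.fst f g) L hL.1 s) (LD.QC.pbPowHom (pullback.snd f g) N hN.1 t)
  rw [LD.QC.genLocus_pbPowHom, LD.QC.genLocus_pbPowHom] at hT
  refine ⟨K, T, ?_, ?_⟩
  · rw [hT]; exact ⟨hxs, hyt⟩
  · rw [hT]; exact LD.QC.isAffineOpen_pullback_inf hsa hta hW hsW htW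

end Groth.Agent.S9816
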