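import Groth.Statements.S9822
import Mathlib

set_option autoImplicit false
universe u
open CategoryTheory CategoryTheory.Limits AlgebraicGeometry TopologicalSpace Opposite
open Props

namespace Groth.Agent.S9822


/-- A scheme is irreducible if and only if it is nonempty and every nonempty affine open subset is
irreducible. -/
theorem result (X : Scheme.{u}) :
    IrreducibleSpace X ↔ Nonempty X ∧ ∀ U : X.Opens, IsAffineOpen U → (U : Set X).Nonempty → IsIrreducible (U : Set X) := by
  constructor
  · intro h
    refine ⟨inferInstance, fun U hU hne => ⟨hne, ?_⟩⟩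
    exact (IrreducibleSpace.isIrreducible_univ X).isPreirreducible.open_subset U.isOpen (Set.subset_univ _)
  · rintro ⟨hne, H⟩
    have key : ∀ U V : X.Opens, IsAffineOpen U → IsAffineOpen V → (U : Set X).Nonempty →
        (V : Set X).Nonempty → ((U : Set X) ∩ V).Nonempty := by
      intro U V hU hV hUne hVne
      by_contra hdis
      rw [Set.not_nonempty_iff_eq_empty] at hdis
      have hdisj : Disjoint U V := by
        rw [← TopologicalSpace.Opens.coe_disjoint, Set.disjoint_iff_inter_eq_empty]
        exact hdis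
      have haff : IsAffineOpen (⨆ b : Bool, (if b then U else V)) := by
        apply IsAffineOpen.iSup_of_disjoint
        · intro b; cases b <;> simp [hU, hV]
        · intro a b hab
          cases a <;> cases b <;> simp_all [Function.onFun, disjoint_comm]
      rw [iSup_bool_eq] at haff
      simp only [if_true, Bool.false_eq_true, if_false] at haff
      have hirr := H (U ⊔ V) haff (hUne.mono (by intro x hx; exact Or.inl hx))
      obtain ⟨x, hx⟩ := hUne
      obtain ⟨y, hy⟩ := hVne
      obtain ⟨z, -, hzU, hzV⟩ := hirr.isPreirreducible U V U.isOpen V.isOpen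
        ⟨x, Or.inl hx, hx⟩ ⟨y, Or.inr hy, hy⟩
      exact (Set.eq_empty_iff_forall_notMem.mp hdis z) ⟨hzU, hzV⟩
    refine @IrreducibleSpace.mk _ _ ⟨?_⟩ hne
    rintro u v hu hv ⟨x, -, hxu⟩ ⟨y, -, hyv⟩
    obtain ⟨_, ⟨U, hU, rfl⟩, hxU, hUu⟩ :=
      X.isBasis_affineOpens.exists_subset_of_mem_open hxu hu
    obtain ⟨_, ⟨V, hV, rfl⟩, hyV, hVv⟩ :=
      X.isBasis_affineOpens.exists_subset_of_mem_open hyv hv
    obtain ⟨z, hzU, hzV⟩ := key U V hU hV ⟨x, hxU⟩ ⟨y, hyV⟩
    exact ⟨z, Set.mem_univ _, hUu hzU, hVv hzV⟩

end Groth.Agent.S9822
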