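import Groth.Statements.S9836
import Groth.Agent.Lib.Lead.QC.TorsionQC
import Groth.Agent.Lib.Lead.RSp.ClosedCounit

set_option autoImplicit false
universe u
open CategoryTheory CategoryTheory.Limits AlgebraicGeometry
open Props

namespace Groth.Agent.S9836

/-- For a closed immersion i : Z → X with ideal sheaf of finite type and a quasi-coherent O_X-module F,
the subsheaf of sections of F annihilated by the ideal, namely i_* Hom(O_Z, F) for the right adjoint
Hom(O_Z, -) of i_*, is a quasi-coherent O_X-module. -/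
theorem result {Z X : Scheme.{u}} (i : Z ⟶ X)
    [IsClosedImmersion i] [LocallyOfFinitePresentation i] [Dual3.HasHomO i] (F : X.Modules) [Coh.IsQCoh F] :
    Coh.IsQCoh ((Scheme.Modules.pushforward i).obj ((Dual3.homO i).obj F)) := by
  refine Groth.Agent.LD.QC.qc_of_mono_torsion _ F ((Dual3.homOAdj i).counit.app F)
    (fun U => RingHom.ker (i.app U).hom) ?_ ?_ ?_ ?_ ?_
  · intro U V h a ha
    exact Groth.Agent.LD.QC.ker_app_res i h a ha
  · intro U hU
    exact Groth.Agent.LD.QC.ker_app_fg i hU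
  · intro U hU
    exact (Groth.Agent.LD.RSp.CP.counit_affine i (Dual3.homO i) (Dual3.homOAdj i) F ⟨U, hU⟩).1
  · intro U hU s a ha
    have h2 := (Groth.Agent.LD.RSp.CP.counit_affine i (Dual3.homO i) (Dual3.homOAdj i) F
      ⟨U, hU⟩).2
    have hmem := h2.le (Set.mem_range_self s)
    have h3 := (Submodule.mem_torsionBySet_iff (R := Γ(X, U)) (M := F.val.obj (Opposite.op U))
      (i.ker.ideal ⟨U, hU⟩ : Set Γ(X, U)) _).mp (SetLike.mem_coe.mp hmem)
      ⟨a, (Scheme.Hom.ker_apply i ⟨U, hU⟩).ge ha⟩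
    exact h3
  · intro U hU x hx
    have h2 := (Groth.Agent.LD.RSp.CP.counit_affine i (Dual3.homO i) (Dual3.homOAdj i) F
      ⟨U, hU⟩).2
    have hmem : (show F.val.obj (Opposite.op U) from x) ∈
        ((Submodule.torsionBySet Γ(X, U) (F.val.obj (Opposite.op U))
          (i.ker.ideal ⟨U, hU⟩ : Set Γ(X, U)) : Submodule Γ(X, U) (F.val.obj (Opposite.op U))) :
            Set (F.val.obj (Opposite.op U))) := by
      apply SetLike.mem_coe.mpr
      refine (Submodule.mem_torsionBySet_iff (R := Γ(X, U)) (M := F.val.obj (Opposite.op U))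
        (i.ker.ideal ⟨U, hU⟩ : Set Γ(X, U)) _).mpr ?_
      rintro ⟨a, ha⟩
      exact hx a ((Scheme.Hom.ker_apply i ⟨U, hU⟩).le ha)
    obtain ⟨s, hs⟩ := h2.ge hmem
    exact ⟨s, hs⟩

end Groth.Agent.S9836
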