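import Groth.Statements.S9839
import Groth.Agent.Lib.Helper1.DescOpen

set_option autoImplicit false
open CategoryTheory CategoryTheory.Limits AlgebraicGeometry Opposite
universe u
open Desc

namespace Groth.Agent.S9839


/-- Let f i : T i ⟶ T be an fpqc covering family of a scheme T (a family in the fpqc precoverage) and W
i ⊆ T i open subsets such that for all i, j the inverse images of W i and W j under the two
projections of T i ×_T T j coincide. Then there is a unique open subset W ⊆ T with (f i)⁻¹(W) = W i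
for every i. -/
theorem result {ι : Type u} {T : Scheme.{u}} {Ti : ι → Scheme.{u}}
    (f : ∀ i, Ti i ⟶ T) (hf : Presieve.ofArrows Ti f ∈ Scheme.fpqcPrecoverage T)
    (W : ∀ i, (Ti i).Opens)
    (hW : ∀ i j, (pullback.fst (f i) (f j)) ⁻¹ᵁ (W i) = (pullback.snd (f i) (f j)) ⁻¹ᵁ (W j)) :
    ∃! V : T.Opens, ∀ i, (f i) ⁻¹ᵁ V = W i := by
  have hsurj : ∀ t : T, ∃ i, t ∈ Set.range (f i) := by
    have h2 := (Scheme.ofArrows_mem_precoverage_iff (P := @Flat)).mp hf.2
    exact h2.1
  set V : Set T := ⋃ i, (f i) '' (W i : Set (Ti i)) with hVdef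
  have hpre : ∀ i, (f i) ⁻¹' V = (W i : Set (Ti i)) := by
    intro i
    ext t
    simp only [Set.mem_preimage, hVdef, Set.mem_iUnion, Set.mem_image, SetLike.mem_coe]
    constructor
    · rintro ⟨j, w, hw, hwt⟩
      obtain ⟨z, hz1, hz2⟩ := Scheme.Pullback.exists_preimage_pullback (f := f i) (g := f j) t w hwt.symm
      have : z ∈ (pullback.snd (f i) (f j)) ⁻¹ᵁ (W j) := by
        show pullback.snd (f i) (f j) z ∈ W j
        rw [hz2]; exact hw
      rw [← hW] at this
      have h3 : pullback.fst (f i) (f j) z ∈ W i := this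
      rwa [hz1] at h3
    · intro ht
      exact ⟨i, t, ht, rfl⟩
  have hopen : IsOpen V :=
    Groth.Agent.H1.DescOpen.isOpen_of_fpqc f hf V (fun i => by rw [hpre]; exact (W i).isOpen)
  refine ⟨⟨V, hopen⟩, fun i => ?_, fun V' hV' => ?_⟩
  · ext t
    exact Set.ext_iff.mp (hpre i) t
  · ext t
    show t ∈ (V' : Set T) ↔ t ∈ V
    obtain ⟨i, s, rfl⟩ := hsurj t
    have h1 : f i s ∈ (V' : Set T) ↔ s ∈ W i := by
      rw [← hV' i]; rfl
    have h2 : f i s ∈ V ↔ s ∈ W i := by
      have := Set.ext_iff.mp (hpre i) s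
      exact this
    rw [h1, h2]

end Groth.Agent.S9839
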