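import Groth.Statements.S9842
import Groth.Agent.Lib.Helper1.DescDom

set_option autoImplicit false
open CategoryTheory CategoryTheory.Limits AlgebraicGeometry Opposite
universe u
open Desc

namespace Groth.Agent.S9842


/-- Let E/k be a field extension, Y a scheme over k and f : X ⟶ Y a morphism. Writing Y_E = Y ×_k Spec
E, the morphism f is dominant if and only if its base change X ×_Y Y_E ⟶ Y_E is dominant. -/
theorem result {k E : Type u} [Field k] [Field E] [Algebra k E]
    {X Y : Scheme.{u}} (f : X ⟶ Y) (q : Y ⟶ Spec (.of k)) :
    IsDominant f ↔
      IsDominant (pullback.snd f (pullback.fst q (Spec.map (CommRingCat.ofHom (algebraMap k E))))) := by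
  set e : Spec (.of E) ⟶ Spec (.of k) := Spec.map (CommRingCat.ofHom (algebraMap k E)) with he
  have hsub : Subsingleton (Spec (.of k)) := inferInstanceAs (Subsingleton (PrimeSpectrum k))
  have huo : UniversallyOpen e := inferInstance
  have hsurj : Surjective e := by
    refine ⟨fun y => ?_⟩
    obtain ⟨x⟩ : Nonempty (Spec (.of E)) := inferInstanceAs (Nonempty (PrimeSpectrum E))
    exact ⟨x, Subsingleton.elim _ _⟩
  set g := pullback.fst q e with hg
  have hgo : UniversallyOpen g := inferInstance
  have hgs : Surjective g := inferInstance
  constructor
  · intro hf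
    exact Groth.Agent.H1.DescDom.isDominant_snd_of_isOpenMap f g g.isOpenMap
  · intro h
    have : IsDominant (pullback.snd f g ≫ g) := inferInstance
    rw [← pullback.condition] at this
    exact IsDominant.of_comp (pullback.fst f g) f

end Groth.Agent.S9842
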