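import Groth.Statements.S9843
import Groth.Agent.Lib.Helper1.DescDom

set_option autoImplicit false
open CategoryTheory CategoryTheory.Limits AlgebraicGeometry Opposite
universe u
open Desc

namespace Groth.Agent.S9843


/-- Being dominant is fppf local on the base: for every fppf covering family Y i ⟶ Y (flat, locally of
finite presentation, jointly surjective), a morphism X ⟶ Y is dominant if and only if all its base
changes X ×_Y Y i ⟶ Y i are. -/
theorem result :
    MorphismProperty.IsLocalAtTarget (@IsDominant : MorphismProperty Scheme.{u}) Scheme.fppfPrecoverage := by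
  refine { pullbackSnd := ?_, of_forall_pullbackSnd := ?_ }
  · intro X Y f R U g hR hg hf _
    have hP : (@Flat ⊓ @LocallyOfFinitePresentation : MorphismProperty Scheme.{u}) g := hR.2 hg
    have : Flat g := hP.1
    have : LocallyOfFinitePresentation g := hP.2
    exact Groth.Agent.H1.DescDom.isDominant_snd_of_isOpenMap f g g.isOpenMap
  · intro X Y f R hR h
    obtain ⟨𝒰, rfl⟩ := R.exists_eq_preZeroHypercover
    have hR' := hR
    rw [PreZeroHypercover.presieve₀, Scheme.fppfPrecoverage, Scheme.ofArrows_mem_precoverage_iff] at hR'
    have _ (i) : HasPullback f (𝒰.f i) := inferInstance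
    exact Groth.Agent.H1.DescDom.isDominant_of_snd_of_jointly f 𝒰.f hR'.1 (fun i => h ⟨i⟩)

end Groth.Agent.S9843
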