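import Groth.Statements.S9844
import Mathlib
import Groth.Agent.Lib.Helper1.SourceDescent

set_option autoImplicit false
open CategoryTheory CategoryTheory.Limits AlgebraicGeometry Opposite
universe u
open Desc

namespace Groth.Agent.S9844

namespace H1.S9844aux

set_option backward.isDefEq.respectTransparency.types false in
theorem respectsIso_lft :
    MorphismProperty.RespectsIso (@LocallyOfFiniteType : MorphismProperty Scheme.{u}) :=
  inferInstance

end H1.S9844aux

/-- Being locally of finite type is fppf local on the source: for every fppf covering family g i : X i ⟶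
X, a morphism f : X ⟶ Y is locally of finite type if and only if every composite g i ≫ f is. -/
theorem result :
    MorphismProperty.IsLocalAtSource (@LocallyOfFiniteType : MorphismProperty Scheme.{u}) Scheme.fppfPrecoverage := by
  have hri := H1.S9844aux.respectsIso_lft.{u}
  refine { comp := ?_, of_forall_comp := ?_ }
  · intro X Y f R hR U g hg hf
    have hP : (@Flat ⊓ @LocallyOfFinitePresentation : MorphismProperty Scheme.{u}) g := hR.2 hg
    have : Flat g := hP.1
    have : LocallyOfFinitePresentation g := hP.2
    have : LocallyOfFiniteType f := hf
    change LocallyOfFiniteType (g ≫ f)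
    infer_instance
  · intro X Y f R hR h
    obtain ⟨𝒰, rfl⟩ := R.exists_eq_preZeroHypercover
    have hR' := hR
    rw [PreZeroHypercover.presieve₀, Scheme.fppfPrecoverage, Scheme.ofArrows_mem_precoverage_iff] at hR'
    haveI : ∀ i, Flat (𝒰.f i) := fun i => (hR'.2 i).1
    haveI : ∀ i, LocallyOfFinitePresentation (𝒰.f i) := fun i => (hR'.2 i).2
    exact Groth.Agent.H1.SourceDescent.locallyOfFiniteType_of_family 𝒰.X 𝒰.f f hR'.1
      (fun i => h ⟨i⟩)

end Groth.Agent.S9844
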