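import Groth.Statements.S9845
import Groth.Agent.Lib.Helper1.DescDom

set_option autoImplicit false
open CategoryTheory CategoryTheory.Limits AlgebraicGeometry Opposite
universe u
open Desc

namespace Groth.Agent.S9845


/-- Being an open morphism (open underlying map) is fppf local on the source: for every fppf covering
family g i : X i ⟶ X, a morphism f : X ⟶ Y has open underlying map if and only if every composite g
i ≫ f does. -/
theorem result :
    MorphismProperty.IsLocalAtSource (topologically (fun f => IsOpenMap f) : MorphismProperty Scheme.{u})
      Scheme.fppfPrecoverage := by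
  have := Groth.Agent.H1.DescDom.respectsIso_isOpenMap.{u}
  refine { comp := ?_, of_forall_comp := ?_ }
  · intro X Y f R hR U g hg hf
    have hP : (@Flat ⊓ @LocallyOfFinitePresentation : MorphismProperty Scheme.{u}) g := hR.2 hg
    have : Flat g := hP.1
    have : LocallyOfFinitePresentation g := hP.2
    exact IsOpenMap.comp (f := g) (g := f) hf g.isOpenMap
  · intro X Y f R hR h
    obtain ⟨𝒰, rfl⟩ := R.exists_eq_preZeroHypercover
    have hR' := hR
    rw [PreZeroHypercover.presieve₀, Scheme.fppfPrecoverage, Scheme.ofArrows_mem_precoverage_iff] at hR'
    exact Groth.Agent.H1.DescDom.isOpenMap_of_jointly f 𝒰.f hR'.1 (fun i => h ⟨i⟩)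

end Groth.Agent.S9845
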