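import Groth.Statements.S9847
import Mathlib
import Groth.Agent.Lib.Helper1.SourceDescent

set_option autoImplicit false
open CategoryTheory CategoryTheory.Limits AlgebraicGeometry Opposite
universe u
open Desc

namespace Groth.Agent.S9847

namespace H1.S9847aux

set_option backward.isDefEq.respectTransparency.types false in
theorem respectsIso_etale :
    MorphismProperty.RespectsIso (@Etale : MorphismProperty Scheme.{u}) :=
  inferInstance

end H1.S9847aux

/-- Being etale is etale local on the source: for every etale covering family g i : X i ⟶ X (etale,
jointly surjective), a morphism f : X ⟶ Y is etale if and only if every composite g i ≫ f is. -/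
theorem result :
    MorphismProperty.IsLocalAtSource (@Etale : MorphismProperty Scheme.{u}) Scheme.etalePrecoverage := by
  have hri := H1.S9847aux.respectsIso_etale.{u}
  refine { comp := ?_, of_forall_comp := ?_ }
  · intro X Y f R hR U g hg hf
    have hP : Etale g := hR.2 hg
    have : Etale f := hf
    change Etale (g ≫ f)
    infer_instance
  · intro X Y f R hR h
    obtain ⟨𝒰, rfl⟩ := R.exists_eq_preZeroHypercover
    have hR' := hR
    rw [PreZeroHypercover.presieve₀, Scheme.etalePrecoverage] at hR'
    have hR'' := (Scheme.ofArrows_mem_precoverage_iff (P := @Etale.{u})).mp hR'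
    haveI : ∀ i, Etale (𝒰.f i) := fun i => hR''.2 i
    exact Groth.Agent.H1.SourceDescent.etale_of_family 𝒰.X 𝒰.f f hR''.1
      (fun i => h ⟨i⟩)

end Groth.Agent.S9847
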