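import Groth.Statements.S9852
import Groth.Agent.Lib.Helper5.Desc.FullyFaithful

set_option autoImplicit false
open CategoryTheory CategoryTheory.Limits AlgebraicGeometry Opposite
universe u
open Desc

namespace Groth.Agent.S9852

/-- Let g : X ⟶ X' be a morphism of schemes over S, with structure morphisms a : X ⟶ S and a' : X' ⟶ S,
and assume a is surjective and flat. Then the pullback functor along g, from descent data for
schemes relative to X' ⟶ S to descent data relative to X ⟶ S, is faithful. (Descent data relative to
a single morphism are written as descent data relative to the corresponding one-member family.) -/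
theorem result {X X' S : Scheme.{u}} (a : X ⟶ S) (a' : X' ⟶ S) (g : X ⟶ X')
    (h : g ≫ a' = a) [Surjective a] [Flat a] :
    (Desc.pullDDFam (f := fun _ : PUnit.{u + 1} => a') (f' := fun _ : PUnit.{u + 1} => a) (α := fun j => j)
        (p := 𝟙 S) (p' := fun _ => g) (fun _ => (h).trans (Category.comp_id a).symm)).Faithful := by
  apply Groth.Agent.H5.Desc.pullDDFam_faithful_of_sep
  intro j T x W b c hbc
  have : Flat (pullback.fst (x ≫ a') a) := inferInstance
  have : Surjective (pullback.fst (x ≫ a') a) := inferInstance
  have : Epi (pullback.fst (x ≫ a') a) := Flat.epi_of_flat_of_surjective _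
  rw [← cancel_epi (pullback.fst (x ≫ a') a)]
  apply hbc
  change Sieve.ofArrows (fun _ : PUnit.{u + 1} => X) (fun _ => a)
    ((pullback.fst (x ≫ a') a ≫ x) ≫ a')
  rw [Sieve.mem_ofArrows_iff]
  exact ⟨PUnit.unit, pullback.snd (x ≫ a') a, by
    rw [Category.assoc, pullback.condition]⟩

end Groth.Agent.S9852
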