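import Groth.Statements.S9859
import Mathlib

set_option autoImplicit false
open CategoryTheory CategoryTheory.Limits AlgebraicGeometry Opposite
universe u
open Desc

namespace Groth.Agent.S9859

section H9859
variable (P : MorphismProperty Scheme.{u}) [MorphismProperty.IsLocalAtTarget P Scheme.fppfPrecoverage]

/-- the presieve of all fppf morphisms into `Z` is an fppf covering. -/
lemma allFppf_mem (Z : Scheme.{u}) :
    (fun (Z' : Scheme.{u}) (k : Z' ⟶ Z) => (@Flat ⊓ @LocallyOfFinitePresentation : MorphismProperty Scheme.{u}) k)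
      ∈ Scheme.fppfPrecoverage Z := by
  refine ⟨?_, fun _ _ h => h⟩
  rw [Presieve.mem_comap_jointlySurjectivePrecoverage_iff]
  intro x
  exact ⟨Z, 𝟙 Z, ⟨inferInstance, inferInstance⟩, x, rfl⟩

include P in
lemma bc_of_fppf {X Y Y' : Scheme.{u}} (f : X ⟶ Y) (k : Y' ⟶ Y) [Flat k] [LocallyOfFinitePresentation k]
    (hf : P f) : P (pullback.snd f k) :=
  MorphismProperty.IsLocalAtTarget.pullbackSnd (K := Scheme.fppfPrecoverage) (allFppf_mem Y)
    (show (@Flat ⊓ @LocallyOfFinitePresentation : MorphismProperty Scheme.{u}) k from ⟨‹_›, ‹_›⟩) hf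

lemma desc_of_fppf {ι : Type*} {X Y : Scheme.{u}} {Yi : ι → Scheme.{u}} (f : X ⟶ Y) (k : ∀ i, Yi i ⟶ Y)
    [∀ i, Flat (k i)] [∀ i, LocallyOfFinitePresentation (k i)]
    (hk : ∀ y : Y, ∃ i, y ∈ Set.range (k i))
    (h : ∀ i, P (pullback.snd f (k i))) : P f := by
  refine MorphismProperty.IsLocalAtTarget.of_forall_pullbackSnd (K := Scheme.fppfPrecoverage)
    (R := Presieve.ofArrows Yi k) ?_ ?_
  · rw [Scheme.fppfPrecoverage, Scheme.ofArrows_mem_precoverage_iff]
    exact ⟨hk, fun i => ⟨inferInstance, inferInstance⟩⟩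
  · rintro U g _ ⟨i⟩
    exact h i

/-- `Q h` : the base change of `f` along `h` has `P`. -/
lemma Q_comp {X Y Z Z' : Scheme.{u}} (f : X ⟶ Y) (h : Z ⟶ Y) (k : Z' ⟶ Z)
    [Flat k] [LocallyOfFinitePresentation k] (hQ : P (pullback.snd f h)) :
    P (pullback.snd f (k ≫ h)) := by
  have h1 := bc_of_fppf P (pullback.snd f h) k hQ
  have e : (pullbackLeftPullbackSndIso f h k).hom ≫ pullback.snd f (k ≫ h) =
      pullback.snd (pullback.snd f h) k := pullbackLeftPullbackSndIso_hom_snd f h k
  rw [← e] at h1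
  exact (P.cancel_left_of_respectsIso _ _).mp h1

lemma Q_desc {ι : Type*} {X Y Z : Scheme.{u}} {Zi : ι → Scheme.{u}} (f : X ⟶ Y) (h : Z ⟶ Y)
    (k : ∀ i, Zi i ⟶ Z) [∀ i, Flat (k i)] [∀ i, LocallyOfFinitePresentation (k i)]
    (hk : ∀ z : Z, ∃ i, z ∈ Set.range (k i))
    (hQ : ∀ i, P (pullback.snd f (k i ≫ h))) : P (pullback.snd f h) := by
  refine desc_of_fppf P (pullback.snd f h) k hk fun i => ?_
  have e : (pullbackLeftPullbackSndIso f h (k i)).hom ≫ pullback.snd f (k i ≫ h) =
      pullback.snd (pullback.snd f h) (k i) := pullbackLeftPullbackSndIso_hom_snd f h (k i)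
  rw [← e]
  exact (P.cancel_left_of_respectsIso _ _).mpr (hQ i)

lemma restrict_iff {X Y : Scheme.{u}} (f : X ⟶ Y) (U : Y.Opens) :
    P (f ∣_ U) ↔ P (pullback.snd f U.ι) := by
  rw [← pullbackRestrictIsoRestrict_hom_morphismRestrict, P.cancel_left_of_respectsIso]

set_option backward.isDefEq.respectTransparency.types false in
lemma flat_lfp_restrict {Y Y' : Scheme.{u}} (g : Y' ⟶ Y) [Flat g] [LocallyOfFinitePresentation g]
    (W : Y.Opens) : Flat (g ∣_ W) ∧ LocallyOfFinitePresentation (g ∣_ W) :=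
  ⟨IsZariskiLocalAtTarget.restrict ‹Flat g› W, IsZariskiLocalAtTarget.restrict ‹_› W⟩

set_option backward.isDefEq.respectTransparency.types false in
lemma Q_of_range {X Y Y' : Scheme.{u}} (f : X ⟶ Y) (g : Y' ⟶ Y) [Flat g] [LocallyOfFinitePresentation g]
    (hQ : P (pullback.snd f g)) (U : Y.Opens) (hU : (U : Set Y) = Set.range g) :
    P (pullback.snd f U.ι) := by
  have hr : Set.range g ⊆ Set.range U.ι := by rw [Scheme.Opens.range_ι, hU]
  let g' : Y' ⟶ U := IsOpenImmersion.lift U.ι g hr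
  have hg' : g' ≫ U.ι = g := IsOpenImmersion.lift_fac _ _ _
  have : Flat g' := by
    apply MorphismProperty.of_postcomp (W := @Flat) (W' := @IsOpenImmersion) g' U.ι inferInstance
    rw [hg']; infer_instance
  have : LocallyOfFinitePresentation g' := by
    apply MorphismProperty.of_postcomp (W := @LocallyOfFinitePresentation) (W' := @IsOpenImmersion)
      g' U.ι inferInstance
    rw [hg']; infer_instance
  refine Q_desc P f U.ι (fun _ : Unit => g') (fun z => ⟨(), ?_⟩) (fun _ => by rw [hg']; exact hQ)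
  have : U.ι z ∈ Set.range g := by rw [← hU]; exact z.2
  obtain ⟨y', hy'⟩ := this
  refine ⟨y', U.ι.injective ?_⟩
  rw [← Scheme.Hom.comp_apply, hg', hy']
end H9859

/-- Case τ = fppf: let P be a property of morphisms of schemes which is fppf local on the base and f : X
⟶ Y a morphism. There is a largest open W of Y such that the restriction of f over W has P;
moreover, first, if g : Y' ⟶ Y is flat and locally of finite presentation and the base change of f
to Y' has P, then the image of g lies in W; and second, for such g the largest open of Y' over which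
the base change of f has P is exactly g⁻¹(W). -/
theorem result (P : MorphismProperty Scheme.{u})
    [MorphismProperty.IsLocalAtTarget P Scheme.fppfPrecoverage] {X Y : Scheme.{u}} (f : X ⟶ Y) :
    ∃ W : Y.Opens, P (f ∣_ W) ∧ (∀ W₀ : Y.Opens, P (f ∣_ W₀) → W₀ ≤ W) ∧
      (∀ (Y' : Scheme.{u}) (g : Y' ⟶ Y), Flat g → LocallyOfFinitePresentation g →
        P (pullback.snd f g) → Set.range g.base ⊆ (W : Set Y)) ∧
      (∀ (Y' : Scheme.{u}) (g : Y' ⟶ Y), Flat g → LocallyOfFinitePresentation g →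
        ∀ W' : Y'.Opens, P (pullback.snd f g ∣_ W') → (∀ W₀ : Y'.Opens, P (pullback.snd f g ∣_ W₀) → W₀ ≤ W') →
          W' = g ⁻¹ᵁ W) := by
  let S : Set Y.Opens := {W₀ | P (f ∣_ W₀)}
  let W : Y.Opens := sSup S
  have hmax : ∀ W₀ : Y.Opens, P (f ∣_ W₀) → W₀ ≤ W := fun W₀ h => le_sSup h
  have hW : P (f ∣_ W) := by
    rw [restrict_iff P]
    refine Q_desc P f W.ι (Zi := fun s : S => (s.1 : Scheme.{u}))
      (fun s => Y.homOfLE (le_sSup s.2)) ?_ ?_
    · intro z
      have hz : (z.1 : Y) ∈ W := z.2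
      simp only [W, TopologicalSpace.Opens.mem_sSup] at hz
      obtain ⟨W₀, hW₀, hz'⟩ := hz
      refine ⟨⟨W₀, hW₀⟩, ⟨z.1, hz'⟩, ?_⟩
      rw [Scheme.homOfLE_apply']
      rfl
    · intro s
      rw [Scheme.homOfLE_ι, ← restrict_iff P]
      exact s.2
  have ha : ∀ (Y' : Scheme.{u}) (g : Y' ⟶ Y), Flat g → LocallyOfFinitePresentation g →
        P (pullback.snd f g) → Set.range g.base ⊆ (W : Set Y) := by
    intro Y' g _ _ hQ
    let U : Y.Opens := ⟨Set.range g, g.isOpenMap.isOpen_range⟩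
    have := Q_of_range P f g hQ U rfl
    rw [← restrict_iff P] at this
    exact hmax U this
  refine ⟨W, hW, hmax, ha, ?_⟩
  intro Y' g _ _ W' hW' hmax'
  have key : ∀ W₀ : Y'.Opens, P (pullback.snd f g ∣_ W₀) ↔ P (pullback.snd f (W₀.ι ≫ g)) := by
    intro W₀
    rw [restrict_iff P]
    have e : (pullbackLeftPullbackSndIso f g W₀.ι).hom ≫ pullback.snd f (W₀.ι ≫ g) =
      pullback.snd (pullback.snd f g) W₀.ι := pullbackLeftPullbackSndIso_hom_snd f g W₀.ι
    rw [← e]
    exact P.cancel_left_of_respectsIso _ _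
  apply le_antisymm
  · have := ha _ (W'.ι ≫ g) inferInstance inferInstance ((key W').mp hW')
    intro y hy
    exact this ⟨⟨y, hy⟩, rfl⟩
  · apply hmax'
    rw [key, ← morphismRestrict_ι]
    have : Flat (g ∣_ W) := (flat_lfp_restrict g W).1
    have : LocallyOfFinitePresentation (g ∣_ W) := (flat_lfp_restrict g W).2
    exact Q_comp P f W.ι (g ∣_ W) ((restrict_iff P f W).mp hW)

end Groth.Agent.S9859
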