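import Groth.Statements.S9860
import Mathlib

set_option autoImplicit false
open CategoryTheory CategoryTheory.Limits AlgebraicGeometry Opposite
universe u
open Desc

namespace Groth.Agent.S9860


/-- Consider morphisms of schemes f i : X i ⟶ X indexed by i. Suppose that, whenever Y is an affine
scheme and g : Y ⟶ X is a morphism, the sieve on Y obtained by pulling back along g (generated by
the base changes X i ×_X Y ⟶ Y) is effective epimorphic. Then the pulled-back sieve along every
morphism Y ⟶ X of schemes is effective epimorphic; in other words, within schemes the family forms a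
universal effective epimorphism. -/
theorem result {ι : Type u} {X : Scheme.{u}} {Xi : ι → Scheme.{u}} (f : ∀ i, Xi i ⟶ X)
    (h : ∀ (Y : Scheme.{u}) (g : Y ⟶ X), IsAffine Y → ((Sieve.ofArrows Xi f).pullback g).EffectiveEpimorphic)
    {Y : Scheme.{u}} (g : Y ⟶ X) : ((Sieve.ofArrows Xi f).pullback g).EffectiveEpimorphic := by
  rw [Sieve.EffectiveEpimorphic.iff_forall_isSheafFor_yoneda]
  intro Z
  have hzar : Presieve.IsSheaf Scheme.zariskiTopology (yoneda.obj Z) :=
    GrothendieckTopology.Subcanonical.isSheaf_of_isRepresentable _
  refine Y.affineOneHypercover.isSheafFor_sieve_of_pullback hzar (fun i => ?_) (fun i j k => ?_)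
  · rw [← Sieve.pullback_comp]
    have haff : IsAffine (Y.affineOneHypercover.X i) := Scheme.isAffine_affineCover Y i
    exact (Sieve.EffectiveEpimorphic.iff_forall_isSheafFor_yoneda _).mp (h _ _ haff) Z
  · rw [← Sieve.pullback_comp]
    have haff : IsAffine (Y.affineOneHypercover.Y k) :=
      Scheme.isAffine_affineCover (pullback (Y.affineCover.f i) (Y.affineCover.f j)) k
    exact ((Sieve.EffectiveEpimorphic.iff_forall_isSheafFor_yoneda _).mp (h _ _ haff) Z).isSeparatedFor

end Groth.Agent.S9860
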