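import Groth.Statements.S9867
import Groth.Agent.Lib.Helper1.FpqcDescentQF
import Groth.Agent.Lib.Helper5.AlgSp.FlatDescentMore

set_option autoImplicit false
open CategoryTheory CategoryTheory.Limits AlgebraicGeometry Opposite
universe u
open Desc

namespace Groth.Agent.S9867

/-- Being finite locally free (finite, flat and locally of finite presentation), and being finite
locally free of a given degree d, are fpqc local on the base; the descent directions, stated as
descent along surjective flat quasi-compact morphisms: if the base change of f along such a morphism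
is finite locally free then so is f, and if moreover that base change has constant rank d (Mathlib's
rank function of a finite flat morphism) then f has constant rank d. (With Zariski-locality on the
target these give the statements for arbitrary fpqc coverings; stability under base change is the
other direction.) -/
theorem result :
    MorphismProperty.DescendsAlong (fun _ _ f => Mor2.IsFinLocFree f : MorphismProperty Scheme.{u})
      (@Surjective ⊓ @Flat ⊓ @QuasiCompact : MorphismProperty Scheme.{u}) ∧
    ∀ d : ℕ, MorphismProperty.DescendsAlong (fun _ _ f => Mor2.IsFinLocFreeOfDeg d f : MorphismProperty Scheme.{u})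
      (@Surjective ⊓ @Flat ⊓ @QuasiCompact : MorphismProperty Scheme.{u}) := by
  have hfin := Groth.Agent.H1.descendsAlong_isFinite.{u}
  have hflat := Groth.Agent.H5.AlgSp.descendsAlong_flat_fpqc.{u}
  have key : ∀ {A X Y Z : Scheme.{u}} {fst : A ⟶ X} {snd : A ⟶ Y} {f : X ⟶ Z} {g : Y ⟶ Z},
      IsPullback fst snd f g →
      (@Surjective ⊓ @Flat ⊓ @QuasiCompact : MorphismProperty Scheme.{u}) f →
      Mor2.IsFinLocFree fst → Mor2.IsFinLocFree g := by
    intro A X Y Z fst snd f g sq hf ⟨h1, h2, h3⟩
    exact ⟨MorphismProperty.of_isPullback_of_descendsAlong (P := @IsFinite) sq hf h1,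
      MorphismProperty.of_isPullback_of_descendsAlong (P := @Flat) sq hf h2,
      MorphismProperty.of_isPullback_of_descendsAlong (P := @LocallyOfFinitePresentation) sq hf h3⟩
  refine ⟨⟨fun sq hf h => key sq hf h⟩, fun d => ⟨?_⟩⟩
  intro A X Y Z fst snd f g sq hf ⟨h, hd⟩
  have hg := key sq hf h
  refine ⟨hg, fun z => ?_⟩
  have hs : Surjective f := hf.1.1
  obtain ⟨x, rfl⟩ := f.surjective z
  have : IsFinite g := hg.1
  have : Flat g := hg.2.1
  rw [← Scheme.Hom.finrank_of_isPullback snd fst g f sq.flip x]
  exact hd x

end Groth.Agent.S9867
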