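import Groth.Statements.S9870
import Groth.Agent.Lib.Helper5.AlgSp.QuotRestrict

set_option autoImplicit false
universe u
open CategoryTheory CategoryTheory.Limits AlgebraicGeometry
open AlgSp

namespace Groth.Agent.S9870

/-- Let `s, t : R ⟶ U` be a pre-relation on a scheme `U` over `S` which is an equivalence relation (on
`T`-points, for every scheme `T` over `S`), with `s` and `t` surjective, flat and locally of finite
presentation, and let `g : U' ⟶ U` be flat and locally of finite presentation. Let `s', t' : R' ⟶
U'` be the restriction of the pre-relation to `U'`, i.e. `R'` with `(t', s')` and `R' ⟶ R` is the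
fibre product of `U' ×_S U'` and `R` over `U ×_S U`. Then the map of fppf quotient sheaves `U'/R' ⟶
U/R` induced by `g` (the unique map under the quotient maps compatible with `h_g`) is representable
and an open immersion. -/
theorem result (S : Scheme.{u}) {R U R' U' : Over S} (s t : R ⟶ U)
    (g : U' ⟶ U) (s' t' : R' ⟶ U') (r : R' ⟶ R)
    (hsq : IsPullback (prod.lift t' s') r (prod.map g g) (prod.lift t s))
    (hR : AlgSp.IsEqvRel s t)
    [Surjective s.left] [Flat s.left] [LocallyOfFinitePresentation s.left]
    [Surjective t.left] [Flat t.left] [LocallyOfFinitePresentation t.left]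
    [Flat g.left] [LocallyOfFinitePresentation g.left]
    (φ : QuotSh.quot Scheme.fppfPrecoverage s' t' ⟶ QuotSh.quot Scheme.fppfPrecoverage s t)
    (hφ : QuotSh.quotπ Scheme.fppfPrecoverage s' t' ≫ φ = QuotSh.repMap Scheme.fppfPrecoverage g ≫ QuotSh.quotπ Scheme.fppfPrecoverage s t) :
    AlgSp.RepWith @IsOpenImmersion φ := by
  open Groth.Agent.H5.AlgSp in
  let φ₀ : quotSp ((yon S).map s') ((yon S).map t') ⟶ quotSp ((yon S).map s) ((yon S).map t) :=
    (quotIso s' t').hom ≫ φ ≫ (quotIso s t).inv
  have hφ₀ : quotSpπ ((yon S).map s') ((yon S).map t') ≫ φ₀ =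
      (yon S).map g ≫ quotSpπ ((yon S).map s) ((yon S).map t) := by
    change _ ≫ (quotIso s' t').hom ≫ φ ≫ quotInv s t = _
    rw [← Category.assoc, quotSpπ_quotIso_hom]
    unfold quotChart
    rw [Category.assoc, ← Category.assoc (QuotSh.quotπ _ s' t'), hφ, Category.assoc,
      ← Category.assoc _ (QuotSh.repMap _ g), ← repIso_inv_naturality, Category.assoc,
      quotπ_quotInv, Iso.inv_hom_id_assoc]
  have h := repWith_isOpenImmersion_quot_restrict hsq hR φ₀ hφ₀
  have e : φ = (quotIso s' t').inv ≫ φ₀ ≫ (quotIso s t).hom := by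
    simp only [φ₀, Category.assoc, Iso.inv_hom_id, Category.comp_id, Iso.inv_hom_id_assoc]
  rw [e]
  exact MorphismProperty.RespectsIso.precomp _ _ _ (MorphismProperty.RespectsIso.postcomp _ _ _ h)

end Groth.Agent.S9870
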