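import Groth.Statements.S9879
import Groth.Agent.Lib.Helper5.AlgSp.Coprod

set_option autoImplicit false
universe u
open CategoryTheory CategoryTheory.Limits AlgebraicGeometry
open AlgSp

namespace Groth.Agent.S9879

/-- Let `U` be a scheme over `S` and `F_i` a family of fppf sheaves of sets over `S` whose coproduct in
sheaves is isomorphic to `h_U`. Then each `F_i` is representable by a scheme `V_i` over `S` such
that `V_i ⟶ U` (the morphism inducing `h_{V_i} ≅ F_i ⟶ ∐ F_i ≅ h_U`) is an open and closed
immersion, and `U` is the coproduct of the `V_i` in schemes. -/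
theorem result (S : Scheme.{u}) (U : Over S) {ι : Type u}
    (F : ι → AlgSp.Sp S) (c : Cofan F) (hc : IsColimit c) (e : c.pt ≅ (AlgSp.yon S).obj U) :
    ∃ (V : ι → Over S) (g : ∀ i, V i ⟶ U) (ei : ∀ i, (AlgSp.yon S).obj (V i) ≅ F i),
      (∀ i, IsOpenImmersion (g i).left ∧ IsClosedImmersion (g i).left) ∧
      (∀ i, (ei i).hom ≫ c.inj i ≫ e.hom = (AlgSp.yon S).map (g i)) ∧
      Nonempty (IsColimit (Cofan.mk U.left (fun i => (g i).left))) := by
  open Groth.Agent.H5.AlgSp in
  choose τ hτ using fun i => exists_lift_cofanOpen hc e.inv i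
  have sq := fun i => isPullback_cofanOpen hc e.inv i (τ i) (hτ i)
  have hiso : ∀ i, IsIso (τ i) := fun i => (sq i).isIso_fst_of_isIso
  refine ⟨fun i => overOpen U (cofanOpen e.inv i), fun i => overOpenι U (cofanOpen e.inv i),
    fun i => asIso (τ i), fun i => ⟨?_, ?_⟩, fun i => ?_, ?_⟩
  · change IsOpenImmersion (cofanOpen e.inv i).ι
    infer_instance
  · change IsClosedImmersion (cofanOpen e.inv i).ι
    apply IsClosedImmersion.of_isPreimmersion
    rw [Scheme.Opens.range_ι]
    exact isClosed_cofanLocus hc e.inv i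
  · rw [asIso_hom, ← Category.assoc, hτ, Category.assoc, Iso.inv_hom_id, Category.comp_id]
  · change Nonempty (IsColimit (Cofan.mk U.left (fun i => (cofanOpen e.inv i).ι)))
    apply nonempty_isColimit_cofanMk_of
    · rw [eq_top_iff]
      intro x _
      obtain ⟨i, hi⟩ := exists_mem_cofanLocus hc e.inv x
      simp only [Scheme.Opens.opensRange_ι]
      exact TopologicalSpace.Opens.mem_iSup.2 ⟨i, hi⟩
    · intro i j hij
      simp only [Function.onFun, Scheme.Opens.opensRange_ι]
      rw [← TopologicalSpace.Opens.coe_disjoint]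
      exact disjoint_cofanLocus hc e.inv hij

end Groth.Agent.S9879
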