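import Groth.Statements.S9881
import Groth.Agent.Lib.Helper5.AlgSp.ChartFamily

set_option autoImplicit false
universe u
open CategoryTheory CategoryTheory.Limits AlgebraicGeometry
open AlgSp

namespace Groth.Agent.S9881

/-- Let `F_i` be a family of algebraic spaces over `S` indexed by a type in the universe of `S`, so that
the coproduct of any chosen atlases exists as a scheme (this realizes the size condition of the
published statement). Then the coproduct `∐ F_i` in fppf sheaves of sets over `S` (any colimit
cofan) is an algebraic space over `S`. -/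
theorem result (S : Scheme.{u}) {ι : Type u} (F : ι → AlgSp.Sp S)
    (h : ∀ i, AlgSp.IsAlgSpace (F i)) (c : Cofan F) (hc : IsColimit c) : AlgSp.IsAlgSpace c.pt := by
  open Groth.Agent.H5.AlgSp in
  choose U a hae has using fun i => (h i).atlas
  have hle : (@IsOpenImmersion ⊓ @IsClosedImmersion : MorphismProperty Scheme.{u}) ≤ @Etale :=
    fun _ _ f hf => isOpenImmersion_le_etale _ hf.1
  refine isAlgSpace_of_chart_family U (fun i => a i ≫ c.inj i) (fun i => ?_) ?_
  · exact (RepWith @Etale).comp_mem _ _ (hae i)
      (repWith_mono hle (repWith_clopen_cofan_inj hc i))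
  · intro x
    obtain ⟨i, y, rfl⟩ := points_jointly_surjective c.inj (fun T ξ => cofanSieve_mem hc ξ) x
    obtain ⟨u, rfl⟩ := ofPt_surjective_of_repWith (has i) y
    exact ⟨i, u, (Points.map_ofPt _ _ _).symm⟩

end Groth.Agent.S9881
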