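import Groth.Statements.S9902
import Groth.Agent.Lib.Helper5.AlgSp.RelDiag

set_option autoImplicit false
universe u
open CategoryTheory CategoryTheory.Limits AlgebraicGeometry
open AlgSp

namespace Groth.Agent.S9902

/-- Let s be a section of a morphism f : X -> T of algebraic spaces. Then s is representable by schemes
and, in the representable sense, a separated monomorphism that is locally of finite type and locally
quasi-finite; when f is separated s is a closed immersion, and when f is quasi-separated s is
quasi-compact. (The published lemma also shows that s is an immersion when f is locally separated;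
this row omits that clause.) -/
theorem result {S : Scheme.{u}} {X T : AlgSp.Space S} (f : X ⟶ T) (s : T ⟶ X)
    (hs : s ≫ f = 𝟙 T) :
    AlgSp.Representable s.hom ∧
    AlgSp.RepWith @LocallyOfFiniteType s.hom ∧
    AlgSp.RepWith (@LocallyQuasiFinite ⊓ @LocallyOfFiniteType) s.hom ∧
    AlgSp.RepWith @IsSeparated s.hom ∧
    AlgSp.RepWith (MorphismProperty.monomorphisms Scheme.{u}) s.hom ∧
    (AlgSp.IsSeparatedMor f.hom → AlgSp.RepWith @IsClosedImmersion s.hom) ∧
    (AlgSp.IsQuasiSeparatedMor f.hom → AlgSp.RepWith @QuasiCompact s.hom) := by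
  obtain ⟨h0, h1, h2, h3, h4⟩ := Groth.Agent.H5.AlgSp.repWith_relDiag_of_isAlgSpace X.property f.hom
  have hs' : s.hom ≫ f.hom = 𝟙 T.obj := congrArg (fun m => m.hom) hs
  have sq := pullback_lift_diagonal_isPullback s.hom f.hom
  have hiso : IsIso (pullback.snd (s.hom ≫ f.hom) f.hom) := by
    have : IsIso (s.hom ≫ f.hom) := by rw [hs']; infer_instance
    infer_instance
  have hfac : s.hom = pullback.lift (𝟙 T.obj) s.hom (by simp) ≫ pullback.snd (s.hom ≫ f.hom) f.hom := by
    rw [pullback.lift_snd]
  have key : ∀ P : MorphismProperty Scheme.{u}, AlgSp.RepWith P (pullback.diagonal f.hom) →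
      AlgSp.RepWith P s.hom := fun P hP => by
    rw [hfac]
    exact MorphismProperty.RespectsIso.postcomp _ _ _
      (MorphismProperty.of_isPullback (P := AlgSp.RepWith P) sq hP)
  exact ⟨(key _ h1).rep, key _ h1, key _ h4, key _ h3, key _ h2, fun hs => key _ hs,
    fun hq => key _ hq⟩

end Groth.Agent.S9902
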