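import Groth.Statements.S9911
import Groth.Agent.Lib.Helper5.AlgSp.UnivTop

set_option autoImplicit false
universe u
open CategoryTheory CategoryTheory.Limits AlgebraicGeometry
open AlgSp

namespace Groth.Agent.S9911

/-- A morphism from an algebraic space to the spectrum of a field is universally open. -/
theorem result {S : Scheme.{u}} (X : AlgSp.Space S) {k : Type u} [Field k]
    (str : Spec (CommRingCat.of k) ⟶ S) (p : X ⟶ (AlgSp.ofScheme S).obj (Over.mk str)) :
    AlgSp.IsUnivOpenMor p.hom := by
  obtain ⟨U, a, hae, has⟩ := X.property.atlas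
  apply Groth.Agent.H5.AlgSp.univSp_isOpenMor_of_comp_surjective has
  obtain ⟨φ, hφ⟩ := (AlgSp.yon S).map_surjective (a ≫ p.hom)
  have key : ∀ {Y : Scheme.{u}} (f : Y ⟶ Spec (CommRingCat.of k)), UniversallyOpen f :=
    fun f => inferInstance
  have hUO : UniversallyOpen φ.left := key (Y := U.left) φ.left
  have hrep : AlgSp.RepWith @UniversallyOpen (a ≫ p.hom) := by
    have := (AlgSp.repWith_yon_map_iff @UniversallyOpen φ).2 hUO
    rwa [hφ] at this
  exact Groth.Agent.H5.AlgSp.univSp_of_repWith (P := @UniversallyOpen) (Q := AlgSp.IsOpenMor)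
    (fun f hf => Groth.Agent.H5.AlgSp.isOpenMap_points_map_of_repWith (P := @UniversallyOpen)
      (fun ψ hψ => by
        have : UniversallyOpen ψ := hψ
        exact ψ.isOpenMap) hf) hrep

end Groth.Agent.S9911
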