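import Groth.Statements.S9935
import Groth.Agent.Lib.Helper5.AlgSp.ImmersionImage

set_option autoImplicit false
universe u
open CategoryTheory CategoryTheory.Limits AlgebraicGeometry
open AlgSp

namespace Groth.Agent.S9935

/-- A quasi-compact immersion of algebraic spaces factors as an open immersion followed by a closed
immersion. -/
theorem result {S : Scheme.{u}} {Z X : AlgSp.Space S}
    (i : Z ⟶ X) (hi : AlgSp.RepWith @IsImmersion i.hom) (hq : AlgSp.IsQuasiCompactMor i.hom) :
    ∃ (Zbar : AlgSp.Space S) (j : Z ⟶ Zbar) (c : Zbar ⟶ X), j ≫ c = i ∧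
      AlgSp.RepWith @IsOpenImmersion j.hom ∧ AlgSp.RepWith @IsClosedImmersion c.hom := by
  open Groth.Agent.H5.AlgSp in
  have hc := hasQCCovers_of_isQuasiCompactMor i.hom hq
  have hqc := repWith_quasiCompact_of_isQuasiCompactMor hi.rep hq
  obtain ⟨j, hj⟩ := exists_fac_schImg hc
  exact ⟨⟨schImg hc, isAlgSpace_schImg hc X.property⟩, ⟨j⟩, ⟨schImgι hc⟩,
    ObjectProperty.hom_ext _ hj,
    repWith_isOpenImmersion_of_fac_schImg X.property hi hqc hc j hj,
    repWith_isClosedImmersion_schImgι hc X.property⟩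

end Groth.Agent.S9935
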