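import Groth.Statements.S9942
import Groth.Agent.Lib.Helper5.Descent.AffineMorDescent
import Groth.Agent.Lib.Helper5.AlgSp.ZarLocalRep2
import Groth.Agent.Lib.Helper5.AlgSp.PointsTop

set_option autoImplicit false
universe u
open CategoryTheory CategoryTheory.Limits AlgebraicGeometry
open AlgSp

namespace Groth.Agent.S9942

/-- (3) ⇒ (2): if X x_Y V is an affine scheme for every affine scheme V etale over Y, then f : X -> Y is
affine. -/
theorem result {S : Scheme.{u}} {X Y : AlgSp.Space S} (f : X ⟶ Y)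
    (h : ∀ (V : Over S), IsAffine V.left → ∀ (b : (AlgSp.yon S).obj V ⟶ Y.obj), AlgSp.RepWith @Etale b →
      ∀ (P : AlgSp.Sp S) (fst : P ⟶ X.obj) (snd : P ⟶ (AlgSp.yon S).obj V), IsPullback fst snd f.hom b →
      ∃ (W : Over S), IsAffine W.left ∧ Nonempty ((AlgSp.yon S).obj W ≅ P)) :
    AlgSp.IsAffineMor f.hom := by
  obtain ⟨V₀, p, hpe, hps⟩ := Y.property.atlas
  have sq₀ := IsPullback.of_hasPullback f.hom p
  refine Groth.Agent.H5.Descent.isAffineMor_of_baseChange_etale hpe hps sq₀ ?_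
  refine Groth.Agent.H5.AlgSp.isAffineMor_of_openCover
    (fun U : V₀.left.affineOpens => U.1) (fun t => ?_) (fun U => ?_)
  · obtain ⟨_, ⟨U, hU, rfl⟩, htU, -⟩ := V₀.left.isBasis_affineOpens.exists_subset_of_mem_open
      (Set.mem_univ t) isOpen_univ
    exact ⟨⟨U, hU⟩, htU⟩
  · have hbe : AlgSp.RepWith @Etale
        ((AlgSp.yon S).map (Groth.Agent.H5.AlgSp.overOpenι V₀ U.1) ≫ p) :=
      Groth.Agent.H5.AlgSp.repWith_etale_restrict hpe U.1
    have t := IsPullback.of_hasPullback (pullback.snd f.hom p)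
      ((AlgSp.yon S).map (Groth.Agent.H5.AlgSp.overOpenι V₀ U.1))
    have big := (t.flip.paste_vert sq₀.flip).flip
    have hUaff : IsAffine (Groth.Agent.H5.AlgSp.overOpen V₀ U.1).left := U.2
    obtain ⟨W, hW, ⟨e⟩⟩ := h _ hUaff _ hbe _ _ _ big
    obtain ⟨k, fst, sqk⟩ := Groth.Agent.H5.AlgSp.exists_isPullback_of_iso _ t e
    refine ⟨W, k, fst, sqk, ?_⟩
    have : IsAffine W.left := hW
    infer_instance

end Groth.Agent.S9942
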