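import Groth.Statements.S9948
import Groth.Agent.Lib.Helper5.AlgSp.LocPBasic
import Groth.Agent.Lib.Helper5.AlgSp.FlatDescentMore
import Groth.Agent.Lib.Helper5.AlgSp.PointsTop

set_option autoImplicit false
universe u
open CategoryTheory CategoryTheory.Limits AlgebraicGeometry
open AlgSp

namespace Groth.Agent.S9948

/-- Representable clause, for the listed classes P: for f representable by schemes, P etale locally on
the source-and-target agrees with P in the representable sense. -/
theorem result {S : Scheme.{u}} (P : MorphismProperty Scheme.{u})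
    (hP : P = @LocallyOfFiniteType ∨ P = @LocallyOfFinitePresentation ∨ P = @Flat ∨ P = @Smooth ∨ P = @Etale ∨
      (∀ ⦃A B : Scheme.{u}⦄ (g : A ⟶ B), P g ↔ (LocallyQuasiFinite g ∧ LocallyOfFiniteType g)) ∨
      (∀ ⦃A B : Scheme.{u}⦄ (g : A ⟶ B), P g ↔ (LocallyOfFiniteType g ∧ FormallyUnramified g)))
    {X Y : AlgSp.Space S} (f : X ⟶ Y) (hf : AlgSp.Representable f.hom) :
    AlgSp.LocP P f.hom ↔ AlgSp.RepWith P f.hom := by
  have key : ∀ (Q : MorphismProperty Scheme.{u}) [Q.IsStableUnderComposition]
      [Q.IsStableUnderBaseChange] [Q.IsLocalAtTarget Scheme.fppfPrecoverage],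
      (@Etale : MorphismProperty Scheme.{u}) ≤ Q →
      (AlgSp.LocP Q f.hom ↔ AlgSp.RepWith Q f.hom) := fun Q _ _ _ hQ =>
    ⟨fun h => Groth.Agent.H5.AlgSp.repWith_of_locP Y.property hf h,
      fun h => Groth.Agent.H5.AlgSp.locP_of_repWith hQ h⟩
  rcases hP with rfl | rfl | rfl | rfl | rfl | hP | hP
  · exact key _ (fun _ _ g (hg : Etale g) => (inferInstance : LocallyOfFiniteType g))
  · exact key _ (fun _ _ g (hg : Etale g) => (inferInstance : LocallyOfFinitePresentation g))
  · exact key _ (fun _ _ g (hg : Etale g) => (inferInstance : Flat g))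
  · exact key _ (fun _ _ g (hg : Etale g) => (inferInstance : Smooth g))
  · exact key _ le_rfl
  · have : P = (@LocallyQuasiFinite ⊓ @LocallyOfFiniteType : MorphismProperty Scheme.{u}) := by
      ext A B g
      exact hP g
    subst this
    exact key _ (fun _ _ g (hg : Etale g) =>
      ⟨Groth.Agent.H5.AlgSp.locallyQuasiFinite_of_etale g, (inferInstance : LocallyOfFiniteType g)⟩)
  · have : P = (@LocallyOfFiniteType ⊓ @FormallyUnramified : MorphismProperty Scheme.{u}) := by
      ext A B g
      exact hP g
    subst this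
    exact key _ (fun _ _ g (hg : Etale g) =>
      ⟨(inferInstance : LocallyOfFiniteType g), (inferInstance : FormallyUnramified g)⟩)

end Groth.Agent.S9948
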