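import Groth.Statements.S9954
import Groth.Agent.Lib.Helper5.AlgSp.KPoints

set_option autoImplicit false
universe u
open CategoryTheory CategoryTheory.Limits AlgebraicGeometry
open AlgSp

namespace Groth.Agent.S9954

/-- A morphism locally of finite type is surjective if and only if it is surjective on k-valued points
for every algebraically closed field k over the base. -/
theorem result {S : Scheme.{u}} {X Y : AlgSp.Space S} (f : X ⟶ Y)
    (hf : AlgSp.LocP @LocallyOfFiniteType f.hom) :
    AlgSp.IsSurjectiveMor f.hom ↔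
      ∀ (k : Type u) [Field k] [IsAlgClosed k] (str : Spec (CommRingCat.of k) ⟶ S)
        (y : (AlgSp.yon S).obj (Over.mk str) ⟶ Y.obj),
        ∃ x : (AlgSp.yon S).obj (Over.mk str) ⟶ X.obj, x ≫ f.hom = y := by
  constructor
  · intro hs k _ _ str y
    have sq := IsPullback.of_hasPullback f.hom y
    have hP : AlgSp.IsAlgSpace (pullback f.hom y) :=
      Groth.Agent.H5.AlgSp.isAlgSpace_pullback Y.property.diag X.property
        (AlgSp.IsAlgSpace.yon_obj _) sq
    have hl : AlgSp.LocP @LocallyOfFiniteType (pullback.snd f.hom y) :=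
      Groth.Agent.H5.AlgSp.locP_of_isPullback (P := @LocallyOfFiniteType)
        (fun _ _ g (hg : Etale g) => (inferInstance : LocallyOfFiniteType g)) sq X.property
        Y.property (AlgSp.IsAlgSpace.yon_obj _) hf
    have hsurj : AlgSp.IsSurjectiveMor (pullback.snd f.hom y) :=
      Groth.Agent.H5.AlgSp.isSurjectiveMor_of_isPullback sq hs
    have hne : Nonempty (AlgSp.Points (pullback f.hom y)) := by
      obtain ⟨z, -⟩ := hsurj (AlgSp.Points.schemeHomeo (Over.mk str) (IsLocalRing.closedPoint k))
      exact ⟨z⟩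
    obtain ⟨s, hs'⟩ := Groth.Agent.H5.AlgSp.exists_section_of_locP_lft hP str _ hl hne
    refine ⟨s ≫ pullback.fst f.hom y, ?_⟩
    rw [Category.assoc, pullback.condition, ← Category.assoc, hs', Category.id_comp]
  · intro h y
    obtain ⟨K, _, str, η, rfl⟩ := Groth.Agent.H5.AlgSp.exists_fpOfHom y
    let k := AlgebraicClosure K
    let i : Spec (CommRingCat.of k) ⟶ Spec (CommRingCat.of K) :=
      Spec.map (CommRingCat.ofHom (algebraMap K k))
    let m : Over.mk (i ≫ str) ⟶ Over.mk str := Over.homMk i rfl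
    obtain ⟨x, hx⟩ := h k (i ≫ str) ((AlgSp.yon S).map m ≫ η)
    refine ⟨AlgSp.Points.mk (Groth.Agent.H5.AlgSp.fpOfHom (i ≫ str) x), ?_⟩
    rw [Groth.Agent.H5.AlgSp.map_mk_fpOfHom, hx]
    exact Groth.Agent.H5.AlgSp.mk_fpOfHom_comp str (i ≫ str) m η

end Groth.Agent.S9954
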