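import Groth.Statements.S9956
import Groth.Agent.Lib.Helper5.AlgSp.LocPCalc
import Groth.Agent.Lib.Helper5.AlgSp.PointsTop

set_option autoImplicit false
universe u
open CategoryTheory CategoryTheory.Limits AlgebraicGeometry
open AlgSp

namespace Groth.Agent.S9956

/-- For morphisms X -> Y -> Z of algebraic spaces, local quasi-finiteness of the composite implies that
of the first map (locally quasi-finite includes locally of finite type, etale locally on source and
target). -/
theorem result {S : Scheme.{u}} {X Y Z : AlgSp.Space S} (f : X ⟶ Y) (g : Y ⟶ Z)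
    (h : AlgSp.LocP ((@LocallyQuasiFinite : MorphismProperty Scheme.{u}) ⊓ @LocallyOfFiniteType) (f ≫ g).hom) :
    AlgSp.LocP ((@LocallyQuasiFinite : MorphismProperty Scheme.{u}) ⊓ @LocallyOfFiniteType) f.hom := by
  refine Groth.Agent.H5.AlgSp.locP_of_comp (Pc := ⊤)
    (fun _ _ g (hg : Etale g) =>
      ⟨Groth.Agent.H5.AlgSp.locallyQuasiFinite_of_etale g, (inferInstance : LocallyOfFiniteType g)⟩)
    (fun u v huv _ => ?_) Z.property h (fun _ _ _ _ _ _ _ _ => trivial)
  have h1 : LocallyQuasiFinite (u ≫ v) := huv.1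
  have h2 : LocallyOfFiniteType (u ≫ v) := huv.2
  exact ⟨LocallyQuasiFinite.of_comp u v, locallyOfFiniteType_of_comp u v⟩

end Groth.Agent.S9956
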