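import Groth.Statements.S9960
import Groth.Agent.Lib.Helper5.AlgSp.LocPCalc
import Groth.Agent.Lib.Helper5.EtSrc.OfComp
import Groth.Agent.Lib.Helper5.AlgSp.QCompact

set_option autoImplicit false
universe u
open CategoryTheory CategoryTheory.Limits AlgebraicGeometry
open AlgSp

namespace Groth.Agent.S9960

/-- The diagonal of a morphism locally of finite type is locally of finite presentation, and of finite
presentation when the morphism is also quasi-separated. -/
theorem result {S : Scheme.{u}} {X Y : AlgSp.Space S} (f : X ⟶ Y)
    (hf : AlgSp.LocP @LocallyOfFiniteType f.hom) :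
    AlgSp.LocP @LocallyOfFinitePresentation (pullback.diagonal f.hom) ∧
    (AlgSp.IsQuasiSeparatedMor f.hom → AlgSp.IsFinitePresentationMor (pullback.diagonal f.hom)) := by
  have hΔ : AlgSp.LocP @LocallyOfFinitePresentation (pullback.diagonal f.hom) := by
    have h1 : AlgSp.LocP @LocallyOfFiniteType (pullback.snd f.hom f.hom) :=
      Groth.Agent.H5.AlgSp.locP_of_isPullback (P := @LocallyOfFiniteType)
        (fun _ _ g (hg : Etale g) => (inferInstance : LocallyOfFiniteType g))
        (IsPullback.of_hasPullback f.hom f.hom) X.property Y.property X.property hf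
    have h2 : AlgSp.LocP @LocallyOfFinitePresentation
        (pullback.diagonal f.hom ≫ pullback.snd f.hom f.hom) := by
      rw [pullback.diagonal_snd]
      have : MorphismProperty.ContainsIdentities
          (@LocallyOfFinitePresentation : MorphismProperty Scheme.{u}) :=
        ⟨fun X => (inferInstance : LocallyOfFinitePresentation (𝟙 X))⟩
      have : MorphismProperty.IsMultiplicative
          (@LocallyOfFinitePresentation : MorphismProperty Scheme.{u}) := {}
      exact Groth.Agent.H5.AlgSp.locP_of_repWith
        (fun _ _ g (hg : Etale g) => (inferInstance : LocallyOfFinitePresentation g))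
        ((AlgSp.RepWith @LocallyOfFinitePresentation).id_mem X.obj)
    exact Groth.Agent.H5.AlgSp.locP_of_comp (P := @LocallyOfFinitePresentation)
      (Pc := @LocallyOfFiniteType)
      (fun _ _ g (hg : Etale g) => (inferInstance : LocallyOfFinitePresentation g))
      (fun u v h h' => Groth.Agent.H5.EtSrc.locallyOfFinitePresentation_of_comp u v h h')
      X.property h2 h1
  refine ⟨hΔ, fun hqs => ⟨hΔ, Groth.Agent.H5.AlgSp.isQuasiCompactMor_of_repWith hqs, ?_⟩⟩
  have : IsIso (pullback.diagonal (pullback.diagonal f.hom)) := inferInstance
  exact (AlgSp.RepWith @QuasiCompact).of_isIso _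

end Groth.Agent.S9960
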