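import Groth.Statements.S9964
import Groth.Agent.Lib.Helper5.AlgSp.InterClosed

set_option autoImplicit false
universe u
open CategoryTheory CategoryTheory.Limits AlgebraicGeometry
open AlgSp

namespace Groth.Agent.S9964

/-- Every morphism of algebraic spaces has a scheme theoretic image, a smallest closed subspace of the
target through which it factors. -/
theorem result {S : Scheme.{u}} {X Y : AlgSp.Space S} (f : X ⟶ Y) :
    ∃ (Z : AlgSp.Space S) (i : Z ⟶ Y), AlgSp.IsSchImage f.hom i.hom := by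
  open Groth.Agent.H5.AlgSp in
  let A := {p : Σ (Z' : Sp S), (Z' ⟶ Y.obj) // IsAlgSpace p.1 ∧ RepWith @IsClosedImmersion p.2 ∧
    ∃ f'' : X.obj ⟶ p.1, f'' ≫ p.2 = f.hom}
  let Zf : A → Sp S := fun a => a.1.1
  let i : ∀ a, Zf a ⟶ Y.obj := fun a => a.1.2
  have hi : ∀ a, RepWith @IsClosedImmersion (i a) := fun a => a.2.2.1
  have : ∀ α, Mono (i α) := fun α => mono_of_repWith_isClosedImmersion (hi α)
  refine ⟨⟨inter i, isAlgSpace_inter i Y.property hi⟩, ⟨interι i⟩,
    repWith_isClosedImmersion_interι i hi, exists_lift_inter i f.hom (fun a => a.2.2.2), ?_⟩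
  intro Z' i' hZ' hi' hf''
  exact exists_inter_proj i ⟨⟨Z', i'⟩, hZ', hi', hf''⟩

end Groth.Agent.S9964
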