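import Groth.Statements.S9972
import Groth.Agent.Lib.Helper5.AlgSp.InterClosed

set_option autoImplicit false
universe u
open CategoryTheory CategoryTheory.Limits AlgebraicGeometry
open AlgSp

namespace Groth.Agent.S9972

/-- Two morphisms to an algebraic space separated over B that agree on an open subspace whose scheme
theoretic closure is everything are equal. -/
theorem result {S : Scheme.{u}} {U X Y B : AlgSp.Space S} (q : Y ⟶ B)
    (hq : AlgSp.IsSeparatedMor q.hom) (f g : X ⟶ Y) (hfg : f ≫ q = g ≫ q) (j : U ⟶ X)
    (hj : AlgSp.RepWith @IsOpenImmersion j.hom) (hcl : AlgSp.IsSchImage j.hom (𝟙 X.obj)) (heq : j ≫ f = j ≫ g) :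
    f = g := by
  open Groth.Agent.H5.AlgSp in
  have hfg' : f.hom ≫ q.hom = g.hom ≫ q.hom := congrArg (fun k => k.hom) hfg
  have heq' : j.hom ≫ f.hom = j.hom ≫ g.hom := congrArg (fun k => k.hom) heq
  let fg : X.obj ⟶ pullback q.hom q.hom := pullback.lift f.hom g.hom hfg'
  let e : pullback (pullback.diagonal q.hom) fg ⟶ X.obj := pullback.snd _ _
  have he : RepWith @IsClosedImmersion e :=
    (RepWith @IsClosedImmersion).of_isPullback (IsPullback.of_hasPullback _ _) hq
  have hE : IsAlgSpace (pullback (pullback.diagonal q.hom) fg) :=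
    isAlgSpace_of_representable X.property e he.rep
  have hjfac : ∃ f'' : U.obj ⟶ pullback (pullback.diagonal q.hom) fg, f'' ≫ e = j.hom := by
    refine ⟨pullback.lift (j.hom ≫ f.hom) j.hom ?_, pullback.lift_snd _ _ _⟩
    apply pullback.hom_ext
    · rw [Category.assoc, pullback.diagonal_fst, Category.comp_id, Category.assoc, pullback.lift_fst]
    · rw [Category.assoc, pullback.diagonal_snd, Category.comp_id, Category.assoc, pullback.lift_snd,
        heq']
  obtain ⟨k, hk⟩ := hcl.2.2 e hE he hjfac
  have h1 : f.hom = k ≫ pullback.fst (pullback.diagonal q.hom) fg := by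
    calc f.hom = (k ≫ e) ≫ fg ≫ pullback.fst _ _ := by
          rw [hk, Category.id_comp, pullback.lift_fst]
      _ = k ≫ pullback.fst (pullback.diagonal q.hom) fg := by
          rw [Category.assoc, ← Category.assoc e, ← pullback.condition, Category.assoc,
            pullback.diagonal_fst, Category.comp_id]
  have h2 : g.hom = k ≫ pullback.fst (pullback.diagonal q.hom) fg := by
    calc g.hom = (k ≫ e) ≫ fg ≫ pullback.snd _ _ := by
          rw [hk, Category.id_comp, pullback.lift_snd]
      _ = k ≫ pullback.fst (pullback.diagonal q.hom) fg := by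
          rw [Category.assoc, ← Category.assoc e, ← pullback.condition, Category.assoc,
            pullback.diagonal_snd, Category.comp_id]
  exact ObjectProperty.hom_ext _ (h1.trans h2.symm)

end Groth.Agent.S9972
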