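import Groth.Statements.S9978
import Groth.Agent.S0566
import Groth.Agent.S9833
import Groth.Agent.Lib.Helper3.AlgSpCov.SourceLocP
import Groth.Agent.Lib.Helper2.ProConsLib

set_option autoImplicit false
universe u
open CategoryTheory CategoryTheory.Limits AlgebraicGeometry
open AlgSp

namespace Groth.Agent.S9978

open Groth.Agent.H5.AlgSp in
/-- An algebraic space locally of finite type over a Nagata algebraic space is Nagata. -/
theorem result {S : Scheme.{u}} {X Y : AlgSp.Space S} (f : X ⟶ Y)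
    (hf : AlgSp.LocP @LocallyOfFiniteType f.hom)
    (hY : AlgSp.EtaleLocally (fun U => ∀ V : U.Opens, IsAffineOpen V → CAlg.IsNagata ↑Γ(U, V)) Y.obj) :
    AlgSp.EtaleLocally (fun U => ∀ V : U.Opens, IsAffineOpen V → CAlg.IsNagata ↑Γ(U, V)) X.obj := by
  obtain ⟨V, p, hpe, hps, hV⟩ := hY
  have hP : IsAlgSpace (pullback f.hom p) :=
    isAlgSpace_pullback Y.property.diag X.property (IsAlgSpace.yon_obj V)
      (IsPullback.of_hasPullback _ _)
  obtain ⟨T, c, hce, hcs⟩ := hP.atlas
  have hfe : RepWith @Etale (pullback.fst f.hom p) :=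
    MorphismProperty.of_isPullback (P := RepWith @Etale) (IsPullback.of_hasPullback f.hom p).flip hpe
  have hfs : RepWith @Surjective (pullback.fst f.hom p) :=
    MorphismProperty.of_isPullback (P := RepWith @Surjective)
      (IsPullback.of_hasPullback f.hom p).flip hps
  obtain ⟨t, ht⟩ := (yon S).map_surjective (c ≫ pullback.snd f.hom p)
  refine ⟨T, c ≫ pullback.fst f.hom p, (RepWith @Etale).comp_mem _ _ hce hfe,
    (RepWith @Surjective).comp_mem _ _ hcs hfs, ?_⟩
  have hlft : LocallyOfFiniteType t.left :=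
    hf (c ≫ pullback.fst f.hom p) p t ((RepWith @Etale).comp_mem _ _ hce hfe) hpe
      (by rw [Category.assoc, pullback.condition, ht, Category.assoc])
  -- a cover of `T.left` by affine opens with Nagata coordinate rings
  have key : ∀ z : T.left, ∃ W : T.left.Opens, z ∈ W ∧ IsAffineOpen W ∧ CAlg.IsNagata Γ(T.left, W) := by
    intro z
    obtain ⟨V', hV'aff, hzV', -⟩ := Groth.Agent.H2.ProConsLib.exists_affine_nhd (t.left z) isOpen_univ
      (Set.mem_univ _)
    obtain ⟨W', hW'aff, hzW', hW'le⟩ := Groth.Agent.H2.ProConsLib.exists_affine_nhd z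
      (t.left ⁻¹ᵁ V').2 hzV'
    refine ⟨W', hzW', hW'aff, ?_⟩
    have e : W' ≤ t.left ⁻¹ᵁ V' := hW'le
    have hft := HasRingHomProperty.appLE (P := @LocallyOfFiniteType) t.left hlft
      ⟨V', hV'aff⟩ ⟨W', hW'aff⟩ e
    algebraize [(t.left.appLE V' W' e).hom]
    exact Groth.Agent.S0566.result Γ(V.left, V') (hV V' hV'aff) Γ(T.left, W')
  choose W hzW hWaff hWN using key
  intro V₀ hV₀
  refine Groth.Agent.S9833.result T.left W ?_ hWaff hWN V₀ hV₀
  rw [eq_top_iff]
  rintro z -
  simp only [TopologicalSpace.Opens.mem_iSup]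
  exact ⟨z, hzW z⟩

end Groth.Agent.S9978
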